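import Mathlib

/-! Pullback of `tilde M` along `Spec.map φ` is `tilde (S ⊗ M)`. -/

set_option autoImplicit false
universe u
open CategoryTheory AlgebraicGeometry Opposite TopologicalSpace

namespace Groth.Agent.Lib.Helper12.TildePullback

variable {R S : CommRingCat.{u}} (φ : R ⟶ S)

/-- Global sections of a pushforward along `Spec.map φ`: restriction of scalars. -/
noncomputable def pushforwardΓIso :
    Scheme.Modules.pushforward (Spec.map φ) ⋙ moduleSpecΓFunctor (R := R) ≅
      moduleSpecΓFunctor (R := S) ⋙ ModuleCat.restrictScalars φ.hom :=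
  (Functor.associator _ _ _).symm ≪≫
    Functor.isoWhiskerRight (pushforwardCompModulesSpecToSheafIso φ)
      (TopCat.Sheaf.forget _ _ ⋙ (evaluation _ _).obj (op ⊤)) ≪≫
    NatIso.ofComponents (fun M => Iso.refl _) (fun f => by
      simp only [Iso.refl_hom, Category.comp_id, Category.id_comp]
      rfl)

/-- The pullback of `tilde M` is `tilde (S ⊗ M)`. -/
noncomputable def tildePullbackIso :
    tilde.functor R ⋙ Scheme.Modules.pullback (Spec.map φ) ≅
      ModuleCat.extendScalars φ.hom ⋙ tilde.functor S :=
  let adj₁ : tilde.functor R ⋙ Scheme.Modules.pullback (Spec.map φ) ⊣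
      Scheme.Modules.pushforward (Spec.map φ) ⋙ moduleSpecΓFunctor (R := R) :=
    (tilde.adjunction (R := R)).comp (Scheme.Modules.pullbackPushforwardAdjunction (Spec.map φ))
  let adj₂ : ModuleCat.extendScalars φ.hom ⋙ tilde.functor S ⊣
      moduleSpecΓFunctor (R := S) ⋙ ModuleCat.restrictScalars φ.hom :=
    (ModuleCat.extendRestrictScalarsAdj φ.hom).comp (tilde.adjunction (R := S))
  (adj₁.ofNatIsoRight (pushforwardΓIso φ)).leftAdjointUniq adj₂

end Groth.Agent.Lib.Helper12.TildePullback
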