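import Mathlib

/-!
# Helper library (helper12): a locally constructible set containing all generizations of a point
is a neighbourhood of that point
-/

set_option autoImplicit false
universe u v
open AlgebraicGeometry CategoryTheory TopologicalSpace Topology

namespace Groth.Agent.Lib.Helper12.ConstrNhds

/-- A point in the closure of a constructible subset of a prime spectrum is a specialization of
a point of that subset. -/
theorem exists_specializes_of_mem_closure_of_isConstructible {R : Type u} [CommRing R]
    (s : Set (PrimeSpectrum R)) (hs : IsConstructible s) (p : PrimeSpectrum R)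
    (hp : p ∈ closure s) : ∃ q ∈ s, q ⤳ p := by
  obtain ⟨S, _, ψ, rfl⟩ := PrimeSpectrum.exists_range_eq_of_isConstructible hs
  rw [PrimeSpectrum.closure_range_comap, PrimeSpectrum.mem_zeroLocus] at hp
  have hp' : RingHom.ker ψ ≤ p.asIdeal := by
    intro a ha
    exact hp ha
  obtain ⟨q, hq, hqp⟩ := Ideal.exists_minimalPrimes_le hp'
  have hq' : q ∈ ((⊥ : Ideal S).comap ψ).minimalPrimes := by
    rwa [← RingHom.ker_eq_comap_bot]
  obtain ⟨q', hq'prime, -, hq'eq⟩ := Ideal.exists_comap_eq_of_mem_minimalPrimes ψ q hq'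
  refine ⟨PrimeSpectrum.comap ψ ⟨q', hq'prime⟩, ⟨_, rfl⟩, ?_⟩
  rw [← PrimeSpectrum.le_iff_specializes]
  show (PrimeSpectrum.comap ψ ⟨q', hq'prime⟩).asIdeal ≤ p.asIdeal
  rw [PrimeSpectrum.comap_asIdeal, hq'eq]
  exact hqp

/-- A constructible subset of a prime spectrum containing all generizations of a point is a
neighbourhood of that point. -/
theorem mem_nhds_of_isConstructible {R : Type u} [CommRing R]
    (s : Set (PrimeSpectrum R)) (hs : IsConstructible s) (p : PrimeSpectrum R)
    (h : ∀ q : PrimeSpectrum R, q ⤳ p → q ∈ s) : s ∈ nhds p := by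
  rw [mem_nhds_iff]
  refine ⟨(closure sᶜ)ᶜ, ?_, isClosed_closure.isOpen_compl, ?_⟩
  · intro x hx
    by_contra hxs
    exact hx (subset_closure hxs)
  · intro hp
    obtain ⟨q, hq, hqp⟩ := exists_specializes_of_mem_closure_of_isConstructible sᶜ hs.compl p hp
    exact hq (h q hqp)

theorem isLocallyConstructible_compl {α : Type*} [TopologicalSpace α] {s : Set α}
    (hs : IsLocallyConstructible s) : IsLocallyConstructible sᶜ := by
  intro x
  obtain ⟨U, hU, hUo, hc⟩ := hs x
  exact ⟨U, hU, hUo, hc.compl⟩

/-- A locally constructible subset of a scheme containing all generizations of a point is a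
neighbourhood of that point. -/
theorem mem_nhds_of_isLocallyConstructible {Y : Scheme.{u}} (E : Set Y)
    (hE : IsLocallyConstructible E) (y : Y) (h : ∀ z : Y, z ⤳ y → z ∈ E) : E ∈ nhds y := by
  obtain ⟨_, ⟨W, hW, rfl⟩, hyW, -⟩ := Y.isBasis_affineOpens.exists_subset_of_mem_open
    (Set.mem_univ y) isOpen_univ
  have hemb : Topology.IsOpenEmbedding hW.fromSpec := hW.fromSpec.isOpenEmbedding
  have hrange : Set.range hW.fromSpec = (W : Set Y) := hW.range_fromSpec
  obtain ⟨p, hp⟩ : y ∈ Set.range hW.fromSpec := by rw [hrange]; exact hyW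
  have hE' : IsLocallyConstructible (hW.fromSpec ⁻¹' E) := hE.preimage_of_isOpenEmbedding hemb
  have hE'' : IsConstructible (hW.fromSpec ⁻¹' E) := hE'.isConstructible
  have h1 : (hW.fromSpec ⁻¹' E) ∈ nhds p := by
    refine mem_nhds_of_isConstructible (R := Γ(Y, W)) _ hE'' p ?_
    intro q hq
    apply h
    rw [← hp]
    exact hq.map hW.fromSpec.continuous
  have h2 := hemb.image_mem_nhds.mpr h1
  rw [hp] at h2
  exact Filter.mem_of_superset h2 (Set.image_preimage_subset _ _)

end Groth.Agent.Lib.Helper12.ConstrNhds
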