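import Mathlib
import Groth.Agent.Lib.Helper12.IntegralDim

/-!
# Dimension theory of finitely generated domains over a field
-/

set_option autoImplicit false
universe u
open Cardinal

namespace Groth.Agent.Lib.Helper12.DimFT

/-- A finitely generated domain over a field: the Krull dimension equals the transcendence degree,
a natural number, realised by a Noether normalization. -/
theorem exists_dim_eq_trdeg (k R : Type u) [Field k] [CommRing R] [IsDomain R] [Algebra k R]
    [Algebra.FiniteType k R] :
    ∃ s : ℕ, ringKrullDim R = s ∧ Algebra.trdeg k R = s ∧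
      ∃ g : MvPolynomial (Fin s) k →ₐ[k] R, Function.Injective g ∧ g.IsIntegral := by
  obtain ⟨s, g, hinj, hint⟩ := exists_integral_inj_algHom_of_fg k R
  refine ⟨s, ?_, ?_, g, hinj, hint⟩
  all_goals
    letI : Algebra (MvPolynomial (Fin s) k) R := g.toRingHom.toAlgebra
    haveI : IsScalarTower k (MvPolynomial (Fin s) k) R :=
      IsScalarTower.of_algebraMap_eq (fun c => (g.commutes c).symm)
    haveI : Algebra.IsIntegral (MvPolynomial (Fin s) k) R := ⟨hint⟩
    have hinj' : Function.Injective (algebraMap (MvPolynomial (Fin s) k) R) := hinj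
    haveI : FaithfulSMul (MvPolynomial (Fin s) k) R :=
      (faithfulSMul_iff_algebraMap_injective _ _).2 hinj'
  · refine le_antisymm ?_ ?_
    · have := Groth.Agent.Lib.Helper12.ringKrullDim_le_of_isIntegral
        (R := MvPolynomial (Fin s) k) (S := R)
      rwa [Groth.Agent.Lib.Helper12.ringKrullDim_mvPolynomial_field] at this
    · have := Groth.Agent.Lib.Helper12.ringKrullDim_le_of_isIntegral_of_injective
        (R := MvPolynomial (Fin s) k) (S := R) hinj'
      rwa [Groth.Agent.Lib.Helper12.ringKrullDim_mvPolynomial_field] at this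
  · have h1 := trdeg_add_eq k (MvPolynomial (Fin s) k) (A := R)
    rw [trdeg_eq_zero (R := MvPolynomial (Fin s) k) (A := R), add_zero,
      MvPolynomial.trdeg_of_isDomain] at h1
    rw [← h1]
    simp

section poly

variable {k : Type u} [Field k] {d : ℕ}

theorem degreeOf_eq_zero_of_notMem_vars {σ : Type*} (j : σ) (h : MvPolynomial σ k)
    (hj : j ∉ h.vars) : MvPolynomial.degreeOf j h = 0 := by
  classical
  rw [MvPolynomial.degreeOf_def, Multiset.count_eq_zero]
  intro hmem
  exact hj (by rw [MvPolynomial.vars_def, Multiset.mem_toFinset]; exact hmem)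

/-- If `f` involves the variable `j`, the other variables are algebraically independent
modulo `f`. -/
theorem algebraicIndependent_quotient (f : MvPolynomial (Fin d) k) (j : Fin d)
    (hj : 0 < MvPolynomial.degreeOf j f) :
    AlgebraicIndependent k (fun i : {i : Fin d // i ≠ j} =>
      (Ideal.Quotient.mk (Ideal.span {f}) (MvPolynomial.X i.1) :
        MvPolynomial (Fin d) k ⧸ Ideal.span {f})) := by
  classical
  rw [AlgebraicIndependent, injective_iff_map_eq_zero]
  intro Q hQ
  have hcomp : (MvPolynomial.aeval (fun i : {i : Fin d // i ≠ j} =>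
      (Ideal.Quotient.mk (Ideal.span {f}) (MvPolynomial.X i.1) :
        MvPolynomial (Fin d) k ⧸ Ideal.span {f}))) =
      (Ideal.Quotient.mkₐ k (Ideal.span {f})).comp (MvPolynomial.rename Subtype.val) := by
    apply MvPolynomial.algHom_ext
    intro i
    simp
  rw [hcomp] at hQ
  have hmem : MvPolynomial.rename Subtype.val Q ∈ Ideal.span {f} := by
    rw [← Ideal.Quotient.eq_zero_iff_mem]
    exact hQ
  obtain ⟨g, hg⟩ := Ideal.mem_span_singleton'.mp hmem
  by_contra hQ0
  have hh0 : MvPolynomial.rename (Subtype.val : {i : Fin d // i ≠ j} → Fin d) Q ≠ 0 := by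
    intro h
    exact hQ0 ((MvPolynomial.rename_injective _ Subtype.val_injective)
      (by rw [h, map_zero]))
  have hg0 : g ≠ 0 := by
    rintro rfl
    rw [zero_mul] at hg
    exact hh0 hg.symm
  have hf0 : f ≠ 0 := by
    rintro rfl
    rw [mul_zero] at hg
    exact hh0 hg.symm
  have hdeg : MvPolynomial.degreeOf j (MvPolynomial.rename Subtype.val Q) = 0 := by
    apply degreeOf_eq_zero_of_notMem_vars
    intro hmem
    have := MvPolynomial.vars_rename (Subtype.val : {i : Fin d // i ≠ j} → Fin d) Q hmem
    rw [Finset.mem_image] at this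
    obtain ⟨i, -, hi⟩ := this
    exact i.2 hi
  rw [← hg, MvPolynomial.degreeOf_mul_eq hg0 hf0] at hdeg
  omega

theorem exists_degreeOf_pos (f : MvPolynomial (Fin d) k) (hfu : ¬ IsUnit f) (hf0 : f ≠ 0) :
    ∃ j, 0 < MvPolynomial.degreeOf j f := by
  by_contra hcon
  push Not at hcon
  have h0 : ∀ j, MvPolynomial.degreeOf j f = 0 := fun j => Nat.le_zero.mp (hcon j)
  have htd : f.totalDegree = 0 := by
    rw [MvPolynomial.totalDegree, ← Nat.le_zero, Finset.sup_le_iff]
    intro m hm
    have hm0 : m = 0 := by
      ext j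
      have := (MvPolynomial.degreeOf_le_iff (n := j) (f := f) (d := 0)).mp (h0 j).le m hm
      simpa using this
    rw [hm0]
    simp
  rw [MvPolynomial.totalDegree_eq_zero_iff_eq_C] at htd
  have hc : f.coeff 0 ≠ 0 := by
    intro h
    rw [h, map_zero] at htd
    exact hf0 htd
  apply hfu
  rw [htd]
  exact (isUnit_iff_ne_zero.mpr hc).map MvPolynomial.C

/-- The quotient of a polynomial ring in `d` variables over a field by a prime element has
dimension `d - 1`. -/
theorem ringKrullDim_quotient_prime_elem (f : MvPolynomial (Fin d) k) (hf : Prime f) :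
    ringKrullDim (MvPolynomial (Fin d) k ⧸ Ideal.span {f}) + 1 = d := by
  classical
  have hf0 : f ≠ 0 := hf.ne_zero
  haveI : (Ideal.span {f}).IsPrime := (Ideal.span_singleton_prime hf0).mpr hf
  apply le_antisymm
  · have h := ringKrullDim_quotient_succ_le_of_nonZeroDivisor
      (mem_nonZeroDivisors_of_ne_zero hf0)
    rwa [Groth.Agent.Lib.Helper12.ringKrullDim_mvPolynomial_field] at h
  · obtain ⟨j, hj⟩ := exists_degreeOf_pos f hf.not_unit hf0
    obtain ⟨s, hs, htr, -⟩ := exists_dim_eq_trdeg k (MvPolynomial (Fin d) k ⧸ Ideal.span {f})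
    have hind := algebraicIndependent_quotient f j hj
    have hcard := hind.lift_cardinalMk_le_trdeg
    rw [htr] at hcard
    have hc : Cardinal.mk {i : Fin d // i ≠ j} = ((d - 1 : ℕ) : Cardinal) := by
      rw [Cardinal.mk_fintype]
      congr 1
      rw [Fintype.card_subtype_compl, Fintype.card_fin]
      simp
    rw [hc] at hcard
    have hle : d - 1 ≤ s := by
      have := hcard
      simp only [Cardinal.lift_natCast] at this
      exact_mod_cast this
    rw [hs]
    have hd : d ≤ s + 1 := by omega
    exact_mod_cast hd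

/-- Height one primes of a polynomial ring over a field. -/
theorem ringKrullDim_quotient_of_covBy_bot_poly (q : Ideal (MvPolynomial (Fin d) k)) [hq : q.IsPrime]
    (hq0 : q ≠ ⊥)
    (hmin : ∀ q' : Ideal (MvPolynomial (Fin d) k), q'.IsPrime → q' ≤ q → q' = ⊥ ∨ q' = q) :
    ringKrullDim (MvPolynomial (Fin d) k ⧸ q) + 1 = d := by
  obtain ⟨f, hfq, hf⟩ := Ideal.IsPrime.exists_mem_prime_of_ne_bot hq hq0
  have hprime : (Ideal.span {f}).IsPrime := (Ideal.span_singleton_prime hf.ne_zero).mpr hf
  have hle : Ideal.span {f} ≤ q := (Ideal.span_singleton_le_iff_mem _).mpr hfq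
  rcases hmin _ hprime hle with h | h
  · exfalso; exact hf.ne_zero (Ideal.span_singleton_eq_bot.mp h)
  · rw [← h]; exact ringKrullDim_quotient_prime_elem f hf

end poly

/-- In a finitely generated domain over a field, the quotient by a minimal nonzero prime has
dimension one less. -/
theorem ringKrullDim_quotient_of_covBy_bot (k A : Type u) [Field k] [CommRing A] [IsDomain A]
    [Algebra k A] [Algebra.FiniteType k A] (p : Ideal A) [hp : p.IsPrime] (hp0 : p ≠ ⊥)
    (hmin : ∀ p' : Ideal A, p'.IsPrime → p' ≤ p → p' = ⊥ ∨ p' = p) :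
    ringKrullDim (A ⧸ p) + 1 = ringKrullDim A := by
  obtain ⟨d, hd, -, g, hinj, hint⟩ := exists_dim_eq_trdeg k A
  letI : Algebra (MvPolynomial (Fin d) k) A := g.toRingHom.toAlgebra
  haveI : Algebra.IsIntegral (MvPolynomial (Fin d) k) A := ⟨hint⟩
  have hinj' : Function.Injective (algebraMap (MvPolynomial (Fin d) k) A) := hinj
  haveI : FaithfulSMul (MvPolynomial (Fin d) k) A :=
    (faithfulSMul_iff_algebraMap_injective _ _).2 hinj'
  haveI : Algebra.HasGoingDown (MvPolynomial (Fin d) k) A := inferInstance
  let q : Ideal (MvPolynomial (Fin d) k) := p.comap (algebraMap (MvPolynomial (Fin d) k) A)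
  haveI hqp : q.IsPrime := Ideal.comap_isPrime _ p
  haveI : p.LiesOver q := ⟨rfl⟩
  have hq0 : q ≠ ⊥ := fun h => hp0 (Ideal.eq_bot_of_comap_eq_bot h)
  have hqmin : ∀ q' : Ideal (MvPolynomial (Fin d) k), q'.IsPrime → q' ≤ q → q' = ⊥ ∨ q' = q := by
    intro q' hq' hle
    by_contra hcon
    push Not at hcon
    have hlt : q' < q := lt_of_le_of_ne hle hcon.2
    obtain ⟨p', hp'lt, hp'prime, hp'over⟩ := Ideal.exists_ideal_lt_liesOver_of_lt (p := q') (q := q) p hlt
    rcases hmin p' hp'prime hp'lt.le with h | h
    · apply hcon.1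
      rw [hp'over.over, h]
      exact (RingHom.injective_iff_ker_eq_bot _).mp hinj'
    · exact hp'lt.ne h
  have h1 := ringKrullDim_quotient_of_covBy_bot_poly q hq0 hqmin
  have h2 : ringKrullDim (A ⧸ p) = ringKrullDim (MvPolynomial (Fin d) k ⧸ q) := by
    apply le_antisymm
    · exact Groth.Agent.Lib.Helper12.ringKrullDim_le_of_isIntegral
        (R := MvPolynomial (Fin d) k ⧸ q) (S := A ⧸ p)
    · exact Groth.Agent.Lib.Helper12.ringKrullDim_le_of_isIntegral_of_injective
        (R := MvPolynomial (Fin d) k ⧸ q) (S := A ⧸ p) Ideal.algebraMap_quotient_injective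
  rw [h2, h1, hd]

theorem ringKrullDim_quotient_eq_coheight {A : Type u} [CommRing A] (p : PrimeSpectrum A) :
    ringKrullDim (A ⧸ p.asIdeal) = (Order.coheight p : WithBot ℕ∞) := by
  rw [Order.coheight_eq_krullDim_Ici, ringKrullDim,
    Order.krullDim_eq_of_orderIso (Ideal.primeSpectrumQuotientOrderIsoZeroLocus p.asIdeal)]
  have : (PrimeSpectrum.zeroLocus (p.asIdeal : Set A)) = Set.Ici p := by
    ext q
    simp only [PrimeSpectrum.mem_zeroLocus, SetLike.coe_subset_coe, Set.mem_Ici]
    rfl
  rw [this]

section chains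

/-- In a finitely generated algebra over a field, the coheight drops by exactly one along a
covering relation of primes. -/
theorem coheight_eq_add_one_of_covBy (k A : Type u) [Field k] [CommRing A] [Algebra k A]
    [Algebra.FiniteType k A] {x y : PrimeSpectrum A} (hxy : x ⋖ y) :
    (Order.coheight x : WithBot ℕ∞) = Order.coheight y + 1 := by
  have hle : x.asIdeal ≤ y.asIdeal := hxy.lt.le
  let B := A ⧸ x.asIdeal
  let p : Ideal B := y.asIdeal.map (Ideal.Quotient.mk x.asIdeal)
  have hsurj : Function.Surjective (Ideal.Quotient.mk x.asIdeal) := Ideal.Quotient.mk_surjective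
  have hcomap : p.comap (Ideal.Quotient.mk x.asIdeal) = y.asIdeal := by
    rw [Ideal.comap_map_of_surjective _ hsurj, ← RingHom.ker_eq_comap_bot, Ideal.mk_ker]
    exact sup_eq_left.mpr hle
  haveI hp : p.IsPrime := by
    apply Ideal.map_isPrime_of_surjective hsurj
    rw [Ideal.mk_ker]; exact hle
  have hp0 : p ≠ ⊥ := by
    intro h
    have h1 : y.asIdeal = x.asIdeal := by
      rw [← hcomap, h, ← RingHom.ker_eq_comap_bot, Ideal.mk_ker]
    exact hxy.lt.ne (PrimeSpectrum.ext h1.symm)
  have hmin : ∀ p' : Ideal B, p'.IsPrime → p' ≤ p → p' = ⊥ ∨ p' = p := by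
    intro p' hp' hle'
    let z : PrimeSpectrum A := ⟨p'.comap (Ideal.Quotient.mk x.asIdeal), Ideal.comap_isPrime _ _⟩
    have hxz : x ≤ z := by
      intro a ha
      change Ideal.Quotient.mk x.asIdeal a ∈ p'
      rw [Ideal.Quotient.eq_zero_iff_mem.mpr ha]
      exact zero_mem _
    have hzy : z ≤ y := by
      intro a ha
      have : a ∈ p.comap (Ideal.Quotient.mk x.asIdeal) := hle' ha
      rwa [hcomap] at this
    have hmc : p' = z.asIdeal.map (Ideal.Quotient.mk x.asIdeal) :=
      (Ideal.map_comap_of_surjective _ hsurj p').symm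
    rcases eq_or_lt_of_le hxz with h | h
    · left
      rw [hmc, ← h]
      rw [Ideal.map_eq_bot_iff_le_ker, Ideal.mk_ker]
    · right
      have hzy' : z = y := by
        by_contra hne
        exact hxy.2 h (lt_of_le_of_ne hzy hne)
      rw [hmc, hzy']
  have key := ringKrullDim_quotient_of_covBy_bot k B p hp0 hmin
  have e : (B ⧸ p) ≃+* (A ⧸ y.asIdeal) := DoubleQuot.quotQuotEquivQuotOfLE hle
  rw [ringKrullDim_eq_of_ringEquiv e, ringKrullDim_quotient_eq_coheight,
    ringKrullDim_quotient_eq_coheight] at key
  exact key.symm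

/-- A saturated chain of primes ending at a maximal ideal has length the coheight of its head. -/
theorem coheight_head_eq_length (k A : Type u) [Field k] [CommRing A] [Algebra k A]
    [Algebra.FiniteType k A] (c : LTSeries (PrimeSpectrum A))
    (hmax : c.last.asIdeal.IsMaximal)
    (hsat : ∀ i : Fin c.length, c i.castSucc ⋖ c i.succ) :
    (Order.coheight c.head : WithBot ℕ∞) = (c.length : WithBot ℕ∞) := by
  have key : ∀ i : Fin (c.length + 1),
      (Order.coheight (c i) : WithBot ℕ∞) = ((c.length - i.1 : ℕ) : WithBot ℕ∞) := by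
    intro i
    induction i using Fin.reverseInduction with
    | last =>
      have h0 : Order.coheight (c (Fin.last c.length)) = 0 := by
        rw [Order.coheight_eq_zero]
        intro z hz
        have h1 : c.last.asIdeal ≤ z.asIdeal := hz
        have h2 : z.asIdeal = c.last.asIdeal := (hmax.eq_of_le z.2.ne_top h1).symm
        exact le_of_eq (PrimeSpectrum.ext h2)
      rw [h0]
      simp
    | cast i ih =>
      rw [coheight_eq_add_one_of_covBy k A (hsat i), ih]
      have h1 : c.length - (i.castSucc : Fin (c.length + 1)).1 = (c.length - i.succ.1) + 1 := by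
        simp only [Fin.val_castSucc, Fin.val_succ]
        have := i.2
        omega
      rw [h1]
      push_cast
      rfl
  have := key 0
  simpa [RelSeries.head] using this

end chains

/-- Every saturated chain of primes from `⊥` to a maximal ideal in a finitely generated domain
over a field has length the Krull dimension. -/
theorem length_eq_ringKrullDim (k A : Type u) [Field k] [CommRing A]
    [IsDomain A] [Algebra k A] [Algebra.FiniteType k A] (c : LTSeries (PrimeSpectrum A))
    (h0 : c.head.asIdeal = ⊥) (hmax : c.last.asIdeal.IsMaximal)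
    (hsat : ∀ i : Fin c.length, c i.castSucc ⋖ c i.succ) :
    (c.length : WithBot ℕ∞) = ringKrullDim A := by
  rw [← coheight_head_eq_length k A c hmax hsat, ← ringKrullDim_quotient_eq_coheight, h0]
  exact ringKrullDim_eq_of_ringEquiv (RingEquiv.quotientBot A)

/-- In a finitely generated domain over a field of dimension `d`, `height + coheight = d` for every
prime. -/
theorem height_add_coheight (k A : Type u) [Field k] [CommRing A]
    [IsDomain A] [Algebra k A] [Algebra.FiniteType k A] (d : ℕ) (hd : ringKrullDim A = d) :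
    ∀ (n : ℕ) (y : PrimeSpectrum A), Order.height y = n →
      (Order.height y : ℕ∞) + Order.coheight y = d := by
  intro n
  induction n with
  | zero =>
    intro y hy
    have hmin : IsMin y := Order.height_eq_zero.mp (by simpa using hy)
    have hy0 : y.asIdeal = ⊥ := by
      let b : PrimeSpectrum A := ⟨⊥, Ideal.isPrime_bot⟩
      have hb : b ≤ y := fun a ha => by
        have : a = 0 := ha
        rw [this]; exact zero_mem _
      have := hmin hb
      exact le_bot_iff.mp this
    have h1 : ringKrullDim (A ⧸ y.asIdeal) = d := by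
      rw [hy0, ringKrullDim_eq_of_ringEquiv (RingEquiv.quotientBot A), hd]
    rw [ringKrullDim_quotient_eq_coheight] at h1
    have h2 : (Order.coheight y : ℕ∞) = d := by exact_mod_cast h1
    rw [hy, h2]
    simp
  | succ n ih =>
    intro y hy
    have hy' : Order.height y = (n : ℕ∞) + 1 := by rw [hy]; push_cast; rfl
    obtain ⟨-, ⟨x, hxy, hx⟩, hall⟩ := Order.height_eq_coe_add_one_iff.mp hy'
    have hcov : x ⋖ y := by
      refine ⟨hxy, ?_⟩
      intro z hxz hzy
      have h1 : Order.height x < Order.height z :=
        Order.height_strictMono hxz (by rw [hx]; exact ENat.coe_lt_top n)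
      have h2 := hall z hzy
      rw [hx] at h1
      exact absurd (lt_of_lt_of_le h1 h2) (lt_irrefl _)
    have hco := coheight_eq_add_one_of_covBy k A hcov
    have hco' : (Order.coheight x : ℕ∞) = Order.coheight y + 1 := by exact_mod_cast hco
    have hx' := ih x hx
    rw [hx, hco'] at hx'
    rw [hy']
    rw [← hx']
    ring

/-- All maximal ideals of a finitely generated domain over a field have height the dimension. -/
theorem height_eq_of_isMaximal (k A : Type u) [Field k] [CommRing A]
    [IsDomain A] [Algebra k A] [Algebra.FiniteType k A] (d : ℕ) (hd : ringKrullDim A = d)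
    (m : Ideal A) [hm : m.IsMaximal] : m.height = d := by
  let y : PrimeSpectrum A := ⟨m, hm.isPrime⟩
  have hfin : Order.height y < ⊤ := by
    have h1 := Order.height_le_krullDim y
    have h2 : Order.krullDim (PrimeSpectrum A) = d := hd
    rw [h2] at h1
    have h3 : (Order.height y : ℕ∞) ≤ d := by exact_mod_cast h1
    exact lt_of_le_of_lt h3 (ENat.coe_lt_top d)
  obtain ⟨n, hn⟩ := ENat.ne_top_iff_exists.mp hfin.ne
  have key := height_add_coheight k A d hd n y hn.symm
  have hco : Order.coheight y = 0 := by
    rw [Order.coheight_eq_zero]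
    intro z hz
    have h1 : m ≤ z.asIdeal := hz
    have h2 : z.asIdeal = m := (hm.eq_of_le z.2.ne_top h1).symm
    exact le_of_eq (PrimeSpectrum.ext h2)
  rw [hco, add_zero] at key
  have := PrimeSpectrum.height_eq_orderHeight y
  rw [key] at this
  exact this

end Groth.Agent.Lib.Helper12.DimFT
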