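import Mathlib
import Groth.Agent.Lib.Helper12.DimFT
import Groth.Agent.Lib.Helper12.IntegralDim
import Groth.Agent.Lib.Helper9.TopDim

/-!
# Helper library (helper12): dimension theory of finite type algebras over a field, part 2

* transcendence degree of residue fields = coheight;
* `height + coheight` in equidimensional finite type algebras;
* local dimension of `Spec` of a finite type algebra;
* equidimensionality of base change along a field extension.
-/

set_option autoImplicit false

universe u

open TensorProduct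

namespace Groth.Agent.Lib.Helper12.DimFT2

open Groth.Agent.Lib.Helper12

/-- The length of a chain of primes is bounded by the coheight of its head. -/
theorem ringKrullDim_le_of_minimalPrimes {B : Type*} [CommRing B] (c : WithBot ℕ∞)
    (h : ∀ P ∈ minimalPrimes B, ∀ _ : P.IsPrime, ringKrullDim (B ⧸ P) ≤ c) : ringKrullDim B ≤ c := by
  unfold ringKrullDim Order.krullDim
  refine iSup_le fun l => ?_
  obtain ⟨P, hP, hPle⟩ := Ideal.exists_minimalPrimes_le (I := (⊥ : Ideal B))
    (J := l.head.asIdeal) bot_le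
  have hPp : P.IsPrime := hP.1.1
  have h1 : (l.length : ℕ∞) ≤ Order.coheight l.head := Order.length_le_coheight_head
  have h2 : Order.coheight l.head ≤ Order.coheight (⟨P, hPp⟩ : PrimeSpectrum B) :=
    Order.coheight_anti (show (⟨P, hPp⟩ : PrimeSpectrum B) ≤ l.head from hPle)
  have h3 := DimFT.ringKrullDim_quotient_eq_coheight (⟨P, hPp⟩ : PrimeSpectrum B)
  calc (l.length : WithBot ℕ∞) ≤ (Order.coheight (⟨P, hPp⟩ : PrimeSpectrum B) : WithBot ℕ∞) := by
        exact_mod_cast h1.trans h2
    _ = ringKrullDim (B ⧸ P) := h3.symm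
    _ ≤ c := h P hP hPp

/-- In a finite type domain over a field, `height + coheight = dim` for every prime. -/
theorem height_add_coheight' (k A : Type u) [Field k] [CommRing A] [IsDomain A] [Algebra k A]
    [Algebra.FiniteType k A] (d : ℕ) (hd : ringKrullDim A = d) (y : PrimeSpectrum A) :
    (Order.height y : ℕ∞) + Order.coheight y = d := by
  have h1 := Order.height_le_krullDim y
  have h2 : Order.krullDim (PrimeSpectrum A) = d := hd
  rw [h2] at h1
  have h3 : Order.height y ≤ (d : ℕ∞) := by exact_mod_cast h1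
  obtain ⟨n, hn⟩ := ENat.ne_top_iff_exists.mp (ne_top_of_le_ne_top (ENat.coe_ne_top d) h3)
  exact DimFT.height_add_coheight k A d hd n y hn.symm

/-- Equidimensional finite type algebra over a field: `height + coheight = r` for every prime. -/
theorem height_add_coheight_of_equidim (k B : Type u) [Field k] [CommRing B] [Algebra k B]
    [Algebra.FiniteType k B] (r : ℕ)
    (h : ∀ P ∈ minimalPrimes B, ∀ _ : P.IsPrime, ringKrullDim (B ⧸ P) = r) (Q : PrimeSpectrum B) :
    (Order.height Q : ℕ∞) + Order.coheight Q = r := by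
  apply le_antisymm
  · have hdim : ringKrullDim B ≤ r :=
      ringKrullDim_le_of_minimalPrimes _ fun P hP hPp => (h P hP hPp).le
    have h1 : Order.krullDim (PrimeSpectrum B) =
        ↑(⨆ a : PrimeSpectrum B, Order.height a + Order.coheight a) :=
      haveI : Nonempty (PrimeSpectrum B) := ⟨Q⟩
      Order.krullDim_eq_iSup_height_add_coheight_of_nonempty
    have h2 : Order.height Q + Order.coheight Q ≤
        ⨆ a : PrimeSpectrum B, Order.height a + Order.coheight a :=
      le_iSup (fun a : PrimeSpectrum B => Order.height a + Order.coheight a) Q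
    have h3 : ((Order.height Q + Order.coheight Q : ℕ∞) : WithBot ℕ∞) ≤ (r : ℕ∞) := by
      calc ((Order.height Q + Order.coheight Q : ℕ∞) : WithBot ℕ∞)
          ≤ ↑(⨆ a : PrimeSpectrum B, Order.height a + Order.coheight a) := by exact_mod_cast h2
        _ = ringKrullDim B := h1.symm
        _ ≤ r := hdim
    exact_mod_cast h3
  · obtain ⟨P, hP, hPle⟩ := Ideal.exists_minimalPrimes_le (I := (⊥ : Ideal B))
      (J := Q.asIdeal) bot_le
    haveI hPp : P.IsPrime := hP.1.1
    have hsurj : Function.Surjective (Ideal.Quotient.mk P) := Ideal.Quotient.mk_surjective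
    haveI : Algebra.FiniteType k (B ⧸ P) :=
      Algebra.FiniteType.of_surjective (Ideal.Quotient.mkₐ k P) hsurj
    haveI : (Q.asIdeal.map (Ideal.Quotient.mk P)).IsPrime :=
      Ideal.map_isPrime_of_surjective hsurj (by rwa [Ideal.mk_ker])
    let y : PrimeSpectrum (B ⧸ P) := ⟨Q.asIdeal.map (Ideal.Quotient.mk P), inferInstance⟩
    have hy : PrimeSpectrum.comap (Ideal.Quotient.mk P) y = Q := by
      ext1
      change (Q.asIdeal.map (Ideal.Quotient.mk P)).comap (Ideal.Quotient.mk P) = Q.asIdeal
      rw [Ideal.comap_map_of_surjective _ hsurj, ← RingHom.ker_eq_comap_bot, Ideal.mk_ker,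
        sup_eq_left.mpr hPle]
    have hmono := RingHom.strictMono_comap_of_surjective hsurj
    have h1 := Order.height_le_height_apply_of_strictMono _ hmono y
    have h2 := Order.coheight_le_coheight_apply_of_strictMono _ hmono y
    rw [hy] at h1 h2
    rw [← height_add_coheight' k (B ⧸ P) r (h P hP hPp) y]
    exact add_le_add h1 h2

/-- Transcendence degree of the residue field at a prime of a finite type algebra over a field
equals the dimension of the quotient, equals the coheight. -/
theorem exists_trdeg_residueField (k S : Type u) [Field k] [CommRing S] [Algebra k S]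
    [Algebra.FiniteType k S] (q : Ideal S) [q.IsPrime] :
    ∃ n : ℕ, Algebra.trdeg k q.ResidueField = n ∧ ringKrullDim (S ⧸ q) = n ∧
      Order.coheight (⟨q, inferInstance⟩ : PrimeSpectrum S) = n := by
  haveI : Algebra.FiniteType k (S ⧸ q) :=
    Algebra.FiniteType.of_surjective (Ideal.Quotient.mkₐ k q) Ideal.Quotient.mk_surjective
  obtain ⟨s, hs, htr, -⟩ := DimFT.exists_dim_eq_trdeg k (S ⧸ q)
  refine ⟨s, ?_, hs, ?_⟩
  · haveI : Algebra.IsAlgebraic (S ⧸ q) q.ResidueField :=
      IsLocalization.isAlgebraic q.ResidueField (nonZeroDivisors (S ⧸ q))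
    have h1 := trdeg_add_eq k (S ⧸ q) (A := q.ResidueField)
    rw [trdeg_eq_zero (R := S ⧸ q) (A := q.ResidueField), add_zero] at h1
    rw [← h1, htr]
  · have h3 := DimFT.ringKrullDim_quotient_eq_coheight (⟨q, inferInstance⟩ : PrimeSpectrum S)
    have h4 : ((Order.coheight (⟨q, inferInstance⟩ : PrimeSpectrum S) : ℕ∞) : WithBot ℕ∞) =
        ((s : ℕ∞) : WithBot ℕ∞) := by
      rw [← h3]; exact hs
    exact_mod_cast h4


section TopDim

variable {S : Type u} [CommRing S]

/-- The irreducible closed subset `closure {x}` of a prime spectrum. -/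
def irrClosed (x : PrimeSpectrum S) : TopologicalSpace.IrreducibleCloseds (PrimeSpectrum S) :=
  ⟨closure ({x} : Set (PrimeSpectrum S)), isIrreducible_singleton.closure, isClosed_closure⟩

theorem irrClosed_lt {x y : PrimeSpectrum S} (h : x < y) : irrClosed y < irrClosed x := by
  have h1 : x ⤳ y := (PrimeSpectrum.le_iff_specializes x y).mp h.le
  refine lt_of_le_of_ne ?_ ?_
  · exact specializes_iff_closure_subset.mp h1
  · intro heq
    have h2 : closure ({y} : Set (PrimeSpectrum S)) = closure {x} :=
      congrArg TopologicalSpace.IrreducibleCloseds.carrier heq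
    have h3 : y ⤳ x := specializes_iff_closure_subset.mpr h2.ge
    exact absurd ((PrimeSpectrum.le_iff_specializes y x).mpr h3) (not_le_of_gt h)

/-- A chain of primes ending in an open set `U` bounds the dimension of `U` from below. -/
theorem length_le_topologicalKrullDim_of_last_mem (U : Set (PrimeSpectrum S)) (hU : IsOpen U)
    (l : LTSeries (PrimeSpectrum S)) (h : l.last ∈ U) :
    (l.length : WithBot ℕ∞) ≤ topologicalKrullDim U := by
  let p : LTSeries (TopologicalSpace.IrreducibleCloseds (PrimeSpectrum S)) :=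
    { length := l.length
      toFun := fun i => irrClosed (l i.rev)
      step := fun i => by
        have := l.step i.rev
        rw [← Fin.rev_succ, ← Fin.rev_castSucc] at this
        exact irrClosed_lt this }
  have := Groth.Agent.Lib.Helper9.length_le_topologicalKrullDim_of_isOpen hU p
    ⟨l.last, by
      change l.last ∈ closure ({l (Fin.rev 0)} : Set (PrimeSpectrum S))
      rw [Fin.rev_zero]
      exact subset_closure rfl, h⟩
  exact this

/-- Upper bound for the dimension of an open subset of a prime spectrum via chains of primes. -/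
theorem topologicalKrullDim_le_of_forall_chain (U : Set (PrimeSpectrum S)) (hU : IsOpen U)
    (c : WithBot ℕ∞)
    (h : ∀ l : LTSeries (PrimeSpectrum S), (∀ i, l i ∈ U) → (l.length : WithBot ℕ∞) ≤ c) :
    topologicalKrullDim U ≤ c := by
  haveI : QuasiSober U := hU.isOpenEmbedding_subtypeVal.quasiSober
  apply Groth.Agent.Lib.Helper9.topologicalKrullDim_le_of_forall
  intro Z
  -- generic points
  let z : Fin (Z.length + 1) → U := fun i => (Z i).isIrreducible.genericPoint
  have hz : ∀ i, closure ({z i} : Set U) = (Z i : Set U) := fun i => by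
    have := ((Z i).isIrreducible.isGenericPoint_genericPoint_closure).def
    rw [(Z i).isClosed.closure_eq] at this
    exact this
  have hstep : ∀ i : Fin Z.length, (z i.succ).1 < (z i.castSucc).1 := by
    intro i
    have hlt : Z i.castSucc < Z i.succ := Z.step i
    have hsub : (Z i.castSucc : Set U) ⊆ Z i.succ := SetLike.le_def.mp hlt.le
    have h1 : z i.succ ⤳ z i.castSucc := by
      rw [specializes_iff_closure_subset, hz, hz]; exact hsub
    have h2 : (z i.succ).1 ⤳ (z i.castSucc).1 := (subtype_specializes_iff _ _).mp h1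
    refine lt_of_le_of_ne ((PrimeSpectrum.le_iff_specializes _ _).mpr h2) ?_
    intro heq
    have heq' : z i.succ = z i.castSucc := Subtype.ext heq
    apply hlt.ne
    apply TopologicalSpace.IrreducibleCloseds.ext
    rw [← hz, ← hz, heq']
  let l : LTSeries (PrimeSpectrum S) :=
    { length := Z.length
      toFun := fun i => (z i.rev).1
      step := fun i => by
        have := hstep i.rev
        rw [← Fin.rev_succ, ← Fin.rev_castSucc] at this
        exact this }
  exact h l fun i => (z i.rev).2

end TopDim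

section LocalDim

/-- For primes `P ≤ Q` of a finite type algebra over a field, `dim B/P ≤ height Q + coheight Q`. -/
theorem ringKrullDim_quotient_le_height_add_coheight (k S : Type u) [Field k] [CommRing S]
    [Algebra k S] [Algebra.FiniteType k S] (P : Ideal S) [hPp : P.IsPrime]
    (Q : PrimeSpectrum S) (hPle : P ≤ Q.asIdeal) :
    ringKrullDim (S ⧸ P) ≤ ((Order.height Q + Order.coheight Q : ℕ∞) : WithBot ℕ∞) := by
  have hsurj : Function.Surjective (Ideal.Quotient.mk P) := Ideal.Quotient.mk_surjective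
  haveI : Algebra.FiniteType k (S ⧸ P) :=
    Algebra.FiniteType.of_surjective (Ideal.Quotient.mkₐ k P) hsurj
  obtain ⟨r, hr, -, -⟩ := DimFT.exists_dim_eq_trdeg k (S ⧸ P)
  haveI : (Q.asIdeal.map (Ideal.Quotient.mk P)).IsPrime :=
    Ideal.map_isPrime_of_surjective hsurj (by rwa [Ideal.mk_ker])
  let y : PrimeSpectrum (S ⧸ P) := ⟨Q.asIdeal.map (Ideal.Quotient.mk P), inferInstance⟩
  have hy : PrimeSpectrum.comap (Ideal.Quotient.mk P) y = Q := by
    ext1
    change (Q.asIdeal.map (Ideal.Quotient.mk P)).comap (Ideal.Quotient.mk P) = Q.asIdeal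
    rw [Ideal.comap_map_of_surjective _ hsurj, ← RingHom.ker_eq_comap_bot, Ideal.mk_ker,
      sup_eq_left.mpr hPle]
  have hmono := RingHom.strictMono_comap_of_surjective hsurj
  have h1 := Order.height_le_height_apply_of_strictMono _ hmono y
  have h2 := Order.coheight_le_coheight_apply_of_strictMono _ hmono y
  rw [hy] at h1 h2
  rw [hr]
  have h3 := height_add_coheight' k (S ⧸ P) r hr y
  have h4 : (r : ℕ∞) ≤ Order.height Q + Order.coheight Q := by
    rw [← h3]; exact add_le_add h1 h2
  exact_mod_cast h4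

/-- Every nonempty open subset of `V(p)` contains a closed point (Jacobson). -/
theorem exists_isMaximal_mem_of_mem_open (k S : Type u) [Field k] [CommRing S]
    [Algebra k S] [Algebra.FiniteType k S] (p : PrimeSpectrum S) (U : Set (PrimeSpectrum S))
    (hU : IsOpen U) (hp : p ∈ U) :
    ∃ m : PrimeSpectrum S, m.asIdeal.IsMaximal ∧ p ≤ m ∧ m ∈ U := by
  haveI : IsJacobsonRing S := isJacobsonRing_of_finiteType (A := k)
  obtain ⟨I, hI⟩ := (PrimeSpectrum.isClosed_iff_zeroLocus_ideal _).mp hU.isClosed_compl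
  by_contra hcon
  push Not at hcon
  have hle : (I : Ideal S) ≤ p.asIdeal := by
    have hjac : p.asIdeal.jacobson = p.asIdeal :=
      (‹IsJacobsonRing S›).out p.2.isRadical
    rw [← hjac, Ideal.jacobson]
    refine le_sInf fun m hm => ?_
    have hmU : (⟨m, hm.2.isPrime⟩ : PrimeSpectrum S) ∉ U := hcon ⟨m, hm.2.isPrime⟩ hm.2 hm.1
    have : (⟨m, hm.2.isPrime⟩ : PrimeSpectrum S) ∈ PrimeSpectrum.zeroLocus (I : Set S) := by
      rw [← hI]; exact hmU
    exact this
  have : p ∈ PrimeSpectrum.zeroLocus (I : Set S) := hle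
  rw [← hI] at this
  exact this hp

theorem add_le_topologicalKrullDim_of_mem (k S : Type u) [Field k] [CommRing S]
    [Algebra k S] [Algebra.FiniteType k S] (p : PrimeSpectrum S) (U : Set (PrimeSpectrum S))
    (hU : IsOpen U) (hp : p ∈ U) :
    ((Order.height p + Order.coheight p : ℕ∞) : WithBot ℕ∞) ≤ topologicalKrullDim U := by
  haveI : IsNoetherianRing S := Algebra.FiniteType.isNoetherianRing k S
  obtain ⟨c, -, hc1, hc⟩ := exists_trdeg_residueField k S p.asIdeal
  obtain ⟨l₁, hl₁last, hl₁len⟩ := p.asIdeal.exists_ltSeries_length_eq_height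
  obtain ⟨m, hm, hpm, hmU⟩ := exists_isMaximal_mem_of_mem_open k S p U hU hp
  have hsurj : Function.Surjective (Ideal.Quotient.mk p.asIdeal) := Ideal.Quotient.mk_surjective
  haveI : Algebra.FiniteType k (S ⧸ p.asIdeal) :=
    Algebra.FiniteType.of_surjective (Ideal.Quotient.mkₐ k p.asIdeal) hsurj
  haveI : IsNoetherianRing (S ⧸ p.asIdeal) := Algebra.FiniteType.isNoetherianRing k _
  haveI hm' : (m.asIdeal.map (Ideal.Quotient.mk p.asIdeal)).IsMaximal :=
    Ideal.IsMaximal.map_of_surjective_of_ker_le hsurj (by rw [Ideal.mk_ker]; exact hpm)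
  have hht := DimFT.height_eq_of_isMaximal k (S ⧸ p.asIdeal) c hc1
    (m.asIdeal.map (Ideal.Quotient.mk p.asIdeal))
  haveI := hm'.isPrime
  obtain ⟨l₂', hl₂last, hl₂len⟩ :=
    (m.asIdeal.map (Ideal.Quotient.mk p.asIdeal)).exists_ltSeries_length_eq_height
  rw [hht] at hl₂len
  -- head of l₂' is ⊥
  have hhead : l₂'.head.asIdeal = ⊥ := by
    by_contra hne
    have hlt : (⟨⊥, Ideal.isPrime_bot⟩ : PrimeSpectrum (S ⧸ p.asIdeal)) < l₂'.head :=
      lt_of_le_of_ne (show (⊥ : Ideal _) ≤ l₂'.head.asIdeal from bot_le)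
        (fun h => hne (by rw [← h]))
    have hlen := Order.LTSeries.length_le_krullDim (l₂'.cons _ hlt)
    have hdim : Order.krullDim (PrimeSpectrum (S ⧸ p.asIdeal)) = c := hc1
    rw [hdim, RelSeries.cons_length] at hlen
    have : ((l₂'.length + 1 : ℕ) : ℕ∞) ≤ c := by exact_mod_cast hlen
    have h5 : (l₂'.length : ℕ∞) = c := hl₂len
    rw [Nat.cast_add, h5] at this
    have h6 : (c : ℕ∞) + 1 ≤ c := this
    have h7 : (c + 1 : ℕ) ≤ c := by exact_mod_cast h6
    omega
  have hmono := RingHom.strictMono_comap_of_surjective hsurj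
  let l₂ : LTSeries (PrimeSpectrum S) := l₂'.map _ hmono
  have hl₂head : l₂.head = p := by
    rw [LTSeries.head_map]
    ext1
    change l₂'.head.asIdeal.comap (Ideal.Quotient.mk p.asIdeal) = p.asIdeal
    rw [hhead, ← RingHom.ker_eq_comap_bot, Ideal.mk_ker]
  have hl₂last' : l₂.last = m := by
    rw [LTSeries.last_map, hl₂last]
    ext1
    change (m.asIdeal.map (Ideal.Quotient.mk p.asIdeal)).comap (Ideal.Quotient.mk p.asIdeal) =
      m.asIdeal
    rw [Ideal.comap_map_of_surjective _ hsurj, ← RingHom.ker_eq_comap_bot, Ideal.mk_ker,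
      sup_eq_left.mpr hpm]
  let l : LTSeries (PrimeSpectrum S) := l₁.smash l₂ (by rw [hl₁last, hl₂head])
  have hlast : l.last = m := by
    rw [RelSeries.last_smash]; exact hl₂last'
  have hlen : l.length = l₁.length + l₂'.length := by
    rw [RelSeries.smash_length]; rfl
  have hfin := length_le_topologicalKrullDim_of_last_mem U hU l (by rw [hlast]; exact hmU)
  have hh : (Order.height p : ℕ∞) = l₁.length := by
    rw [← PrimeSpectrum.height_eq_orderHeight]; exact hl₁len.symm
  have hcc : (Order.coheight p : ℕ∞) = l₂'.length := hc.trans hl₂len.symm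
  rw [hh, hcc]
  calc ((((l₁.length : ℕ) : ℕ∞) + ((l₂'.length : ℕ) : ℕ∞) : ℕ∞) : WithBot ℕ∞)
      = ((l.length : ℕ) : WithBot ℕ∞) := by rw [hlen]; push_cast; rfl
    _ ≤ topologicalKrullDim U := hfin

/-- Local dimension of the spectrum of a finite type algebra over a field. -/
theorem localDim_primeSpectrum (k S : Type u) [Field k] [CommRing S]
    [Algebra k S] [Algebra.FiniteType k S] (p : PrimeSpectrum S) :
    FlatMor.localDim (PrimeSpectrum S) p =
      ((Order.height p + Order.coheight p : ℕ∞) : WithBot ℕ∞) := by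
  haveI : IsNoetherianRing S := Algebra.FiniteType.isNoetherianRing k S
  apply le_antisymm
  · -- exhibit an open neighbourhood
    let T : Set (Ideal S) := {P | P ∈ minimalPrimes S ∧ ¬ P ≤ p.asIdeal}
    have hTfin : T.Finite := (minimalPrimes.finite_of_isNoetherianRing S).subset fun P hP => hP.1
    let C : Set (PrimeSpectrum S) := ⋃ P ∈ T, PrimeSpectrum.zeroLocus (P : Set S)
    have hC : IsClosed C := hTfin.isClosed_biUnion fun P _ => PrimeSpectrum.isClosed_zeroLocus _
    have hpC : p ∉ C := by
      intro hmem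
      simp only [C, Set.mem_iUnion] at hmem
      obtain ⟨P, hP, hPp⟩ := hmem
      exact hP.2 hPp
    let U : TopologicalSpace.Opens (PrimeSpectrum S) := ⟨Cᶜ, hC.isOpen_compl⟩
    refine (Groth.Agent.Lib.Helper9.localDim_le_of_mem U (x := p) hpC).trans ?_
    apply topologicalKrullDim_le_of_forall_chain _ U.2
    intro l hl
    obtain ⟨P, hP, hPle⟩ := Ideal.exists_minimalPrimes_le (I := (⊥ : Ideal S))
      (J := l.head.asIdeal) bot_le
    haveI hPp : P.IsPrime := hP.1.1
    have hPp' : P ≤ p.asIdeal := by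
      by_contra hnot
      have : l.head ∈ C := by
        simp only [C, Set.mem_iUnion]
        exact ⟨P, ⟨hP, hnot⟩, hPle⟩
      exact hl 0 this
    have h1 : (l.length : ℕ∞) ≤ Order.coheight l.head := Order.length_le_coheight_head
    have h2 : Order.coheight l.head ≤ Order.coheight (⟨P, hPp⟩ : PrimeSpectrum S) :=
      Order.coheight_anti (show (⟨P, hPp⟩ : PrimeSpectrum S) ≤ l.head from hPle)
    have h3 := DimFT.ringKrullDim_quotient_eq_coheight (⟨P, hPp⟩ : PrimeSpectrum S)
    calc (l.length : WithBot ℕ∞)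
        ≤ (Order.coheight (⟨P, hPp⟩ : PrimeSpectrum S) : WithBot ℕ∞) := by
          exact_mod_cast h1.trans h2
      _ = ringKrullDim (S ⧸ P) := h3.symm
      _ ≤ _ := ringKrullDim_quotient_le_height_add_coheight k S P p hPp'
  · unfold FlatMor.localDim
    exact le_iInf fun U => add_le_topologicalKrullDim_of_mem k S p U.1 U.1.2 U.2

/-- `height p + coheight p` is the dimension of an irreducible component through `p`. -/
theorem exists_minimalPrimes_coheight_eq (k S : Type u) [Field k] [CommRing S]
    [Algebra k S] [Algebra.FiniteType k S] (p : PrimeSpectrum S) :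
    ∃ (P : Ideal S) (hP : P ∈ minimalPrimes S), P ≤ p.asIdeal ∧
      Order.height p + Order.coheight p =
        Order.coheight (⟨P, hP.1.1⟩ : PrimeSpectrum S) := by
  haveI : IsNoetherianRing S := Algebra.FiniteType.isNoetherianRing k S
  obtain ⟨c, -, -, hc⟩ := exists_trdeg_residueField k S p.asIdeal
  obtain ⟨l₁, hl₁last, hl₁len⟩ := p.asIdeal.exists_ltSeries_length_eq_height
  obtain ⟨l₂, hl₂head, hl₂len⟩ := Order.exists_series_of_coheight_eq_coe
    (⟨p.asIdeal, p.2⟩ : PrimeSpectrum S) hc
  obtain ⟨P, hP, hPle⟩ := Ideal.exists_minimalPrimes_le (I := (⊥ : Ideal S))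
    (J := l₁.head.asIdeal) bot_le
  have hPp : P ≤ p.asIdeal := hPle.trans (by
    have := l₁.head_le_last
    rw [hl₁last] at this
    exact this)
  refine ⟨P, hP, hPp, le_antisymm ?_ ?_⟩
  · let l : LTSeries (PrimeSpectrum S) := l₁.smash l₂ (by rw [hl₁last, hl₂head])
    have hlen : l.length = l₁.length + l₂.length := RelSeries.smash_length _ _ _
    have hhead : l.head = l₁.head := RelSeries.head_smash _
    have h1 : (l.length : ℕ∞) ≤ Order.coheight l.head := Order.length_le_coheight_head
    have h2 : Order.coheight l.head ≤ Order.coheight (⟨P, hP.1.1⟩ : PrimeSpectrum S) := by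
      rw [hhead]
      exact Order.coheight_anti (show (⟨P, hP.1.1⟩ : PrimeSpectrum S) ≤ l₁.head from hPle)
    have hh : (Order.height p : ℕ∞) = l₁.length := by
      rw [← PrimeSpectrum.height_eq_orderHeight]; exact hl₁len.symm
    have hcc : (Order.coheight p : ℕ∞) = l₂.length := hc.trans (by rw [hl₂len])
    rw [hh, hcc]
    calc ((l₁.length : ℕ∞) + (l₂.length : ℕ∞)) = (l.length : ℕ∞) := by rw [hlen]; push_cast; rfl
      _ ≤ _ := h1.trans h2
  · haveI := hP.1.1
    have h3 := DimFT.ringKrullDim_quotient_eq_coheight (⟨P, hP.1.1⟩ : PrimeSpectrum S)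
    have h4 := ringKrullDim_quotient_le_height_add_coheight k S P p hPp
    rw [h3] at h4
    exact_mod_cast h4

end LocalDim

section BaseChange

variable (k : Type u) [Field k]

theorem isIntegral_tensorMap {R₀ D K : Type u} [CommRing R₀] [CommRing D] [CommRing K]
    [Algebra k R₀] [Algebra k D] [Algebra k K] (g : R₀ →ₐ[k] D) (hint : g.IsIntegral) :
    (Algebra.TensorProduct.map g (AlgHom.id k K)).IsIntegral := by
  intro x
  induction x using TensorProduct.induction_on with
  | zero => exact RingHom.isIntegralElem_zero _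
  | add x y hx hy => exact RingHom.IsIntegralElem.add _ hx hy
  | tmul d κ =>
    have h1 : (Algebra.TensorProduct.map g (AlgHom.id k K)).toRingHom.IsIntegralElem
        (d ⊗ₜ[k] (1 : K)) := by
      have h0 := (hint d).map
        (Algebra.TensorProduct.includeLeft : D →ₐ[k] D ⊗[k] K).toRingHom
      have hcomp : (Algebra.TensorProduct.includeLeft : D →ₐ[k] D ⊗[k] K).toRingHom.comp
          g.toRingHom = (Algebra.TensorProduct.map g (AlgHom.id k K)).toRingHom.comp
            (Algebra.TensorProduct.includeLeft : R₀ →ₐ[k] R₀ ⊗[k] K).toRingHom := by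
        ext r; simp
      rw [hcomp] at h0
      exact h0.of_comp
    have h2 : (Algebra.TensorProduct.map g (AlgHom.id k K)).toRingHom.IsIntegralElem
        ((1 : D) ⊗ₜ[k] κ) := by
      have h0 := RingHom.isIntegralElem_map
        (f := (Algebra.TensorProduct.map g (AlgHom.id k K)).toRingHom) (x := (1 : R₀) ⊗ₜ[k] κ)
      simpa using h0
    have h3 := RingHom.IsIntegralElem.mul _ h1 h2
    simpa using h3

theorem tensorMap_mem_nonZeroDivisors {R₀ D K : Type u} [CommRing R₀] [IsDomain R₀] [CommRing D]
    [IsDomain D] [Field K] [Algebra k R₀] [Algebra k D] [Algebra k K] [IsDomain (R₀ ⊗[k] K)]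
    (g : R₀ →ₐ[k] D) (hinj : Function.Injective g) (c : R₀ ⊗[k] K) (hc : c ≠ 0) :
    Algebra.TensorProduct.map g (AlgHom.id k K) c ∈ nonZeroDivisors (D ⊗[k] K) := by
  letI : Algebra R₀ D := g.toRingHom.toAlgebra
  haveI : IsScalarTower k R₀ D := IsScalarTower.of_algebraMap_eq (fun x => (g.commutes x).symm)
  let L := FractionRing D
  haveI : FaithfulSMul R₀ L := (faithfulSMul_iff_algebraMap_injective R₀ L).mpr (by
    rw [IsScalarTower.algebraMap_eq R₀ D L]
    exact (IsFractionRing.injective D L).comp hinj)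
  letI := FractionRing.liftAlgebra R₀ L
  haveI : IsScalarTower R₀ (FractionRing R₀) L := FractionRing.isScalarTower_liftAlgebra R₀ L
  haveI : Module.Flat R₀ L := Module.Flat.trans R₀ (FractionRing R₀) L
  haveI : IsScalarTower k R₀ L := IsScalarTower.of_algebraMap_eq (fun x => by
    rw [IsScalarTower.algebraMap_apply k D L, IsScalarTower.algebraMap_apply R₀ D L,
      IsScalarTower.algebraMap_apply k R₀ D])
  let e := Algebra.TensorProduct.cancelBaseChange k R₀ R₀ L K
  let ι : D ⊗[k] K →ₐ[k] L ⊗[k] K :=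
    Algebra.TensorProduct.map (IsScalarTower.toAlgHom k D L) (AlgHom.id k K)
  have hι : Function.Injective ι := by
    have h0 : (ι : D ⊗[k] K → L ⊗[k] K) =
        LinearMap.rTensor K (IsScalarTower.toAlgHom k D L).toLinearMap := by
      ext x
      induction x using TensorProduct.induction_on with
      | zero => simp
      | tmul d κ => simp [ι]
      | add x y hx hy => simp only [map_add, hx, hy]
    rw [h0]
    exact Module.Flat.rTensor_preserves_injective_linearMap _ (IsFractionRing.injective D L)
  have he : ∀ c' : R₀ ⊗[k] K, e ((1 : L) ⊗ₜ[R₀] c') =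
      ι (Algebra.TensorProduct.map g (AlgHom.id k K) c') := by
    intro c'
    induction c' using TensorProduct.induction_on with
    | zero => simp
    | tmul a b =>
      simp only [e, ι, Algebra.TensorProduct.cancelBaseChange_tmul,
        Algebra.TensorProduct.map_tmul, AlgHom.coe_id, id_eq, IsScalarTower.coe_toAlgHom']
      rw [Algebra.smul_def, mul_one, IsScalarTower.algebraMap_apply R₀ D L]
      rfl
    | add x y hx hy => simp only [TensorProduct.tmul_add, map_add, hx, hy]
  have hmul : ∀ y : L ⊗[R₀] (R₀ ⊗[k] K), ((1 : L) ⊗ₜ[R₀] c) * y =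
      LinearMap.lTensor L (LinearMap.mulLeft R₀ c) y := by
    intro y
    induction y using TensorProduct.induction_on with
    | zero => simp
    | tmul l s => simp [Algebra.TensorProduct.tmul_mul_tmul]
    | add x y hx hy => simp only [mul_add, map_add, hx, hy]
  have hlinj : Function.Injective (LinearMap.lTensor L (LinearMap.mulLeft R₀ c)) :=
    Module.Flat.lTensor_preserves_injective_linearMap _ (mul_right_injective₀ hc)
  rw [mem_nonZeroDivisors_iff_left]
  intro x hx
  apply hι
  rw [map_zero]
  have h1 : e (((1 : L) ⊗ₜ[R₀] c) * e.symm (ι x)) = 0 := by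
    rw [map_mul, he, AlgEquiv.apply_symm_apply, ← map_mul, hx, map_zero]
  have h2 : ((1 : L) ⊗ₜ[R₀] c) * e.symm (ι x) = 0 := by
    apply e.injective; rw [h1, map_zero]
  rw [hmul] at h2
  have h3 : e.symm (ι x) = 0 := hlinj (by rw [h2, map_zero])
  have h4 := congrArg e h3
  rwa [AlgEquiv.apply_symm_apply, map_zero] at h4

/-- **Equidimensionality of base change**: for a finite type domain `D` over a field `k` and a field
extension `K/k`, every minimal prime `P` of `D ⊗[k] K` satisfies `dim (D ⊗[k] K)/P = dim D`. -/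
theorem ringKrullDim_quotient_minimalPrime_tensor (D K : Type u) [CommRing D] [IsDomain D]
    [Algebra k D] [Algebra.FiniteType k D] [Field K] [Algebra k K] (P : Ideal (D ⊗[k] K))
    (hP : P ∈ minimalPrimes (D ⊗[k] K)) :
    ringKrullDim ((D ⊗[k] K) ⧸ P) = ringKrullDim D := by
  obtain ⟨r, hr, -, g, hinj, hint⟩ := DimFT.exists_dim_eq_trdeg k D
  let e₁ : (MvPolynomial (Fin r) k) ⊗[k] K ≃+* MvPolynomial (Fin r) K :=
    ((Algebra.TensorProduct.comm k (MvPolynomial (Fin r) k) K).toRingEquiv).trans
      (MvPolynomial.algebraTensorAlgEquiv k K).toRingEquiv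
  haveI : IsDomain ((MvPolynomial (Fin r) k) ⊗[k] K) := e₁.toMulEquiv.isDomain _
  have hdim₁ : ringKrullDim ((MvPolynomial (Fin r) k) ⊗[k] K) = r :=
    (ringKrullDim_eq_of_ringEquiv e₁).trans (ringKrullDim_mvPolynomial_field K r)
  let φ := Algebra.TensorProduct.map g (AlgHom.id k K)
  have hφint : φ.IsIntegral := isIntegral_tensorMap k g hint
  haveI hPp : P.IsPrime := hP.1.1
  have hcomap : P.comap φ = ⊥ := by
    rw [eq_bot_iff]
    intro c hcmem
    by_contra hc
    have hnzd := tensorMap_mem_nonZeroDivisors k g hinj c hc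
    exact Set.disjoint_left.mp (Ideal.disjoint_nonZeroDivisors_of_mem_minimalPrimes hP)
      hcmem hnzd
  let ψ : (MvPolynomial (Fin r) k) ⊗[k] K →+* (D ⊗[k] K) ⧸ P :=
    (Ideal.Quotient.mk P).comp φ.toRingHom
  have hψinj : Function.Injective ψ := by
    rw [injective_iff_map_eq_zero]
    intro c hc0
    have : c ∈ P.comap φ := by
      rw [Ideal.mem_comap]
      exact Ideal.Quotient.eq_zero_iff_mem.mp hc0
    rw [hcomap] at this
    exact this
  have hψint : ψ.IsIntegral :=
    RingHom.IsIntegral.trans _ _ hφint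
      (RingHom.isIntegral_of_surjective _ Ideal.Quotient.mk_surjective)
  letI : Algebra ((MvPolynomial (Fin r) k) ⊗[k] K) ((D ⊗[k] K) ⧸ P) := ψ.toAlgebra
  haveI : Algebra.IsIntegral ((MvPolynomial (Fin r) k) ⊗[k] K) ((D ⊗[k] K) ⧸ P) := ⟨hψint⟩
  rw [hr, ← hdim₁]
  exact le_antisymm ringKrullDim_le_of_isIntegral
    (ringKrullDim_le_of_isIntegral_of_injective hψinj)

end BaseChange

section FibreDim

/-- The dimension of the local ring `B_Q / p B_Q` of the fibre over `p = Q ∩ A` at `Q` is the
height of the image of `Q` in `B / pB`. -/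
theorem ringKrullDim_fibLocRing {A : Type*} {B : Type*} [CommRing A] [CommRing B] [Algebra A B]
    (Q : Ideal B) [Q.IsPrime] :
    ringKrullDim (Localization.AtPrime Q ⧸
      (Q.comap (algebraMap A B)).map (algebraMap A (Localization.AtPrime Q))) =
      ((Q.map (Ideal.Quotient.mk ((Q.comap (algebraMap A B)).map (algebraMap A B)))).height :
        WithBot ℕ∞) := by
  set p := Q.comap (algebraMap A B) with hp
  set I := p.map (algebraMap A B) with hI
  have hIQ : I ≤ Q := Ideal.map_le_iff_le_comap.mpr le_rfl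
  have hsurj : Function.Surjective (Ideal.Quotient.mk I) := Ideal.Quotient.mk_surjective
  haveI hQ' : (Q.map (Ideal.Quotient.mk I)).IsPrime :=
    Ideal.map_isPrime_of_surjective hsurj (by rwa [Ideal.mk_ker])
  have hcomap : (Q.map (Ideal.Quotient.mk I)).comap (Ideal.Quotient.mk I) = Q := by
    rw [Ideal.comap_map_of_surjective _ hsurj, ← RingHom.ker_eq_comap_bot, Ideal.mk_ker,
      sup_eq_left.mpr hIQ]
  have hsub : Algebra.algebraMapSubmonoid (B ⧸ I) Q.primeCompl =
      (Q.map (Ideal.Quotient.mk I)).primeCompl := by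
    ext x
    constructor
    · rintro ⟨y, hy, rfl⟩
      intro hmem
      apply hy
      have : y ∈ (Q.map (Ideal.Quotient.mk I)).comap (Ideal.Quotient.mk I) := hmem
      rwa [hcomap] at this
    · intro hx
      obtain ⟨y, rfl⟩ := hsurj x
      refine ⟨y, ?_, rfl⟩
      intro hy
      exact hx (Ideal.mem_map_of_mem _ hy)
  haveI : IsLocalization.AtPrime
      (Localization.AtPrime Q ⧸ I.map (algebraMap B (Localization.AtPrime Q)))
      (Q.map (Ideal.Quotient.mk I)) := by
    rw [IsLocalization.AtPrime, ← hsub]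
    infer_instance
  have h1 := IsLocalization.AtPrime.ringKrullDim_eq_height (Q.map (Ideal.Quotient.mk I))
    (Localization.AtPrime Q ⧸ I.map (algebraMap B (Localization.AtPrime Q)))
  have hideal : p.map (algebraMap A (Localization.AtPrime Q)) =
      I.map (algebraMap B (Localization.AtPrime Q)) := by
    rw [hI, Ideal.map_map, ← IsScalarTower.algebraMap_eq]
  rw [← h1]
  exact ringKrullDim_eq_of_ringEquiv (Ideal.quotEquivOfEq hideal)

end FibreDim

section FieldExt

attribute [local instance] Algebra.TensorProduct.rightAlgebra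

variable (k S K : Type u) [Field k] [CommRing S] [Algebra k S] [Algebra.FiniteType k S]
  [Field K] [Algebra k K]

instance finiteType_tensor_right : Algebra.FiniteType K (S ⊗[k] K) :=
  Algebra.FiniteType.equiv inferInstance (Algebra.TensorProduct.commRight k K S)

/-- The height of the image of `Q` in the fibre ring `(S ⊗ K)/q(S ⊗ K)` is the drop of
transcendence degrees. -/
theorem height_fibre_add_coheight (q : Ideal S) [q.IsPrime] (Q : Ideal (S ⊗[k] K)) [Q.IsPrime]
    [Q.LiesOver q] :
    ((Q.map (Ideal.Quotient.mk (q.map (algebraMap S (S ⊗[k] K))))).height : ℕ∞) +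
        Order.coheight (⟨Q, inferInstance⟩ : PrimeSpectrum (S ⊗[k] K)) =
      Order.coheight (⟨q, inferInstance⟩ : PrimeSpectrum S) := by
  set I := q.map (algebraMap S (S ⊗[k] K)) with hI
  have hIQ : I ≤ Q := by
    rw [hI, Ideal.map_le_iff_le_comap, ← Ideal.under_def, ← Q.over_def q]
  have hsurjI : Function.Surjective (Ideal.Quotient.mk I) := Ideal.Quotient.mk_surjective
  haveI hQ' : (Q.map (Ideal.Quotient.mk I)).IsPrime :=
    Ideal.map_isPrime_of_surjective hsurjI (by rwa [Ideal.mk_ker])
  obtain ⟨r, -, hr, hrc⟩ := exists_trdeg_residueField k S q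
  haveI : Algebra.FiniteType k (S ⧸ q) :=
    Algebra.FiniteType.of_surjective (Ideal.Quotient.mkₐ k q) Ideal.Quotient.mk_surjective
  -- the equidimensional algebra `(S/q) ⊗ K`
  have hequi : ∀ P ∈ minimalPrimes ((S ⧸ q) ⊗[k] K), ∀ _ : P.IsPrime,
      ringKrullDim (((S ⧸ q) ⊗[k] K) ⧸ P) = r := fun P hP _ =>
    (ringKrullDim_quotient_minimalPrime_tensor k (S ⧸ q) K P hP).trans hr
  let e : ((S ⧸ q) ⊗[k] K) ≃+* ((S ⊗[k] K) ⧸ I) :=
    (Algebra.TensorProduct.quotientTensorEquiv (R := k) k K S q).toRingEquiv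
  -- transport along the order isomorphism
  let oe : PrimeSpectrum ((S ⊗[k] K) ⧸ I) ≃o PrimeSpectrum ((S ⧸ q) ⊗[k] K) :=
    PrimeSpectrum.comapEquiv e.symm
  have h1 := height_add_coheight_of_equidim K ((S ⧸ q) ⊗[k] K) r hequi
    (oe ⟨Q.map (Ideal.Quotient.mk I), hQ'⟩)
  rw [Order.height_orderIso, Order.coheight_orderIso] at h1
  rw [hrc, ← h1, ← PrimeSpectrum.height_eq_orderHeight]
  congr 1
  -- coheights agree
  have h2 := DimFT.ringKrullDim_quotient_eq_coheight
    (⟨Q.map (Ideal.Quotient.mk I), hQ'⟩ : PrimeSpectrum ((S ⊗[k] K) ⧸ I))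
  have h3 := DimFT.ringKrullDim_quotient_eq_coheight
    (⟨Q, inferInstance⟩ : PrimeSpectrum (S ⊗[k] K))
  have h4 := ringKrullDim_eq_of_ringEquiv (DoubleQuot.quotQuotEquivQuotOfLE hIQ)
  have h5 : ((Order.coheight (⟨Q, inferInstance⟩ : PrimeSpectrum (S ⊗[k] K)) : ℕ∞) :
      WithBot ℕ∞) = (Order.coheight (⟨Q.map (Ideal.Quotient.mk I), hQ'⟩ :
        PrimeSpectrum ((S ⊗[k] K) ⧸ I)) : ℕ∞) := by
    rw [← h2, ← h3]; exact h4.symm
  exact_mod_cast h5

/-- Flat going-down formula for the base change to a field extension. -/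
theorem height_eq_height_add_fibre (q : Ideal S) [q.IsPrime] (Q : Ideal (S ⊗[k] K)) [Q.IsPrime]
    [Q.LiesOver q] :
    Q.height = q.height +
      (Q.map (Ideal.Quotient.mk (q.map (algebraMap S (S ⊗[k] K))))).height := by
  haveI : IsNoetherianRing (S ⊗[k] K) := Algebra.FiniteType.isNoetherianRing K _
  haveI : IsNoetherianRing S := Algebra.FiniteType.isNoetherianRing k S
  exact Ideal.height_eq_height_add_of_liesOver_of_hasGoingDown q Q

/-- `height + coheight` is invariant under base change to a field extension. -/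
theorem height_add_coheight_tensor (q : Ideal S) [q.IsPrime] (Q : Ideal (S ⊗[k] K)) [Q.IsPrime]
    [Q.LiesOver q] :
    (Order.height (⟨Q, inferInstance⟩ : PrimeSpectrum (S ⊗[k] K)) : ℕ∞) +
        Order.coheight (⟨Q, inferInstance⟩ : PrimeSpectrum (S ⊗[k] K)) =
      Order.height (⟨q, inferInstance⟩ : PrimeSpectrum S) +
        Order.coheight (⟨q, inferInstance⟩ : PrimeSpectrum S) := by
  rw [← PrimeSpectrum.height_eq_orderHeight, ← PrimeSpectrum.height_eq_orderHeight,
    ← height_fibre_add_coheight k S K q Q]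
  change Q.height + _ = q.height + _
  rw [height_eq_height_add_fibre k S K q Q, add_assoc]

/-- A prime of `S ⊗ K` over `q` whose image in the fibre ring is minimal. -/
theorem exists_liesOver_fibre_height_zero (q : Ideal S) [q.IsPrime] :
    ∃ (Q : Ideal (S ⊗[k] K)) (_ : Q.IsPrime), Q.LiesOver q ∧
      (Q.map (Ideal.Quotient.mk (q.map (algebraMap S (S ⊗[k] K))))).height = 0 := by
  set I := q.map (algebraMap S (S ⊗[k] K)) with hI
  haveI : Nontrivial ((S ⊗[k] K) ⧸ I) :=
    (Algebra.TensorProduct.quotientTensorEquiv (R := k) k K S q).toRingEquiv.symm.nontrivial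
  obtain ⟨P, hP⟩ := Ideal.nonempty_minimalPrimes (show (⊥ : Ideal ((S ⊗[k] K) ⧸ I)) ≠ ⊤ from
    bot_ne_top)
  haveI hPp : P.IsPrime := hP.1.1
  have hsurjI : Function.Surjective (Ideal.Quotient.mk I) := Ideal.Quotient.mk_surjective
  let Q := P.comap (Ideal.Quotient.mk I)
  haveI hQp : Q.IsPrime := Ideal.comap_isPrime _ _
  have hIQ : I ≤ Q := by
    intro x hx
    change Ideal.Quotient.mk I x ∈ P
    rw [Ideal.Quotient.eq_zero_iff_mem.mpr hx]; exact zero_mem _
  have hmap : Q.map (Ideal.Quotient.mk I) = P := Ideal.map_comap_of_surjective _ hsurjI P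
  refine ⟨Q, hQp, ?_, ?_⟩
  · -- going down
    have hle : q ≤ Q.under S := by
      rw [Ideal.under_def, ← Ideal.map_le_iff_le_comap]; exact hIQ
    haveI : (Q.under S).IsPrime := Ideal.comap_isPrime _ _
    haveI : Q.LiesOver (Q.under S) := ⟨rfl⟩
    obtain ⟨Q'', hQ''le, hQ''p, hQ''over⟩ :=
      Ideal.exists_ideal_le_liesOver_of_le (p := q) (q := Q.under S) Q hle
    have hIQ'' : I ≤ Q'' := by
      rw [hI, Ideal.map_le_iff_le_comap, ← Ideal.under_def, ← hQ''over.over]
    -- minimality of P
    have h1 : Q''.map (Ideal.Quotient.mk I) ≤ P := by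
      rw [← hmap]; exact Ideal.map_mono hQ''le
    haveI : (Q''.map (Ideal.Quotient.mk I)).IsPrime :=
      Ideal.map_isPrime_of_surjective hsurjI (by rwa [Ideal.mk_ker])
    have h2 : P ≤ Q''.map (Ideal.Quotient.mk I) :=
      hP.2 ⟨inferInstance, bot_le⟩ h1
    have h3 : Q ≤ Q'' := by
      intro x hx
      have hx' : Ideal.Quotient.mk I x ∈ Q''.map (Ideal.Quotient.mk I) := h2 hx
      have : x ∈ (Q''.map (Ideal.Quotient.mk I)).comap (Ideal.Quotient.mk I) := hx'
      rwa [Ideal.comap_map_of_surjective _ hsurjI, ← RingHom.ker_eq_comap_bot, Ideal.mk_ker,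
        sup_eq_left.mpr hIQ''] at this
    have : Q = Q'' := le_antisymm h3 hQ''le
    rw [this]; exact hQ''over
  · rw [hmap]
    exact Ideal.height_eq_zero_iff.mpr hP

end FieldExt

end Groth.Agent.Lib.Helper12.DimFT2
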