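import Mathlib
import Groth.Prelude.Def_CurvBase
import Groth.Agent.Lib.Helper12.DimFT2

/-!
# Helper library (helper12): dimension theory of schemes locally of finite type over a field

Dictionary between a scheme `X` over `Spec k` (with the prelude's `Curv2.resAlgebra`) and its affine
charts, and the resulting dimension theory (`trdeg κ(x)` as a dimension function).
-/

set_option autoImplicit false

universe u

open AlgebraicGeometry CategoryTheory Opposite

namespace Groth.Agent.Lib.Helper12.SchemeDimFT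

open Groth.Agent.Lib.Helper12

section Dictionary

variable (k : Type u) [Field k] (X : Scheme.{u}) [X.Over (Spec (CommRingCat.of k))]

/-- The ring map `k → Γ(X, U)`. -/
noncomputable def secMap (U : X.Opens) : k →+* Γ(X, U) :=
  (X.presheaf.map (homOfLE (le_top : U ≤ ⊤)).op).hom.comp
    (Coh.toGlobal (X ↘ Spec (CommRingCat.of k)))

/-- The `k`-algebra structure on the sections over an open of a `k`-scheme. -/
noncomputable abbrev secAlgebra (U : X.Opens) : Algebra k Γ(X, U) := (secMap k X U).toAlgebra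

theorem finiteType_sec [LocallyOfFiniteType (X ↘ Spec (CommRingCat.of k))] (U : X.Opens)
    (hU : IsAffineOpen U) : @Algebra.FiniteType k Γ(X, U) _ _ (secAlgebra k X U) := by
  have h1 : ((X ↘ Spec (CommRingCat.of k)).appLE ⊤ U (by simp)).hom.FiniteType :=
    Scheme.Hom.finiteType_appLE (X ↘ Spec (CommRingCat.of k)) (isAffineOpen_top _) hU (by simp)
  have h2 : secMap k X U = ((X ↘ Spec (CommRingCat.of k)).appLE ⊤ U (by simp)).hom.comp
      (Scheme.ΓSpecIso (CommRingCat.of k)).inv.hom := by
    ext c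
    simp only [secMap, Coh.toGlobal, Scheme.Hom.appLE, RingHom.comp_apply, CommRingCat.hom_comp]
    rfl
  change (secMap k X U).FiniteType
  rw [h2]
  refine RingHom.FiniteType.comp h1 (RingHom.FiniteType.of_surjective _ ?_)
  exact (ConcreteCategory.bijective_of_isIso (Scheme.ΓSpecIso (CommRingCat.of k)).inv).2

attribute [local instance] Curv2.resAlgebra

/-- The residue field at a point of an affine open, as a `k`-algebra, is the residue field of the
corresponding prime of the coordinate ring. -/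
theorem nonempty_algEquiv_residueField (U : X.Opens) (hU : IsAffineOpen U) (x : X) (hx : x ∈ U) :
    letI := secAlgebra k X U
    Nonempty ((hU.primeIdealOf ⟨x, hx⟩).asIdeal.ResidueField ≃ₐ[k] X.residueField x) := by
  letI := secAlgebra k X U
  letI algA : Algebra Γ(X, U) (X.presheaf.stalk x) :=
    TopCat.Presheaf.algebra_section_stalk X.presheaf ⟨x, hx⟩
  haveI := hU.isLocalization_stalk ⟨x, hx⟩
  let p := (hU.primeIdealOf ⟨x, hx⟩).asIdeal
  let e₀ : Localization.AtPrime p ≃ₐ[Γ(X, U)] X.presheaf.stalk x :=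
    IsLocalization.algEquiv p.primeCompl _ _
  let e₁ : p.ResidueField ≃+* X.residueField x :=
    IsLocalRing.ResidueField.mapEquiv e₀.toRingEquiv
  refine ⟨AlgEquiv.ofRingEquiv (f := e₁) ?_⟩
  intro c
  rw [IsScalarTower.algebraMap_apply k Γ(X, U) p.ResidueField,
    IsScalarTower.algebraMap_apply Γ(X, U) (Localization.AtPrime p) p.ResidueField]
  change IsLocalRing.residue _ (e₀ (algebraMap Γ(X, U) (Localization.AtPrime p)
    (algebraMap k Γ(X, U) c))) = _
  rw [e₀.commutes]
  change IsLocalRing.residue _ ((X.presheaf.germ U x hx).hom (secMap k X U c)) =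
    (X.residue x).hom ((X.presheaf.germ ⊤ x trivial).hom
      (Coh.toGlobal (X ↘ Spec (CommRingCat.of k)) c))
  congr 1
  simp only [secMap, RingHom.comp_apply]
  exact TopCat.Presheaf.germ_res_apply X.presheaf (homOfLE (le_top : U ≤ ⊤)) x hx _

end Dictionary

section Top

open TopologicalSpace

/-- The local dimension is invariant under open embeddings. -/
theorem localDim_eq_of_isOpenEmbedding {Y X : Type*} [TopologicalSpace Y] [TopologicalSpace X]
    (f : Y → X) (hf : Topology.IsOpenEmbedding f) (y : Y) :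
    FlatMor.localDim Y y = FlatMor.localDim X (f y) := by
  unfold FlatMor.localDim
  apply le_antisymm
  · refine le_iInf fun W => ?_
    let V : {V : Opens Y // y ∈ V} := ⟨⟨f ⁻¹' W.1, W.1.2.preimage hf.continuous⟩, W.2⟩
    refine (iInf_le (fun V : {V : Opens Y // y ∈ V} => topologicalKrullDim (V.1 : Set Y)) V).trans ?_
    exact (Set.restrictPreimage_isInducing (W.1 : Set X) hf.isInducing).topologicalKrullDim_le
  · refine le_iInf fun V => ?_
    let W : {W : Opens X // f y ∈ W} :=
      ⟨⟨f '' V.1, hf.isOpenMap _ V.1.2⟩, ⟨y, V.2, rfl⟩⟩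
    refine (iInf_le (fun W : {W : Opens X // f y ∈ W} => topologicalKrullDim (W.1 : Set X)) W).trans ?_
    exact (IsHomeomorph.topologicalKrullDim_eq _
      (hf.isEmbedding.homeomorphImage (V.1 : Set Y)).isHomeomorph).ge

/-- In a quasi-sober T0 space, `closure {x}` is an irreducible component iff `x` has no proper
generization. -/
theorem closure_singleton_mem_irreducibleComponents_iff {X : Type*} [TopologicalSpace X]
    [QuasiSober X] [T0Space X] (x : X) :
    closure ({x} : Set X) ∈ irreducibleComponents X ↔ ∀ y : X, y ⤳ x → y = x := by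
  constructor
  · intro h y hy
    have h1 : closure ({x} : Set X) ⊆ closure {y} := specializes_iff_closure_subset.mp hy
    have h2 : closure ({y} : Set X) ⊆ closure {x} :=
      h.2 isIrreducible_singleton.closure h1
    have h3 : x ⤳ y := specializes_iff_closure_subset.mpr h2
    exact (h3.antisymm hy).eq.symm
  · intro h
    refine ⟨isIrreducible_singleton.closure, ?_⟩
    intro Z hZ hle
    -- generic point of closure Z
    obtain ⟨z, hz⟩ := QuasiSober.sober hZ.closure isClosed_closure
    have hxZ : x ∈ closure Z := subset_closure (hle (subset_closure rfl))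
    have hzx : z ⤳ x := hz.specializes hxZ
    have := h z hzx
    subst this
    exact fun w hw => (hz.def ▸ subset_closure hw : w ∈ closure {z})

end Top

section Order

variable {X : Scheme.{u}} {U : X.Opens} (hU : IsAffineOpen U)

theorem primeIdealOf_le_iff (x y : U) :
    hU.primeIdealOf x ≤ hU.primeIdealOf y ↔ (x : X) ⤳ (y : X) := by
  rw [PrimeSpectrum.le_iff_specializes]
  have h1 : hU.primeIdealOf x ⤳ hU.primeIdealOf y ↔ (x : U.toScheme) ⤳ y :=
    (hU.isoSpec.hom.homeomorph).isInducing.specializes_iff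
  exact h1.trans (subtype_specializes_iff x y)

theorem primeIdealOf_lt_iff (x y : U) :
    hU.primeIdealOf x < hU.primeIdealOf y ↔ (x : X) ⤳ (y : X) ∧ (x : X) ≠ y := by
  rw [lt_iff_le_and_ne, primeIdealOf_le_iff]
  refine and_congr Iff.rfl (not_congr ?_)
  constructor
  · intro h
    have := (hU.isoSpec.hom.homeomorph).injective h
    exact congrArg Subtype.val this
  · intro h
    rw [Subtype.ext h]

theorem exists_primeIdealOf_eq (q : PrimeSpectrum Γ(X, U)) :
    ∃ y : U, hU.primeIdealOf y = q :=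
  (hU.isoSpec.hom.homeomorph).surjective q

theorem localDim_eq_primeSpectrum (x : U) :
    FlatMor.localDim X (x : X) =
      FlatMor.localDim (PrimeSpectrum Γ(X, U)) (hU.primeIdealOf x) := by
  have h := localDim_eq_of_isOpenEmbedding (hU.fromSpec.base : PrimeSpectrum Γ(X, U) → X)
    hU.fromSpec.isOpenEmbedding (hU.primeIdealOf x)
  have h2 : hU.fromSpec (hU.primeIdealOf x) = (x : X) := hU.fromSpec_primeIdealOf x
  rw [h2] at h
  exact h.symm

end Order


section FT

attribute [local instance] Curv2.resAlgebra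

variable (k : Type u) [Field k] (X : Scheme.{u}) [X.Over (Spec (CommRingCat.of k))]
  [LocallyOfFiniteType (X ↘ Spec (CommRingCat.of k))]

/-- The transcendence degree of the residue field is the coheight of the prime in any affine
chart. -/
theorem exists_trdeg_eq_coheight (U : X.Opens) (hU : IsAffineOpen U) (x : X) (hx : x ∈ U) :
    ∃ n : ℕ, Algebra.trdeg k (X.residueField x) = n ∧
      Order.coheight (hU.primeIdealOf ⟨x, hx⟩) = n := by
  letI := secAlgebra k X U
  haveI := finiteType_sec k X U hU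
  obtain ⟨e⟩ := nonempty_algEquiv_residueField k X U hU x hx
  obtain ⟨n, hn1, -, hn3⟩ :=
    DimFT2.exists_trdeg_residueField k Γ(X, U) (hU.primeIdealOf ⟨x, hx⟩).asIdeal
  exact ⟨n, e.trdeg_eq.symm.trans hn1, hn3⟩

theorem exists_affineOpen_mem (x : X) : ∃ U : X.Opens, IsAffineOpen U ∧ x ∈ U := by
  obtain ⟨U, hU, hxU, -⟩ := TopologicalSpace.Opens.isBasis_iff_nbhd.mp (X.isBasis_affineOpens)
    (show x ∈ (⊤ : X.Opens) from trivial)
  exact ⟨U, hU, hxU⟩

/-- Immediate specialisations drop the transcendence degree by exactly one. -/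
theorem trdeg_eq_add_one_of_covBy (x x' : X) (hne : x ≠ x') (hsp : x ⤳ x')
    (himm : ∀ y : X, x ⤳ y → y ⤳ x' → y = x ∨ y = x')
    (n : ℕ) (hn : Algebra.trdeg k (X.residueField x') = n) :
    Algebra.trdeg k (X.residueField x) = (n + 1 : ℕ) := by
  obtain ⟨U, hU, hx'⟩ := exists_affineOpen_mem X x'
  have hx : x ∈ U := hsp.mem_open U.2 hx'
  letI := secAlgebra k X U
  haveI := finiteType_sec k X U hU
  have hcov : hU.primeIdealOf ⟨x, hx⟩ ⋖ hU.primeIdealOf ⟨x', hx'⟩ := by
    refine ⟨(primeIdealOf_lt_iff hU _ _).mpr ⟨hsp, hne⟩, ?_⟩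
    intro q hq1 hq2
    obtain ⟨y, rfl⟩ := exists_primeIdealOf_eq hU q
    obtain ⟨h1, h1'⟩ := (primeIdealOf_lt_iff hU _ _).mp hq1
    obtain ⟨h2, h2'⟩ := (primeIdealOf_lt_iff hU _ _).mp hq2
    rcases himm y h1 h2 with h | h
    · exact h1' h.symm
    · exact h2' h
  have h3 := DimFT.coheight_eq_add_one_of_covBy k Γ(X, U) hcov
  obtain ⟨m, hm1, hm2⟩ := exists_trdeg_eq_coheight k X U hU x hx
  obtain ⟨m', hm1', hm2'⟩ := exists_trdeg_eq_coheight k X U hU x' hx'
  have hmn : m' = n := by
    have : (m' : Cardinal.{u}) = (n : Cardinal.{u}) := hm1'.symm.trans hn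
    exact_mod_cast this
  subst hmn
  rw [hm2, hm2'] at h3
  have h4 : m = m' + 1 := by exact_mod_cast h3
  rw [hm1, h4]

/-- The local dimension at a point is `trdeg κ(x) + dim O_{X,x}`. -/
theorem localDim_eq (x : X) (a b : ℕ) (ha : Algebra.trdeg k (X.residueField x) = a)
    (hb : ringKrullDim (X.presheaf.stalk x) = b) :
    FlatMor.localDim X x = ((a + b : ℕ) : WithBot ℕ∞) := by
  obtain ⟨U, hU, hx⟩ := exists_affineOpen_mem X x
  letI := secAlgebra k X U
  haveI := finiteType_sec k X U hU
  rw [localDim_eq_primeSpectrum hU ⟨x, hx⟩,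
    DimFT2.localDim_primeSpectrum k Γ(X, U) (hU.primeIdealOf ⟨x, hx⟩)]
  obtain ⟨m, hm1, hm2⟩ := exists_trdeg_eq_coheight k X U hU x hx
  have hma : m = a := by
    have : (m : Cardinal.{u}) = (a : Cardinal.{u}) := hm1.symm.trans ha
    exact_mod_cast this
  subst hma
  letI algA : Algebra Γ(X, U) (X.presheaf.stalk x) :=
    TopCat.Presheaf.algebra_section_stalk X.presheaf ⟨x, hx⟩
  haveI := hU.isLocalization_stalk ⟨x, hx⟩
  have h1 := IsLocalization.AtPrime.ringKrullDim_eq_height
    (hU.primeIdealOf ⟨x, hx⟩).asIdeal (X.presheaf.stalk x)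
  rw [hb, PrimeSpectrum.height_eq_orderHeight] at h1
  have h2 : (Order.height (hU.primeIdealOf ⟨x, hx⟩) : ℕ∞) = b := by exact_mod_cast h1.symm
  rw [hm2, h2]
  push_cast
  rw [add_comm]

/-- For irreducible `X`, `dim X` is the transcendence degree of the function field. -/
theorem topologicalKrullDim_eq_of_irreducible [IrreducibleSpace X] (n : ℕ)
    (hn : Algebra.trdeg k (X.residueField (genericPoint X)) = n) :
    topologicalKrullDim X = n := by
  rw [Groth.Agent.Lib.Helper9.topologicalKrullDim_eq_iSup_localDim]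
  have key : ∀ x : X, FlatMor.localDim X x = n := by
    intro x
    obtain ⟨U, hU, hx⟩ := exists_affineOpen_mem X x
    letI := secAlgebra k X U
    haveI := finiteType_sec k X U hU
    have hξ : genericPoint X ∈ U :=
      ((genericPoint_spec X).specializes (Set.mem_univ x)).mem_open U.2 hx
    rw [localDim_eq_primeSpectrum hU ⟨x, hx⟩,
      DimFT2.localDim_primeSpectrum k Γ(X, U) (hU.primeIdealOf ⟨x, hx⟩)]
    obtain ⟨m, hm1, hm2⟩ := exists_trdeg_eq_coheight k X U hU _ hξ
    have hmn : m = n := by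
      have : (m : Cardinal.{u}) = (n : Cardinal.{u}) := hm1.symm.trans hn
      exact_mod_cast this
    subst hmn
    have hmin : ∀ P ∈ minimalPrimes Γ(X, U), ∀ _ : P.IsPrime,
        ringKrullDim (Γ(X, U) ⧸ P) = m := by
      intro P hP hPp
      obtain ⟨y, hy⟩ := exists_primeIdealOf_eq hU ⟨P, hPp⟩
      have hle : hU.primeIdealOf ⟨genericPoint X, hξ⟩ ≤ hU.primeIdealOf y :=
        (primeIdealOf_le_iff hU _ _).mpr ((genericPoint_spec X).specializes (Set.mem_univ _))
      rw [hy] at hle
      have hle' : P ≤ (hU.primeIdealOf ⟨genericPoint X, hξ⟩).asIdeal :=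
        hP.2 ⟨(hU.primeIdealOf ⟨genericPoint X, hξ⟩).2, bot_le⟩ hle
      have heq : (⟨P, hPp⟩ : PrimeSpectrum Γ(X, U)) = hU.primeIdealOf ⟨genericPoint X, hξ⟩ :=
        le_antisymm hle' hle
      have h3 := DimFT.ringKrullDim_quotient_eq_coheight (⟨P, hPp⟩ : PrimeSpectrum Γ(X, U))
      have h4 : Order.coheight (⟨P, hPp⟩ : PrimeSpectrum Γ(X, U)) = m := by
        rw [heq]; exact hm2
      rw [h4] at h3
      exact_mod_cast h3
    rw [DimFT2.height_add_coheight_of_equidim k Γ(X, U) m hmin]
    rfl
  simp only [key]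
  exact ciSup_const

include k in
/-- Closed points of affine charts are closed points (Jacobson property). -/
theorem isClosed_singleton_of_isMaximal (U : X.Opens) (hU : IsAffineOpen U) (z : X) (hz : z ∈ U)
    (hmax : (hU.primeIdealOf ⟨z, hz⟩).asIdeal.IsMaximal) : IsClosed ({z} : Set X) := by
  haveI : JacobsonSpace X := LocallyOfFiniteType.jacobsonSpace (X ↘ Spec (CommRingCat.of k))
  have h1 : IsClosed ({hU.primeIdealOf ⟨z, hz⟩} : Set (PrimeSpectrum Γ(X, U))) :=
    (PrimeSpectrum.isClosed_singleton_iff_isMaximal _).mpr hmax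
  have h2 : hU.primeIdealOf ⟨z, hz⟩ ∈ closedPoints (Spec Γ(X, U)) := h1
  rw [← hU.fromSpec.isOpenEmbedding.preimage_closedPoints] at h2
  have h3 : hU.fromSpec (hU.primeIdealOf ⟨z, hz⟩) = z := hU.fromSpec_primeIdealOf ⟨z, hz⟩
  have h4 : hU.fromSpec (hU.primeIdealOf ⟨z, hz⟩) ∈ closedPoints X := h2
  rw [h3] at h4
  exact h4

/-- `trdeg = 1` at all maximal points iff all closed points have one-dimensional local rings. -/
theorem trdeg_generic_eq_one_iff :
    (∀ x : X, closure ({x} : Set X) ∈ irreducibleComponents (X : Type u) →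
        Algebra.trdeg k (X.residueField x) = 1) ↔
      ∀ x : X, IsClosed ({x} : Set X) → ringKrullDim (X.presheaf.stalk x) = 1 := by
  constructor
  · intro H x hxcl
    obtain ⟨U, hU, hx⟩ := exists_affineOpen_mem X x
    letI := secAlgebra k X U
    haveI := finiteType_sec k X U hU
    letI algA : Algebra Γ(X, U) (X.presheaf.stalk x) :=
      TopCat.Presheaf.algebra_section_stalk X.presheaf ⟨x, hx⟩
    haveI := hU.isLocalization_stalk ⟨x, hx⟩
    rw [IsLocalization.AtPrime.ringKrullDim_eq_height
      (hU.primeIdealOf ⟨x, hx⟩).asIdeal (X.presheaf.stalk x), PrimeSpectrum.height_eq_orderHeight]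
    have hmax : (hU.primeIdealOf ⟨x, hx⟩).asIdeal.IsMaximal :=
      hU.primeIdealOf_isMaximal_of_isClosed ⟨x, hx⟩ hxcl
    have hco : Order.coheight (hU.primeIdealOf ⟨x, hx⟩) = 0 := by
      rw [Order.coheight_eq_zero]
      intro q hq
      exact (hmax.eq_of_le q.2.ne_top hq).ge
    obtain ⟨P, hP, hPle, hK⟩ :=
      DimFT2.exists_minimalPrimes_coheight_eq k Γ(X, U) (hU.primeIdealOf ⟨x, hx⟩)
    rw [hco, add_zero] at hK
    rw [hK]
    obtain ⟨y, hy⟩ := exists_primeIdealOf_eq hU ⟨P, hP.1.1⟩
    -- y is a maximal point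
    have hymax : ∀ w : X, w ⤳ (y : X) → w = y := by
      intro w hw
      have hwU : w ∈ U := hw.mem_open U.2 y.2
      have hle : hU.primeIdealOf ⟨w, hwU⟩ ≤ hU.primeIdealOf y :=
        (primeIdealOf_le_iff hU ⟨w, hwU⟩ y).mpr hw
      rw [hy] at hle
      have hge : P ≤ (hU.primeIdealOf ⟨w, hwU⟩).asIdeal :=
        hP.2 ⟨(hU.primeIdealOf ⟨w, hwU⟩).2, bot_le⟩ hle
      have heq : hU.primeIdealOf ⟨w, hwU⟩ = hU.primeIdealOf y := by
        rw [hy]; exact le_antisymm hle hge
      have := (hU.isoSpec.hom.homeomorph).injective heq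
      exact congrArg Subtype.val this
    have hcomp := (closure_singleton_mem_irreducibleComponents_iff (y : X)).mpr hymax
    have h1 := H y hcomp
    obtain ⟨m, hm1, hm2⟩ := exists_trdeg_eq_coheight k X U hU y y.2
    have hm : m = 1 := by
      have : (m : Cardinal.{u}) = ((1 : ℕ) : Cardinal.{u}) := by
        rw [← hm1, h1]; simp
      exact_mod_cast this
    have h5 : Order.coheight (⟨P, hP.1.1⟩ : PrimeSpectrum Γ(X, U)) = 1 := by
      rw [← hy, show y = ⟨y.1, y.2⟩ from rfl, hm2, hm]; rfl
    rw [h5]; rfl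
  · intro H x hxcomp
    obtain ⟨U, hU, hx⟩ := exists_affineOpen_mem X x
    letI := secAlgebra k X U
    haveI := finiteType_sec k X U hU
    haveI : IsNoetherianRing Γ(X, U) := Algebra.FiniteType.isNoetherianRing k _
    have hxmax := (closure_singleton_mem_irreducibleComponents_iff x).mp hxcomp
    set P := hU.primeIdealOf ⟨x, hx⟩ with hPdef
    -- P is a minimal prime
    have hPmin : ∀ q : PrimeSpectrum Γ(X, U), q ≤ P → q = P := by
      intro q hq
      obtain ⟨y, rfl⟩ := exists_primeIdealOf_eq hU q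
      have h1 : (y : X) ⤳ x := (primeIdealOf_le_iff hU y ⟨x, hx⟩).mp hq
      have h2 := hxmax y h1
      have : y = ⟨x, hx⟩ := Subtype.ext h2
      rw [this]
    -- the open set of primes lying on no other component
    let T : Set (Ideal Γ(X, U)) := {P' | P' ∈ minimalPrimes Γ(X, U) ∧ P' ≠ P.asIdeal}
    have hTfin : T.Finite :=
      (minimalPrimes.finite_of_isNoetherianRing Γ(X, U)).subset fun P' hP' => hP'.1
    let C : Set (PrimeSpectrum Γ(X, U)) := ⋃ P' ∈ T, PrimeSpectrum.zeroLocus (P' : Set Γ(X, U))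
    have hC : IsClosed C := hTfin.isClosed_biUnion fun P' _ => PrimeSpectrum.isClosed_zeroLocus _
    have hPC : P ∉ C := by
      intro hmem
      simp only [C, Set.mem_iUnion] at hmem
      obtain ⟨P', hP', hP'le⟩ := hmem
      have h1 : (⟨P', hP'.1.1.1⟩ : PrimeSpectrum Γ(X, U)) = P := hPmin _ hP'le
      exact hP'.2 (congrArg PrimeSpectrum.asIdeal h1)
    obtain ⟨m, hm, hPm, hmC⟩ :=
      DimFT2.exists_isMaximal_mem_of_mem_open k Γ(X, U) P Cᶜ hC.isOpen_compl hPC
    obtain ⟨z, hz⟩ := exists_primeIdealOf_eq hU m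
    have hzcl : IsClosed ({(z : X)} : Set X) :=
      isClosed_singleton_of_isMaximal k X U hU z z.2 (by rw [show (⟨z.1, z.2⟩ : U) = z from rfl, hz]; exact hm)
    have hdim := H z hzcl
    letI algA : Algebra Γ(X, U) (X.presheaf.stalk (z : X)) :=
      TopCat.Presheaf.algebra_section_stalk X.presheaf z
    haveI := hU.isLocalization_stalk z
    rw [IsLocalization.AtPrime.ringKrullDim_eq_height
      (hU.primeIdealOf z).asIdeal (X.presheaf.stalk (z : X)), PrimeSpectrum.height_eq_orderHeight,
      hz] at hdim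
    have hco : Order.coheight m = 0 := by
      rw [Order.coheight_eq_zero]
      intro q hq
      exact (hm.eq_of_le q.2.ne_top hq).ge
    obtain ⟨P'', hP'', hP''le, hK⟩ := DimFT2.exists_minimalPrimes_coheight_eq k Γ(X, U) m
    rw [hco, add_zero] at hK
    have hP''eq : P'' = P.asIdeal := by
      by_contra hne
      apply hmC
      simp only [C, Set.mem_iUnion]
      exact ⟨P'', ⟨hP'', hne⟩, hP''le⟩
    have h1 : (Order.height m : ℕ∞) = 1 := by
      have : ((Order.height m : ℕ∞) : WithBot ℕ∞) = ((1 : ℕ∞) : WithBot ℕ∞) := hdim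
      exact_mod_cast this
    obtain ⟨n, hn1, hn2⟩ := exists_trdeg_eq_coheight k X U hU x hx
    have h2 : Order.coheight P = 1 := by
      have : (⟨P'', hP''.1.1⟩ : PrimeSpectrum Γ(X, U)) = P := PrimeSpectrum.ext hP''eq
      rw [← this, ← hK, h1]
    rw [hn2] at h2
    have hn : n = 1 := by exact_mod_cast h2
    rw [hn1, hn]; simp

end FT

end Groth.Agent.Lib.Helper12.SchemeDimFT
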