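import Mathlib
import Groth.Prelude.Def_CurvBase
import Groth.Agent.Lib.Helper12.SchemeDimFT

/-!
# Helper library (helper12): dimension theory of schemes locally of finite type over a field, II

Morphisms of `k`-schemes and residue fields; lower bounds for the dimension.
-/

set_option autoImplicit false

universe u

open AlgebraicGeometry CategoryTheory Opposite

namespace Groth.Agent.Lib.Helper12.SchemeDimFT

open Groth.Agent.Lib.Helper12

attribute [local instance] Curv2.resAlgebra

section Hom

variable (k : Type u) [Field k] {X Y : Scheme.{u}} (p : X ⟶ Spec (CommRingCat.of k))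
  (q : Y ⟶ Spec (CommRingCat.of k)) (f : Y ⟶ X) (hf : f ≫ p = q)

include hf in
/-- A morphism of `k`-schemes induces `k`-algebra maps on residue fields. -/
theorem residueFieldMap_resMap (y : Y) (c : k) :
    letI : X.Over (Spec (CommRingCat.of k)) := ⟨p⟩
    letI : Y.Over (Spec (CommRingCat.of k)) := ⟨q⟩
    (f.residueFieldMap y).hom (Curv2.resMap k X (f y) c) = Curv2.resMap k Y y c := by
  letI : X.Over (Spec (CommRingCat.of k)) := ⟨p⟩
  letI : Y.Over (Spec (CommRingCat.of k)) := ⟨q⟩
  change (f.residueFieldMap y).hom ((X.residue (f y)).hom ((X.presheaf.germ ⊤ (f y) trivial).hom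
    (Coh.toGlobal p c))) = (Y.residue y).hom ((Y.presheaf.germ ⊤ y trivial).hom
    (Coh.toGlobal q c))
  have h1 := Scheme.residue_residueFieldMap f y
  have h2 : (f.residueFieldMap y).hom ((X.residue (f y)).hom ((X.presheaf.germ ⊤ (f y) trivial).hom
      (Coh.toGlobal p c))) = (Y.residue y).hom ((f.stalkMap y).hom
        ((X.presheaf.germ ⊤ (f y) trivial).hom (Coh.toGlobal p c))) := by
    have := congrArg (fun φ => φ.hom ((X.presheaf.germ ⊤ (f y) trivial).hom (Coh.toGlobal p c))) h1
    simpa using this
  rw [h2]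
  congr 1
  have h3 := Scheme.Hom.germ_stalkMap_apply f ⊤ y trivial (Coh.toGlobal p c)
  refine h3.trans ?_
  subst hf
  simp only [Coh.toGlobal, RingHom.comp_apply, Scheme.Hom.comp_appTop, CommRingCat.hom_comp]
  rfl

include hf in
theorem trdeg_le_of_hom (y : Y) :
    letI : X.Over (Spec (CommRingCat.of k)) := ⟨p⟩
    letI : Y.Over (Spec (CommRingCat.of k)) := ⟨q⟩
    Algebra.trdeg k (X.residueField (f y)) ≤ Algebra.trdeg k (Y.residueField y) := by
  letI : X.Over (Spec (CommRingCat.of k)) := ⟨p⟩
  letI : Y.Over (Spec (CommRingCat.of k)) := ⟨q⟩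
  let φ : X.residueField (f y) →ₐ[k] Y.residueField y :=
    { (f.residueFieldMap y).hom with
      commutes' := fun c => residueFieldMap_resMap k p q f hf y c }
  exact trdeg_le_of_injective φ φ.toRingHom.injective

end Hom

section LB

variable (k : Type u) [Field k] (X : Scheme.{u}) [X.Over (Spec (CommRingCat.of k))]
  [LocallyOfFiniteType (X ↘ Spec (CommRingCat.of k))]

/-- The transcendence degree of the residue field at a point bounds the local dimension below. -/
theorem trdeg_le_localDim (x : X) (a : ℕ) (ha : Algebra.trdeg k (X.residueField x) = a) :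
    ((a : ℕ) : WithBot ℕ∞) ≤ FlatMor.localDim X x := by
  obtain ⟨U, hU, hx⟩ := exists_affineOpen_mem X x
  letI := secAlgebra k X U
  haveI := finiteType_sec k X U hU
  rw [localDim_eq_primeSpectrum hU ⟨x, hx⟩,
    DimFT2.localDim_primeSpectrum k Γ(X, U) (hU.primeIdealOf ⟨x, hx⟩)]
  obtain ⟨m, hm1, hm2⟩ := exists_trdeg_eq_coheight k X U hU x hx
  have hma : m = a := by
    have : (m : Cardinal.{u}) = (a : Cardinal.{u}) := hm1.symm.trans ha
    exact_mod_cast this
  subst hma
  rw [hm2]
  have : (m : ℕ∞) ≤ Order.height (hU.primeIdealOf ⟨x, hx⟩) + (m : ℕ∞) := le_add_self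
  exact_mod_cast this

/-- The transcendence degree of the residue field at a point bounds the dimension below. -/
theorem trdeg_le_topologicalKrullDim (x : X) (a : ℕ)
    (ha : Algebra.trdeg k (X.residueField x) = a) :
    ((a : ℕ) : WithBot ℕ∞) ≤ topologicalKrullDim X :=
  (trdeg_le_localDim k X x a ha).trans (Groth.Agent.Lib.Helper9.localDim_le_topologicalKrullDim x)

/-- The transcendence degree of any residue field is finite. -/
theorem exists_trdeg_eq (x : X) : ∃ n : ℕ, Algebra.trdeg k (X.residueField x) = n := by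
  obtain ⟨U, hU, hx⟩ := exists_affineOpen_mem X x
  obtain ⟨n, hn, -⟩ := exists_trdeg_eq_coheight k X U hU x hx
  exact ⟨n, hn⟩

/-- On an irreducible scheme locally of finite type over a field, all local dimensions equal the
transcendence degree of the function field. -/
theorem localDim_eq_of_irreducible [IrreducibleSpace X] (n : ℕ)
    (hn : Algebra.trdeg k (X.residueField (genericPoint X)) = n) (x : X) :
    FlatMor.localDim X x = n := by
  obtain ⟨U, hU, hx⟩ := exists_affineOpen_mem X x
  letI := secAlgebra k X U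
  haveI := finiteType_sec k X U hU
  have hξ : genericPoint X ∈ U :=
    ((genericPoint_spec X).specializes (Set.mem_univ x)).mem_open U.2 hx
  rw [localDim_eq_primeSpectrum hU ⟨x, hx⟩,
    DimFT2.localDim_primeSpectrum k Γ(X, U) (hU.primeIdealOf ⟨x, hx⟩)]
  obtain ⟨m, hm1, hm2⟩ := exists_trdeg_eq_coheight k X U hU _ hξ
  have hmn : m = n := by
    have : (m : Cardinal.{u}) = (n : Cardinal.{u}) := hm1.symm.trans hn
    exact_mod_cast this
  subst hmn
  have hmin : ∀ P ∈ minimalPrimes Γ(X, U), ∀ _ : P.IsPrime,
      ringKrullDim (Γ(X, U) ⧸ P) = m := by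
    intro P hP hPp
    obtain ⟨y, hy⟩ := exists_primeIdealOf_eq hU ⟨P, hPp⟩
    have hle : hU.primeIdealOf ⟨genericPoint X, hξ⟩ ≤ hU.primeIdealOf y :=
      (primeIdealOf_le_iff hU _ _).mpr ((genericPoint_spec X).specializes (Set.mem_univ _))
    rw [hy] at hle
    have hle' : P ≤ (hU.primeIdealOf ⟨genericPoint X, hξ⟩).asIdeal :=
      hP.2 ⟨(hU.primeIdealOf ⟨genericPoint X, hξ⟩).2, bot_le⟩ hle
    have heq : (⟨P, hPp⟩ : PrimeSpectrum Γ(X, U)) = hU.primeIdealOf ⟨genericPoint X, hξ⟩ :=
      le_antisymm hle' hle
    have h3 := DimFT.ringKrullDim_quotient_eq_coheight (⟨P, hPp⟩ : PrimeSpectrum Γ(X, U))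
    have h4 : Order.coheight (⟨P, hPp⟩ : PrimeSpectrum Γ(X, U)) = m := by
      rw [heq]; exact hm2
    rw [h4] at h3
    exact_mod_cast h3
  rw [DimFT2.height_add_coheight_of_equidim k Γ(X, U) m hmin]
  rfl

include k in
/-- Nonempty opens of an irreducible scheme locally of finite type over a field have full
dimension. -/
theorem topologicalKrullDim_opens_of_irreducible [IrreducibleSpace X] (U : X.Opens)
    (hU : (U : Set X).Nonempty) :
    topologicalKrullDim (U : Set X) = topologicalKrullDim X := by
  obtain ⟨n, hn⟩ := exists_trdeg_eq k X (genericPoint X)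
  rw [topologicalKrullDim_eq_of_irreducible k X n hn,
    Groth.Agent.Lib.Helper9.topologicalKrullDim_eq_iSup_localDim]
  have key : ∀ x : (U : Set X), FlatMor.localDim (U : Set X) x = n := by
    intro x
    have h := localDim_eq_of_isOpenEmbedding (Y := ↥(U : Set X)) (X := X)
      (fun z : ↥(U : Set X) => (z : X)) U.2.isOpenEmbedding_subtypeVal x
    rw [h]
    exact localDim_eq_of_irreducible k X n hn x
  simp only [key]
  haveI : Nonempty (U : Set X) := hU.to_subtype
  exact ciSup_const

end LB

end Groth.Agent.Lib.Helper12.SchemeDimFT
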