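import Mathlib
import Groth.Prelude.Def_CurvBase
import Groth.Agent.Lib.Helper12.SchemeDimFT2

/-!
# Helper library (helper12): base change of a `k`-scheme to a field extension

Dictionary between affine charts of `X` and of `X_K = X ×_k K` (`Curv2.bc k X K`), and the
resulting comparison of dimensions.
-/

set_option autoImplicit false
universe u
open AlgebraicGeometry CategoryTheory Opposite TensorProduct Limits

namespace Groth.Agent.Lib.Helper12.BaseChange

open Groth.Agent.Lib.Helper12 Groth.Agent.Lib.Helper12.SchemeDimFT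

variable (k : Type u) [Field k] (X : Scheme.{u}) [X.Over (Spec (CommRingCat.of k))]
  (K : Type u) [Field K] [Algebra k K]

theorem isAffineHom_bcFst : IsAffineHom (Curv2.bcFst k X K) :=
  MorphismProperty.of_isPullback (P := @IsAffineHom)
    (IsPullback.of_hasPullback (X ↘ Spec (CommRingCat.of k))
      (Spec.map (CommRingCat.ofHom (algebraMap k K)))).flip inferInstance

theorem surjective_SpecMap_field : Surjective (Spec.map (CommRingCat.ofHom (algebraMap k K))) := by
  refine ⟨fun x => ?_⟩
  have : Subsingleton (Spec (CommRingCat.of k)) := inferInstanceAs (Subsingleton (PrimeSpectrum k))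
  have : Nonempty (Spec (CommRingCat.of K)) := inferInstanceAs (Nonempty (PrimeSpectrum K))
  obtain ⟨z⟩ := ‹Nonempty (Spec (CommRingCat.of K))›
  exact ⟨z, Subsingleton.elim _ _⟩

theorem surjective_bcFst : Function.Surjective (Curv2.bcFst k X K) := by
  have h : Surjective (Curv2.bcFst k X K) :=
    MorphismProperty.of_isPullback (P := @Surjective)
      (IsPullback.of_hasPullback (X ↘ Spec (CommRingCat.of k))
        (Spec.map (CommRingCat.ofHom (algebraMap k K)))).flip (surjective_SpecMap_field k K)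
  exact h.surj

noncomputable abbrev bcOver : (Curv2.bc k X K).Over (Spec (CommRingCat.of K)) :=
  ⟨Curv2.bcSnd k X K⟩

attribute [local instance] bcOver

theorem secMap_eq (U : X.Opens) : secMap k X U =
    ((X ↘ Spec (CommRingCat.of k)).appLE ⊤ U (by simp)).hom.comp
      (Scheme.ΓSpecIso (CommRingCat.of k)).inv.hom := by
  ext c
  simp only [secMap, Coh.toGlobal, Scheme.Hom.appLE, RingHom.comp_apply, CommRingCat.hom_comp]
  rfl

theorem isPushout_sec (U : X.Opens) (hU : IsAffineOpen U) :
    IsPushout (CommRingCat.ofHom (secMap k X U)) (CommRingCat.ofHom (algebraMap k K))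
      ((Curv2.bcFst k X K).app U)
      (CommRingCat.ofHom (secMap K (Curv2.bc k X K) ((Curv2.bcFst k X K) ⁻¹ᵁ U))) := by
  have H : IsPullback (Curv2.bcFst k X K) (Curv2.bcSnd k X K) (X ↘ Spec (CommRingCat.of k))
      (Spec.map (CommRingCat.ofHom (algebraMap k K))) := IsPullback.of_hasPullback _ _
  have hUST : (⊤ : (Spec (CommRingCat.of K)).Opens) ≤
      (Spec.map (CommRingCat.ofHom (algebraMap k K))) ⁻¹ᵁ ⊤ := by simp
  have hUSX : U ≤ (X ↘ Spec (CommRingCat.of k)) ⁻¹ᵁ ⊤ := by simp
  have hUY : (Curv2.bcFst k X K) ⁻¹ᵁ U =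
      (Curv2.bcFst k X K) ⁻¹ᵁ U ⊓ (Curv2.bcSnd k X K) ⁻¹ᵁ ⊤ := by simp
  have hiso := isIso_pushoutSection_of_isAffineOpen H hUST hUSX hUY (isAffineOpen_top _)
    (isAffineOpen_top _) hU
  have hpo := (isIso_pushoutSection_iff H hUST hUSX hUY).mp hiso
  refine hpo.of_iso (Scheme.ΓSpecIso (CommRingCat.of k)) (Iso.refl _)
    (Scheme.ΓSpecIso (CommRingCat.of K)) (Iso.refl _) ?_ ?_ ?_ ?_
  · rw [secMap_eq]
    ext x
    simp
  · have h1 : Scheme.Hom.appLE (Spec.map (CommRingCat.ofHom (algebraMap k K))) ⊤ ⊤ hUST =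
        (Spec.map (CommRingCat.ofHom (algebraMap k K))).appTop := by
      exact Scheme.Hom.appLE_eq_app _
    rw [h1]
    exact Scheme.ΓSpecIso_naturality (CommRingCat.ofHom (algebraMap k K))
  · simp [Scheme.Hom.appLE]
  · rw [secMap_eq]
    ext x
    simp
    rfl

noncomputable def tensorEquiv (U : X.Opens) (hU : IsAffineOpen U) :
    letI := secAlgebra k X U
    Γ(X, U) ⊗[k] K ≃+* Γ(Curv2.bc k X K, (Curv2.bcFst k X K) ⁻¹ᵁ U) :=
  letI := secAlgebra k X U
  ((CommRingCat.isPushout_tensorProduct k Γ(X, U) K).isoPushout ≪≫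
    (isPushout_sec k X K U hU).isoPushout.symm).commRingCatIsoToRingEquiv

theorem tensorEquiv_tmul_one (U : X.Opens) (hU : IsAffineOpen U) (a : Γ(X, U)) :
    letI := secAlgebra k X U
    tensorEquiv k X K U hU (a ⊗ₜ[k] (1 : K)) = ((Curv2.bcFst k X K).app U).hom a := by
  letI := secAlgebra k X U
  have h2 : (CommRingCat.isPushout_tensorProduct k Γ(X, U) K).isoPushout.hom
      (a ⊗ₜ 1) = (pushout.inl (CommRingCat.ofHom _) (CommRingCat.ofHom _)) a :=
    congr($((CommRingCat.isPushout_tensorProduct k Γ(X, U) K).inl_isoPushout_hom).hom a)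
  have h3 := congr($((isPushout_sec k X K U hU).inl_isoPushout_inv) a)
  dsimp only [CommRingCat.hom_comp, RingHom.coe_comp, Function.comp_apply] at h3
  change (isPushout_sec k X K U hU).isoPushout.inv.hom
    ((CommRingCat.isPushout_tensorProduct k Γ(X, U) K).isoPushout.hom.hom (a ⊗ₜ 1)) = _
  exact (congrArg _ h2).trans h3

theorem tensorEquiv_one_tmul (U : X.Opens) (hU : IsAffineOpen U) (c : K) :
    letI := secAlgebra k X U
    tensorEquiv k X K U hU ((1 : Γ(X, U)) ⊗ₜ[k] c) =
      secMap K (Curv2.bc k X K) ((Curv2.bcFst k X K) ⁻¹ᵁ U) c := by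
  letI := secAlgebra k X U
  have h2 : (CommRingCat.isPushout_tensorProduct k Γ(X, U) K).isoPushout.hom
      (1 ⊗ₜ c) = (pushout.inr (CommRingCat.ofHom _) (CommRingCat.ofHom _)) c :=
    congr($((CommRingCat.isPushout_tensorProduct k Γ(X, U) K).inr_isoPushout_hom).hom c)
  have h3 := congr($((isPushout_sec k X K U hU).inr_isoPushout_inv) c)
  dsimp only [CommRingCat.hom_comp, RingHom.coe_comp, Function.comp_apply] at h3
  change (isPushout_sec k X K U hU).isoPushout.inv.hom
    ((CommRingCat.isPushout_tensorProduct k Γ(X, U) K).isoPushout.hom.hom (1 ⊗ₜ c)) = _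
  exact (congrArg _ h2).trans h3

section Points

variable [LocallyOfFiniteType (X ↘ Spec (CommRingCat.of k))]

attribute [local instance] Algebra.TensorProduct.rightAlgebra

instance locallyOfFiniteType_bc :
    LocallyOfFiniteType ((Curv2.bc k X K) ↘ Spec (CommRingCat.of K)) :=
  MorphismProperty.of_isPullback (P := @LocallyOfFiniteType)
    (IsPullback.of_hasPullback (X ↘ Spec (CommRingCat.of k))
      (Spec.map (CommRingCat.ofHom (algebraMap k K)))) inferInstance

theorem isAffineOpen_preimage (U : X.Opens) (hU : IsAffineOpen U) :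
    IsAffineOpen ((Curv2.bcFst k X K) ⁻¹ᵁ U) :=
  haveI := isAffineHom_bcFst k X K
  hU.preimage (Curv2.bcFst k X K)

/-- The prime of `Γ(X,U) ⊗ K` corresponding to a point of the base change. -/
noncomputable def tensorPrime (U : X.Opens) (hU : IsAffineOpen U) (y : Curv2.bc k X K)
    (hy : Curv2.bcFst k X K y ∈ U) :
    letI := secAlgebra k X U
    PrimeSpectrum (Γ(X, U) ⊗[k] K) :=
  letI := secAlgebra k X U
  PrimeSpectrum.comapEquiv (tensorEquiv k X K U hU).symm
    ((isAffineOpen_preimage k X K U hU).primeIdealOf ⟨y, hy⟩)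

theorem tensorPrime_liesOver (U : X.Opens) (hU : IsAffineOpen U) (y : Curv2.bc k X K)
    (hy : Curv2.bcFst k X K y ∈ U) :
    letI := secAlgebra k X U
    (tensorPrime k X K U hU y hy).asIdeal.LiesOver
      (hU.primeIdealOf ⟨Curv2.bcFst k X K y, hy⟩).asIdeal := by
  letI := secAlgebra k X U
  refine ⟨?_⟩
  have h1 := IsAffineOpen.comap_primeIdealOf_appLE (f := Curv2.bcFst k X K) (x := y) U hU
    ((Curv2.bcFst k X K) ⁻¹ᵁ U) (isAffineOpen_preimage k X K U hU) le_rfl hy
  rw [Scheme.Hom.appLE_eq_app] at h1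
  rw [← h1]
  ext a
  simp only [Ideal.under_def, Ideal.mem_comap, PrimeSpectrum.comap_asIdeal]
  rw [← tensorEquiv_tmul_one k X K U hU a]
  rfl

theorem height_tensorPrime (U : X.Opens) (hU : IsAffineOpen U) (y : Curv2.bc k X K)
    (hy : Curv2.bcFst k X K y ∈ U) :
    letI := secAlgebra k X U
    Order.height (tensorPrime k X K U hU y hy) =
      Order.height ((isAffineOpen_preimage k X K U hU).primeIdealOf ⟨y, hy⟩) := by
  letI := secAlgebra k X U
  exact Order.height_orderIso _ _

theorem coheight_tensorPrime (U : X.Opens) (hU : IsAffineOpen U) (y : Curv2.bc k X K)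
    (hy : Curv2.bcFst k X K y ∈ U) :
    letI := secAlgebra k X U
    Order.coheight (tensorPrime k X K U hU y hy) =
      Order.coheight ((isAffineOpen_preimage k X K U hU).primeIdealOf ⟨y, hy⟩) := by
  letI := secAlgebra k X U
  exact Order.coheight_orderIso _ _

/-- `ht + coht` is invariant under base change. -/
theorem height_add_coheight_bc (U : X.Opens) (hU : IsAffineOpen U) (y : Curv2.bc k X K)
    (hy : Curv2.bcFst k X K y ∈ U) :
    (Order.height ((isAffineOpen_preimage k X K U hU).primeIdealOf ⟨y, hy⟩) : ℕ∞) +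
        Order.coheight ((isAffineOpen_preimage k X K U hU).primeIdealOf ⟨y, hy⟩) =
      Order.height (hU.primeIdealOf ⟨Curv2.bcFst k X K y, hy⟩) +
        Order.coheight (hU.primeIdealOf ⟨Curv2.bcFst k X K y, hy⟩) := by
  letI := secAlgebra k X U
  haveI := finiteType_sec k X U hU
  haveI := tensorPrime_liesOver k X K U hU y hy
  have h := DimFT2.height_add_coheight_tensor k Γ(X, U) K
    (hU.primeIdealOf ⟨Curv2.bcFst k X K y, hy⟩).asIdeal (tensorPrime k X K U hU y hy).asIdeal
  rw [← height_tensorPrime, ← coheight_tensorPrime]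
  exact h

/-- The local dimension is invariant under base change to a field extension. -/
theorem localDim_bc (y : Curv2.bc k X K) :
    FlatMor.localDim (Curv2.bc k X K) y = FlatMor.localDim X (Curv2.bcFst k X K y) := by
  obtain ⟨U, hU, hy⟩ := exists_affineOpen_mem X (Curv2.bcFst k X K y)
  letI := secAlgebra k X U
  haveI := finiteType_sec k X U hU
  have hV := isAffineOpen_preimage k X K U hU
  letI := secAlgebra K (Curv2.bc k X K) ((Curv2.bcFst k X K) ⁻¹ᵁ U)
  haveI := finiteType_sec K (Curv2.bc k X K) ((Curv2.bcFst k X K) ⁻¹ᵁ U) hV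
  rw [localDim_eq_primeSpectrum hV ⟨y, hy⟩, localDim_eq_primeSpectrum hU ⟨_, hy⟩,
    DimFT2.localDim_primeSpectrum K, DimFT2.localDim_primeSpectrum k,
    height_add_coheight_bc k X K U hU y hy]

/-- The dimension is invariant under base change to a field extension. -/
theorem topologicalKrullDim_bc :
    topologicalKrullDim (Curv2.bc k X K) = topologicalKrullDim X := by
  rw [Groth.Agent.Lib.Helper9.topologicalKrullDim_eq_iSup_localDim,
    Groth.Agent.Lib.Helper9.topologicalKrullDim_eq_iSup_localDim]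
  apply le_antisymm
  · refine iSup_le fun y => ?_
    rw [localDim_bc]
    exact le_iSup (fun x : X => FlatMor.localDim X x) _
  · refine iSup_le fun x => ?_
    obtain ⟨y, rfl⟩ := surjective_bcFst k X K x
    rw [← localDim_bc]
    exact le_iSup (fun y : Curv2.bc k X K => FlatMor.localDim (Curv2.bc k X K) y) _

theorem ringKrullDim_fibLocRing' {A : Type*} {B : Type*} [CommRing A] [CommRing B] [Algebra A B]
    (Q : Ideal B) [Q.IsPrime] (L : Type*) [CommRing L] [Algebra B L] [IsLocalization.AtPrime L Q]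
    [Algebra A L] [IsScalarTower A B L] :
    ringKrullDim (L ⧸ (Q.comap (algebraMap A B)).map (algebraMap A L)) =
      ((Q.map (Ideal.Quotient.mk ((Q.comap (algebraMap A B)).map (algebraMap A B)))).height :
        WithBot ℕ∞) := by
  set p := Q.comap (algebraMap A B) with hp
  set I := p.map (algebraMap A B) with hI
  have hIQ : I ≤ Q := Ideal.map_le_iff_le_comap.mpr le_rfl
  have hsurj : Function.Surjective (Ideal.Quotient.mk I) := Ideal.Quotient.mk_surjective
  haveI hQ' : (Q.map (Ideal.Quotient.mk I)).IsPrime :=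
    Ideal.map_isPrime_of_surjective hsurj (by rwa [Ideal.mk_ker])
  have hcomap : (Q.map (Ideal.Quotient.mk I)).comap (Ideal.Quotient.mk I) = Q := by
    rw [Ideal.comap_map_of_surjective _ hsurj, ← RingHom.ker_eq_comap_bot, Ideal.mk_ker,
      sup_eq_left.mpr hIQ]
  have hsub : Algebra.algebraMapSubmonoid (B ⧸ I) Q.primeCompl =
      (Q.map (Ideal.Quotient.mk I)).primeCompl := by
    ext x
    constructor
    · rintro ⟨y, hy, rfl⟩
      intro hmem
      apply hy
      have : y ∈ (Q.map (Ideal.Quotient.mk I)).comap (Ideal.Quotient.mk I) := hmem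
      rwa [hcomap] at this
    · intro hx
      obtain ⟨y, rfl⟩ := hsurj x
      refine ⟨y, ?_, rfl⟩
      intro hy
      exact hx (Ideal.mem_map_of_mem _ hy)
  haveI : IsLocalization.AtPrime
      (L ⧸ I.map (algebraMap B L))
      (Q.map (Ideal.Quotient.mk I)) := by
    rw [IsLocalization.AtPrime, ← hsub]
    infer_instance
  have h1 := IsLocalization.AtPrime.ringKrullDim_eq_height (Q.map (Ideal.Quotient.mk I))
    (L ⧸ I.map (algebraMap B L))
  have hideal : p.map (algebraMap A L) =
      I.map (algebraMap B L) := by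
    rw [hI, Ideal.map_map, ← IsScalarTower.algebraMap_eq]
  rw [← h1]
  exact ringKrullDim_eq_of_ringEquiv (Ideal.quotEquivOfEq hideal)

omit [LocallyOfFiniteType (X ↘ Spec (CommRingCat.of k))] in
/-- The dimension of the local ring at a point is the height of the prime in an affine chart. -/
theorem ringKrullDim_stalk_eq_height {Y : Scheme.{u}} (U : Y.Opens) (hU : IsAffineOpen U)
    (x : U) : ringKrullDim (Y.presheaf.stalk (x : Y)) =
      ((Order.height (hU.primeIdealOf x) : ℕ∞) : WithBot ℕ∞) := by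
  letI algA : Algebra Γ(Y, U) (Y.presheaf.stalk (x : Y)) :=
    TopCat.Presheaf.algebra_section_stalk Y.presheaf x
  haveI := hU.isLocalization_stalk x
  rw [IsLocalization.AtPrime.ringKrullDim_eq_height (hU.primeIdealOf x).asIdeal
    (Y.presheaf.stalk (x : Y)), PrimeSpectrum.height_eq_orderHeight]

/-- The dimension of the fibre ring `O_{X_K,y} / m_x O_{X_K,y}`. -/
theorem ringKrullDim_fibre_stalk (U : X.Opens) (hU : IsAffineOpen U) (y : Curv2.bc k X K)
    (hy : Curv2.bcFst k X K y ∈ U) :
    letI := secAlgebra k X U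
    ringKrullDim ((Curv2.bc k X K).presheaf.stalk y ⧸
      Ideal.map ((Curv2.bcFst k X K).stalkMap y).hom
        (IsLocalRing.maximalIdeal (X.presheaf.stalk (Curv2.bcFst k X K y)))) =
      (((tensorPrime k X K U hU y hy).asIdeal.map (Ideal.Quotient.mk
        ((hU.primeIdealOf ⟨Curv2.bcFst k X K y, hy⟩).asIdeal.map
          (algebraMap Γ(X, U) (Γ(X, U) ⊗[k] K))))).height : WithBot ℕ∞) := by
  letI := secAlgebra k X U
  have hV := isAffineOpen_preimage k X K U hU
  set x := Curv2.bcFst k X K y with hx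
  set q := (hU.primeIdealOf ⟨x, hy⟩).asIdeal with hq
  set Q := (tensorPrime k X K U hU y hy).asIdeal with hQ
  haveI hlo : Q.LiesOver q := tensorPrime_liesOver k X K U hU y hy
  -- the stalk at `y` as a localization of the chart of `X_K`
  letI algB : Algebra Γ(Curv2.bc k X K, (Curv2.bcFst k X K) ⁻¹ᵁ U)
      ((Curv2.bc k X K).presheaf.stalk y) :=
    TopCat.Presheaf.algebra_section_stalk (Curv2.bc k X K).presheaf ⟨y, hy⟩
  haveI locB := hV.isLocalization_stalk ⟨y, hy⟩
  letI algT : Algebra (Γ(X, U) ⊗[k] K) ((Curv2.bc k X K).presheaf.stalk y) :=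
    ((algebraMap Γ(Curv2.bc k X K, (Curv2.bcFst k X K) ⁻¹ᵁ U)
      ((Curv2.bc k X K).presheaf.stalk y)).comp (tensorEquiv k X K U hU).toRingHom).toAlgebra
  haveI locT : IsLocalization.AtPrime ((Curv2.bc k X K).presheaf.stalk y) Q := by
    refine IsLocalization.of_ringEquiv_left (tensorEquiv k X K U hU)
      (M₁ := (hV.primeIdealOf ⟨y, hy⟩).asIdeal.primeCompl) ?_ (fun _ => rfl)
    ext b
    constructor
    · rintro ⟨t, ht, rfl⟩
      exact ht
    · intro hb
      refine ⟨(tensorEquiv k X K U hU).symm b, ?_, by simp⟩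
      intro hmem
      apply hb
      have : (tensorEquiv k X K U hU) ((tensorEquiv k X K U hU).symm b) ∈
          (hV.primeIdealOf ⟨y, hy⟩).asIdeal := hmem
      simpa using this
  letI algS : Algebra Γ(X, U) ((Curv2.bc k X K).presheaf.stalk y) :=
    ((algebraMap (Γ(X, U) ⊗[k] K) ((Curv2.bc k X K).presheaf.stalk y)).comp
      (algebraMap Γ(X, U) (Γ(X, U) ⊗[k] K))).toAlgebra
  haveI : IsScalarTower Γ(X, U) (Γ(X, U) ⊗[k] K) ((Curv2.bc k X K).presheaf.stalk y) :=
    IsScalarTower.of_algebraMap_eq (fun _ => rfl)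
  have h := ringKrullDim_fibLocRing' (A := Γ(X, U)) (B := Γ(X, U) ⊗[k] K) Q
    ((Curv2.bc k X K).presheaf.stalk y)
  have hcomap : Q.comap (algebraMap Γ(X, U) (Γ(X, U) ⊗[k] K)) = q := hlo.over.symm
  rw [hcomap] at h
  rw [← h]
  -- identify the ideals
  letI algA : Algebra Γ(X, U) (X.presheaf.stalk x) :=
    TopCat.Presheaf.algebra_section_stalk X.presheaf ⟨x, hy⟩
  haveI locA := hU.isLocalization_stalk ⟨x, hy⟩
  have hmax : IsLocalRing.maximalIdeal (X.presheaf.stalk x) =
      q.map (algebraMap Γ(X, U) (X.presheaf.stalk x)) :=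
    (IsLocalization.AtPrime.map_eq_maximalIdeal q (X.presheaf.stalk x)).symm
  have hideal : Ideal.map ((Curv2.bcFst k X K).stalkMap y).hom
      (IsLocalRing.maximalIdeal (X.presheaf.stalk x)) =
      q.map (algebraMap Γ(X, U) ((Curv2.bc k X K).presheaf.stalk y)) := by
    rw [hmax, Ideal.map_map]
    congr 1
    ext a
    change ((Curv2.bcFst k X K).stalkMap y).hom ((X.presheaf.germ U x hy).hom a) =
      ((Curv2.bc k X K).presheaf.germ ((Curv2.bcFst k X K) ⁻¹ᵁ U) y hy).hom
        (tensorEquiv k X K U hU (a ⊗ₜ[k] (1 : K)))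
    rw [tensorEquiv_tmul_one]
    exact Scheme.Hom.germ_stalkMap_apply (Curv2.bcFst k X K) U y hy a
  exact ringKrullDim_eq_of_ringEquiv (Ideal.quotEquivOfEq hideal)

end Points

/-- Dimension of a pullback of a scheme locally of finite type over a field along a field
extension. -/
theorem dim_of_isPullback_field {Z Z' : Scheme.{u}} (k K : Type u) [Field k] [Field K]
    (φ : k →+* K) (p : Z ⟶ Spec (CommRingCat.of k)) [LocallyOfFiniteType p] (a : Z' ⟶ Z)
    (b : Z' ⟶ Spec (CommRingCat.of K))
    (h : IsPullback a b p (Spec.map (CommRingCat.ofHom φ))) :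
    topologicalKrullDim ↥Z' = topologicalKrullDim ↥Z := by
  letI : Algebra k K := φ.toAlgebra
  letI : Z.Over (Spec (CommRingCat.of k)) := ⟨p⟩
  haveI : LocallyOfFiniteType (Z ↘ Spec (CommRingCat.of k)) := ‹LocallyOfFiniteType p›
  have e : Z' ≅ Curv2.bc k Z K := h.isoPullback
  rw [← topologicalKrullDim_bc k Z K]
  exact IsHomeomorph.topologicalKrullDim_eq _ (Scheme.homeoOfIso e).isHomeomorph

end Groth.Agent.Lib.Helper12.BaseChange
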