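import Mathlib
import Groth.Prelude.Def_CurvBase
import Groth.Agent.Lib.Helper12.SchemeDimFT2

/-!
# Helper library (helper12): dimension theory of schemes locally of finite type over a field, III

The dimension function `x ↦ trdeg_k κ(x)`; dimension of locally closed subsets; maximal points and
irreducible components.
-/

set_option autoImplicit false

universe u

open AlgebraicGeometry CategoryTheory Opposite

namespace Groth.Agent.Lib.Helper12.SchemeDimFT

open Groth.Agent.Lib.Helper12

attribute [local instance] Curv2.resAlgebra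

section Top

variable {T : Type*} [TopologicalSpace T]

/-- In a quasi-sober `T0` space the dimension is bounded by any strictly monotone `ℕ`-valued
function for the specialization order. -/
theorem topologicalKrullDim_le_of_strictAnti [QuasiSober T] [T0Space T] (tr : T → ℕ)
    (htr : ∀ a b : T, a ⤳ b → a ≠ b → tr b < tr a) (c : WithBot ℕ∞)
    (hc : ∀ t, ((tr t : ℕ) : WithBot ℕ∞) ≤ c) : topologicalKrullDim T ≤ c := by
  letI : PartialOrder T := specializationOrder T
  have h1 : topologicalKrullDim T = Order.krullDim T :=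
    Order.krullDim_eq_of_orderIso (irreducibleSetEquivPoints (α := T))
  rw [h1]
  unfold Order.krullDim
  refine iSup_le fun p => ?_
  have hmono : ∀ i : Fin (p.length + 1), (i : ℕ) ≤ tr (p i) := by
    intro i
    induction i using Fin.induction with
    | zero => exact Nat.zero_le _
    | succ i ih =>
      have hlt : p i.castSucc < p i.succ := p.step i
      have h2 : p i.succ ⤳ p i.castSucc := hlt.le
      have h3 : p i.succ ≠ p i.castSucc := hlt.ne'
      have h4 := htr _ _ h2 h3
      simp only [Fin.val_succ]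
      have : (i : ℕ) ≤ tr (p i.castSucc) := ih
      omega
  have h5 := hmono (Fin.last p.length)
  simp only [Fin.val_last] at h5
  refine le_trans ?_ (hc (p (Fin.last p.length)))
  exact_mod_cast h5

theorem quasiSober_of_isLocallyClosed [QuasiSober T] {Z : Set T} (hZ : IsLocallyClosed Z) :
    QuasiSober Z := by
  obtain ⟨U, C, hU, hC, rfl⟩ := hZ
  haveI : QuasiSober U := hU.isOpenEmbedding_subtypeVal.quasiSober
  exact QuasiSober.inter_of_isClosed_of_quasiSober_left U hC

end Top

section Tr

variable (k : Type u) [Field k] (X : Scheme.{u}) [X.Over (Spec (CommRingCat.of k))]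
  [LocallyOfFiniteType (X ↘ Spec (CommRingCat.of k))]

/-- The dimension function `x ↦ trdeg_k κ(x)` as a natural number. -/
noncomputable def tr (x : X) : ℕ := Cardinal.toNat (Algebra.trdeg k (X.residueField x))

theorem tr_spec (x : X) : Algebra.trdeg k (X.residueField x) = (tr k X x : Cardinal.{u}) := by
  obtain ⟨n, hn⟩ := exists_trdeg_eq k X x
  rw [tr, hn, Cardinal.toNat_natCast]

theorem tr_eq_coheight (U : X.Opens) (hU : IsAffineOpen U) (x : X) (hx : x ∈ U) :
    Order.coheight (hU.primeIdealOf ⟨x, hx⟩) = (tr k X x : ℕ∞) := by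
  obtain ⟨n, hn1, hn2⟩ := exists_trdeg_eq_coheight k X U hU x hx
  have : (n : Cardinal.{u}) = (tr k X x : Cardinal.{u}) := hn1.symm.trans (tr_spec k X x)
  have h : n = tr k X x := by exact_mod_cast this
  rw [hn2, h]

theorem tr_lt_of_specializes (x x' : X) (h : x ⤳ x') (hne : x ≠ x') : tr k X x' < tr k X x := by
  obtain ⟨U, hU, hx'⟩ := exists_affineOpen_mem X x'
  have hx : x ∈ U := h.mem_open U.2 hx'
  have hlt : hU.primeIdealOf ⟨x, hx⟩ < hU.primeIdealOf ⟨x', hx'⟩ :=
    (primeIdealOf_lt_iff hU _ _).mpr ⟨h, hne⟩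
  have h1 := Order.coheight_add_one_le hlt
  rw [tr_eq_coheight k X U hU x hx, tr_eq_coheight k X U hU x' hx'] at h1
  have h2 : tr k X x' + 1 ≤ tr k X x := by exact_mod_cast h1
  omega

theorem tr_le_of_specializes (x x' : X) (h : x ⤳ x') : tr k X x' ≤ tr k X x := by
  by_cases hne : x = x'
  · rw [hne]
  · exact (tr_lt_of_specializes k X x x' h hne).le

/-- Upper bound for the dimension of a locally closed subset. -/
theorem topologicalKrullDim_le_of_isLocallyClosed (Z : Set X) (hZ : IsLocallyClosed Z)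
    (c : WithBot ℕ∞) (hc : ∀ z ∈ Z, ((tr k X z : ℕ) : WithBot ℕ∞) ≤ c) :
    topologicalKrullDim Z ≤ c := by
  haveI : QuasiSober Z := quasiSober_of_isLocallyClosed hZ
  refine topologicalKrullDim_le_of_strictAnti (fun z : Z => tr k X z) ?_ c (fun z => hc z z.2)
  intro a b hab hne
  exact tr_lt_of_specializes k X a b ((subtype_specializes_iff a b).mp hab)
    (fun h => hne (Subtype.ext h))

/-- Lower bound for the dimension of a locally closed subset. -/
theorem le_topologicalKrullDim_of_isLocallyClosed (Z : Set X) (hZ : IsLocallyClosed Z)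
    (z : X) (hz : z ∈ Z) : ((tr k X z : ℕ) : WithBot ℕ∞) ≤ topologicalKrullDim Z := by
  obtain ⟨O, C, hO, hC, rfl⟩ := hZ
  obtain ⟨V, hV, hzV, hVO⟩ := TopologicalSpace.Opens.isBasis_iff_nbhd.mp (X.isBasis_affineOpens)
    (show z ∈ (⟨O, hO⟩ : X.Opens) from hz.1)
  letI := secAlgebra k X V
  haveI := finiteType_sec k X V hV
  set q := hV.primeIdealOf ⟨z, hzV⟩ with hq
  -- the map `Spec (A/q) → Z`
  have hmem : ∀ p : PrimeSpectrum (Γ(X, V) ⧸ q.asIdeal),
      (hV.fromSpec (PrimeSpectrum.comap (Ideal.Quotient.mk q.asIdeal) p) : X) ∈ O ∩ C := by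
    intro p
    set p' := PrimeSpectrum.comap (Ideal.Quotient.mk q.asIdeal) p with hp'
    have hpV : (hV.fromSpec p' : X) ∈ V := by
      have := hV.range_fromSpec
      have h2 : (hV.fromSpec p' : X) ∈ Set.range hV.fromSpec := ⟨p', rfl⟩
      rw [this] at h2
      exact h2
    refine ⟨hVO hpV, ?_⟩
    have hle : q ≤ p' := by
      intro a ha
      change Ideal.Quotient.mk q.asIdeal a ∈ p.asIdeal
      rw [Ideal.Quotient.eq_zero_iff_mem.mpr ha]
      exact zero_mem _
    obtain ⟨y, hy⟩ := exists_primeIdealOf_eq hV p'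
    have hy2 : (hV.fromSpec p' : X) = (y : X) := by
      rw [← hy]; exact hV.fromSpec_primeIdealOf y
    rw [hy2]
    rw [← hy] at hle
    have hsp : z ⤳ (y : X) := (primeIdealOf_le_iff hV ⟨z, hzV⟩ y).mp hle
    exact hC.closure_subset_iff.mpr (Set.singleton_subset_iff.mpr hz.2)
      (specializes_iff_mem_closure.mp hsp)
  let ψ : PrimeSpectrum (Γ(X, V) ⧸ q.asIdeal) → ↥(O ∩ C) := fun p =>
    ⟨hV.fromSpec (PrimeSpectrum.comap (Ideal.Quotient.mk q.asIdeal) p), hmem p⟩
  have hind : Topology.IsInducing ψ := by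
    have hcomp : Topology.IsInducing ((Subtype.val : ↥(O ∩ C) → X) ∘ ψ) := by
      have h1 : Topology.IsInducing (hV.fromSpec : PrimeSpectrum Γ(X, V) → X) :=
        hV.fromSpec.isOpenEmbedding.isInducing
      have h2 : Topology.IsInducing
          (PrimeSpectrum.comap (Ideal.Quotient.mk q.asIdeal) :
            PrimeSpectrum (Γ(X, V) ⧸ q.asIdeal) → PrimeSpectrum Γ(X, V)) :=
        (PrimeSpectrum.isClosedEmbedding_comap_of_surjective _ _
          Ideal.Quotient.mk_surjective).isInducing
      exact h1.comp h2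
    have hψc : Continuous ψ := by
      refine Continuous.subtype_mk ?_ _
      exact hV.fromSpec.continuous.comp (PrimeSpectrum.continuous_comap _)
    exact Topology.IsInducing.of_comp hψc continuous_subtype_val hcomp
  have h3 := hind.topologicalKrullDim_le
  rw [PrimeSpectrum.topologicalKrullDim_eq_ringKrullDim] at h3
  refine le_trans ?_ h3
  obtain ⟨n, -, hn2, hn3⟩ := DimFT2.exists_trdeg_residueField k Γ(X, V) q.asIdeal
  rw [hn2]
  have h4 := tr_eq_coheight k X V hV z hzV
  have h5 : (n : ℕ∞) = (tr k X z : ℕ∞) := hn3.symm.trans h4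
  have h6 : n = tr k X z := by exact_mod_cast h5
  rw [h6]

/-- The dimension of the closure of a point is the transcendence degree of its residue field. -/
theorem topologicalKrullDim_closure_singleton (x : X) :
    topologicalKrullDim (closure ({x} : Set X)) = ((tr k X x : ℕ) : WithBot ℕ∞) := by
  apply le_antisymm
  · refine topologicalKrullDim_le_of_isLocallyClosed k X _ isClosed_closure.isLocallyClosed _ ?_
    intro z hz
    have : x ⤳ z := specializes_iff_mem_closure.mpr hz
    exact_mod_cast tr_le_of_specializes k X x z this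
  · exact le_topologicalKrullDim_of_isLocallyClosed k X _ isClosed_closure.isLocallyClosed x
      (subset_closure rfl)

theorem tr_eq_zero_of_isClosed (x : X) (hx : IsClosed ({x} : Set X)) : tr k X x = 0 := by
  obtain ⟨U, hU, hxU⟩ := exists_affineOpen_mem X x
  have hmax : (hU.primeIdealOf ⟨x, hxU⟩).asIdeal.IsMaximal :=
    hU.primeIdealOf_isMaximal_of_isClosed ⟨x, hxU⟩ hx
  have hco : Order.coheight (hU.primeIdealOf ⟨x, hxU⟩) = 0 := by
    rw [Order.coheight_eq_zero]
    intro q hq
    exact (hmax.eq_of_le q.2.ne_top hq).ge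
  have h := tr_eq_coheight k X U hU x hxU
  rw [hco] at h
  exact_mod_cast h.symm

include k in
/-- Every nonempty locally closed subset contains a closed point of `X`. -/
theorem exists_isClosed_mem_of_isLocallyClosed (Z : Set X) (hZ : IsLocallyClosed Z)
    (hne : Z.Nonempty) : ∃ x ∈ Z, IsClosed ({x} : Set X) := by
  haveI : JacobsonSpace X := LocallyOfFiniteType.jacobsonSpace (X ↘ Spec (CommRingCat.of k))
  obtain ⟨x, hxZ, hx⟩ := nonempty_inter_closedPoints hne hZ
  exact ⟨x, hxZ, hx⟩

end Tr

section Max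

variable {X : Scheme.{u}}

/-- A maximal point (generic point of an irreducible component). -/
def IsMaxPt (x : X) : Prop := ∀ y : X, y ⤳ x → y = x

theorem isMaxPt_iff_height_eq_zero {U : X.Opens} (hU : IsAffineOpen U) (x : U) :
    IsMaxPt (x : X) ↔ Order.height (hU.primeIdealOf x) = 0 := by
  rw [Order.height_eq_zero]
  constructor
  · intro h q hq
    obtain ⟨y, rfl⟩ := exists_primeIdealOf_eq hU q
    have h1 : (y : X) ⤳ (x : X) := (primeIdealOf_le_iff hU y x).mp hq
    have h2 := h y h1
    have h3 : y = x := Subtype.ext h2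
    rw [h3]
  · intro h y hy
    have hyU : y ∈ U := hy.mem_open U.2 x.2
    have h1 : hU.primeIdealOf ⟨y, hyU⟩ ≤ hU.primeIdealOf x :=
      (primeIdealOf_le_iff hU ⟨y, hyU⟩ x).mpr hy
    have h2 := h h1
    have h3 : (x : X) ⤳ y := (primeIdealOf_le_iff hU x ⟨y, hyU⟩).mp h2
    exact (hy.antisymm h3).eq

theorem exists_isMaxPt_specializes (x : X) : ∃ η : X, IsMaxPt η ∧ η ⤳ x := by
  obtain ⟨U, hU, hx⟩ := TopologicalSpace.Opens.isBasis_iff_nbhd.mp (X.isBasis_affineOpens)
    (show x ∈ (⊤ : X.Opens) from trivial)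
  obtain ⟨P, hP, hPle⟩ := Ideal.exists_minimalPrimes_le (I := (⊥ : Ideal Γ(X, U)))
    (J := (hU.primeIdealOf ⟨x, hx.1⟩).asIdeal) bot_le
  obtain ⟨y, hy⟩ := exists_primeIdealOf_eq hU ⟨P, hP.1.1⟩
  refine ⟨y, ?_, ?_⟩
  · rw [isMaxPt_iff_height_eq_zero hU y, hy, Order.height_eq_zero]
    intro q hq
    exact hP.2 ⟨q.2, bot_le⟩ hq
  · refine (primeIdealOf_le_iff hU y ⟨x, hx.1⟩).mp ?_
    rw [hy]
    exact hPle

theorem mem_irreducibleComponents_iff (T : Set X) :
    T ∈ irreducibleComponents X ↔ ∃ η : X, IsMaxPt η ∧ T = closure {η} := by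
  constructor
  · intro hT
    obtain ⟨η, hη⟩ := QuasiSober.sober hT.1 (isClosed_of_mem_irreducibleComponents T hT)
    have h1 : T = closure {η} := hη.def.symm
    refine ⟨η, ?_, h1⟩
    rw [h1] at hT
    exact (closure_singleton_mem_irreducibleComponents_iff η).mp hT
  · rintro ⟨η, hη, rfl⟩
    exact (closure_singleton_mem_irreducibleComponents_iff η).mpr hη

end Max

end Groth.Agent.Lib.Helper12.SchemeDimFT
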