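import Mathlib
import Groth.Prelude.Def_CurvBase
import Groth.Agent.Lib.Helper12.BaseChange
import Groth.Agent.Lib.Helper12.SchemeDimFT3

/-!
# Helper library (helper12): irreducible components under base change to a field extension
-/

set_option autoImplicit false
universe u
open AlgebraicGeometry CategoryTheory Opposite TensorProduct Limits

namespace Groth.Agent.Lib.Helper12.BaseChange

open Groth.Agent.Lib.Helper12 Groth.Agent.Lib.Helper12.SchemeDimFT

variable (k : Type u) [Field k] (X : Scheme.{u}) [X.Over (Spec (CommRingCat.of k))]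
  (K : Type u) [Field K] [Algebra k K] [LocallyOfFiniteType (X ↘ Spec (CommRingCat.of k))]

attribute [local instance] bcOver
attribute [local instance] Algebra.TensorProduct.rightAlgebra

/-- The image of a maximal point of `X_K` is a maximal point of `X`. -/
theorem isMaxPt_bcFst (η : Curv2.bc k X K) (h : IsMaxPt η) : IsMaxPt (Curv2.bcFst k X K η) := by
  obtain ⟨U, hU, hy⟩ := exists_affineOpen_mem X (Curv2.bcFst k X K η)
  letI := secAlgebra k X U
  haveI := finiteType_sec k X U hU
  have hV := isAffineOpen_preimage k X K U hU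
  have h0 : Order.height (hV.primeIdealOf ⟨η, hy⟩) = 0 :=
    (isMaxPt_iff_height_eq_zero hV ⟨η, hy⟩).mp h
  rw [← height_tensorPrime k X K U hU η hy] at h0
  haveI := tensorPrime_liesOver k X K U hU η hy
  have h1 := DimFT2.height_eq_height_add_fibre k Γ(X, U) K
    (hU.primeIdealOf ⟨Curv2.bcFst k X K η, hy⟩).asIdeal (tensorPrime k X K U hU η hy).asIdeal
  rw [PrimeSpectrum.height_eq_orderHeight, h0] at h1
  have h2 : (hU.primeIdealOf ⟨Curv2.bcFst k X K η, hy⟩).asIdeal.height = 0 := by
    have := h1.symm
    exact (add_eq_zero.mp this).1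
  rw [PrimeSpectrum.height_eq_orderHeight] at h2
  exact (isMaxPt_iff_height_eq_zero hU ⟨_, hy⟩).mpr h2

/-- At maximal points of `X_K` the transcendence degree agrees with that of the image. -/
theorem tr_eq_of_isMaxPt (η : Curv2.bc k X K) (h : IsMaxPt η) :
    tr K (Curv2.bc k X K) η = tr k X (Curv2.bcFst k X K η) := by
  obtain ⟨U, hU, hy⟩ := exists_affineOpen_mem X (Curv2.bcFst k X K η)
  have hV := isAffineOpen_preimage k X K U hU
  have h0 : Order.height (hV.primeIdealOf ⟨η, hy⟩) = 0 :=
    (isMaxPt_iff_height_eq_zero hV ⟨η, hy⟩).mp h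
  have h0' : Order.height (hU.primeIdealOf ⟨Curv2.bcFst k X K η, hy⟩) = 0 :=
    (isMaxPt_iff_height_eq_zero hU ⟨_, hy⟩).mp (isMaxPt_bcFst k X K η h)
  have h1 := height_add_coheight_bc k X K U hU η hy
  rw [h0, h0', zero_add, zero_add, tr_eq_coheight K (Curv2.bc k X K) _ hV η hy,
    tr_eq_coheight k X U hU _ hy] at h1
  exact_mod_cast h1

/-- Above every maximal point of `X` there is a maximal point of `X_K`. -/
theorem exists_isMaxPt_over (ξ : X) (h : IsMaxPt ξ) :
    ∃ η : Curv2.bc k X K, IsMaxPt η ∧ Curv2.bcFst k X K η = ξ := by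
  obtain ⟨y, rfl⟩ := surjective_bcFst k X K ξ
  obtain ⟨η, hη, hsp⟩ := exists_isMaxPt_specializes y
  refine ⟨η, hη, ?_⟩
  exact h _ (hsp.map (Curv2.bcFst k X K).continuous)

/-- The set of dimensions of irreducible components is invariant under base change to a field
extension. -/
theorem dims_irreducibleComponents_bc :
    (fun Z : Set (Curv2.bc k X K) => topologicalKrullDim Z) ''
        irreducibleComponents (Curv2.bc k X K) =
      (fun Z : Set X => topologicalKrullDim Z) '' irreducibleComponents X := by
  ext d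
  constructor
  · rintro ⟨T, hT, rfl⟩
    obtain ⟨η, hη, rfl⟩ := (mem_irreducibleComponents_iff T).mp hT
    refine ⟨closure {Curv2.bcFst k X K η},
      (mem_irreducibleComponents_iff _).mpr ⟨_, isMaxPt_bcFst k X K η hη, rfl⟩, ?_⟩
    simp only
    rw [topologicalKrullDim_closure_singleton k X, topologicalKrullDim_closure_singleton K,
      tr_eq_of_isMaxPt k X K η hη]
  · rintro ⟨T, hT, rfl⟩
    obtain ⟨ξ, hξ, rfl⟩ := (mem_irreducibleComponents_iff T).mp hT
    obtain ⟨η, hη, rfl⟩ := exists_isMaxPt_over k X K ξ hξ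
    refine ⟨closure {η}, (mem_irreducibleComponents_iff _).mpr ⟨_, hη, rfl⟩, ?_⟩
    simp only
    rw [topologicalKrullDim_closure_singleton k X, topologicalKrullDim_closure_singleton K,
      tr_eq_of_isMaxPt k X K η hη]


section General

theorem dims_irreducibleComponents_subset_of_homeomorph {A B : Type*} [TopologicalSpace A]
    [TopologicalSpace B] (h : A ≃ₜ B) :
    (fun T : Set A => topologicalKrullDim T) '' irreducibleComponents A ⊆
      (fun T : Set B => topologicalKrullDim T) '' irreducibleComponents B := by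
  rintro d ⟨T, hT, rfl⟩
  refine ⟨h '' T, ?_, ?_⟩
  · refine ⟨hT.1.image h h.continuous.continuousOn, ?_⟩
    intro S hS hTS
    have h1 : IsIrreducible (h.symm '' S) := hS.image h.symm h.symm.continuous.continuousOn
    have h2 : T ⊆ h.symm '' S := by
      intro t ht
      exact ⟨h t, hTS ⟨t, ht, rfl⟩, by simp⟩
    have h3 := hT.2 h1 h2
    intro s hs
    have ht : h.symm s ∈ T := h3 ⟨s, hs, rfl⟩
    exact ⟨h.symm s, ht, by simp⟩
  · simp only
    exact (IsHomeomorph.topologicalKrullDim_eq _ (h.image T).isHomeomorph).symm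

theorem dims_irreducibleComponents_of_homeomorph {A B : Type*} [TopologicalSpace A]
    [TopologicalSpace B] (h : A ≃ₜ B) :
    (fun T : Set A => topologicalKrullDim T) '' irreducibleComponents A =
      (fun T : Set B => topologicalKrullDim T) '' irreducibleComponents B :=
  Set.Subset.antisymm (dims_irreducibleComponents_subset_of_homeomorph h)
    (dims_irreducibleComponents_subset_of_homeomorph h.symm)

/-- Dimensions of irreducible components of a pullback along a field extension. -/
theorem dims_irreducibleComponents_of_isPullback_field {Z Z' : Scheme.{u}} (k K : Type u)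
    [Field k] [Field K] (φ : k →+* K) (p : Z ⟶ Spec (CommRingCat.of k)) [LocallyOfFiniteType p]
    (a : Z' ⟶ Z) (b : Z' ⟶ Spec (CommRingCat.of K))
    (h : IsPullback a b p (Spec.map (CommRingCat.ofHom φ))) :
    (fun T : Set Z' => topologicalKrullDim T) '' irreducibleComponents Z' =
      (fun T : Set Z => topologicalKrullDim T) '' irreducibleComponents Z := by
  letI : Algebra k K := φ.toAlgebra
  letI : Z.Over (Spec (CommRingCat.of k)) := ⟨p⟩
  haveI : LocallyOfFiniteType (Z ↘ Spec (CommRingCat.of k)) := ‹LocallyOfFiniteType p›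
  have e : Z' ≅ Curv2.bc k Z K := h.isoPullback
  rw [← dims_irreducibleComponents_bc k Z K]
  exact dims_irreducibleComponents_of_homeomorph (Scheme.homeoOfIso e)

/-- Local dimensions in a pullback along a field extension. -/
theorem localDim_of_isPullback_field {Z Z' : Scheme.{u}} (k K : Type u)
    [Field k] [Field K] (φ : k →+* K) (p : Z ⟶ Spec (CommRingCat.of k)) [LocallyOfFiniteType p]
    (a : Z' ⟶ Z) (b : Z' ⟶ Spec (CommRingCat.of K))
    (h : IsPullback a b p (Spec.map (CommRingCat.ofHom φ))) (z' : Z') :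
    FlatMor.localDim Z' z' = FlatMor.localDim Z (a z') := by
  letI : Algebra k K := φ.toAlgebra
  letI : Z.Over (Spec (CommRingCat.of k)) := ⟨p⟩
  haveI : LocallyOfFiniteType (Z ↘ Spec (CommRingCat.of k)) := ‹LocallyOfFiniteType p›
  have h1 := localDim_eq_of_isOpenEmbedding (h.isoPullback.hom : Z' → Curv2.bc k Z K)
    (Scheme.homeoOfIso h.isoPullback).isOpenEmbedding z'
  rw [h1]
  have h3 := localDim_bc k Z K (h.isoPullback.hom z')
  refine h3.trans ?_
  congr 1
  have h2 : h.isoPullback.hom ≫ Curv2.bcFst k Z K = a := h.isoPullback_hom_fst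
  exact congrArg (fun ψ : Z' ⟶ Z => ψ z') h2

/-- The local dimension of a fibre at a point depends only on the image of the point. -/
theorem localDim_fiber_congr {X Y : Scheme.{u}} (f : X ⟶ Y) {y₁ y₂ : Y} (hy : y₁ = y₂)
    (z₁ : f.fiber y₁) (z₂ : f.fiber y₂) (hz : f.fiberι y₁ z₁ = f.fiberι y₂ z₂) :
    FlatMor.localDim (f.fiber y₁) z₁ = FlatMor.localDim (f.fiber y₂) z₂ := by
  subst hy
  have : z₁ = z₂ := (f.fiberι y₁).isEmbedding.injective hz
  rw [this]

end General

end Groth.Agent.Lib.Helper12.BaseChange
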