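import Mathlib
import Groth.Prelude.Def_Flat
import Groth.Agent.Lib.Helper12.SchemeDimFT

/-!
# Helper library (helper12): the local dimension of the topological fibre
-/

set_option autoImplicit false
universe u
open AlgebraicGeometry CategoryTheory TopologicalSpace

namespace Groth.Agent.Lib.Helper12.TopFibreDim

open Groth.Agent.Lib.Helper12.SchemeDimFT

/-- The local dimension at `x` of the topological fibre of `f` through `x`. -/
noncomputable def topFibreDim {X Y : Type*} [TopologicalSpace X] [TopologicalSpace Y] (f : X → Y)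
    (x : X) : WithBot ℕ∞ :=
  FlatMor.localDim (f ⁻¹' {f x}) ⟨x, rfl⟩

section Top

variable {X Y Z U : Type*} [TopologicalSpace X] [TopologicalSpace Y] [TopologicalSpace Z]
  [TopologicalSpace U]

theorem localDim_homeomorph (e : X ≃ₜ Y) (x : X) :
    FlatMor.localDim X x = FlatMor.localDim Y (e x) :=
  localDim_eq_of_isOpenEmbedding e e.isOpenEmbedding x

theorem localDim_setCongr {s t : Set X} (h : s = t) (x : X) (hx : x ∈ s) :
    FlatMor.localDim s ⟨x, hx⟩ = FlatMor.localDim t ⟨x, h ▸ hx⟩ := by
  subst h; rfl

/-- Precomposition with an open embedding does not change the fibre dimension. -/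
theorem topFibreDim_comp_isOpenEmbedding (f : X → Y) (j : U → X) (hj : Topology.IsOpenEmbedding j)
    (u : U) : topFibreDim (f ∘ j) u = topFibreDim f (j u) := by
  unfold topFibreDim
  exact localDim_eq_of_isOpenEmbedding ((f ⁻¹' {f (j u)}).restrictPreimage j)
    ((f ⁻¹' {f (j u)}).restrictPreimage_isOpenEmbedding hj) ⟨u, rfl⟩

/-- Postcomposition with an injective map does not change the fibre dimension. -/
theorem topFibreDim_comp_injective (f : X → Y) (i : Y → Z) (hi : Function.Injective i) (x : X) :
    topFibreDim (i ∘ f) x = topFibreDim f x := by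
  unfold topFibreDim
  have h : (i ∘ f) ⁻¹' {(i ∘ f) x} = f ⁻¹' {f x} := by
    ext z
    simp only [Set.mem_preimage, Function.comp_apply, Set.mem_singleton_iff]
    exact hi.eq_iff
  exact localDim_setCongr h x rfl

theorem topFibreDim_congr {f g : X → Y} (h : f = g) (x : X) : topFibreDim f x = topFibreDim g x := by
  subst h; rfl

/-- The local dimension of an open subset of a fibre bounds the fibre dimension. -/
theorem topFibreDim_le_of_mem (f : X → Y) (x : X) (O : Set X) (hO : IsOpen O) (hx : x ∈ O) :
    topFibreDim f x ≤ topologicalKrullDim ((Subtype.val : f ⁻¹' {f x} → X) ⁻¹' O) := by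
  unfold topFibreDim
  exact Groth.Agent.Lib.Helper9.localDim_le_of_mem
    (⟨(Subtype.val : f ⁻¹' {f x} → X) ⁻¹' O, hO.preimage continuous_subtype_val⟩ :
      Opens (f ⁻¹' {f x})) (x := ⟨x, rfl⟩) hx

end Top

/-- The local dimension of the scheme-theoretic fibre is that of the topological fibre. -/
theorem fibreDimAt_eq_topFibreDim {X S : Scheme.{u}} (f : X ⟶ S) (x : X) :
    FlatMor.fibreDimAt f x = topFibreDim f.base x := by
  unfold FlatMor.fibreDimAt topFibreDim
  have h := localDim_homeomorph (f.fiberHomeo (f.base x)) (f.asFiber x)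
  rw [h]
  congr 1
  exact (f.fiberHomeo (f.base x)).apply_symm_apply _

end Groth.Agent.Lib.Helper12.TopFibreDim
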