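import Mathlib
import Groth.Prelude.Def_Flat
import Groth.Agent.Lib.Helper12.TopFibreDim
import Groth.Agent.Lib.Helper12.IntegralDim
import Groth.Agent.Lib.Helper12.SchemeDimFT3

/-!
# Helper library (helper12): Chevalley's upper semicontinuity of the fibre dimension

The local dimension of the fibre through a point is an upper semicontinuous function on the source
of a morphism locally of finite type. The proof is the classical one: near a point `x` with fibre
dimension `≤ n`, a Noether normalization of the fibre lifts to a map to `𝔸ⁿ` which is quasi-finite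
at `x`; the quasi-finite locus is open (Zariski's main theorem, from Mathlib) and over it the fibre
dimension is at most `n`.
-/

set_option autoImplicit false
universe u
open AlgebraicGeometry CategoryTheory TopologicalSpace TensorProduct

namespace Groth.Agent.Lib.Helper12.Chevalley

open Groth.Agent.Lib.Helper12.TopFibreDim Groth.Agent.Lib.Helper12.SchemeDimFT

/-- The set of points isolated in their fibre. -/
def isolatedSet {X Y : Type*} [TopologicalSpace X] [TopologicalSpace Y] (f : X → Y) : Set X :=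
  {x | IsOpen ({⟨x, rfl⟩} : Set (f ⁻¹' {f x}))}

theorem mem_isolatedSet_iff {X Y : Type*} [TopologicalSpace X] [TopologicalSpace Y] (f : X → Y)
    (x : X) : x ∈ isolatedSet f ↔ ∃ O : Set X, IsOpen O ∧ ∀ z, f z = f x → (z ∈ O ↔ z = x) := by
  unfold isolatedSet
  simp only [Set.mem_setOf_eq]
  rw [isOpen_induced_iff]
  constructor
  · rintro ⟨O, hO, hOeq⟩
    refine ⟨O, hO, fun z hz => ?_⟩
    have : (⟨z, hz⟩ : f ⁻¹' {f x}) ∈ Subtype.val ⁻¹' O ↔ (⟨z, hz⟩ : f ⁻¹' {f x}) ∈
        ({⟨x, rfl⟩} : Set (f ⁻¹' {f x})) := by rw [hOeq]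
    simpa [Subtype.ext_iff] using this
  · rintro ⟨O, hO, h⟩
    refine ⟨O, hO, ?_⟩
    ext ⟨z, hz⟩
    simpa [Subtype.ext_iff] using h z hz

theorem isOpen_isolatedSet_scheme {X Y : Scheme.{u}} (f : X ⟶ Y) [LocallyOfFiniteType f] :
    IsOpen (isolatedSet f.base) := by
  have h := f.isOpen_quasiFiniteAt
  have heq : isolatedSet f.base = {x | f.QuasiFiniteAt x} := by
    ext x
    simp only [isolatedSet, Set.mem_setOf_eq]
    rw [Scheme.Hom.quasiFiniteAt_iff_isOpen_singleton_asFiber,
      ← (f.fiberHomeo (f x)).isOpen_image]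
    simp only [Set.image_singleton, Scheme.Hom.asFiber, Homeomorph.apply_symm_apply]
  rw [heq]
  exact h

theorem isOpen_isolatedSet_comap {R S : Type u} [CommRing R] [CommRing S] (φ : R →+* S)
    (hφ : φ.FiniteType) : IsOpen (isolatedSet (PrimeSpectrum.comap φ)) := by
  haveI : LocallyOfFiniteType (Spec.map (CommRingCat.ofHom φ)) := by
    rw [HasRingHomProperty.Spec_iff (P := @LocallyOfFiniteType)]
    exact hφ
  exact isOpen_isolatedSet_scheme (Spec.map (CommRingCat.ofHom φ))

section Fiber

variable {A R B : Type u} [CommRing A] [CommRing R] [CommRing B] [Algebra A R] [Algebra A B]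

theorem symm_coe (p : PrimeSpectrum A) (Q : PrimeSpectrum (p.asIdeal.Fiber B)) :
    ((PrimeSpectrum.preimageHomeomorphFiber A B p).symm Q).1 =
      PrimeSpectrum.comap (Algebra.TensorProduct.includeRight :
        B →ₐ[A] p.asIdeal.Fiber B).toRingHom Q := rfl

theorem comap_includeRight_apply (p : PrimeSpectrum A) (z : PrimeSpectrum B)
    (hz : PrimeSpectrum.comap (algebraMap A B) z = p) :
    PrimeSpectrum.comap (Algebra.TensorProduct.includeRight :
        B →ₐ[A] p.asIdeal.Fiber B).toRingHom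
      (PrimeSpectrum.preimageHomeomorphFiber A B p ⟨z, hz⟩) = z := by
  rw [← symm_coe, Homeomorph.symm_apply_apply]

theorem comap_includeRight_injective (p : PrimeSpectrum A) :
    Function.Injective (PrimeSpectrum.comap (Algebra.TensorProduct.includeRight :
        B →ₐ[A] p.asIdeal.Fiber B).toRingHom) := by
  intro P₁ P₂ h
  have : (PrimeSpectrum.preimageHomeomorphFiber A B p).symm P₁ =
      (PrimeSpectrum.preimageHomeomorphFiber A B p).symm P₂ := Subtype.ext h
  exact (PrimeSpectrum.preimageHomeomorphFiber A B p).symm.injective this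

/-- The map on fibres induced by an algebra homomorphism. -/
noncomputable abbrev fiberMap (φ : R →ₐ[A] B) (p : PrimeSpectrum A) :
    p.asIdeal.Fiber R →ₐ[p.asIdeal.ResidueField] p.asIdeal.Fiber B :=
  Algebra.TensorProduct.map (AlgHom.id p.asIdeal.ResidueField p.asIdeal.ResidueField) φ

theorem comap_fiberMap (φ : R →ₐ[A] B) (p : PrimeSpectrum A) (z : PrimeSpectrum B)
    (hz : PrimeSpectrum.comap (algebraMap A B) z = p) :
    PrimeSpectrum.comap (Algebra.TensorProduct.includeRight :
        R →ₐ[A] p.asIdeal.Fiber R).toRingHom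
      (PrimeSpectrum.comap (fiberMap φ p).toRingHom
        (PrimeSpectrum.preimageHomeomorphFiber A B p ⟨z, hz⟩)) =
    PrimeSpectrum.comap φ.toRingHom z := by
  have h1 : (fiberMap φ p).toRingHom.comp (Algebra.TensorProduct.includeRight :
        R →ₐ[A] p.asIdeal.Fiber R).toRingHom =
      (Algebra.TensorProduct.includeRight : B →ₐ[A] p.asIdeal.Fiber B).toRingHom.comp
        φ.toRingHom := by
    ext r
    simp [fiberMap]
  rw [← PrimeSpectrum.comap_comp_apply, h1, PrimeSpectrum.comap_comp_apply,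
    comap_includeRight_apply]

theorem comap_algebraMap_of_comap_eq (φ : R →ₐ[A] B) (z q : PrimeSpectrum B)
    (h : PrimeSpectrum.comap φ.toRingHom z = PrimeSpectrum.comap φ.toRingHom q) :
    PrimeSpectrum.comap (algebraMap A B) z = PrimeSpectrum.comap (algebraMap A B) q := by
  have h1 : algebraMap A B = φ.toRingHom.comp (algebraMap A R) := by
    ext a; simp
  rw [h1, PrimeSpectrum.comap_comp_apply, PrimeSpectrum.comap_comp_apply, h]

/-- Isolatedness in the fibres can be checked after passing to the fibre rings. -/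
theorem isolated_of_fiber (φ : R →ₐ[A] B) (p : PrimeSpectrum A) (q : PrimeSpectrum B)
    (hq : PrimeSpectrum.comap (algebraMap A B) q = p)
    (h : PrimeSpectrum.preimageHomeomorphFiber A B p ⟨q, hq⟩ ∈
      isolatedSet (PrimeSpectrum.comap (fiberMap φ p).toRingHom)) :
    q ∈ isolatedSet (PrimeSpectrum.comap φ.toRingHom) := by
  rw [mem_isolatedSet_iff] at h ⊢
  obtain ⟨OC, hOC, hOC'⟩ := h
  set eB := PrimeSpectrum.preimageHomeomorphFiber A B p with heB
  have hOF : IsOpen (eB ⁻¹' OC) := hOC.preimage eB.continuous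
  rw [isOpen_induced_iff] at hOF
  obtain ⟨OB, hOB, hOB'⟩ := hOF
  refine ⟨OB, hOB, fun z hz => ?_⟩
  have hzp : PrimeSpectrum.comap (algebraMap A B) z = p := by
    rw [comap_algebraMap_of_comap_eq φ z q hz, hq]
  have h1 : z ∈ OB ↔ eB ⟨z, hzp⟩ ∈ OC := by
    have : (⟨z, hzp⟩ : PrimeSpectrum.comap (algebraMap A B) ⁻¹' {p}) ∈ Subtype.val ⁻¹' OB ↔
        (⟨z, hzp⟩ : PrimeSpectrum.comap (algebraMap A B) ⁻¹' {p}) ∈ eB ⁻¹' OC := by rw [hOB']
    exact this
  have h2 : PrimeSpectrum.comap (fiberMap φ p).toRingHom (eB ⟨z, hzp⟩) =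
      PrimeSpectrum.comap (fiberMap φ p).toRingHom (eB ⟨q, hq⟩) := by
    apply comap_includeRight_injective (A := A) (B := R) p
    rw [comap_fiberMap, comap_fiberMap, hz]
  rw [h1, hOC' _ h2]
  constructor
  · intro h3
    have := eB.injective h3
    exact congrArg Subtype.val this
  · rintro rfl
    rfl

/-- All points are isolated in the fibres of a finite ring map. -/
theorem isolatedSet_eq_univ_of_finite {R S : Type u} [CommRing R] [CommRing S] (ψ : R →+* S)
    (hψ : ψ.Finite) : isolatedSet (PrimeSpectrum.comap ψ) = Set.univ := by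
  letI := ψ.toAlgebra
  haveI : Module.Finite R S := hψ
  ext Q
  simp only [Set.mem_univ, iff_true]
  have h := Algebra.QuasiFinite.isDiscrete_comap_preimage_singleton (R := R) (S := S)
    (PrimeSpectrum.comap ψ Q)
  haveI : DiscreteTopology (PrimeSpectrum.comap ψ ⁻¹' {PrimeSpectrum.comap ψ Q}) := h.to_subtype
  show IsOpen ({⟨Q, rfl⟩} : Set (PrimeSpectrum.comap ψ ⁻¹' {PrimeSpectrum.comap ψ Q}))
  exact isOpen_discrete _

theorem fiberMap_finite_aux [Algebra.FiniteType A B] (p : PrimeSpectrum A) (n : ℕ)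
    [Nontrivial (p.asIdeal.Fiber B)]
    (hdim : ringKrullDim (p.asIdeal.Fiber B) ≤ n) :
    ∃ b : Fin n → B,
      (fiberMap (MvPolynomial.aeval b : MvPolynomial (Fin n) A →ₐ[A] B) p).Finite := by
  classical
  set k := p.asIdeal.ResidueField with hk
  set C := p.asIdeal.Fiber B with hC
  obtain ⟨s, g₀, hinj, hfin⟩ := exists_finite_inj_algHom_of_fg k C
  -- `s ≤ n`
  have hsn : s ≤ n := by
    letI : Algebra (MvPolynomial (Fin s) k) C := g₀.toRingHom.toAlgebra
    haveI : Module.Finite (MvPolynomial (Fin s) k) C := hfin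
    haveI : Algebra.IsIntegral (MvPolynomial (Fin s) k) C := Algebra.IsIntegral.of_finite _ _
    have h1 := Groth.Agent.Lib.Helper12.ringKrullDim_le_of_isIntegral_of_injective
      (R := MvPolynomial (Fin s) k) (S := C) hinj
    rw [Groth.Agent.Lib.Helper12.ringKrullDim_mvPolynomial_field] at h1
    have h2 := h1.trans hdim
    exact_mod_cast h2
  -- choose lifts
  have hlift : ∀ i : Fin s, ∃ r : A, r ∉ p.asIdeal ∧ ∃ b : B,
      r • g₀ (MvPolynomial.X i) = (1 : k) ⊗ₜ[A] b := fun i =>
    Ideal.Fiber.exists_smul_eq_one_tmul p.asIdeal (g₀ (MvPolynomial.X i))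
  choose r hr bb hbb using hlift
  let b : Fin n → B := fun j => if h : j.val < s then bb ⟨j.val, h⟩ else 0
  have hb : ∀ i : Fin s, b (Fin.castLE hsn i) = bb i := by
    intro i
    simp [b]
  refine ⟨b, ?_⟩
  set φ : MvPolynomial (Fin n) A →ₐ[A] B := MvPolynomial.aeval b with hφ
  have hrbar : ∀ i, algebraMap A k (r i) ≠ 0 := fun i h =>
    hr i (Ideal.algebraMap_residueField_eq_zero.mp h)
  let θ : MvPolynomial (Fin s) k →ₐ[k] p.asIdeal.Fiber (MvPolynomial (Fin n) A) :=
    MvPolynomial.aeval (fun i => (algebraMap A k (r i))⁻¹ •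
      ((1 : k) ⊗ₜ[A] (MvPolynomial.X (Fin.castLE hsn i) : MvPolynomial (Fin n) A)))
  have hcomp : (fiberMap φ p).comp θ = g₀ := by
    apply MvPolynomial.algHom_ext
    intro i
    simp only [AlgHom.coe_comp, Function.comp_apply, θ, MvPolynomial.aeval_X, map_smul]
    simp only [fiberMap, Algebra.TensorProduct.map_tmul, AlgHom.coe_id, id_eq, hφ,
      MvPolynomial.aeval_X, hb]
    rw [← hbb i, algebra_compatible_smul k (r i), smul_smul, inv_mul_cancel₀ (hrbar i), one_smul]
  have h3 : ((fiberMap φ p).comp θ).Finite := by rw [hcomp]; exact hfin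
  exact AlgHom.Finite.of_comp_finite h3

theorem ringKrullDim_fiber_mvPolynomial (p : PrimeSpectrum A) (n : ℕ) :
    ringKrullDim (p.asIdeal.Fiber (MvPolynomial (Fin n) A)) = n := by
  rw [ringKrullDim_eq_of_ringEquiv
    (MvPolynomial.algebraTensorAlgEquiv (σ := Fin n) A p.asIdeal.ResidueField).toRingEquiv]
  exact Groth.Agent.Lib.Helper12.ringKrullDim_mvPolynomial_field _ n

theorem quasiSober_fiber (p : PrimeSpectrum A) :
    QuasiSober (PrimeSpectrum.comap (algebraMap A B) ⁻¹' {p}) :=
  (PrimeSpectrum.preimageHomeomorphFiber A B p).isOpenEmbedding.quasiSober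

/-- Over an open set of points isolated in the fibres of `Spec B → 𝔸ⁿ_A`, the fibres of
`Spec B → Spec A` have dimension at most `n`. -/
theorem topFibreDim_le_of_isolated (n : ℕ) (φ : MvPolynomial (Fin n) A →ₐ[A] B)
    (O : Set (PrimeSpectrum B)) (hO : IsOpen O)
    (hOiso : O ⊆ isolatedSet (PrimeSpectrum.comap φ.toRingHom)) (q : PrimeSpectrum B)
    (hq : q ∈ O) : topFibreDim (PrimeSpectrum.comap (algebraMap A B)) q ≤ n := by
  set p := PrimeSpectrum.comap (algebraMap A B) q with hp
  refine (topFibreDim_le_of_mem _ q O hO hq).trans ?_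
  haveI := quasiSober_fiber (A := A) (B := B) p
  have hTopen : IsOpen ((Subtype.val : PrimeSpectrum.comap (algebraMap A B) ⁻¹' {p} →
      PrimeSpectrum B) ⁻¹' O) := hO.preimage continuous_subtype_val
  haveI : QuasiSober ((Subtype.val : PrimeSpectrum.comap (algebraMap A B) ⁻¹' {p} →
      PrimeSpectrum B) ⁻¹' O) := hTopen.isOpenEmbedding_subtypeVal.quasiSober
  set R := MvPolynomial (Fin n) A with hR
  let eR := PrimeSpectrum.preimageOrderIsoFiber A R p
  have hΦ : ∀ z : PrimeSpectrum B, PrimeSpectrum.comap (algebraMap A B) z = p →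
      PrimeSpectrum.comap (algebraMap A R) (PrimeSpectrum.comap φ.toRingHom z) = p := by
    intro z hz
    rw [← PrimeSpectrum.comap_comp_apply, ← hz]
    congr 2
    ext a; simp
  let Φ : ((Subtype.val : PrimeSpectrum.comap (algebraMap A B) ⁻¹' {p} →
      PrimeSpectrum B) ⁻¹' O) → PrimeSpectrum (p.asIdeal.Fiber R) := fun z =>
    eR ⟨PrimeSpectrum.comap φ.toRingHom z.1.1, hΦ z.1.1 z.1.2⟩
  have hfin : ∀ P : PrimeSpectrum (p.asIdeal.Fiber R), Order.coheight P ≤ (n : ℕ∞) := by
    intro P
    have h1 := Order.coheight_le_krullDim P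
    have h2 : Order.krullDim (PrimeSpectrum (p.asIdeal.Fiber R)) = n :=
      ringKrullDim_fiber_mvPolynomial p n
    rw [h2] at h1
    exact_mod_cast h1
  refine topologicalKrullDim_le_of_strictAnti (fun z => (Order.coheight (Φ z)).toNat) ?_ _ ?_
  · intro a b hab hne
    have h1 : a.1.1 ⤳ b.1.1 :=
      (hab.map continuous_subtype_val).map continuous_subtype_val
    have h2 : a.1.1 ≤ b.1.1 := (PrimeSpectrum.le_iff_specializes _ _).mpr h1
    have h3 : PrimeSpectrum.comap φ.toRingHom a.1.1 ≤ PrimeSpectrum.comap φ.toRingHom b.1.1 :=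
      Ideal.comap_mono h2
    have h4 : PrimeSpectrum.comap φ.toRingHom a.1.1 ≠ PrimeSpectrum.comap φ.toRingHom b.1.1 := by
      intro heq
      have hb : b.1.1 ∈ isolatedSet (PrimeSpectrum.comap φ.toRingHom) := hOiso b.2
      rw [mem_isolatedSet_iff] at hb
      obtain ⟨O', hO', hO''⟩ := hb
      have hbO' : b.1.1 ∈ O' := (hO'' _ rfl).mpr rfl
      have haO' : a.1.1 ∈ O' := h1.mem_open hO' hbO'
      have := (hO'' _ heq).mp haO'
      exact hne (Subtype.ext (Subtype.ext this))
    have h5 : Φ a < Φ b := by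
      apply eR.lt_iff_lt.mpr
      exact lt_of_le_of_ne h3 (fun h => h4 (congrArg Subtype.val h))
    have h6 : Order.coheight (Φ b) < Order.coheight (Φ a) :=
      Order.coheight_strictAnti h5 (lt_of_le_of_lt (hfin _) (by simp))
    have h7 : Order.coheight (Φ a) ≠ ⊤ := ne_top_of_le_ne_top (by simp) (hfin (Φ a))
    have h8 : Order.coheight (Φ b) ≠ ⊤ := ne_top_of_le_ne_top (by simp) (hfin (Φ b))
    have h9a : ((Order.coheight (Φ a)).toNat : ℕ∞) = Order.coheight (Φ a) := ENat.coe_toNat h7
    have h9b : ((Order.coheight (Φ b)).toNat : ℕ∞) = Order.coheight (Φ b) := ENat.coe_toNat h8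
    rw [← h9a, ← h9b] at h6
    exact_mod_cast h6
  · intro t
    have h7 : Order.coheight (Φ t) ≠ ⊤ := ne_top_of_le_ne_top (by simp) (hfin (Φ t))
    have h9 : ((Order.coheight (Φ t)).toNat : ℕ∞) = Order.coheight (Φ t) := ENat.coe_toNat h7
    have h10 : ((Order.coheight (Φ t)).toNat : ℕ∞) ≤ n := by rw [h9]; exact hfin _
    exact_mod_cast h10

theorem comap_algebraMap_away (b₀ : B) (z : PrimeSpectrum (Localization.Away b₀)) :
    PrimeSpectrum.comap (algebraMap A B)
      (PrimeSpectrum.comap (algebraMap B (Localization.Away b₀)) z) =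
    PrimeSpectrum.comap (algebraMap A (Localization.Away b₀)) z := by
  rw [← PrimeSpectrum.comap_comp_apply, ← IsScalarTower.algebraMap_eq]

/-- Shrinking to a basic open, the fibre ring has dimension at most the fibre dimension. -/
theorem exists_away_dim_le (n : ℕ) (q : PrimeSpectrum B)
    (h : topFibreDim (PrimeSpectrum.comap (algebraMap A B)) q ≤ n) :
    ∃ b₀ : B, b₀ ∉ q.asIdeal ∧
      ringKrullDim ((PrimeSpectrum.comap (algebraMap A B) q).asIdeal.Fiber
        (Localization.Away b₀)) ≤ n := by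
  set p := PrimeSpectrum.comap (algebraMap A B) q with hp
  unfold topFibreDim at h
  obtain ⟨⟨U, hxU⟩, hU⟩ := Groth.Agent.Lib.Helper9.exists_opens_localDim_eq
    (⟨q, rfl⟩ : PrimeSpectrum.comap (algebraMap A B) ⁻¹' {p})
  have hUopen := U.2
  rw [isOpen_induced_iff] at hUopen
  obtain ⟨U', hU', hU'eq⟩ := hUopen
  have hqU' : q ∈ U' := by
    have : (⟨q, rfl⟩ : PrimeSpectrum.comap (algebraMap A B) ⁻¹' {p}) ∈ Subtype.val ⁻¹' U' := by
      rw [hU'eq]; exact hxU
    exact this
  obtain ⟨_, ⟨_, ⟨b₀, rfl⟩, rfl⟩, hqb, hbU'⟩ :=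
    PrimeSpectrum.isBasis_basic_opens.exists_subset_of_mem_open hqU' hU'
  refine ⟨b₀, hqb, ?_⟩
  set B' := Localization.Away b₀ with hB'
  have hj := PrimeSpectrum.localization_away_isOpenEmbedding B' b₀
  have hrange := PrimeSpectrum.localization_away_comap_range B' b₀
  have h1 : ∀ z : PrimeSpectrum.comap (algebraMap A B') ⁻¹' {p},
      PrimeSpectrum.comap (algebraMap A B) (PrimeSpectrum.comap (algebraMap B B') z.1) = p := by
    intro z
    rw [comap_algebraMap_away]
    exact z.2
  have h2 : ∀ z : PrimeSpectrum.comap (algebraMap A B') ⁻¹' {p},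
      (⟨PrimeSpectrum.comap (algebraMap B B') z.1, h1 z⟩ :
        PrimeSpectrum.comap (algebraMap A B) ⁻¹' {p}) ∈ U := by
    intro z
    have h3 : PrimeSpectrum.comap (algebraMap B B') z.1 ∈ U' := by
      apply hbU'
      have : PrimeSpectrum.comap (algebraMap B B') z.1 ∈
          Set.range (PrimeSpectrum.comap (algebraMap B B')) := ⟨_, rfl⟩
      rw [hrange] at this
      exact this
    have : (⟨PrimeSpectrum.comap (algebraMap B B') z.1, h1 z⟩ :
        PrimeSpectrum.comap (algebraMap A B) ⁻¹' {p}) ∈ Subtype.val ⁻¹' U' := h3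
    rw [hU'eq] at this
    exact this
  let ι : PrimeSpectrum.comap (algebraMap A B') ⁻¹' {p} →
      (U : Set (PrimeSpectrum.comap (algebraMap A B) ⁻¹' {p})) := fun z =>
    ⟨⟨PrimeSpectrum.comap (algebraMap B B') z.1, h1 z⟩, h2 z⟩
  have hιc : Continuous ι :=
    Continuous.subtype_mk (Continuous.subtype_mk
      (hj.continuous.comp continuous_subtype_val) _) _
  have hι : Topology.IsInducing ι := by
    refine Topology.IsInducing.of_comp hιc
      (continuous_subtype_val.comp continuous_subtype_val :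
        Continuous (fun u : (U : Set (PrimeSpectrum.comap (algebraMap A B) ⁻¹' {p})) =>
          (u.1.1 : PrimeSpectrum B))) ?_
    exact hj.isInducing.comp Topology.IsInducing.subtypeVal
  have h3 := hι.topologicalKrullDim_le
  have h4 : ringKrullDim (p.asIdeal.Fiber B') =
      topologicalKrullDim (PrimeSpectrum.comap (algebraMap A B') ⁻¹' {p}) := by
    rw [← PrimeSpectrum.topologicalKrullDim_eq_ringKrullDim]
    exact (IsHomeomorph.topologicalKrullDim_eq _
      (PrimeSpectrum.preimageHomeomorphFiber A B' p).isHomeomorph).symm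
  rw [h4]
  refine h3.trans ?_
  rw [hU]
  exact h

/-- **Chevalley's theorem, ring level**: for a ring map of finite type, the local dimension of the
fibre through a point is upper semicontinuous on the source. -/
theorem isOpen_setOf_topFibreDim_le [Algebra.FiniteType A B] (n : ℕ) :
    IsOpen {q : PrimeSpectrum B | topFibreDim (PrimeSpectrum.comap (algebraMap A B)) q ≤ n} := by
  rw [isOpen_iff_forall_mem_open]
  intro q hq
  obtain ⟨b₀, hb₀, hdim⟩ := exists_away_dim_le (A := A) n q hq
  set p := PrimeSpectrum.comap (algebraMap A B) q with hp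
  set B' := Localization.Away b₀ with hB'
  haveI : Algebra.FiniteType B B' := IsLocalization.finiteType_of_monoid_fg (Submonoid.powers b₀) B'
  haveI : Algebra.FiniteType A B' :=
    Algebra.FiniteType.trans (S := B) (inferInstance : Algebra.FiniteType A B)
      (inferInstance : Algebra.FiniteType B B')
  have hj := PrimeSpectrum.localization_away_isOpenEmbedding B' b₀
  have hrange := PrimeSpectrum.localization_away_comap_range B' b₀
  obtain ⟨q', hq'⟩ : ∃ q', PrimeSpectrum.comap (algebraMap B B') q' = q := by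
    have : q ∈ Set.range (PrimeSpectrum.comap (algebraMap B B')) := by rw [hrange]; exact hb₀
    exact this
  have hq'p : PrimeSpectrum.comap (algebraMap A B') q' = p := by
    rw [← comap_algebraMap_away, hq']
  haveI : Nontrivial (p.asIdeal.Fiber B') :=
    (PrimeSpectrum.nonempty_iff_nontrivial).mp
      ⟨PrimeSpectrum.preimageHomeomorphFiber A B' p ⟨q', hq'p⟩⟩
  obtain ⟨b, hbfin⟩ := fiberMap_finite_aux (A := A) (B := B') p n hdim
  set φ : MvPolynomial (Fin n) A →ₐ[A] B' := MvPolynomial.aeval b with hφ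
  have hiso : ∀ z, PrimeSpectrum.comap (algebraMap A B') z = p →
      z ∈ isolatedSet (PrimeSpectrum.comap φ.toRingHom) := by
    intro z hz
    apply isolated_of_fiber φ p z hz
    rw [isolatedSet_eq_univ_of_finite _ hbfin]
    trivial
  have hφft : φ.toRingHom.FiniteType := by
    have h1 : (φ.toRingHom.comp (algebraMap A (MvPolynomial (Fin n) A))).FiniteType := by
      have h2 : φ.toRingHom.comp (algebraMap A (MvPolynomial (Fin n) A)) = algebraMap A B' := by
        ext a; simp
      rw [h2]
      exact RingHom.finiteType_algebraMap.mpr inferInstance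
    exact RingHom.FiniteType.of_comp_finiteType h1
  have hopen := isOpen_isolatedSet_comap φ.toRingHom hφft
  refine ⟨PrimeSpectrum.comap (algebraMap B B') '' isolatedSet (PrimeSpectrum.comap φ.toRingHom),
    ?_, hj.isOpenMap _ hopen, ⟨q', hiso q' hq'p, hq'⟩⟩
  rintro _ ⟨z, hz, rfl⟩
  have h1 := topFibreDim_comp_isOpenEmbedding (PrimeSpectrum.comap (algebraMap A B))
    (PrimeSpectrum.comap (algebraMap B B')) hj z
  have h2 : PrimeSpectrum.comap (algebraMap A B) ∘ PrimeSpectrum.comap (algebraMap B B') =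
      PrimeSpectrum.comap (algebraMap A B') := funext (comap_algebraMap_away b₀)
  show topFibreDim _ _ ≤ n
  rw [← h1, topFibreDim_congr h2]
  exact topFibreDim_le_of_isolated n φ _ hopen subset_rfl z hz

end Fiber

/-- The ring-hom form of Chevalley's theorem. -/
theorem isOpen_setOf_topFibreDim_le' {A B : Type u} [CommRing A] [CommRing B] (φ : A →+* B)
    (hφ : φ.FiniteType) (n : ℕ) :
    IsOpen {q : PrimeSpectrum B | topFibreDim (PrimeSpectrum.comap φ) q ≤ n} := by
  letI := φ.toAlgebra
  haveI : Algebra.FiniteType A B := hφ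
  exact isOpen_setOf_topFibreDim_le (A := A) (B := B) n

/-- **Chevalley's theorem**: for a morphism locally of finite type, the local dimension of the
fibre through a point is upper semicontinuous on the source. -/
theorem isOpen_setOf_fibreDimAt_le {X S : Scheme.{u}} (f : X ⟶ S) [LocallyOfFiniteType f] (n : ℕ) :
    IsOpen {x : X | FlatMor.fibreDimAt f x ≤ n} := by
  rw [isOpen_iff_forall_mem_open]
  intro x hx
  obtain ⟨_, ⟨V, hV, rfl⟩, hxV, -⟩ := S.isBasis_affineOpens.exists_subset_of_mem_open
    (Set.mem_univ (f x)) isOpen_univ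
  obtain ⟨_, ⟨U, hU, rfl⟩, hxU, hUV⟩ := X.isBasis_affineOpens.exists_subset_of_mem_open
    hxV (f ⁻¹ᵁ V).2
  have hUV' : U ≤ f ⁻¹ᵁ V := hUV
  have hφ : (f.appLE V U hUV').hom.FiniteType := Scheme.Hom.finiteType_appLE f hV hU hUV'
  have hopen := isOpen_setOf_topFibreDim_le' (f.appLE V U hUV').hom hφ n
  have hsq : Spec.map (f.appLE V U hUV') ≫ hV.fromSpec = hU.fromSpec ≫ f :=
    hV.SpecMap_appLE_fromSpec f hU hUV'
  have hkey : ∀ y : Spec Γ(X, U), FlatMor.fibreDimAt f (hU.fromSpec y) =
      topFibreDim (PrimeSpectrum.comap (f.appLE V U hUV').hom) y := by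
    intro y
    rw [fibreDimAt_eq_topFibreDim]
    rw [← topFibreDim_comp_isOpenEmbedding f.base hU.fromSpec.base hU.fromSpec.isOpenEmbedding y]
    have h1 : (f.base ∘ hU.fromSpec.base : Spec Γ(X, U) → S) =
        hV.fromSpec.base ∘ (Spec.map (f.appLE V U hUV')).base := by
      funext z
      have := congrArg (fun g => g.base z) hsq
      exact this.symm
    rw [topFibreDim_congr h1]
    exact topFibreDim_comp_injective _ _ hV.fromSpec.isOpenEmbedding.injective y
  refine ⟨hU.fromSpec.base '' {q | topFibreDim (PrimeSpectrum.comap (f.appLE V U hUV').hom) q ≤ n},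
    ?_, hU.fromSpec.isOpenEmbedding.isOpenMap _ hopen, ?_⟩
  · rintro _ ⟨y, hy, rfl⟩
    show FlatMor.fibreDimAt f _ ≤ n
    rw [hkey]
    exact hy
  · refine ⟨hU.primeIdealOf ⟨x, hxU⟩, ?_, hU.fromSpec_primeIdealOf ⟨x, hxU⟩⟩
    show topFibreDim _ _ ≤ n
    rw [← hkey, hU.fromSpec_primeIdealOf ⟨x, hxU⟩]
    exact hx

end Groth.Agent.Lib.Helper12.Chevalley
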