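import Groth.Prelude.Def_Curv2
import Mathlib.AlgebraicGeometry.Morphisms.UniversallyOpen
import Mathlib.AlgebraicGeometry.Fiber

/-! Rational points of schemes over a field: the fibre of a base change over a rational point. -/

set_option autoImplicit false
universe u

namespace Groth.Agent.Lib.Helper12

open CategoryTheory CategoryTheory.Limits AlgebraicGeometry

/-- For `f : X ⟶ Spec R` and `x : X`, the composite `Spec κ(x) ⟶ X ⟶ Spec R` is `Spec` of the ring map
`R → Γ(X, ⊤) → O_{X,x} → κ(x)`. -/
lemma fromSpecResidueField_comp_eq {X : Scheme.{u}} (R : CommRingCat.{u}) (f : X ⟶ Spec R) (x : X) :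
    X.fromSpecResidueField x ≫ f =
      Spec.map ((Scheme.ΓSpecIso R).inv ≫ f.appTop ≫ X.presheaf.germ ⊤ x trivial ≫ X.residue x) := by
  obtain ⟨φ, hφ⟩ := Spec.map_surjective (X.fromSpecResidueField x ≫ f)
  rw [← hφ]
  congr 1
  have h1 := Scheme.ΓSpecIso_naturality φ
  rw [hφ] at h1
  have h2 : φ = (Scheme.ΓSpecIso R).inv ≫ (X.fromSpecResidueField x ≫ f).appTop ≫
      (Scheme.ΓSpecIso (X.residueField x)).hom := by
    rw [h1, Iso.inv_hom_id_assoc]
  rw [h2]
  congr 1
  rw [Scheme.Hom.comp_appTop, Category.assoc]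
  congr 1
  rw [Scheme.fromSpecResidueField, Scheme.Hom.comp_appTop, Scheme.fromSpecStalk_appTop,
    Category.assoc, Category.assoc, Category.assoc]
  congr 1
  have h3 : ∀ (h : (⊤ : (Spec (X.presheaf.stalk x)).Opens) ≤ ⊤),
      (Spec (X.presheaf.stalk x)).presheaf.map (homOfLE h).op = 𝟙 _ :=
    fun h => (Spec (X.presheaf.stalk x)).presheaf.map_id _
  erw [h3]
  rw [Category.id_comp, Scheme.ΓSpecIso_naturality, Iso.inv_hom_id_assoc]

/-- The structure morphism restricted to a rational point is an isomorphism. -/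
lemma isIso_fromSpecResidueField_comp_of_surjective (k : Type u) [Field k] (X : Scheme.{u})
    [X.Over (Spec (CommRingCat.of k))] (x : X) (hx : Function.Surjective (Curv2.resMap k X x)) :
    IsIso (X.fromSpecResidueField x ≫ (X ↘ Spec (CommRingCat.of k))) := by
  rw [fromSpecResidueField_comp_eq]
  have hbij : Function.Bijective (Curv2.resMap k X x) := ⟨(Curv2.resMap k X x).injective, hx⟩
  have : IsIso (CommRingCat.ofHom (Curv2.resMap k X x)) :=
    (ConcreteCategory.isIso_iff_bijective _).mpr hbij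
  have heq : (Scheme.ΓSpecIso (CommRingCat.of k)).inv ≫ (X ↘ Spec (CommRingCat.of k)).appTop ≫
      X.presheaf.germ ⊤ x trivial ≫ X.residue x = CommRingCat.ofHom (Curv2.resMap k X x) := rfl
  rw [heq]
  infer_instance

/-- Over a point whose residue field maps isomorphically to the base, the fibre of a base change
to a one-point scheme has at most one point. -/
lemma subsingleton_preimage_of_isIso {P X T S : Scheme.{u}} {fst : P ⟶ X} {snd : P ⟶ T}
    {f : X ⟶ S} {y : T ⟶ S} (h : IsPullback fst snd f y) [Subsingleton T] (x : X)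
    [IsIso (X.fromSpecResidueField x ≫ f)] : (fst ⁻¹' {x}).Subsingleton := by
  have sq1 : IsPullback (fst.fiberι x) (fst.fiberToSpecResidueField x) fst
      (X.fromSpecResidueField x) := IsPullback.of_hasPullback _ _
  have sq := sq1.paste_horiz h.flip
  have hiso : IsIso (fst.fiberι x ≫ snd) := sq.isIso_fst_of_isIso
  have hinj : Function.Injective (fst.fiberι x ≫ snd) := (fst.fiberι x ≫ snd).homeomorph.injective
  have hsub : Subsingleton (fst.fiber x) := ⟨fun a b => hinj (Subsingleton.elim _ _)⟩
  intro z₁ hz₁ z₂ hz₂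
  rw [← fst.range_fiberι x] at hz₁ hz₂
  obtain ⟨t₁, rfl⟩ := hz₁
  obtain ⟨t₂, rfl⟩ := hz₂
  rw [Subsingleton.elim t₁ t₂]

end Groth.Agent.Lib.Helper12
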