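import Mathlib
import Groth.Prelude.Def_CurvBase
import Groth.Agent.Lib.Helper12.SchemeDimFT3
import Groth.Agent.Lib.Helper12.RatPoint

/-!
# Helper library (helper12): residue fields of points of fibres; additivity of transcendence degrees
-/

set_option autoImplicit false
universe u
open AlgebraicGeometry CategoryTheory Opposite Limits

namespace Groth.Agent.Lib.Helper12.FibreRes

open Groth.Agent.Lib.Helper12 Groth.Agent.Lib.Helper12.SchemeDimFT

attribute [local instance] Curv2.resAlgebra

variable (k : Type u) [Field k] {X Y : Scheme.{u}} (q : Y ⟶ Spec (CommRingCat.of k)) (f : X ⟶ Y)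
  (y : Y)

/-- The structure map of the fibre over `k` factors through `Spec κ(y)`. -/
theorem fiber_structure_eq :
    letI : Y.Over (Spec (CommRingCat.of k)) := ⟨q⟩
    f.fiberι y ≫ f ≫ q = f.fiberToSpecResidueField y ≫
      Spec.map (CommRingCat.ofHom (Curv2.resMap k Y y)) := by
  letI : Y.Over (Spec (CommRingCat.of k)) := ⟨q⟩
  rw [← Category.assoc, Scheme.Hom.fiber_fac, Category.assoc]
  congr 1
  exact fromSpecResidueField_comp_eq (CommRingCat.of k) q y

/-- The residue field map of the inclusion of a fibre is bijective. -/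
theorem residueFieldMap_fiberι_bijective (z : f.fiber y) :
    Function.Bijective ((f.fiberι y).residueFieldMap z).hom := by
  refine ⟨RingHom.injective _, ?_⟩
  have hs : Function.Surjective ((f.fiberι y).stalkMap z).hom :=
    (f.fiberι y).stalkMap_surjective z
  exact Ideal.Quotient.lift_surjective_of_surjective _ _
    (Ideal.Quotient.mk_surjective.comp hs)

/-- The `k`-structure on the residue fields of the fibre factors through `κ(y)`. -/
theorem resMap_fiber (z : f.fiber y) (c : k) :
    letI : Y.Over (Spec (CommRingCat.of k)) := ⟨q⟩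
    letI : (f.fiber y).Over (Spec (CommRingCat.of k)) := ⟨f.fiberι y ≫ f ≫ q⟩
    letI ovF : (f.fiber y).Over (Spec (CommRingCat.of (Y.residueField y))) :=
      ⟨f.fiberToSpecResidueField y⟩
    Curv2.resMap k (f.fiber y) z c =
      Curv2.resMap (Y.residueField y) (f.fiber y) z (Curv2.resMap k Y y c) := by
  letI : Y.Over (Spec (CommRingCat.of k)) := ⟨q⟩
  letI : (f.fiber y).Over (Spec (CommRingCat.of k)) := ⟨f.fiberι y ≫ f ≫ q⟩
  letI ovF : (f.fiber y).Over (Spec (CommRingCat.of (Y.residueField y))) :=
    ⟨f.fiberToSpecResidueField y⟩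
  change ((f.fiber y).residue z).hom (((f.fiber y).presheaf.germ ⊤ z trivial).hom
      (Coh.toGlobal (f.fiberι y ≫ f ≫ q) c)) =
    ((f.fiber y).residue z).hom (((f.fiber y).presheaf.germ ⊤ z trivial).hom
      (Coh.toGlobal (f.fiberToSpecResidueField y) (Curv2.resMap k Y y c)))
  congr 2
  rw [fiber_structure_eq k q f y]
  simp only [Coh.toGlobal, Scheme.Hom.comp_appTop, CommRingCat.hom_comp]
  change (f.fiberToSpecResidueField y).appTop.hom
      ((Spec.map (CommRingCat.ofHom (Curv2.resMap k Y y))).appTop.hom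
        ((Scheme.ΓSpecIso (CommRingCat.of k)).inv.hom c)) =
    (f.fiberToSpecResidueField y).appTop.hom
      ((Scheme.ΓSpecIso (CommRingCat.of (Y.residueField y))).inv.hom (Curv2.resMap k Y y c))
  congr 1
  have h := Scheme.ΓSpecIso_inv_naturality (CommRingCat.ofHom (Curv2.resMap k Y y))
  exact (congrArg (fun φ => φ.hom c) h).symm

/-- Additivity of transcendence degrees for points of fibres. -/
theorem trdeg_fiber_add (z : f.fiber y) :
    letI : Y.Over (Spec (CommRingCat.of k)) := ⟨q⟩
    letI : X.Over (Spec (CommRingCat.of k)) := ⟨f ≫ q⟩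
    letI ovF : (f.fiber y).Over (Spec (CommRingCat.of (Y.residueField y))) :=
      ⟨f.fiberToSpecResidueField y⟩
    Algebra.trdeg k (X.residueField (f.fiberι y z)) =
      Algebra.trdeg k (Y.residueField y) +
        Algebra.trdeg (Y.residueField y) ((f.fiber y).residueField z) := by
  letI : Y.Over (Spec (CommRingCat.of k)) := ⟨q⟩
  letI : X.Over (Spec (CommRingCat.of k)) := ⟨f ≫ q⟩
  letI ovF : (f.fiber y).Over (Spec (CommRingCat.of (Y.residueField y))) :=
    ⟨f.fiberToSpecResidueField y⟩
  letI ovFk : (f.fiber y).Over (Spec (CommRingCat.of k)) := ⟨f.fiberι y ≫ f ≫ q⟩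
  haveI : IsScalarTower k (Y.residueField y) ((f.fiber y).residueField z) :=
    IsScalarTower.of_algebraMap_eq (fun c => resMap_fiber k q f y z c)
  have h1 := trdeg_add_eq (R := k) (S := Y.residueField y) (A := (f.fiber y).residueField z)
  rw [h1]
  let ψ : X.residueField (f.fiberι y z) →ₐ[k] (f.fiber y).residueField z :=
    { ((f.fiberι y).residueFieldMap z).hom with
      commutes' := fun c =>
        residueFieldMap_resMap k (f ≫ q) (f.fiberι y ≫ f ≫ q) (f.fiberι y) rfl z c }
  exact (AlgEquiv.ofBijective ψ (residueFieldMap_fiberι_bijective f y z)).trdeg_eq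

section WholeSpace

variable (X : Scheme.{u}) [X.Over (Spec (CommRingCat.of k))]
  [LocallyOfFiniteType (X ↘ Spec (CommRingCat.of k))]

theorem topologicalKrullDim_le_of_forall_tr (c : WithBot ℕ∞)
    (hc : ∀ x : X, ((tr k X x : ℕ) : WithBot ℕ∞) ≤ c) : topologicalKrullDim X ≤ c := by
  refine topologicalKrullDim_le_of_strictAnti (fun x : X => tr k X x) ?_ c hc
  intro a b hab hne
  exact tr_lt_of_specializes k X a b hab hne

theorem tr_le_topologicalKrullDim (x : X) :
    ((tr k X x : ℕ) : WithBot ℕ∞) ≤ topologicalKrullDim X :=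
  trdeg_le_topologicalKrullDim k X x (tr k X x) (tr_spec k X x)

end WholeSpace

instance locallyOfFiniteType_fiberToSpecResidueField [LocallyOfFiniteType f] :
    LocallyOfFiniteType (f.fiberToSpecResidueField y) :=
  MorphismProperty.of_isPullback (P := @LocallyOfFiniteType)
    (IsPullback.of_hasPullback f (Y.fromSpecResidueField y)) inferInstance

/-- Additivity of the dimension function `tr` for points of fibres. -/
theorem tr_fiber_add [LocallyOfFiniteType q] [LocallyOfFiniteType f] (z : f.fiber y) :
    letI : Y.Over (Spec (CommRingCat.of k)) := ⟨q⟩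
    letI : X.Over (Spec (CommRingCat.of k)) := ⟨f ≫ q⟩
    letI ovF : (f.fiber y).Over (Spec (CommRingCat.of (Y.residueField y))) :=
      ⟨f.fiberToSpecResidueField y⟩
    haveI : LocallyOfFiniteType (Y ↘ Spec (CommRingCat.of k)) := ‹LocallyOfFiniteType q›
    haveI : LocallyOfFiniteType (X ↘ Spec (CommRingCat.of k)) :=
      inferInstanceAs (LocallyOfFiniteType (f ≫ q))
    haveI : LocallyOfFiniteType ((f.fiber y) ↘ Spec (CommRingCat.of (Y.residueField y))) :=
      locallyOfFiniteType_fiberToSpecResidueField f y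
    tr k X (f.fiberι y z) = tr k Y y + tr (Y.residueField y) (f.fiber y) z := by
  letI : Y.Over (Spec (CommRingCat.of k)) := ⟨q⟩
  letI : X.Over (Spec (CommRingCat.of k)) := ⟨f ≫ q⟩
  letI ovF : (f.fiber y).Over (Spec (CommRingCat.of (Y.residueField y))) :=
    ⟨f.fiberToSpecResidueField y⟩
  haveI : LocallyOfFiniteType (Y ↘ Spec (CommRingCat.of k)) := ‹LocallyOfFiniteType q›
  haveI : LocallyOfFiniteType (X ↘ Spec (CommRingCat.of k)) :=
    inferInstanceAs (LocallyOfFiniteType (f ≫ q))
  haveI : LocallyOfFiniteType ((f.fiber y) ↘ Spec (CommRingCat.of (Y.residueField y))) :=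
    locallyOfFiniteType_fiberToSpecResidueField f y
  have h := trdeg_fiber_add k q f y z
  rw [tr_spec k X, tr_spec k Y, tr_spec (Y.residueField y) (f.fiber y)] at h
  exact_mod_cast h

end Groth.Agent.Lib.Helper12.FibreRes
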