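import Mathlib
import Groth.Prelude.Def_CurvBase
import Groth.Agent.Lib.Helper12.BaseChange2

/-!
# Helper library (helper12): preimages of irreducible closed subsets under base change to a field
extension
-/

set_option autoImplicit false
universe u
open AlgebraicGeometry CategoryTheory Opposite TensorProduct Limits

namespace Groth.Agent.Lib.Helper12.BaseChange

open Groth.Agent.Lib.Helper12 Groth.Agent.Lib.Helper12.SchemeDimFT

variable (k : Type u) [Field k] (X : Scheme.{u}) [X.Over (Spec (CommRingCat.of k))]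
  (K : Type u) [Field K] [Algebra k K]

theorem flat_SpecMap_field : Flat (Spec.map (CommRingCat.ofHom (algebraMap k K))) := by
  rw [HasRingHomProperty.Spec_iff (P := @Flat)]
  simp only [CommRingCat.hom_ofHom]
  rw [RingHom.flat_algebraMap_iff]
  infer_instance

theorem flat_bcFst : Flat (Curv2.bcFst k X K) :=
  MorphismProperty.of_isPullback (P := @Flat)
    (IsPullback.of_hasPullback (X ↘ Spec (CommRingCat.of k))
      (Spec.map (CommRingCat.ofHom (algebraMap k K)))).flip (flat_SpecMap_field k K)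

theorem generalizingMap_bcFst : GeneralizingMap (Curv2.bcFst k X K) :=
  haveI := flat_bcFst k X K
  Flat.generalizingMap _

variable [LocallyOfFiniteType (X ↘ Spec (CommRingCat.of k))]

attribute [local instance] bcOver
attribute [local instance] Algebra.TensorProduct.rightAlgebra

theorem tensorPrime_le_iff (U : X.Opens) (hU : IsAffineOpen U) (y₁ y₂ : Curv2.bc k X K)
    (hy₁ : Curv2.bcFst k X K y₁ ∈ U) (hy₂ : Curv2.bcFst k X K y₂ ∈ U) :
    letI := secAlgebra k X U
    tensorPrime k X K U hU y₁ hy₁ ≤ tensorPrime k X K U hU y₂ hy₂ ↔ y₁ ⤳ y₂ := by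
  letI := secAlgebra k X U
  unfold tensorPrime
  rw [OrderIso.le_iff_le]
  exact primeIdealOf_le_iff (isAffineOpen_preimage k X K U hU) ⟨y₁, hy₁⟩ ⟨y₂, hy₂⟩

theorem exists_tensorPrime_eq (U : X.Opens) (hU : IsAffineOpen U) :
    letI := secAlgebra k X U
    ∀ Q : PrimeSpectrum (Γ(X, U) ⊗[k] K), ∃ (y : Curv2.bc k X K)
      (hy : Curv2.bcFst k X K y ∈ U), tensorPrime k X K U hU y hy = Q := by
  letI := secAlgebra k X U
  intro Q
  obtain ⟨Q', hQ'⟩ := (PrimeSpectrum.comapEquiv (tensorEquiv k X K U hU).symm).surjective Q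
  obtain ⟨y, hy⟩ := exists_primeIdealOf_eq (isAffineOpen_preimage k X K U hU) Q'
  refine ⟨y.1, y.2, ?_⟩
  unfold tensorPrime
  rw [← hQ', ← hy]

/-- A point of `π⁻¹(closure {ξ})` which is maximal for generization lies over `ξ` and has the same
transcendence degree. -/
theorem tr_eq_of_maximal_in_preimage (ξ : X) (η : Curv2.bc k X K)
    (hη : ξ ⤳ Curv2.bcFst k X K η)
    (hmax : ∀ y : Curv2.bc k X K, y ⤳ η → ξ ⤳ Curv2.bcFst k X K y → y = η) :
    Curv2.bcFst k X K η = ξ ∧ tr K (Curv2.bc k X K) η = tr k X ξ := by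
  have h1 : Curv2.bcFst k X K η = ξ := by
    obtain ⟨η', hsp, heq⟩ := generalizingMap_bcFst k X K hη
    have := hmax η' hsp (by rw [heq])
    rw [← this, heq]
  refine ⟨h1, ?_⟩
  subst h1
  obtain ⟨U, hU, hy⟩ := exists_affineOpen_mem X (Curv2.bcFst k X K η)
  letI := secAlgebra k X U
  haveI := finiteType_sec k X U hU
  have hV := isAffineOpen_preimage k X K U hU
  set q := (hU.primeIdealOf ⟨Curv2.bcFst k X K η, hy⟩).asIdeal with hq
  set Q := (tensorPrime k X K U hU η hy).asIdeal with hQ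
  haveI hlo : Q.LiesOver q := tensorPrime_liesOver k X K U hU η hy
  set I := q.map (algebraMap Γ(X, U) (Γ(X, U) ⊗[k] K)) with hI
  have hIQ : I ≤ Q := by
    rw [hI, Ideal.map_le_iff_le_comap, ← Ideal.under_def, ← hlo.over]
  have hsurj : Function.Surjective (Ideal.Quotient.mk I) := Ideal.Quotient.mk_surjective
  haveI hQb : (Q.map (Ideal.Quotient.mk I)).IsPrime :=
    Ideal.map_isPrime_of_surjective hsurj (by rwa [Ideal.mk_ker])
  have hcomap : (Q.map (Ideal.Quotient.mk I)).comap (Ideal.Quotient.mk I) = Q := by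
    rw [Ideal.comap_map_of_surjective _ hsurj, ← RingHom.ker_eq_comap_bot, Ideal.mk_ker,
      sup_eq_left.mpr hIQ]
  have hmin : Q.map (Ideal.Quotient.mk I) ∈ minimalPrimes ((Γ(X, U) ⊗[k] K) ⧸ I) := by
    refine ⟨⟨hQb, bot_le⟩, ?_⟩
    rintro P' ⟨hP'p, -⟩ hle
    -- the prime `Q₁ = P'.comap mk` corresponds to a point `y₁`
    have hQ₁p : (P'.comap (Ideal.Quotient.mk I)).IsPrime := Ideal.comap_isPrime _ _
    obtain ⟨y₁, hy₁, hy₁eq⟩ := exists_tensorPrime_eq k X K U hU
      ⟨P'.comap (Ideal.Quotient.mk I), hQ₁p⟩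
    have hQ₁le : P'.comap (Ideal.Quotient.mk I) ≤ Q := by
      rw [← hcomap]
      exact Ideal.comap_mono hle
    have hIQ₁ : I ≤ P'.comap (Ideal.Quotient.mk I) := by
      intro a ha
      rw [Ideal.mem_comap, Ideal.Quotient.eq_zero_iff_mem.mpr ha]
      exact zero_mem _
    have hsp : y₁ ⤳ η := by
      refine (tensorPrime_le_iff k X K U hU y₁ η hy₁ hy).mp ?_
      rw [hy₁eq]
      exact hQ₁le
    have hsp2 : Curv2.bcFst k X K η ⤳ Curv2.bcFst k X K y₁ := by
      refine (primeIdealOf_le_iff hU ⟨_, hy⟩ ⟨_, hy₁⟩).mp ?_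
      have hlo₁ := tensorPrime_liesOver k X K U hU y₁ hy₁
      change q ≤ (hU.primeIdealOf ⟨_, hy₁⟩).asIdeal
      rw [hlo₁.over, Ideal.under_def, ← Ideal.map_le_iff_le_comap, hy₁eq]
      exact hIQ₁
    have heq := hmax y₁ hsp hsp2
    subst heq
    have hQeq : P'.comap (Ideal.Quotient.mk I) = Q := by
      rw [hQ]
      exact (congrArg PrimeSpectrum.asIdeal hy₁eq).symm
    rw [← hQeq, Ideal.map_comap_of_surjective _ hsurj]
  have hht : (Q.map (Ideal.Quotient.mk I)).height = 0 := by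
    rw [Ideal.height_eq_zero_iff]
    exact hmin
  have h2 := DimFT2.height_fibre_add_coheight k Γ(X, U) K q Q
  rw [hht] at h2
  have h3 := coheight_tensorPrime k X K U hU η hy
  have h4 : Order.coheight (⟨Q, inferInstance⟩ : PrimeSpectrum (Γ(X, U) ⊗[k] K)) =
      (tr K (Curv2.bc k X K) η : ℕ∞) := by
    rw [← tr_eq_coheight K (Curv2.bc k X K) _ hV η hy, ← h3]
  have h5 : Order.coheight (⟨q, inferInstance⟩ : PrimeSpectrum Γ(X, U)) =
      (tr k X (Curv2.bcFst k X K η) : ℕ∞) := tr_eq_coheight k X U hU _ hy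
  rw [h4, h5] at h2
  simp only [zero_add] at h2
  exact_mod_cast h2

end Groth.Agent.Lib.Helper12.BaseChange
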