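import Mathlib.Topology.Sober

/-! Generic points of irreducible components via specialization. -/

set_option autoImplicit false

namespace Groth.Agent.Lib.Helper12

variable {α : Type*} [TopologicalSpace α]

/-- A generic point of an irreducible component has no proper generalization. -/
theorem eq_of_specializes_of_mem_irreducibleComponents [T0Space α] {ξ z : α}
    (h : closure ({ξ} : Set α) ∈ irreducibleComponents α) (hz : z ⤳ ξ) : z = ξ := by
  have h1 : closure ({ξ} : Set α) ⊆ closure {z} := specializes_iff_closure_subset.1 hz
  have h2 : IsIrreducible (closure ({z} : Set α)) := isIrreducible_singleton.closure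
  have h3 : closure ({z} : Set α) ⊆ closure {ξ} := h.2 h2 h1
  have h4 : ξ ⤳ z := specializes_iff_closure_subset.2 h3
  exact (hz.antisymm h4).eq

/-- A point without proper generalizations is the generic point of an irreducible component. -/
theorem mem_irreducibleComponents_of_forall_specializes [QuasiSober α] {ξ : α}
    (h : ∀ z, z ⤳ ξ → z = ξ) : closure ({ξ} : Set α) ∈ irreducibleComponents α := by
  refine ⟨isIrreducible_singleton.closure, ?_⟩
  intro Z hZ hle
  have hZc : IsIrreducible (closure Z) := hZ.closure
  obtain ⟨z, hz⟩ := QuasiSober.sober hZc isClosed_closure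
  have hξZ : ξ ∈ closure Z := subset_closure (hle (subset_closure (Set.mem_singleton ξ)))
  have hzξ : z ⤳ ξ := by
    rw [specializes_iff_mem_closure, hz.def]; exact hξZ
  have hzeq := h z hzξ
  intro y hy
  have : y ∈ closure ({z} : Set α) := by rw [hz.def]; exact subset_closure hy
  rwa [hzeq] at this

/-- Every point is a specialization of a generic point of an irreducible component. -/
theorem exists_generic_specializes [QuasiSober α] (x : α) :
    ∃ ξ, closure ({ξ} : Set α) ∈ irreducibleComponents α ∧ ξ ⤳ x := by
  have hZ := irreducibleComponent_mem_irreducibleComponents x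
  obtain ⟨ξ, hξ⟩ := QuasiSober.sober (isIrreducible_irreducibleComponent (x := x))
    isClosed_irreducibleComponent
  refine ⟨ξ, ?_, ?_⟩
  · rw [hξ.def]; exact hZ
  · rw [specializes_iff_mem_closure, hξ.def]; exact mem_irreducibleComponent

/-- Finiteness of the set of irreducible components passes to open subspaces. -/
theorem finite_irreducibleComponents_of_isOpenEmbedding {α β : Type*} [TopologicalSpace α]
    [TopologicalSpace β] [QuasiSober α] [T0Space α] [QuasiSober β] [T0Space β] {j : α → β}
    (hj : Topology.IsOpenEmbedding j)
    (h : (irreducibleComponents β).Finite) : (irreducibleComponents α).Finite := by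
  have hgen : (genericPoints β).Finite := genericPoints.finite h
  have hmaps : Set.MapsTo j (genericPoints α) (genericPoints β) := by
    intro ξ hξ
    apply mem_irreducibleComponents_of_forall_specializes
    intro z' hz'
    have : z' ∈ Set.range j := hz'.mem_open hj.isOpen_range ⟨ξ, rfl⟩
    obtain ⟨z, rfl⟩ := this
    have hz : z ⤳ ξ := hj.isInducing.specializes_iff.1 hz'
    rw [eq_of_specializes_of_mem_irreducibleComponents hξ hz]
  have hfin : (genericPoints α).Finite :=
    Set.Finite.of_injOn hmaps hj.injective.injOn hgen
  have : Finite (genericPoints α) := hfin.to_subtype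
  have : Finite (irreducibleComponents α) := Finite.of_equiv _ genericPoints.equiv
  exact Set.toFinite _

end Groth.Agent.Lib.Helper12
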