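import Mathlib
import Groth.Agent.Lib.Helper12.GenericPts

/-! Generic points of irreducible components lie in the image of a quasi-compact dominant
morphism, and can be lifted to generic points. -/

set_option autoImplicit false

namespace Groth.Agent.Lib.Helper12.GenImage

open AlgebraicGeometry CategoryTheory TopologicalSpace Opposite Function
open Groth.Agent.Lib.Helper12

universe u

/-- The prime ideal of a generic point of an irreducible component, in an affine open, is a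
minimal prime. -/
theorem primeIdealOf_mem_minimalPrimes {Z : Scheme.{u}} {W : Z.Opens} (hW : IsAffineOpen W)
    (z : Z) (hzW : z ∈ W) (hz : closure {z} ∈ irreducibleComponents Z) :
    (hW.primeIdealOf ⟨z, hzW⟩).asIdeal ∈ minimalPrimes Γ(Z, W) := by
  refine ⟨⟨(hW.primeIdealOf ⟨z, hzW⟩).isPrime, bot_le⟩, ?_⟩
  rintro q ⟨hq, -⟩ hle
  let q' : PrimeSpectrum Γ(Z, W) := ⟨q, hq⟩
  have hsp : q' ⤳ hW.primeIdealOf ⟨z, hzW⟩ := (PrimeSpectrum.le_iff_specializes _ _).1 hle
  have hsp' : hW.fromSpec q' ⤳ hW.fromSpec (hW.primeIdealOf ⟨z, hzW⟩) :=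
    hsp.map hW.fromSpec.continuous
  rw [hW.fromSpec_primeIdealOf] at hsp'
  have heq : hW.fromSpec q' = z := eq_of_specializes_of_mem_irreducibleComponents hz hsp'
  have h2 : q' = hW.primeIdealOf ⟨z, hzW⟩ := by
    apply hW.fromSpec.isOpenEmbedding.injective
    rw [hW.fromSpec_primeIdealOf, heq]
  rw [← h2]

/-- A generic point of an irreducible component of the target of a quasi-compact dominant
morphism lies in the image. -/
theorem exists_preimage_of_generic {Y Z : Scheme.{u}} (g : Y ⟶ Z) [QuasiCompact g] [IsDominant g]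
    (z : Z) (hz : closure {z} ∈ irreducibleComponents Z) : ∃ y : Y, g y = z := by
  obtain ⟨W, hW, hzW⟩ : ∃ W : Z.Opens, IsAffineOpen W ∧ z ∈ W := by
    obtain ⟨_, ⟨W, hW, rfl⟩, hzW, -⟩ :=
      Z.isBasis_affineOpens.exists_subset_of_mem_open (Set.mem_univ z) isOpen_univ
    exact ⟨W, hW, hzW⟩
  have hcomp : IsCompact ((g ⁻¹ᵁ W : Y.Opens) : Set Y) := g.isCompact_preimage hW.isCompact
  obtain ⟨s, hsfin, hs⟩ := isCompact_iff_finite_and_eq_biUnion_affineOpens.1 hcomp
  have hle : ∀ i ∈ s, (i : Y.Opens) ≤ g ⁻¹ᵁ W := fun i hi => by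
    rw [hs]
    exact le_iSup₂ (f := fun (i : Y.affineOpens) (_ : i ∈ s) => (i : Y.Opens)) i hi
  have hz1 : z ∈ closure ((W : Set Z) ∩ Set.range g) := by
    have h0 : z ∈ closure (Set.range g) := by
      rw [g.denseRange.closure_range]; trivial
    exact W.isOpen.inter_closure ⟨hzW, h0⟩
  have hz2 : (W : Set Z) ∩ Set.range g = ⋃ i ∈ s, g '' ((i : Y.Opens) : Set Y) := by
    ext t
    constructor
    · rintro ⟨hyW, ⟨y, rfl⟩⟩
      have hy : y ∈ g ⁻¹ᵁ W := hyW
      rw [hs] at hy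
      simp only [Opens.mem_iSup] at hy
      obtain ⟨i, hi, hyi⟩ := hy
      exact Set.mem_biUnion hi ⟨y, hyi, rfl⟩
    · intro ht
      obtain ⟨i, hi, y, hyi, rfl⟩ := Set.mem_iUnion₂.1 ht
      exact ⟨hle i hi hyi, ⟨y, rfl⟩⟩
  rw [hz2, hsfin.closure_biUnion] at hz1
  obtain ⟨i, hi, hzi⟩ := Set.mem_iUnion₂.1 hz1
  have hV : IsAffineOpen (i : Y.Opens) := i.2
  have hVW := hle i hi
  have hker : Ideal.comap (g.appLE W i hVW).hom ⊥ ≤ (hW.primeIdealOf ⟨z, hzW⟩).asIdeal := by
    intro r hr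
    rw [Ideal.mem_comap, Ideal.mem_bot] at hr
    by_contra hrp
    have hzr : z ∈ Z.basicOpen r := by
      have h1 : hW.primeIdealOf ⟨z, hzW⟩ ∈ hW.fromSpec ⁻¹ᵁ Z.basicOpen r := by
        rw [hW.fromSpec_preimage_basicOpen]; exact hrp
      have h2 : hW.fromSpec (hW.primeIdealOf ⟨z, hzW⟩) ∈ Z.basicOpen r := h1
      rwa [hW.fromSpec_primeIdealOf] at h2
    obtain ⟨_, hyr, y, hyV, rfl⟩ := mem_closure_iff.1 hzi _ (Z.basicOpen r).isOpen hzr
    have hy : y ∈ Y.basicOpen (g.appLE W i hVW r) := by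
      rw [Scheme.basicOpen_appLE]
      exact ⟨hyV, hyr⟩
    have hr' : (g.appLE W i hVW) r = 0 := hr
    rw [hr', Scheme.basicOpen_zero] at hy
    exact hy
  have hmin0 := primeIdealOf_mem_minimalPrimes hW z hzW hz
  have hmin : (hW.primeIdealOf ⟨z, hzW⟩).asIdeal ∈
      (Ideal.comap (g.appLE W i hVW).hom ⊥).minimalPrimes :=
    ⟨⟨(hW.primeIdealOf ⟨z, hzW⟩).isPrime, hker⟩, fun q hq hqle => hmin0.2 ⟨hq.1, bot_le⟩ hqle⟩
  obtain ⟨P, hP, -, hPp⟩ := Ideal.exists_comap_eq_of_mem_minimalPrimes _ _ hmin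
  refine ⟨hV.fromSpec ⟨P, hP⟩, ?_⟩
  have hcomm := IsAffineOpen.SpecMap_appLE_fromSpec g hW hV hVW
  have h1 : g (hV.fromSpec ⟨P, hP⟩) = hW.fromSpec (Spec.map (g.appLE W i hVW) ⟨P, hP⟩) := by
    rw [← Scheme.Hom.comp_apply, ← hcomm, Scheme.Hom.comp_apply]
  have h2 : Spec.map (g.appLE W i hVW) ⟨P, hP⟩ = hW.primeIdealOf ⟨z, hzW⟩ :=
    PrimeSpectrum.ext hPp
  rw [h1, h2, hW.fromSpec_primeIdealOf]

/-- A generic point of an irreducible component of the target of a quasi-compact dominant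
morphism is the image of a generic point of an irreducible component of the source. -/
theorem exists_generic_preimage {Y Z : Scheme.{u}} (g : Y ⟶ Z) [QuasiCompact g] [IsDominant g]
    (z : Z) (hz : closure {z} ∈ irreducibleComponents Z) :
    ∃ y : Y, closure {y} ∈ irreducibleComponents Y ∧ g y = z := by
  obtain ⟨y0, hy0⟩ := exists_preimage_of_generic g z hz
  obtain ⟨y, hy, hsp⟩ := exists_generic_specializes y0
  refine ⟨y, hy, ?_⟩
  have h1 : g y ⤳ g y0 := hsp.map g.continuous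
  rw [hy0] at h1
  exact eq_of_specializes_of_mem_irreducibleComponents hz h1

end Groth.Agent.Lib.Helper12.GenImage
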