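import Mathlib
import Groth.Prelude.Def_CurvBase
import Groth.Agent.Lib.Helper12.FibreRes
import Groth.Agent.Lib.Helper12.GenImage

/-!
# Helper library (helper12): dimension of the total space from the dimensions of the fibres
-/

set_option autoImplicit false
universe u
open AlgebraicGeometry CategoryTheory Opposite Limits

namespace Groth.Agent.Lib.Helper12.FibreDim

open Groth.Agent.Lib.Helper12 Groth.Agent.Lib.Helper12.SchemeDimFT Groth.Agent.Lib.Helper12.FibreRes

attribute [local instance] Curv2.resAlgebra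

variable (k : Type u) [Field k] {X Y : Scheme.{u}} (q : Y ⟶ Spec (CommRingCat.of k))
  [LocallyOfFiniteType q] (f : X ⟶ Y) [LocallyOfFiniteType f]

/-- If the fibre over `η` has dimension at least `r`, some point of it has `tr ≥ r + tr η`. -/
theorem exists_tr_ge_of_le_dim_fiber (η : Y) (r : ℕ)
    (hr : (r : WithBot ℕ∞) ≤ topologicalKrullDim (f.base ⁻¹' {η})) :
    letI : Y.Over (Spec (CommRingCat.of k)) := ⟨q⟩
    letI : X.Over (Spec (CommRingCat.of k)) := ⟨f ≫ q⟩
    haveI : LocallyOfFiniteType (Y ↘ Spec (CommRingCat.of k)) := ‹LocallyOfFiniteType q›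
    haveI : LocallyOfFiniteType (X ↘ Spec (CommRingCat.of k)) :=
      inferInstanceAs (LocallyOfFiniteType (f ≫ q))
    ∃ x : X, f x = η ∧ r + tr k Y η ≤ tr k X x := by
  letI : Y.Over (Spec (CommRingCat.of k)) := ⟨q⟩
  letI : X.Over (Spec (CommRingCat.of k)) := ⟨f ≫ q⟩
  haveI : LocallyOfFiniteType (Y ↘ Spec (CommRingCat.of k)) := ‹LocallyOfFiniteType q›
  haveI : LocallyOfFiniteType (X ↘ Spec (CommRingCat.of k)) :=
    inferInstanceAs (LocallyOfFiniteType (f ≫ q))
  letI ovF : (f.fiber η).Over (Spec (CommRingCat.of (Y.residueField η))) :=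
    ⟨f.fiberToSpecResidueField η⟩
  haveI : LocallyOfFiniteType ((f.fiber η) ↘ Spec (CommRingCat.of (Y.residueField η))) :=
    locallyOfFiniteType_fiberToSpecResidueField f η
  have hdim : topologicalKrullDim (f.fiber η) = topologicalKrullDim (f.base ⁻¹' {η}) :=
    IsHomeomorph.topologicalKrullDim_eq _ (f.fiberHomeo η).isHomeomorph
  rw [← hdim] at hr
  by_contra hcon
  push Not at hcon
  have hall : ∀ z : f.fiber η, tr (Y.residueField η) (f.fiber η) z < r := by
    intro z
    have h1 := hcon (f.fiberι η z) (by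
      have : f.fiberι η z ∈ Set.range (f.fiberι η) := ⟨z, rfl⟩
      rw [f.range_fiberι η] at this
      exact this)
    have h2 := tr_fiber_add k q f η z
    omega
  rcases Nat.eq_zero_or_pos r with h0 | hpos
  · have hle : topologicalKrullDim (f.fiber η) ≤ ⊥ := by
      refine topologicalKrullDim_le_of_forall_tr (Y.residueField η) (f.fiber η) ⊥ ?_
      intro z
      have := hall z
      omega
    have := hr.trans hle
    simp at this
  · have hle : topologicalKrullDim (f.fiber η) ≤ ((r - 1 : ℕ) : WithBot ℕ∞) := by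
      refine topologicalKrullDim_le_of_forall_tr (Y.residueField η) (f.fiber η) _ ?_
      intro z
      have := hall z
      have h3 : tr (Y.residueField η) (f.fiber η) z ≤ r - 1 := by omega
      exact_mod_cast h3
    have h4 := hr.trans hle
    have h5 : r ≤ r - 1 := by exact_mod_cast h4
    omega

include k q in
/-- If all fibres over maximal points have dimension at least `r`, then
`dim X ≥ r + dim Y`. -/
theorem add_dim_le (r : ℕ)
    (hfib : ∀ η : Y, (∀ y : Y, y ⤳ η → y = η) →
      (r : WithBot ℕ∞) ≤ topologicalKrullDim (f.base ⁻¹' {η})) :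
    (r : WithBot ℕ∞) + topologicalKrullDim Y ≤ topologicalKrullDim X := by
  letI : Y.Over (Spec (CommRingCat.of k)) := ⟨q⟩
  letI : X.Over (Spec (CommRingCat.of k)) := ⟨f ≫ q⟩
  haveI : LocallyOfFiniteType (Y ↘ Spec (CommRingCat.of k)) := ‹LocallyOfFiniteType q›
  haveI : LocallyOfFiniteType (X ↘ Spec (CommRingCat.of k)) :=
    inferInstanceAs (LocallyOfFiniteType (f ≫ q))
  have key : ∀ η : Y, IsMaxPt η →
      (((r + tr k Y η : ℕ) : ℕ) : WithBot ℕ∞) ≤ topologicalKrullDim X := by
    intro η hη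
    obtain ⟨x, -, hx⟩ := exists_tr_ge_of_le_dim_fiber k q f η r (hfib η hη)
    refine le_trans ?_ (tr_le_topologicalKrullDim k X x)
    exact_mod_cast hx
  by_cases htop : topologicalKrullDim X = ⊤
  · rw [htop]; exact le_top
  by_cases hY : IsEmpty Y
  · have hle : topologicalKrullDim Y ≤ ⊥ :=
      topologicalKrullDim_le_of_forall_tr k Y ⊥ (fun y => (hY.false y).elim)
    rw [le_bot_iff.mp hle, WithBot.add_bot]
    exact bot_le
  rw [not_isEmpty_iff] at hY
  obtain ⟨y0⟩ := hY
  obtain ⟨η0, hη0, -⟩ := exists_isMaxPt_specializes y0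
  have h0 := key η0 hη0
  have hbot : topologicalKrullDim X ≠ ⊥ := by
    intro h
    rw [h] at h0
    simp at h0
  obtain ⟨D', hD'⟩ := WithBot.ne_bot_iff_exists.mp hbot
  have hD'top : D' ≠ ⊤ := by
    intro h
    apply htop
    rw [← hD', h]
    rfl
  obtain ⟨D, hD⟩ := ENat.ne_top_iff_exists.mp hD'top
  have hXD : topologicalKrullDim X = ((D : ℕ) : WithBot ℕ∞) := by
    rw [← hD', ← hD]
    rfl
  rw [hXD] at key ⊢
  have key' : ∀ η : Y, IsMaxPt η → r + tr k Y η ≤ D := by
    intro η hη
    exact_mod_cast key η hη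
  have hr : r ≤ D := (Nat.le_add_right _ _).trans (key' η0 hη0)
  have hYle : topologicalKrullDim Y ≤ ((D - r : ℕ) : WithBot ℕ∞) := by
    refine topologicalKrullDim_le_of_forall_tr k Y _ ?_
    intro y
    obtain ⟨η, hη, hsp⟩ := exists_isMaxPt_specializes y
    have h1 := tr_le_of_specializes k Y η y hsp
    have h2 := key' η hη
    have h3 : tr k Y y ≤ D - r := by omega
    exact_mod_cast h3
  calc (r : WithBot ℕ∞) + topologicalKrullDim Y
      ≤ (r : WithBot ℕ∞) + ((D - r : ℕ) : WithBot ℕ∞) := by gcongr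
    _ = ((D : ℕ) : WithBot ℕ∞) := by
      have : r + (D - r) = D := by omega
      exact_mod_cast this

include k q in
/-- If all nonempty fibres have dimension at most `r`, then `dim X ≤ r + dim Y`. -/
theorem dim_le_add (r : ℕ)
    (hfib : ∀ y : Y, (f.base ⁻¹' {y}).Nonempty → topologicalKrullDim (f.base ⁻¹' {y}) ≤ r) :
    topologicalKrullDim X ≤ (r : WithBot ℕ∞) + topologicalKrullDim Y := by
  letI : Y.Over (Spec (CommRingCat.of k)) := ⟨q⟩
  letI : X.Over (Spec (CommRingCat.of k)) := ⟨f ≫ q⟩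
  haveI : LocallyOfFiniteType (Y ↘ Spec (CommRingCat.of k)) := ‹LocallyOfFiniteType q›
  haveI : LocallyOfFiniteType (X ↘ Spec (CommRingCat.of k)) :=
    inferInstanceAs (LocallyOfFiniteType (f ≫ q))
  refine topologicalKrullDim_le_of_forall_tr k X _ ?_
  intro x
  letI ovF : (f.fiber (f x)).Over (Spec (CommRingCat.of (Y.residueField (f x)))) :=
    ⟨f.fiberToSpecResidueField (f x)⟩
  haveI : LocallyOfFiniteType ((f.fiber (f x)) ↘ Spec (CommRingCat.of (Y.residueField (f x)))) :=
    locallyOfFiniteType_fiberToSpecResidueField f (f x)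
  have h1 := tr_fiber_add k q f (f x) (f.asFiber x)
  rw [f.fiberι_asFiber x] at h1
  rw [h1]
  have h2 : ((tr k Y (f x) : ℕ) : WithBot ℕ∞) ≤ topologicalKrullDim Y :=
    tr_le_topologicalKrullDim k Y (f x)
  have hdim : topologicalKrullDim (f.fiber (f x)) = topologicalKrullDim (f.base ⁻¹' {f x}) :=
    IsHomeomorph.topologicalKrullDim_eq _ (f.fiberHomeo (f x)).isHomeomorph
  have h3 : ((tr (Y.residueField (f x)) (f.fiber (f x)) (f.asFiber x) : ℕ) : WithBot ℕ∞) ≤ r := by
    refine (tr_le_topologicalKrullDim (Y.residueField (f x)) (f.fiber (f x)) (f.asFiber x)).trans ?_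
    rw [hdim]
    exact hfib (f x) ⟨x, rfl⟩
  push_cast
  rw [add_comm]
  exact add_le_add h3 h2

include k q in
/-- If all nonempty fibres have dimension at most `c`, then `dim X ≤ c + dim Y`. -/
theorem dim_le_add' (c : WithBot ℕ∞)
    (hfib : ∀ y : Y, (f.base ⁻¹' {y}).Nonempty → topologicalKrullDim (f.base ⁻¹' {y}) ≤ c) :
    topologicalKrullDim X ≤ c + topologicalKrullDim Y := by
  letI : Y.Over (Spec (CommRingCat.of k)) := ⟨q⟩
  letI : X.Over (Spec (CommRingCat.of k)) := ⟨f ≫ q⟩
  haveI : LocallyOfFiniteType (Y ↘ Spec (CommRingCat.of k)) := ‹LocallyOfFiniteType q›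
  haveI : LocallyOfFiniteType (X ↘ Spec (CommRingCat.of k)) :=
    inferInstanceAs (LocallyOfFiniteType (f ≫ q))
  refine topologicalKrullDim_le_of_forall_tr k X _ ?_
  intro x
  letI ovF : (f.fiber (f x)).Over (Spec (CommRingCat.of (Y.residueField (f x)))) :=
    ⟨f.fiberToSpecResidueField (f x)⟩
  haveI : LocallyOfFiniteType ((f.fiber (f x)) ↘ Spec (CommRingCat.of (Y.residueField (f x)))) :=
    locallyOfFiniteType_fiberToSpecResidueField f (f x)
  have h1 := tr_fiber_add k q f (f x) (f.asFiber x)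
  rw [f.fiberι_asFiber x] at h1
  rw [h1]
  have h2 : ((tr k Y (f x) : ℕ) : WithBot ℕ∞) ≤ topologicalKrullDim Y :=
    tr_le_topologicalKrullDim k Y (f x)
  have hdim : topologicalKrullDim (f.fiber (f x)) = topologicalKrullDim (f.base ⁻¹' {f x}) :=
    IsHomeomorph.topologicalKrullDim_eq _ (f.fiberHomeo (f x)).isHomeomorph
  have h3 : ((tr (Y.residueField (f x)) (f.fiber (f x)) (f.asFiber x) : ℕ) : WithBot ℕ∞) ≤ c := by
    refine (tr_le_topologicalKrullDim (Y.residueField (f x)) (f.fiber (f x)) (f.asFiber x)).trans ?_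
    rw [hdim]
    exact hfib (f x) ⟨x, rfl⟩
  push_cast
  rw [add_comm]
  exact add_le_add h3 h2

end Groth.Agent.Lib.Helper12.FibreDim
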