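import Mathlib
import Groth.Prelude.Def_CurvBase
import Groth.Agent.Lib.Helper12.FibreDim
import Groth.Agent.Lib.Helper12.BaseChange3

/-!
# Helper library (helper12): dimension of products of schemes locally of finite type over a field
-/

set_option autoImplicit false
universe u
open AlgebraicGeometry CategoryTheory Opposite Limits

namespace Groth.Agent.Lib.Helper12.ProductDim

open Groth.Agent.Lib.Helper12 Groth.Agent.Lib.Helper12.SchemeDimFT Groth.Agent.Lib.Helper12.FibreRes

attribute [local instance] Curv2.resAlgebra

theorem withBot_enat_cases (a : WithBot ℕ∞) :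
    a = ⊥ ∨ a = ⊤ ∨ ∃ m : ℕ, a = (m : WithBot ℕ∞) := by
  induction a using WithBot.recBotCoe with
  | bot => left; rfl
  | coe a =>
    induction a using ENat.recTopCoe with
    | top => right; left; rfl
    | coe m => right; right; exact ⟨m, rfl⟩

theorem eq_top_of_forall_nat_le (a : WithBot ℕ∞) (h : ∀ n : ℕ, (n : WithBot ℕ∞) ≤ a) :
    a = ⊤ := by
  rcases withBot_enat_cases a with h0 | h0 | ⟨m, h0⟩
  · have := h 0
    rw [h0] at this
    simp at this
  · exact h0
  · have := h (m + 1)
    rw [h0] at this
    have h3 : m + 1 ≤ m := by exact_mod_cast this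
    omega

variable (k : Type u) [Field k] {X Y : Scheme.{u}} (f : X ⟶ Spec (CommRingCat.of k))
  (g : Y ⟶ Spec (CommRingCat.of k))

/-- The fibre of the first projection of `X ×_k Y` over `x` is the base change of `Y` to
`κ(x)`. -/
theorem isPullback_fiber (x : X) :
    letI : X.Over (Spec (CommRingCat.of k)) := ⟨f⟩
    IsPullback ((pullback.fst f g).fiberι x ≫ pullback.snd f g)
      ((pullback.fst f g).fiberToSpecResidueField x) g
      (Spec.map (CommRingCat.ofHom (Curv2.resMap k X x))) := by
  letI : X.Over (Spec (CommRingCat.of k)) := ⟨f⟩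
  have h1 : IsPullback ((pullback.fst f g).fiberι x)
      ((pullback.fst f g).fiberToSpecResidueField x) (pullback.fst f g)
      (X.fromSpecResidueField x) := IsPullback.of_hasPullback _ _
  have h2 : IsPullback (pullback.snd f g) (pullback.fst f g) g f :=
    (IsPullback.of_hasPullback f g).flip
  have h3 := h1.paste_horiz h2
  have h4 : X.fromSpecResidueField x ≫ f =
      Spec.map (CommRingCat.ofHom (Curv2.resMap k X x)) :=
    fromSpecResidueField_comp_eq (CommRingCat.of k) f x
  rw [h4] at h3
  exact h3

variable [LocallyOfFiniteType f] [LocallyOfFiniteType g]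

theorem dim_fiber (x : X) :
    topologicalKrullDim ((pullback.fst f g).fiber x) = topologicalKrullDim Y := by
  letI : X.Over (Spec (CommRingCat.of k)) := ⟨f⟩
  exact BaseChange.dim_of_isPullback_field k (X.residueField x) (Curv2.resMap k X x) g _ _
    (isPullback_fiber k f g x)

theorem dims_irreducibleComponents_fiber (x : X) :
    (fun T : Set ((pullback.fst f g).fiber x) => topologicalKrullDim T) ''
        irreducibleComponents ((pullback.fst f g).fiber x) =
      (fun T : Set Y => topologicalKrullDim T) '' irreducibleComponents Y := by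
  letI : X.Over (Spec (CommRingCat.of k)) := ⟨f⟩
  exact BaseChange.dims_irreducibleComponents_of_isPullback_field k (X.residueField x)
    (Curv2.resMap k X x) g _ _ (isPullback_fiber k f g x)

theorem dim_preimage_fst (x : X) :
    topologicalKrullDim ((pullback.fst f g).base ⁻¹' {x}) = topologicalKrullDim Y := by
  rw [← dim_fiber k f g x]
  exact (IsHomeomorph.topologicalKrullDim_eq _
    ((pullback.fst f g).fiberHomeo x).isHomeomorph).symm

include k in
/-- `dim (X ×_k Y) = dim X + dim Y`. -/
theorem dim_pullback :
    topologicalKrullDim (pullback f g : Scheme.{u}) =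
      topologicalKrullDim X + topologicalKrullDim Y := by
  haveI : LocallyOfFiniteType (pullback.fst f g) :=
    MorphismProperty.pullback_fst (P := @LocallyOfFiniteType) f g inferInstance
  apply le_antisymm
  · rw [add_comm]
    refine FibreDim.dim_le_add' k f (pullback.fst f g) _ ?_
    intro x _
    exact (dim_preimage_fst k f g x).le
  · -- lower bound
    have key : ∀ n : ℕ, (n : WithBot ℕ∞) ≤ topologicalKrullDim Y →
        (n : WithBot ℕ∞) + topologicalKrullDim X ≤
          topologicalKrullDim (pullback f g : Scheme.{u}) := by
      intro n hn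
      refine FibreDim.add_dim_le k f (pullback.fst f g) n ?_
      intro η _
      rw [dim_preimage_fst k f g η]
      exact hn
    rcases withBot_enat_cases (topologicalKrullDim Y) with h | h | ⟨m, h⟩
    · rw [h, WithBot.add_bot]
      exact bot_le
    · -- dim Y = ⊤
      by_cases hX : IsEmpty X
      · have hle : topologicalKrullDim X ≤ ⊥ := by
          letI : X.Over (Spec (CommRingCat.of k)) := ⟨f⟩
          haveI : LocallyOfFiniteType (X ↘ Spec (CommRingCat.of k)) := ‹LocallyOfFiniteType f›
          exact topologicalKrullDim_le_of_forall_tr k X ⊥ (fun y => (hX.false y).elim)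
        rw [le_bot_iff.mp hle, WithBot.bot_add]
        exact bot_le
      · rw [not_isEmpty_iff] at hX
        have hX0 : (0 : WithBot ℕ∞) ≤ topologicalKrullDim X :=
          Groth.Agent.Lib.Helper9.topologicalKrullDim_nonneg_of_nonempty
        have hall : ∀ n : ℕ, (n : WithBot ℕ∞) ≤
            topologicalKrullDim (pullback f g : Scheme.{u}) := by
          intro n
          have h1 := key n (by rw [h]; exact le_top)
          calc (n : WithBot ℕ∞) = (n : WithBot ℕ∞) + 0 := by simp
            _ ≤ (n : WithBot ℕ∞) + topologicalKrullDim X := by gcongr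
            _ ≤ _ := h1
        rw [eq_top_of_forall_nat_le _ hall]
        exact le_top
    · have h1 := key m (by rw [h])
      rw [h, add_comm]
      exact h1

include k in
/-- All irreducible components of a product of irreducible schemes have dimension
`dim X + dim Y`. -/
theorem dim_irreducibleComponent_pullback [IrreducibleSpace X] [IrreducibleSpace Y]
    (Z : Set (pullback f g : Scheme.{u}))
    (hZ : Z ∈ irreducibleComponents (pullback f g : Scheme.{u})) :
    topologicalKrullDim Z = topologicalKrullDim X + topologicalKrullDim Y := by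
  haveI : LocallyOfFiniteType (pullback.fst f g) :=
    MorphismProperty.pullback_fst (P := @LocallyOfFiniteType) f g inferInstance
  letI : X.Over (Spec (CommRingCat.of k)) := ⟨f⟩
  letI : (pullback f g : Scheme.{u}).Over (Spec (CommRingCat.of k)) := ⟨pullback.fst f g ≫ f⟩
  haveI : LocallyOfFiniteType (X ↘ Spec (CommRingCat.of k)) := ‹LocallyOfFiniteType f›
  haveI : LocallyOfFiniteType ((pullback f g : Scheme.{u}) ↘ Spec (CommRingCat.of k)) :=
    inferInstanceAs (LocallyOfFiniteType (pullback.fst f g ≫ f))
  obtain ⟨w, hw, rfl⟩ := (mem_irreducibleComponents_iff Z).mp hZ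
  rw [topologicalKrullDim_closure_singleton k (pullback f g : Scheme.{u}) w]
  -- the image of `w` is the generic point of `X`
  haveI : Subsingleton (Spec (CommRingCat.of k)) :=
    inferInstanceAs (Subsingleton (PrimeSpectrum k))
  haveI : Flat g := inferInstance
  have hgen : GeneralizingMap (pullback.fst f g) := Flat.generalizingMap _
  have hxmax : IsMaxPt (pullback.fst f g w) := by
    intro y hy
    obtain ⟨w', hw', rfl⟩ := hgen hy
    rw [hw w' hw']
  have hxgen : pullback.fst f g w = genericPoint X :=
    (hxmax _ ((genericPoint_spec X).specializes (Set.mem_univ _))).symm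
  set x := pullback.fst f g w with hx
  letI ovF : ((pullback.fst f g).fiber x).Over (Spec (CommRingCat.of (X.residueField x))) :=
    ⟨(pullback.fst f g).fiberToSpecResidueField x⟩
  haveI : LocallyOfFiniteType
      (((pullback.fst f g).fiber x) ↘ Spec (CommRingCat.of (X.residueField x))) :=
    locallyOfFiniteType_fiberToSpecResidueField (pullback.fst f g) x
  set z := (pullback.fst f g).asFiber w with hz
  have hιz : (pullback.fst f g).fiberι x z = w := (pullback.fst f g).fiberι_asFiber w
  have hadd := tr_fiber_add k f (pullback.fst f g) x z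
  rw [hιz] at hadd
  rw [hadd]
  have hzmax : IsMaxPt z := by
    intro z' hz'
    have h1 : (pullback.fst f g).fiberι x z' ⤳ (pullback.fst f g).fiberι x z :=
      hz'.map ((pullback.fst f g).fiberι x).continuous
    rw [hιz] at h1
    have h2 := hw _ h1
    rw [← hιz] at h2
    exact ((pullback.fst f g).fiberι x).isEmbedding.injective h2
  have hcomp : closure ({z} : Set ((pullback.fst f g).fiber x)) ∈
      irreducibleComponents ((pullback.fst f g).fiber x) :=
    (mem_irreducibleComponents_iff _).mpr ⟨z, hzmax, rfl⟩
  have hmem : topologicalKrullDim (closure ({z} : Set ((pullback.fst f g).fiber x))) ∈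
      (fun T : Set ((pullback.fst f g).fiber x) => topologicalKrullDim T) ''
        irreducibleComponents ((pullback.fst f g).fiber x) := ⟨_, hcomp, rfl⟩
  rw [dims_irreducibleComponents_fiber k f g x, irreducibleComponents_eq_singleton] at hmem
  obtain ⟨T, hT, hTd⟩ := hmem
  rw [Set.mem_singleton_iff] at hT
  subst hT
  have hYuniv : topologicalKrullDim (Set.univ : Set Y) = topologicalKrullDim Y :=
    IsHomeomorph.topologicalKrullDim_eq _ (Homeomorph.Set.univ Y).isHomeomorph
  simp only at hTd
  rw [hYuniv, topologicalKrullDim_closure_singleton (X.residueField x)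
    ((pullback.fst f g).fiber x) z] at hTd
  have hXd : topologicalKrullDim X = ((tr k X x : ℕ) : WithBot ℕ∞) := by
    rw [hxgen]
    exact topologicalKrullDim_eq_of_irreducible k X _ (tr_spec k X (genericPoint X))
  rw [hXd, hTd]
  push_cast
  rfl

end Groth.Agent.Lib.Helper12.ProductDim
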