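import Mathlib
import Groth.Prelude.Def_Flat
import Groth.Prelude.Def_CurvBase
import Groth.Agent.Lib.Helper12.Chevalley
import Groth.Agent.Lib.Helper12.BaseChange2
import Groth.Agent.Lib.Helper12.ProductDim
import Groth.Agent.Lib.Helper12.FibreRes

/-!
# Helper library (helper12): consequences of Chevalley's semicontinuity theorem
-/

set_option autoImplicit false
universe u
open AlgebraicGeometry CategoryTheory TopologicalSpace

namespace Groth.Agent.Lib.Helper12.ChevalleyCor

open Groth.Agent.Lib.Helper12 Groth.Agent.Lib.Helper12.SchemeDimFT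
  Groth.Agent.Lib.Helper12.Chevalley Groth.Agent.Lib.Helper12.TopFibreDim

/-- Arithmetic in `WithBot ℕ∞`. -/
theorem succ_le_iff_not_le (d : WithBot ℕ∞) (m : ℕ) :
    ((m + 1 : ℕ) : WithBot ℕ∞) ≤ d ↔ ¬ d ≤ (m : WithBot ℕ∞) := by
  rcases ProductDim.withBot_enat_cases d with h | h | ⟨k, h⟩
  · subst h; simp
  · subst h
    simp only [le_top, true_iff, not_le]
    exact WithBot.coe_lt_coe.mpr (ENat.coe_lt_top m)
  · subst h
    constructor
    · intro h1 h2
      have h3 : m + 1 ≤ k := by exact_mod_cast h1
      have h4 : k ≤ m := by exact_mod_cast h2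
      omega
    · intro h1
      have h2 : ¬ k ≤ m := fun h => h1 (by exact_mod_cast h)
      have h3 : m + 1 ≤ k := by omega
      exact_mod_cast h3

variable {X Y : Scheme.{u}} (f : X ⟶ Y)

/-- The fibre dimension at a point, computed in the fibre over any point equal to the image. -/
theorem fibreDimAt_eq_localDim (y : Y) (z : f.fiber y) :
    FlatMor.fibreDimAt f (f.fiberι y z) = FlatMor.localDim (f.fiber y) z := by
  unfold FlatMor.fibreDimAt
  have hy : f.base (f.fiberι y z) = y := by
    have h3 : f.fiberι y z ∈ Set.range (f.fiberι y) := ⟨z, rfl⟩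
    rw [Scheme.Hom.range_fiberι] at h3
    exact h3
  exact BaseChange.localDim_fiber_congr f hy _ _ (f.fiberι_asFiber _)

/-- The dimension of a fibre is bounded iff all its local dimensions are. -/
theorem dim_fiber_le_iff (y : Y) (c : WithBot ℕ∞) :
    topologicalKrullDim (f.fiber y) ≤ c ↔ ∀ x : X, f.base x = y → FlatMor.fibreDimAt f x ≤ c := by
  rw [Groth.Agent.Lib.Helper9.topologicalKrullDim_eq_iSup_localDim]
  constructor
  · intro h x hx
    let z : f.fiber y := (f.fiberHomeo y).symm ⟨x, hx⟩
    have hz : f.fiberι y z = x := f.fiberι_fiberHomeo_symm y ⟨x, hx⟩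
    rw [← hz, fibreDimAt_eq_localDim]
    exact (le_iSup (fun z => FlatMor.localDim (f.fiber y) z) z).trans h
  · intro h
    refine iSup_le fun z => ?_
    rw [← fibreDimAt_eq_localDim]
    apply h
    have h3 : f.fiberι y z ∈ Set.range (f.fiberι y) := ⟨z, rfl⟩
    rw [Scheme.Hom.range_fiberι] at h3
    exact h3

theorem nonempty_fiber_iff (y : Y) : Nonempty (f.fiber y) ↔ y ∈ Set.range f.base := by
  constructor
  · rintro ⟨z⟩
    refine ⟨f.fiberι y z, ?_⟩
    have h3 : f.fiberι y z ∈ Set.range (f.fiberι y) := ⟨z, rfl⟩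
    rw [Scheme.Hom.range_fiberι] at h3
    exact h3
  · rintro ⟨x, hx⟩
    exact ⟨(f.fiberHomeo y).symm ⟨x, hx⟩⟩

theorem zero_le_dim_fiber_iff (y : Y) :
    (0 : WithBot ℕ∞) ≤ topologicalKrullDim (f.fiber y) ↔ y ∈ Set.range f.base := by
  rw [← nonempty_fiber_iff]
  constructor
  · intro h
    by_contra hne
    rw [not_nonempty_iff] at hne
    have : topologicalKrullDim (f.fiber y) = ⊥ := by
      unfold topologicalKrullDim
      haveI : IsEmpty (IrreducibleCloseds (f.fiber y)) :=
        ⟨fun Z => hne.elim Z.isIrreducible.nonempty.some⟩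
      exact Order.krullDim_eq_bot
    rw [this] at h
    simp at h
  · intro h
    exact Groth.Agent.Lib.Helper9.topologicalKrullDim_nonneg_of_nonempty

/-- For a closed map locally of finite type, the fibre dimension is upper semicontinuous on the
target. -/
theorem isClosed_setOf_le_dim_fiber [LocallyOfFiniteType f] (hf : IsClosedMap f.base) (n : ℕ) :
    IsClosed {y : Y | (n : WithBot ℕ∞) ≤ topologicalKrullDim (f.fiber y)} := by
  rcases n with _ | m
  · have : {y : Y | ((0 : ℕ) : WithBot ℕ∞) ≤ topologicalKrullDim (f.fiber y)} =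
        Set.range f.base := by
      ext y
      simp only [Set.mem_setOf_eq, Nat.cast_zero]
      exact zero_le_dim_fiber_iff f y
    rw [this, ← Set.image_univ]
    exact hf _ isClosed_univ
  · have hop := isOpen_setOf_fibreDimAt_le f m
    have : {y : Y | ((m + 1 : ℕ) : WithBot ℕ∞) ≤ topologicalKrullDim (f.fiber y)} =
        f.base '' {x : X | FlatMor.fibreDimAt f x ≤ m}ᶜ := by
      ext y
      simp only [Set.mem_setOf_eq, Set.mem_image, Set.mem_compl_iff]
      rw [succ_le_iff_not_le, dim_fiber_le_iff]
      push Not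
      constructor
      · rintro ⟨x, hx, h⟩
        exact ⟨x, h, hx⟩
      · rintro ⟨x, h, hx⟩
        exact ⟨x, hx, h⟩
    rw [this]
    exact hf _ hop.isClosed_compl

section Generic

variable [IrreducibleSpace X]

theorem map_genericPoint [IrreducibleSpace Y] [IsDominant f] :
    f.base (genericPoint X) = genericPoint Y := by
  have h1 : IsGenericPoint (f.base (genericPoint X)) (closure (f.base '' Set.univ)) :=
    (genericPoint_spec X).image f.base.hom.2
  rw [Set.image_univ, f.denseRange.closure_range] at h1
  exact h1.eq (genericPoint_spec Y)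

theorem closure_asFiber_genericPoint :
    closure ({f.asFiber (genericPoint X)} : Set (f.fiber (f.base (genericPoint X)))) = Set.univ := by
  rw [(f.fiberι _).isEmbedding.isInducing.closure_eq_preimage_closure_image, Set.image_singleton,
    f.fiberι_asFiber, (genericPoint_spec X).def]
  rfl

theorem irreducibleSpace_fiber_generic :
    IrreducibleSpace (f.fiber (f.base (genericPoint X))) := by
  have h := closure_asFiber_genericPoint f
  exact
    { isPreirreducible_univ := by
        rw [← h]; exact isIrreducible_singleton.closure.isPreirreducible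
      toNonempty := ⟨f.asFiber (genericPoint X)⟩ }

/-- The generic fibre of a morphism from an irreducible scheme is equidimensional of finite
dimension. -/
theorem exists_dim_generic_fiber [LocallyOfFiniteType f] :
    ∃ n : ℕ, topologicalKrullDim (f.fiber (f.base (genericPoint X))) = n ∧
      ∀ z, FlatMor.localDim (f.fiber (f.base (genericPoint X))) z = n := by
  haveI := irreducibleSpace_fiber_generic f
  letI ovF : (f.fiber (f.base (genericPoint X))).Over
      (Spec (CommRingCat.of (Y.residueField (f.base (genericPoint X))))) :=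
    ⟨f.fiberToSpecResidueField _⟩
  haveI : LocallyOfFiniteType ((f.fiber (f.base (genericPoint X))) ↘
      Spec (CommRingCat.of (Y.residueField (f.base (genericPoint X))))) :=
    FibreRes.locallyOfFiniteType_fiberToSpecResidueField f _
  obtain ⟨n, hn⟩ := exists_trdeg_eq (Y.residueField (f.base (genericPoint X)))
    (f.fiber (f.base (genericPoint X))) (genericPoint _)
  exact ⟨n, topologicalKrullDim_eq_of_irreducible _ _ n hn,
    fun z => localDim_eq_of_irreducible _ _ n hn z⟩

/-- The fibre dimension at any point is at least the dimension of the generic fibre. -/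
theorem dim_generic_fiber_le_fibreDimAt [LocallyOfFiniteType f] (x : X) :
    topologicalKrullDim (f.fiber (f.base (genericPoint X))) ≤ FlatMor.fibreDimAt f x := by
  obtain ⟨n, hn1, hn2⟩ := exists_dim_generic_fiber f
  rw [hn1]
  have hξ : FlatMor.fibreDimAt f (genericPoint X) = n := hn2 _
  rcases n with _ | m
  · -- the fibre through `x` is nonempty
    unfold FlatMor.fibreDimAt
    haveI : Nonempty (f.fiber (f.base x)) := ⟨f.asFiber x⟩
    obtain ⟨U, hU⟩ := Groth.Agent.Lib.Helper9.exists_opens_localDim_eq (f.asFiber x)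
    rw [← hU]
    haveI : Nonempty (U.1 : Set (f.fiber (f.base x))) := ⟨⟨_, U.2⟩⟩
    exact Groth.Agent.Lib.Helper9.topologicalKrullDim_nonneg_of_nonempty
  · rw [succ_le_iff_not_le]
    intro hx
    have hop := isOpen_setOf_fibreDimAt_le f m
    have hmem : genericPoint X ∈ {x : X | FlatMor.fibreDimAt f x ≤ m} :=
      ((genericPoint_spec X).specializes (Set.mem_univ x)).mem_open hop hx
    have h2 : FlatMor.fibreDimAt f (genericPoint X) ≤ m := hmem
    rw [hξ] at h2
    have h3 : m + 1 ≤ m := by exact_mod_cast h2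
    omega

/-- The dimension of the generic fibre is the `tr` of its generic point. -/
theorem dim_generic_fiber_eq_tr [LocallyOfFiniteType f] :
    letI ovF : (f.fiber (f.base (genericPoint X))).Over
        (Spec (CommRingCat.of (Y.residueField (f.base (genericPoint X))))) :=
      ⟨f.fiberToSpecResidueField _⟩
    haveI : LocallyOfFiniteType ((f.fiber (f.base (genericPoint X))) ↘
        Spec (CommRingCat.of (Y.residueField (f.base (genericPoint X))))) :=
      FibreRes.locallyOfFiniteType_fiberToSpecResidueField f _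
    topologicalKrullDim (f.fiber (f.base (genericPoint X))) =
      ((tr (Y.residueField (f.base (genericPoint X))) (f.fiber (f.base (genericPoint X)))
        (f.asFiber (genericPoint X)) : ℕ) : WithBot ℕ∞) := by
  letI ovF : (f.fiber (f.base (genericPoint X))).Over
      (Spec (CommRingCat.of (Y.residueField (f.base (genericPoint X))))) :=
    ⟨f.fiberToSpecResidueField _⟩
  haveI : LocallyOfFiniteType ((f.fiber (f.base (genericPoint X))) ↘
      Spec (CommRingCat.of (Y.residueField (f.base (genericPoint X))))) :=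
    FibreRes.locallyOfFiniteType_fiberToSpecResidueField f _
  have h1 := topologicalKrullDim_closure_singleton (Y.residueField (f.base (genericPoint X)))
    (f.fiber (f.base (genericPoint X))) (f.asFiber (genericPoint X))
  rw [closure_asFiber_genericPoint f] at h1
  rw [← h1]
  exact (IsHomeomorph.topologicalKrullDim_eq _
    (Homeomorph.Set.univ (f.fiber (f.base (genericPoint X)))).isHomeomorph).symm

end Generic

section OverField

variable (k : Type u) [Field k]

/-- For a morphism of schemes locally of finite type over a field with irreducible source, the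
fibre dimension is everywhere at least `dim X - dim (closure of the image)`, with equality on a
dense open. -/
theorem fibreDimAt_of_irreducible_over_field {X Y : Scheme.{u}}
    (p : X ⟶ Spec (CommRingCat.of k)) (q : Y ⟶ Spec (CommRingCat.of k))
    [LocallyOfFiniteType p] [LocallyOfFiniteType q] [IrreducibleSpace X] (f : X ⟶ Y)
    (hf : f ≫ q = p) (a b : ℕ) (ha : topologicalKrullDim X = a)
    (hb : topologicalKrullDim (closure (Set.range f.base)) = b) :
    (∀ x : X, ((a - b : ℕ) : WithBot ℕ∞) ≤ FlatMor.fibreDimAt f x) ∧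
      IsOpen {x : X | FlatMor.fibreDimAt f x = ((a - b : ℕ) : WithBot ℕ∞)} ∧
      Dense {x : X | FlatMor.fibreDimAt f x = ((a - b : ℕ) : WithBot ℕ∞)} := by
  subst hf
  haveI : LocallyOfFiniteType f := locallyOfFiniteType_of_comp f q
  letI : Y.Over (Spec (CommRingCat.of k)) := ⟨q⟩
  letI : X.Over (Spec (CommRingCat.of k)) := ⟨f ≫ q⟩
  haveI : LocallyOfFiniteType (Y ↘ Spec (CommRingCat.of k)) := ‹LocallyOfFiniteType q›
  haveI : LocallyOfFiniteType (X ↘ Spec (CommRingCat.of k)) :=
    inferInstanceAs (LocallyOfFiniteType (f ≫ q))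
  set ξ := genericPoint X with hξ
  -- closure of the range
  have h1 : closure (Set.range f.base) = closure {f.base ξ} := by
    apply subset_antisymm
    · apply closure_minimal _ isClosed_closure
      rintro _ ⟨x, rfl⟩
      have : ξ ⤳ x := (genericPoint_spec X).specializes (Set.mem_univ x)
      exact (this.map f.base.hom.2).mem_closed isClosed_closure (subset_closure rfl)
    · apply closure_mono
      rintro _ rfl
      exact ⟨ξ, rfl⟩
  rw [h1, topologicalKrullDim_closure_singleton k Y (f.base ξ)] at hb
  have hb' : tr k Y (f.base ξ) = b := by exact_mod_cast hb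
  rw [topologicalKrullDim_eq_of_irreducible k X (tr k X ξ) (tr_spec k X ξ)] at ha
  have ha' : tr k X ξ = a := by exact_mod_cast ha
  letI ovF : (f.fiber (f.base ξ)).Over (Spec (CommRingCat.of (Y.residueField (f.base ξ)))) :=
    ⟨f.fiberToSpecResidueField _⟩
  haveI : LocallyOfFiniteType ((f.fiber (f.base ξ)) ↘
      Spec (CommRingCat.of (Y.residueField (f.base ξ)))) :=
    FibreRes.locallyOfFiniteType_fiberToSpecResidueField f _
  have hadd := FibreRes.tr_fiber_add k q f (f.base ξ) (f.asFiber ξ)
  rw [f.fiberι_asFiber ξ, ha', hb'] at hadd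
  have hdim := dim_generic_fiber_eq_tr f
  have hab : ((tr (Y.residueField (f.base ξ)) (f.fiber (f.base ξ)) (f.asFiber ξ) : ℕ) :
      WithBot ℕ∞) = ((a - b : ℕ) : WithBot ℕ∞) := by
    have : tr (Y.residueField (f.base ξ)) (f.fiber (f.base ξ)) (f.asFiber ξ) = a - b := by omega
    rw [this]
  rw [hab] at hdim
  have hle : ∀ x : X, ((a - b : ℕ) : WithBot ℕ∞) ≤ FlatMor.fibreDimAt f x := by
    intro x
    rw [← hdim]
    exact dim_generic_fiber_le_fibreDimAt f x
  have hset : {x : X | FlatMor.fibreDimAt f x = ((a - b : ℕ) : WithBot ℕ∞)} =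
      {x : X | FlatMor.fibreDimAt f x ≤ ((a - b : ℕ) : WithBot ℕ∞)} := by
    ext x
    exact ⟨fun h => h.le, fun h => le_antisymm h (hle x)⟩
  refine ⟨hle, ?_, ?_⟩
  · rw [hset]
    exact isOpen_setOf_fibreDimAt_le f (a - b)
  · rw [hset]
    have hmem : ξ ∈ {x : X | FlatMor.fibreDimAt f x ≤ ((a - b : ℕ) : WithBot ℕ∞)} := by
      obtain ⟨n, hn1, hn2⟩ := exists_dim_generic_fiber f
      show FlatMor.fibreDimAt f ξ ≤ _
      have : FlatMor.fibreDimAt f ξ = n := hn2 _
      rw [this, ← hn1, hdim]
    refine Dense.mono (Set.singleton_subset_iff.mpr hmem) ?_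
    rw [dense_iff_closure_eq]
    exact (genericPoint_spec X).def

end OverField

/-- The fibre dimension in an affine chart. -/
theorem fibreDimAt_fromSpec {U : X.Opens} {V : Y.Opens} (hU : IsAffineOpen U)
    (hV : IsAffineOpen V) (hUV : U ≤ f ⁻¹ᵁ V) (y : Spec Γ(X, U)) :
    FlatMor.fibreDimAt f (hU.fromSpec y) =
      topFibreDim (PrimeSpectrum.comap (f.appLE V U hUV).hom) y := by
  have hsq : Spec.map (f.appLE V U hUV) ≫ hV.fromSpec = hU.fromSpec ≫ f :=
    hV.SpecMap_appLE_fromSpec f hU hUV
  rw [fibreDimAt_eq_topFibreDim]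
  rw [← topFibreDim_comp_isOpenEmbedding f.base hU.fromSpec.base hU.fromSpec.isOpenEmbedding y]
  have h1 : (f.base ∘ hU.fromSpec.base : Spec Γ(X, U) → Y) =
      hV.fromSpec.base ∘ (Spec.map (f.appLE V U hUV)).base := by
    funext z
    have := congrArg (fun g => g.base z) hsq
    exact this.symm
  rw [topFibreDim_congr h1]
  exact topFibreDim_comp_injective _ _ hV.fromSpec.isOpenEmbedding.injective y

open TensorProduct in
/-- A ring map generated by `m` elements has fibre dimension at most `m`. -/
theorem topFibreDim_le_of_surjective {A B : Type u} [CommRing A] [CommRing B] [Algebra A B]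
    (m : ℕ) (φ : MvPolynomial (Fin m) A →ₐ[A] B) (hφ : Function.Surjective φ)
    (q : PrimeSpectrum B) : topFibreDim (PrimeSpectrum.comap (algebraMap A B)) q ≤ m := by
  set p := PrimeSpectrum.comap (algebraMap A B) q with hp
  unfold topFibreDim
  refine (Groth.Agent.Lib.Helper9.localDim_le_topologicalKrullDim _).trans ?_
  have h1 : topologicalKrullDim (PrimeSpectrum.comap (algebraMap A B) ⁻¹' {p}) =
      ringKrullDim (p.asIdeal.Fiber B) := by
    rw [← PrimeSpectrum.topologicalKrullDim_eq_ringKrullDim]
    exact IsHomeomorph.topologicalKrullDim_eq _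
      (PrimeSpectrum.preimageHomeomorphFiber A B p).isHomeomorph
  rw [h1, ← ringKrullDim_fiber_mvPolynomial p m]
  have hsurj : Function.Surjective (fiberMap φ p) :=
    Algebra.TensorProduct.map_surjective (f := AlgHom.id _ _) (g := φ)
      Function.surjective_id hφ
  exact ringKrullDim_le_of_surjective (fiberMap φ p).toRingHom hsurj

/-- Locally on the source, the fibre dimension of a morphism locally of finite type is bounded. -/
theorem exists_opens_fibreDimAt_le [LocallyOfFiniteType f] (x : X) :
    ∃ (U : X.Opens) (m : ℕ), x ∈ U ∧ ∀ x' ∈ U, FlatMor.fibreDimAt f x' ≤ m := by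
  obtain ⟨_, ⟨V, hV, rfl⟩, hxV, -⟩ := Y.isBasis_affineOpens.exists_subset_of_mem_open
    (Set.mem_univ (f x)) isOpen_univ
  obtain ⟨_, ⟨U, hU, rfl⟩, hxU, hUV⟩ := X.isBasis_affineOpens.exists_subset_of_mem_open
    hxV (f ⁻¹ᵁ V).2
  have hUV' : U ≤ f ⁻¹ᵁ V := hUV
  have hφ : (f.appLE V U hUV').hom.FiniteType := Scheme.Hom.finiteType_appLE f hV hU hUV'
  letI := (f.appLE V U hUV').hom.toAlgebra
  haveI : Algebra.FiniteType Γ(Y, V) Γ(X, U) := hφ
  obtain ⟨m, φ, hφs⟩ := Algebra.FiniteType.iff_quotient_mvPolynomial''.mp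
    (inferInstance : Algebra.FiniteType Γ(Y, V) Γ(X, U))
  refine ⟨U, m, hxU, fun x' hx' => ?_⟩
  have h1 := fibreDimAt_fromSpec f hU hV hUV' (hU.primeIdealOf ⟨x', hx'⟩)
  rw [hU.fromSpec_primeIdealOf ⟨x', hx'⟩] at h1
  rw [h1]
  exact topFibreDim_le_of_surjective m φ hφs _

/-- The fibres of a morphism of finite type over a quasi-compact base have bounded dimension. -/
theorem exists_dim_fiber_le [CompactSpace Y] [LocallyOfFiniteType f] [QuasiCompact f] :
    ∃ n : ℕ, ∀ y : Y, topologicalKrullDim (f.fiber y) ≤ n := by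
  haveI : CompactSpace X := QuasiCompact.compactSpace_of_compactSpace f
  choose U m hxU hUm using exists_opens_fibreDimAt_le f
  obtain ⟨t, ht⟩ := CompactSpace.elim_nhds_subcover (fun x => (U x : Set X))
    (fun x => (U x).2.mem_nhds (hxU x))
  refine ⟨t.sup m, fun y => ?_⟩
  rw [dim_fiber_le_iff]
  intro x _
  have hx : x ∈ ⋃ x ∈ t, (U x : Set X) := by rw [ht]; trivial
  simp only [Set.mem_iUnion] at hx
  obtain ⟨x₀, hx₀t, hx₀⟩ := hx
  refine (hUm x₀ x hx₀).trans ?_
  have : m x₀ ≤ t.sup m := Finset.le_sup hx₀t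
  exact_mod_cast this

theorem dim_fiber_congr {y₁ y₂ : Y} (h : y₁ = y₂) :
    topologicalKrullDim (f.fiber y₁) = topologicalKrullDim (f.fiber y₂) := by
  subst h; rfl

end Groth.Agent.Lib.Helper12.ChevalleyCor
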