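import Mathlib
import Groth.Agent.S9358
import Groth.Agent.Lib.Helper12.ChevalleyCor

/-!
# The dimension of a fibre is invariant under base change
-/

set_option autoImplicit false
universe u
open AlgebraicGeometry CategoryTheory TopologicalSpace Limits

namespace Groth.Agent.Lib.Helper12.FibreDimBC

open Groth.Agent.Lib.Helper12.ChevalleyCor

/-- In a cartesian square with `f` locally of finite type, the fibre of the base change `f'` over
`s'` has the same dimension as the fibre of `f` over the image of `s'`. -/
theorem dim_fiber_of_isPullback {X S X' S' : Scheme.{u}} (f : X ⟶ S) [LocallyOfFiniteType f]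
    (g : S' ⟶ S) (g' : X' ⟶ X) (f' : X' ⟶ S') (hsq : IsPullback g' f' f g) (s' : S') :
    topologicalKrullDim (f'.fiber s') = topologicalKrullDim (f.fiber (g s')) := by
  have hbc := (Groth.Agent.S9358.result f g g' f' hsq 0).1
  apply le_antisymm
  · rw [dim_fiber_le_iff]
    intro x' hx'
    rw [hbc x']
    have h1 := (dim_fiber_le_iff f (g s') (topologicalKrullDim (f.fiber (g s')))).mp le_rfl
    apply h1
    have h2 := congr($(hsq.w) x')
    rw [Scheme.Hom.comp_apply, Scheme.Hom.comp_apply, hx'] at h2
    exact h2
  · rw [dim_fiber_le_iff]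
    intro x hx
    obtain ⟨x', hx'1, hx'2⟩ := Scheme.exists_preimage_of_isPullback hsq x s' hx
    have h1 := (dim_fiber_le_iff f' s' (topologicalKrullDim (f'.fiber s'))).mp le_rfl x' hx'2
    rw [hbc x', hx'1] at h1
    exact h1

end Groth.Agent.Lib.Helper12.FibreDimBC
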