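import Mathlib
import Groth.Agent.Lib.Helper14.Catenary
import Groth.Agent.Lib.Helper14.CatenaryDim

/-!
# Helper library (helper12): order-theoretic tools for relative heights (intervals of primes)
-/

set_option autoImplicit false
universe u

namespace Groth.Agent.Lib.Helper12.OrdTools

open Order

section Basic

variable {α β : Type*} [Preorder α] [Preorder β]

/-- Intervals are preserved by order embeddings with order-connected range. -/
noncomputable def iccOrderIso (e : α ↪o β) (he : (Set.range e).OrdConnected) (a b : α) :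
    Set.Icc a b ≃o Set.Icc (e a) (e b) where
  toEquiv := Equiv.ofBijective
    (fun z : Set.Icc a b => (⟨e z.1, e.monotone z.2.1, e.monotone z.2.2⟩ : Set.Icc (e a) (e b)))
    ⟨fun x y h => Subtype.ext (e.injective (congrArg Subtype.val h)), by
      rintro ⟨w, hw1, hw2⟩
      obtain ⟨z, rfl⟩ := he.out ⟨a, rfl⟩ ⟨b, rfl⟩ ⟨hw1, hw2⟩
      exact ⟨⟨z, e.le_iff_le.mp hw1, e.le_iff_le.mp hw2⟩, rfl⟩⟩
  map_rel_iff' := by
    intro x y
    exact e.le_iff_le

theorem krullDim_Icc_eq (e : α ↪o β) (he : (Set.range e).OrdConnected) (a b : α) :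
    krullDim (Set.Icc (e a) (e b)) = krullDim (Set.Icc a b) :=
  (krullDim_eq_of_orderIso (iccOrderIso e he a b)).symm

theorem height_eq_krullDim_Icc_bot [OrderBot α] (x : α) :
    ((height x : ℕ∞) : WithBot ℕ∞) = krullDim (Set.Icc ⊥ x) := by
  rw [height_eq_krullDim_Iic, Set.Icc_bot]

theorem coheight_eq_krullDim_Icc_top [OrderTop α] (x : α) :
    ((coheight x : ℕ∞) : WithBot ℕ∞) = krullDim (Set.Icc x ⊤) := by
  rw [coheight_eq_krullDim_Ici, Set.Icc_top]

theorem krullDim_Icc_eq_height_of_least (a x : α) (h : ∀ z, a ≤ z) :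
    krullDim (Set.Icc a x) = ((height x : ℕ∞) : WithBot ℕ∞) := by
  rw [height_eq_krullDim_Iic]
  have : Set.Icc a x = Set.Iic x := by
    ext z
    simp [h z]
  rw [this]

theorem krullDim_Icc_eq_coheight_of_greatest (x b : α) (h : ∀ z, z ≤ b) :
    krullDim (Set.Icc x b) = ((coheight x : ℕ∞) : WithBot ℕ∞) := by
  rw [coheight_eq_krullDim_Ici]
  have : Set.Icc x b = Set.Ici x := by
    ext z
    simp [h z]
  rw [this]

theorem krullDim_Icc_nonneg {a b : α} (h : a ≤ b) : 0 ≤ krullDim (Set.Icc a b) := by
  haveI : Nonempty (Set.Icc a b) := ⟨⟨a, le_rfl, h⟩⟩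
  exact krullDim_nonneg

/-- Intervals under an order-reversing embedding with order-connected range. -/
noncomputable def iccOrderIsoAnti (e : α → β) (he : ∀ x y, e x ≤ e y ↔ y ≤ x)
    (hinj : Function.Injective e) (hconn : (Set.range e).OrdConnected) (a b : α) :
    (Set.Icc a b)ᵒᵈ ≃o Set.Icc (e b) (e a) where
  toEquiv := Equiv.ofBijective
    (fun z : (Set.Icc a b)ᵒᵈ => (⟨e (OrderDual.ofDual z).1,
      (he _ _).mpr (OrderDual.ofDual z).2.2, (he _ _).mpr (OrderDual.ofDual z).2.1⟩ :
        Set.Icc (e b) (e a)))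
    ⟨fun x y h => by
      have := hinj (congrArg Subtype.val h)
      exact congrArg OrderDual.toDual (Subtype.ext this), by
      rintro ⟨w, hw1, hw2⟩
      obtain ⟨z, rfl⟩ := hconn.out ⟨b, rfl⟩ ⟨a, rfl⟩ ⟨hw1, hw2⟩
      exact ⟨OrderDual.toDual ⟨z, (he _ _).mp hw2, (he _ _).mp hw1⟩, rfl⟩⟩
  map_rel_iff' := by
    intro x y
    exact he _ _

theorem krullDim_Icc_eq_of_anti (e : α → β) (he : ∀ x y, e x ≤ e y ↔ y ≤ x)
    (hinj : Function.Injective e) (hconn : (Set.range e).OrdConnected) (a b : α) :
    krullDim (Set.Icc (e b) (e a)) = krullDim (Set.Icc a b) := by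
  rw [← krullDim_eq_of_orderIso (iccOrderIsoAnti e he hinj hconn a b), krullDim_orderDual]

theorem coheight_last_add_le (l : LTSeries α) :
    ∀ (k : ℕ) (hk : k < l.length + 1),
      coheight l.last + k ≤ coheight (l ⟨l.length - k, by omega⟩) := by
  intro k
  induction k with
  | zero => intro hk; simp; rfl
  | succ k ih =>
    intro hk
    have h1 := ih (by omega)
    have hlt : l ⟨l.length - (k + 1), by omega⟩ < l ⟨l.length - k, by omega⟩ :=
      l.strictMono (by simp [Fin.lt_def]; omega)
    have h2 := coheight_add_one_le hlt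
    calc coheight l.last + ((k + 1 : ℕ) : ℕ∞) = (coheight l.last + k) + 1 := by
          push_cast; ring
      _ ≤ coheight (l ⟨l.length - k, by omega⟩) + 1 := by gcongr
      _ ≤ _ := h2

/-- For a chain, `coheight (last) + length ≤ coheight (head)`. -/
theorem coheight_last_add_length_le (l : LTSeries α) :
    coheight l.last + l.length ≤ coheight l.head := by
  have := coheight_last_add_le l l.length (by omega)
  simpa [RelSeries.head] using this

/-- Cancellation of a natural number in `WithBot ℕ∞`. -/
theorem le_of_nat_add_le (d : ℕ) (a b : WithBot ℕ∞) (h : (d : WithBot ℕ∞) + a ≤ d + b) :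
    a ≤ b := by
  have cases : ∀ c : WithBot ℕ∞, c = ⊥ ∨ c = ⊤ ∨ ∃ m : ℕ, c = (m : WithBot ℕ∞) := by
    intro c
    induction c using WithBot.recBotCoe with
    | bot => left; rfl
    | coe c =>
      induction c using ENat.recTopCoe with
      | top => right; left; rfl
      | coe m => right; right; exact ⟨m, rfl⟩
  rcases cases a with rfl | rfl | ⟨m, rfl⟩
  · exact bot_le
  · rcases cases b with rfl | rfl | ⟨n, rfl⟩
    · simp at h
    · exact le_rfl
    · exfalso
      have h1 : ((d : WithBot ℕ∞) + ⊤) = ⊤ := by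
        rw [← WithBot.coe_top, ← WithBot.coe_natCast, ← WithBot.coe_add]; simp
      rw [h1] at h
      have h2 : ((d : WithBot ℕ∞) + (n : WithBot ℕ∞)) = ((d + n : ℕ) : WithBot ℕ∞) := by
        push_cast; rfl
      rw [h2] at h
      have := top_le_iff.mp h
      have h5 : (((d + n : ℕ) : ℕ∞) : WithBot ℕ∞) = ((⊤ : ℕ∞) : WithBot ℕ∞) := this
      exact absurd (WithBot.coe_injective h5) (ENat.coe_ne_top (d + n))
  · rcases cases b with rfl | rfl | ⟨n, rfl⟩
    · exfalso
      rw [WithBot.add_bot] at h
      have h2 : ((d : WithBot ℕ∞) + (m : WithBot ℕ∞)) = ((d + m : ℕ) : WithBot ℕ∞) := by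
        push_cast; rfl
      rw [h2] at h
      simp at h
    · exact le_top
    · have h2 : ((d : WithBot ℕ∞) + (m : WithBot ℕ∞)) = ((d + m : ℕ) : WithBot ℕ∞) := by
        push_cast; rfl
      have h3 : ((d : WithBot ℕ∞) + (n : WithBot ℕ∞)) = ((d + n : ℕ) : WithBot ℕ∞) := by
        push_cast; rfl
      rw [h2, h3] at h
      have h4 : d + m ≤ d + n := by exact_mod_cast h
      have : m ≤ n := by omega
      exact_mod_cast this

/-- If strict upper bounds of `f a` lift, then `coheight (f a) ≤ coheight a`. -/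
theorem coheight_apply_le_of_lift {α β : Type*} [Preorder α] [Preorder β] (f : α → β)
    (h : ∀ a : α, ∀ b : β, f a < b → ∃ (a' : α), a < a' ∧ f a' = b) (a : α) :
    Order.coheight (f a) ≤ Order.coheight a := by
  refine Order.coheight_le_iff'.mpr fun p hp ↦ ?_
  induction p using RelSeries.inductionOn generalizing a with
  | singleton x => simp
  | cons p x hx ih =>
    simp only [RelSeries.head_cons] at hp
    obtain ⟨a', haa', ha'⟩ := h a p.head (by rw [← hp]; exact hx)
    have h1 := ih a' ha'.symm
    have h2 := Order.coheight_add_one_le haa'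
    calc ((p.cons x hx).length : ℕ∞) = (p.length : ℕ∞) + 1 := by simp
      _ ≤ Order.coheight a' + 1 := by gcongr
      _ ≤ _ := h2

/-- If strict lower bounds of `f a` lift, then `height (f a) ≤ height a`. -/
theorem height_apply_le_of_lift {α β : Type*} [Preorder α] [Preorder β] (f : α → β)
    (h : ∀ a : α, ∀ b : β, b < f a → ∃ (a' : α), a' < a ∧ f a' = b) (a : α) :
    Order.height (f a) ≤ Order.height a := by
  have := coheight_apply_le_of_lift (α := αᵒᵈ) (β := βᵒᵈ)
    (fun x => OrderDual.toDual (f (OrderDual.ofDual x)))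
    (fun a b hab => by
      obtain ⟨a', ha', hfa'⟩ := h (OrderDual.ofDual a) (OrderDual.ofDual b) hab
      exact ⟨OrderDual.toDual a', ha', congrArg OrderDual.toDual hfa'⟩) (OrderDual.toDual a)
  simpa using this

/-- A chain lies in the interval between its head and anything above its last element. -/
theorem length_le_krullDim_Icc' (l : LTSeries α) (b : α) (hb : l.last ≤ b) :
    (l.length : WithBot ℕ∞) ≤ Order.krullDim (Set.Icc l.head b) := by
  let l' : LTSeries (Set.Icc l.head b) :=
    { length := l.length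
      toFun := fun i => ⟨l i, l.head_le i, (l.monotone (Fin.le_last i)).trans hb⟩
      step := fun i => l.step i }
  exact Order.LTSeries.length_le_krullDim l'

end Basic

section Cat

open Groth.Agent.Lib.Helper14

variable {L : Type*} [PartialOrder L] [FiniteDimensionalOrder L]

theorem coheight_head_eq_of_cov [OrderTop L] (hcat : OrderCatenary L)
    (u : RelSeries {(a, b) : L × L | a ⋖ b}) :
    ∀ (i : ℕ) (hi : i < u.length + 1), coheight u.head = coheight (u ⟨i, hi⟩) + i := by
  intro i
  induction i with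
  | zero => intro hi; simp; rfl
  | succ i ih =>
    intro hi
    have h1 := ih (by omega)
    have h2 := coheight_eq_add_one_of_covBy hcat (u.step ⟨i, by omega⟩)
    simp only [Fin.castSucc_mk, Fin.succ_mk] at h2
    rw [h1, h2]
    push_cast
    rw [add_assoc, add_comm 1 (i : ℕ∞)]

/-- In a bounded finite-dimensional catenary order, `dim = height x + coheight x`. -/
theorem krullDim_le_height_add_coheight [OrderBot L] [OrderTop L] (hcat : OrderCatenary L)
    (x : L) : krullDim L ≤ ((height x + coheight x : ℕ∞) : WithBot ℕ∞) := by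
  obtain ⟨u, hu0, hul⟩ := exists_cov_series (bot_le : (⊥ : L) ≤ x)
  have h1 := coheight_head_eq_of_cov hcat u u.length (by omega)
  have hlast : u ⟨u.length, by omega⟩ = x := hul
  rw [hu0, hlast] at h1
  have h2 : (u.length : ℕ∞) ≤ height x := by
    have := length_le_height_last (p := covToLT u)
    simpa [hul] using this
  rw [← coheight_bot_eq_krullDim, h1]
  apply WithBot.coe_le_coe.mpr
  rw [add_comm]
  gcongr

end Cat

end Groth.Agent.Lib.Helper12.OrdTools
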