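import Mathlib
import Groth.Prelude.Def_Cyc
import Groth.Agent.Lib.Helper12.OrdTools

/-!
# Helper library (helper12): dimension functions and intervals of the specialization order
-/

set_option autoImplicit false
universe u
open AlgebraicGeometry CategoryTheory

namespace Groth.Agent.Lib.Helper12.DimFun

variable {S : Scheme.{u}} {δ : S → ℤ}

theorem lt_iff (a b : S) : a < b ↔ b ⤳ a ∧ a ≠ b := by
  constructor
  · intro h
    refine ⟨h.1, fun hab => h.2 ?_⟩
    rw [hab]
  · rintro ⟨h1, h2⟩
    refine ⟨h1, fun h3 => h2 ?_⟩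
    have h4 : a ⤳ b := h3
    exact (h4.antisymm h1).eq

theorem delta_lt (hδ : Cyc.IsDimFun S δ) {a b : S} (h : a < b) : δ a < δ b := by
  obtain ⟨h1, h2⟩ := (lt_iff a b).mp h
  exact (hδ b a h1 (Ne.symm h2)).1

theorem delta_le (hδ : Cyc.IsDimFun S δ) {a b : S} (h : a ≤ b) : δ a ≤ δ b := by
  by_cases hab : a = b
  · rw [hab]
  · exact (delta_lt hδ ((lt_iff a b).mpr ⟨h, hab⟩)).le

/-- Along a chain, `δ` increases at least by the length. -/
theorem delta_head_add_le (hδ : Cyc.IsDimFun S δ) (l : LTSeries S) :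
    ∀ (k : ℕ) (hk : k < l.length + 1), δ l.head + k ≤ δ (l ⟨k, hk⟩) := by
  intro k
  induction k with
  | zero => intro hk; simp; rfl
  | succ k ih =>
    intro hk
    have h1 := ih (by omega)
    have hlt : l ⟨k, by omega⟩ < l ⟨k + 1, hk⟩ := l.strictMono (by simp [Fin.lt_def])
    have h2 := delta_lt hδ hlt
    push_cast
    omega

theorem delta_head_add_length_le (hδ : Cyc.IsDimFun S δ) (l : LTSeries S) :
    δ l.head + l.length ≤ δ l.last :=
  delta_head_add_le hδ l l.length (by omega)

/-- Between comparable points there is a chain of length the difference of `δ`. -/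
theorem exists_series (hδ : Cyc.IsDimFun S δ) (a : S) :
    ∀ (n : ℕ) (b : S), a ≤ b → δ b - δ a = n →
      ∃ l : LTSeries S, l.head = a ∧ l.last = b ∧ l.length = n := by
  intro n
  induction n with
  | zero =>
    intro b hab hn
    have : a = b := by
      by_contra hne
      have := delta_lt hδ ((lt_iff a b).mpr ⟨hab, hne⟩)
      simp at hn
      omega
    subst this
    exact ⟨RelSeries.singleton _ a, rfl, rfl, rfl⟩
  | succ n ih =>
    intro b hab hn
    have hne : a ≠ b := by
      rintro rfl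
      simp at hn
      omega
    -- choose `z` in `[a, b)` with `δ z` maximal
    obtain ⟨k, ⟨z, hz1, hz2, rfl⟩, hmax⟩ := Int.exists_greatest_of_bdd
      (P := fun k => ∃ z : S, a ≤ z ∧ z < b ∧ δ z = k)
      ⟨δ b, fun k ⟨z, _, hz2, hk⟩ => hk ▸ (delta_lt hδ hz2).le⟩
      ⟨δ a, a, le_rfl, (lt_iff a b).mpr ⟨hab, hne⟩, rfl⟩
    have himm : ∀ w : S, b ⤳ w → w ⤳ z → w = b ∨ w = z := by
      intro w hw1 hw2
      by_contra hcon
      push_neg at hcon
      have hzw : z < w := (lt_iff z w).mpr ⟨hw2, Ne.symm hcon.2⟩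
      have hwb : w < b := (lt_iff w b).mpr ⟨hw1, hcon.1⟩
      have := hmax (δ w) ⟨w, hz1.trans hzw.le, hwb, rfl⟩
      have := delta_lt hδ hzw
      omega
    obtain ⟨hb1, hb2⟩ := (lt_iff z b).mp hz2
    have hstep : δ b = δ z + 1 := (hδ b z hb1 (Ne.symm hb2)).2 himm
    obtain ⟨l, hl0, hl1, hlen⟩ := ih z hz1 (by push_cast at hn; omega)
    refine ⟨l.snoc b (by rw [hl1]; exact hz2), ?_, ?_, ?_⟩
    · simp [hl0]
    · simp
    · simp [hlen]

/-- The dimension of an interval of the specialization order is the difference of `δ`. -/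
theorem krullDim_Icc_eq (hδ : Cyc.IsDimFun S δ) {a b : S} (hab : a ≤ b) :
    Order.krullDim (Set.Icc a b) = (((δ b - δ a).toNat : ℕ) : WithBot ℕ∞) := by
  have hle := delta_le hδ hab
  apply le_antisymm
  · haveI : Nonempty (Set.Icc a b) := ⟨⟨a, le_rfl, hab⟩⟩
    rw [Order.krullDim_eq_iSup_length]
    have : (⨆ l : LTSeries (Set.Icc a b), (l.length : ℕ∞)) ≤ ((δ b - δ a).toNat : ℕ∞) := by
      refine iSup_le fun l => ?_
      let l' : LTSeries S := l.map Subtype.val (fun _ _ h => h)
      have h1 := delta_head_add_length_le hδ l'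
      have h2 : δ a ≤ δ l'.head := delta_le hδ (by simp [l']; exact (l.head).2.1)
      have h3 : δ l'.last ≤ δ b := delta_le hδ (by simp [l']; exact (l.last).2.2)
      have h4 : l'.length = l.length := by simp [l']
      have h5 : (l.length : ℤ) ≤ δ b - δ a := by rw [← h4]; omega
      have h6 : l.length ≤ (δ b - δ a).toNat := by omega
      exact_mod_cast h6
    exact_mod_cast this
  · obtain ⟨l, hl0, hl1, hlen⟩ := exists_series hδ a (δ b - δ a).toNat b hab (by omega)
    have := OrdTools.length_le_krullDim_Icc' l b (le_of_eq hl1)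
    rw [hl0, hlen] at this
    exact this

end Groth.Agent.Lib.Helper12.DimFun
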