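import Mathlib
import Groth.Prelude.Def_CurvBase
import Groth.Agent.Lib.Helper12.FibreRes

/-!
# Helper library (helper12): the relative transcendence degree `trdeg_{κ(f x)} κ(x)` as the
dimension function of the fibre
-/

set_option autoImplicit false
universe u
open AlgebraicGeometry CategoryTheory Opposite Limits

namespace Groth.Agent.Lib.Helper12.FibreRes

open Groth.Agent.Lib.Helper12 Groth.Agent.Lib.Helper12.SchemeDimFT

attribute [local instance] Curv2.resAlgebra

section SpecField

variable (k : Type u) [Field k] (L : Type u) [Field L] (φ : k →+* L)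

/-- The residue field of `Spec L` at its point is `L`, as `k`-algebras. -/
theorem trdeg_residueField_Spec_field (pt : Spec (CommRingCat.of L)) :
    letI : (Spec (CommRingCat.of L)).Over (Spec (CommRingCat.of k)) :=
      ⟨Spec.map (CommRingCat.ofHom φ)⟩
    letI : Algebra k L := φ.toAlgebra
    Algebra.trdeg k ((Spec (CommRingCat.of L)).residueField pt) = Algebra.trdeg k L := by
  letI : (Spec (CommRingCat.of L)).Over (Spec (CommRingCat.of k)) :=
    ⟨Spec.map (CommRingCat.ofHom φ)⟩
  letI : Algebra k L := φ.toAlgebra
  let e : L →+* (Spec (CommRingCat.of L)).residueField pt :=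
    ((Scheme.ΓSpecIso (CommRingCat.of L)).inv ≫
      (Spec (CommRingCat.of L)).presheaf.germ ⊤ pt trivial ≫
        (Spec (CommRingCat.of L)).residue pt).hom
  have he : CommRingCat.ofHom e = CommRingCat.ofHom (algebraMap L pt.asIdeal.ResidueField) ≫
      (Scheme.Spec.residueFieldIso (CommRingCat.of L) pt).inv :=
    (Scheme.Spec.algebraMap_residueFieldIso_inv (CommRingCat.of L) pt).symm
  haveI hmax : pt.asIdeal.IsMaximal := by
    have : pt.asIdeal = ⊥ := by
      rcases Ideal.eq_bot_or_top pt.asIdeal with h | h
      · exact h
      · exact absurd h pt.2.ne_top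
    rw [this]
    exact Ideal.bot_isMaximal
  have hsurj : Function.Surjective e := by
    have h1 : Function.Surjective (algebraMap L pt.asIdeal.ResidueField) :=
      pt.asIdeal.algebraMap_residueField_surjective
    have h2 : Function.Surjective (Scheme.Spec.residueFieldIso (CommRingCat.of L) pt).inv.hom :=
      (ConcreteCategory.bijective_of_isIso
        (Scheme.Spec.residueFieldIso (CommRingCat.of L) pt).inv).2
    have h3 : e = (Scheme.Spec.residueFieldIso (CommRingCat.of L) pt).inv.hom.comp
        (algebraMap L pt.asIdeal.ResidueField) := by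
      have := congrArg CommRingCat.Hom.hom he
      simpa using this
    rw [h3]
    exact h2.comp h1
  have hcomm : ∀ c : k, e (algebraMap k L c) =
      algebraMap k ((Spec (CommRingCat.of L)).residueField pt) c := by
    intro c
    change e (φ c) = ((Spec (CommRingCat.of L)).residue pt).hom
      (((Spec (CommRingCat.of L)).presheaf.germ ⊤ pt trivial).hom
        (Coh.toGlobal (Spec.map (CommRingCat.ofHom φ)) c))
    change ((Spec (CommRingCat.of L)).residue pt).hom
      (((Spec (CommRingCat.of L)).presheaf.germ ⊤ pt trivial).hom
        ((Scheme.ΓSpecIso (CommRingCat.of L)).inv.hom (φ c))) = _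
    congr 2
    have h := Scheme.ΓSpecIso_inv_naturality (CommRingCat.ofHom φ)
    exact congrArg (fun ψ => ψ.hom c) h
  let eA : L →ₐ[k] (Spec (CommRingCat.of L)).residueField pt :=
    { e with commutes' := hcomm }
  exact (AlgEquiv.ofBijective eA ⟨e.injective, hsurj⟩).trdeg_eq.symm

end SpecField

/-- The relative transcendence degree `trdeg_{κ(f x)} κ(x)` equals the transcendence degree of the
residue field of the fibre at the corresponding point. -/
theorem trdeg_residueFieldMap {X Y : Scheme.{u}} (f : X ⟶ Y) (x : X) :
    letI := (f.residueFieldMap x).hom.toAlgebra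
    letI ovF : (f.fiber (f x)).Over (Spec (CommRingCat.of (Y.residueField (f x)))) :=
      ⟨f.fiberToSpecResidueField (f x)⟩
    Algebra.trdeg (Y.residueField (f x)) (X.residueField x) =
      Algebra.trdeg (Y.residueField (f x)) ((f.fiber (f x)).residueField (f.asFiber x)) := by
  letI := (f.residueFieldMap x).hom.toAlgebra
  letI ovF : (f.fiber (f x)).Over (Spec (CommRingCat.of (Y.residueField (f x)))) :=
    ⟨f.fiberToSpecResidueField (f x)⟩
  letI ovS : (Spec (CommRingCat.of (X.residueField x))).Over
      (Spec (CommRingCat.of (Y.residueField (f x)))) :=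
    ⟨Spec.map (CommRingCat.ofHom (f.residueFieldMap x).hom)⟩
  let pt : Spec (CommRingCat.of (X.residueField x)) := IsLocalRing.closedPoint (X.residueField x)
  have ha : f.asFiberHom x pt = f.asFiber x := f.asFiberHom_apply x pt
  rw [← ha]
  have h2 := trdeg_residueField_Spec_field (Y.residueField (f x)) (X.residueField x)
    (f.residueFieldMap x).hom pt
  rw [← h2]
  have hcomp : f.asFiberHom x ≫ f.fiberToSpecResidueField (f x) =
      Spec.map (CommRingCat.ofHom (f.residueFieldMap x).hom) :=
    f.asFiberHom_fiberToSpecResidueField x
  have hbij : Function.Bijective ((f.asFiberHom x).residueFieldMap pt).hom := by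
    refine ⟨RingHom.injective _, ?_⟩
    have hs : Function.Surjective ((f.asFiberHom x).stalkMap pt).hom :=
      (f.asFiberHom x).stalkMap_surjective pt
    exact Ideal.Quotient.lift_surjective_of_surjective _ _
      (Ideal.Quotient.mk_surjective.comp hs)
  let ψ : (f.fiber (f x)).residueField (f.asFiberHom x pt) →ₐ[Y.residueField (f x)]
      (Spec (CommRingCat.of (X.residueField x))).residueField pt :=
    { ((f.asFiberHom x).residueFieldMap pt).hom with
      commutes' := fun c =>
        residueFieldMap_resMap (Y.residueField (f x)) (f.fiberToSpecResidueField (f x))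
          (Spec.map (CommRingCat.ofHom (f.residueFieldMap x).hom)) (f.asFiberHom x) hcomp pt c }
  exact (AlgEquiv.ofBijective ψ hbij).trdeg_eq.symm

/-- The relative transcendence degree as the dimension function of the fibre. -/
theorem trdeg_residueFieldMap_eq_tr {X Y : Scheme.{u}} (f : X ⟶ Y) [LocallyOfFiniteType f]
    (x : X) :
    letI := (f.residueFieldMap x).hom.toAlgebra
    letI ovF : (f.fiber (f x)).Over (Spec (CommRingCat.of (Y.residueField (f x)))) :=
      ⟨f.fiberToSpecResidueField (f x)⟩
    haveI : LocallyOfFiniteType
        ((f.fiber (f x)) ↘ Spec (CommRingCat.of (Y.residueField (f x)))) :=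
      locallyOfFiniteType_fiberToSpecResidueField f (f x)
    Algebra.trdeg (Y.residueField (f x)) (X.residueField x) =
      (tr (Y.residueField (f x)) (f.fiber (f x)) (f.asFiber x) : Cardinal.{u}) := by
  letI := (f.residueFieldMap x).hom.toAlgebra
  letI ovF : (f.fiber (f x)).Over (Spec (CommRingCat.of (Y.residueField (f x)))) :=
    ⟨f.fiberToSpecResidueField (f x)⟩
  haveI : LocallyOfFiniteType
      ((f.fiber (f x)) ↘ Spec (CommRingCat.of (Y.residueField (f x)))) :=
    locallyOfFiniteType_fiberToSpecResidueField f (f x)
  rw [trdeg_residueFieldMap f x]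
  exact tr_spec (Y.residueField (f x)) (f.fiber (f x)) (f.asFiber x)

end Groth.Agent.Lib.Helper12.FibreRes
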