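import Mathlib

set_option autoImplicit false
universe u v
open Polynomial Cardinal

namespace Groth.Agent.Lib.Helper12.DimIneq

section Transport

theorem trdeg_le_of_ringHom {R R' : Type u} {S S' : Type v} [CommRing R] [CommRing R'] [Nontrivial R']
    [CommRing S] [CommRing S'] [Algebra R S] [Algebra R' S'] (f : R →+* R') (g : S →+* S')
    (hf : Function.Surjective f) (hg : Function.Injective g)
    (h : (algebraMap R' S').comp f = g.comp (algebraMap R S)) :
    Algebra.trdeg R S ≤ Algebra.trdeg R' S' := by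
  rw [Algebra.trdeg]
  exact ciSup_le' fun i => (i.2.ringHom_of_comp_eq f g hf hg h).cardinalMk_le_trdeg

theorem trdeg_eq_of_ringEquiv {R R' : Type u} {S S' : Type v} [CommRing R] [CommRing R']
    [Nontrivial R] [Nontrivial R']
    [CommRing S] [CommRing S'] [Algebra R S] [Algebra R' S'] (f : R ≃+* R') (g : S ≃+* S')
    (h : ∀ r : R, algebraMap R' S' (f r) = g (algebraMap R S r)) :
    Algebra.trdeg R S = Algebra.trdeg R' S' := by
  apply le_antisymm
  · exact trdeg_le_of_ringHom f.toRingHom g.toRingHom f.surjective g.injective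
      (RingHom.ext fun r => h r)
  · refine trdeg_le_of_ringHom f.symm.toRingHom g.symm.toRingHom f.symm.surjective
      g.symm.injective (RingHom.ext fun r => ?_)
    apply g.injective
    have := h (f.symm r)
    simp only [RingEquiv.apply_symm_apply] at this
    simp [this]

/-- The residue extension of a prime `q` over `p` computed by any surjective model. -/
theorem trdeg_quotient_eq {A B k L : Type u} [CommRing A] [CommRing B] [CommRing k] [CommRing L]
    [Nontrivial k] [Algebra A B] [Algebra k L] (α : A →+* k) (β : B →+* L)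
    (hα : Function.Surjective α) (hβ : Function.Surjective β)
    (hcomm : ∀ a : A, β (algebraMap A B a) = algebraMap k L (α a))
    (p : Ideal A) (q : Ideal B) [q.LiesOver p] (hp : RingHom.ker α = p) (hq : RingHom.ker β = q) :
    Algebra.trdeg (A ⧸ p) (B ⧸ q) = Algebra.trdeg k L := by
  subst hp hq
  let e₁ := RingHom.quotientKerEquivOfSurjective hα
  let e₂ := RingHom.quotientKerEquivOfSurjective hβ
  haveI : Nontrivial (A ⧸ RingHom.ker α) := e₁.toEquiv.nontrivial
  refine trdeg_eq_of_ringEquiv e₁ e₂ ?_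
  rintro ⟨a⟩
  exact (hcomm a).symm

end Transport

section DLemma

variable {D : Type u} [CommRing D] [IsDomain D]

attribute [local instance] Polynomial.algebra Polynomial.isLocalization in
theorem height_le_one_of_comap_C_eq_bot (𝔮 : Ideal D[X]) [𝔮.IsPrime] (h : 𝔮.comap C = ⊥) :
    𝔮.height ≤ 1 := by
  let K := FractionRing D
  have disj : Disjoint (((nonZeroDivisors D).map C : Submonoid D[X]) : Set D[X]) (𝔮 : Set D[X]) := by
    refine Set.disjoint_left.mpr ?_
    rintro _ ⟨b, hb, rfl⟩ ha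
    have : b ∈ 𝔮.comap C := ha
    rw [h, Ideal.mem_bot] at this
    exact nonZeroDivisors.ne_zero hb this
  have h1 := IsLocalization.height_map_of_disjoint (S := K[X]) ((nonZeroDivisors D).map C) 𝔮 disj
  rw [← h1]
  have hne : (𝔮.map (algebraMap D[X] K[X])) ≠ ⊤ :=
    (IsLocalization.isPrime_of_isPrime_disjoint ((nonZeroDivisors D).map C) K[X] 𝔮 inferInstance
      disj).ne_top
  have h2 := Ideal.height_le_ringKrullDim_of_ne_top hne
  have h3 : ringKrullDim K[X] = 1 := by
    rw [Polynomial.ringKrullDim_of_isNoetherianRing, ringKrullDim_eq_zero_of_field]; rfl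
  rw [h3] at h2
  exact_mod_cast h2

theorem trdeg_quotient_of_ne_bot (𝔮 : Ideal D[X]) [𝔮.IsPrime] (h : 𝔮.comap C = ⊥) (hne : 𝔮 ≠ ⊥) :
    Algebra.trdeg D (D[X] ⧸ 𝔮) = 0 := by
  rw [trdeg_eq_zero_iff]
  obtain ⟨f, hf, hf0⟩ := Submodule.exists_mem_ne_zero_of_ne_bot hne
  have hX : IsAlgebraic D (Ideal.Quotient.mk 𝔮 X) := by
    refine ⟨f, hf0, ?_⟩
    have : aeval (Ideal.Quotient.mk 𝔮 X) f = Ideal.Quotient.mk 𝔮 f := by
      rw [← Ideal.Quotient.mkₐ_eq_mk D, aeval_algHom_apply, aeval_X_left_apply]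
    rw [this]
    exact Ideal.Quotient.eq_zero_iff_mem.mpr hf
  have htop : Algebra.adjoin D {Ideal.Quotient.mk 𝔮 X} = ⊤ := by
    have h1 : Algebra.adjoin D ({X} : Set D[X]) = ⊤ := Polynomial.adjoin_X
    have h2 := congrArg (Subalgebra.map (Ideal.Quotient.mkₐ D 𝔮)) h1
    rw [AlgHom.map_adjoin, Set.image_singleton, Algebra.map_top] at h2
    rw [Ideal.Quotient.mkₐ_eq_mk] at h2
    rw [h2, AlgHom.range_eq_top]
    exact Ideal.Quotient.mkₐ_surjective D 𝔮
  have h3 := (Algebra.isAlgebraic_adjoin_singleton_iff (R := D)).mpr hX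
  rw [htop] at h3
  exact ⟨fun x => h3 x Algebra.mem_top⟩

theorem trdeg_quotient_bot : Algebra.trdeg D (D[X] ⧸ (⊥ : Ideal D[X])) = 1 := by
  rw [← (AlgEquiv.quotientBot D D[X]).symm.trdeg_eq]
  exact Polynomial.trdeg_of_isDomain

/-- The D-lemma: for a prime `𝔮` of `D[X]` with `𝔮 ∩ D = 0`, `ht 𝔮 + trdeg_D (D[X]/𝔮) = 1`. -/
theorem height_add_trdeg_eq_one (𝔮 : Ideal D[X]) [𝔮.IsPrime] (h : 𝔮.comap C = ⊥) :
    𝔮.height + Cardinal.toENat (Algebra.trdeg D (D[X] ⧸ 𝔮)) = 1 := by
  by_cases hne : 𝔮 = ⊥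
  · subst hne
    rw [trdeg_quotient_bot, Ideal.height_bot]
    simp
  · rw [trdeg_quotient_of_ne_bot 𝔮 h hne]
    have h1 := height_le_one_of_comap_C_eq_bot 𝔮 h
    have h2 : 𝔮.height ≠ 0 := by
      rw [Ne, Ideal.height_eq_zero_iff_eq_bot]; exact hne
    have : 𝔮.height = 1 := le_antisymm h1 (Order.one_le_iff_pos.mpr (pos_iff_ne_zero.mpr h2))
    rw [this]; simp

end DLemma

section Poly1

variable {R : Type u} [CommRing R] [IsNoetherianRing R]

/-- Poly-1: for a prime `Q` of `R[X]` over `P`, `ht Q + trdeg_{R/P} (R[X]/Q) = ht P + 1`. -/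
theorem height_add_trdeg_polynomial (P : Ideal R) [P.IsPrime] (Q : Ideal R[X]) [Q.IsPrime]
    [Q.LiesOver P] :
    Q.height + Cardinal.toENat (Algebra.trdeg (R ⧸ P) (R[X] ⧸ Q)) = P.height + 1 := by
  let ρ : R[X] →+* (R ⧸ P)[X] := mapRingHom (Ideal.Quotient.mk P)
  have hρ : Function.Surjective ρ := Polynomial.map_surjective _ Ideal.Quotient.mk_surjective
  have hker : RingHom.ker ρ = P.map C := by
    rw [Polynomial.ker_mapRingHom, Ideal.mk_ker]
  have hPQ : P.map C ≤ Q := by
    rw [Ideal.map_le_iff_le_comap]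
    exact (Ideal.LiesOver.over (p := P) (P := Q)).le
  let 𝔮 : Ideal (R ⧸ P)[X] := Q.map ρ
  haveI h𝔮 : 𝔮.IsPrime := Ideal.map_isPrime_of_surjective hρ (hker ▸ hPQ)
  have hcomap : 𝔮.comap ρ = Q := by
    rw [Ideal.comap_map_of_surjective ρ hρ, ← RingHom.ker_eq_comap_bot, hker]
    exact sup_eq_left.mpr hPQ
  have hbot : 𝔮.comap C = ⊥ := by
    rw [eq_bot_iff]
    rintro d hd
    obtain ⟨a, rfl⟩ := Ideal.Quotient.mk_surjective d
    have h1 : ρ (C a) ∈ 𝔮 := by
      have : ρ (C a) = C (Ideal.Quotient.mk P a) := by simp [ρ]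
      rw [this]; exact hd
    have h2 : C a ∈ Q := by rw [← hcomap]; exact h1
    have h3 : a ∈ P := by
      rw [Ideal.LiesOver.over (p := P) (P := Q)]; exact h2
    rw [Ideal.mem_bot]
    exact Ideal.Quotient.eq_zero_iff_mem.mpr h3
  -- heights
  have hht : Q.height = P.height + 𝔮.height := by
    rw [Ideal.height_eq_height_add_of_liesOver_of_hasGoingDown P Q]
    congr 1
    let e : (R[X] ⧸ (P.map (algebraMap R R[X]))) ≃+* (R ⧸ P)[X] :=
      (Ideal.polynomialQuotientEquivQuotientPolynomial P).symm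
    rw [← e.height_map]
    have hmap : Ideal.map e (Ideal.map (Ideal.Quotient.mk (Ideal.map (algebraMap R R[X]) P)) Q) = 𝔮 := by
      apply le_antisymm
      · rw [Ideal.map_le_iff_le_comap, Ideal.map_le_iff_le_comap]
        intro f hf
        rw [Ideal.mem_comap, Ideal.mem_comap]
        have : e (Ideal.Quotient.mk (Ideal.map (algebraMap R R[X]) P) f) = ρ f :=
          Ideal.polynomialQuotientEquivQuotientPolynomial_symm_mk P f
        rw [this]
        exact Ideal.mem_map_of_mem ρ hf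
      · rw [Ideal.map_le_iff_le_comap]
        intro f hf
        rw [Ideal.mem_comap]
        have : e (Ideal.Quotient.mk (Ideal.map (algebraMap R R[X]) P) f) = ρ f :=
          Ideal.polynomialQuotientEquivQuotientPolynomial_symm_mk P f
        rw [← this]
        exact Ideal.mem_map_of_mem e (Ideal.mem_map_of_mem _ hf)
    rw [hmap]
  -- trdeg
  have htr : Algebra.trdeg (R ⧸ P) (R[X] ⧸ Q) = Algebra.trdeg (R ⧸ P) ((R ⧸ P)[X] ⧸ 𝔮) := by
    refine trdeg_quotient_eq (Ideal.Quotient.mk P) ((Ideal.Quotient.mk 𝔮).comp ρ)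
      Ideal.Quotient.mk_surjective (Ideal.Quotient.mk_surjective.comp hρ) ?_ P Q Ideal.mk_ker ?_
    · intro a
      simp [ρ]
      rfl
    · rw [← RingHom.comap_ker, Ideal.mk_ker, hcomap]
  rw [htr, hht, add_assoc, height_add_trdeg_eq_one 𝔮 hbot]

end Poly1

section Tower

theorem isScalarTower_quotient {R S T : Type*} [CommRing R] [CommRing S] [CommRing T]
    [Algebra R S] [Algebra S T] [Algebra R T] [IsScalarTower R S T] (p : Ideal R) (P : Ideal S)
    (Q : Ideal T) [P.LiesOver p] [Q.LiesOver P] [Q.LiesOver p] :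
    IsScalarTower (R ⧸ p) (S ⧸ P) (T ⧸ Q) :=
  IsScalarTower.of_algebraMap_eq <| by
    rintro ⟨x⟩
    change Ideal.Quotient.mk Q (algebraMap R T x) =
      Ideal.Quotient.mk Q (algebraMap S T (algebraMap R S x))
    rw [IsScalarTower.algebraMap_apply R S T]

theorem trdeg_quotient_tower {R S T : Type u} [CommRing R] [CommRing S] [CommRing T]
    [Algebra R S] [Algebra S T] [Algebra R T] [IsScalarTower R S T] (p : Ideal R) (P : Ideal S)
    (Q : Ideal T) [p.IsPrime] [Q.IsPrime] [P.LiesOver p] [Q.LiesOver P] [Q.LiesOver p] :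
    Algebra.trdeg (R ⧸ p) (S ⧸ P) + Algebra.trdeg (S ⧸ P) (T ⧸ Q) =
      Algebra.trdeg (R ⧸ p) (T ⧸ Q) := by
  haveI := isScalarTower_quotient p P Q
  exact trdeg_add_eq (R ⧸ p) (S ⧸ P) (A := T ⧸ Q)

end Tower

section Formula

/-- The dimension formula (with equality) for the `R`-algebra `C`, with relative dimension `n`. -/
def HasDimFormula (R C : Type u) [CommRing R] [CommRing C] [Algebra R C] (n : ℕ) : Prop :=
  ∀ (P : Ideal R) [P.IsPrime] (Q : Ideal C) [Q.IsPrime] [Q.LiesOver P],
    Q.height + Cardinal.toENat (Algebra.trdeg (R ⧸ P) (C ⧸ Q)) = P.height + n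

variable {R : Type u} [CommRing R]

theorem trdeg_eq_zero_of_surjective {k L : Type*} [CommRing k] [Nontrivial k] [CommRing L] (inst : Algebra k L)
    (h : Function.Surjective (algebraMap k L)) : Algebra.trdeg k L = 0 := by
  rw [trdeg_eq_zero_iff]
  refine ⟨fun x => ?_⟩
  obtain ⟨a, rfl⟩ := h x
  exact isAlgebraic_algebraMap a

theorem hasDimFormula_self : HasDimFormula R R 0 := by
  intro P _ Q _ _
  have hPQ : P = Q := by
    rw [Ideal.LiesOver.over (p := P) (P := Q)]
    ext x; simp [Ideal.under]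
  subst hPQ
  have h0 := trdeg_eq_zero_of_surjective (Ideal.Quotient.algebraOfLiesOver P P)
    (fun x => ⟨x, by obtain ⟨a, rfl⟩ := Ideal.Quotient.mk_surjective x; rfl⟩)
  rw [h0]; simp

theorem HasDimFormula.of_algEquiv {C C' : Type u} [CommRing C] [CommRing C'] [Algebra R C]
    [Algebra R C'] (e : C ≃ₐ[R] C') {n : ℕ} (h : HasDimFormula R C n) : HasDimFormula R C' n := by
  intro P _ Q' _ _
  let Q : Ideal C := Q'.comap e
  haveI : Q.IsPrime := Ideal.comap_isPrime e Q'
  haveI : Q.LiesOver P := Ideal.comap_liesOver Q' P e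
  have h1 := h P Q
  have h2 : Q.height = Q'.height := e.toRingEquiv.height_comap Q'
  have h3 : Algebra.trdeg (R ⧸ P) (C ⧸ Q) = Algebra.trdeg (R ⧸ P) (C' ⧸ Q') :=
    (Ideal.Quotient.algEquivOfEqComap P e rfl).trdeg_eq
  rw [← h2, ← h3]; exact h1

theorem HasDimFormula.polynomial [IsNoetherianRing R] {C : Type u} [CommRing C] [Algebra R C]
    [IsNoetherianRing C] {n : ℕ} (h : HasDimFormula R C n) : HasDimFormula R C[X] (n + 1) := by
  intro P _ Q _ _
  let P' : Ideal C := Q.under C
  haveI : P'.IsPrime := Ideal.IsPrime.under C Q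
  haveI : Q.LiesOver P' := Ideal.over_under Q
  haveI : P'.LiesOver P := Ideal.under_liesOver_of_liesOver (p := P) C Q
  have h1 := height_add_trdeg_polynomial P' Q
  have h2 := h P P'
  have h3 := trdeg_quotient_tower P P' Q
  have hfin : P'.height ≠ ⊤ := Ideal.height_ne_top_of_isPrime
  rw [← h3, map_add]
  -- Q.height + (a + b) = P.height + (n+1), with Q.height + b = P'.height + 1, P'.height + a = P.height + n
  set a := Cardinal.toENat (Algebra.trdeg (R ⧸ P) (C ⧸ P'))
  set b := Cardinal.toENat (Algebra.trdeg (C ⧸ P') (C[X] ⧸ Q))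
  have : Q.height + (a + b) + P'.height = P.height + (n + 1 : ℕ) + P'.height := by
    calc Q.height + (a + b) + P'.height = (Q.height + b) + (P'.height + a) := by ring
      _ = (P'.height + 1) + (P.height + n) := by rw [h1, h2]
      _ = P.height + (n + 1 : ℕ) + P'.height := by push_cast; ring
  exact (ENat.add_left_injective_of_ne_top hfin) this

end Formula

section PolyN

variable {R : Type u} [CommRing R] [IsNoetherianRing R]

theorem hasDimFormula_mvPolynomial (n : ℕ) : HasDimFormula R (MvPolynomial (Fin n) R) n := by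
  induction n with
  | zero =>
    exact hasDimFormula_self.of_algEquiv (MvPolynomial.isEmptyAlgEquiv R (Fin 0)).symm
  | succ n ih =>
    exact ih.polynomial.of_algEquiv (MvPolynomial.finSuccEquiv R n).symm

end PolyN

section Chains

theorem orderHeight_head_add_le {α : Type*} [Preorder α] (l : LTSeries α) :
    ∀ (k : ℕ) (hk : k < l.length + 1), Order.height l.head + k ≤ Order.height (l ⟨k, hk⟩) := by
  intro k
  induction k with
  | zero => intro hk; simp; rfl
  | succ k ih =>
    intro hk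
    have h1 := ih (by omega)
    have hlt : l ⟨k, by omega⟩ < l ⟨k + 1, hk⟩ := l.strictMono (by simp [Fin.lt_def])
    have h2 := Order.height_add_one_le hlt
    calc Order.height l.head + ((k + 1 : ℕ) : ℕ∞) = (Order.height l.head + k) + 1 := by
          push_cast; ring
      _ ≤ Order.height (l ⟨k, by omega⟩) + 1 := by gcongr
      _ ≤ _ := h2

theorem orderHeight_head_add_length_le {α : Type*} [Preorder α] (l : LTSeries α) :
    Order.height l.head + l.length ≤ Order.height l.last :=
  orderHeight_head_add_le l l.length (by omega)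

variable {C : Type*} [CommRing C]

/-- For a chain of primes, `ht (head) + length ≤ ht (last)`. -/
theorem height_head_add_length_le (l : LTSeries (PrimeSpectrum C)) :
    l.head.asIdeal.height + l.length ≤ l.last.asIdeal.height := by
  rw [PrimeSpectrum.height_eq_orderHeight, PrimeSpectrum.height_eq_orderHeight]
  exact orderHeight_head_add_length_le l

/-- `ht Q + ht (ker π) ≤ ht (π⁻¹ Q)` for a surjection `π` onto a Noetherian ring. -/
theorem height_add_height_ker_le {T : Type*} [CommRing T] [IsNoetherianRing T] (π : C →+* T)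
    (hπ : Function.Surjective π) (𝔞 : Ideal C) [𝔞.IsPrime] (h𝔞 : RingHom.ker π = 𝔞)
    (Q : Ideal T) [Q.IsPrime] :
    Q.height + 𝔞.height ≤ (Q.comap π).height := by
  obtain ⟨l, hl, hlen⟩ := Q.exists_ltSeries_length_eq_height
  let l' : LTSeries (PrimeSpectrum C) :=
    l.map (PrimeSpectrum.comap π) (RingHom.strictMono_comap_of_surjective hπ)
  have h1 := height_head_add_length_le l'
  have h2 : 𝔞.height ≤ l'.head.asIdeal.height := by
    apply Ideal.height_mono
    rw [← h𝔞]
    simp only [LTSeries.head_map, l', PrimeSpectrum.comap_asIdeal]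
    exact Ideal.comap_mono bot_le
  have h3 : l'.last.asIdeal = Q.comap π := by
    simp only [LTSeries.last_map, l', PrimeSpectrum.comap_asIdeal, hl]
  have h4 : l'.length = l.length := by simp [l']
  rw [h3, h4, hlen] at h1
  calc Q.height + 𝔞.height ≤ Q.height + l'.head.asIdeal.height := by gcongr
    _ = l'.head.asIdeal.height + Q.height := add_comm _ _
    _ ≤ _ := h1

end Chains

section Quot

variable {R : Type u} [CommRing R] [IsDomain R]

/-- Quotient step: the dimension inequality for a quotient domain `T` of an algebra `C` satisfying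
the dimension formula. -/
theorem dimIneq_of_surjective {C T : Type u} [CommRing C] [IsNoetherianRing C] [Algebra R C]
    [CommRing T] [IsDomain T] [Algebra R T] [FaithfulSMul R T] {n : ℕ} (hC : HasDimFormula R C n)
    (π : C →ₐ[R] T) (hπ : Function.Surjective π) (P : Ideal R) [P.IsPrime] (Q : Ideal T)
    [Q.IsPrime] [Q.LiesOver P] :
    Q.height + Cardinal.toENat (Algebra.trdeg (R ⧸ P) (T ⧸ Q)) ≤
      P.height + Cardinal.toENat (Algebra.trdeg R T) := by
  haveI : IsNoetherianRing T := isNoetherianRing_of_surjective C T π.toRingHom hπ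
  let 𝔞 : Ideal C := RingHom.ker π.toRingHom
  haveI h𝔞 : 𝔞.IsPrime := RingHom.ker_isPrime π.toRingHom
  let Qs : Ideal C := Q.comap π.toRingHom
  haveI : Qs.IsPrime := Ideal.comap_isPrime π.toRingHom Q
  haveI : Qs.LiesOver P := Ideal.comap_liesOver Q P π
  haveI : 𝔞.LiesOver (⊥ : Ideal R) := by
    refine ⟨?_⟩
    ext x
    simp only [Ideal.mem_bot, Ideal.under, Ideal.mem_comap, 𝔞, RingHom.mem_ker]
    have : π.toRingHom (algebraMap R C x) = algebraMap R T x := π.commutes x
    rw [this]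
    exact ⟨fun h => by rw [h, map_zero], fun h =>
      (FaithfulSMul.algebraMap_injective R T) (by rw [h, map_zero])⟩
  have h1 := hC P Qs
  have h2 := hC ⊥ 𝔞
  rw [Ideal.height_bot, zero_add] at h2
  have h3 := height_add_height_ker_le π.toRingHom hπ 𝔞 rfl Q
  have h4 : Algebra.trdeg (R ⧸ P) (C ⧸ Qs) = Algebra.trdeg (R ⧸ P) (T ⧸ Q) := by
    refine trdeg_quotient_eq (Ideal.Quotient.mk P) ((Ideal.Quotient.mk Q).comp π.toRingHom)
      Ideal.Quotient.mk_surjective (Ideal.Quotient.mk_surjective.comp hπ) ?_ P Qs Ideal.mk_ker ?_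
    · intro a
      change Ideal.Quotient.mk Q (π (algebraMap R C a)) = _
      rw [π.commutes]; rfl
    · rw [← RingHom.comap_ker, Ideal.mk_ker]
  have h5 : Algebra.trdeg (R ⧸ (⊥ : Ideal R)) (C ⧸ 𝔞) = Algebra.trdeg R T := by
    refine trdeg_quotient_eq (RingHom.id R) π.toRingHom Function.surjective_id hπ ?_ ⊥ 𝔞 ?_ rfl
    · intro a; exact π.commutes a
    · ext x; simp [RingHom.mem_ker]
  rw [h4] at h1
  rw [h5] at h2
  have hfin : 𝔞.height ≠ ⊤ := Ideal.height_ne_top_of_isPrime
  set a := Cardinal.toENat (Algebra.trdeg (R ⧸ P) (T ⧸ Q))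
  set b := Cardinal.toENat (Algebra.trdeg R T)
  have : Q.height + a + 𝔞.height ≤ P.height + b + 𝔞.height := by
    calc Q.height + a + 𝔞.height = (Q.height + 𝔞.height) + a := by ring
      _ ≤ Qs.height + a := by gcongr
      _ = P.height + n := h1
      _ = P.height + (𝔞.height + b) := by rw [h2]
      _ = P.height + b + 𝔞.height := by ring
  exact (ENat.add_le_add_iff_right hfin).mp this

/-- The dimension inequality for domains. -/
theorem dimIneq_domain [IsNoetherianRing R] {T : Type u} [CommRing T] [IsDomain T] [Algebra R T]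
    [FaithfulSMul R T] [Algebra.FiniteType R T] (P : Ideal R) [P.IsPrime] (Q : Ideal T)
    [Q.IsPrime] [Q.LiesOver P] :
    Q.height + Cardinal.toENat (Algebra.trdeg (R ⧸ P) (T ⧸ Q)) ≤
      P.height + Cardinal.toENat (Algebra.trdeg R T) := by
  obtain ⟨n, π, hπ⟩ := Algebra.FiniteType.iff_quotient_mvPolynomial''.mp
    (inferInstance : Algebra.FiniteType R T)
  exact dimIneq_of_surjective (hasDimFormula_mvPolynomial n) π hπ P Q

end Quot

section Rel

variable {A B : Type u} [CommRing A] [CommRing B] [Algebra A B]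

theorem le_of_liesOver (p₀ p : Ideal A) (q₀ q : Ideal B) [q₀.LiesOver p₀] [q.LiesOver p]
    (hq : q₀ ≤ q) : p₀ ≤ p := by
  rw [Ideal.LiesOver.over (p := p₀) (P := q₀), Ideal.LiesOver.over (p := p) (P := q)]
  exact Ideal.comap_mono hq

theorem comap_map_mk_of_le {S : Type*} [CommRing S] (I J : Ideal S) (h : I ≤ J) :
    (J.map (Ideal.Quotient.mk I)).comap (Ideal.Quotient.mk I) = J := by
  rw [Ideal.comap_map_of_surjective _ Ideal.Quotient.mk_surjective, ← RingHom.ker_eq_comap_bot,
    Ideal.mk_ker]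
  exact sup_eq_left.mpr h

theorem isPrime_map_mk_of_le {S : Type*} [CommRing S] (I J : Ideal S) [J.IsPrime] (h : I ≤ J) :
    (J.map (Ideal.Quotient.mk I)).IsPrime :=
  Ideal.map_isPrime_of_surjective Ideal.Quotient.mk_surjective (by rwa [Ideal.mk_ker])

theorem liesOver_map_mk (p₀ p : Ideal A) (q₀ q : Ideal B) [q₀.LiesOver p₀] [q.LiesOver p]
    (hq : q₀ ≤ q) :
    (q.map (Ideal.Quotient.mk q₀)).LiesOver (p.map (Ideal.Quotient.mk p₀)) := by
  have hp := le_of_liesOver p₀ p q₀ q hq
  refine ⟨?_⟩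
  ext x
  obtain ⟨a, rfl⟩ := Ideal.Quotient.mk_surjective x
  have h1 : Ideal.Quotient.mk p₀ a ∈ p.map (Ideal.Quotient.mk p₀) ↔ a ∈ p := by
    rw [← Ideal.mem_comap, comap_map_mk_of_le _ _ hp]
  have h2 : Ideal.Quotient.mk q₀ (algebraMap A B a) ∈ q.map (Ideal.Quotient.mk q₀) ↔
      algebraMap A B a ∈ q := by
    rw [← Ideal.mem_comap, comap_map_mk_of_le _ _ hq]
  rw [h1, Ideal.under, Ideal.mem_comap, Ideal.Quotient.algebraMap_mk_of_liesOver, h2,
    Ideal.LiesOver.over (p := p) (P := q)]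
  rfl

/-- **The dimension inequality** (EGA IV 5.6.5), relative form. -/
theorem dimIneq [IsNoetherianRing A] [Algebra.FiniteType A B] (p₀ p : Ideal A) [p₀.IsPrime]
    [p.IsPrime] (q₀ q : Ideal B) [q₀.IsPrime] [q.IsPrime] [q₀.LiesOver p₀] [q.LiesOver p]
    (hq : q₀ ≤ q) :
    (q.map (Ideal.Quotient.mk q₀)).height + Cardinal.toENat (Algebra.trdeg (A ⧸ p) (B ⧸ q)) ≤
      (p.map (Ideal.Quotient.mk p₀)).height +
        Cardinal.toENat (Algebra.trdeg (A ⧸ p₀) (B ⧸ q₀)) := by
  have hp := le_of_liesOver p₀ p q₀ q hq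
  haveI : Algebra.FiniteType (A ⧸ p₀) (B ⧸ q₀) :=
    Algebra.FiniteType.of_restrictScalars_finiteType A (A ⧸ p₀) (B ⧸ q₀)
  haveI hP := isPrime_map_mk_of_le p₀ p hp
  haveI hQ := isPrime_map_mk_of_le q₀ q hq
  haveI := liesOver_map_mk p₀ p q₀ q hq
  have h := dimIneq_domain (p.map (Ideal.Quotient.mk p₀)) (q.map (Ideal.Quotient.mk q₀))
  have htr : Algebra.trdeg (A ⧸ p) (B ⧸ q) =
      Algebra.trdeg ((A ⧸ p₀) ⧸ p.map (Ideal.Quotient.mk p₀))
        ((B ⧸ q₀) ⧸ q.map (Ideal.Quotient.mk q₀)) := by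
    refine trdeg_quotient_eq
      ((Ideal.Quotient.mk (p.map (Ideal.Quotient.mk p₀))).comp (Ideal.Quotient.mk p₀))
      ((Ideal.Quotient.mk (q.map (Ideal.Quotient.mk q₀))).comp (Ideal.Quotient.mk q₀))
      (Ideal.Quotient.mk_surjective.comp Ideal.Quotient.mk_surjective)
      (Ideal.Quotient.mk_surjective.comp Ideal.Quotient.mk_surjective) ?_ p q ?_ ?_
    · intro a; rfl
    · rw [← RingHom.comap_ker, Ideal.mk_ker, comap_map_mk_of_le _ _ hp]
    · rw [← RingHom.comap_ker, Ideal.mk_ker, comap_map_mk_of_le _ _ hq]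
  rw [htr]
  exact h

end Rel

end Groth.Agent.Lib.Helper12.DimIneq
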