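import Mathlib
import Groth.Prelude.Def_Found
import Groth.Agent.Lib.Helper12.DimIneq
import Groth.Agent.Lib.Helper12.OrdTools

set_option autoImplicit false
universe u v
open Polynomial Cardinal

namespace Groth.Agent.Lib.Helper12.DimIneq

open Groth.Agent.Lib.Helper12.OrdTools Groth.Agent.Lib.Helper14

section Emb

theorem ordConnected_range_surjective {A B : Type u} [CommRing A] [CommRing B]
    (f : A →+* B) (hf : Function.Surjective f) :
    (Set.range (primeSpectrumEmbeddingOfSurjective f hf)).OrdConnected := by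
  have : Set.range (primeSpectrumEmbeddingOfSurjective f hf) =
      PrimeSpectrum.zeroLocus (RingHom.ker f) := range_comap_of_surjective _ f hf
  rw [this]
  apply IsUpperSet.ordConnected
  intro p q hpq hp
  rw [PrimeSpectrum.mem_zeroLocus] at hp ⊢
  exact le_trans hp hpq

theorem ordConnected_range_localization {A : Type u} [CommRing A] (S : Submonoid A)
    (B : Type u) [CommRing B] [Algebra A B] [IsLocalization S B] :
    (Set.range (primeSpectrumEmbeddingOfIsLocalization S B)).OrdConnected := by
  have : Set.range (primeSpectrumEmbeddingOfIsLocalization S B) =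
      { p | Disjoint (S : Set A) p.asIdeal } := PrimeSpectrum.localization_comap_range B S
  rw [this]
  apply IsLowerSet.ordConnected
  intro p q hpq hp
  exact Set.disjoint_of_subset_right hpq hp

/-- Relative heights are preserved by surjections. -/
theorem krullDim_Icc_comap_of_surjective {A B : Type u} [CommRing A] [CommRing B]
    (f : A →+* B) (hf : Function.Surjective f) (a b : PrimeSpectrum B) :
    Order.krullDim (Set.Icc (PrimeSpectrum.comap f a) (PrimeSpectrum.comap f b)) =
      Order.krullDim (Set.Icc a b) :=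
  krullDim_Icc_eq (primeSpectrumEmbeddingOfSurjective f hf) (ordConnected_range_surjective f hf) a b

/-- Relative heights are preserved by localizations. -/
theorem krullDim_Icc_comap_of_isLocalization {A : Type u} [CommRing A] (S : Submonoid A)
    (B : Type u) [CommRing B] [Algebra A B] [IsLocalization S B] (a b : PrimeSpectrum B) :
    Order.krullDim (Set.Icc (PrimeSpectrum.comap (algebraMap A B) a)
      (PrimeSpectrum.comap (algebraMap A B) b)) = Order.krullDim (Set.Icc a b) :=
  krullDim_Icc_eq (primeSpectrumEmbeddingOfIsLocalization S B)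
    (ordConnected_range_localization S B) a b

/-- The height of `q / q₀` in `B / q₀` as an interval dimension. -/
theorem height_map_mk_eq_krullDim_Icc {B : Type u} [CommRing B] (q₀ q : Ideal B) [hq₀ : q₀.IsPrime]
    [hq : q.IsPrime] (h : q₀ ≤ q) :
    (((q.map (Ideal.Quotient.mk q₀)).height : ℕ∞) : WithBot ℕ∞) =
      Order.krullDim (Set.Icc (⟨q₀, hq₀⟩ : PrimeSpectrum B) ⟨q, hq⟩) := by
  haveI := isPrime_map_mk_of_le q₀ q h
  let Q : PrimeSpectrum (B ⧸ q₀) := ⟨q.map (Ideal.Quotient.mk q₀), inferInstance⟩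
  have h1 := krullDim_Icc_comap_of_surjective (Ideal.Quotient.mk q₀) Ideal.Quotient.mk_surjective ⊥ Q
  have h2 : PrimeSpectrum.comap (Ideal.Quotient.mk q₀) ⊥ = ⟨q₀, hq₀⟩ := by
    ext1
    change Ideal.comap (Ideal.Quotient.mk q₀) ⊥ = q₀
    rw [← RingHom.ker_eq_comap_bot, Ideal.mk_ker]
  have h3 : PrimeSpectrum.comap (Ideal.Quotient.mk q₀) Q = ⟨q, hq⟩ := by
    ext1
    exact comap_map_mk_of_le q₀ q h
  rw [h2, h3] at h1
  rw [h1, ← height_eq_krullDim_Icc_bot]
  congr 1
  exact PrimeSpectrum.height_eq_orderHeight Q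

end Emb

section Cat

/-- In a Noetherian domain `C` with `C_{Q*}` catenary: `ht Q* ≤ ht (Q*/𝔞) + ht 𝔞`. -/
theorem height_comap_le_of_isCatenary {C T : Type u} [CommRing C] [IsDomain C]
    [IsNoetherianRing C] [CommRing T] [IsDomain T] (π : C →+* T) (hπ : Function.Surjective π)
    (Q : Ideal T) [hQ : Q.IsPrime]
    (hcat : CAlg.IsCatenary (Localization.AtPrime (Q.comap π))) :
    (Q.comap π).height ≤ Q.height + (RingHom.ker π).height := by
  set Qs : Ideal C := Q.comap π with hQs
  set 𝔞 : Ideal C := RingHom.ker π with h𝔞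
  haveI : 𝔞.IsPrime := RingHom.ker_isPrime π
  have h𝔞Q : 𝔞 ≤ Qs := by
    rw [h𝔞, RingHom.ker_eq_comap_bot]; exact Ideal.comap_mono bot_le
  let S := Localization.AtPrime Qs
  have hdisj : Disjoint (Qs.primeCompl : Set C) (𝔞 : Set C) := by
    refine Set.disjoint_left.mpr fun a ha ha' => ha (h𝔞Q ha')
  haveI hprime : (𝔞.map (algebraMap C S)).IsPrime :=
    IsLocalization.isPrime_of_isPrime_disjoint Qs.primeCompl S 𝔞 inferInstance hdisj
  let x : PrimeSpectrum S := ⟨𝔞.map (algebraMap C S), hprime⟩
  have hx : PrimeSpectrum.comap (algebraMap C S) x = ⟨𝔞, inferInstance⟩ := by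
    ext1
    exact IsLocalization.under_map_of_isPrime_disjoint Qs.primeCompl S inferInstance hdisj
  have htop : PrimeSpectrum.comap (algebraMap C S) ⊤ = ⟨Qs, inferInstance⟩ := by
    ext1
    exact IsLocalization.AtPrime.under_maximalIdeal S Qs
  have hcat' : OrderCatenary (PrimeSpectrum S) := hcat
  have h1 := krullDim_le_height_add_coheight hcat' x
  have h2 : Order.krullDim (PrimeSpectrum S) = ((Qs.height : ℕ∞) : WithBot ℕ∞) :=
    IsLocalization.AtPrime.ringKrullDim_eq_height Qs S
  have h3 : Order.height x = 𝔞.height := by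
    rw [← PrimeSpectrum.height_eq_orderHeight]
    exact IsLocalization.height_map_of_disjoint Qs.primeCompl 𝔞 hdisj
  have h4 : ((Order.coheight x : ℕ∞) : WithBot ℕ∞) = ((Q.height : ℕ∞) : WithBot ℕ∞) := by
    rw [coheight_eq_krullDim_Icc_top, ← krullDim_Icc_comap_of_isLocalization Qs.primeCompl S x ⊤,
      hx, htop]
    have h5 := krullDim_Icc_comap_of_surjective π hπ ⊥ ⟨Q, hQ⟩
    have h6 : PrimeSpectrum.comap π ⊥ = ⟨𝔞, inferInstance⟩ := by
      ext1
      change Ideal.comap π ⊥ = 𝔞
      rw [← RingHom.ker_eq_comap_bot]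
    have h7 : PrimeSpectrum.comap π ⟨Q, hQ⟩ = ⟨Qs, inferInstance⟩ := rfl
    rw [h6, h7] at h5
    rw [h5, ← height_eq_krullDim_Icc_bot]
    congr 1
    exact (PrimeSpectrum.height_eq_orderHeight (⟨Q, hQ⟩ : PrimeSpectrum T)).symm
  have h4' : Order.coheight x = Q.height := by exact_mod_cast h4
  rw [h2, h3, h4'] at h1
  have h8 : Qs.height ≤ 𝔞.height + Q.height := by exact_mod_cast h1
  rw [add_comm]; exact h8

end Cat

section Formula

/-- Local universal catenarity of `A` at `p`: localizations of finite type `A`-algebras at primes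
lying over generizations of `p` are catenary. -/
def LocUC (A : Type u) [CommRing A] (p : Ideal A) : Prop :=
  ∀ (B : Type u) [CommRing B] [Algebra A B], Algebra.FiniteType A B →
    ∀ (q : Ideal B) [q.IsPrime], q.comap (algebraMap A B) ≤ p →
      CAlg.IsCatenary (Localization.AtPrime q)

theorem LocUC.of_isUniversallyCatenary {A : Type u} [CommRing A]
    (h : CAlg.IsUniversallyCatenary A) (p : Ideal A) : LocUC A p := by
  intro B _ _ hB q _ _
  exact isCatenary_of_isLocalization q.primeCompl (Localization.AtPrime q) (h.2 B hB)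

theorem LocUC.quotient {A : Type u} [CommRing A] {p : Ideal A} (h : LocUC A p) (p₀ : Ideal A)
    (hp : p₀ ≤ p) : LocUC (A ⧸ p₀) (p.map (Ideal.Quotient.mk p₀)) := by
  intro B _ _ hB q _ hq
  letI : Algebra A B := ((algebraMap (A ⧸ p₀) B).comp (Ideal.Quotient.mk p₀)).toAlgebra
  haveI : IsScalarTower A (A ⧸ p₀) B := IsScalarTower.of_algebraMap_eq fun _ => rfl
  haveI : Algebra.FiniteType A B :=
    Algebra.FiniteType.trans (S := A ⧸ p₀)
      (Algebra.FiniteType.of_surjective (Algebra.ofId A (A ⧸ p₀)) Ideal.Quotient.mk_surjective) hB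
  refine h B inferInstance q ?_
  intro a ha
  have h1 : Ideal.Quotient.mk p₀ a ∈ q.comap (algebraMap (A ⧸ p₀) B) := ha
  have h2 := hq h1
  rwa [← Ideal.mem_comap, comap_map_mk_of_le _ _ hp] at h2

variable {R : Type u} [CommRing R] [IsDomain R]

/-- Quotient step with equality, when the relevant localization is catenary. -/
theorem dimFormula_of_surjective {C T : Type u} [CommRing C] [IsDomain C] [IsNoetherianRing C]
    [Algebra R C] [CommRing T] [IsDomain T] [Algebra R T] [FaithfulSMul R T] {n : ℕ}
    (hC : HasDimFormula R C n) (π : C →ₐ[R] T) (hπ : Function.Surjective π) (P : Ideal R)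
    [P.IsPrime] (Q : Ideal T) [Q.IsPrime] [Q.LiesOver P]
    (hcat : CAlg.IsCatenary (Localization.AtPrime (Q.comap π.toRingHom))) :
    Q.height + Cardinal.toENat (Algebra.trdeg (R ⧸ P) (T ⧸ Q)) =
      P.height + Cardinal.toENat (Algebra.trdeg R T) := by
  haveI : IsNoetherianRing T := isNoetherianRing_of_surjective C T π.toRingHom hπ
  let 𝔞 : Ideal C := RingHom.ker π.toRingHom
  haveI h𝔞 : 𝔞.IsPrime := RingHom.ker_isPrime π.toRingHom
  let Qs : Ideal C := Q.comap π.toRingHom
  haveI : Qs.IsPrime := Ideal.comap_isPrime π.toRingHom Q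
  haveI : Qs.LiesOver P := Ideal.comap_liesOver Q P π
  haveI : 𝔞.LiesOver (⊥ : Ideal R) := by
    refine ⟨?_⟩
    ext x
    simp only [Ideal.mem_bot, Ideal.under, Ideal.mem_comap, 𝔞, RingHom.mem_ker]
    have : π.toRingHom (algebraMap R C x) = algebraMap R T x := π.commutes x
    rw [this]
    exact ⟨fun h => by rw [h, map_zero], fun h =>
      (FaithfulSMul.algebraMap_injective R T) (by rw [h, map_zero])⟩
  have h1 := hC P Qs
  have h2 := hC ⊥ 𝔞
  rw [Ideal.height_bot, zero_add] at h2
  have h3 : Qs.height = Q.height + 𝔞.height :=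
    le_antisymm (height_comap_le_of_isCatenary π.toRingHom hπ Q hcat)
      (height_add_height_ker_le π.toRingHom hπ 𝔞 rfl Q)
  have h4 : Algebra.trdeg (R ⧸ P) (C ⧸ Qs) = Algebra.trdeg (R ⧸ P) (T ⧸ Q) := by
    refine trdeg_quotient_eq (Ideal.Quotient.mk P) ((Ideal.Quotient.mk Q).comp π.toRingHom)
      Ideal.Quotient.mk_surjective (Ideal.Quotient.mk_surjective.comp hπ) ?_ P Qs Ideal.mk_ker ?_
    · intro a
      change Ideal.Quotient.mk Q (π (algebraMap R C a)) = _
      rw [π.commutes]; rfl
    · rw [← RingHom.comap_ker, Ideal.mk_ker]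
  have h5 : Algebra.trdeg (R ⧸ (⊥ : Ideal R)) (C ⧸ 𝔞) = Algebra.trdeg R T := by
    refine trdeg_quotient_eq (RingHom.id R) π.toRingHom Function.surjective_id hπ ?_ ⊥ 𝔞 ?_ rfl
    · intro a; exact π.commutes a
    · ext x; simp [RingHom.mem_ker]
  rw [h4] at h1
  rw [h5] at h2
  have hfin : 𝔞.height ≠ ⊤ := Ideal.height_ne_top_of_isPrime
  set a := Cardinal.toENat (Algebra.trdeg (R ⧸ P) (T ⧸ Q))
  set b := Cardinal.toENat (Algebra.trdeg R T)
  have : Q.height + a + 𝔞.height = P.height + b + 𝔞.height := by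
    calc Q.height + a + 𝔞.height = (Q.height + 𝔞.height) + a := by ring
      _ = Qs.height + a := by rw [h3]
      _ = P.height + n := h1
      _ = P.height + (𝔞.height + b) := by rw [h2]
      _ = P.height + b + 𝔞.height := by ring
  exact (ENat.add_left_injective_of_ne_top hfin) this

/-- The dimension formula for domains, under local universal catenarity. -/
theorem dimFormula_domain [IsNoetherianRing R] {T : Type u} [CommRing T] [IsDomain T] [Algebra R T]
    [FaithfulSMul R T] [Algebra.FiniteType R T] (P : Ideal R) [P.IsPrime] (Q : Ideal T)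
    [Q.IsPrime] [Q.LiesOver P] (hR : LocUC R P) :
    Q.height + Cardinal.toENat (Algebra.trdeg (R ⧸ P) (T ⧸ Q)) =
      P.height + Cardinal.toENat (Algebra.trdeg R T) := by
  obtain ⟨n, π, hπ⟩ := Algebra.FiniteType.iff_quotient_mvPolynomial''.mp
    (inferInstance : Algebra.FiniteType R T)
  refine dimFormula_of_surjective (hasDimFormula_mvPolynomial n) π hπ P Q ?_
  haveI : (Q.comap π.toRingHom).IsPrime := Ideal.comap_isPrime π.toRingHom Q
  refine hR (MvPolynomial (Fin n) R) inferInstance (Q.comap π.toRingHom) ?_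
  intro a ha
  have h1 : π.toRingHom (algebraMap R (MvPolynomial (Fin n) R) a) ∈ Q := ha
  have h2 : π.toRingHom (algebraMap R (MvPolynomial (Fin n) R) a) = algebraMap R T a :=
    π.commutes a
  rw [h2] at h1
  rw [Ideal.LiesOver.over (p := P) (P := Q)]
  exact h1

end Formula

section RelFormula

variable {A B : Type u} [CommRing A] [CommRing B] [Algebra A B]

/-- **The dimension formula** (EGA IV 5.6.5), relative form, under local universal catenarity. -/
theorem dimFormula [IsNoetherianRing A] [Algebra.FiniteType A B] (p₀ p : Ideal A) [p₀.IsPrime]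
    [p.IsPrime] (q₀ q : Ideal B) [q₀.IsPrime] [q.IsPrime] [q₀.LiesOver p₀] [q.LiesOver p]
    (hq : q₀ ≤ q) (hA : LocUC A p) :
    (q.map (Ideal.Quotient.mk q₀)).height + Cardinal.toENat (Algebra.trdeg (A ⧸ p) (B ⧸ q)) =
      (p.map (Ideal.Quotient.mk p₀)).height +
        Cardinal.toENat (Algebra.trdeg (A ⧸ p₀) (B ⧸ q₀)) := by
  have hp := le_of_liesOver p₀ p q₀ q hq
  haveI : Algebra.FiniteType (A ⧸ p₀) (B ⧸ q₀) :=
    Algebra.FiniteType.of_restrictScalars_finiteType A (A ⧸ p₀) (B ⧸ q₀)
  haveI hP := isPrime_map_mk_of_le p₀ p hp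
  haveI hQ := isPrime_map_mk_of_le q₀ q hq
  haveI := liesOver_map_mk p₀ p q₀ q hq
  have h := dimFormula_domain (p.map (Ideal.Quotient.mk p₀)) (q.map (Ideal.Quotient.mk q₀))
    (hA.quotient p₀ hp)
  have htr : Algebra.trdeg (A ⧸ p) (B ⧸ q) =
      Algebra.trdeg ((A ⧸ p₀) ⧸ p.map (Ideal.Quotient.mk p₀))
        ((B ⧸ q₀) ⧸ q.map (Ideal.Quotient.mk q₀)) := by
    refine trdeg_quotient_eq
      ((Ideal.Quotient.mk (p.map (Ideal.Quotient.mk p₀))).comp (Ideal.Quotient.mk p₀))
      ((Ideal.Quotient.mk (q.map (Ideal.Quotient.mk q₀))).comp (Ideal.Quotient.mk q₀))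
      (Ideal.Quotient.mk_surjective.comp Ideal.Quotient.mk_surjective)
      (Ideal.Quotient.mk_surjective.comp Ideal.Quotient.mk_surjective) ?_ p q ?_ ?_
    · intro a; rfl
    · rw [← RingHom.comap_ker, Ideal.mk_ker, comap_map_mk_of_le _ _ hp]
    · rw [← RingHom.comap_ker, Ideal.mk_ker, comap_map_mk_of_le _ _ hq]
  rw [htr]
  exact h

end RelFormula

section LocUCLoc

/-- If the localization `S = A_p` is universally catenary, then `A` is locally universally catenary
at `p`. -/
theorem LocUC.of_isLocalization_atPrime {A : Type u} [CommRing A] (p : Ideal A) [p.IsPrime]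
    (S : Type u) [CommRing S] [Algebra A S] [IsLocalization.AtPrime S p]
    (hS : CAlg.IsUniversallyCatenary S) : LocUC A p := by
  intro B _ _ hB q _ hq
  let M : Submonoid A := p.primeCompl
  let MB : Submonoid B := M.map (algebraMap A B)
  let B' := Localization MB
  -- `B'` is a finite type `S`-algebra
  let ψ : S →+* B' := IsLocalization.map B' (algebraMap A B) (Submonoid.le_comap_map M)
  have hψ : ψ.FiniteType :=
    RingHom.finiteType_localizationPreserves (algebraMap A B) M S B'
      (by rw [RingHom.finiteType_algebraMap]; exact hB)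
  letI : Algebra S B' := ψ.toAlgebra
  have hft : Algebra.FiniteType S B' := hψ
  have hcatB' : CAlg.IsCatenary B' := hS.2 B' hft
  -- `q` is disjoint from `MB`
  have hdisj : Disjoint (MB : Set B) (q : Set B) := by
    refine Set.disjoint_left.mpr ?_
    rintro _ ⟨a, ha, rfl⟩ haq
    exact ha (hq haq)
  let q' : Ideal B' := q.map (algebraMap B B')
  haveI hq' : q'.IsPrime := IsLocalization.isPrime_of_isPrime_disjoint MB B' q inferInstance hdisj
  have hcomap : q'.comap (algebraMap B B') = q :=
    IsLocalization.under_map_of_isPrime_disjoint MB B' inferInstance hdisj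
  have hloc : IsLocalization.AtPrime (Localization.AtPrime q') (q'.comap (algebraMap B B')) :=
    IsLocalization.isLocalization_isLocalization_atPrime_isLocalization MB
      (Localization.AtPrime q') q'
  have hcat' : CAlg.IsCatenary (Localization.AtPrime q') :=
    isCatenary_of_isLocalization q'.primeCompl (Localization.AtPrime q') hcatB'
  haveI hloc' : IsLocalization.AtPrime (Localization.AtPrime q') q := by
    convert hloc <;> exact hcomap.symm
  let e : Localization.AtPrime q ≃ₐ[B] Localization.AtPrime q' :=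
    IsLocalization.algEquiv q.primeCompl _ _
  exact isCatenary_of_surjective e.symm.toRingEquiv.toRingHom e.symm.surjective hcat'

end LocUCLoc

end Groth.Agent.Lib.Helper12.DimIneq
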