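import Mathlib
import Groth.Prelude.Def_CurvBase
import Groth.Agent.Lib.Helper12.SchemeDimFT3

/-!
# Helper library (helper12): maximal points of schemes locally of finite type over a field, II
-/

set_option autoImplicit false

universe u

open AlgebraicGeometry CategoryTheory Opposite

namespace Groth.Agent.Lib.Helper12.SchemeDimFT

open Groth.Agent.Lib.Helper12

attribute [local instance] Curv2.resAlgebra

theorem mem_basicOpen_iff_notMem_primeIdealOf {X : Scheme.{u}} {U : X.Opens} (hU : IsAffineOpen U)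
    (x : U) (a : Γ(X, U)) : (x : X) ∈ X.basicOpen a ↔ a ∉ (hU.primeIdealOf x).asIdeal := by
  have h1 : hU.fromSpec (hU.primeIdealOf x) = (x : X) := hU.fromSpec_primeIdealOf x
  have h2 := hU.fromSpec_preimage_basicOpen a
  have h3 : hU.primeIdealOf x ∈ hU.fromSpec ⁻¹ᵁ X.basicOpen a ↔
      hU.primeIdealOf x ∈ PrimeSpectrum.basicOpen a := by rw [h2]; exact Iff.rfl
  rw [← h1]
  exact h3

/-- The dimension of the local ring at a point is the height of the prime in an affine chart. -/
theorem ringKrullDim_stalk_eq_height' {Y : Scheme.{u}} (U : Y.Opens) (hU : IsAffineOpen U)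
    (x : U) : ringKrullDim (Y.presheaf.stalk (x : Y)) =
      ((Order.height (hU.primeIdealOf x) : ℕ∞) : WithBot ℕ∞) := by
  letI algA : Algebra Γ(Y, U) (Y.presheaf.stalk (x : Y)) :=
    TopCat.Presheaf.algebra_section_stalk Y.presheaf x
  haveI := hU.isLocalization_stalk x
  rw [IsLocalization.AtPrime.ringKrullDim_eq_height (hU.primeIdealOf x).asIdeal
    (Y.presheaf.stalk (x : Y)), PrimeSpectrum.height_eq_orderHeight]

section MaxNbhd

variable (k : Type u) [Field k] (X : Scheme.{u}) [X.Over (Spec (CommRingCat.of k))]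
  [LocallyOfFiniteType (X ↘ Spec (CommRingCat.of k))]

include k in
/-- A maximal point has an open neighbourhood contained in its closure. -/
theorem exists_open_subset_closure_of_isMaxPt (η : X) (hη : IsMaxPt η) :
    ∃ D : Set X, IsOpen D ∧ η ∈ D ∧ D ⊆ closure {η} := by
  obtain ⟨U, hU, hηU⟩ := exists_affineOpen_mem X η
  letI := secAlgebra k X U
  haveI := finiteType_sec k X U hU
  haveI : IsNoetherianRing Γ(X, U) := Algebra.FiniteType.isNoetherianRing k _
  set q := hU.primeIdealOf ⟨η, hηU⟩ with hq
  have hqmin : q.asIdeal ∈ minimalPrimes Γ(X, U) := by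
    have h0 := (isMaxPt_iff_height_eq_zero hU ⟨η, hηU⟩).mp hη
    rw [Order.height_eq_zero] at h0
    refine ⟨⟨q.2, bot_le⟩, ?_⟩
    rintro P ⟨hPp, -⟩ hPle
    exact @h0 ⟨P, hPp⟩ hPle
  have hfin : (minimalPrimes Γ(X, U)).Finite := minimalPrimes.finite_of_isNoetherianRing _
  -- choose elements
  have hex : ∀ P ∈ minimalPrimes Γ(X, U), P ≠ q.asIdeal → ∃ a ∈ P, a ∉ q.asIdeal := by
    intro P hP hne
    by_contra hcon
    push Not at hcon
    have hle : P ≤ q.asIdeal := hcon
    exact hne (le_antisymm hle (hqmin.2 hP.1 hle))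
  classical
  let aP : Ideal Γ(X, U) → Γ(X, U) := fun P =>
    if h : P ∈ minimalPrimes Γ(X, U) ∧ P ≠ q.asIdeal then (hex P h.1 h.2).choose else 1
  let s := hfin.toFinset.filter (fun P => P ≠ q.asIdeal)
  let a := ∏ P ∈ s, aP P
  have ha_notin : a ∉ q.asIdeal := by
    intro hmem
    obtain ⟨P, hPs, hPmem⟩ := (Ideal.IsPrime.prod_mem_iff.mp hmem)
    have hP : P ∈ minimalPrimes Γ(X, U) ∧ P ≠ q.asIdeal := by
      simpa [s] using hPs
    have : aP P = (hex P hP.1 hP.2).choose := dif_pos hP
    rw [this] at hPmem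
    exact (hex P hP.1 hP.2).choose_spec.2 hPmem
  have ha_in : ∀ P ∈ minimalPrimes Γ(X, U), P ≠ q.asIdeal → a ∈ P := by
    intro P hP hne
    have hPs : P ∈ s := by simp [s, hP, hne]
    have h1 : aP P ∈ P := by
      have : aP P = (hex P hP hne).choose := dif_pos ⟨hP, hne⟩
      rw [this]
      exact (hex P hP hne).choose_spec.1
    exact Ideal.prod_mem P hPs h1
  refine ⟨(X.basicOpen a : Set X), (X.basicOpen a).2, ?_, ?_⟩
  · rw [SetLike.mem_coe]
    exact (mem_basicOpen_iff_notMem_primeIdealOf hU ⟨η, hηU⟩ a).mpr ha_notin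
  · intro y hy
    have hyU : y ∈ U := X.basicOpen_le a hy
    have hya : a ∉ (hU.primeIdealOf ⟨y, hyU⟩).asIdeal :=
      (mem_basicOpen_iff_notMem_primeIdealOf hU ⟨y, hyU⟩ a).mp hy
    obtain ⟨P, hP, hPle⟩ := Ideal.exists_minimalPrimes_le (I := (⊥ : Ideal Γ(X, U)))
      (J := (hU.primeIdealOf ⟨y, hyU⟩).asIdeal) bot_le
    have hPq : P = q.asIdeal := by
      by_contra hne
      exact hya (hPle (ha_in P hP hne))
    rw [hPq] at hPle
    have hsp : η ⤳ y := (primeIdealOf_le_iff hU ⟨η, hηU⟩ ⟨y, hyU⟩).mp hPle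
    exact specializes_iff_mem_closure.mp hsp

include k in
/-- A maximal point in the closure of a locally closed subset lies in the subset. -/
theorem mem_of_isMaxPt_of_mem_closure (Z : Set X) (hZ : IsLocallyClosed Z) (η : X)
    (hη : IsMaxPt η) (hmem : η ∈ closure Z) : η ∈ Z := by
  obtain ⟨O, C, hO, hC, rfl⟩ := hZ
  obtain ⟨D, hD, hηD, hDsub⟩ := exists_open_subset_closure_of_isMaxPt k X η hη
  obtain ⟨z, hzD, hzZ⟩ := mem_closure_iff.mp hmem D hD hηD
  have hsp : η ⤳ z := specializes_iff_mem_closure.mpr (hDsub hzD)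
  refine ⟨hsp.mem_open hO hzZ.1, ?_⟩
  exact hC.closure_subset_iff.mpr Set.inter_subset_right hmem

include k in
/-- In an equidimensional nonempty scheme locally of finite type over a field, a locally closed
subset is nowhere dense iff its dimension is smaller. -/
theorem isNowhereDense_iff_dim_lt [Nonempty X]
    (heq : ∀ T ∈ irreducibleComponents X, topologicalKrullDim T = topologicalKrullDim X)
    (Z : Set X) (hZ : IsLocallyClosed Z) :
    IsNowhereDense Z ↔ topologicalKrullDim Z < topologicalKrullDim X := by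
  obtain ⟨x0⟩ := ‹Nonempty X›
  obtain ⟨η0, hη0, -⟩ := exists_isMaxPt_specializes x0
  have hcompdim : ∀ η : X, IsMaxPt η →
      topologicalKrullDim X = ((tr k X η : ℕ) : WithBot ℕ∞) := by
    intro η hη
    have h1 : closure ({η} : Set X) ∈ irreducibleComponents X :=
      (closure_singleton_mem_irreducibleComponents_iff η).mpr hη
    rw [← heq _ h1, topologicalKrullDim_closure_singleton k X η]
  set d := tr k X η0 with hd
  have hdim : topologicalKrullDim X = ((d : ℕ) : WithBot ℕ∞) := hcompdim η0 hη0
  have hmaxtr : ∀ η : X, IsMaxPt η → tr k X η = d := by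
    intro η hη
    have h1 := hcompdim η hη
    rw [hdim] at h1
    exact_mod_cast h1.symm
  rw [hdim]
  constructor
  · intro hnd
    have hlt : ∀ z ∈ Z, tr k X z < d := by
      intro z hz
      obtain ⟨η, hη, hsp⟩ := exists_isMaxPt_specializes z
      by_cases hηz : η = z
      · exfalso
        subst hηz
        obtain ⟨D, hD, hηD, hDsub⟩ := exists_open_subset_closure_of_isMaxPt k X η hη
        have h1 : D ⊆ closure Z :=
          hDsub.trans (closure_mono (Set.singleton_subset_iff.mpr hz))
        have h2 : η ∈ interior (closure Z) := mem_interior.mpr ⟨D, h1, hD, hηD⟩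
        rw [IsNowhereDense] at hnd
        rw [hnd] at h2
        exact h2
      · have := tr_lt_of_specializes k X η z hsp hηz
        rw [hmaxtr η hη] at this
        exact this
    rcases Nat.eq_zero_or_pos d with h0 | hpos
    · have hle : topologicalKrullDim Z ≤ ⊥ := by
        refine topologicalKrullDim_le_of_isLocallyClosed k X Z hZ ⊥ ?_
        intro z hz
        have := hlt z hz
        omega
      refine lt_of_le_of_lt hle ?_
      exact WithBot.bot_lt_coe _
    · have hle : topologicalKrullDim Z ≤ ((d - 1 : ℕ) : WithBot ℕ∞) := by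
        refine topologicalKrullDim_le_of_isLocallyClosed k X Z hZ _ ?_
        intro z hz
        have := hlt z hz
        have h3 : tr k X z ≤ d - 1 := by omega
        exact_mod_cast h3
      refine lt_of_le_of_lt hle ?_
      have : d - 1 < d := by omega
      exact_mod_cast this
  · intro hlt
    rw [IsNowhereDense]
    by_contra hne
    obtain ⟨w, hw⟩ := Set.nonempty_iff_ne_empty.mpr hne
    obtain ⟨η, hη, hsp⟩ := exists_isMaxPt_specializes w
    have h1 : η ∈ interior (closure Z) := hsp.mem_open isOpen_interior hw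
    have h2 : η ∈ Z := mem_of_isMaxPt_of_mem_closure k X Z hZ η hη (interior_subset h1)
    have h3 := le_topologicalKrullDim_of_isLocallyClosed k X Z hZ η h2
    rw [hmaxtr η hη] at h3
    exact absurd (lt_of_le_of_lt h3 hlt) (lt_irrefl _)

end MaxNbhd

end Groth.Agent.Lib.Helper12.SchemeDimFT
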