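import Mathlib
import Groth.Prelude.Def_Found
import Groth.Agent.Lib.Helper12.DimIneqH
import Groth.Agent.Lib.Helper12.SchemeDimFT4

set_option autoImplicit false
universe u v
open Polynomial Cardinal AlgebraicGeometry CategoryTheory

namespace Groth.Agent.Lib.Helper12.SchemeDimIneq

open Groth.Agent.Lib.Helper12.OrdTools Groth.Agent.Lib.Helper12.DimIneq

section ALG

theorem isAlgebraic_of_fraction {R k : Type*} [CommRing R] [IsDomain R] [Field k] [Algebra R k]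
    (z : k) (a s : R) (hs : algebraMap R k s ≠ 0) (h : z * algebraMap R k s = algebraMap R k a) :
    IsAlgebraic R z := by
  refine ⟨C s * X - C a, ?_, ?_⟩
  · intro h0
    have h1 : (C s * X - C a : R[X]).coeff 1 = s := by
      rw [coeff_sub, coeff_C_mul, coeff_X_one, mul_one, coeff_C_ne_zero one_ne_zero, sub_zero]
    rw [h0, coeff_zero] at h1
    rw [← h1, map_zero] at hs
    exact hs rfl
  · rw [map_sub, map_mul, aeval_C, aeval_C, aeval_X, mul_comm, h, sub_self]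

/-- Transcendence degree of a residue extension computed by any model by fractions. -/
theorem trdeg_quotient_eq_of_fractions {A B k L : Type u} [CommRing A] [CommRing B] [Field k]
    [Field L] [Algebra A B] [Algebra k L] (α : A →+* k) (β : B →+* L)
    (hcomm : ∀ a, β (algebraMap A B a) = algebraMap k L (α a))
    (p : Ideal A) (q : Ideal B) [p.IsPrime] [q.IsPrime] [q.LiesOver p]
    (hp : RingHom.ker α = p) (hq : RingHom.ker β = q)
    (hk : ∀ z : k, ∃ a s : A, α s ≠ 0 ∧ z * α s = α a)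
    (hL : ∀ z : L, ∃ b t : B, β t ≠ 0 ∧ z * β t = β b) :
    Algebra.trdeg (A ⧸ p) (B ⧸ q) = Algebra.trdeg k L := by
  let α' : A ⧸ p →+* k := Ideal.Quotient.lift p α (fun a ha => by rw [← hp] at ha; exact ha)
  let β' : B ⧸ q →+* L := Ideal.Quotient.lift q β (fun a ha => by rw [← hq] at ha; exact ha)
  have hα' : Function.Injective α' := (Ideal.injective_lift_iff _).mpr hp
  have hβ' : Function.Injective β' := (Ideal.injective_lift_iff _).mpr hq
  letI : Algebra (A ⧸ p) k := α'.toAlgebra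
  letI : Algebra (B ⧸ q) L := β'.toAlgebra
  letI : Algebra (A ⧸ p) L := (β'.comp (algebraMap (A ⧸ p) (B ⧸ q))).toAlgebra
  haveI : IsScalarTower (A ⧸ p) (B ⧸ q) L := IsScalarTower.of_algebraMap_eq fun _ => rfl
  haveI : IsScalarTower (A ⧸ p) k L := IsScalarTower.of_algebraMap_eq <| by
    rintro ⟨a⟩
    exact hcomm a
  haveI : FaithfulSMul (A ⧸ p) k := (faithfulSMul_iff_algebraMap_injective _ _).mpr hα'
  haveI : FaithfulSMul (B ⧸ q) L := (faithfulSMul_iff_algebraMap_injective _ _).mpr hβ'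
  haveI : FaithfulSMul k L := (faithfulSMul_iff_algebraMap_injective _ _).mpr
    (algebraMap k L).injective
  haveI : Algebra.IsAlgebraic (A ⧸ p) k := by
    refine ⟨fun z => ?_⟩
    obtain ⟨a, s, hs, h⟩ := hk z
    exact isAlgebraic_of_fraction z (Ideal.Quotient.mk p a) (Ideal.Quotient.mk p s) hs h
  haveI : Algebra.IsAlgebraic (B ⧸ q) L := by
    refine ⟨fun z => ?_⟩
    obtain ⟨b, t, ht, h⟩ := hL z
    exact isAlgebraic_of_fraction z (Ideal.Quotient.mk q b) (Ideal.Quotient.mk q t) ht h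
  have h1 := trdeg_add_eq (A ⧸ p) (B ⧸ q) (A := L)
  have h2 := trdeg_add_eq (A ⧸ p) k (A := L)
  rw [trdeg_eq_zero (R := B ⧸ q) (A := L), add_zero] at h1
  rw [trdeg_eq_zero (R := A ⧸ p) (A := k), zero_add] at h2
  rw [h1, h2]

end ALG

section Eval

variable {X Y : Scheme.{u}}

theorem ker_evaluation {U : X.Opens} (hU : IsAffineOpen U) (x : X) (hx : x ∈ U) :
    RingHom.ker (X.evaluation U x hx).hom = (hU.primeIdealOf ⟨x, hx⟩).asIdeal := by
  ext a
  rw [RingHom.mem_ker]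
  have h1 := X.evaluation_eq_zero_iff_notMem_basicOpen x hx a
  have h2 := SchemeDimFT.mem_basicOpen_iff_notMem_primeIdealOf hU ⟨x, hx⟩ a
  rw [h2, not_not] at h1
  exact h1

theorem evaluation_fraction {U : X.Opens} (hU : IsAffineOpen U) (x : X) (hx : x ∈ U)
    (z : X.residueField x) :
    ∃ a s : Γ(X, U), (X.evaluation U x hx).hom s ≠ 0 ∧
      z * (X.evaluation U x hx).hom s = (X.evaluation U x hx).hom a := by
  obtain ⟨w, rfl⟩ := X.residue_surjective x z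
  letI algA : Algebra Γ(X, U) (X.presheaf.stalk x) :=
    TopCat.Presheaf.algebra_section_stalk X.presheaf ⟨x, hx⟩
  haveI := hU.isLocalization_stalk ⟨x, hx⟩
  obtain ⟨⟨a, s⟩, h⟩ := IsLocalization.surj (hU.primeIdealOf ⟨x, hx⟩).asIdeal.primeCompl w
  refine ⟨a, s.1, ?_, ?_⟩
  · intro h0
    have : s.1 ∈ RingHom.ker (X.evaluation U x hx).hom := h0
    rw [ker_evaluation hU x hx] at this
    exact s.2 this
  · have := congrArg (X.residue x).hom h
    rw [map_mul] at this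
    exact this

theorem evaluation_appLE (f : X ⟶ Y) {U : X.Opens} {V : Y.Opens} (hUV : U ≤ f ⁻¹ᵁ V) (x : X)
    (hx : x ∈ U) (a : Γ(Y, V)) :
    (f.residueFieldMap x).hom ((Y.evaluation V (f x) (hUV hx)).hom a) =
      (X.evaluation U x hx).hom ((f.appLE V U hUV).hom a) := by
  have h1 := Scheme.evaluation_naturality_apply f x (hUV hx) a
  refine h1.trans ?_
  simp only [Scheme.Hom.appLE, CommRingCat.hom_comp, RingHom.comp_apply]
  change (X.residue x).hom ((X.presheaf.germ (f ⁻¹ᵁ V) x (hUV hx)).hom _) =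
    (X.residue x).hom ((X.presheaf.germ U x hx).hom _)
  congr 1
  exact (TopCat.Presheaf.germ_res_apply X.presheaf (homOfLE hUV) x hx _).symm

theorem primeIdealOf_comap (f : X ⟶ Y) {U : X.Opens} {V : Y.Opens} (hU : IsAffineOpen U)
    (hV : IsAffineOpen V) (hUV : U ≤ f ⁻¹ᵁ V) (x : X) (hx : x ∈ U) :
    (hV.primeIdealOf ⟨f x, hUV hx⟩).asIdeal =
      (hU.primeIdealOf ⟨x, hx⟩).asIdeal.comap (f.appLE V U hUV).hom := by
  rw [← ker_evaluation hV (f x) (hUV hx), ← ker_evaluation hU x hx]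
  ext a
  rw [RingHom.mem_ker, Ideal.mem_comap, RingHom.mem_ker, ← evaluation_appLE f hUV x hx a]
  constructor
  · intro h; rw [h, map_zero]
  · intro h
    exact (f.residueFieldMap x).hom.injective (by rw [h, map_zero])

end Eval

section RF

variable {X Y : Scheme.{u}} (f : X ⟶ Y)

/-- The relative transcendence degree of residue fields at a point, as an extended natural. -/
noncomputable def trn (x : X) : ℕ∞ :=
  Cardinal.toENat (@Algebra.trdeg (Y.residueField (f x)) (X.residueField x) _ _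
    (f.residueFieldMap x).hom.toAlgebra)

theorem trdeg_chart {U : X.Opens} {V : Y.Opens} (hU : IsAffineOpen U) (hV : IsAffineOpen V)
    (hUV : U ≤ f ⁻¹ᵁ V) (x : X) (hx : x ∈ U) :
    letI := (f.appLE V U hUV).hom.toAlgebra
    letI := (f.residueFieldMap x).hom.toAlgebra
    haveI : (hU.primeIdealOf ⟨x, hx⟩).asIdeal.LiesOver (hV.primeIdealOf ⟨f x, hUV hx⟩).asIdeal :=
      ⟨primeIdealOf_comap f hU hV hUV x hx⟩
    Algebra.trdeg (Γ(Y, V) ⧸ (hV.primeIdealOf ⟨f x, hUV hx⟩).asIdeal)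
      (Γ(X, U) ⧸ (hU.primeIdealOf ⟨x, hx⟩).asIdeal) =
        Algebra.trdeg (Y.residueField (f x)) (X.residueField x) := by
  letI := (f.appLE V U hUV).hom.toAlgebra
  letI := (f.residueFieldMap x).hom.toAlgebra
  haveI : (hU.primeIdealOf ⟨x, hx⟩).asIdeal.LiesOver (hV.primeIdealOf ⟨f x, hUV hx⟩).asIdeal :=
    ⟨primeIdealOf_comap f hU hV hUV x hx⟩
  exact trdeg_quotient_eq_of_fractions (Y.evaluation V (f x) (hUV hx)).hom
    (X.evaluation U x hx).hom (fun a => (evaluation_appLE f hUV x hx a).symm)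
    _ _ (ker_evaluation hV (f x) (hUV hx)) (ker_evaluation hU x hx)
    (evaluation_fraction hV (f x) (hUV hx)) (evaluation_fraction hU x hx)

end RF

section Chart

variable {X : Scheme.{u}}

theorem le_iff_specializes (x y : X) : x ≤ y ↔ y ⤳ x := Iff.rfl

/-- Intervals for the specialization order, computed in an affine chart. -/
theorem krullDim_Icc_chart {U : X.Opens} (hU : IsAffineOpen U) (x ξ : X) (hx : x ∈ U)
    (hξ : ξ ∈ U) :
    Order.krullDim (Set.Icc x ξ) =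
      Order.krullDim (Set.Icc (hU.primeIdealOf ⟨ξ, hξ⟩) (hU.primeIdealOf ⟨x, hx⟩)) := by
  have h1 := krullDim_Icc_eq (OrderEmbedding.subtype (fun z : X => z ∈ U)) (by
    rw [show Set.range (OrderEmbedding.subtype (fun z : X => z ∈ U)) = (U : Set X) from
      Subtype.range_coe]
    apply IsUpperSet.ordConnected
    intro a b hab ha
    exact hab.mem_open U.2 ha) ⟨x, hx⟩ ⟨ξ, hξ⟩
  have h2 := krullDim_Icc_eq_of_anti (fun z : {z : X // z ∈ U} => hU.primeIdealOf z)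
    (fun a b => SchemeDimFT.primeIdealOf_le_iff hU a b)
    (hU.isoSpec.hom.homeomorph).injective (by
      have : Set.range (fun z : {z : X // z ∈ U} => hU.primeIdealOf z) = Set.univ :=
        Set.range_eq_univ.mpr (SchemeDimFT.exists_primeIdealOf_eq hU)
      rw [this]
      exact Set.ordConnected_univ) ⟨x, hx⟩ ⟨ξ, hξ⟩
  exact h1.trans h2.symm

end Chart

section Main

variable {X Y : Scheme.{u}} (f : X ⟶ Y)

/-- The dimension inequality in fixed affine charts. -/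
theorem scheme_dimIneq_chart [LocallyOfFiniteType f] {U : X.Opens} {V : Y.Opens}
    (hU : IsAffineOpen U) (hV : IsAffineOpen V) (hUV : U ≤ f ⁻¹ᵁ V)
    [IsNoetherianRing Γ(Y, V)] (x ξ : X) (h : ξ ⤳ x) (hxU : x ∈ U) :
    Order.krullDim (Set.Icc x ξ) + ((trn f x : ℕ∞) : WithBot ℕ∞) ≤
      Order.krullDim (Set.Icc (f x) (f ξ)) + ((trn f ξ : ℕ∞) : WithBot ℕ∞) := by
  have hξU : ξ ∈ U := h.mem_open U.2 hxU
  letI := (f.appLE V U hUV).hom.toAlgebra
  haveI : Algebra.FiniteType Γ(Y, V) Γ(X, U) := Scheme.Hom.finiteType_appLE f hV hU hUV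
  haveI l1 : (hU.primeIdealOf ⟨x, hxU⟩).asIdeal.LiesOver
      (hV.primeIdealOf ⟨f x, hUV hxU⟩).asIdeal := ⟨primeIdealOf_comap f hU hV hUV x hxU⟩
  haveI l2 : (hU.primeIdealOf ⟨ξ, hξU⟩).asIdeal.LiesOver
      (hV.primeIdealOf ⟨f ξ, hUV hξU⟩).asIdeal := ⟨primeIdealOf_comap f hU hV hUV ξ hξU⟩
  have hq : (hU.primeIdealOf ⟨ξ, hξU⟩).asIdeal ≤ (hU.primeIdealOf ⟨x, hxU⟩).asIdeal :=
    (SchemeDimFT.primeIdealOf_le_iff hU ⟨ξ, hξU⟩ ⟨x, hxU⟩).mpr h
  have hp : (hV.primeIdealOf ⟨f ξ, hUV hξU⟩).asIdeal ≤ (hV.primeIdealOf ⟨f x, hUV hxU⟩).asIdeal :=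
    (SchemeDimFT.primeIdealOf_le_iff hV ⟨f ξ, hUV hξU⟩ ⟨f x, hUV hxU⟩).mpr (h.map f.continuous)
  have key := dimIneq (hV.primeIdealOf ⟨f ξ, hUV hξU⟩).asIdeal (hV.primeIdealOf ⟨f x, hUV hxU⟩).asIdeal
    (hU.primeIdealOf ⟨ξ, hξU⟩).asIdeal (hU.primeIdealOf ⟨x, hxU⟩).asIdeal hq
  have key' := WithBot.coe_le_coe.mpr key
  rw [WithBot.coe_add, WithBot.coe_add, height_map_mk_eq_krullDim_Icc _ _ hq,
    height_map_mk_eq_krullDim_Icc _ _ hp, trdeg_chart f hU hV hUV x hxU,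
    trdeg_chart f hU hV hUV ξ hξU] at key'
  rw [krullDim_Icc_chart hU x ξ hxU hξU, krullDim_Icc_chart hV (f x) (f ξ) (hUV hxU) (hUV hξU)]
  exact key'

/-- **The dimension inequality for schemes.** -/
theorem scheme_dimIneq [LocallyOfFiniteType f] [IsLocallyNoetherian Y] (x ξ : X) (h : ξ ⤳ x) :
    Order.krullDim (Set.Icc x ξ) + ((trn f x : ℕ∞) : WithBot ℕ∞) ≤
      Order.krullDim (Set.Icc (f x) (f ξ)) + ((trn f ξ : ℕ∞) : WithBot ℕ∞) := by
  obtain ⟨_, ⟨V, hV, rfl⟩, hxV, -⟩ := Y.isBasis_affineOpens.exists_subset_of_mem_open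
    (Set.mem_univ (f x)) isOpen_univ
  obtain ⟨_, ⟨U, hU, rfl⟩, hxU, hUV⟩ := X.isBasis_affineOpens.exists_subset_of_mem_open
    hxV (f ⁻¹ᵁ V).2
  haveI : IsNoetherianRing Γ(Y, V) := IsLocallyNoetherian.component_noetherian ⟨V, hV⟩
  exact scheme_dimIneq_chart f hU hV hUV x ξ h hxU

/-- The dimension formula in fixed affine charts, under universal catenarity of the local ring. -/
theorem scheme_dimFormula_chart [LocallyOfFiniteType f] {U : X.Opens} {V : Y.Opens}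
    (hU : IsAffineOpen U) (hV : IsAffineOpen V) (hUV : U ≤ f ⁻¹ᵁ V)
    [IsNoetherianRing Γ(Y, V)] (x ξ : X) (h : ξ ⤳ x) (hxU : x ∈ U)
    (hcat : CAlg.IsUniversallyCatenary (Y.presheaf.stalk (f x))) :
    Order.krullDim (Set.Icc x ξ) + ((trn f x : ℕ∞) : WithBot ℕ∞) =
      Order.krullDim (Set.Icc (f x) (f ξ)) + ((trn f ξ : ℕ∞) : WithBot ℕ∞) := by
  have hξU : ξ ∈ U := h.mem_open U.2 hxU
  letI := (f.appLE V U hUV).hom.toAlgebra
  haveI : Algebra.FiniteType Γ(Y, V) Γ(X, U) := Scheme.Hom.finiteType_appLE f hV hU hUV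
  haveI l1 : (hU.primeIdealOf ⟨x, hxU⟩).asIdeal.LiesOver
      (hV.primeIdealOf ⟨f x, hUV hxU⟩).asIdeal := ⟨primeIdealOf_comap f hU hV hUV x hxU⟩
  haveI l2 : (hU.primeIdealOf ⟨ξ, hξU⟩).asIdeal.LiesOver
      (hV.primeIdealOf ⟨f ξ, hUV hξU⟩).asIdeal := ⟨primeIdealOf_comap f hU hV hUV ξ hξU⟩
  have hq : (hU.primeIdealOf ⟨ξ, hξU⟩).asIdeal ≤ (hU.primeIdealOf ⟨x, hxU⟩).asIdeal :=
    (SchemeDimFT.primeIdealOf_le_iff hU ⟨ξ, hξU⟩ ⟨x, hxU⟩).mpr h
  have hp : (hV.primeIdealOf ⟨f ξ, hUV hξU⟩).asIdeal ≤ (hV.primeIdealOf ⟨f x, hUV hxU⟩).asIdeal :=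
    (SchemeDimFT.primeIdealOf_le_iff hV ⟨f ξ, hUV hξU⟩ ⟨f x, hUV hxU⟩).mpr (h.map f.continuous)
  have hloc : LocUC Γ(Y, V) (hV.primeIdealOf ⟨f x, hUV hxU⟩).asIdeal := by
    letI algA : Algebra Γ(Y, V) (Y.presheaf.stalk (f x)) :=
      TopCat.Presheaf.algebra_section_stalk Y.presheaf ⟨f x, hUV hxU⟩
    haveI := hV.isLocalization_stalk ⟨f x, hUV hxU⟩
    exact LocUC.of_isLocalization_atPrime _ (Y.presheaf.stalk (f x)) hcat
  have key := dimFormula (hV.primeIdealOf ⟨f ξ, hUV hξU⟩).asIdeal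
    (hV.primeIdealOf ⟨f x, hUV hxU⟩).asIdeal
    (hU.primeIdealOf ⟨ξ, hξU⟩).asIdeal (hU.primeIdealOf ⟨x, hxU⟩).asIdeal hq hloc
  have key' := congrArg (fun a : ℕ∞ => (a : WithBot ℕ∞)) key
  simp only at key'
  rw [WithBot.coe_add, WithBot.coe_add, height_map_mk_eq_krullDim_Icc _ _ hq,
    height_map_mk_eq_krullDim_Icc _ _ hp, trdeg_chart f hU hV hUV x hxU,
    trdeg_chart f hU hV hUV ξ hξU] at key'
  rw [krullDim_Icc_chart hU x ξ hxU hξU, krullDim_Icc_chart hV (f x) (f ξ) (hUV hxU) (hUV hξU)]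
  exact key'

/-- **The dimension formula for schemes**, under universal catenarity of the local ring. -/
theorem scheme_dimFormula [LocallyOfFiniteType f] [IsLocallyNoetherian Y] (x ξ : X) (h : ξ ⤳ x)
    (hcat : CAlg.IsUniversallyCatenary (Y.presheaf.stalk (f x))) :
    Order.krullDim (Set.Icc x ξ) + ((trn f x : ℕ∞) : WithBot ℕ∞) =
      Order.krullDim (Set.Icc (f x) (f ξ)) + ((trn f ξ : ℕ∞) : WithBot ℕ∞) := by
  obtain ⟨_, ⟨V, hV, rfl⟩, hxV, -⟩ := Y.isBasis_affineOpens.exists_subset_of_mem_open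
    (Set.mem_univ (f x)) isOpen_univ
  obtain ⟨_, ⟨U, hU, rfl⟩, hxU, hUV⟩ := X.isBasis_affineOpens.exists_subset_of_mem_open
    hxV (f ⁻¹ᵁ V).2
  haveI : IsNoetherianRing Γ(Y, V) := IsLocallyNoetherian.component_noetherian ⟨V, hV⟩
  exact scheme_dimFormula_chart f hU hV hUV x ξ h hxU hcat

end Main

end Groth.Agent.Lib.Helper12.SchemeDimIneq
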