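import Mathlib
import Groth.Prelude.Def_Found
import Groth.Agent.Lib.Helper12.SchemeDimIneq
import Groth.Agent.Lib.Helper12.ChevalleyCor
import Groth.Agent.Lib.Helper12.FibreRes2

set_option autoImplicit false
universe u v
open Polynomial Cardinal AlgebraicGeometry CategoryTheory

namespace Groth.Agent.Lib.Helper12.SchemeDimIneq

open Groth.Agent.Lib.Helper12.OrdTools Groth.Agent.Lib.Helper12.DimIneq
open Groth.Agent.Lib.Helper12 Groth.Agent.Lib.Helper12.SchemeDimFT
open Groth.Agent.Lib.Helper12.ChevalleyCor

section OverField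

variable (k : Type u) [Field k] (X : Scheme.{u}) [X.Over (Spec (CommRingCat.of k))]
  [LocallyOfFiniteType (X ↘ Spec (CommRingCat.of k))]

include k in
theorem exists_ringKrullDim_stalk_eq (x : X) :
    ∃ b : ℕ, ringKrullDim (X.presheaf.stalk x) = b := by
  obtain ⟨U, hU, hx⟩ := exists_affineOpen_mem X x
  letI := secAlgebra k X U
  haveI := finiteType_sec k X U hU
  haveI : IsNoetherianRing Γ(X, U) := Algebra.FiniteType.isNoetherianRing k _
  rw [ringKrullDim_stalk_eq_height' U hU ⟨x, hx⟩, ← PrimeSpectrum.height_eq_orderHeight]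
  have := Ideal.height_ne_top_of_isPrime (I := (hU.primeIdealOf ⟨x, hx⟩).asIdeal)
  obtain ⟨b, hb⟩ := ENat.ne_top_iff_exists.mp this
  exact ⟨b, by rw [← hb]; rfl⟩

end OverField

section FD

variable {X Y : Scheme.{u}} (f : X ⟶ Y) [LocallyOfFiniteType f]

theorem trn_eq_tr (x : X) :
    letI ovF : (f.fiber (f x)).Over (Spec (CommRingCat.of (Y.residueField (f x)))) :=
      ⟨f.fiberToSpecResidueField (f x)⟩
    haveI : LocallyOfFiniteType
        ((f.fiber (f x)) ↘ Spec (CommRingCat.of (Y.residueField (f x)))) :=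
      FibreRes.locallyOfFiniteType_fiberToSpecResidueField f (f x)
    trn f x = ((tr (Y.residueField (f x)) (f.fiber (f x)) (f.asFiber x) : ℕ) : ℕ∞) := by
  unfold trn
  rw [FibreRes.trdeg_residueFieldMap_eq_tr f x]
  simp

/-- The local dimension of the fibre is `trdeg κ(x)/κ(y) + dim O_{X_y,x}`. -/
theorem fibreDimAt_eq_trn_add (x : X) :
    FlatMor.fibreDimAt f x = ((trn f x : ℕ∞) : WithBot ℕ∞) +
      ringKrullDim ((f.fiber (f x)).presheaf.stalk (f.asFiber x)) := by
  letI ovF : (f.fiber (f x)).Over (Spec (CommRingCat.of (Y.residueField (f x)))) :=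
    ⟨f.fiberToSpecResidueField (f x)⟩
  haveI : LocallyOfFiniteType
      ((f.fiber (f x)) ↘ Spec (CommRingCat.of (Y.residueField (f x)))) :=
    FibreRes.locallyOfFiniteType_fiberToSpecResidueField f (f x)
  obtain ⟨b, hb⟩ := exists_ringKrullDim_stalk_eq (Y.residueField (f x)) (f.fiber (f x))
    (f.asFiber x)
  have h1 := localDim_eq (Y.residueField (f x)) (f.fiber (f x)) (f.asFiber x) _ b
    (tr_spec _ _ _) hb
  unfold FlatMor.fibreDimAt
  rw [h1, hb, trn_eq_tr f x]
  push_cast
  rfl

theorem trn_ne_top (x : X) : trn f x ≠ ⊤ := by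
  rw [trn_eq_tr f x]
  exact ENat.coe_ne_top _

/-- The dimension of the generic fibre as a transcendence degree. -/
theorem dim_generic_fiber_eq_trn [IrreducibleSpace X] :
    topologicalKrullDim (f.fiber (f.base (genericPoint X))) =
      ((trn f (genericPoint X) : ℕ∞) : WithBot ℕ∞) := by
  rw [dim_generic_fiber_eq_tr f, trn_eq_tr f (genericPoint X)]
  rfl

end FD

section Irr

variable {X Y : Scheme.{u}} (f : X ⟶ Y) [LocallyOfFiniteType f]

/-- The dimension inequality for a dominant morphism of irreducible schemes. -/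
theorem dim_stalk_add_trn_le [IrreducibleSpace X] [IrreducibleSpace Y] [IsLocallyNoetherian Y]
    [IsDominant f] (x : X) :
    ringKrullDim (X.presheaf.stalk x) + ((trn f x : ℕ∞) : WithBot ℕ∞) ≤
      ringKrullDim (Y.presheaf.stalk (f x)) + topologicalKrullDim (f.fiber (genericPoint Y)) := by
  have h := scheme_dimIneq f x (genericPoint X) (genericPoint_specializes x)
  rw [krullDim_Icc_eq_coheight_of_greatest x (genericPoint X)
    (fun z => genericPoint_specializes z)] at h
  have hgen : f (genericPoint X) = genericPoint Y := map_genericPoint f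
  rw [hgen, krullDim_Icc_eq_coheight_of_greatest (f x) (genericPoint Y)
    (fun z => genericPoint_specializes z), ← ringKrullDim_stalk_eq_coheight,
    ← ringKrullDim_stalk_eq_coheight, ← dim_generic_fiber_eq_trn f,
    dim_fiber_congr f hgen] at h
  exact h

/-- The dimension formula for a dominant morphism of irreducible schemes. -/
theorem dim_stalk_add_trn_eq [IrreducibleSpace X] [IrreducibleSpace Y] [IsLocallyNoetherian Y]
    [IsDominant f] (x : X) (hcat : CAlg.IsUniversallyCatenary (Y.presheaf.stalk (f x))) :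
    ringKrullDim (X.presheaf.stalk x) + ((trn f x : ℕ∞) : WithBot ℕ∞) =
      ringKrullDim (Y.presheaf.stalk (f x)) + topologicalKrullDim (f.fiber (genericPoint Y)) := by
  have h := scheme_dimFormula f x (genericPoint X) (genericPoint_specializes x) hcat
  rw [krullDim_Icc_eq_coheight_of_greatest x (genericPoint X)
    (fun z => genericPoint_specializes z)] at h
  have hgen : f (genericPoint X) = genericPoint Y := map_genericPoint f
  rw [hgen, krullDim_Icc_eq_coheight_of_greatest (f x) (genericPoint Y)
    (fun z => genericPoint_specializes z), ← ringKrullDim_stalk_eq_coheight,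
    ← ringKrullDim_stalk_eq_coheight, ← dim_generic_fiber_eq_trn f,
    dim_fiber_congr f hgen] at h
  exact h

theorem exists_trn_eq (x : X) : ∃ t : ℕ, trn f x = (t : ℕ∞) := ⟨_, trn_eq_tr f x⟩

end Irr

end Groth.Agent.Lib.Helper12.SchemeDimIneq
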