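import Mathlib
import Groth.Prelude.Def_Found
import Groth.Agent.Lib.Helper12.SchemeDimIneq2

set_option autoImplicit false
universe u v
open Polynomial Cardinal AlgebraicGeometry CategoryTheory

namespace Groth.Agent.Lib.Helper12.SchemeDimIneq

open Groth.Agent.Lib.Helper12.OrdTools Groth.Agent.Lib.Helper12.DimIneq
open Groth.Agent.Lib.Helper12 Groth.Agent.Lib.Helper12.SchemeDimFT
open Groth.Agent.Lib.Helper12.ChevalleyCor

section OrdMore

variable {α : Type*} [Preorder α]

theorem krullDim_Icc_le_coheight (a b : α) :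
    Order.krullDim (Set.Icc a b) ≤ ((Order.coheight a : ℕ∞) : WithBot ℕ∞) := by
  rw [Order.coheight_eq_krullDim_Ici]
  exact Order.krullDim_le_of_strictMono (fun z : Set.Icc a b => (⟨z.1, z.2.1⟩ : Set.Ici a))
    (fun _ _ h => h)

theorem krullDim_Icc_le_height (a b : α) :
    Order.krullDim (Set.Icc a b) ≤ ((Order.height b : ℕ∞) : WithBot ℕ∞) := by
  rw [Order.height_eq_krullDim_Iic]
  exact Order.krullDim_le_of_strictMono (fun z : Set.Icc a b => (⟨z.1, z.2.2⟩ : Set.Iic b))
    (fun _ _ h => h)

/-- A chain lies in the interval between its head and anything above its last element. -/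
theorem length_le_krullDim_Icc (l : LTSeries α) (b : α) (hb : l.last ≤ b) :
    (l.length : WithBot ℕ∞) ≤ Order.krullDim (Set.Icc l.head b) := by
  let l' : LTSeries (Set.Icc l.head b) :=
    { length := l.length
      toFun := fun i => ⟨l i, l.head_le i, (l.monotone (Fin.le_last i)).trans hb⟩
      step := fun i => l.step i }
  exact Order.LTSeries.length_le_krullDim l'

end OrdMore

section MaxPt

variable {X : Scheme.{u}}

theorem exists_maximal_generization (x : X) :
    ∃ ξ : X, closure {ξ} ∈ irreducibleComponents X ∧ ξ ⤳ x := by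
  have h1 := irreducibleComponent_mem_irreducibleComponents x
  obtain ⟨ξ, hξ⟩ := QuasiSober.sober (isIrreducible_irreducibleComponent (x := x))
    isClosed_irreducibleComponent
  refine ⟨ξ, ?_, ?_⟩
  · rw [hξ.def]; exact h1
  · rw [specializes_iff_mem_closure, hξ.def]
    exact mem_irreducibleComponent

end MaxPt


section Sup

theorem coheight_add_le_of_forall {α : Type*} [Preorder α] (x : α) (t : ℕ) (C : WithBot ℕ∞)
    (h : ∀ l : LTSeries α, l.head = x → (l.length : WithBot ℕ∞) + (t : WithBot ℕ∞) ≤ C) :
    ((Order.coheight x : ℕ∞) : WithBot ℕ∞) + (t : WithBot ℕ∞) ≤ C := by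
  rcases em (Order.coheight x = ⊤) with htop | hfin
  · -- arbitrarily long chains
    have hC : C = ⊤ := by
      apply ProductDim.eq_top_of_forall_nat_le
      intro m
      obtain ⟨l, hl0, hlen⟩ := Order.exists_series_of_le_coheight x (n := m) (by rw [htop]; exact le_top)
      have := h l hl0
      rw [hlen] at this
      refine le_trans ?_ this
      have : ((m : ℕ) : WithBot ℕ∞) ≤ ((m + t : ℕ) : WithBot ℕ∞) := by
        exact_mod_cast Nat.le_add_right m t
      refine this.trans (le_of_eq ?_)
      push_cast; rfl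
    rw [hC]; exact le_top
  · obtain ⟨k, hk⟩ := ENat.ne_top_iff_exists.mp hfin
    obtain ⟨l, hl0, hlen⟩ := Order.exists_series_of_coheight_eq_coe x hk.symm
    have := h l hl0
    rw [hlen] at this
    rw [← hk]
    exact this

end Sup

section Main2

variable {X Y : Scheme.{u}} (f : X ⟶ Y) [LocallyOfFiniteType f]

/-- The dimension inequality with a bound over all maximal generizations. -/
theorem dim_stalk_add_trn_le_of_forall [IsLocallyNoetherian Y] (x : X) (C : WithBot ℕ∞)
    (h : ∀ ξ : X, closure {ξ} ∈ irreducibleComponents X → ξ ⤳ x →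
      Order.krullDim (Set.Icc (f x) (f ξ)) + ((trn f ξ : ℕ∞) : WithBot ℕ∞) ≤ C) :
    ringKrullDim (X.presheaf.stalk x) + ((trn f x : ℕ∞) : WithBot ℕ∞) ≤ C := by
  obtain ⟨t, ht⟩ := exists_trn_eq f x
  rw [ringKrullDim_stalk_eq_coheight, ht]
  refine coheight_add_le_of_forall x t C fun l hl0 => ?_
  obtain ⟨ξ, hξ1, hξ2⟩ := exists_maximal_generization l.last
  have hξx : ξ ⤳ x := hξ2.trans (by rw [← hl0]; exact l.head_le_last)
  have h1 := length_le_krullDim_Icc l ξ hξ2
  rw [hl0] at h1
  have h2 := scheme_dimIneq f x ξ hξx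
  rw [ht] at h2
  exact (add_le_add_left h1 _).trans (h2.trans (h ξ hξ1 hξx))

end Main2

section Closed

variable {X Y : Scheme.{u}} (f : X ⟶ Y)

theorem fiberι_strictMono (y : Y) : StrictMono (fun z : f.fiber y => f.fiberι y z) := by
  intro a b hab
  have h1 : b ⤳ a := hab.1
  have h2 : ¬ a ⤳ b := hab.2
  refine ⟨h1.map (f.fiberι y).continuous, fun h3 => h2 ?_⟩
  exact (f.fiberι y).isEmbedding.isInducing.specializes_iff.mp h3

/-- A closed map does not decrease heights (specializations lift). -/
theorem height_apply_le_of_isClosedMap (hf : IsClosedMap f.base) (x : X) :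
    Order.height (f x) ≤ Order.height x := by
  refine height_apply_le_of_lift (fun a : X => f a) ?_ x
  intro a b hab
  have h1 : f a ⤳ b := hab.1
  obtain ⟨a', ha', hfa'⟩ := hf.specializingMap h1
  refine ⟨a', ⟨ha', fun h3 => hab.2 ?_⟩, hfa'⟩
  have h4 : a' ⤳ a := h3
  have := h4.map f.continuous
  rw [hfa'] at this
  exact this

/-- A point of the generic fibre whose local ring has the dimension of the generic fibre. -/
theorem exists_point_generic_fiber [IrreducibleSpace X] [LocallyOfFiniteType f] :
    ∃ x : X, f x = f (genericPoint X) ∧ (trn f (genericPoint X) : ℕ∞) ≤ Order.coheight x := by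
  letI ovF : (f.fiber (f.base (genericPoint X))).Over
      (Spec (CommRingCat.of (Y.residueField (f.base (genericPoint X))))) :=
    ⟨f.fiberToSpecResidueField _⟩
  haveI : LocallyOfFiniteType ((f.fiber (f.base (genericPoint X))) ↘
      Spec (CommRingCat.of (Y.residueField (f.base (genericPoint X))))) :=
    FibreRes.locallyOfFiniteType_fiberToSpecResidueField f _
  obtain ⟨n, hn1, hn2⟩ := exists_dim_generic_fiber f
  have hne : (Set.univ : Set (f.fiber (f.base (genericPoint X)))).Nonempty :=
    ⟨f.asFiber (genericPoint X), trivial⟩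
  obtain ⟨z, -, hz⟩ := exists_isClosed_mem_of_isLocallyClosed
    (Y.residueField (f.base (genericPoint X))) (f.fiber (f.base (genericPoint X))) Set.univ
    isClosed_univ.isLocallyClosed hne
  obtain ⟨b, hb⟩ := exists_ringKrullDim_stalk_eq (Y.residueField (f.base (genericPoint X)))
    (f.fiber (f.base (genericPoint X))) z
  have h1 := localDim_eq (Y.residueField (f.base (genericPoint X)))
    (f.fiber (f.base (genericPoint X))) z _ b (tr_spec _ _ _) hb
  rw [hn2 z, tr_eq_zero_of_isClosed _ _ z hz, zero_add] at h1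
  have hnb : n = b := by exact_mod_cast h1
  have hco : Order.coheight z = (n : ℕ∞) := by
    have := ringKrullDim_stalk_eq_coheight z
    rw [hb, ← hnb] at this
    exact_mod_cast this.symm
  refine ⟨f.fiberι _ z, ?_, ?_⟩
  · have h3 : f.fiberι _ z ∈ Set.range (f.fiberι (f.base (genericPoint X))) := ⟨z, rfl⟩
    rw [Scheme.Hom.range_fiberι] at h3
    exact h3
  · have h4 := Order.coheight_le_coheight_apply_of_strictMono _
      (fiberι_strictMono f (f.base (genericPoint X))) z
    have h5 : ((trn f (genericPoint X) : ℕ∞) : WithBot ℕ∞) = ((n : ℕ) : WithBot ℕ∞) := by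
      rw [← dim_generic_fiber_eq_trn f, hn1]
    have h6 : trn f (genericPoint X) = (n : ℕ∞) := by exact_mod_cast h5
    rw [h6, ← hco]
    exact h4

end Closed

end Groth.Agent.Lib.Helper12.SchemeDimIneq
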