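import Mathlib
import Groth.Prelude.Def_Found
import Groth.Agent.Lib.Helper12.SchemeDimIneq3
import Groth.Agent.Lib.Helper12.DimFun
import Groth.Agent.Lib.Helper12.TopFibreDim
import Groth.Prelude.Def_EGA43

set_option autoImplicit false
universe u v
open Polynomial Cardinal AlgebraicGeometry CategoryTheory

namespace Groth.Agent.Lib.Helper12.Equidim

open Groth.Agent.Lib.Helper12.OrdTools Groth.Agent.Lib.Helper12.DimIneq
open Groth.Agent.Lib.Helper12 Groth.Agent.Lib.Helper12.SchemeDimFT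
open Groth.Agent.Lib.Helper12.ChevalleyCor Groth.Agent.Lib.Helper12.SchemeDimIneq

section OverField

variable (k : Type u) [Field k] (F : Scheme.{u}) [F.Over (Spec (CommRingCat.of k))]
  [LocallyOfFiniteType (F ↘ Spec (CommRingCat.of k))]

theorem isDimFun_tr : Cyc.IsDimFun F (fun z => (tr k F z : ℤ)) := by
  intro x y hxy hne
  refine ⟨?_, fun himm => ?_⟩
  · show ((tr k F y : ℕ) : ℤ) < ((tr k F x : ℕ) : ℤ)
    exact_mod_cast tr_lt_of_specializes k F x y hxy hne
  have h1 := trdeg_eq_add_one_of_covBy k F x y hne hxy himm (tr k F y) (tr_spec k F y)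
  have h2 : (tr k F x : Cardinal.{u}) = ((tr k F y + 1 : ℕ) : Cardinal.{u}) :=
    (tr_spec k F x).symm.trans h1
  have h3 : tr k F x = tr k F y + 1 := by exact_mod_cast h2
  simp only
  omega

theorem tr_eq_of_isMaxPt (e : ℕ)
    (h : ∀ Z ∈ irreducibleComponents (F : Type u), topologicalKrullDim (↥Z : Type u) = e)
    (ζ : F) (hζ : IsMaxPt ζ) : tr k F ζ = e := by
  have h1 := h (closure {ζ}) ((mem_irreducibleComponents_iff _).mpr ⟨ζ, hζ, rfl⟩)
  rw [topologicalKrullDim_closure_singleton k F ζ] at h1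
  exact_mod_cast h1

theorem tr_le_of_equidim (e : ℕ)
    (h : ∀ Z ∈ irreducibleComponents (F : Type u), topologicalKrullDim (↥Z : Type u) = e)
    (z : F) : tr k F z ≤ e := by
  obtain ⟨ζ, hζ1, hζ2⟩ := exists_isMaxPt_specializes z
  rw [← tr_eq_of_isMaxPt k F e h ζ hζ1]
  exact tr_le_of_specializes k F ζ z hζ2

include k in
/-- On an equidimensional scheme locally of finite type over a field all local dimensions are
the common dimension of the components. -/
theorem localDim_eq_of_equidim (e : ℕ)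
    (h : ∀ Z ∈ irreducibleComponents (F : Type u), topologicalKrullDim (↥Z : Type u) = e)
    (x : F) : FlatMor.localDim F x = e := by
  obtain ⟨b, hb⟩ := exists_ringKrullDim_stalk_eq k F x
  rw [localDim_eq k F x _ b (tr_spec k F x) hb]
  have hco : ((Order.coheight x : ℕ∞) : WithBot ℕ∞) = (b : WithBot ℕ∞) := by
    rw [← ringKrullDim_stalk_eq_coheight x, hb]
  obtain ⟨ζ, hζ1, hζ2⟩ := exists_isMaxPt_specializes x
  have hζe := tr_eq_of_isMaxPt k F e h ζ hζ1
  have h1 := DimFun.krullDim_Icc_eq (isDimFun_tr k F) (a := x) (b := ζ) hζ2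
  have h2 := krullDim_Icc_le_coheight x ζ
  rw [h1, hco] at h2
  rw [hζe] at h2
  have h3 : ((e : ℤ) - (tr k F x : ℤ)).toNat ≤ b := by exact_mod_cast h2
  have h4 := coheight_add_le_of_forall x (tr k F x) ((e : ℕ) : WithBot ℕ∞) (fun l hl => by
    have h5 := DimFun.delta_head_add_length_le (isDimFun_tr k F) l
    have h6 := tr_le_of_equidim k F e h l.last
    simp only at h5
    rw [hl] at h5
    have h7 : l.length + tr k F x ≤ e := by omega
    exact_mod_cast h7)
  rw [hco] at h4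
  have h5 : b + tr k F x ≤ e := by exact_mod_cast h4
  have h6 : tr k F x + b = e := by omega
  rw [h6]

end OverField

section Stalk

variable {X Y : Scheme.{u}}

theorem fromSpecStalk_le_iff (x : X) (p q : Spec (X.presheaf.stalk x)) :
    (X.fromSpecStalk x) p ≤ (X.fromSpecStalk x) q ↔ q ⤳ p :=
  (X.fromSpecStalk x).isEmbedding.isInducing.specializes_iff

/-- `dim O_{X,x}/𝔭` is the dimension of the interval between `x` and the point of `𝔭`. -/
theorem ringKrullDim_quotient_stalk_eq (x : X) (𝔭 : PrimeSpectrum (X.presheaf.stalk x)) :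
    ringKrullDim (X.presheaf.stalk x ⧸ 𝔭.asIdeal) =
      Order.krullDim (Set.Icc x ((X.fromSpecStalk x) 𝔭)) := by
  rw [DimFT.ringKrullDim_quotient_eq_coheight 𝔭]
  have h1 := krullDim_Icc_eq_coheight_of_greatest 𝔭 (IsLocalRing.closedPoint (X.presheaf.stalk x))
    (fun z => IsLocalRing.le_maximalIdeal z.2.ne_top)
  rw [← h1]
  have h2 := krullDim_Icc_eq_of_anti (fun p : PrimeSpectrum (X.presheaf.stalk x) =>
      (X.fromSpecStalk x) p)
    (fun a b => by
      rw [PrimeSpectrum.le_iff_specializes]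
      exact (X.fromSpecStalk x).isEmbedding.isInducing.specializes_iff)
    (X.fromSpecStalk x).isEmbedding.injective (by
      have : Set.range (fun p : PrimeSpectrum (X.presheaf.stalk x) => (X.fromSpecStalk x) p) =
          {y | y ⤳ x} := Scheme.range_fromSpecStalk
      rw [this]
      apply IsUpperSet.ordConnected
      intro a b hab ha
      exact Specializes.trans hab ha) 𝔭 (IsLocalRing.closedPoint (X.presheaf.stalk x))
  rw [← h2]
  simp only
  rw [Scheme.fromSpecStalk_closedPoint]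



theorem apply_fromSpecStalk (f : X ⟶ Y) (x : X) (𝔭 : PrimeSpectrum (X.presheaf.stalk x)) :
    f ((X.fromSpecStalk x) 𝔭) =
      (Y.fromSpecStalk (f x)) (PrimeSpectrum.comap (f.stalkMap x).hom 𝔭) := by
  have h := Scheme.SpecMap_stalkMap_fromSpecStalk f (x := x)
  have h2 := congrArg (fun g => g.base 𝔭) h
  simp only [Scheme.Hom.comp_base] at h2
  exact h2.symm

/-- The point of a minimal prime of the local ring is a maximal point. -/
theorem isMaxPt_fromSpecStalk (x : X) (𝔭 : PrimeSpectrum (X.presheaf.stalk x))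
    (h𝔭 : 𝔭.asIdeal ∈ minimalPrimes (X.presheaf.stalk x)) :
    IsMaxPt ((X.fromSpecStalk x) 𝔭) := by
  intro z hz
  have hzx : z ⤳ x := by
    have : (X.fromSpecStalk x) 𝔭 ∈ Set.range (X.fromSpecStalk x) := ⟨𝔭, rfl⟩
    rw [Scheme.range_fromSpecStalk] at this
    exact hz.trans this
  obtain ⟨q, rfl⟩ : z ∈ Set.range (X.fromSpecStalk x) := by
    rw [Scheme.range_fromSpecStalk]; exact hzx
  have h1 : q ⤳ 𝔭 := (X.fromSpecStalk x).isEmbedding.isInducing.specializes_iff.mp hz
  have key : ∀ q' : PrimeSpectrum (X.presheaf.stalk x), q' ⤳ 𝔭 → q' = 𝔭 := by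
    intro q' h1
    have h2 : q' ≤ 𝔭 := (PrimeSpectrum.le_iff_specializes q' 𝔭).mpr h1
    have h3 : 𝔭.asIdeal ≤ q'.asIdeal := h𝔭.2 ⟨q'.2, bot_le⟩ h2
    exact le_antisymm h2 h3
  rw [key q h1]

end Stalk

section Fibre

variable {X Y : Scheme.{u}} (f : X ⟶ Y) [LocallyOfFiniteType f]

theorem fibreDimAt_eq_of_equidim (x : X) (e : ℕ)
    (h : ∀ Z ∈ irreducibleComponents (↥(f.fiber (f.base x)) : Type u),
      topologicalKrullDim (↥Z : Type u) = e) :
    FlatMor.fibreDimAt f x = e := by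
  letI ovF : (f.fiber (f x)).Over (Spec (CommRingCat.of (Y.residueField (f x)))) :=
    ⟨f.fiberToSpecResidueField (f x)⟩
  haveI : LocallyOfFiniteType
      ((f.fiber (f x)) ↘ Spec (CommRingCat.of (Y.residueField (f x)))) :=
    FibreRes.locallyOfFiniteType_fiberToSpecResidueField f (f x)
  exact localDim_eq_of_equidim (Y.residueField (f x)) (f.fiber (f x)) e h (f.asFiber x)

omit [LocallyOfFiniteType f] in
theorem isMaxPt_asFiber (ξ : X) (hξ : IsMaxPt ξ) : IsMaxPt (f.asFiber ξ) := by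
  intro z hz
  have h1 := hz.map (f.fiberι (f ξ)).continuous
  rw [f.fiberι_asFiber ξ] at h1
  have h2 := hξ _ h1
  exact (f.fiberι (f ξ)).isEmbedding.injective (h2.trans (f.fiberι_asFiber ξ).symm)

theorem trn_eq_of_isMaxPt (ξ : X) (hξ : IsMaxPt ξ) (e : ℕ)
    (h : ∀ Z ∈ irreducibleComponents (↥(f.fiber (f.base ξ)) : Type u),
      topologicalKrullDim (↥Z : Type u) = e) :
    trn f ξ = (e : ℕ∞) := by
  letI ovF : (f.fiber (f ξ)).Over (Spec (CommRingCat.of (Y.residueField (f ξ)))) :=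
    ⟨f.fiberToSpecResidueField (f ξ)⟩
  haveI : LocallyOfFiniteType
      ((f.fiber (f ξ)) ↘ Spec (CommRingCat.of (Y.residueField (f ξ)))) :=
    FibreRes.locallyOfFiniteType_fiberToSpecResidueField f (f ξ)
  rw [trn_eq_tr f ξ, tr_eq_of_isMaxPt (Y.residueField (f ξ)) (f.fiber (f ξ)) e h (f.asFiber ξ)
    (isMaxPt_asFiber f ξ hξ)]

end Fibre

section OpenImm

variable {U X Y : Scheme.{u}} (j : U ⟶ X) [IsOpenImmersion j] (f : X ⟶ Y)

theorem trn_comp_openImmersion (z : U) : trn (j ≫ f) z = trn f (j z) := by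
  unfold trn
  congr 1
  letI a1 : Algebra (Y.residueField (f (j z))) (X.residueField (j z)) :=
    (f.residueFieldMap (j z)).hom.toAlgebra
  letI a2 : Algebra (Y.residueField (f (j z))) (U.residueField z) :=
    ((j ≫ f).residueFieldMap z).hom.toAlgebra
  have hcomp : (j ≫ f).residueFieldMap z = f.residueFieldMap (j z) ≫ j.residueFieldMap z :=
    Scheme.residueFieldMap_comp j f z
  let g : X.residueField (j z) ≃+* U.residueField z :=
    (asIso (j.residueFieldMap z)).commRingCatIsoToRingEquiv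
  have hg : ∀ r, g r = (j.residueFieldMap z).hom r := fun r => rfl
  have key := @trdeg_eq_of_ringEquiv (Y.residueField (f (j z))) (Y.residueField (f (j z)))
    (X.residueField (j z)) (U.residueField z) _ _ _ _ _ _ a1 a2 (RingEquiv.refl _) g (fun r => by
      rw [hg]
      show ((j ≫ f).residueFieldMap z).hom r = _
      rw [hcomp]
      rfl)
  exact key.symm

theorem fibreDimAt_comp_openImmersion (z : U) :
    FlatMor.fibreDimAt (j ≫ f) z = FlatMor.fibreDimAt f (j z) := by
  rw [TopFibreDim.fibreDimAt_eq_topFibreDim, TopFibreDim.fibreDimAt_eq_topFibreDim]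
  have := TopFibreDim.topFibreDim_comp_isOpenEmbedding f.base j.base j.isOpenEmbedding z
  rw [← this]
  rfl

end OpenImm


section Main

variable {X Y : Scheme.{u}} (f : X ⟶ Y) [LocallyOfFiniteType f]

theorem isMaxPt_opens (U : X.Opens) (ξ : X) (hξU : ξ ∈ U) (hξ : IsMaxPt ξ) :
    IsMaxPt (X := U.toScheme) ⟨ξ, hξU⟩ := by
  intro z hz
  have h1 : U.ι z ⤳ U.ι ⟨ξ, hξU⟩ := hz.map U.ι.continuous
  exact Subtype.ext (hξ _ h1)

/-- Consequences of equidimensionality at `x`: the fibre dimension at `x` and the transcendence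
degrees at maximal generizations of `x` are all equal to a common `e`. -/
theorem exists_e_of_isEquidimAt (x : X) (h : EGA43.IsEquidimAt f x) :
    ∃ e : ℕ, FlatMor.fibreDimAt f x = e ∧
      ∀ ξ : X, IsMaxPt ξ → ξ ⤳ x → trn f ξ = (e : ℕ∞) := by
  obtain ⟨e, U, hxU, -, hfib⟩ := h
  refine ⟨e, ?_, ?_⟩
  · have h1 := fibreDimAt_comp_openImmersion U.ι f ⟨x, hxU⟩
    have h2 := fibreDimAt_eq_of_equidim (U.ι ≫ f) ⟨x, hxU⟩ e (hfib ⟨x, hxU⟩)
    rw [← h2, h1]
    rfl
  · intro ξ hξ hξx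
    have hξU : ξ ∈ U := hξx.mem_open U.2 hxU
    have h1 := trn_comp_openImmersion U.ι f ⟨ξ, hξU⟩
    have h2 := trn_eq_of_isMaxPt (U.ι ≫ f) ⟨ξ, hξU⟩ (isMaxPt_opens U ξ hξU hξ) e
      (hfib ⟨ξ, hξU⟩)
    rw [← h2, h1]
    rfl

theorem quotient_formula [IsLocallyNoetherian Y] (x : X) (h : EGA43.IsEquidimAt f x)
    (hcat : CAlg.IsUniversallyCatenary (Y.presheaf.stalk (f.base x)))
    (𝔭 : PrimeSpectrum (X.presheaf.stalk x))
    (h𝔭 : 𝔭.asIdeal ∈ minimalPrimes (X.presheaf.stalk x)) :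
    ringKrullDim (X.presheaf.stalk x ⧸ 𝔭.asIdeal) + ((trn f x : ℕ∞) : WithBot ℕ∞) =
      ringKrullDim (Y.presheaf.stalk (f.base x) ⧸ 𝔭.asIdeal.comap (f.stalkMap x).hom) +
        FlatMor.fibreDimAt f x := by
  obtain ⟨e, he1, he2⟩ := exists_e_of_isEquidimAt f x h
  have hξmax := isMaxPt_fromSpecStalk x 𝔭 h𝔭
  have hξx : (X.fromSpecStalk x) 𝔭 ⤳ x := by
    have : (X.fromSpecStalk x) 𝔭 ∈ Set.range (X.fromSpecStalk x) := ⟨𝔭, rfl⟩
    rw [Scheme.range_fromSpecStalk] at this
    exact this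
  have DF := scheme_dimFormula f x _ hξx hcat
  rw [he2 _ hξmax hξx, apply_fromSpecStalk f x 𝔭,
    ← ringKrullDim_quotient_stalk_eq x 𝔭,
    ← ringKrullDim_quotient_stalk_eq (f x) (PrimeSpectrum.comap (f.stalkMap x).hom 𝔭)] at DF
  rw [he1]
  exact DF

end Main

end Groth.Agent.Lib.Helper12.Equidim
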