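import Mathlib
import Groth.Prelude.Def_Found
import Groth.Prelude.Def_EGA43
import Groth.Prelude.Def_EGA4b
import Groth.Agent.Lib.Helper12.Equidim

/-!
# Helper library (helper12): equidimensional morphisms, part 2
-/

set_option autoImplicit false
universe u v
open Polynomial Cardinal AlgebraicGeometry CategoryTheory

namespace Groth.Agent.Lib.Helper12.Equidim

open Groth.Agent.Lib.Helper12.OrdTools Groth.Agent.Lib.Helper12.DimIneq
open Groth.Agent.Lib.Helper12 Groth.Agent.Lib.Helper12.SchemeDimFT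
open Groth.Agent.Lib.Helper12.ChevalleyCor Groth.Agent.Lib.Helper12.SchemeDimIneq

section Ring

/-- If all quotients by minimal primes have the same dimension, it is the dimension of the
ring. -/
theorem ringKrullDim_eq_of_forall_minimalPrimes {R : Type u} [CommRing R] [Nontrivial R]
    (C : WithBot ℕ∞) (h : ∀ p ∈ minimalPrimes R, ringKrullDim (R ⧸ p) = C) :
    ringKrullDim R = C := by
  apply le_antisymm
  · rw [ringKrullDim, Order.krullDim_eq_iSup_coheight]
    have : (⨆ p : PrimeSpectrum R, ((Order.coheight p : ℕ∞) : WithBot ℕ∞)) ≤ C := by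
      refine iSup_le fun p => ?_
      obtain ⟨P, hP, hPle⟩ := Ideal.exists_minimalPrimes_le (I := (⊥ : Ideal R))
        (J := p.asIdeal) bot_le
      have h1 : (⟨P, hP.1.1⟩ : PrimeSpectrum R) ≤ p := hPle
      have h2 := Order.coheight_anti h1
      have h3 := h P hP
      rw [DimFT.ringKrullDim_quotient_eq_coheight ⟨P, hP.1.1⟩] at h3
      rw [← h3]
      exact_mod_cast h2
    exact this
  · obtain ⟨M, hM⟩ := Ideal.exists_maximal R
    haveI := hM.isPrime
    obtain ⟨P, hP, -⟩ := Ideal.exists_minimalPrimes_le (I := (⊥ : Ideal R))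
      (J := M) bot_le
    rw [← h P hP]
    exact ringKrullDim_quotient_le P

end Ring

section Pts

variable {X Y : Scheme.{u}}

theorem mem_minimalPrimes_of_isMaxPt (x : X) (𝔮 : PrimeSpectrum (X.presheaf.stalk x))
    (h : IsMaxPt ((X.fromSpecStalk x) 𝔮)) : 𝔮.asIdeal ∈ minimalPrimes (X.presheaf.stalk x) := by
  refine ⟨⟨𝔮.2, bot_le⟩, ?_⟩
  rintro P ⟨hP, -⟩ hPle
  have h1 : (⟨P, hP⟩ : PrimeSpectrum (X.presheaf.stalk x)) ≤ 𝔮 := hPle
  have h2 : (⟨P, hP⟩ : PrimeSpectrum (X.presheaf.stalk x)) ⤳ 𝔮 :=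
    (PrimeSpectrum.le_iff_specializes _ _).mp h1
  have h3 := h _ (h2.map (X.fromSpecStalk x).continuous)
  have h4 : (⟨P, hP⟩ : PrimeSpectrum (X.presheaf.stalk x)) = 𝔮 :=
    (X.fromSpecStalk x).isEmbedding.injective h3
  rw [← h4]

/-- Under equidimensionality at `x`, maximal generizations of `x` map to maximal points. -/
theorem isMaxPt_apply_of_isEquidimAt (f : X ⟶ Y) (x : X) (h : EGA43.IsEquidimAt f x)
    (ξ : X) (hξ : IsMaxPt ξ) (hξx : ξ ⤳ x) : IsMaxPt (f ξ) := by
  obtain ⟨e, U, hxU, hcomp, -⟩ := h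
  have hξU : ξ ∈ U := hξx.mem_open U.2 hxU
  have hZ : closure ({⟨ξ, hξU⟩} : Set U) ∈ irreducibleComponents (↥U : Type u) :=
    (mem_irreducibleComponents_iff (X := U.toScheme) _).mpr
      ⟨⟨ξ, hξU⟩, isMaxPt_opens U ξ hξU hξ, rfl⟩
  obtain ⟨W, hW, -, hWeq⟩ := hcomp _ hZ
  have h1 : closure ((U.ι ≫ f).base '' closure ({⟨ξ, hξU⟩} : Set U)) = closure {f ξ} := by
    apply le_antisymm
    · apply closure_minimal _ isClosed_closure
      refine (image_closure_subset_closure_image (U.ι ≫ f).continuous).trans ?_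
      rw [Set.image_singleton]
      rfl
    · apply closure_mono
      rw [Set.singleton_subset_iff]
      exact ⟨⟨ξ, hξU⟩, subset_closure rfl, rfl⟩
  rw [h1] at hWeq
  rw [← hWeq] at hW
  exact (closure_singleton_mem_irreducibleComponents_iff (f ξ)).mp hW

end Pts

section Main2

variable {X Y : Scheme.{u}} (f : X ⟶ Y) [LocallyOfFiniteType f]

/-- Under the hypotheses of EGA IV 13.3.6 all the quotients of `O_{X,x}` by minimal primes have
dimension `dim O_{Y,y} + dim O_{X_y,x}`. -/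
theorem dim_quotient_of_isEquidimAt [IsLocallyNoetherian Y] (x : X)
    (hY : EGA4.IsEquidim (Y.presheaf.stalk (f.base x)))
    (hcat : CAlg.IsUniversallyCatenary (Y.presheaf.stalk (f.base x)))
    (h : EGA43.IsEquidimAt f x) (𝔭 : Ideal (X.presheaf.stalk x))
    (h𝔭 : 𝔭 ∈ minimalPrimes (X.presheaf.stalk x)) :
    ringKrullDim (X.presheaf.stalk x ⧸ 𝔭) =
      ringKrullDim (Y.presheaf.stalk (f.base x)) +
        ringKrullDim ((f.fiber (f.base x)).presheaf.stalk (f.asFiber x)) := by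
  have key := quotient_formula f x h hcat ⟨𝔭, h𝔭.1.1⟩ h𝔭
  have hξx : (X.fromSpecStalk x) ⟨𝔭, h𝔭.1.1⟩ ⤳ x := by
    have : (X.fromSpecStalk x) ⟨𝔭, h𝔭.1.1⟩ ∈ Set.range (X.fromSpecStalk x) := ⟨_, rfl⟩
    rw [Scheme.range_fromSpecStalk] at this
    exact this
  have hmax := isMaxPt_apply_of_isEquidimAt f x h _ (isMaxPt_fromSpecStalk x ⟨𝔭, h𝔭.1.1⟩ h𝔭) hξx
  rw [apply_fromSpecStalk f x ⟨𝔭, h𝔭.1.1⟩] at hmax
  have hmin := mem_minimalPrimes_of_isMaxPt (f x) _ hmax
  have h2 := hY _ hmin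
  have h3 : ringKrullDim (Y.presheaf.stalk (f.base x) ⧸ 𝔭.comap (f.stalkMap x).hom) =
      ringKrullDim (Y.presheaf.stalk (f.base x)) := h2
  simp only at key
  rw [h3, fibreDimAt_eq_trn_add f x] at key
  obtain ⟨t, ht⟩ := exists_trn_eq f x
  rw [ht] at key
  have key' : (t : WithBot ℕ∞) + ringKrullDim (X.presheaf.stalk x ⧸ 𝔭) =
      (t : WithBot ℕ∞) + (ringKrullDim (Y.presheaf.stalk (f.base x)) +
        ringKrullDim ((f.fiber (f.base x)).presheaf.stalk (f.asFiber x))) := by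
    rw [add_comm, add_left_comm]
    exact key
  apply le_antisymm
  · exact le_of_nat_add_le t _ _ (le_of_eq key')
  · exact le_of_nat_add_le t _ _ (le_of_eq key'.symm)

/-- EGA IV 13.3.6: the dimension formula for a morphism equidimensional at `x` over an
equidimensional, universally catenary local ring. -/
theorem dim_formula_of_isEquidimAt [IsLocallyNoetherian Y] (x : X)
    (hY : EGA4.IsEquidim (Y.presheaf.stalk (f.base x)))
    (hcat : CAlg.IsUniversallyCatenary (Y.presheaf.stalk (f.base x)))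
    (h : EGA43.IsEquidimAt f x) :
    ringKrullDim (X.presheaf.stalk x) =
      ringKrullDim (Y.presheaf.stalk (f.base x)) +
        ringKrullDim ((f.fiber (f.base x)).presheaf.stalk (f.asFiber x)) :=
  ringKrullDim_eq_of_forall_minimalPrimes _
    (fun 𝔭 h𝔭 => dim_quotient_of_isEquidimAt f x hY hcat h 𝔭 h𝔭)

/-- EGA IV 13.3.6: the local ring upstairs is equidimensional. -/
theorem isEquidim_of_isEquidimAt [IsLocallyNoetherian Y] (x : X)
    (hY : EGA4.IsEquidim (Y.presheaf.stalk (f.base x)))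
    (hcat : CAlg.IsUniversallyCatenary (Y.presheaf.stalk (f.base x)))
    (h : EGA43.IsEquidimAt f x) : EGA4.IsEquidim (X.presheaf.stalk x) := by
  intro 𝔭 h𝔭
  rw [dim_quotient_of_isEquidimAt f x hY hcat h 𝔭 h𝔭, dim_formula_of_isEquidimAt f x hY hcat h]

end Main2

end Groth.Agent.Lib.Helper12.Equidim
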