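import Mathlib
import Groth.Prelude.Def_Found
import Groth.Agent.Lib.Helper12.Equidim

set_option autoImplicit false
universe u v
open Polynomial Cardinal AlgebraicGeometry CategoryTheory

namespace Groth.Agent.Lib.Helper12.ClosedSub

open Groth.Agent.Lib.Helper12.OrdTools Groth.Agent.Lib.Helper12.DimIneq
open Groth.Agent.Lib.Helper12 Groth.Agent.Lib.Helper12.SchemeDimFT
open Groth.Agent.Lib.Helper12.ChevalleyCor Groth.Agent.Lib.Helper12.SchemeDimIneq
open Groth.Agent.Lib.Helper14 Order Groth.Agent.Lib.Helper12.Equidim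

section Def

variable (X : Scheme.{u}) (ξ : X)

/-- The reduced closed subscheme on the closure of a point. -/
noncomputable abbrev clSub : Scheme.{u} :=
  (Scheme.IdealSheafData.vanishingIdeal ⟨closure {ξ}, isClosed_closure⟩).subscheme

noncomputable abbrev clSubι : clSub X ξ ⟶ X :=
  (Scheme.IdealSheafData.vanishingIdeal ⟨closure {ξ}, isClosed_closure⟩).subschemeι

theorem range_clSubι : Set.range (clSubι X ξ) = closure {ξ} := by
  rw [Scheme.IdealSheafData.range_subschemeι]
  exact Scheme.IdealSheafData.coe_support_vanishingIdeal _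

instance : IrreducibleSpace (clSub X ξ) := by
  have hemb := (clSubι X ξ).isEmbedding
  let e : clSub X ξ ≃ₜ ↥(closure ({ξ} : Set X)) :=
    hemb.toHomeomorph.trans (Homeomorph.setCongr (range_clSubι X ξ))
  haveI : IrreducibleSpace ↥(closure ({ξ} : Set X)) :=
    Subtype.irreducibleSpace isIrreducible_singleton.closure
  exact e.irreducibleSpace_iff.mpr inferInstance

theorem clSubι_genericPoint : clSubι X ξ (genericPoint (clSub X ξ)) = ξ := by
  have h1 : IsGenericPoint (clSubι X ξ (genericPoint (clSub X ξ)))
      (closure (clSubι X ξ '' Set.univ)) :=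
    (genericPoint_spec (clSub X ξ)).image (clSubι X ξ).continuous
  rw [Set.image_univ, range_clSubι, closure_closure] at h1
  exact h1.eq (isGenericPoint_closure (x := ξ))

theorem exists_clSubι_eq (x : X) (h : ξ ⤳ x) : ∃ x' : clSub X ξ, clSubι X ξ x' = x := by
  have : x ∈ Set.range (clSubι X ξ) := by
    rw [range_clSubι]; exact specializes_iff_mem_closure.mp h
  exact this

theorem specializes_clSubι (z' : clSub X ξ) : ξ ⤳ clSubι X ξ z' := by
  rw [specializes_iff_mem_closure, ← range_clSubι]
  exact ⟨z', rfl⟩

end Def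

section Transfer

variable {U X Y : Scheme.{u}} (j : U ⟶ X) (f : X ⟶ Y)

/-- `trn` is unchanged by precomposition with a morphism which is surjective on stalks. -/
theorem trn_comp_of_surjective (z : U) (hs : Function.Surjective (j.stalkMap z).hom) :
    trn (j ≫ f) z = trn f (j z) := by
  unfold trn
  congr 1
  letI a1 : Algebra (Y.residueField (f (j z))) (X.residueField (j z)) :=
    (f.residueFieldMap (j z)).hom.toAlgebra
  letI a2 : Algebra (Y.residueField (f (j z))) (U.residueField z) :=
    ((j ≫ f).residueFieldMap z).hom.toAlgebra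
  have hcomp : (j ≫ f).residueFieldMap z = f.residueFieldMap (j z) ≫ j.residueFieldMap z :=
    Scheme.residueFieldMap_comp j f z
  have hbij : Function.Bijective (j.residueFieldMap z).hom := by
    refine ⟨RingHom.injective _, ?_⟩
    exact Ideal.Quotient.lift_surjective_of_surjective _ _
      (Ideal.Quotient.mk_surjective.comp hs)
  let g : X.residueField (j z) ≃+* U.residueField z :=
    RingEquiv.ofBijective (j.residueFieldMap z).hom hbij
  have hg : ∀ r, g r = (j.residueFieldMap z).hom r := fun r => rfl
  have key := @trdeg_eq_of_ringEquiv (Y.residueField (f (j z))) (Y.residueField (f (j z)))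
    (X.residueField (j z)) (U.residueField z) _ _ _ _ _ _ a1 a2 (RingEquiv.refl _) g (fun r => by
      rw [hg]
      show ((j ≫ f).residueFieldMap z).hom r = _
      rw [hcomp]
      rfl)
  exact key.symm

theorem trn_comp_preimmersion [IsPreimmersion j] (z : U) : trn (j ≫ f) z = trn f (j z) :=
  trn_comp_of_surjective j f z (j.stalkMap_surjective z)

end Transfer

section Fib

variable {X Y : Scheme.{u}} (f : X ⟶ Y) [LocallyOfFiniteType f]

/-- `trn` at a point of a fibre is the transcendence degree computed in the fibre. -/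
theorem trn_eq_tr_of_fiber (x : X) (y : Y) (hy : f x = y) (w : f.fiber y)
    (hw : f.fiberι y w = x) :
    letI _ovF : (f.fiber y).Over (Spec (CommRingCat.of (Y.residueField y))) :=
      ⟨f.fiberToSpecResidueField y⟩
    haveI : LocallyOfFiniteType ((f.fiber y) ↘ Spec (CommRingCat.of (Y.residueField y))) :=
      FibreRes.locallyOfFiniteType_fiberToSpecResidueField f y
    trn f x = ((tr (Y.residueField y) (f.fiber y) w : ℕ) : ℕ∞) := by
  subst hy
  have : w = f.asFiber x :=
    (f.fiberι (f x)).isEmbedding.injective (hw.trans (f.fiberι_asFiber x).symm)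
  subst this
  exact trn_eq_tr f x

/-- In the fibre through `x` there is a generization `z` of `x` whose residue field has
transcendence degree the local dimension of the fibre at `x`. -/
theorem exists_generization_trn_eq_fibreDimAt (x : X) :
    ∃ z : X, f z = f x ∧ z ⤳ x ∧ FlatMor.fibreDimAt f x ≤ ((trn f z : ℕ∞) : WithBot ℕ∞) := by
  letI ovF : (f.fiber (f x)).Over (Spec (CommRingCat.of (Y.residueField (f x)))) :=
    ⟨f.fiberToSpecResidueField (f x)⟩
  haveI : LocallyOfFiniteType
      ((f.fiber (f x)) ↘ Spec (CommRingCat.of (Y.residueField (f x)))) :=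
    FibreRes.locallyOfFiniteType_fiberToSpecResidueField f (f x)
  obtain ⟨n, hn⟩ := exists_ringKrullDim_stalk_eq (Y.residueField (f x)) (f.fiber (f x))
    (f.asFiber x)
  have hco : Order.coheight (f.asFiber x) = (n : ℕ∞) := by
    have := ringKrullDim_stalk_eq_coheight (f.asFiber x)
    rw [hn] at this
    exact_mod_cast this.symm
  obtain ⟨l, hl0, hlen⟩ := Order.exists_series_of_coheight_eq_coe (f.asFiber x) hco
  have h1 := DimFun.delta_head_add_length_le (isDimFun_tr (Y.residueField (f x)) (f.fiber (f x))) l
  simp only at h1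
  rw [hl0, hlen] at h1
  have hz : f (f.fiberι (f x) l.last) = f x := by
    have h3 : f.fiberι (f x) l.last ∈ Set.range (f.fiberι (f x)) := ⟨l.last, rfl⟩
    rw [Scheme.Hom.range_fiberι] at h3
    exact h3
  refine ⟨f.fiberι (f x) l.last, hz, ?_, ?_⟩
  · have h2 : l.last ⤳ f.asFiber x := by rw [← hl0]; exact l.head_le_last
    have h3 := h2.map (f.fiberι (f x)).continuous
    rwa [f.fiberι_asFiber x] at h3
  · rw [fibreDimAt_eq_trn_add f x, hn, trn_eq_tr f x,
      trn_eq_tr_of_fiber f (f.fiberι (f x) l.last) (f x) hz l.last rfl]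
    have h4 : tr (Y.residueField (f x)) (f.fiber (f x)) (f.asFiber x) + n ≤
        tr (Y.residueField (f x)) (f.fiber (f x)) l.last := by exact_mod_cast h1
    exact_mod_cast h4

end Fib

section CLB

variable {X Y : Scheme.{u}} (f : X ⟶ Y) [LocallyOfFiniteType f]

/-- Chevalley's lower bound, pointwise form: between a point `ξ` and a specialization `x`
there is a point `z` in the fibre through `x` whose residue field has transcendence degree at
least that of `ξ`. -/
theorem exists_between_trn_le (x ξ : X) (h : ξ ⤳ x) :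
    ∃ z : X, f z = f x ∧ ξ ⤳ z ∧ z ⤳ x ∧ trn f ξ ≤ trn f z := by
  obtain ⟨x', hx'⟩ := exists_clSubι_eq X ξ x h
  have h1 := dim_generic_fiber_le_fibreDimAt (clSubι X ξ ≫ f) x'
  rw [dim_generic_fiber_eq_trn (clSubι X ξ ≫ f)] at h1
  obtain ⟨z', hz1, hz2, hz3⟩ := exists_generization_trn_eq_fibreDimAt (clSubι X ξ ≫ f) x'
  have h2 := h1.trans hz3
  rw [trn_comp_preimmersion (clSubι X ξ) f, trn_comp_preimmersion (clSubι X ξ) f,
    clSubι_genericPoint] at h2
  refine ⟨clSubι X ξ z', ?_, specializes_clSubι X ξ z', ?_, ?_⟩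
  · have : (clSubι X ξ ≫ f) z' = (clSubι X ξ ≫ f) x' := hz1
    rw [← hx']
    exact this
  · rw [← hx']
    exact hz2.map (clSubι X ξ).continuous
  · exact_mod_cast h2

end CLB

end Groth.Agent.Lib.Helper12.ClosedSub
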