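import Mathlib
import Groth.Prelude.Def_Found
import Groth.Agent.Lib.Helper12.Equidim

set_option autoImplicit false
universe u v
open Polynomial Cardinal AlgebraicGeometry CategoryTheory

namespace Groth.Agent.Lib.Helper12.JacDim

open Groth.Agent.Lib.Helper12.OrdTools Groth.Agent.Lib.Helper12.DimIneq
open Groth.Agent.Lib.Helper12 Groth.Agent.Lib.Helper12.SchemeDimFT
open Groth.Agent.Lib.Helper12.ChevalleyCor Groth.Agent.Lib.Helper12.SchemeDimIneq
open Groth.Agent.Lib.Helper14 Order Groth.Agent.Lib.Helper12.Equidim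

section Ord

theorem coheight_add_krullDim_Icc_le {α : Type*} [Preorder α] {a b : α} (hab : a ≤ b) :
    ((coheight b : ℕ∞) : WithBot ℕ∞) + krullDim (Set.Icc a b) ≤ ((coheight a : ℕ∞) : WithBot ℕ∞) := by
  haveI : Nonempty (Set.Icc a b) := ⟨⟨a, le_rfl, hab⟩⟩
  rw [krullDim_eq_iSup_length, ← WithBot.coe_add]
  apply WithBot.coe_le_coe.mpr
  rw [ENat.add_iSup]
  refine iSup_le fun l => ?_
  let l' : LTSeries α := l.map Subtype.val (fun _ _ h => h)
  have h1 := coheight_last_add_length_le l'
  have h2 : coheight b ≤ coheight l'.last := coheight_anti (by simp [l']; exact (l.last).2.2)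
  have h3 : coheight l'.head ≤ coheight a := coheight_anti (by simp [l']; exact (l.head).2.1)
  have h4 : l'.length = l.length := rfl
  rw [h4] at h1
  exact (add_le_add_left h2 _).trans (h1.trans h3)

theorem coheight_eq_add_krullDim_Icc {L : Type*} [PartialOrder L] [FiniteDimensionalOrder L]
    [OrderTop L] (hcat : OrderCatenary L) {a b : L} (hab : a ≤ b) :
    ((coheight a : ℕ∞) : WithBot ℕ∞) = ((coheight b : ℕ∞) : WithBot ℕ∞) + krullDim (Set.Icc a b) := by
  apply le_antisymm _ (coheight_add_krullDim_Icc_le hab)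
  obtain ⟨u, hu0, hul⟩ := exists_cov_series hab
  have h1 := coheight_head_eq_of_cov hcat u u.length (by omega)
  have hlast : u ⟨u.length, by omega⟩ = b := hul
  rw [hu0, hlast] at h1
  have h2 := length_le_krullDim_Icc' (covToLT u) b (le_of_eq (by simpa using hul))
  rw [covToLT_head, hu0, covToLT_length] at h2
  rw [h1, WithBot.coe_add]
  exact add_le_add_right h2 _

end Ord

section Sch

variable {S : Scheme.{u}}

theorem krullDim_Icc_fromSpecStalk (x : S) (𝔭 𝔮 : PrimeSpectrum (S.presheaf.stalk x)) :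
    krullDim (Set.Icc ((S.fromSpecStalk x) 𝔭) ((S.fromSpecStalk x) 𝔮)) =
      krullDim (Set.Icc 𝔮 𝔭) :=
  krullDim_Icc_eq_of_anti (fun p : PrimeSpectrum (S.presheaf.stalk x) =>
      (S.fromSpecStalk x) p)
    (fun a b => by
      rw [PrimeSpectrum.le_iff_specializes]
      exact (S.fromSpecStalk x).isEmbedding.isInducing.specializes_iff)
    (S.fromSpecStalk x).isEmbedding.injective (by
      have : Set.range (fun p : PrimeSpectrum (S.presheaf.stalk x) => (S.fromSpecStalk x) p) =
          {y | y ⤳ x} := Scheme.range_fromSpecStalk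
      rw [this]
      apply IsUpperSet.ordConnected
      intro a b hab ha
      exact Specializes.trans hab ha) 𝔮 𝔭

theorem exists_fromSpecStalk_eq (x s : S) (h : s ⤳ x) :
    ∃ 𝔭 : PrimeSpectrum (S.presheaf.stalk x), (S.fromSpecStalk x) 𝔭 = s := by
  have : s ∈ Set.range (S.fromSpecStalk x) := by
    rw [Scheme.range_fromSpecStalk]; exact h
  exact this

/-- Additivity of interval dimensions at a catenary Noetherian local ring. -/
theorem krullDim_Icc_add (s0 s σ : S) (h1 : s ⤳ s0) (h2 : σ ⤳ s)
    [IsNoetherianRing (S.presheaf.stalk s0)] (hcat : CAlg.IsCatenary (S.presheaf.stalk s0)) :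
    krullDim (Set.Icc s0 σ) = krullDim (Set.Icc s0 s) + krullDim (Set.Icc s σ) := by
  obtain ⟨𝔭, rfl⟩ := exists_fromSpecStalk_eq s0 s h1
  obtain ⟨𝔮, rfl⟩ := exists_fromSpecStalk_eq s0 σ (h2.trans h1)
  have hle : 𝔮 ≤ 𝔭 := by
    rw [PrimeSpectrum.le_iff_specializes]
    exact (S.fromSpecStalk s0).isEmbedding.isInducing.specializes_iff.mp h2
  rw [← ringKrullDim_quotient_stalk_eq s0 𝔮, ← ringKrullDim_quotient_stalk_eq s0 𝔭,
    krullDim_Icc_fromSpecStalk, DimFT.ringKrullDim_quotient_eq_coheight,
    DimFT.ringKrullDim_quotient_eq_coheight]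
  exact coheight_eq_add_krullDim_Icc hcat hle

end Sch

section Gen

variable {S : Scheme.{u}}

/-- The space of generizations of `s` inside `closure {σ}` has the dimension of the interval. -/
theorem topologicalKrullDim_generizations (s σ : S) (h : σ ⤳ s) :
    topologicalKrullDim ↥{t : S | t ∈ closure ({σ} : Set S) ∧ t ⤳ s} = krullDim (Set.Icc s σ) := by
  obtain ⟨𝔮, rfl⟩ : ∃ 𝔮 : PrimeSpectrum (S.presheaf.stalk s), (S.fromSpecStalk s) 𝔮 = σ := by
    have : σ ∈ Set.range (S.fromSpecStalk s) := by
      rw [Scheme.range_fromSpecStalk]; exact h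
    exact this
  rw [← ringKrullDim_quotient_stalk_eq s 𝔮, ← PrimeSpectrum.topologicalKrullDim_eq_ringKrullDim]
  let φ : PrimeSpectrum (S.presheaf.stalk s ⧸ 𝔮.asIdeal) → S := fun p =>
    (S.fromSpecStalk s) (PrimeSpectrum.comap (Ideal.Quotient.mk 𝔮.asIdeal) p)
  have hφ : Topology.IsEmbedding φ :=
    (S.fromSpecStalk s).isEmbedding.comp
      (PrimeSpectrum.isClosedEmbedding_comap_of_surjective _ _
        Ideal.Quotient.mk_surjective).isEmbedding
  have hrange : Set.range φ = {t : S | t ∈ closure ({(S.fromSpecStalk s) 𝔮} : Set S) ∧ t ⤳ s} := by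
    ext t
    constructor
    · rintro ⟨p, rfl⟩
      refine ⟨?_, ?_⟩
      · rw [← specializes_iff_mem_closure]
        have hsp : ∀ p' : PrimeSpectrum (S.presheaf.stalk s), 𝔮 ≤ p' →
            (S.fromSpecStalk s) 𝔮 ⤳ (S.fromSpecStalk s) p' := fun p' hp' =>
          Specializes.map ((PrimeSpectrum.le_iff_specializes _ _).mp hp')
            (S.fromSpecStalk s).continuous
        apply hsp
        intro a ha
        show a ∈ (PrimeSpectrum.comap (Ideal.Quotient.mk 𝔮.asIdeal) p).asIdeal
        rw [PrimeSpectrum.comap_asIdeal, Ideal.mem_comap, Ideal.Quotient.eq_zero_iff_mem.mpr ha]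
        exact zero_mem _
      · have : φ p ∈ Set.range (S.fromSpecStalk s) := ⟨_, rfl⟩
        rw [Scheme.range_fromSpecStalk] at this
        exact this
    · rintro ⟨ht1, ht2⟩
      obtain ⟨p, rfl⟩ : t ∈ Set.range (S.fromSpecStalk s) := by
        rw [Scheme.range_fromSpecStalk]; exact ht2
      rw [← specializes_iff_mem_closure] at ht1
      have h3 : ∀ p' : PrimeSpectrum (S.presheaf.stalk s), 𝔮 ⤳ p' →
          ∃ r, PrimeSpectrum.comap (Ideal.Quotient.mk 𝔮.asIdeal) r = p' := by
        intro p' hp'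
        have hle : 𝔮 ≤ p' := (PrimeSpectrum.le_iff_specializes _ _).mpr hp'
        have : p' ∈ Set.range (PrimeSpectrum.comap (Ideal.Quotient.mk 𝔮.asIdeal)) := by
          rw [_root_.range_comap_of_surjective _ _ Ideal.Quotient.mk_surjective,
            Ideal.mk_ker, PrimeSpectrum.mem_zeroLocus]
          exact hle
        exact this
      obtain ⟨r, hr⟩ := h3 p ((S.fromSpecStalk s).isEmbedding.isInducing.specializes_iff.mp ht1)
      exact ⟨r, by simp only [φ]; rw [hr]⟩
  have e1 : PrimeSpectrum (S.presheaf.stalk s ⧸ 𝔮.asIdeal) ≃ₜ Set.range φ := hφ.toHomeomorph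
  rw [← hrange]
  exact (IsHomeomorph.topologicalKrullDim_eq e1 e1.isHomeomorph).symm

end Gen

section Const

variable {S : Scheme.{u}}

theorem exists_nat_krullDim_Icc [IsLocallyNoetherian S] {a b : S} (hab : a ≤ b) :
    ∃ n : ℕ, krullDim (Set.Icc a b) = n := by
  have h1 := krullDim_Icc_le_coheight a b
  rw [← ringKrullDim_stalk_eq_coheight] at h1
  have h2 : ringKrullDim (S.presheaf.stalk a) ≠ ⊤ := ringKrullDim_ne_top
  have h3 := krullDim_Icc_nonneg hab
  rcases ProductDim.withBot_enat_cases (krullDim (Set.Icc a b)) with h | h | ⟨m, h⟩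
  · rw [h] at h3; simp at h3
  · rw [h] at h1; exact absurd (top_le_iff.mp h1) h2
  · exact ⟨m, h⟩

/-- In a Jacobson-type situation: the codimension of `closure {τ}` at its closed points is constant,
if the irreducible components are equicodimensional and local rings are catenary. -/
theorem exists_const_krullDim_Icc [IsLocallyNoetherian S]
    (h2 : ∀ s : S, CAlg.IsUniversallyCatenary (S.presheaf.stalk s))
    (h3 : ∀ S' ∈ irreducibleComponents (S : Type u), ∀ s ∈ S', IsClosed ({s} : Set S) →
      topologicalKrullDim (↥S' : Type u) = topologicalKrullDim ↥{t : S | t ∈ S' ∧ t ⤳ s})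
    (τ : S) : ∃ c : ℕ, ∀ s0 : S, IsClosed ({s0} : Set S) → τ ⤳ s0 →
      krullDim (Set.Icc s0 τ) = c := by
  obtain ⟨σ, hσ1, hσ2⟩ := exists_maximal_generization τ
  obtain ⟨m, hm⟩ := exists_nat_krullDim_Icc (a := τ) (b := σ) hσ2
  have key : ∀ s0 : S, IsClosed ({s0} : Set S) → τ ⤳ s0 →
      topologicalKrullDim (↥(closure ({σ} : Set S)) : Type u) =
        krullDim (Set.Icc s0 τ) + (m : WithBot ℕ∞) := by
    intro s0 hs0 hτ
    have hσs : σ ⤳ s0 := hσ2.trans hτ
    rw [h3 _ hσ1 s0 (specializes_iff_mem_closure.mp hσs) hs0,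
      topologicalKrullDim_generizations s0 σ hσs]
    haveI : IsNoetherianRing (S.presheaf.stalk s0) := (h2 s0).1
    rw [krullDim_Icc_add s0 τ σ hτ hσ2 ((h2 s0).2 _ (inferInstanceAs (Algebra.FiniteType (S.presheaf.stalk s0) (S.presheaf.stalk s0)))), hm]
  by_cases hex : ∃ s1 : S, IsClosed ({s1} : Set S) ∧ τ ⤳ s1
  · obtain ⟨s1, hs1, hτ1⟩ := hex
    obtain ⟨c, hc⟩ := exists_nat_krullDim_Icc (a := s1) (b := τ) hτ1
    refine ⟨c, fun s0 hs0 hτ0 => ?_⟩
    obtain ⟨c', hc'⟩ := exists_nat_krullDim_Icc (a := s0) (b := τ) hτ0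
    have e1 := key s1 hs1 hτ1
    have e0 := key s0 hs0 hτ0
    rw [e1, hc, hc'] at e0
    have : c + m = c' + m := by exact_mod_cast e0
    rw [hc']
    have : c' = c := by omega
    rw [this]
  · refine ⟨0, fun s0 hs0 hτ0 => absurd ⟨s0, hs0, hτ0⟩ hex⟩

end Const

section Closed

variable {X S : Scheme.{u}} (p : X ⟶ S) [LocallyOfFiniteType p]

theorem trn_eq_zero_of_isClosed (x : X) (hx : IsClosed ({x} : Set X)) : trn p x = 0 := by
  letI ovF : (p.fiber (p x)).Over (Spec (CommRingCat.of (S.residueField (p x)))) :=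
    ⟨p.fiberToSpecResidueField (p x)⟩
  haveI : LocallyOfFiniteType
      ((p.fiber (p x)) ↘ Spec (CommRingCat.of (S.residueField (p x)))) :=
    FibreRes.locallyOfFiniteType_fiberToSpecResidueField p (p x)
  have hcl : IsClosed ({p.asFiber x} : Set (p.fiber (p x))) := by
    have : ({p.asFiber x} : Set (p.fiber (p x))) = (p.fiberι (p x)).base ⁻¹' {x} := by
      ext z
      simp only [Set.mem_singleton_iff, Set.mem_preimage]
      constructor
      · rintro rfl; exact p.fiberι_asFiber x
      · intro hz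
        exact (p.fiberι (p x)).isEmbedding.injective (hz.trans (p.fiberι_asFiber x).symm)
    rw [this]
    exact hx.preimage (p.fiberι (p x)).continuous
  rw [trn_eq_tr p x, tr_eq_zero_of_isClosed _ _ _ hcl]
  rfl

attribute [local instance] specializationOrder in
theorem topologicalKrullDim_eq_krullDim' (X : Scheme.{u}) :
    topologicalKrullDim X = Order.krullDim X :=
  Order.krullDim_eq_of_orderIso (irreducibleSetEquivPoints (α := X))

/-- The dimension of a Jacobson scheme is determined by its closed points. -/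
theorem topologicalKrullDim_eq_of_closedPoints (X : Scheme.{u}) [JacobsonSpace X] [Nonempty X]
    (C : WithBot ℕ∞)
    (h : ∀ x : X, IsClosed ({x} : Set X) → ringKrullDim (X.presheaf.stalk x) = C) :
    topologicalKrullDim X = C := by
  rw [topologicalKrullDim_eq_krullDim' X]
  have hex : ∀ x : X, ∃ x0 : X, IsClosed ({x0} : Set X) ∧ x ⤳ x0 := by
    intro x
    obtain ⟨x0, hx0, hx0c⟩ := nonempty_inter_closedPoints
      (Z := closure ({x} : Set X)) ⟨x, subset_closure rfl⟩ isClosed_closure.isLocallyClosed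
    exact ⟨x0, hx0c, specializes_iff_mem_closure.mpr hx0⟩
  apply le_antisymm
  · rw [Order.krullDim_eq_iSup_coheight]
    have : (⨆ x : X, ((Order.coheight x : ℕ∞) : WithBot ℕ∞)) ≤ C := by
      refine iSup_le fun x => ?_
      obtain ⟨x0, hx0, hxx0⟩ := hex x
      rw [← h x0 hx0, ringKrullDim_stalk_eq_coheight]
      have : Order.coheight x ≤ Order.coheight x0 := Order.coheight_anti hxx0
      exact_mod_cast this
    exact this
  · obtain ⟨x0, hx0, -⟩ := hex (Classical.arbitrary X)
    rw [← h x0 hx0, ringKrullDim_stalk_eq_coheight]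
    exact Order.coheight_le_krullDim x0

end Closed

section Jac

variable {X S : Scheme.{u}} (p : X ⟶ S) [LocallyOfFiniteType p]

/-- EGA IV 10.6.1-type formula: dimension of an irreducible scheme locally of finite type over a
Jacobson universally catenary base with equicodimensional components. -/
theorem topologicalKrullDim_eq_add_trn [IsLocallyNoetherian S] [JacobsonSpace S]
    [IrreducibleSpace X]
    (h2 : ∀ s : S, CAlg.IsUniversallyCatenary (S.presheaf.stalk s))
    (c : ℕ) (hc : ∀ s0 : S, IsClosed ({s0} : Set S) → p (genericPoint X) ⤳ s0 →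
      krullDim (Set.Icc s0 (p (genericPoint X))) = c) :
    topologicalKrullDim X = (c : WithBot ℕ∞) + ((trn p (genericPoint X) : ℕ∞) : WithBot ℕ∞) := by
  haveI : JacobsonSpace X := LocallyOfFiniteType.jacobsonSpace p
  apply topologicalKrullDim_eq_of_closedPoints
  intro x hx
  have hpx : IsClosed ({p x} : Set S) := p.closePoints_subset_preimage_closedPoints hx
  have hsp : genericPoint X ⤳ x := genericPoint_specializes x
  have DF := scheme_dimFormula p x (genericPoint X) hsp (h2 (p x))
  rw [trn_eq_zero_of_isClosed p x hx, hc (p x) hpx (hsp.map p.continuous),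
    krullDim_Icc_eq_coheight_of_greatest x (genericPoint X)
      (fun z => genericPoint_specializes z), ← ringKrullDim_stalk_eq_coheight] at DF
  simpa using DF

end Jac

section Comp

variable {X Y Z : Scheme.{u}} (f : X ⟶ Y) (q : Y ⟶ Z)

theorem trn_comp (x : X) : trn (f ≫ q) x = trn q (f x) + trn f x := by
  unfold trn
  rw [← map_add]
  congr 1
  letI a1 : Algebra (Z.residueField (q (f x))) (Y.residueField (f x)) :=
    (q.residueFieldMap (f x)).hom.toAlgebra
  letI a2 : Algebra (Y.residueField (f x)) (X.residueField x) :=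
    (f.residueFieldMap x).hom.toAlgebra
  letI a3 : Algebra (Z.residueField (q (f x))) (X.residueField x) :=
    ((f ≫ q).residueFieldMap x).hom.toAlgebra
  have hcomp : (f ≫ q).residueFieldMap x = q.residueFieldMap (f x) ≫ f.residueFieldMap x :=
    Scheme.residueFieldMap_comp f q x
  haveI : IsScalarTower (Z.residueField (q (f x))) (Y.residueField (f x)) (X.residueField x) :=
    IsScalarTower.of_algebraMap_eq (fun r => by
      show ((f ≫ q).residueFieldMap x).hom r = _
      rw [hcomp]
      rfl)
  exact (trdeg_add_eq (R := Z.residueField (q (f x))) (S := Y.residueField (f x))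
    (A := X.residueField x)).symm

end Comp

section Final

variable {X Y S : Scheme.{u}}

theorem dim_eq_dim_add_dim_generic_fiber [IsLocallyNoetherian S]
    [JacobsonSpace S] (h2 : ∀ s : S, CAlg.IsUniversallyCatenary (S.presheaf.stalk s))
    (h3 : ∀ S' ∈ irreducibleComponents (S : Type u), ∀ s ∈ S', IsClosed ({s} : Set S) →
      topologicalKrullDim (↥S' : Type u) = topologicalKrullDim ↥{t : S | t ∈ S' ∧ t ⤳ s})
    (p : X ⟶ S) (q : Y ⟶ S) [LocallyOfFiniteType p] [LocallyOfFiniteType q] (f : X ⟶ Y)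
    (hf : f ≫ q = p)
    [IrreducibleSpace X] [IrreducibleSpace Y] [IsDominant f] :
    topologicalKrullDim (X : Type u) =
      topologicalKrullDim (Y : Type u) + topologicalKrullDim ↥(f.fiber (genericPoint Y)) := by
  subst hf
  haveI : LocallyOfFiniteType f := locallyOfFiniteType_of_comp f q
  have hgen : f (genericPoint X) = genericPoint Y := map_genericPoint f
  obtain ⟨c, hc⟩ := exists_const_krullDim_Icc h2 h3 (q (genericPoint Y))
  have hX := topologicalKrullDim_eq_add_trn (f ≫ q) h2 c (by
    intro s0 hs0 hsp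
    have e : (f ≫ q) (genericPoint X) = q (genericPoint Y) := by
      rw [← hgen]; rfl
    rw [e] at hsp ⊢
    exact hc s0 hs0 hsp)
  have hY := topologicalKrullDim_eq_add_trn q h2 c hc
  rw [hX, hY, trn_comp f q (genericPoint X), ← dim_fiber_congr f hgen,
    dim_generic_fiber_eq_trn f, hgen]
  push_cast
  rw [add_assoc]

end Final

end Groth.Agent.Lib.Helper12.JacDim
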