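import Mathlib
import Groth.Prelude.Def_Found
import Groth.Agent.Lib.Helper12.Equidim
import Groth.Agent.Lib.Helper12.ClosedSub
import Groth.Agent.Lib.Helper6.OpenDimSch
import Groth.Agent.Lib.Helper12.JacDim

/-!
# Helper library (helper12): maximal points of fibres and the dimension formula
-/

set_option autoImplicit false
universe u v
open Polynomial Cardinal AlgebraicGeometry CategoryTheory

namespace Groth.Agent.Lib.Helper12.FibreMax

open Groth.Agent.Lib.Helper12.OrdTools Groth.Agent.Lib.Helper12.DimIneq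
open Groth.Agent.Lib.Helper12 Groth.Agent.Lib.Helper12.SchemeDimFT
open Groth.Agent.Lib.Helper12.ChevalleyCor Groth.Agent.Lib.Helper12.SchemeDimIneq
open Groth.Agent.Lib.Helper14 Order Groth.Agent.Lib.Helper12.Equidim
open Groth.Agent.Lib.Helper12.ClosedSub Groth.Agent.Lib.Helper12.JacDim

section Top

theorem localDim_le_of_specializes {T : Type*} [TopologicalSpace T] (a b : T) (h : a ⤳ b) :
    FlatMor.localDim T a ≤ FlatMor.localDim T b := by
  unfold FlatMor.localDim
  refine le_iInf fun U => ?_
  exact iInf_le (fun U : {U : TopologicalSpace.Opens T // a ∈ U} =>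
    topologicalKrullDim (U.1 : Set T)) ⟨U.1, h.mem_open U.1.2 U.2⟩

end Top

section Fib

variable {X Y : Scheme.{u}} (f : X ⟶ Y) [LocallyOfFiniteType f]

omit [LocallyOfFiniteType f] in
theorem fibreDimAt_le_of_specializes (x z : X) (hz : f z = f x) (h : z ⤳ x) :
    FlatMor.fibreDimAt f z ≤ FlatMor.fibreDimAt f x := by
  rw [TopFibreDim.fibreDimAt_eq_topFibreDim, TopFibreDim.fibreDimAt_eq_topFibreDim]
  unfold TopFibreDim.topFibreDim
  have h1 : (f.base ⁻¹' {f.base z}) = (f.base ⁻¹' {f.base x}) := by rw [hz]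
  rw [TopFibreDim.localDim_setCongr h1 z rfl]
  apply localDim_le_of_specializes
  exact (subtype_specializes_iff _ _).mpr h

theorem trn_le_fibreDimAt_of_specializes (x z : X) (hz : f z = f x) (h : z ⤳ x) :
    ((trn f z : ℕ∞) : WithBot ℕ∞) ≤ FlatMor.fibreDimAt f x := by
  refine le_trans ?_ (fibreDimAt_le_of_specializes f x z hz h)
  rw [fibreDimAt_eq_trn_add f z]
  have h0 : (0 : WithBot ℕ∞) ≤ ringKrullDim ((f.fiber (f z)).presheaf.stalk (f.asFiber z)) :=
    ringKrullDim_nonneg_of_nontrivial
  calc ((trn f z : ℕ∞) : WithBot ℕ∞) = ((trn f z : ℕ∞) : WithBot ℕ∞) + 0 := (add_zero _).symm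
    _ ≤ _ := add_le_add_right h0 _

omit [LocallyOfFiniteType f] in
/-- The local ring of the fibre at a maximal point of the fibre is zero-dimensional. -/
theorem ringKrullDim_fiber_stalk_eq_zero (z : X)
    (hmax : ∀ z' : X, f z' = f z → z' ⤳ z → z' = z) :
    ringKrullDim ((f.fiber (f z)).presheaf.stalk (f.asFiber z)) = 0 := by
  rw [ringKrullDim_stalk_eq_coheight]
  have : Order.coheight (f.asFiber z) = 0 := by
    rw [Order.coheight_eq_zero]
    intro w hw
    have h1 : w ⤳ f.asFiber z := hw
    have h2 := h1.map (f.fiberι (f z)).continuous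
    rw [f.fiberι_asFiber z] at h2
    have h3 : f (f.fiberι (f z) w) = f z := by
      have h3 : f.fiberι (f z) w ∈ Set.range (f.fiberι (f z)) := ⟨w, rfl⟩
      rw [Scheme.Hom.range_fiberι] at h3
      exact h3
    have h4 := hmax _ h3 h2
    have h5 : w = f.asFiber z :=
      (f.fiberι (f z)).isEmbedding.injective (h4.trans (f.fiberι_asFiber z).symm)
    rw [h5]
  rw [this]
  rfl

/-- Intervals in the fibre embed into intervals of the total space. -/
theorem sub_le_krullDim_Icc (x z : X) (hz : f z = f x) (h : z ⤳ x) (tz tx : ℕ)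
    (htz : trn f z = tz) (htx : trn f x = tx) :
    ((tz - tx : ℕ) : WithBot ℕ∞) ≤ krullDim (Set.Icc x z) := by
  letI ovF : (f.fiber (f x)).Over (Spec (CommRingCat.of (Y.residueField (f x)))) :=
    ⟨f.fiberToSpecResidueField (f x)⟩
  haveI : LocallyOfFiniteType
      ((f.fiber (f x)) ↘ Spec (CommRingCat.of (Y.residueField (f x)))) :=
    FibreRes.locallyOfFiniteType_fiberToSpecResidueField f (f x)
  let w : f.fiber (f x) := (f.fiberHomeo (f x)).symm ⟨z, hz⟩
  have hw : f.fiberι (f x) w = z := f.fiberι_fiberHomeo_symm (f x) ⟨z, hz⟩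
  have hle : f.asFiber x ≤ w := by
    show w ⤳ f.asFiber x
    apply (f.fiberι (f x)).isEmbedding.isInducing.specializes_iff.mp
    rw [hw, f.fiberι_asFiber x]
    exact h
  have h1 := DimFun.krullDim_Icc_eq (isDimFun_tr (Y.residueField (f x)) (f.fiber (f x))) hle
  have h2 : trn f z = ((tr (Y.residueField (f x)) (f.fiber (f x)) w : ℕ) : ℕ∞) :=
    trn_eq_tr_of_fiber f z (f x) hz w hw
  have h3 := trn_eq_tr f x
  rw [htz] at h2
  rw [htx] at h3
  have h2' : tz = tr (Y.residueField (f x)) (f.fiber (f x)) w := by exact_mod_cast h2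
  have h3' : tx = tr (Y.residueField (f x)) (f.fiber (f x)) (f.asFiber x) := by exact_mod_cast h3
  simp only at h1
  rw [← h2', ← h3'] at h1
  have h4 : (((tz : ℤ) - (tx : ℤ)).toNat) = tz - tx := by omega
  rw [h4] at h1
  rw [← h1]
  refine Order.krullDim_le_of_strictMono
    (fun a : Set.Icc (f.asFiber x) w => (⟨f.fiberι (f x) a.1, ?_, ?_⟩ : Set.Icc x z)) ?_
  · have h5 : a.1 ⤳ f.asFiber x := a.2.1
    have := h5.map (f.fiberι (f x)).continuous
    rwa [f.fiberι_asFiber x] at this
  · have h5 : w ⤳ a.1 := a.2.2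
    have := h5.map (f.fiberι (f x)).continuous
    rwa [hw] at this
  · intro a b hab
    exact fiberι_strictMono f (f x) hab

end Fib

section Aux

variable {X Y : Scheme.{u}} (f : X ⟶ Y) [LocallyOfFiniteType f]

theorem trn_lt_of_specializes (z z' : X) (hz : f z' = f z) (hsp : z' ⤳ z) (hne : z' ≠ z) :
    trn f z < trn f z' := by
  letI ovF : (f.fiber (f z)).Over (Spec (CommRingCat.of (Y.residueField (f z)))) :=
    ⟨f.fiberToSpecResidueField (f z)⟩
  haveI : LocallyOfFiniteType
      ((f.fiber (f z)) ↘ Spec (CommRingCat.of (Y.residueField (f z)))) :=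
    FibreRes.locallyOfFiniteType_fiberToSpecResidueField f (f z)
  let w : f.fiber (f z) := (f.fiberHomeo (f z)).symm ⟨z', hz⟩
  have hw : f.fiberι (f z) w = z' := f.fiberι_fiberHomeo_symm (f z) ⟨z', hz⟩
  have hsp' : w ⤳ f.asFiber z := by
    apply (f.fiberι (f z)).isEmbedding.isInducing.specializes_iff.mp
    rw [hw, f.fiberι_asFiber z]
    exact hsp
  have hne' : w ≠ f.asFiber z := by
    intro h
    apply hne
    rw [← hw, h, f.fiberι_asFiber z]
  have h1 := tr_lt_of_specializes (Y.residueField (f z)) (f.fiber (f z)) w (f.asFiber z) hsp' hne'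
  rw [trn_eq_tr f z, trn_eq_tr_of_fiber f z' (f z) hz w hw]
  exact_mod_cast h1

theorem exists_nat_ringKrullDim_stalk (X : Scheme.{u}) [IsLocallyNoetherian X] (x : X) :
    ∃ n : ℕ, ringKrullDim (X.presheaf.stalk x) = n := by
  have h1 : ringKrullDim (X.presheaf.stalk x) ≠ ⊤ := ringKrullDim_ne_top
  have h2 : ringKrullDim (X.presheaf.stalk x) ≠ ⊥ := ringKrullDim_ne_bot
  rcases ProductDim.withBot_enat_cases (ringKrullDim (X.presheaf.stalk x)) with h | h | ⟨m, h⟩
  · exact absurd h h2
  · exact absurd h h1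
  · exact ⟨m, h⟩

end Aux

section Main

variable {X Y : Scheme.{u}} (f : X ⟶ Y) [LocallyOfFiniteType f]

theorem dim_formula_iff_exists_max [IsLocallyNoetherian Y] (x : X)
    (hcat : CAlg.IsUniversallyCatenary (Y.presheaf.stalk (f.base x))) :
    ringKrullDim (X.presheaf.stalk x) =
        ringKrullDim (Y.presheaf.stalk (f.base x)) +
          ringKrullDim ((f.fiber (f.base x)).presheaf.stalk (f.asFiber x)) ↔
      ∃ z : X, f.base z = f.base x ∧ z ⤳ x ∧
        (∀ z' : X, f.base z' = f.base x → z' ⤳ z → z' = z) ∧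
        FlatMor.fibreDimAt f z = FlatMor.fibreDimAt f x ∧
        ringKrullDim (X.presheaf.stalk z) = ringKrullDim (Y.presheaf.stalk (f.base z)) := by
  haveI : IsLocallyNoetherian X := LocallyOfFiniteType.isLocallyNoetherian f
  letI ovF : (f.fiber (f x)).Over (Spec (CommRingCat.of (Y.residueField (f x)))) :=
    ⟨f.fiberToSpecResidueField (f x)⟩
  haveI : LocallyOfFiniteType
      ((f.fiber (f x)) ↘ Spec (CommRingCat.of (Y.residueField (f x)))) :=
    FibreRes.locallyOfFiniteType_fiberToSpecResidueField f (f x)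
  obtain ⟨A, hA⟩ := exists_nat_ringKrullDim_stalk X x
  obtain ⟨B, hB⟩ := exists_nat_ringKrullDim_stalk Y (f x)
  obtain ⟨C, hC⟩ := exists_ringKrullDim_stalk_eq (Y.residueField (f x)) (f.fiber (f x))
    (f.asFiber x)
  obtain ⟨t, ht⟩ := exists_trn_eq f x
  have hE : FlatMor.fibreDimAt f x = ((t + C : ℕ) : WithBot ℕ∞) := by
    rw [fibreDimAt_eq_trn_add f x, hC, ht]
    push_cast
    rfl
  have hle := Groth.Agent.Lib.Helper6.OpenDim.ringKrullDim_stalk_le_add_fiber f x
  have hcoA : ((Order.coheight x : ℕ∞) : WithBot ℕ∞) = (A : WithBot ℕ∞) := by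
    rw [← ringKrullDim_stalk_eq_coheight, hA]
  rw [hA, hB, hC] at hle ⊢
  have hle' : A ≤ B + C := by exact_mod_cast hle
  constructor
  · -- (⇒)
    intro hABC
    have hABC' : A = B + C := by exact_mod_cast hABC
    have hco : Order.coheight x = (A : ℕ∞) := by exact_mod_cast hcoA
    obtain ⟨l, hl0, hlen⟩ := Order.exists_series_of_coheight_eq_coe x hco
    have hξx : l.last ⤳ x := by
      have : l.head ≤ l.last := l.head_le_last
      rw [hl0] at this
      exact this
    have hK1 : krullDim (Set.Icc x l.last) = (A : WithBot ℕ∞) := by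
      apply le_antisymm
      · rw [← hcoA]; exact krullDim_Icc_le_coheight x l.last
      · have := length_le_krullDim_Icc' l l.last le_rfl
        rw [hl0, hlen] at this
        exact this
    have DF := scheme_dimFormula f x l.last hξx hcat
    obtain ⟨K, hK⟩ := exists_nat_krullDim_Icc (a := f x) (b := f l.last) (hξx.map f.continuous)
    have hKB : K ≤ B := by
      have h1 := krullDim_Icc_le_coheight (f x) (f l.last)
      rw [← ringKrullDim_stalk_eq_coheight, hK, hB] at h1
      exact_mod_cast h1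
    obtain ⟨e', he'⟩ := exists_trn_eq f l.last
    rw [hK1, hK, ht, he'] at DF
    have DF' : A + t = K + e' := by exact_mod_cast DF
    obtain ⟨z, hz, hξz, hzx, hlez⟩ := exists_between_trn_le f x l.last hξx
    obtain ⟨tz, htz⟩ := exists_trn_eq f z
    rw [he', htz] at hlez
    have hlez' : e' ≤ tz := by exact_mod_cast hlez
    have h3 := trn_le_fibreDimAt_of_specializes f x z hz hzx
    rw [htz, hE] at h3
    have h3' : tz ≤ t + C := by exact_mod_cast h3
    have eK : K = B := by omega
    have etz : tz = t + C := by omega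
    have ee' : e' = tz := by omega
    have hmax : ∀ z' : X, f.base z' = f.base x → z' ⤳ z → z' = z := by
      intro z' hz' hsp
      by_contra hne
      have h4 := trn_lt_of_specializes f z z' (hz'.trans hz.symm) hsp hne
      obtain ⟨tz', htz'⟩ := exists_trn_eq f z'
      have h5 := trn_le_fibreDimAt_of_specializes f x z' hz' (hsp.trans hzx)
      rw [htz', hE] at h5
      have h5' : tz' ≤ t + C := by exact_mod_cast h5
      rw [htz, htz'] at h4
      have h4' : tz < tz' := by exact_mod_cast h4
      omega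
    have hmax' : ∀ z' : X, f z' = f z → z' ⤳ z → z' = z := fun z' hz' hsp =>
      hmax z' (hz'.trans hz) hsp
    have h0 := ringKrullDim_fiber_stalk_eq_zero f z hmax'
    refine ⟨z, hz, hzx, hmax, ?_, ?_⟩
    · rw [fibreDimAt_eq_trn_add f z, h0, htz, hE, add_zero, etz]
      rfl
    · have hBz : ringKrullDim (Y.presheaf.stalk (f.base z)) = (B : WithBot ℕ∞) := by
        rw [hz]; exact hB
      rw [hBz]
      apply le_antisymm
      · have h6 := Groth.Agent.Lib.Helper6.OpenDim.ringKrullDim_stalk_le_add_fiber f z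
        rw [h0, add_zero, hBz] at h6
        exact h6
      · have hcat' : CAlg.IsUniversallyCatenary (Y.presheaf.stalk (f.base z)) := by
          rw [hz]; exact hcat
        have DF2 := scheme_dimFormula f z l.last hξz hcat'
        have hK' : krullDim (Set.Icc (f z) (f l.last)) = (K : WithBot ℕ∞) := by
          have : f z = f x := hz
          rw [this]; exact hK
        rw [hK', htz, he'] at DF2
        obtain ⟨M, hM⟩ := exists_nat_krullDim_Icc (a := z) (b := l.last) hξz
        rw [hM] at DF2
        have DF2' : M + tz = K + e' := by exact_mod_cast DF2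
        have hMB : M = B := by omega
        have h7 := krullDim_Icc_le_coheight z l.last
        rw [← ringKrullDim_stalk_eq_coheight, hM, hMB] at h7
        exact h7
  · -- (⇐)
    rintro ⟨z, hz, hzx, hmax, hfd, hdz⟩
    have hmax' : ∀ z' : X, f z' = f z → z' ⤳ z → z' = z := fun z' hz' hsp =>
      hmax z' (hz'.trans hz) hsp
    have h0 := ringKrullDim_fiber_stalk_eq_zero f z hmax'
    obtain ⟨tz, htz⟩ := exists_trn_eq f z
    rw [fibreDimAt_eq_trn_add f z, h0, htz, hE, add_zero] at hfd
    have etz : tz = t + C := by exact_mod_cast hfd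
    have h1 := sub_le_krullDim_Icc f x z hz hzx tz t htz ht
    have h2 := coheight_add_krullDim_Icc_le (a := x) (b := z) hzx
    have hBz : ringKrullDim (Y.presheaf.stalk (f.base z)) = (B : WithBot ℕ∞) := by
      rw [hz]; exact hB
    rw [hBz, ringKrullDim_stalk_eq_coheight] at hdz
    rw [hdz, hcoA] at h2
    have h3 : (B : WithBot ℕ∞) + ((tz - t : ℕ) : WithBot ℕ∞) ≤ (A : WithBot ℕ∞) :=
      (add_le_add_right h1 _).trans h2
    have h3' : B + (tz - t) ≤ A := by exact_mod_cast h3
    have : A = B + C := by omega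
    exact_mod_cast this

end Main

end Groth.Agent.Lib.Helper12.FibreMax
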