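import Mathlib
import Groth.Prelude.Def_Found
import Groth.Prelude.Def_EGA43
import Groth.Agent.Lib.Helper12.Equidim2
import Groth.Agent.Lib.Helper12.FibreMax

/-!
# Helper library (helper12): restriction of an equidimensional morphism to an irreducible
closed subset (EGA IV 13.3.8)
-/

set_option autoImplicit false
universe u v
open Polynomial Cardinal AlgebraicGeometry CategoryTheory

namespace Groth.Agent.Lib.Helper12.EquidimSub

open Groth.Agent.Lib.Helper12.OrdTools Groth.Agent.Lib.Helper12.DimIneq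
open Groth.Agent.Lib.Helper12 Groth.Agent.Lib.Helper12.SchemeDimFT
open Groth.Agent.Lib.Helper12.ChevalleyCor Groth.Agent.Lib.Helper12.SchemeDimIneq
open Groth.Agent.Lib.Helper14 Order Groth.Agent.Lib.Helper12.Equidim
open Groth.Agent.Lib.Helper12.ClosedSub Groth.Agent.Lib.Helper12.JacDim
open Groth.Agent.Lib.Helper12.FibreMax

section FibComp

variable {X Y : Scheme.{u}} (f : X ⟶ Y) [LocallyOfFiniteType f]

theorem apply_fiberι (y : Y) (ζ : f.fiber y) : f (f.fiberι y ζ) = y := by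
  have h3 : f.fiberι y ζ ∈ Set.range (f.fiberι y) := ⟨ζ, rfl⟩
  rw [Scheme.Hom.range_fiberι] at h3
  exact h3

/-- The generic point of an irreducible component of a fibre: it is maximal in the fibre and
the dimension of the component is its transcendence degree. -/
theorem exists_of_mem_irreducibleComponents_fiber (y : Y) (Z : Set (f.fiber y))
    (hZ : Z ∈ irreducibleComponents (f.fiber y)) :
    ∃ z : X, f z = y ∧ (∀ z' : X, f z' = y → z' ⤳ z → z' = z) ∧
      topologicalKrullDim (↥Z : Type u) = ((trn f z : ℕ∞) : WithBot ℕ∞) := by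
  letI ovF : (f.fiber y).Over (Spec (CommRingCat.of (Y.residueField y))) :=
    ⟨f.fiberToSpecResidueField y⟩
  haveI : LocallyOfFiniteType ((f.fiber y) ↘ Spec (CommRingCat.of (Y.residueField y))) :=
    FibreRes.locallyOfFiniteType_fiberToSpecResidueField f y
  obtain ⟨ζ, hζ, rfl⟩ := (mem_irreducibleComponents_iff Z).mp hZ
  have hz : f (f.fiberι y ζ) = y := apply_fiberι f y ζ
  refine ⟨f.fiberι y ζ, hz, ?_, ?_⟩
  · intro z' hz' hsp
    have hζ' : f.fiberι y ((f.fiberHomeo y).symm ⟨z', hz'⟩) = z' :=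
      f.fiberι_fiberHomeo_symm y ⟨z', hz'⟩
    have h1 : (f.fiberHomeo y).symm ⟨z', hz'⟩ ⤳ ζ := by
      apply (f.fiberι y).isEmbedding.isInducing.specializes_iff.mp
      rw [hζ']; exact hsp
    rw [← hζ', hζ _ h1]
  · rw [topologicalKrullDim_closure_singleton (Y.residueField y) (f.fiber y) ζ,
      trn_eq_tr_of_fiber f (f.fiberι y ζ) y hz ζ rfl]
    rfl

/-- A point of `U` which is maximal in its fibre has transcendence degree `e` when the fibres
of `U → Y` are equidimensional of dimension `e`. -/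
theorem trn_eq_of_fibre_max (U : X.Opens) (e : ℕ)
    (hfib : ∀ x' : (↥U : Type u),
      ∀ Z ∈ irreducibleComponents (↥((U.ι ≫ f).fiber ((U.ι ≫ f).base x')) : Type u),
        topologicalKrullDim (↥Z : Type u) = e)
    (z : X) (hzU : z ∈ U) (hmax : ∀ z' : X, f z' = f z → z' ⤳ z → z' = z) :
    trn f z = (e : ℕ∞) := by
  letI ovF : ((U.ι ≫ f).fiber ((U.ι ≫ f) ⟨z, hzU⟩)).Over
      (Spec (CommRingCat.of (Y.residueField ((U.ι ≫ f) ⟨z, hzU⟩)))) :=
    ⟨(U.ι ≫ f).fiberToSpecResidueField _⟩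
  haveI : LocallyOfFiniteType (((U.ι ≫ f).fiber ((U.ι ≫ f) ⟨z, hzU⟩)) ↘
      Spec (CommRingCat.of (Y.residueField ((U.ι ≫ f) ⟨z, hzU⟩)))) :=
    FibreRes.locallyOfFiniteType_fiberToSpecResidueField (U.ι ≫ f) _
  have h1 := trn_comp_openImmersion U.ι f ⟨z, hzU⟩
  have hmaxF : IsMaxPt ((U.ι ≫ f).asFiber ⟨z, hzU⟩) := by
    intro w hw
    have h2 := hw.map ((U.ι ≫ f).fiberι _).continuous
    rw [(U.ι ≫ f).fiberι_asFiber] at h2
    have h3 : f (U.ι ((U.ι ≫ f).fiberι _ w)) = f z :=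
      apply_fiberι (U.ι ≫ f) _ w
    have h4 := hmax _ h3 (h2.map U.ι.continuous)
    have h5 : (U.ι ≫ f).fiberι _ w = ⟨z, hzU⟩ := Subtype.ext h4
    exact ((U.ι ≫ f).fiberι _).isEmbedding.injective
      (h5.trans ((U.ι ≫ f).fiberι_asFiber _).symm)
  have h6 := tr_eq_of_isMaxPt (Y.residueField ((U.ι ≫ f) ⟨z, hzU⟩))
    ((U.ι ≫ f).fiber ((U.ι ≫ f) ⟨z, hzU⟩)) e (hfib ⟨z, hzU⟩) _ hmaxF
  have h7 := trn_eq_tr (U.ι ≫ f) ⟨z, hzU⟩
  rw [h6] at h7
  rw [← h7, h1]
  rfl

theorem fibreDimAt_eq_of_mem (U : X.Opens) (e : ℕ)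
    (hfib : ∀ x' : (↥U : Type u),
      ∀ Z ∈ irreducibleComponents (↥((U.ι ≫ f).fiber ((U.ι ≫ f).base x')) : Type u),
        topologicalKrullDim (↥Z : Type u) = e)
    (z : X) (hzU : z ∈ U) : FlatMor.fibreDimAt f z = e := by
  have h1 := fibreDimAt_comp_openImmersion U.ι f ⟨z, hzU⟩
  have h2 := fibreDimAt_eq_of_equidim (U.ι ≫ f) ⟨z, hzU⟩ e (hfib ⟨z, hzU⟩)
  rw [← h2, h1]
  rfl

omit [LocallyOfFiniteType f] in
theorem ringKrullDim_fiber_stalk_le (x : X) :
    ringKrullDim ((f.fiber (f x)).presheaf.stalk (f.asFiber x)) ≤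
      ringKrullDim (X.presheaf.stalk x) := by
  rw [ringKrullDim_stalk_eq_coheight, ringKrullDim_stalk_eq_coheight]
  have h := Order.coheight_le_coheight_apply_of_strictMono _ (fiberι_strictMono f (f x))
    (f.asFiber x)
  simp only [f.fiberι_asFiber x] at h
  exact_mod_cast h

end FibComp

section Top

variable {Z X Y : Scheme.{u}} (ι : Z ⟶ X) (f : X ⟶ Y)

/-- The local dimension of the trace of a fibre of `f` on the range of an embedding `ι` is
the fibre dimension of `ι ≫ f`. -/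
theorem localDim_inter_fibre_eq (hι : Topology.IsEmbedding ι.base) (T : Set X)
    (hT : Set.range ι.base = T) (w : Z) (x : X) (hw : ι.base w = x) (hx : x ∈ T) :
    FlatMor.localDim ↥(T ∩ f.base ⁻¹' {f.base x}) ⟨x, ⟨hx, rfl⟩⟩ =
      FlatMor.fibreDimAt (ι ≫ f) w := by
  rw [TopFibreDim.fibreDimAt_eq_topFibreDim]
  unfold TopFibreDim.topFibreDim
  have hφ : Topology.IsEmbedding
      (fun z : ((ι ≫ f).base ⁻¹' {(ι ≫ f).base w}) => ι.base z.1) :=
    hι.comp Topology.IsEmbedding.subtypeVal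
  have hrange : Set.range (fun z : ((ι ≫ f).base ⁻¹' {(ι ≫ f).base w}) => ι.base z.1) =
      T ∩ f.base ⁻¹' {f.base x} := by
    ext p
    constructor
    · rintro ⟨z, rfl⟩
      refine ⟨hT ▸ ⟨z.1, rfl⟩, ?_⟩
      have := z.2
      simp only [Set.mem_preimage, Set.mem_singleton_iff, Scheme.Hom.comp_base,
        TopCat.hom_comp, ContinuousMap.comp_apply] at this ⊢
      rw [this, hw]
    · rintro ⟨hp1, hp2⟩
      rw [← hT] at hp1
      obtain ⟨z0, rfl⟩ := hp1
      refine ⟨⟨z0, ?_⟩, rfl⟩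
      simp only [Set.mem_preimage, Set.mem_singleton_iff, Scheme.Hom.comp_base,
        TopCat.hom_comp, ContinuousMap.comp_apply] at hp2 ⊢
      rw [hp2, hw]
  have h := TopFibreDim.localDim_homeomorph
    (hφ.toHomeomorph.trans (Homeomorph.setCongr hrange)) ⟨w, rfl⟩
  rw [h]
  congr 1
  exact Subtype.ext hw.symm

end Top

section Main

variable {X Y : Scheme.{u}} (f : X ⟶ Y) [LocallyOfFiniteType f]

theorem nat_ne_top' (n : ℕ) : ((n : ℕ) : WithBot ℕ∞) ≠ ⊤ := by
  intro h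
  have h1 : ((n : ℕ∞) : WithBot ℕ∞) = ((⊤ : ℕ∞) : WithBot ℕ∞) := h
  exact ENat.coe_ne_top n (WithBot.coe_injective h1)

theorem top_add_nat' (n : ℕ) : (⊤ : WithBot ℕ∞) + (n : WithBot ℕ∞) = ⊤ := by
  have h1 : ((⊤ : ℕ∞) : WithBot ℕ∞) + ((n : ℕ∞) : WithBot ℕ∞) = ((⊤ : ℕ∞) : WithBot ℕ∞) := by
    rw [← WithBot.coe_add, top_add]
  exact h1

theorem isMaxPt_of_coheight_eq_zero (z : X) (h : Order.coheight z = 0) : IsMaxPt z := by
  rw [Order.coheight_eq_zero] at h
  intro y hy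
  have h1 : z ≤ y := hy
  have h2 : y ≤ z := h h1
  have h3 : z ⤳ y := h2
  exact (hy.antisymm h3).eq

/-- numeric part of EGA IV 13.3.8 and genericity of the image of the generic point. -/
theorem numeric [IrreducibleSpace Y] (x : X)
    (hf : EGA43.IsEquidimAt f x) (x' : X) (hx : x' ⤳ x) (n : ℕ)
    (hcodim : ringKrullDim (X.presheaf.stalk x') ≤ n)
    (L : WithBot ℕ∞)
    (hL : ∀ w : clSub X x', clSubι X x' w = x → FlatMor.fibreDimAt (clSubι X x' ≫ f) w = L)
    (hdim : L + n ≤ FlatMor.fibreDimAt f x) :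
    ringKrullDim (X.presheaf.stalk x') = n ∧ L + n = FlatMor.fibreDimAt f x ∧
      L = ((trn f x' : ℕ∞) : WithBot ℕ∞) ∧ IsMaxPt (f x') := by
  have hf' := hf
  obtain ⟨e, U, hxU, hcomp, hfib⟩ := hf
  obtain ⟨w0, hw0⟩ := exists_clSubι_eq X x' x hx
  have hx'U : x' ∈ U := hx.mem_open U.2 hxU
  obtain ⟨t, ht⟩ := exists_trn_eq f x'
  -- step 1
  have h1 : (t : WithBot ℕ∞) ≤ L := by
    have h1 := dim_generic_fiber_le_fibreDimAt (clSubι X x' ≫ f) w0
    rw [dim_generic_fiber_eq_trn (clSubι X x' ≫ f), trn_comp_preimmersion (clSubι X x') f,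
      clSubι_genericPoint, ht, hL w0 hw0] at h1
    exact_mod_cast h1
  have h2 : FlatMor.fibreDimAt f x' = e := fibreDimAt_eq_of_mem f U e hfib x' hx'U
  have h2x : FlatMor.fibreDimAt f x = e := fibreDimAt_eq_of_mem f U e hfib x hxU
  have h3 := fibreDimAt_eq_trn_add f x'
  have h4 := ringKrullDim_fiber_stalk_le f x'
  have h0 : (0 : WithBot ℕ∞) ≤ ringKrullDim ((f.fiber (f x')).presheaf.stalk (f.asFiber x')) :=
    ringKrullDim_nonneg_of_nontrivial
  rw [h2, ht] at h3
  rw [h2x] at hdim ⊢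
  -- reduce to naturals
  obtain ⟨dX, hdX⟩ : ∃ d : ℕ, ringKrullDim (X.presheaf.stalk x') = d := by
    rcases ProductDim.withBot_enat_cases (ringKrullDim (X.presheaf.stalk x')) with h | h | ⟨m, h⟩
    · rw [h] at h4; exact absurd (h0.trans h4) (by simp)
    · rw [h] at hcodim; exact absurd (top_le_iff.mp hcodim) (nat_ne_top' n)
    · exact ⟨m, h⟩
  obtain ⟨dF, hdF⟩ : ∃ d : ℕ,
      ringKrullDim ((f.fiber (f x')).presheaf.stalk (f.asFiber x')) = d := by
    rcases ProductDim.withBot_enat_cases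
      (ringKrullDim ((f.fiber (f x')).presheaf.stalk (f.asFiber x'))) with h | h | ⟨m, h⟩
    · rw [h] at h0; exact absurd h0 (by simp)
    · rw [h, hdX] at h4; exact absurd (top_le_iff.mp h4) (nat_ne_top' dX)
    · exact ⟨m, h⟩
  obtain ⟨l, hl⟩ : ∃ l : ℕ, L = l := by
    rcases ProductDim.withBot_enat_cases L with h | h | ⟨m, h⟩
    · rw [h] at h1; exact absurd h1 (by simp)
    · rw [h, top_add_nat'] at hdim; exact absurd (top_le_iff.mp hdim) (nat_ne_top' e)
    · exact ⟨m, h⟩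
  rw [hdX] at hcodim h4 ⊢
  rw [hdF] at h3 h4
  rw [hl] at h1 hdim ⊢
  have a1 : t ≤ l := by exact_mod_cast h1
  have a2 : l + n ≤ e := by exact_mod_cast hdim
  have a3 : e = t + dF := by exact_mod_cast h3
  have a4 : dF ≤ dX := by exact_mod_cast h4
  have a5 : dX ≤ n := by exact_mod_cast hcodim
  have a6 : dX = n := by omega
  have a7 : l + n = e := by omega
  have a8 : l = t := by omega
  refine ⟨by rw [a6], by exact_mod_cast a7, by rw [ht, a8]; rfl, ?_⟩
  -- genericity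
  obtain ⟨ζ, hζmax, hζsp⟩ := exists_isMaxPt_specializes (f.asFiber x')
  have hz : f (f.fiberι (f x') ζ) = f x' := apply_fiberι f (f x') ζ
  have hzx' : f.fiberι (f x') ζ ⤳ x' := by
    have := hζsp.map (f.fiberι (f x')).continuous
    rwa [f.fiberι_asFiber x'] at this
  have hzmaxfib : ∀ z' : X, f z' = f (f.fiberι (f x') ζ) → z' ⤳ f.fiberι (f x') ζ →
      z' = f.fiberι (f x') ζ := by
    intro z' hz' hsp
    have hz'' : f z' = f x' := hz'.trans hz
    have hζ' : f.fiberι (f x') ((f.fiberHomeo (f x')).symm ⟨z', hz''⟩) = z' :=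
      f.fiberι_fiberHomeo_symm (f x') ⟨z', hz''⟩
    have h1 : (f.fiberHomeo (f x')).symm ⟨z', hz''⟩ ⤳ ζ := by
      apply (f.fiberι (f x')).isEmbedding.isInducing.specializes_iff.mp
      rw [hζ']; exact hsp
    rw [← hζ', hζmax _ h1]
  have hzU : f.fiberι (f x') ζ ∈ U := hzx'.mem_open U.2 hx'U
  have htz : trn f (f.fiberι (f x') ζ) = (e : ℕ∞) :=
    trn_eq_of_fibre_max f U e hfib _ hzU hzmaxfib
  have h5 := sub_le_krullDim_Icc f x' (f.fiberι (f x') ζ) hz hzx' e t htz ht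
  obtain ⟨d, hd⟩ : ∃ d : ℕ, d = e - t := ⟨_, rfl⟩
  rw [← hd] at h5
  have h6 := coheight_add_krullDim_Icc_le (a := x') (b := f.fiberι (f x') ζ) hzx'
  rw [← ringKrullDim_stalk_eq_coheight x', hdX] at h6
  have hco : Order.coheight (f.fiberι (f x') ζ) = 0 := by
    by_contra hne
    have h7 : ((1 : ℕ) : ℕ∞) ≤ Order.coheight (f.fiberι (f x') ζ) := by
      have := Order.one_le_iff_pos.mpr (pos_iff_ne_zero.mpr hne)
      exact_mod_cast this
    have h8 : (((1 : ℕ) : ℕ∞) : WithBot ℕ∞) + ((d : ℕ) : WithBot ℕ∞) ≤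
        (dX : WithBot ℕ∞) := by
      refine le_trans ?_ h6
      exact add_le_add (WithBot.coe_le_coe.mpr h7) h5
    have h9 : 1 + d ≤ dX := by exact_mod_cast h8
    omega
  have hzmax := isMaxPt_of_coheight_eq_zero _ hco
  have := isMaxPt_apply_of_isEquidimAt f x hf' _ hzmax (hzx'.trans hx)
  rwa [hz] at this

/-- The restriction of `f` to the closure of a point `x'` mapping to the generic point of the
irreducible scheme `Y` is equidimensional at every point where the fibre dimension is at most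
that of the generic fibre. -/
theorem isEquidimAt_clSub [IrreducibleSpace Y] (x' : X) (t : ℕ) (ht : trn f x' = (t : ℕ∞))
    (hgen : IsMaxPt (f x')) (w : clSub X x')
    (hw : FlatMor.fibreDimAt (clSubι X x' ≫ f) w ≤ t) :
    EGA43.IsEquidimAt (clSubι X x' ≫ f) w := by
  have hgp : trn (clSubι X x' ≫ f) (genericPoint (clSub X x')) = (t : ℕ∞) := by
    rw [trn_comp_preimmersion (clSubι X x') f, clSubι_genericPoint, ht]
  have hggp : (clSubι X x' ≫ f) (genericPoint (clSub X x')) = f x' := by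
    have : (clSubι X x' ≫ f) (genericPoint (clSub X x')) =
      f (clSubι X x' (genericPoint (clSub X x'))) := rfl
    rw [this, clSubι_genericPoint]
  have hYuniv : closure ({f x'} : Set Y) = Set.univ := by
    have h1 : genericPoint Y = f x' := hgen _ (genericPoint_specializes (f x'))
    rw [← h1]; exact (genericPoint_spec Y).def
  obtain ⟨V, hV⟩ : ∃ V : (clSub X x').Opens,
      (V : Set (clSub X x')) = {w' | FlatMor.fibreDimAt (clSubι X x' ≫ f) w' ≤ t} :=
    ⟨⟨{w' | FlatMor.fibreDimAt (clSubι X x' ≫ f) w' ≤ t},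
      Groth.Agent.Lib.Helper12.Chevalley.isOpen_setOf_fibreDimAt_le (clSubι X x' ≫ f) t⟩, rfl⟩
  have hVmem : ∀ w' : clSub X x', w' ∈ V ↔ FlatMor.fibreDimAt (clSubι X x' ≫ f) w' ≤ t := by
    intro w'
    have : w' ∈ V ↔ w' ∈ (V : Set (clSub X x')) := Iff.rfl
    rw [this, hV]
    rfl
  refine ⟨t, V, (hVmem w).mpr hw, ?_, ?_⟩
  · intro Z hZ
    refine ⟨Set.univ, ?_, trivial, ?_⟩
    · rw [irreducibleComponents_eq_singleton]; rfl
    · obtain ⟨η, hη, rfl⟩ := (mem_irreducibleComponents_iff (X := V.toScheme) Z).mp hZ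
      have h1 : genericPoint (clSub X x') ⤳ V.ι η := genericPoint_specializes _
      have h2 : genericPoint (clSub X x') ∈ V := h1.mem_open V.2 η.2
      have h3 : (⟨genericPoint (clSub X x'), h2⟩ : V) ⤳ η :=
        V.ι.isEmbedding.isInducing.specializes_iff.mp h1
      have h4 := hη _ h3
      apply le_antisymm (Set.subset_univ _)
      rw [← hYuniv]
      apply closure_mono
      rw [Set.singleton_subset_iff]
      refine ⟨η, subset_closure rfl, ?_⟩
      rw [← h4]
      exact hggp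
  · intro w' Z hZ
    obtain ⟨z, hz1, hz2, hz3⟩ :=
      exists_of_mem_irreducibleComponents_fiber (V.ι ≫ clSubι X x' ≫ f) _ Z hZ
    rw [hz3, trn_comp_openImmersion V.ι (clSubι X x' ≫ f) z]
    have hle : trn (clSubι X x' ≫ f) (V.ι z) ≤ (t : ℕ∞) := by
      have h1 := trn_le_fibreDimAt_of_specializes (clSubι X x' ≫ f) (V.ι z) (V.ι z) rfl
        specializes_rfl
      have h2 : FlatMor.fibreDimAt (clSubι X x' ≫ f) (V.ι z) ≤ t := (hVmem _).mp z.2
      exact_mod_cast h1.trans h2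
    have hge : (t : ℕ∞) ≤ trn (clSubι X x' ≫ f) (V.ι z) := by
      obtain ⟨z₂, hz₂1, hz₂2, hz₂3, hz₂4⟩ := exists_between_trn_le (clSubι X x' ≫ f) (V.ι z)
        (genericPoint _) (genericPoint_specializes _)
      have hz₂V : z₂ ∈ V := hz₂3.mem_open V.2 z.2
      have h5 : (⟨z₂, hz₂V⟩ : V) = z := by
        apply hz2
        · exact hz₂1.trans hz1
        · exact V.ι.isEmbedding.isInducing.specializes_iff.mp hz₂3
      rw [hgp] at hz₂4
      rw [← h5]
      exact hz₂4
    rw [le_antisymm hle hge]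
    rfl

end Main

end Groth.Agent.Lib.Helper12.EquidimSub
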