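import Mathlib
import Groth.Prelude.Def_Found
import Groth.Prelude.Def_EGA43
import Groth.Agent.Lib.Helper12.EquidimSub
import Groth.Agent.Lib.Helper12.SchemeDimFT4
import Groth.Agent.S6460

/-!
# Helper library (helper12): hypersurface sections of equidimensional morphisms (EGA IV 13.3.9)
-/

set_option autoImplicit false
universe u v
open Polynomial Cardinal AlgebraicGeometry CategoryTheory

namespace Groth.Agent.Lib.Helper12.EquidimHyp

open Groth.Agent.Lib.Helper12.OrdTools Groth.Agent.Lib.Helper12.DimIneq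
open Groth.Agent.Lib.Helper12 Groth.Agent.Lib.Helper12.SchemeDimFT
open Groth.Agent.Lib.Helper12.ChevalleyCor Groth.Agent.Lib.Helper12.SchemeDimIneq
open Groth.Agent.Lib.Helper14 Order Groth.Agent.Lib.Helper12.Equidim
open Groth.Agent.Lib.Helper12.ClosedSub Groth.Agent.Lib.Helper12.JacDim
open Groth.Agent.Lib.Helper12.FibreMax Groth.Agent.Lib.Helper12.EquidimSub

section M

variable {X Y : Scheme.{u}} (f : X ⟶ Y) [LocallyOfFiniteType f]

/-- The fibre dimension at `x` is the largest transcendence degree of a generization of `x` in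
the fibre. -/
theorem fibreDimAt_le_iff (x : X) (c : ℕ) :
    FlatMor.fibreDimAt f x ≤ (c : WithBot ℕ∞) ↔
      ∀ z : X, f z = f x → z ⤳ x → trn f z ≤ (c : ℕ∞) := by
  constructor
  · intro h z hz hzx
    have := (trn_le_fibreDimAt_of_specializes f x z hz hzx).trans h
    exact_mod_cast this
  · intro h
    obtain ⟨z, hz1, hz2, hz3⟩ := exists_generization_trn_eq_fibreDimAt f x
    refine hz3.trans ?_
    exact_mod_cast h z hz1 hz2

/-- A version of the numeric part of EGA IV 13.3.8 in terms of transcendence degrees. -/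
theorem numeric' [IrreducibleSpace Y] (x : X) (hf : EGA43.IsEquidimAt f x) (x' : X)
    (hx : x' ⤳ x) (n e : ℕ) (he : FlatMor.fibreDimAt f x = e)
    (hcodim : ringKrullDim (X.presheaf.stalk x') ≤ n)
    (hdim : ∀ z : X, x' ⤳ z → z ⤳ x → f z = f x → trn f z + (n : ℕ∞) ≤ (e : ℕ∞)) :
    ringKrullDim (X.presheaf.stalk x') = n ∧ trn f x' + (n : ℕ∞) = (e : ℕ∞) ∧
      IsMaxPt (f x') := by
  obtain ⟨w0, hw0⟩ := exists_clSubι_eq X x' x hx
  have hinj : ∀ w : clSub X x', clSubι X x' w = x → w = w0 := fun w hw =>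
    (clSubι X x').isEmbedding.injective (hw.trans hw0.symm)
  have hne : n ≤ e := by
    have h1 := hdim x hx specializes_rfl rfl
    have h2 : (n : ℕ∞) ≤ e := le_trans le_add_self h1
    exact_mod_cast h2
  have hL : FlatMor.fibreDimAt (clSubι X x' ≫ f) w0 ≤ ((e - n : ℕ) : WithBot ℕ∞) := by
    rw [fibreDimAt_le_iff]
    intro z hz hzw
    rw [trn_comp_preimmersion]
    have hzx : clSubι X x' z ⤳ x := by
      rw [← hw0]; exact hzw.map (clSubι X x').continuous
    have hfz : f (clSubι X x' z) = f x := by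
      rw [← hw0]; exact hz
    have h1 := hdim (clSubι X x' z) (specializes_clSubι X x' z) hzx hfz
    obtain ⟨t, ht⟩ := exists_trn_eq f (clSubι X x' z)
    rw [ht] at h1 ⊢
    have h2 : t + n ≤ e := by exact_mod_cast h1
    have h3 : t ≤ e - n := by omega
    exact_mod_cast h3
  have hdim' : FlatMor.fibreDimAt (clSubι X x' ≫ f) w0 + n ≤ FlatMor.fibreDimAt f x := by
    rw [he]
    calc FlatMor.fibreDimAt (clSubι X x' ≫ f) w0 + (n : WithBot ℕ∞)
        ≤ ((e - n : ℕ) : WithBot ℕ∞) + (n : WithBot ℕ∞) := add_le_add_left hL _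
      _ = (e : WithBot ℕ∞) := by
        have : e - n + n = e := Nat.sub_add_cancel hne
        exact_mod_cast this
  obtain ⟨r1, r2, r3, r4⟩ := numeric f x hf x' hx n hcodim _
    (fun w hw => by rw [hinj w hw]) hdim'
  refine ⟨r1, ?_, r4⟩
  rw [r3, he] at r2
  obtain ⟨t, ht⟩ := exists_trn_eq f x'
  rw [ht] at r2 ⊢
  have : t + n = e := by exact_mod_cast r2
  exact_mod_cast this

end M

section K

variable {X : Scheme.{u}}

/-- Krull's principal ideal theorem: a maximal point of the zero locus of a global section of a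
locally Noetherian scheme has a local ring of dimension at most one. -/
theorem ringKrullDim_stalk_le_one_of_max_zeroLocus [IsLocallyNoetherian X] (g : Γ(X, ⊤)) (ξ : X)
    (hξ : ξ ∈ X.zeroLocus ({g} : Set Γ(X, ⊤)))
    (hmax : ∀ z ∈ X.zeroLocus ({g} : Set Γ(X, ⊤)), z ⤳ ξ → z = ξ) :
    ringKrullDim (X.presheaf.stalk ξ) ≤ 1 := by
  obtain ⟨U, hU, hξU⟩ := exists_affineOpen_mem X ξ
  haveI : IsNoetherianRing Γ(X, U) := IsLocallyNoetherian.component_noetherian ⟨U, hU⟩
  have hmem : ∀ z : U, (z : X) ∈ X.zeroLocus ({g} : Set Γ(X, ⊤)) ↔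
      (X.presheaf.map (homOfLE (le_top : U ≤ ⊤)).op).hom g ∈ (hU.primeIdealOf z).asIdeal := by
    intro z
    rw [Scheme.mem_zeroLocus_iff]
    simp only [Set.mem_singleton_iff, forall_eq]
    rw [← not_iff_not, not_not,
      ← mem_basicOpen_iff_notMem_primeIdealOf hU z
        ((X.presheaf.map (homOfLE (le_top : U ≤ ⊤)).op).hom g),
      Scheme.basicOpen_res]
    exact ⟨fun h => ⟨z.2, h⟩, fun h => h.2⟩
  rw [ringKrullDim_stalk_eq_height' U hU ⟨ξ, hξU⟩]
  have hmin : (hU.primeIdealOf ⟨ξ, hξU⟩).asIdeal ∈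
      (Ideal.span {(X.presheaf.map (homOfLE (le_top : U ≤ ⊤)).op).hom g}).minimalPrimes := by
    refine ⟨⟨(hU.primeIdealOf _).2, ?_⟩, ?_⟩
    · rw [Ideal.span_singleton_le_iff_mem]
      exact (hmem ⟨ξ, hξU⟩).mp hξ
    · rintro P ⟨hP, hPa⟩ hPle
      obtain ⟨y, hy⟩ := exists_primeIdealOf_eq hU ⟨P, hP⟩
      have h1 : (y : X) ⤳ ξ :=
        (primeIdealOf_le_iff hU y ⟨ξ, hξU⟩).mp (by rw [hy]; exact hPle)
      have h2 : (y : X) ∈ X.zeroLocus ({g} : Set Γ(X, ⊤)) :=
        (hmem y).mpr (by rw [hy]; exact (Ideal.span_singleton_le_iff_mem _).mp hPa)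
      have h3 := hmax _ h2 h1
      have h4 : y = ⟨ξ, hξU⟩ := Subtype.ext h3
      rw [← h4, hy]
  have h5 := Ideal.height_le_one_of_isPrincipal_of_mem_minimalPrimes
    (Ideal.span {(X.presheaf.map (homOfLE (le_top : U ≤ ⊤)).op).hom g}) _ hmin
  rw [PrimeSpectrum.height_eq_orderHeight] at h5
  exact_mod_cast h5

end K

section Main

variable {X Y : Scheme.{u}} (f : X ⟶ Y) [LocallyOfFiniteType f]

/-- EGA IV 13.3.9, for a closed subset `T` all of whose maximal points have codimension at most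
one and which contains no maximal point of the fibre through `x`. -/
theorem hyp_main [IrreducibleSpace Y] [IsLocallyNoetherian Y] (x : X)
    (hf : EGA43.IsEquidimAt f x) (T : TopologicalSpace.Closeds X) (hxT : x ∈ T)
    (hK : ∀ ξ ∈ T, (∀ z ∈ T, z ⤳ ξ → z = ξ) → ringKrullDim (X.presheaf.stalk ξ) ≤ 1)
    (hmax : ∀ z ∈ T, f z = f x → ∃ z' : X, f z' = f x ∧ z' ⤳ z ∧ z' ≠ z) :
    (∀ w : ↥(Scheme.IdealSheafData.vanishingIdeal T).subscheme,
      (Scheme.IdealSheafData.vanishingIdeal T).subschemeι w = x →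
        EGA43.IsEquidimAt ((Scheme.IdealSheafData.vanishingIdeal T).subschemeι ≫ f) w) ∧
    (∀ w : ↥(Scheme.IdealSheafData.vanishingIdeal T).subscheme,
      (Scheme.IdealSheafData.vanishingIdeal T).subschemeι w = x →
        FlatMor.fibreDimAt ((Scheme.IdealSheafData.vanishingIdeal T).subschemeι ≫ f) w + 1 =
          FlatMor.fibreDimAt f x) ∧
    (∀ ξ ∈ T, (∀ z ∈ T, z ⤳ ξ → z = ξ) → ξ ⤳ x → ringKrullDim (X.presheaf.stalk ξ) = 1) := by
  haveI : IsLocallyNoetherian X := LocallyOfFiniteType.isLocallyNoetherian f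
  have hrange : Set.range (Scheme.IdealSheafData.vanishingIdeal T).subschemeι = (T : Set X) := by
    rw [Scheme.IdealSheafData.range_subschemeι]
    exact Scheme.IdealSheafData.coe_support_vanishingIdeal _
  haveI : IsLocallyNoetherian (Scheme.IdealSheafData.vanishingIdeal T).subscheme :=
    LocallyOfFiniteType.isLocallyNoetherian (Scheme.IdealSheafData.vanishingIdeal T).subschemeι
  obtain ⟨e, he, -⟩ := exists_e_of_isEquidimAt f x hf
  have hmemT : ∀ w : ↥(Scheme.IdealSheafData.vanishingIdeal T).subscheme,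
      (Scheme.IdealSheafData.vanishingIdeal T).subschemeι w ∈ T := by
    intro w
    have : (Scheme.IdealSheafData.vanishingIdeal T).subschemeι w ∈ (T : Set X) := by
      rw [← hrange]; exact ⟨w, rfl⟩
    exact this
  -- F2
  have F2 : ∀ z ∈ T, f z = f x → z ⤳ x → trn f z + ((1 : ℕ) : ℕ∞) ≤ (e : ℕ∞) := by
    intro z hzT hz hzx
    obtain ⟨z', hz'1, hz'2, hz'3⟩ := hmax z hzT hz
    have h1 := trn_lt_of_specializes f z z' (hz'1.trans hz.symm) hz'2 hz'3
    have h2 := trn_le_fibreDimAt_of_specializes f x z' hz'1 (hz'2.trans hzx)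
    rw [he] at h2
    have h3 : trn f z' ≤ e := by exact_mod_cast h2
    obtain ⟨t, ht⟩ := exists_trn_eq f z
    obtain ⟨t', ht'⟩ := exists_trn_eq f z'
    rw [ht] at h1 ⊢
    rw [ht'] at h1 h3
    have a1 : t < t' := by exact_mod_cast h1
    have a2 : t' ≤ e := by exact_mod_cast h3
    have a3 : t + 1 ≤ e := by omega
    exact_mod_cast a3
  -- core
  have core : ∀ ξ ∈ T, (∀ z ∈ T, z ⤳ ξ → z = ξ) → ξ ⤳ x →
      ringKrullDim (X.presheaf.stalk ξ) = 1 ∧ trn f ξ + ((1 : ℕ) : ℕ∞) = (e : ℕ∞) ∧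
        IsMaxPt (f ξ) := by
    intro ξ hξT hξmax hξx
    have := numeric' f x hf ξ hξx 1 e he (by exact_mod_cast hK ξ hξT hξmax)
      (fun z hξz hzx hz => F2 z (hξz.mem_closed T.isClosed hξT) hz hzx)
    exact ⟨by exact_mod_cast this.1, this.2.1, this.2.2⟩
  -- e = e' + 1
  obtain ⟨e', rfl⟩ : ∃ e' : ℕ, e = e' + 1 := by
    have h1 := F2 x hxT rfl specializes_rfl
    obtain ⟨t, ht⟩ := exists_trn_eq f x
    rw [ht] at h1
    have a1 : t + 1 ≤ e := by exact_mod_cast h1
    exact ⟨e - 1, by omega⟩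
  -- maximal points of the subscheme
  have hmaxT : ∀ ξ' : ↥(Scheme.IdealSheafData.vanishingIdeal T).subscheme, IsMaxPt ξ' →
      ∀ z ∈ T, z ⤳ (Scheme.IdealSheafData.vanishingIdeal T).subschemeι ξ' →
        z = (Scheme.IdealSheafData.vanishingIdeal T).subschemeι ξ' := by
    intro ξ' hξ' z hzT hz
    have hz' : z ∈ Set.range (Scheme.IdealSheafData.vanishingIdeal T).subschemeι := by
      rw [hrange]; exact hzT
    obtain ⟨z', rfl⟩ := hz'
    have h1 : z' ⤳ ξ' :=
      (Scheme.IdealSheafData.vanishingIdeal T).subschemeι.isEmbedding.isInducing.specializes_iff.mp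
        hz
    rw [hξ' z' h1]
  -- trn at maximal points of the subscheme specializing to a point over x
  have trnmax : ∀ (w : ↥(Scheme.IdealSheafData.vanishingIdeal T).subscheme),
      (Scheme.IdealSheafData.vanishingIdeal T).subschemeι w = x →
      ∀ ξ' : ↥(Scheme.IdealSheafData.vanishingIdeal T).subscheme, IsMaxPt ξ' → ξ' ⤳ w →
        trn ((Scheme.IdealSheafData.vanishingIdeal T).subschemeι ≫ f) ξ' = (e' : ℕ∞) ∧
        IsMaxPt (((Scheme.IdealSheafData.vanishingIdeal T).subschemeι ≫ f) ξ') := by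
    intro w hw ξ' hξ' hsp
    have hsp' : (Scheme.IdealSheafData.vanishingIdeal T).subschemeι ξ' ⤳ x := by
      rw [← hw]
      exact hsp.map (Scheme.IdealSheafData.vanishingIdeal T).subschemeι.continuous
    obtain ⟨c1, c2, c3⟩ := core _ (hmemT ξ') (hmaxT ξ' hξ') hsp'
    refine ⟨?_, c3⟩
    rw [trn_comp_preimmersion]
    obtain ⟨t, ht⟩ := exists_trn_eq f ((Scheme.IdealSheafData.vanishingIdeal T).subschemeι ξ')
    rw [ht] at c2 ⊢
    have : t + 1 = e' + 1 := by exact_mod_cast c2
    have : t = e' := by omega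
    exact_mod_cast this
  -- the fibre dimension of the subscheme
  have hfd : ∀ (w : ↥(Scheme.IdealSheafData.vanishingIdeal T).subscheme),
      (Scheme.IdealSheafData.vanishingIdeal T).subschemeι w = x →
      FlatMor.fibreDimAt ((Scheme.IdealSheafData.vanishingIdeal T).subschemeι ≫ f) w =
        (e' : WithBot ℕ∞) := by
    intro w hw
    apply le_antisymm
    · rw [fibreDimAt_le_iff]
      intro z hz hzw
      rw [trn_comp_preimmersion]
      have hzx : (Scheme.IdealSheafData.vanishingIdeal T).subschemeι z ⤳ x := by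
        rw [← hw]
        exact hzw.map (Scheme.IdealSheafData.vanishingIdeal T).subschemeι.continuous
      have hfz : f ((Scheme.IdealSheafData.vanishingIdeal T).subschemeι z) = f x := by
        rw [← hw]; exact hz
      have h1 := F2 _ (hmemT z) hfz hzx
      obtain ⟨t, ht⟩ := exists_trn_eq f ((Scheme.IdealSheafData.vanishingIdeal T).subschemeι z)
      rw [ht] at h1 ⊢
      have : t + 1 ≤ e' + 1 := by exact_mod_cast h1
      have : t ≤ e' := by omega
      exact_mod_cast this
    · obtain ⟨ξ', hξ'max, hξ'sp⟩ := exists_isMaxPt_specializes w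
      obtain ⟨h1, -⟩ := trnmax w hw ξ' hξ'max hξ'sp
      obtain ⟨z, hz1, hz2, hz3, hz4⟩ := exists_between_trn_le
        ((Scheme.IdealSheafData.vanishingIdeal T).subschemeι ≫ f) w ξ' hξ'sp
      have h2 := trn_le_fibreDimAt_of_specializes
        ((Scheme.IdealSheafData.vanishingIdeal T).subschemeι ≫ f) w z hz1 hz3
      rw [h1] at hz4
      refine le_trans ?_ h2
      exact_mod_cast hz4
  refine ⟨?_, ?_, fun ξ hξT hξmax hξx => (core ξ hξT hξmax hξx).1⟩
  · intro w hw
    obtain ⟨O, hO, hwO, hOmax⟩ := Groth.Agent.S6460.exists_open_maxPts_specialize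
      (Scheme.IdealSheafData.vanishingIdeal T).subscheme w
    obtain ⟨V, hV⟩ : ∃ V : (Scheme.IdealSheafData.vanishingIdeal T).subscheme.Opens,
        (V : Set ↥(Scheme.IdealSheafData.vanishingIdeal T).subscheme) =
          {w' | FlatMor.fibreDimAt ((Scheme.IdealSheafData.vanishingIdeal T).subschemeι ≫ f) w' ≤
            (e' : WithBot ℕ∞)} ∩ O :=
      ⟨⟨{w' | FlatMor.fibreDimAt ((Scheme.IdealSheafData.vanishingIdeal T).subschemeι ≫ f) w' ≤
            (e' : WithBot ℕ∞)} ∩ O,
        (Groth.Agent.Lib.Helper12.Chevalley.isOpen_setOf_fibreDimAt_le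
          ((Scheme.IdealSheafData.vanishingIdeal T).subschemeι ≫ f) e').inter hO⟩, rfl⟩
    have hVmem : ∀ w' : ↥(Scheme.IdealSheafData.vanishingIdeal T).subscheme, w' ∈ V ↔
        FlatMor.fibreDimAt ((Scheme.IdealSheafData.vanishingIdeal T).subschemeι ≫ f) w' ≤
          (e' : WithBot ℕ∞) ∧ w' ∈ O := by
      intro w'
      have : w' ∈ V ↔ w' ∈ (V : Set ↥(Scheme.IdealSheafData.vanishingIdeal T).subscheme) :=
        Iff.rfl
      rw [this, hV]
      rfl
    -- maximal points of V
    have hVmax : ∀ η : V, IsMaxPt (X := V.toScheme) η → IsMaxPt (V.ι η) ∧ V.ι η ⤳ w := by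
      intro η hη
      have h1 : IsMaxPt (V.ι η) := by
        intro z hz
        have hzV : z ∈ V := hz.mem_open V.2 η.2
        have h2 : (⟨z, hzV⟩ : V) ⤳ η := V.ι.isEmbedding.isInducing.specializes_iff.mp hz
        have h3 := hη ⟨z, hzV⟩ h2
        exact congrArg Subtype.val h3
      exact ⟨h1, hOmax _ ((hVmem _).mp η.2).2 h1⟩
    have hYuniv : ∀ y : Y, IsMaxPt y → closure ({y} : Set Y) = Set.univ := by
      intro y hy
      have h1 : genericPoint Y = y := hy _ (genericPoint_specializes y)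
      rw [← h1]; exact (genericPoint_spec Y).def
    refine ⟨e', V, (hVmem w).mpr ⟨(hfd w hw).le, hwO⟩, ?_, ?_⟩
    · intro Z hZ
      refine ⟨Set.univ, ?_, trivial, ?_⟩
      · rw [irreducibleComponents_eq_singleton]; rfl
      · obtain ⟨η, hη, rfl⟩ := (mem_irreducibleComponents_iff (X := V.toScheme) Z).mp hZ
        obtain ⟨h1, h2⟩ := hVmax η hη
        obtain ⟨-, h3⟩ := trnmax w hw (V.ι η) h1 h2
        apply le_antisymm (Set.subset_univ _)
        rw [← hYuniv _ h3]
        apply closure_mono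
        rw [Set.singleton_subset_iff]
        exact ⟨η, subset_closure rfl, rfl⟩
    · intro w' Z hZ
      obtain ⟨z, hz1, hz2, hz3⟩ := exists_of_mem_irreducibleComponents_fiber
        (V.ι ≫ (Scheme.IdealSheafData.vanishingIdeal T).subschemeι ≫ f) _ Z hZ
      rw [hz3, trn_comp_openImmersion V.ι
        ((Scheme.IdealSheafData.vanishingIdeal T).subschemeι ≫ f) z]
      have hle : trn ((Scheme.IdealSheafData.vanishingIdeal T).subschemeι ≫ f) (V.ι z) ≤
          (e' : ℕ∞) := by
        have h1 := trn_le_fibreDimAt_of_specializes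
          ((Scheme.IdealSheafData.vanishingIdeal T).subschemeι ≫ f) (V.ι z) (V.ι z) rfl
          specializes_rfl
        have h2 := ((hVmem _).mp z.2).1
        exact_mod_cast h1.trans h2
      have hge : (e' : ℕ∞) ≤
          trn ((Scheme.IdealSheafData.vanishingIdeal T).subschemeι ≫ f) (V.ι z) := by
        obtain ⟨ξ', hξ'max, hξ'sp⟩ := exists_isMaxPt_specializes (V.ι z)
        have hξ'V : ξ' ∈ V := hξ'sp.mem_open V.2 z.2
        have hξ'w : ξ' ⤳ w := hOmax ξ' ((hVmem _).mp hξ'V).2 hξ'max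
        obtain ⟨h1, -⟩ := trnmax w hw ξ' hξ'max hξ'w
        obtain ⟨z₂, hz₂1, hz₂2, hz₂3, hz₂4⟩ := exists_between_trn_le
          ((Scheme.IdealSheafData.vanishingIdeal T).subschemeι ≫ f) (V.ι z) ξ' hξ'sp
        have hz₂V : z₂ ∈ V := hz₂3.mem_open V.2 z.2
        have h5 : (⟨z₂, hz₂V⟩ : V) = z := by
          apply hz2
          · exact hz₂1.trans hz1
          · exact V.ι.isEmbedding.isInducing.specializes_iff.mp hz₂3
        rw [h1] at hz₂4
        rw [← h5]
        exact hz₂4
      rw [le_antisymm hle hge]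
      rfl
  · intro w hw
    rw [hfd w hw, he]
    norm_cast

end Main

end Groth.Agent.Lib.Helper12.EquidimHyp
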