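import Mathlib
import Groth.Prelude.Def_Found
import Groth.Prelude.Def_EGA43
import Groth.Agent.Lib.Helper12.EquidimHyp

/-!
# Helper library (helper12): pointwise characterization of equidimensional morphisms over an
irreducible base, restriction to opens, morphisms with zero-dimensional fibres
-/

set_option autoImplicit false
universe u v
open Polynomial Cardinal AlgebraicGeometry CategoryTheory

namespace Groth.Agent.Lib.Helper12.EquidimPt

open Groth.Agent.Lib.Helper12.OrdTools Groth.Agent.Lib.Helper12.DimIneq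
open Groth.Agent.Lib.Helper12 Groth.Agent.Lib.Helper12.SchemeDimFT
open Groth.Agent.Lib.Helper12.ChevalleyCor Groth.Agent.Lib.Helper12.SchemeDimIneq
open Groth.Agent.Lib.Helper14 Order Groth.Agent.Lib.Helper12.Equidim
open Groth.Agent.Lib.Helper12.ClosedSub Groth.Agent.Lib.Helper12.JacDim
open Groth.Agent.Lib.Helper12.FibreMax Groth.Agent.Lib.Helper12.EquidimSub
open Groth.Agent.Lib.Helper12.EquidimHyp

section E

variable {X Y : Scheme.{u}} (f : X ⟶ Y) [LocallyOfFiniteType f]

theorem closure_eq_univ_of_isMaxPt [IrreducibleSpace Y] (y : Y) (hy : IsMaxPt y) :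
    closure ({y} : Set Y) = Set.univ := by
  have h1 : genericPoint Y = y := hy _ (genericPoint_specializes y)
  rw [← h1]; exact (genericPoint_spec Y).def

theorem isMaxPt_of_openImmersion {W : Scheme.{u}} (j : W ⟶ X) [IsOpenImmersion j] (ξ : W)
    (hξ : IsMaxPt ξ) : IsMaxPt (j ξ) := by
  intro z hz
  have hzr : z ∈ Set.range j := hz.mem_open j.isOpenEmbedding.isOpen_range ⟨ξ, rfl⟩
  obtain ⟨z', rfl⟩ := hzr
  have h2 : z' ⤳ ξ := j.isEmbedding.isInducing.specializes_iff.mp hz
  rw [hξ z' h2]

/-- Pointwise characterization of equidimensionality over an irreducible base. -/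
theorem isEquidimAt_iff_pointwise [IrreducibleSpace Y] (x : X) :
    EGA43.IsEquidimAt f x ↔ ∃ (e : ℕ) (U : X.Opens), x ∈ U ∧
      (∀ ξ ∈ U, IsMaxPt ξ → IsMaxPt (f ξ)) ∧
      (∀ z ∈ U, (∀ z' : X, f z' = f z → z' ⤳ z → z' = z) → trn f z = (e : ℕ∞)) := by
  constructor
  · rintro ⟨e, U, hxU, hcomp, hfib⟩
    refine ⟨e, U, hxU, ?_, ?_⟩
    · intro ξ hξU hξ
      have h1 : EGA43.IsEquidimAt f ξ := by
        refine ⟨e, U, hξU, ?_, hfib⟩
        intro Z hZ
        obtain ⟨W, hW, -, h⟩ := hcomp Z hZ
        refine ⟨W, hW, ?_, h⟩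
        rw [irreducibleComponents_eq_singleton] at hW
        rw [Set.mem_singleton_iff.mp hW]
        trivial
      exact isMaxPt_apply_of_isEquidimAt f ξ h1 ξ hξ specializes_rfl
    · intro z hzU hmax
      exact trn_eq_of_fibre_max f U e hfib z hzU hmax
  · rintro ⟨e, U, hxU, h1, h2⟩
    refine ⟨e, U, hxU, ?_, ?_⟩
    · intro Z hZ
      refine ⟨Set.univ, ?_, trivial, ?_⟩
      · rw [irreducibleComponents_eq_singleton]; rfl
      · obtain ⟨η, hη, rfl⟩ := (mem_irreducibleComponents_iff (X := U.toScheme) Z).mp hZ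
        have h3 : IsMaxPt (U.ι η) := isMaxPt_of_openImmersion U.ι η hη
        have h4 := h1 (U.ι η) η.2 h3
        apply le_antisymm (Set.subset_univ _)
        rw [← closure_eq_univ_of_isMaxPt _ h4]
        apply closure_mono
        rw [Set.singleton_subset_iff]
        exact ⟨η, subset_closure rfl, rfl⟩
    · intro x' Z hZ
      obtain ⟨z, hz1, hz2, hz3⟩ := exists_of_mem_irreducibleComponents_fiber (U.ι ≫ f) _ Z hZ
      rw [hz3, trn_comp_openImmersion U.ι f z]
      have h5 : trn f (U.ι z) = (e : ℕ∞) := by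
        apply h2 (U.ι z) z.2
        intro z' hz' hsp
        have hz'U : z' ∈ U := hsp.mem_open U.2 z.2
        have h6 : (⟨z', hz'U⟩ : U) = z := by
          apply hz2
          · exact hz'.trans hz1
          · exact U.ι.isEmbedding.isInducing.specializes_iff.mp hsp
        rw [← h6]
        rfl
      rw [h5]
      rfl

/-- Equidimensionality restricts along open immersions. -/
theorem isEquidimAt_comp_openImmersion [IrreducibleSpace Y] {W : Scheme.{u}} (j : W ⟶ X)
    [IsOpenImmersion j] (w : W) (h : EGA43.IsEquidimAt f (j w)) :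
    EGA43.IsEquidimAt (j ≫ f) w := by
  rw [isEquidimAt_iff_pointwise] at h ⊢
  obtain ⟨e, U, hxU, h1, h2⟩ := h
  refine ⟨e, j ⁻¹ᵁ U, hxU, ?_, ?_⟩
  · intro ξ hξU hξ
    exact h1 (j ξ) hξU (isMaxPt_of_openImmersion j ξ hξ)
  · intro z hzU hmax
    rw [trn_comp_openImmersion j f z]
    apply h2 (j z) hzU
    intro z' hz' hsp
    have hzr : z' ∈ Set.range j := hsp.mem_open j.isOpenEmbedding.isOpen_range ⟨z, rfl⟩
    obtain ⟨z'', rfl⟩ := hzr
    have h3 : z'' ⤳ z := j.isEmbedding.isInducing.specializes_iff.mp hsp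
    rw [hmax z'' hz' h3]

end E

section D

variable {X Y : Scheme.{u}} (f : X ⟶ Y) [LocallyOfFiniteType f]

/-- A morphism locally of finite type all of whose fibres have dimension `≤ 0` is locally
quasi-finite. -/
theorem locallyQuasiFinite_of_fibreDimAt_le_zero (h : ∀ x : X, FlatMor.fibreDimAt f x ≤ 0) :
    LocallyQuasiFinite f := by
  rw [locallyQuasiFinite_iff_isDiscrete_preimage_singleton]
  intro y
  letI ovF : (f.fiber y).Over (Spec (CommRingCat.of (Y.residueField y))) :=
    ⟨f.fiberToSpecResidueField y⟩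
  haveI : LocallyOfFiniteType ((f.fiber y) ↘ Spec (CommRingCat.of (Y.residueField y))) :=
    FibreRes.locallyOfFiniteType_fiberToSpecResidueField f y
  haveI : IsLocallyNoetherian (f.fiber y) :=
    LocallyOfFiniteType.isLocallyNoetherian ((f.fiber y) ↘ Spec (CommRingCat.of (Y.residueField y)))
  have h1 : topologicalKrullDim (f.fiber y) ≤ 0 :=
    (dim_fiber_le_iff f y 0).mpr (fun x _ => h x)
  haveI : IsLocallyArtinian (f.fiber y) := IsLocallyArtinian.of_topologicalKrullDim_le_zero h1
  haveI : DiscreteTopology (f.fiber y) := inferInstance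
  rw [isDiscrete_iff_discreteTopology]
  exact (f.fiberHomeo y).symm.isEmbedding.discreteTopology

/-- A point closed in its fibre has residue field algebraic over that of its image. -/
theorem trn_eq_zero_of_closed_in_fibre (x : X)
    (hcl : ∀ x' : X, f x' = f x → x ⤳ x' → x' = x) : trn f x = 0 := by
  letI ovF : (f.fiber (f x)).Over (Spec (CommRingCat.of (Y.residueField (f x)))) :=
    ⟨f.fiberToSpecResidueField (f x)⟩
  haveI : LocallyOfFiniteType
      ((f.fiber (f x)) ↘ Spec (CommRingCat.of (Y.residueField (f x)))) :=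
    FibreRes.locallyOfFiniteType_fiberToSpecResidueField f (f x)
  have hcl' : IsClosed ({f.asFiber x} : Set (f.fiber (f x))) := by
    rw [← closure_eq_iff_isClosed]
    apply le_antisymm _ subset_closure
    intro w hw
    have h1 : f.asFiber x ⤳ w := specializes_iff_mem_closure.mpr hw
    have h2 := h1.map (f.fiberι (f x)).continuous
    rw [f.fiberι_asFiber x] at h2
    have h3 := hcl _ (apply_fiberι f (f x) w) h2
    exact (f.fiberι (f x)).isEmbedding.injective (h3.trans (f.fiberι_asFiber x).symm)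
  rw [trn_eq_tr f x, tr_eq_zero_of_isClosed _ _ _ hcl']
  rfl

end D

end Groth.Agent.Lib.Helper12.EquidimPt
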