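import Mathlib
import Groth.Prelude.Def_Found
import Groth.Prelude.Def_EGA43
import Groth.Agent.Lib.Helper12.EquidimPt
import Groth.Agent.Lib.Helper6.OpenDimSch

/-!
# Helper library (helper12): pointwise characterization of equidimensionality (general base),
and equidimensionality from openness at the maximal points of the fibre
-/

set_option autoImplicit false
universe u v
open Polynomial Cardinal AlgebraicGeometry CategoryTheory TopologicalSpace

namespace Groth.Agent.Lib.Helper12.EquidimOpen

open Groth.Agent.Lib.Helper12.OrdTools Groth.Agent.Lib.Helper12.DimIneq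
open Groth.Agent.Lib.Helper12 Groth.Agent.Lib.Helper12.SchemeDimFT
open Groth.Agent.Lib.Helper12.ChevalleyCor Groth.Agent.Lib.Helper12.SchemeDimIneq
open Groth.Agent.Lib.Helper14 Order Groth.Agent.Lib.Helper12.Equidim
open Groth.Agent.Lib.Helper12.ClosedSub Groth.Agent.Lib.Helper12.JacDim
open Groth.Agent.Lib.Helper12.FibreMax Groth.Agent.Lib.Helper12.EquidimSub
open Groth.Agent.Lib.Helper12.EquidimHyp Groth.Agent.Lib.Helper12.EquidimPt

section E'

variable {X Y : Scheme.{u}} (f : X ⟶ Y) [LocallyOfFiniteType f]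

omit [LocallyOfFiniteType f] in
theorem closure_image_closure_singleton (U : X.Opens) (η : ↥(U : Scheme.{u})) :
    closure ((U.ι ≫ f).base '' closure ({η} : Set ↥(U : Scheme.{u}))) =
      closure {f (U.ι η)} := by
  apply le_antisymm
  · apply closure_minimal _ isClosed_closure
    refine (image_closure_subset_closure_image (U.ι ≫ f).continuous).trans ?_
    rw [Set.image_singleton]
    rfl
  · apply closure_mono
    rw [Set.singleton_subset_iff]
    exact ⟨η, subset_closure rfl, rfl⟩

/-- Pointwise characterization of equidimensionality. -/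
theorem isEquidimAt_iff_pointwise' (x : X) :
    EGA43.IsEquidimAt f x ↔ ∃ (e : ℕ) (U : X.Opens), x ∈ U ∧
      (∀ ξ ∈ U, IsMaxPt ξ → IsMaxPt (f ξ) ∧ f ξ ⤳ f x) ∧
      (∀ z ∈ U, (∀ z' : X, f z' = f z → z' ⤳ z → z' = z) → trn f z = (e : ℕ∞)) := by
  constructor
  · rintro ⟨e, U, hxU, hcomp, hfib⟩
    refine ⟨e, U, hxU, ?_, ?_⟩
    · intro ξ hξU hξ
      have hZ : closure ({⟨ξ, hξU⟩} : Set U) ∈ irreducibleComponents (↥U : Type u) :=
        (mem_irreducibleComponents_iff (X := U.toScheme) _).mpr
          ⟨⟨ξ, hξU⟩, isMaxPt_opens U ξ hξU hξ, rfl⟩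
      obtain ⟨W, hW, hxW, hWeq⟩ := hcomp _ hZ
      have h1 : closure ((U.ι ≫ f).base '' closure ({⟨ξ, hξU⟩} : Set U)) = closure {f ξ} := by
        apply le_antisymm
        · apply closure_minimal _ isClosed_closure
          refine (image_closure_subset_closure_image (U.ι ≫ f).continuous).trans ?_
          rw [Set.image_singleton]
          rfl
        · apply closure_mono
          rw [Set.singleton_subset_iff]
          exact ⟨⟨ξ, hξU⟩, subset_closure rfl, rfl⟩
      rw [h1] at hWeq
      rw [← hWeq] at hW hxW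
      exact ⟨(closure_singleton_mem_irreducibleComponents_iff (f ξ)).mp hW,
        specializes_iff_mem_closure.mpr hxW⟩
    · intro z hzU hmax
      exact trn_eq_of_fibre_max f U e hfib z hzU hmax
  · rintro ⟨e, U, hxU, h1, h2⟩
    refine ⟨e, U, hxU, ?_, ?_⟩
    · intro Z hZ
      obtain ⟨η, hη, rfl⟩ := (mem_irreducibleComponents_iff (X := U.toScheme) Z).mp hZ
      have h3 : IsMaxPt (U.ι η) := isMaxPt_of_openImmersion U.ι η hη
      obtain ⟨h4, h5⟩ := h1 (U.ι η) η.2 h3
      refine ⟨closure {f (U.ι η)}, ?_, ?_, ?_⟩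
      · exact (closure_singleton_mem_irreducibleComponents_iff _).mpr h4
      · exact specializes_iff_mem_closure.mp h5
      · exact closure_image_closure_singleton f U η
    · intro x' Z hZ
      obtain ⟨z, hz1, hz2, hz3⟩ := exists_of_mem_irreducibleComponents_fiber (U.ι ≫ f) _ Z hZ
      rw [hz3, trn_comp_openImmersion U.ι f z]
      have h5 : trn f (U.ι z) = (e : ℕ∞) := by
        apply h2 (U.ι z) z.2
        intro z' hz' hsp
        have hz'U : z' ∈ U := hsp.mem_open U.2 z.2
        have h6 : (⟨z', hz'U⟩ : U) = z := by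
          apply hz2
          · exact hz'.trans hz1
          · exact U.ι.isEmbedding.isInducing.specializes_iff.mp hsp
        rw [← h6]
        rfl
      rw [h5]
      rfl

/-- Every point has a generization in its fibre which is maximal in the fibre. -/
theorem exists_max_generization_in_fibre (z' : X) :
    ∃ z : X, f z = f z' ∧ z ⤳ z' ∧ ∀ z'' : X, f z'' = f z → z'' ⤳ z → z'' = z := by
  obtain ⟨ζ, hζmax, hζsp⟩ := exists_isMaxPt_specializes (f.asFiber z')
  have hz : f (f.fiberι (f z') ζ) = f z' := apply_fiberι f (f z') ζ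
  refine ⟨f.fiberι (f z') ζ, hz, ?_, ?_⟩
  · have := hζsp.map (f.fiberι (f z')).continuous
    rwa [f.fiberι_asFiber z'] at this
  · intro z'' hz'' hsp
    have hz''' : f z'' = f z' := hz''.trans hz
    have hζ' : f.fiberι (f z') ((f.fiberHomeo (f z')).symm ⟨z'', hz'''⟩) = z'' :=
      f.fiberι_fiberHomeo_symm (f z') ⟨z'', hz'''⟩
    have h1 : (f.fiberHomeo (f z')).symm ⟨z'', hz'''⟩ ⤳ ζ := by
      apply (f.fiberι (f z')).isEmbedding.isInducing.specializes_iff.mp
      rw [hζ']; exact hsp
    rw [← hζ', hζmax _ h1]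

theorem trn_le_of_specializes_fibre (z z' : X) (hz : f z' = f z) (hsp : z' ⤳ z) :
    trn f z ≤ trn f z' := by
  by_cases h : z' = z
  · rw [h]
  · exact (trn_lt_of_specializes f z z' hz hsp h).le

/-- If the transcendence degrees of the maximal points of the fibre through `x` which generize `x`
are at most `e`, then so is the fibre dimension at `x`. -/
theorem fibreDimAt_le_of_max (x : X) (e : ℕ)
    (h : ∀ z : X, f z = f x → z ⤳ x → (∀ z'' : X, f z'' = f z → z'' ⤳ z → z'' = z) →
      trn f z ≤ (e : ℕ∞)) : FlatMor.fibreDimAt f x ≤ (e : WithBot ℕ∞) := by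
  rw [fibreDimAt_le_iff]
  intro z' hz' hz'x
  obtain ⟨z, hz1, hz2, hz3⟩ := exists_max_generization_in_fibre f z'
  exact (trn_le_of_specializes_fibre f z' z hz1 hz2).trans
    (h z (hz1.trans hz') (hz2.trans hz'x) hz3)

end E'

section Open

variable {X Y : Scheme.{u}} (f : X ⟶ Y) [LocallyOfFiniteType f]

theorem irreducibleSpace_of_isDominant [IrreducibleSpace X] [IsDominant f] :
    IrreducibleSpace Y := by
  rw [irreducibleSpace_def]
  have h1 : IsIrreducible (f.base '' Set.univ) :=
    (IrreducibleSpace.isIrreducible_univ X).image f.base f.continuous.continuousOn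
  have h2 := h1.closure
  rw [Set.image_univ, f.denseRange.closure_range] at h2
  exact h2

/-- EGA IV 14.2-type: a dominant morphism from an irreducible scheme which is open at the maximal
points of the fibre through `x` generizing `x` is equidimensional at `x`. -/
theorem isEquidimAt_of_isOpenAt_irreducible [IsLocallyNoetherian Y] [IrreducibleSpace X]
    [IsDominant f] (x : X)
    (h : ∀ z : X, f z = f x → z ⤳ x → (∀ z' : X, f z' = f z → z' ⤳ z → z' = z) →
      EGA43.IsOpenAt f.base z) : EGA43.IsEquidimAt f x := by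
  haveI : IsLocallyNoetherian X := LocallyOfFiniteType.isLocallyNoetherian f
  haveI : IrreducibleSpace Y := irreducibleSpace_of_isDominant f
  have hgen : f (genericPoint X) = genericPoint Y := map_genericPoint f
  obtain ⟨e, he⟩ := exists_trn_eq f (genericPoint X)
  have hge : ∀ z : X, (∀ z' : X, f z' = f z → z' ⤳ z → z' = z) → (e : ℕ∞) ≤ trn f z := by
    intro z hzmax
    obtain ⟨z₂, hz₂1, hz₂2, hz₂3, hz₂4⟩ := exists_between_trn_le f z (genericPoint X)
      (genericPoint_specializes z)
    rw [hzmax z₂ hz₂1 hz₂3, he] at hz₂4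
    exact hz₂4
  have key : ∀ z : X, f z = f x → z ⤳ x → (∀ z' : X, f z' = f z → z' ⤳ z → z' = z) →
      trn f z ≤ (e : ℕ∞) := by
    intro z hz hzx hzmax
    have h1 := dim_stalk_add_trn_le f z
    have h2 := dim_generic_fiber_eq_trn f
    rw [dim_fiber_congr f hgen, he] at h2
    rw [h2] at h1
    have h3 := Groth.Agent.Lib.Helper6.OpenDim.ringKrullDim_stalk_le_of_isOpenAt f z
      (h z hz hzx hzmax) (fun z' hsp hz' => hzmax z' hz' hsp)
    obtain ⟨a, ha⟩ := exists_nat_ringKrullDim_stalk X z
    obtain ⟨b, hb⟩ := exists_nat_ringKrullDim_stalk Y (f z)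
    obtain ⟨t, ht⟩ := exists_trn_eq f z
    rw [ha, hb, ht] at h1
    rw [ha, hb] at h3
    rw [ht]
    have a1 : a + t ≤ b + e := by exact_mod_cast h1
    have a2 : b ≤ a := by exact_mod_cast h3
    have a3 : t ≤ e := by omega
    exact_mod_cast a3
  have hfd : FlatMor.fibreDimAt f x ≤ (e : WithBot ℕ∞) := fibreDimAt_le_of_max f x e key
  rw [isEquidimAt_iff_pointwise]
  refine ⟨e, ⟨{z | FlatMor.fibreDimAt f z ≤ (e : WithBot ℕ∞)},
    Groth.Agent.Lib.Helper12.Chevalley.isOpen_setOf_fibreDimAt_le f e⟩, hfd, ?_, ?_⟩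
  · intro ξ _ hξ
    have : ξ = genericPoint X := (hξ _ (genericPoint_specializes ξ)).symm
    rw [this, hgen]
    intro y hy
    exact (hy.antisymm (genericPoint_specializes y)).eq
  · intro z hzU hzmax
    apply le_antisymm _ (hge z hzmax)
    have h1 := trn_le_fibreDimAt_of_specializes f z z rfl specializes_rfl
    have h2 : FlatMor.fibreDimAt f z ≤ (e : WithBot ℕ∞) := hzU
    exact_mod_cast h1.trans h2

end Open

end Groth.Agent.Lib.Helper12.EquidimOpen
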