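import Mathlib
import Groth.Prelude.Def_Found
import Groth.Prelude.Def_EGA43
import Groth.Prelude.Def_EGA4b
import Groth.Agent.Lib.Helper12.EquidimOpen

/-!
# Helper library (helper12): equidimensionality from the dimension formula and equidimensional
local rings (EGA IV 13.3.6 converse), and from openness at the maximal points of the fibre
-/

set_option autoImplicit false
universe u v
open Polynomial Cardinal AlgebraicGeometry CategoryTheory TopologicalSpace

namespace Groth.Agent.Lib.Helper12.EquidimOpen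

open Groth.Agent.Lib.Helper12.OrdTools Groth.Agent.Lib.Helper12.DimIneq
open Groth.Agent.Lib.Helper12 Groth.Agent.Lib.Helper12.SchemeDimFT
open Groth.Agent.Lib.Helper12.ChevalleyCor Groth.Agent.Lib.Helper12.SchemeDimIneq
open Groth.Agent.Lib.Helper14 Order Groth.Agent.Lib.Helper12.Equidim
open Groth.Agent.Lib.Helper12.ClosedSub Groth.Agent.Lib.Helper12.JacDim
open Groth.Agent.Lib.Helper12.FibreMax Groth.Agent.Lib.Helper12.EquidimSub
open Groth.Agent.Lib.Helper12.EquidimHyp Groth.Agent.Lib.Helper12.EquidimPt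

section Conv

variable {X Y : Scheme.{u}} (f : X ⟶ Y) [LocallyOfFiniteType f]

/-- If `O_{X,x}` is equidimensional and the dimension formula holds at `x`, then `f` is
equidimensional at `x`. -/
theorem isEquidimAt_of_dim_formula [IsLocallyNoetherian Y] (x : X)
    (hX : EGA4.IsEquidim (X.presheaf.stalk x))
    (h : ringKrullDim (X.presheaf.stalk x) =
        ringKrullDim (Y.presheaf.stalk (f.base x)) +
          ringKrullDim ((f.fiber (f.base x)).presheaf.stalk (f.asFiber x))) :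
    EGA43.IsEquidimAt f x := by
  haveI : IsLocallyNoetherian X := LocallyOfFiniteType.isLocallyNoetherian f
  letI ovF : (f.fiber (f x)).Over (Spec (CommRingCat.of (Y.residueField (f x)))) :=
    ⟨f.fiberToSpecResidueField (f x)⟩
  haveI : LocallyOfFiniteType
      ((f.fiber (f x)) ↘ Spec (CommRingCat.of (Y.residueField (f x)))) :=
    FibreRes.locallyOfFiniteType_fiberToSpecResidueField f (f x)
  obtain ⟨dB, hdB⟩ := exists_nat_ringKrullDim_stalk X x
  obtain ⟨dA, hdA⟩ := exists_nat_ringKrullDim_stalk Y (f x)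
  obtain ⟨dBk, hdBk⟩ := exists_ringKrullDim_stalk_eq (Y.residueField (f x)) (f.fiber (f x))
    (f.asFiber x)
  obtain ⟨t, ht⟩ := exists_trn_eq f x
  rw [hdB, hdA, hdBk] at h
  have h' : dB = dA + dBk := by exact_mod_cast h
  have hfd : FlatMor.fibreDimAt f x = ((t + dBk : ℕ) : WithBot ℕ∞) := by
    rw [fibreDimAt_eq_trn_add f x, hdBk, ht]
    push_cast
    rfl
  -- maximal points generizing x
  have core : ∀ ξ : X, IsMaxPt ξ → ξ ⤳ x →
      IsMaxPt (f ξ) ∧ trn f ξ = ((t + dBk : ℕ) : ℕ∞) := by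
    intro ξ hξ hξx
    obtain ⟨𝔭, rfl⟩ := exists_fromSpecStalk_eq x ξ hξx
    have hmin := mem_minimalPrimes_of_isMaxPt x 𝔭 hξ
    have h1 := hX _ hmin
    rw [ringKrullDim_quotient_stalk_eq x 𝔭, hdB] at h1
    have h2 := scheme_dimIneq f x _ hξx
    rw [h1, ht] at h2
    obtain ⟨z, hz1, hz2, hz3, hz4⟩ := exists_between_trn_le f x _ hξx
    have h3 := trn_le_fibreDimAt_of_specializes f x z hz1 hz3
    rw [hfd] at h3
    obtain ⟨te, hte⟩ := exists_trn_eq f ((X.fromSpecStalk x) 𝔭)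
    obtain ⟨tz, htz⟩ := exists_trn_eq f z
    rw [hte, htz] at hz4
    rw [htz] at h3
    rw [hte] at h2 ⊢
    have a1 : te ≤ tz := by exact_mod_cast hz4
    have a2 : tz ≤ t + dBk := by exact_mod_cast h3
    have h4 := coheight_add_krullDim_Icc_le (a := f x) (b := f ((X.fromSpecStalk x) 𝔭))
      (hξx.map f.continuous)
    rw [← ringKrullDim_stalk_eq_coheight (f x), hdA] at h4
    obtain ⟨c, hc⟩ := exists_nat_krullDim_Icc (a := f x) (b := f ((X.fromSpecStalk x) 𝔭))
      (hξx.map f.continuous)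
    rw [hc] at h2 h4
    have a3 : dB + t ≤ c + te := by exact_mod_cast h2
    have hco : Order.coheight (f ((X.fromSpecStalk x) 𝔭)) = 0 := by
      by_contra hne
      have h7 : ((1 : ℕ) : ℕ∞) ≤ Order.coheight (f ((X.fromSpecStalk x) 𝔭)) := by
        have := Order.one_le_iff_pos.mpr (pos_iff_ne_zero.mpr hne)
        exact_mod_cast this
      have h8 : (((1 : ℕ) : ℕ∞) : WithBot ℕ∞) + (c : WithBot ℕ∞) ≤ (dA : WithBot ℕ∞) :=
        le_trans (add_le_add_left (WithBot.coe_le_coe.mpr h7) _) h4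
      have h9 : 1 + c ≤ dA := by exact_mod_cast h8
      omega
    have a4 : c ≤ dA := by
      have h0 : (0 : WithBot ℕ∞) ≤
          ((Order.coheight (f ((X.fromSpecStalk x) 𝔭)) : ℕ∞) : WithBot ℕ∞) :=
        WithBot.coe_le_coe.mpr zero_le
      have h8 : (c : WithBot ℕ∞) ≤ (dA : WithBot ℕ∞) := by
        refine le_trans ?_ h4
        calc (c : WithBot ℕ∞) = 0 + (c : WithBot ℕ∞) := (zero_add _).symm
          _ ≤ _ := add_le_add_left h0 _
      exact_mod_cast h8
    refine ⟨isMaxPt_of_coheight_eq_zero _ hco, ?_⟩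
    have : te = t + dBk := by omega
    exact_mod_cast this
  obtain ⟨O, hO, hxO, hOmax⟩ := Groth.Agent.S6460.exists_open_maxPts_specialize X x
  rw [isEquidimAt_iff_pointwise']
  refine ⟨t + dBk, ⟨{z | FlatMor.fibreDimAt f z ≤ ((t + dBk : ℕ) : WithBot ℕ∞)} ∩ O,
    (Groth.Agent.Lib.Helper12.Chevalley.isOpen_setOf_fibreDimAt_le f (t + dBk)).inter hO⟩,
    ⟨hfd.le, hxO⟩, ?_, ?_⟩
  · intro ξ hξU hξ
    have hξx : ξ ⤳ x := hOmax ξ hξU.2 hξ
    exact ⟨(core ξ hξ hξx).1, hξx.map f.continuous⟩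
  · intro z hzU hzmax
    apply le_antisymm
    · have h1 := trn_le_fibreDimAt_of_specializes f z z rfl specializes_rfl
      have h2 : FlatMor.fibreDimAt f z ≤ ((t + dBk : ℕ) : WithBot ℕ∞) := hzU.1
      exact_mod_cast h1.trans h2
    · obtain ⟨ξ, hξmax, hξz⟩ := exists_isMaxPt_specializes z
      have hξO : ξ ∈ O := hξz.mem_open hO hzU.2
      have hξx : ξ ⤳ x := hOmax ξ hξO hξmax
      obtain ⟨z₂, hz₂1, hz₂2, hz₂3, hz₂4⟩ := exists_between_trn_le f z ξ hξz
      rw [hzmax z₂ hz₂1 hz₂3, (core ξ hξmax hξx).2] at hz₂4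
      exact hz₂4

/-- The dimension formula at `x` follows from openness at the maximal points of the fibre. -/
theorem dim_formula_of_isOpenAt [IsLocallyNoetherian Y] (x : X)
    (h : ∀ z : X, f z = f x → z ⤳ x → (∀ z' : X, f z' = f z → z' ⤳ z → z' = z) →
      EGA43.IsOpenAt f.base z) :
    ringKrullDim (X.presheaf.stalk x) =
        ringKrullDim (Y.presheaf.stalk (f.base x)) +
          ringKrullDim ((f.fiber (f.base x)).presheaf.stalk (f.asFiber x)) := by
  haveI : IsLocallyNoetherian X := LocallyOfFiniteType.isLocallyNoetherian f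
  letI ovF : (f.fiber (f x)).Over (Spec (CommRingCat.of (Y.residueField (f x)))) :=
    ⟨f.fiberToSpecResidueField (f x)⟩
  haveI : LocallyOfFiniteType
      ((f.fiber (f x)) ↘ Spec (CommRingCat.of (Y.residueField (f x)))) :=
    FibreRes.locallyOfFiniteType_fiberToSpecResidueField f (f x)
  apply le_antisymm (Groth.Agent.Lib.Helper6.OpenDim.ringKrullDim_stalk_le_add_fiber f x)
  obtain ⟨dB, hdB⟩ := exists_nat_ringKrullDim_stalk X x
  obtain ⟨dA, hdA⟩ := exists_nat_ringKrullDim_stalk Y (f x)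
  obtain ⟨dBk, hdBk⟩ := exists_ringKrullDim_stalk_eq (Y.residueField (f x)) (f.fiber (f x))
    (f.asFiber x)
  obtain ⟨t, ht⟩ := exists_trn_eq f x
  have hfd : FlatMor.fibreDimAt f x = ((t + dBk : ℕ) : WithBot ℕ∞) := by
    rw [fibreDimAt_eq_trn_add f x, hdBk, ht]
    push_cast
    rfl
  obtain ⟨z, hz1, hz2, hz3⟩ := exists_generization_trn_eq_fibreDimAt f x
  obtain ⟨tz, htz⟩ := exists_trn_eq f z
  rw [hfd, htz] at hz3
  have a1 : t + dBk ≤ tz := by exact_mod_cast hz3
  have hzmax : ∀ z' : X, f z' = f z → z' ⤳ z → z' = z := by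
    intro z' hz' hsp
    by_contra hne
    have h1 := trn_lt_of_specializes f z z' hz' hsp hne
    have h2 := trn_le_fibreDimAt_of_specializes f x z' (hz'.trans hz1) (hsp.trans hz2)
    rw [hfd] at h2
    obtain ⟨tz', htz'⟩ := exists_trn_eq f z'
    rw [htz, htz'] at h1
    rw [htz'] at h2
    have b1 : tz < tz' := by exact_mod_cast h1
    have b2 : tz' ≤ t + dBk := by exact_mod_cast h2
    omega
  have h4 := Groth.Agent.Lib.Helper6.OpenDim.ringKrullDim_stalk_le_of_isOpenAt f z
    (h z hz1 hz2 hzmax) (fun z' hsp hz' => hzmax z' hz' hsp)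
  have h5 := sub_le_krullDim_Icc f x z hz1 hz2 tz t htz ht
  have h6 := coheight_add_krullDim_Icc_le (a := x) (b := z) hz2
  rw [← ringKrullDim_stalk_eq_coheight x, ← ringKrullDim_stalk_eq_coheight z, hdB] at h6
  obtain ⟨dZ, hdZ⟩ := exists_nat_ringKrullDim_stalk X z
  have hfz : ringKrullDim (Y.presheaf.stalk (f.base z)) = (dA : WithBot ℕ∞) := by
    rw [← hdA]
    have : f.base z = f.base x := hz1
    rw [this]
  rw [hdZ, hfz] at h4
  rw [hdZ] at h6
  obtain ⟨c, hc⟩ := exists_nat_krullDim_Icc (a := x) (b := z) hz2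
  rw [hc] at h5 h6
  obtain ⟨d, hd⟩ : ∃ d : ℕ, d = tz - t := ⟨_, rfl⟩
  rw [← hd] at h5
  have c1 : dA ≤ dZ := by exact_mod_cast h4
  have c2 : d ≤ c := by exact_mod_cast h5
  have c3 : dZ + c ≤ dB := by exact_mod_cast h6
  rw [hdA, hdBk, hdB]
  have : dA + dBk ≤ dB := by omega
  exact_mod_cast this

end Conv

end Groth.Agent.Lib.Helper12.EquidimOpen
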