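import Mathlib
import Groth.Prelude.Def_Found
import Groth.Agent.Lib.Helper12.FibreMax
import Groth.Agent.Lib.Helper9.TopDim

/-!
# Helper library (helper12): dimensions of locally closed subsets via chains of points
-/

set_option autoImplicit false
universe u v
open Polynomial Cardinal AlgebraicGeometry CategoryTheory

namespace Groth.Agent.Lib.Helper12.ClosedDim

open Groth.Agent.Lib.Helper12.OrdTools Groth.Agent.Lib.Helper12.DimIneq
open Groth.Agent.Lib.Helper12 Groth.Agent.Lib.Helper12.SchemeDimFT
open Groth.Agent.Lib.Helper12.ChevalleyCor Groth.Agent.Lib.Helper12.SchemeDimIneq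
open Groth.Agent.Lib.Helper14 Order Groth.Agent.Lib.Helper12.Equidim
open Groth.Agent.Lib.Helper12.ClosedSub Groth.Agent.Lib.Helper12.JacDim

section Closed

variable {X : Scheme.{u}}

/-- The dimension of a locally closed subset of a scheme is the Krull dimension of its
specialization order (induced from the scheme). -/
theorem topologicalKrullDim_eq_krullDim_of_isLocallyClosed (T : Set X) (hT : IsLocallyClosed T) :
    topologicalKrullDim ↥T = Order.krullDim ↥T := by
  haveI : QuasiSober ↥T := quasiSober_of_isLocallyClosed hT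
  let e0 : @OrderIso (TopologicalSpace.IrreducibleCloseds ↥T) ↥T _ (specializationOrder ↥T).toLE :=
    @irreducibleSetEquivPoints ↥T _ _ _
  let e : TopologicalSpace.IrreducibleCloseds ↥T ≃o ↥T :=
    { toEquiv := e0.toEquiv
      map_rel_iff' := by
        intro a b
        have h1 := e0.map_rel_iff (a := a) (b := b)
        refine Iff.trans ?_ h1
        exact (subtype_specializes_iff (e0 b) (e0 a)).symm }
  exact Order.krullDim_eq_of_orderIso e

/-- Upper bound for the dimension of a locally closed subset by chains of points. -/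
theorem topologicalKrullDim_le_of_forall_series (T : Set X) (hT : IsLocallyClosed T)
    (C : WithBot ℕ∞)
    (h : ∀ l : LTSeries X, (∀ i, l i ∈ T) → (l.length : WithBot ℕ∞) ≤ C) :
    topologicalKrullDim ↥T ≤ C := by
  rw [topologicalKrullDim_eq_krullDim_of_isLocallyClosed T hT]
  unfold Order.krullDim
  refine iSup_le fun p => ?_
  have := h (p.map (fun t : ↥T => (t : X)) (fun _ _ hab => hab)) (fun i => (p i).2)
  exact this

/-- Lower bound for the dimension of a locally closed subset by intervals contained in it. -/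
theorem krullDim_Icc_le_topologicalKrullDim (T : Set X) (hT : IsLocallyClosed T) (a b : X)
    (hab : Set.Icc a b ⊆ T) : Order.krullDim (Set.Icc a b) ≤ topologicalKrullDim ↥T := by
  rw [topologicalKrullDim_eq_krullDim_of_isLocallyClosed T hT]
  exact Order.krullDim_le_of_strictMono
    (fun z : Set.Icc a b => (⟨z.1, hab z.2⟩ : ↥T)) (fun _ _ hzw => hzw)

end Closed

section Isolated

variable {X Y : Scheme.{u}} (π : X ⟶ Y) [LocallyOfFiniteType π]

/-- A point isolated in its fibre has residue field algebraic over that of its image. -/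
theorem trn_eq_zero_of_isolated (x : X) (U : X.Opens) (hxU : x ∈ U)
    (hU : ∀ x' ∈ U, π x' = π x → x' = x) : trn π x = 0 := by
  letI ovF : (π.fiber (π x)).Over (Spec (CommRingCat.of (Y.residueField (π x)))) :=
    ⟨π.fiberToSpecResidueField (π x)⟩
  haveI : LocallyOfFiniteType
      ((π.fiber (π x)) ↘ Spec (CommRingCat.of (Y.residueField (π x)))) :=
    FibreRes.locallyOfFiniteType_fiberToSpecResidueField π (π x)
  have hO : IsOpen ({π.asFiber x} : Set (π.fiber (π x))) := by
    have : ({π.asFiber x} : Set (π.fiber (π x))) = (π.fiberι (π x)).base ⁻¹' (U : Set X) := by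
      ext z
      simp only [Set.mem_singleton_iff, Set.mem_preimage, SetLike.mem_coe]
      constructor
      · rintro rfl
        rw [π.fiberι_asFiber x]; exact hxU
      · intro hz
        have h3 : π (π.fiberι (π x) z) = π x := by
          have h3 : π.fiberι (π x) z ∈ Set.range (π.fiberι (π x)) := ⟨z, rfl⟩
          rw [Scheme.Hom.range_fiberι] at h3
          exact h3
        have h4 := hU _ hz h3
        exact (π.fiberι (π x)).isEmbedding.injective (h4.trans (π.fiberι_asFiber x).symm)
    rw [this]
    exact U.2.preimage (π.fiberι (π x)).continuous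
  obtain ⟨w, hw, hwc⟩ := exists_isClosed_mem_of_isLocallyClosed (Y.residueField (π x))
    (π.fiber (π x)) {π.asFiber x} hO.isLocallyClosed ⟨_, rfl⟩
  rw [Set.mem_singleton_iff] at hw
  subst hw
  rw [trn_eq_tr π x, tr_eq_zero_of_isClosed _ _ _ hwc]
  rfl

end Isolated

section Pure

variable {X Y : Scheme.{u}}

theorem topologicalKrullDim_eq_of_pure [Nonempty Y] (d : WithBot ℕ∞)
    (hY : ∀ Z ∈ irreducibleComponents ↥Y, topologicalKrullDim ↥Z = d) :
    topologicalKrullDim ↥Y = d := by
  rw [Groth.Agent.Lib.Helper9.topologicalKrullDim_eq_iSup_irreducibleComponents]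
  apply le_antisymm
  · exact iSup₂_le fun Z hZ => le_of_eq (hY Z hZ)
  · obtain ⟨y⟩ := ‹Nonempty Y›
    have h1 := irreducibleComponent_mem_irreducibleComponents y
    rw [← hY _ h1]
    exact le_iSup₂ (f := fun Z (_ : Z ∈ irreducibleComponents ↥Y) => topologicalKrullDim ↥Z)
      (irreducibleComponent y) h1

/-- A proper morphism between locally Noetherian schemes of pure dimension `d` with a point
isolated in its fibre has image of full dimension. -/
theorem dim_range_eq_of_isolated [IsLocallyNoetherian X] [IsLocallyNoetherian Y]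
    (π : X ⟶ Y) [LocallyOfFiniteType π] (hπ : IsClosedMap π.base)
    (d : WithBot ℕ∞) (hX : ∀ Z ∈ irreducibleComponents ↥X, topologicalKrullDim ↥Z = d)
    (hY : ∀ Z ∈ irreducibleComponents ↥Y, topologicalKrullDim ↥Z = d)
    (x : ↥X) (hx : ∃ U : X.Opens, x ∈ U ∧ ∀ x' ∈ U, π x' = π x → x' = x) :
    topologicalKrullDim ↥(Set.range (fun z : ↥X => π z)) = topologicalKrullDim ↥Y := by
  apply le_antisymm (topologicalKrullDim_subspace_le Y _)
  haveI : Nonempty Y := ⟨π x⟩
  rw [topologicalKrullDim_eq_of_pure d hY]
  obtain ⟨U, hxU, hU⟩ := hx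
  obtain ⟨ξ, hξ1, hξx⟩ := exists_maximal_generization x
  have hclosed : IsClosed (Set.range (fun z : ↥X => π z)) := hπ.isClosed_range
  -- `trn π ξ = 0`
  have htrn : trn π ξ = 0 := by
    obtain ⟨z, hz, hξz, hzx, hle⟩ := exists_between_trn_le π x ξ hξx
    have hzU : z ∈ U := hzx.mem_open U.2 hxU
    have hzx' : z = x := hU z hzU hz
    rw [hzx', trn_eq_zero_of_isolated π x U hxU hU] at hle
    exact le_antisymm hle bot_le
  rw [← hX _ hξ1]
  refine topologicalKrullDim_le_of_forall_series _ isClosed_closure.isLocallyClosed _ ?_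
  intro l hl
  have hlast : l.last ≤ ξ := specializes_iff_mem_closure.mpr (hl _)
  have h1 := length_le_krullDim_Icc' l ξ hlast
  have h2 := scheme_dimIneq π l.head ξ (hlast.trans' l.head_le_last)
  rw [htrn] at h2
  have h2' : krullDim (Set.Icc l.head ξ) + ((trn π l.head : ℕ∞) : WithBot ℕ∞) ≤
      krullDim (Set.Icc (π l.head) (π ξ)) := by
    have e0 : (((0 : ℕ∞) : ℕ∞) : WithBot ℕ∞) = 0 := rfl
    rw [e0, add_zero] at h2
    exact h2
  have h3 : (l.length : WithBot ℕ∞) ≤ krullDim (Set.Icc (π l.head) (π ξ)) := by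
    have h0 : (0 : WithBot ℕ∞) ≤ ((trn π l.head : ℕ∞) : WithBot ℕ∞) :=
      WithBot.coe_le_coe.mpr bot_le
    have h5 : krullDim (Set.Icc l.head ξ) ≤
        krullDim (Set.Icc l.head ξ) + ((trn π l.head : ℕ∞) : WithBot ℕ∞) := by
      calc krullDim (Set.Icc l.head ξ) = krullDim (Set.Icc l.head ξ) + 0 := (add_zero _).symm
        _ ≤ _ := add_le_add_right h0 _
    exact h1.trans (h5.trans h2')
  refine h3.trans ?_
  apply krullDim_Icc_le_topologicalKrullDim _ hclosed.isLocallyClosed
  intro y hy
  have h4 : π ξ ⤳ y := hy.2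
  have h5 : y ∈ closure (Set.range (fun z : ↥X => π z)) :=
    closure_mono (Set.singleton_subset_iff.mpr (Set.mem_range_self ξ))
      (specializes_iff_mem_closure.mp h4)
  rwa [hclosed.closure_eq] at h5

end Pure

end Groth.Agent.Lib.Helper12.ClosedDim
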