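import Mathlib
import Groth.Prelude.Def_Found
import Groth.Prelude.Def_EGA43
import Groth.Agent.Lib.Helper12.EquidimPt
import Groth.Agent.Lib.Helper12.ClosedDim
import Groth.Agent.Lib.Helper7.RedLib

/-!
# Helper library (helper12): the dimension of the local ring of a closed irreducible subscheme
versus base and fibre (EGA IV 14.2-type criterion with four conditions)
-/

set_option autoImplicit false
universe u v
open Polynomial Cardinal AlgebraicGeometry CategoryTheory TopologicalSpace

namespace Groth.Agent.Lib.Helper12.FourCond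

open Groth.Agent.Lib.Helper12.OrdTools Groth.Agent.Lib.Helper12.DimIneq
open Groth.Agent.Lib.Helper12 Groth.Agent.Lib.Helper12.SchemeDimFT
open Groth.Agent.Lib.Helper12.ChevalleyCor Groth.Agent.Lib.Helper12.SchemeDimIneq
open Groth.Agent.Lib.Helper14 Order Groth.Agent.Lib.Helper12.Equidim
open Groth.Agent.Lib.Helper12.ClosedSub Groth.Agent.Lib.Helper12.JacDim
open Groth.Agent.Lib.Helper12.FibreMax Groth.Agent.Lib.Helper12.EquidimSub
open Groth.Agent.Lib.Helper12.EquidimHyp Groth.Agent.Lib.Helper12.EquidimPt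

section FibGen

variable {X Y : Scheme.{u}} (f : X ⟶ Y)

/-- The generizations of `x` in its fibre. -/
abbrev fibGen (x : X) : Type u := {z : X // f z = f x ∧ z ⤳ x}

theorem strictMono_of_isEmbedding {Z : Scheme.{u}} (j : Z ⟶ X)
    (hj : Topology.IsEmbedding j.base) : StrictMono (fun z : Z => j z) := by
  intro a b hab
  have h1 : b ⤳ a := hab.1
  have h2 : ¬ a ⤳ b := hab.2
  refine ⟨h1.map j.continuous, fun h3 => h2 ?_⟩
  exact hj.isInducing.specializes_iff.mp h3

theorem apply_fiberι'' (y : Y) (ζ : f.fiber y) : f (f.fiberι y ζ) = y := by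
  have h3 : f.fiberι y ζ ∈ Set.range (f.fiberι y) := ⟨ζ, rfl⟩
  rw [Scheme.Hom.range_fiberι] at h3
  exact h3

/-- The dimension of the local ring of the fibre is the dimension of the set of generizations
in the fibre. -/
theorem ringKrullDim_fiber_stalk_eq (x : X) :
    ringKrullDim ((f.fiber (f x)).presheaf.stalk (f.asFiber x)) = Order.krullDim (fibGen f x) := by
  rw [ringKrullDim_stalk_eq_coheight, Order.coheight_eq_krullDim_Ici]
  apply le_antisymm
  · refine Order.krullDim_le_of_strictMono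
      (fun b : Set.Ici (f.asFiber x) => (⟨f.fiberι (f x) b.1, apply_fiberι'' f (f x) b.1, ?_⟩ :
        fibGen f x)) ?_
    · have h1 : b.1 ⤳ f.asFiber x := b.2
      have h2 := h1.map (f.fiberι (f x)).continuous
      rwa [f.fiberι_asFiber x] at h2
    · intro a b hab
      exact fiberι_strictMono f (f x) hab
  · refine Order.krullDim_le_of_strictMono
      (fun z : fibGen f x => (⟨(f.fiberHomeo (f x)).symm ⟨z.1, z.2.1⟩, ?_⟩ :
        Set.Ici (f.asFiber x))) ?_
    · show (f.fiberHomeo (f x)).symm ⟨z.1, z.2.1⟩ ⤳ f.asFiber x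
      apply (f.fiberι (f x)).isEmbedding.isInducing.specializes_iff.mp
      rw [f.fiberι_fiberHomeo_symm (f x) ⟨z.1, z.2.1⟩, f.fiberι_asFiber x]
      exact z.2.2
    · intro a b hab
      have h1 : b.1 ⤳ a.1 := hab.1
      have h2 : ¬ a.1 ⤳ b.1 := hab.2
      refine ⟨?_, fun h3 => h2 ?_⟩
      · show (f.fiberHomeo (f x)).symm ⟨b.1, b.2.1⟩ ⤳ (f.fiberHomeo (f x)).symm ⟨a.1, a.2.1⟩
        apply (f.fiberι (f x)).isEmbedding.isInducing.specializes_iff.mp
        rw [f.fiberι_fiberHomeo_symm (f x) ⟨b.1, b.2.1⟩,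
          f.fiberι_fiberHomeo_symm (f x) ⟨a.1, a.2.1⟩]
        exact h1
      · have h4 : (f.fiberHomeo (f x)).symm ⟨a.1, a.2.1⟩ ⤳
            (f.fiberHomeo (f x)).symm ⟨b.1, b.2.1⟩ := h3
        have h5 := h4.map (f.fiberι (f x)).continuous
        rwa [f.fiberι_fiberHomeo_symm (f x) ⟨b.1, b.2.1⟩,
          f.fiberι_fiberHomeo_symm (f x) ⟨a.1, a.2.1⟩] at h5

/-- Precomposing with an embedding can only decrease the dimension of the generizations in the
fibre. -/
theorem krullDim_fibGen_comp_le {Z : Scheme.{u}} (j : Z ⟶ X)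
    (hj : Topology.IsEmbedding j.base) (w : Z) :
    Order.krullDim (fibGen (j ≫ f) w) ≤ Order.krullDim (fibGen f (j w)) := by
  refine Order.krullDim_le_of_strictMono
    (fun z : fibGen (j ≫ f) w => (⟨j z.1, z.2.1, z.2.2.map j.continuous⟩ : fibGen f (j w))) ?_
  intro a b hab
  exact strictMono_of_isEmbedding j hj hab

/-- Postcomposing with an injective map does not change the generizations in the fibre. -/
theorem krullDim_fibGen_comp_injective {Y' : Scheme.{u}} (g' : X ⟶ Y') (i : Y' ⟶ Y)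
    (hi : Function.Injective i.base) (w : X) :
    Order.krullDim (fibGen (g' ≫ i) w) = Order.krullDim (fibGen g' w) := by
  apply le_antisymm
  · refine Order.krullDim_le_of_strictMono
      (fun z : fibGen (g' ≫ i) w => (⟨z.1, hi z.2.1, z.2.2⟩ : fibGen g' w)) ?_
    intro a b hab
    exact hab
  · refine Order.krullDim_le_of_strictMono
      (fun z : fibGen g' w => (⟨z.1, congrArg (fun y => i y) z.2.1, z.2.2⟩ :
        fibGen (g' ≫ i) w)) ?_
    intro a b hab
    exact hab

end FibGen

section Top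

variable {Z X Y : Scheme.{u}} (ι : Z ⟶ X) (f : X ⟶ Y)

/-- The dimension of the trace of a fibre of `f` on the range of an embedding `ι` is the
dimension of the fibre of `ι ≫ f`. -/
theorem topologicalKrullDim_inter_fibre_eq (hι : Topology.IsEmbedding ι.base) (T : Set X)
    (hT : Set.range ι.base = T) (η : Y) :
    topologicalKrullDim ↥(T ∩ f.base ⁻¹' {η}) = topologicalKrullDim ((ι ≫ f).fiber η) := by
  have hφ : Topology.IsEmbedding
      (fun z : ((ι ≫ f).base ⁻¹' {η}) => ι.base z.1) :=
    hι.comp Topology.IsEmbedding.subtypeVal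
  have hrange : Set.range (fun z : ((ι ≫ f).base ⁻¹' {η}) => ι.base z.1) =
      T ∩ f.base ⁻¹' {η} := by
    ext p
    constructor
    · rintro ⟨z, rfl⟩
      exact ⟨hT ▸ ⟨z.1, rfl⟩, z.2⟩
    · rintro ⟨hp1, hp2⟩
      rw [← hT] at hp1
      obtain ⟨z0, rfl⟩ := hp1
      exact ⟨⟨z0, hp2⟩, rfl⟩
  have h1 := IsHomeomorph.topologicalKrullDim_eq _
    (hφ.toHomeomorph.trans (Homeomorph.setCongr hrange)).isHomeomorph
  have h2 := IsHomeomorph.topologicalKrullDim_eq _ ((ι ≫ f).fiberHomeo η).isHomeomorph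
  rw [h2, h1]

end Top

section Main

variable {X Y : Scheme.{u}}

/-- The arithmetic core. -/
theorem arith (dA dA' dBp dBk dBpk : WithBot ℕ∞) (t e' : ℕ) (fd : WithBot ℕ∞)
    (hA : ∃ n : ℕ, dA = n) (hBk : ∃ n : ℕ, dBk = n)
    (hA' : ∃ n : ℕ, dA' = n) (hBpk : ∃ n : ℕ, dBpk = n) (hBp : ∃ n : ℕ, dBp = n)
    (I1 : dA' ≤ dA) (I2 : dBpk ≤ dBk) (I3 : dBp ≤ dA' + dBpk)
    (I4 : dBp + (t : WithBot ℕ∞) ≤ dA' + (e' : WithBot ℕ∞))
    (I5 : (e' : WithBot ℕ∞) ≤ fd) (hfd : fd = (t : WithBot ℕ∞) + dBpk) :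
    dBp = dA + dBk ↔ (dA' = dA ∧ dBpk = dBk ∧ fd = (e' : WithBot ℕ∞) ∧ dBp = dA' + dBpk) := by
  obtain ⟨a, rfl⟩ := hA
  obtain ⟨bk, rfl⟩ := hBk
  obtain ⟨a', rfl⟩ := hA'
  obtain ⟨bpk, rfl⟩ := hBpk
  obtain ⟨bp, rfl⟩ := hBp
  subst hfd
  have i1 : a' ≤ a := by exact_mod_cast I1
  have i2 : bpk ≤ bk := by exact_mod_cast I2
  have i3 : bp ≤ a' + bpk := by exact_mod_cast I3
  have i4 : bp + t ≤ a' + e' := by exact_mod_cast I4
  have i5 : e' ≤ t + bpk := by exact_mod_cast I5
  constructor
  · intro h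
    have h' : bp = a + bk := by exact_mod_cast h
    have e1 : a' = a := by omega
    have e2 : bpk = bk := by omega
    have e3 : t + bpk = e' := by omega
    have e4 : bp = a' + bpk := by omega
    refine ⟨by exact_mod_cast e1, by exact_mod_cast e2, by exact_mod_cast e3,
      by exact_mod_cast e4⟩
  · rintro ⟨h1, h2, -, h4⟩
    have e1 : a' = a := by exact_mod_cast h1
    have e2 : bpk = bk := by exact_mod_cast h2
    have e4 : bp = a' + bpk := by exact_mod_cast h4
    have : bp = a + bk := by omega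
    exact_mod_cast this

theorem exists_nat_of_le_nat (a : WithBot ℕ∞) (n : ℕ) (h0 : 0 ≤ a) (h : a ≤ n) :
    ∃ m : ℕ, a = m := by
  rcases ProductDim.withBot_enat_cases a with h1 | h1 | ⟨m, h1⟩
  · rw [h1] at h0; simp at h0
  · rw [h1] at h; exact absurd (top_le_iff.mp h) (nat_ne_top' n)
  · exact ⟨m, h1⟩

theorem four_conditions [IsLocallyNoetherian Y] (f : X ⟶ Y) [LocallyOfFiniteType f] (x : X)
    (X' : Closeds X) (hirr : IsIrreducible (X' : Set X))
    (w : ↥(Scheme.IdealSheafData.vanishingIdeal X').subscheme)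
    (hw : (Scheme.IdealSheafData.vanishingIdeal X').subschemeι w = x)
    (C : Closeds Y) (hC : (C : Set Y) = closure (f.base '' (X' : Set X)))
    (v : ↥(Scheme.IdealSheafData.vanishingIdeal C).subscheme)
    (hv : (Scheme.IdealSheafData.vanishingIdeal C).subschemeι v = f x)
    (η' : Y) (hη' : closure ({η'} : Set Y) = closure (f.base '' (X' : Set X))) :
    (ringKrullDim ((Scheme.IdealSheafData.vanishingIdeal X').subscheme.presheaf.stalk w) =
        ringKrullDim (Y.presheaf.stalk (f.base x)) +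
          ringKrullDim ((f.fiber (f.base x)).presheaf.stalk (f.asFiber x)) ↔
      (ringKrullDim ((Scheme.IdealSheafData.vanishingIdeal C).subscheme.presheaf.stalk v) =
          ringKrullDim (Y.presheaf.stalk (f.base x)) ∧
        ringKrullDim ((((Scheme.IdealSheafData.vanishingIdeal X').subschemeι ≫ f).fiber
          (((Scheme.IdealSheafData.vanishingIdeal X').subschemeι ≫ f).base w)).presheaf.stalk
            (((Scheme.IdealSheafData.vanishingIdeal X').subschemeι ≫ f).asFiber w)) =
          ringKrullDim ((f.fiber (f.base x)).presheaf.stalk (f.asFiber x)) ∧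
        FlatMor.fibreDimAt ((Scheme.IdealSheafData.vanishingIdeal X').subschemeι ≫ f) w =
          topologicalKrullDim ↥((X' : Set X) ∩ f.base ⁻¹' {η'}) ∧
        ringKrullDim ((Scheme.IdealSheafData.vanishingIdeal X').subscheme.presheaf.stalk w) =
          ringKrullDim ((Scheme.IdealSheafData.vanishingIdeal C).subscheme.presheaf.stalk v) +
          ringKrullDim ((((Scheme.IdealSheafData.vanishingIdeal X').subschemeι ≫ f).fiber
          (((Scheme.IdealSheafData.vanishingIdeal X').subschemeι ≫ f).base w)).presheaf.stalk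
            (((Scheme.IdealSheafData.vanishingIdeal X').subschemeι ≫ f).asFiber w)))) := by
  haveI : IsLocallyNoetherian X := LocallyOfFiniteType.isLocallyNoetherian f
  obtain ⟨ξ', hξ'⟩ := QuasiSober.sober hirr X'.isClosed
  obtain rfl : X' = ⟨closure {ξ'}, isClosed_closure⟩ := Closeds.ext hξ'.def.symm
  have hfξ : f ξ' = η' := by
    have h1 : closure ({f ξ'} : Set Y) = closure (f.base '' closure {ξ'}) := by
      apply le_antisymm
      · apply closure_mono
        rw [Set.singleton_subset_iff]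
        exact ⟨ξ', subset_closure rfl, rfl⟩
      · apply closure_minimal _ isClosed_closure
        refine (image_closure_subset_closure_image f.continuous).trans ?_
        rw [Set.image_singleton]
    exact (inseparable_iff_closure_eq.mpr (h1.trans hη'.symm)).eq
  obtain rfl : C = ⟨closure {η'}, isClosed_closure⟩ := Closeds.ext (hC.trans hη'.symm)
  subst hw
  -- the factorization
  haveI : IsReduced (clSub X ξ') := Groth.Agent.Lib.Helper7.isReduced_vanishingIdeal_subscheme _
  have hsub : Set.range (clSubι X ξ' ≫ f) ⊆ Set.range (clSubι Y η') := by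
    rintro _ ⟨z, rfl⟩
    rw [range_clSubι, ← hfξ]
    have h1 : ξ' ⤳ clSubι X ξ' z := specializes_clSubι X ξ' z
    exact specializes_iff_mem_closure.mp (h1.map f.continuous)
  obtain ⟨g', hg'⟩ := Groth.Agent.Lib.Helper7.exists_lift_of_isReduced_of_range_subset
    (clSubι X ξ' ≫ f) (clSubι Y η') hsub
  haveI : LocallyOfFiniteType (g' ≫ clSubι Y η') := by rw [hg']; infer_instance
  haveI : LocallyOfFiniteType g' := locallyOfFiniteType_of_comp g' (clSubι Y η')
  haveI : IsLocallyNoetherian (clSub Y η') :=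
    LocallyOfFiniteType.isLocallyNoetherian (clSubι Y η')
  haveI : IsLocallyNoetherian (clSub X ξ') :=
    LocallyOfFiniteType.isLocallyNoetherian (clSubι X ξ')
  have hinjY : Function.Injective (clSubι Y η').base := (clSubι Y η').isEmbedding.injective
  have hg'pt : ∀ z, clSubι Y η' (g' z) = f (clSubι X ξ' z) := by
    intro z
    have : (g' ≫ clSubι Y η') z = (clSubι X ξ' ≫ f) z := by rw [hg']
    exact this
  have hg'w : g' w = v := hinjY ((hg'pt w).trans hv.symm)
  have hg'gp : g' (genericPoint (clSub X ξ')) = genericPoint (clSub Y η') := by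
    apply hinjY
    rw [hg'pt, clSubι_genericPoint, clSubι_genericPoint, hfξ]
  haveI : IsDominant g' := by
    rw [isDominant_iff, DenseRange, dense_iff_closure_eq]
    apply le_antisymm (Set.subset_univ _)
    rw [← (genericPoint_spec (clSub Y η')).def]
    apply closure_mono
    rw [Set.singleton_subset_iff]
    exact ⟨genericPoint _, hg'gp⟩
  -- the quantities
  obtain ⟨t, ht⟩ := exists_trn_eq (clSubι X ξ' ≫ f) w
  obtain ⟨e', he'⟩ := exists_trn_eq f ξ'
  have hgp : trn (clSubι X ξ' ≫ f) (genericPoint (clSub X ξ')) = (e' : ℕ∞) := by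
    rw [trn_comp_preimmersion, clSubι_genericPoint, he']
  have hE : topologicalKrullDim ↥((⟨closure {ξ'}, isClosed_closure⟩ : Closeds X) ∩
      f.base ⁻¹' {η'} : Set X) = (e' : WithBot ℕ∞) := by
    have h1 := topologicalKrullDim_inter_fibre_eq (clSubι X ξ') f (clSubι X ξ').isEmbedding
      (closure {ξ'}) (range_clSubι X ξ') η'
    have h2 := dim_generic_fiber_eq_trn (clSubι X ξ' ≫ f)
    have h3 : (clSubι X ξ' ≫ f) (genericPoint (clSub X ξ')) = η' := by
      show f (clSubι X ξ' (genericPoint _)) = η'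
      rw [clSubι_genericPoint, hfξ]
    rw [dim_fiber_congr (clSubι X ξ' ≫ f) h3, hgp] at h2
    have h4 : topologicalKrullDim ↥((⟨closure {ξ'}, isClosed_closure⟩ : Closeds X) ∩
      f.base ⁻¹' {η'} : Set X) = topologicalKrullDim ↥(closure {ξ'} ∩ f.base ⁻¹' {η'}) := rfl
    rw [h4, h1, h2]
    rfl
  rw [hE]
  -- trn of g' at w
  have htg' : trn g' w = (t : ℕ∞) := by
    have h1 := trn_comp g' (clSubι Y η') w
    have h2 : trn (clSubι Y η') (g' w) = 0 :=
      Groth.Agent.Lib.Helper12.ClosedDim.trn_eq_zero_of_isolated (clSubι Y η') (g' w) ⊤ trivial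
        (fun x' _ hx' => hinjY hx')
    rw [h2, zero_add, hg', ht] at h1
    exact h1.symm
  -- rewrite in terms of fibGen
  have hBk := ringKrullDim_fiber_stalk_eq f (clSubι X ξ' w)
  have hBpk := ringKrullDim_fiber_stalk_eq (clSubι X ξ' ≫ f) w
  have hfd := fibreDimAt_eq_trn_add (clSubι X ξ' ≫ f) w
  rw [ht] at hfd
  -- inequalities
  have I1 : ringKrullDim ((clSub Y η').presheaf.stalk v) ≤
      ringKrullDim (Y.presheaf.stalk (f.base (clSubι X ξ' w))) := by
    rw [ringKrullDim_stalk_eq_coheight, ringKrullDim_stalk_eq_coheight]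
    have h := Order.coheight_le_coheight_apply_of_strictMono _
      (strictMono_of_isEmbedding (clSubι Y η') (clSubι Y η').isEmbedding) v
    simp only [hv] at h
    exact_mod_cast h
  have I2 : ringKrullDim ((((clSubι X ξ' ≫ f).fiber ((clSubι X ξ' ≫ f).base w)).presheaf.stalk
      ((clSubι X ξ' ≫ f).asFiber w))) ≤
      ringKrullDim ((f.fiber (f.base (clSubι X ξ' w))).presheaf.stalk
        (f.asFiber (clSubι X ξ' w))) := by
    rw [hBk, hBpk]
    exact krullDim_fibGen_comp_le f (clSubι X ξ') (clSubι X ξ').isEmbedding w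
  have I3 : ringKrullDim ((clSub X ξ').presheaf.stalk w) ≤
      ringKrullDim ((clSub Y η').presheaf.stalk v) +
      ringKrullDim ((((clSubι X ξ' ≫ f).fiber ((clSubι X ξ' ≫ f).base w)).presheaf.stalk
        ((clSubι X ξ' ≫ f).asFiber w))) := by
    have h := Groth.Agent.Lib.Helper6.OpenDim.ringKrullDim_stalk_le_add_fiber g' w
    rw [ringKrullDim_fiber_stalk_eq g' w, ringKrullDim_stalk_eq_coheight (g'.base w)] at h
    have h5 : Order.krullDim (fibGen (clSubι X ξ' ≫ f) w) = Order.krullDim (fibGen g' w) := by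
      rw [← hg']
      exact krullDim_fibGen_comp_injective g' (clSubι Y η') hinjY w
    rw [hBpk, ringKrullDim_stalk_eq_coheight v, ← hg'w, h5]
    exact h
  have I4 : ringKrullDim ((clSub X ξ').presheaf.stalk w) + (t : WithBot ℕ∞) ≤
      ringKrullDim ((clSub Y η').presheaf.stalk v) + (e' : WithBot ℕ∞) := by
    have h := dim_stalk_add_trn_le g' w
    rw [htg', ringKrullDim_stalk_eq_coheight (g' w), hg'w,
      ← ringKrullDim_stalk_eq_coheight v] at h
    have h2 := dim_generic_fiber_eq_trn g'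
    rw [dim_fiber_congr g' hg'gp] at h2
    have h3 : trn g' (genericPoint (clSub X ξ')) = (e' : ℕ∞) := by
      have h1 := trn_comp g' (clSubι Y η') (genericPoint (clSub X ξ'))
      have h2 : trn (clSubι Y η') (g' (genericPoint (clSub X ξ'))) = 0 :=
        Groth.Agent.Lib.Helper12.ClosedDim.trn_eq_zero_of_isolated (clSubι Y η') _ ⊤ trivial
          (fun x' _ hx' => hinjY hx')
      rw [h2, zero_add, hg', hgp] at h1
      exact h1.symm
    rw [h2, h3] at h
    exact h
  have I5 : (e' : WithBot ℕ∞) ≤ FlatMor.fibreDimAt (clSubι X ξ' ≫ f) w := by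
    have h := dim_generic_fiber_le_fibreDimAt (clSubι X ξ' ≫ f) w
    rw [dim_generic_fiber_eq_trn (clSubι X ξ' ≫ f), hgp] at h
    exact h
  -- finiteness
  have fA : ∃ n : ℕ, ringKrullDim (Y.presheaf.stalk (f.base (clSubι X ξ' w))) = n :=
    exists_nat_ringKrullDim_stalk Y _
  have fBp : ∃ n : ℕ, ringKrullDim ((clSub X ξ').presheaf.stalk w) = n :=
    exists_nat_ringKrullDim_stalk _ w
  have fA' : ∃ n : ℕ, ringKrullDim ((clSub Y η').presheaf.stalk v) = n :=
    exists_nat_ringKrullDim_stalk _ v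
  have fBk : ∃ n : ℕ, ringKrullDim ((f.fiber (f.base (clSubι X ξ' w))).presheaf.stalk
        (f.asFiber (clSubι X ξ' w))) = n := by
    letI ovF : (f.fiber (f (clSubι X ξ' w))).Over
        (Spec (CommRingCat.of (Y.residueField (f (clSubι X ξ' w))))) :=
      ⟨f.fiberToSpecResidueField _⟩
    haveI : LocallyOfFiniteType ((f.fiber (f (clSubι X ξ' w))) ↘
        Spec (CommRingCat.of (Y.residueField (f (clSubι X ξ' w))))) :=
      FibreRes.locallyOfFiniteType_fiberToSpecResidueField f _
    exact exists_ringKrullDim_stalk_eq (Y.residueField (f (clSubι X ξ' w))) _ _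
  have fBpk : ∃ n : ℕ, ringKrullDim ((((clSubι X ξ' ≫ f).fiber
      ((clSubι X ξ' ≫ f).base w)).presheaf.stalk ((clSubι X ξ' ≫ f).asFiber w))) = n := by
    obtain ⟨n, hn⟩ := fBk
    rw [hn] at I2
    exact exists_nat_of_le_nat _ n ringKrullDim_nonneg_of_nontrivial I2
  exact arith _ _ _ _ _ t e' _ fA fBk fA' fBpk fBp I1 I2 I3 I4 I5 hfd

end Main

end Groth.Agent.Lib.Helper12.FourCond
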