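import Mathlib
import Groth.Prelude.Def_Found
import Groth.Prelude.Def_EGA43
import Groth.Agent.Lib.Helper12.EquidimOpen2
import Groth.Agent.Lib.Helper12.FourCond

/-!
# Helper library (helper12): equidimensionality in terms of the irreducible components through
the point (EGA IV 13.3.1 c))
-/

set_option autoImplicit false
universe u v
open Polynomial Cardinal AlgebraicGeometry CategoryTheory TopologicalSpace

namespace Groth.Agent.Lib.Helper12.EquidimComp

open Groth.Agent.Lib.Helper12.OrdTools Groth.Agent.Lib.Helper12.DimIneq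
open Groth.Agent.Lib.Helper12 Groth.Agent.Lib.Helper12.SchemeDimFT
open Groth.Agent.Lib.Helper12.ChevalleyCor Groth.Agent.Lib.Helper12.SchemeDimIneq
open Groth.Agent.Lib.Helper14 Order Groth.Agent.Lib.Helper12.Equidim
open Groth.Agent.Lib.Helper12.ClosedSub Groth.Agent.Lib.Helper12.JacDim
open Groth.Agent.Lib.Helper12.FibreMax Groth.Agent.Lib.Helper12.EquidimSub
open Groth.Agent.Lib.Helper12.EquidimHyp Groth.Agent.Lib.Helper12.EquidimPt
open Groth.Agent.Lib.Helper12.EquidimOpen Groth.Agent.Lib.Helper12.FourCond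

section Comp

variable {X Y : Scheme.{u}} (f : X ⟶ Y) [LocallyOfFiniteType f]

omit [LocallyOfFiniteType f] in
theorem closure_image_closure_singleton' (ξ : X) :
    closure (f.base '' closure ({ξ} : Set X)) = closure {f ξ} := by
  apply le_antisymm
  · apply closure_minimal _ isClosed_closure
    refine (image_closure_subset_closure_image f.continuous).trans ?_
    rw [Set.image_singleton]
  · apply closure_mono
    rw [Set.singleton_subset_iff]
    exact ⟨ξ, subset_closure rfl, rfl⟩

/-- The dimension of the generic fibre of the closure of a point. -/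
theorem dim_generic_fibre_closure (ξ : X) :
    topologicalKrullDim ↥(closure ({ξ} : Set X) ∩ f.base ⁻¹' {f ξ}) =
      ((trn f ξ : ℕ∞) : WithBot ℕ∞) := by
  have h1 := topologicalKrullDim_inter_fibre_eq (clSubι X ξ) f (clSubι X ξ).isEmbedding
    (closure {ξ}) (range_clSubι X ξ) (f ξ)
  have h2 := dim_generic_fiber_eq_trn (clSubι X ξ ≫ f)
  have h3 : (clSubι X ξ ≫ f) (genericPoint (clSub X ξ)) = f ξ := by
    show f (clSubι X ξ (genericPoint _)) = f ξ
    rw [clSubι_genericPoint]
  rw [dim_fiber_congr (clSubι X ξ ≫ f) h3, trn_comp_preimmersion, clSubι_genericPoint] at h2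
  rw [h1, h2]

theorem isEquidimAt_iff_components [IsLocallyNoetherian Y] (x : X) :
    EGA43.IsEquidimAt f x ↔
      ∃ e : ℕ, ∀ Xj ∈ irreducibleComponents (X : Type u), ∀ hx : x ∈ Xj,
        closure (f.base '' Xj) ∈ irreducibleComponents (Y : Type u) ∧
        (∀ η : Y, closure ({η} : Set Y) = closure (f.base '' Xj) →
          topologicalKrullDim ↥(Xj ∩ f.base ⁻¹' {η}) = e) ∧
        FlatMor.localDim ↥(Xj ∩ f.base ⁻¹' {f.base x})
          ⟨x, ⟨hx, Set.mem_singleton (f.base x)⟩⟩ = e := by
  haveI : IsLocallyNoetherian X := LocallyOfFiniteType.isLocallyNoetherian f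
  constructor
  · intro hf
    obtain ⟨e, he, hemax⟩ := exists_e_of_isEquidimAt f x hf
    refine ⟨e, ?_⟩
    intro Xj hXj hx
    obtain ⟨ξ, hξ, rfl⟩ := (mem_irreducibleComponents_iff Xj).mp hXj
    have hξx : ξ ⤳ x := specializes_iff_mem_closure.mpr hx
    have hmaxY := isMaxPt_apply_of_isEquidimAt f x hf ξ hξ hξx
    have htr := hemax ξ hξ hξx
    refine ⟨?_, ?_, ?_⟩
    · rw [closure_image_closure_singleton']
      exact (closure_singleton_mem_irreducibleComponents_iff _).mpr hmaxY
    · intro η hη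
      rw [closure_image_closure_singleton'] at hη
      have : η = f ξ := (inseparable_iff_closure_eq.mpr hη).eq
      rw [this, dim_generic_fibre_closure, htr]
      rfl
    · obtain ⟨w, hw⟩ := exists_clSubι_eq X ξ x hξx
      rw [localDim_inter_fibre_eq (clSubι X ξ) f (clSubι X ξ).isEmbedding (closure {ξ})
        (range_clSubι X ξ) w x hw hx]
      apply le_antisymm
      · rw [fibreDimAt_le_iff]
        intro z hz hzw
        rw [trn_comp_preimmersion]
        have hzx : clSubι X ξ z ⤳ x := by
          rw [← hw]; exact hzw.map (clSubι X ξ).continuous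
        have hfz : f (clSubι X ξ z) = f x := by
          rw [← hw]; exact hz
        have h1 := trn_le_fibreDimAt_of_specializes f x _ hfz hzx
        rw [he] at h1
        exact_mod_cast h1
      · have h1 := dim_generic_fiber_le_fibreDimAt (clSubι X ξ ≫ f) w
        rw [dim_generic_fiber_eq_trn (clSubι X ξ ≫ f), trn_comp_preimmersion,
          clSubι_genericPoint, htr] at h1
        exact h1
  · rintro ⟨e, he⟩
    -- data at maximal points generizing x
    have core : ∀ ξ : X, IsMaxPt ξ → ξ ⤳ x →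
        IsMaxPt (f ξ) ∧ trn f ξ = (e : ℕ∞) ∧
        ∀ w : clSub X ξ, clSubι X ξ w = x →
          FlatMor.fibreDimAt (clSubι X ξ ≫ f) w = (e : WithBot ℕ∞) := by
      intro ξ hξ hξx
      have hXj : closure ({ξ} : Set X) ∈ irreducibleComponents (X : Type u) :=
        (mem_irreducibleComponents_iff _).mpr ⟨ξ, hξ, rfl⟩
      have hx : x ∈ closure ({ξ} : Set X) := specializes_iff_mem_closure.mp hξx
      obtain ⟨h1, h2, h3⟩ := he _ hXj hx
      rw [closure_image_closure_singleton'] at h1 h2
      refine ⟨(closure_singleton_mem_irreducibleComponents_iff _).mp h1, ?_, ?_⟩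
      · have h4 := h2 (f ξ) rfl
        rw [dim_generic_fibre_closure] at h4
        exact_mod_cast h4
      · intro w hw
        rw [← localDim_inter_fibre_eq (clSubι X ξ) f (clSubι X ξ).isEmbedding (closure {ξ})
          (range_clSubι X ξ) w x hw hx]
        exact h3
    have hfd : FlatMor.fibreDimAt f x ≤ (e : WithBot ℕ∞) := by
      rw [fibreDimAt_le_iff]
      intro z hz hzx
      obtain ⟨ξ, hξmax, hξz⟩ := exists_isMaxPt_specializes z
      obtain ⟨-, -, h3⟩ := core ξ hξmax (hξz.trans hzx)
      obtain ⟨w, hw⟩ := exists_clSubι_eq X ξ x (hξz.trans hzx)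
      obtain ⟨z₀, hz₀⟩ := exists_clSubι_eq X ξ z hξz
      have h4 : z₀ ⤳ w := by
        apply (clSubι X ξ).isEmbedding.isInducing.specializes_iff.mp
        rw [hz₀, hw]; exact hzx
      have h5 : (clSubι X ξ ≫ f) z₀ = (clSubι X ξ ≫ f) w := by
        show f (clSubι X ξ z₀) = f (clSubι X ξ w)
        rw [hz₀, hw]; exact hz
      have h6 := trn_le_fibreDimAt_of_specializes (clSubι X ξ ≫ f) w z₀ h5 h4
      rw [h3 w hw, trn_comp_preimmersion, hz₀] at h6
      exact_mod_cast h6
    obtain ⟨O, hO, hxO, hOmax⟩ := Groth.Agent.S6460.exists_open_maxPts_specialize X x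
    rw [isEquidimAt_iff_pointwise']
    refine ⟨e, ⟨{z | FlatMor.fibreDimAt f z ≤ (e : WithBot ℕ∞)} ∩ O,
      (Groth.Agent.Lib.Helper12.Chevalley.isOpen_setOf_fibreDimAt_le f e).inter hO⟩,
      ⟨hfd, hxO⟩, ?_, ?_⟩
    · intro ξ hξU hξ
      have hξx : ξ ⤳ x := hOmax ξ hξU.2 hξ
      exact ⟨(core ξ hξ hξx).1, hξx.map f.continuous⟩
    · intro z hzU hzmax
      apply le_antisymm
      · have h1 := trn_le_fibreDimAt_of_specializes f z z rfl specializes_rfl
        have h2 : FlatMor.fibreDimAt f z ≤ (e : WithBot ℕ∞) := hzU.1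
        exact_mod_cast h1.trans h2
      · obtain ⟨ξ, hξmax, hξz⟩ := exists_isMaxPt_specializes z
        have hξO : ξ ∈ O := hξz.mem_open hO hzU.2
        have hξx : ξ ⤳ x := hOmax ξ hξO hξmax
        obtain ⟨z₂, hz₂1, hz₂2, hz₂3, hz₂4⟩ := exists_between_trn_le f z ξ hξz
        rw [hzmax z₂ hz₂1 hz₂3, (core ξ hξmax hξx).2.1] at hz₂4
        exact hz₂4

end Comp

end Groth.Agent.Lib.Helper12.EquidimComp
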