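import Mathlib
import Groth.Prelude.Def_Found
import Groth.Prelude.Def_EGA43
import Groth.Agent.Lib.Helper12.EquidimComp

/-!
# Helper library (helper12): fibres of morphisms open at points (EGA IV 14.2)
-/

set_option autoImplicit false
universe u v
open Polynomial Cardinal AlgebraicGeometry CategoryTheory TopologicalSpace

namespace Groth.Agent.Lib.Helper12.OpenFibre

open Groth.Agent.Lib.Helper12.OrdTools Groth.Agent.Lib.Helper12.DimIneq
open Groth.Agent.Lib.Helper12 Groth.Agent.Lib.Helper12.SchemeDimFT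
open Groth.Agent.Lib.Helper12.ChevalleyCor Groth.Agent.Lib.Helper12.SchemeDimIneq
open Groth.Agent.Lib.Helper14 Order Groth.Agent.Lib.Helper12.Equidim
open Groth.Agent.Lib.Helper12.ClosedSub Groth.Agent.Lib.Helper12.JacDim
open Groth.Agent.Lib.Helper12.FibreMax Groth.Agent.Lib.Helper12.EquidimSub
open Groth.Agent.Lib.Helper12.EquidimHyp Groth.Agent.Lib.Helper12.EquidimPt
open Groth.Agent.Lib.Helper12.EquidimOpen Groth.Agent.Lib.Helper12.FourCond
open Groth.Agent.Lib.Helper12.EquidimComp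

section Ord

theorem exists_isMax_krullDim_Icc_eq {α : Type*} [Preorder α] (a : α) (n : ℕ)
    (h : Order.coheight a = (n : ℕ∞)) :
    ∃ b, a ≤ b ∧ IsMax b ∧ Order.krullDim (Set.Icc a b) = (n : WithBot ℕ∞) := by
  obtain ⟨l, hl0, hlen⟩ := Order.exists_series_of_coheight_eq_coe a h
  have hab : a ≤ l.last := hl0 ▸ l.head_le_last
  refine ⟨l.last, hab, ?_, ?_⟩
  · by_contra hmax
    rw [not_isMax_iff] at hmax
    obtain ⟨c, hc⟩ := hmax
    have h1 := Order.length_le_coheight_head (p := l.snoc c hc)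
    rw [RelSeries.head_snoc, hl0, h] at h1
    have h2 : (l.snoc c hc).length = n + 1 := by
      rw [RelSeries.snoc_length, hlen]
    rw [h2] at h1
    have h3 : n + 1 ≤ n := by exact_mod_cast h1
    omega
  · apply le_antisymm
    · refine (krullDim_Icc_le_coheight a l.last).trans ?_
      rw [h]
      rfl
    · have h1 := length_le_krullDim_Icc l l.last le_rfl
      rw [hl0, hlen] at h1
      exact h1

end Ord

section Top

theorem isPreirreducible_preimage_of_isInducing {A B : Type*} [TopologicalSpace A]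
    [TopologicalSpace B] (φ : A → B) (hφ : Topology.IsInducing φ) (C : Set A)
    (h : IsPreirreducible (φ '' C)) : IsPreirreducible C := by
  rintro u v hu hv ⟨a, haC, hau⟩ ⟨b, hbC, hbv⟩
  obtain ⟨u', hu', rfl⟩ := hφ.isOpen_iff.mp hu
  obtain ⟨v', hv', rfl⟩ := hφ.isOpen_iff.mp hv
  obtain ⟨_, ⟨c, hcC, rfl⟩, hcu, hcv⟩ := h u' v' hu' hv' ⟨φ a, ⟨a, haC, rfl⟩, hau⟩
    ⟨φ b, ⟨b, hbC, rfl⟩, hbv⟩
  exact ⟨c, hcC, hcu, hcv⟩

end Top

section Open

variable {X Y : Scheme.{u}} (f : X ⟶ Y) [LocallyOfFiniteType f]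

/-- If `f` is open at a maximal point `ζ` of a fibre, then there is an irreducible component of
`X` through `ζ` dominating `Y` with generic fibre of dimension the transcendence degree of
`ζ`. -/
theorem exists_component_of_isOpenAt [IrreducibleSpace Y] [IsLocallyNoetherian Y] (ζ : X)
    (hmax : ∀ z' : X, f z' = f ζ → z' ⤳ ζ → z' = ζ) (hopen : EGA43.IsOpenAt f.base ζ) :
    ∃ ξ : X, IsMaxPt ξ ∧ ξ ⤳ ζ ∧ f ξ = genericPoint Y ∧ trn f ξ = trn f ζ := by
  haveI : IsLocallyNoetherian X := LocallyOfFiniteType.isLocallyNoetherian f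
  obtain ⟨dZ, hdZ⟩ := exists_nat_ringKrullDim_stalk X ζ
  obtain ⟨dA, hdA⟩ := exists_nat_ringKrullDim_stalk Y (f ζ)
  have h1 := Groth.Agent.Lib.Helper6.OpenDim.ringKrullDim_stalk_le_of_isOpenAt f ζ hopen
    (fun z' hsp hz' => hmax z' hz' hsp)
  rw [hdZ, hdA] at h1
  have a1 : dA ≤ dZ := by exact_mod_cast h1
  have hco : Order.coheight ζ = (dZ : ℕ∞) := by
    have := ringKrullDim_stalk_eq_coheight ζ
    rw [hdZ] at this
    exact_mod_cast this.symm
  obtain ⟨ξ, hζξ, hξmax, hIcc⟩ := exists_isMax_krullDim_Icc_eq ζ dZ hco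
  have hξζ : ξ ⤳ ζ := hζξ
  have hξ : IsMaxPt ξ := by
    intro z hz
    have h2 : ξ ≤ z := hz
    have h3 : z ≤ ξ := hξmax h2
    have h4 : ξ ⤳ z := h3
    exact (hz.antisymm h4).eq
  have h2 := scheme_dimIneq f ζ ξ hξζ
  rw [hIcc] at h2
  obtain ⟨z, hz1, hz2, hz3, hz4⟩ := exists_between_trn_le f ζ ξ hξζ
  rw [hmax z hz1 hz3] at hz4
  have h4 := coheight_add_krullDim_Icc_le (a := f ζ) (b := f ξ) (hξζ.map f.continuous)
  rw [← ringKrullDim_stalk_eq_coheight (f ζ), hdA] at h4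
  obtain ⟨c, hc⟩ := exists_nat_krullDim_Icc (a := f ζ) (b := f ξ) (hξζ.map f.continuous)
  rw [hc] at h2 h4
  obtain ⟨tξ, htξ⟩ := exists_trn_eq f ξ
  obtain ⟨tζ, htζ⟩ := exists_trn_eq f ζ
  rw [htξ, htζ] at h2 hz4
  have a2 : dZ + tζ ≤ c + tξ := by exact_mod_cast h2
  have a3 : tξ ≤ tζ := by exact_mod_cast hz4
  have hco' : Order.coheight (f ξ) = 0 := by
    by_contra hne
    have h7 : ((1 : ℕ) : ℕ∞) ≤ Order.coheight (f ξ) := by
      have := Order.one_le_iff_pos.mpr (pos_iff_ne_zero.mpr hne)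
      exact_mod_cast this
    have h8 : (((1 : ℕ) : ℕ∞) : WithBot ℕ∞) + (c : WithBot ℕ∞) ≤ (dA : WithBot ℕ∞) :=
      le_trans (add_le_add_left (WithBot.coe_le_coe.mpr h7) _) h4
    have h9 : 1 + c ≤ dA := by exact_mod_cast h8
    omega
  have hgen : f ξ = genericPoint Y :=
    ((isMaxPt_of_coheight_eq_zero _ hco') _ (genericPoint_specializes (f ξ))).symm
  have a4 : c ≤ dA := by
    have h0 : (0 : WithBot ℕ∞) ≤ ((Order.coheight (f ξ) : ℕ∞) : WithBot ℕ∞) :=
      WithBot.coe_le_coe.mpr zero_le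
    have h8 : (c : WithBot ℕ∞) ≤ (dA : WithBot ℕ∞) := by
      refine le_trans ?_ h4
      calc (c : WithBot ℕ∞) = 0 + (c : WithBot ℕ∞) := (zero_add _).symm
        _ ≤ _ := add_le_add_left h0 _
    exact_mod_cast h8
  refine ⟨ξ, hξ, hξζ, hgen, ?_⟩
  rw [htξ, htζ]
  have : tξ = tζ := by omega
  exact_mod_cast this

/-- The local dimension of the fibre of the closure of `ξ` at a maximal point `ζ` of the fibre
of `f`. -/
theorem fibreDimAt_clSub_of_max (ξ ζ : X) (hξζ : ξ ⤳ ζ)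
    (hmax : ∀ z' : X, f z' = f ζ → z' ⤳ ζ → z' = ζ) (w : clSub X ξ) (hw : clSubι X ξ w = ζ) :
    FlatMor.fibreDimAt (clSubι X ξ ≫ f) w = ((trn f ζ : ℕ∞) : WithBot ℕ∞) := by
  obtain ⟨t, ht⟩ := exists_trn_eq f ζ
  rw [ht]
  apply le_antisymm
  · have h0 : ((t : ℕ∞) : WithBot ℕ∞) = ((t : ℕ) : WithBot ℕ∞) := rfl
    rw [h0, fibreDimAt_le_iff]
    intro z hz hzw
    rw [trn_comp_preimmersion]
    have hzx : clSubι X ξ z ⤳ ζ := by
      rw [← hw]; exact hzw.map (clSubι X ξ).continuous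
    have hfz : f (clSubι X ξ z) = f ζ := by
      rw [← hw]; exact hz
    rw [hmax _ hfz hzx, ht]
  · have h1 := trn_le_fibreDimAt_of_specializes (clSubι X ξ ≫ f) w w rfl specializes_rfl
    rw [trn_comp_preimmersion, hw, ht] at h1
    exact h1

end Open

end Groth.Agent.Lib.Helper12.OpenFibre
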