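import Mathlib
import Groth.Prelude.Def_Found
import Groth.Prelude.Def_EGA43
import Groth.Agent.Lib.Helper12.OpenFibre

/-!
# Helper library (helper12): irreducible components of fibres as subsets of the source
-/

set_option autoImplicit false
universe u v
open Polynomial Cardinal AlgebraicGeometry CategoryTheory TopologicalSpace

namespace Groth.Agent.Lib.Helper12.OpenFibre

open Groth.Agent.Lib.Helper12.OrdTools Groth.Agent.Lib.Helper12.DimIneq
open Groth.Agent.Lib.Helper12 Groth.Agent.Lib.Helper12.SchemeDimFT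
open Groth.Agent.Lib.Helper12.ChevalleyCor Groth.Agent.Lib.Helper12.SchemeDimIneq
open Groth.Agent.Lib.Helper14 Order Groth.Agent.Lib.Helper12.Equidim
open Groth.Agent.Lib.Helper12.ClosedSub Groth.Agent.Lib.Helper12.JacDim
open Groth.Agent.Lib.Helper12.FibreMax Groth.Agent.Lib.Helper12.EquidimSub
open Groth.Agent.Lib.Helper12.EquidimHyp Groth.Agent.Lib.Helper12.EquidimPt
open Groth.Agent.Lib.Helper12.EquidimOpen Groth.Agent.Lib.Helper12.FourCond
open Groth.Agent.Lib.Helper12.EquidimComp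

section Comp

variable {X Y : Scheme.{u}} (f : X ⟶ Y) [LocallyOfFiniteType f]

/-- The generic point of an irreducible component of a fibre (as a component of the scheme
theoretic fibre). -/
theorem exists_generic_of_mem_irreducibleComponents_fiber (y : Y) (C : Set (f.fiber y))
    (hC : C ∈ irreducibleComponents (f.fiber y)) :
    ∃ ζF : f.fiber y, C = closure {ζF} ∧ f (f.fiberι y ζF) = y ∧
      (∀ z' : X, f z' = y → z' ⤳ f.fiberι y ζF → z' = f.fiberι y ζF) ∧
      topologicalKrullDim (↥C : Type u) = ((trn f (f.fiberι y ζF) : ℕ∞) : WithBot ℕ∞) := by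
  letI ovF : (f.fiber y).Over (Spec (CommRingCat.of (Y.residueField y))) :=
    ⟨f.fiberToSpecResidueField y⟩
  haveI : LocallyOfFiniteType ((f.fiber y) ↘ Spec (CommRingCat.of (Y.residueField y))) :=
    FibreRes.locallyOfFiniteType_fiberToSpecResidueField f y
  obtain ⟨ζ, hζ, rfl⟩ := (mem_irreducibleComponents_iff C).mp hC
  have hz : f (f.fiberι y ζ) = y := apply_fiberι f y ζ
  refine ⟨ζ, rfl, hz, ?_, ?_⟩
  · intro z' hz' hsp
    have hζ' : f.fiberι y ((f.fiberHomeo y).symm ⟨z', hz'⟩) = z' :=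
      f.fiberι_fiberHomeo_symm y ⟨z', hz'⟩
    have h1 : (f.fiberHomeo y).symm ⟨z', hz'⟩ ⤳ ζ := by
      apply (f.fiberι y).isEmbedding.isInducing.specializes_iff.mp
      rw [hζ']; exact hsp
    rw [← hζ', hζ _ h1]
  · rw [topologicalKrullDim_closure_singleton (Y.residueField y) (f.fiber y) ζ,
      trn_eq_tr_of_fiber f (f.fiberι y ζ) y hz ζ rfl]
    rfl

omit [LocallyOfFiniteType f] in
/-- A maximal irreducible subset of the set-theoretic fibre is the image of an irreducible
component of the scheme-theoretic fibre. -/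
theorem preimage_mem_irreducibleComponents_fiber (y : Y) (Z : Set X)
    (hZy : Z ⊆ f.base ⁻¹' {y}) (hZ : IsIrreducible Z)
    (hZmax : ∀ Z' : Set X, IsIrreducible Z' → Z' ⊆ f.base ⁻¹' {y} → Z ⊆ Z' → Z' = Z) :
    (f.fiberι y) ⁻¹' Z ∈ irreducibleComponents (f.fiber y) ∧
      (f.fiberι y) '' ((f.fiberι y) ⁻¹' Z) = Z := by
  have himg : (f.fiberι y) '' ((f.fiberι y) ⁻¹' Z) = Z := by
    apply Set.image_preimage_eq_of_subset
    rw [Scheme.Hom.range_fiberι]
    exact hZy
  refine ⟨?_, himg⟩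
  have hCirr : IsIrreducible ((f.fiberι y) ⁻¹' Z) := by
    constructor
    · obtain ⟨z, hz⟩ := hZ.1
      rw [← himg] at hz
      obtain ⟨c, hc, -⟩ := hz
      exact ⟨c, hc⟩
    · apply isPreirreducible_preimage_of_isInducing _ (f.fiberι y).isEmbedding.isInducing
      rw [himg]
      exact hZ.2
  refine ⟨hCirr, ?_⟩
  intro C' hC' hCC'
  have h1 : IsIrreducible ((f.fiberι y) '' C') := hC'.image _ (f.fiberι y).continuous.continuousOn
  have h2 : (f.fiberι y) '' C' ⊆ f.base ⁻¹' {y} := by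
    rintro _ ⟨c, -, rfl⟩
    have h3 : f.fiberι y c ∈ Set.range (f.fiberι y) := ⟨c, rfl⟩
    rw [Scheme.Hom.range_fiberι] at h3
    exact h3
  have h3 : Z ⊆ (f.fiberι y) '' C' := by
    rw [← himg]
    exact Set.image_mono hCC'
  have h4 := hZmax _ h1 h2 h3
  intro c hc
  show f.fiberι y c ∈ Z
  rw [← h4]
  exact ⟨c, hc, rfl⟩

/-- The generic point of a maximal irreducible subset of a set-theoretic fibre. -/
theorem exists_generic_of_fibre_component (y : Y) (Z : Set X)
    (hZy : Z ⊆ f.base ⁻¹' {y}) (hZ : IsIrreducible Z)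
    (hZmax : ∀ Z' : Set X, IsIrreducible Z' → Z' ⊆ f.base ⁻¹' {y} → Z ⊆ Z' → Z' = Z) :
    ∃ ζ : X, ζ ∈ Z ∧ Z ⊆ closure {ζ} ∧ f ζ = y ∧ (∀ z' : X, f z' = y → z' ⤳ ζ → z' = ζ) ∧
      topologicalKrullDim ↥Z = ((trn f ζ : ℕ∞) : WithBot ℕ∞) := by
  obtain ⟨hC, himg⟩ := preimage_mem_irreducibleComponents_fiber f y Z hZy hZ hZmax
  obtain ⟨ζF, hCeq, hfζ, hmax, hdim⟩ :=
    exists_generic_of_mem_irreducibleComponents_fiber f y _ hC
  have hζFC : ζF ∈ (f.fiberι y) ⁻¹' Z := by
    rw [hCeq]; exact subset_closure rfl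
  refine ⟨f.fiberι y ζF, hζFC, ?_, hfζ, hmax, ?_⟩
  · intro z hz
    rw [← himg] at hz
    obtain ⟨c, hc, rfl⟩ := hz
    rw [hCeq] at hc
    have h1 : ζF ⤳ c := specializes_iff_mem_closure.mpr hc
    exact specializes_iff_mem_closure.mp (h1.map (f.fiberι y).continuous)
  · rw [← hdim]
    have hφ : Topology.IsEmbedding
        (fun z : ((f.fiberι y) ⁻¹' Z) => (f.fiberι y) z.1) :=
      (f.fiberι y).isEmbedding.comp Topology.IsEmbedding.subtypeVal
    have hrange : Set.range (fun z : ((f.fiberι y) ⁻¹' Z) => (f.fiberι y) z.1) = Z := by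
      ext p
      constructor
      · rintro ⟨z, rfl⟩
        exact z.2
      · intro hp
        rw [← himg] at hp
        obtain ⟨c, hc, rfl⟩ := hp
        exact ⟨⟨c, hc⟩, rfl⟩
    have h1 := IsHomeomorph.topologicalKrullDim_eq _
      (hφ.toHomeomorph.trans (Homeomorph.setCongr hrange)).isHomeomorph
    exact h1.symm

end Comp

end Groth.Agent.Lib.Helper12.OpenFibre

namespace Groth.Agent.Lib.Helper12.OpenFibre

open Groth.Agent.Lib.Helper12.OrdTools Groth.Agent.Lib.Helper12.DimIneq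
open Groth.Agent.Lib.Helper12 Groth.Agent.Lib.Helper12.SchemeDimFT
open Groth.Agent.Lib.Helper12.ChevalleyCor Groth.Agent.Lib.Helper12.SchemeDimIneq
open Groth.Agent.Lib.Helper14 Order Groth.Agent.Lib.Helper12.Equidim
open Groth.Agent.Lib.Helper12.ClosedSub Groth.Agent.Lib.Helper12.JacDim
open Groth.Agent.Lib.Helper12.FibreMax Groth.Agent.Lib.Helper12.EquidimSub

section Comp2

variable {X Y : Scheme.{u}} (f : X ⟶ Y) [LocallyOfFiniteType f]

/-- A point maximal in its fibre gives an irreducible component of the fibre of dimension its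
transcendence degree. -/
theorem exists_component_fiber_of_max (ξ : X) (y : Y) (hy : f ξ = y)
    (hmax : ∀ z' : X, f z' = y → z' ⤳ ξ → z' = ξ) :
    ∃ C ∈ irreducibleComponents (f.fiber y),
      topologicalKrullDim (↥C : Type u) = ((trn f ξ : ℕ∞) : WithBot ℕ∞) := by
  subst hy
  letI ovF : (f.fiber (f ξ)).Over (Spec (CommRingCat.of (Y.residueField (f ξ)))) :=
    ⟨f.fiberToSpecResidueField (f ξ)⟩
  haveI : LocallyOfFiniteType ((f.fiber (f ξ)) ↘ Spec (CommRingCat.of (Y.residueField (f ξ)))) :=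
    FibreRes.locallyOfFiniteType_fiberToSpecResidueField f (f ξ)
  refine ⟨closure {f.asFiber ξ}, ?_, ?_⟩
  · rw [closure_singleton_mem_irreducibleComponents_iff]
    intro w hw
    have h2 := hw.map (f.fiberι (f ξ)).continuous
    rw [f.fiberι_asFiber] at h2
    have h3 : f (f.fiberι (f ξ) w) = f ξ := apply_fiberι f _ w
    have h4 := hmax _ h3 h2
    exact (f.fiberι (f ξ)).isEmbedding.injective (h4.trans (f.fiberι_asFiber ξ).symm)
  · rw [topologicalKrullDim_closure_singleton (Y.residueField (f ξ)) (f.fiber (f ξ))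
      (f.asFiber ξ), trn_eq_tr_of_fiber f ξ (f ξ) rfl (f.asFiber ξ) (f.fiberι_asFiber ξ)]
    rfl

end Comp2

end Groth.Agent.Lib.Helper12.OpenFibre
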