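import Mathlib
import Groth.Prelude.Def_Found
import Groth.Prelude.Def_EGA43
import Groth.Agent.Lib.Helper12.OpenFibre2

/-!
# Helper library (helper12): the component lemma under a dimension hypothesis
-/

set_option autoImplicit false
universe u v
open Polynomial Cardinal AlgebraicGeometry CategoryTheory TopologicalSpace

namespace Groth.Agent.Lib.Helper12.OpenFibre

open Groth.Agent.Lib.Helper12.OrdTools Groth.Agent.Lib.Helper12.DimIneq
open Groth.Agent.Lib.Helper12 Groth.Agent.Lib.Helper12.SchemeDimFT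
open Groth.Agent.Lib.Helper12.ChevalleyCor Groth.Agent.Lib.Helper12.SchemeDimIneq
open Groth.Agent.Lib.Helper14 Order Groth.Agent.Lib.Helper12.Equidim
open Groth.Agent.Lib.Helper12.ClosedSub Groth.Agent.Lib.Helper12.JacDim
open Groth.Agent.Lib.Helper12.FibreMax Groth.Agent.Lib.Helper12.EquidimSub
open Groth.Agent.Lib.Helper12.EquidimHyp Groth.Agent.Lib.Helper12.EquidimPt
open Groth.Agent.Lib.Helper12.EquidimOpen Groth.Agent.Lib.Helper12.FourCond
open Groth.Agent.Lib.Helper12.EquidimComp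

section Dim

variable {X Y : Scheme.{u}} (f : X ⟶ Y) [LocallyOfFiniteType f]

/-- If `ζ` is a maximal point of its fibre with `dim 𝒪_{Y,f ζ} ≤ dim 𝒪_{X,ζ}`, then there is a
maximal point `ξ` of `X` specializing to `ζ`, lying over a maximal point of `Y`, with the same
transcendence degree as `ζ`. -/
theorem exists_component_of_dim_le [IsLocallyNoetherian Y] (ζ : X)
    (hmax : ∀ z' : X, f z' = f ζ → z' ⤳ ζ → z' = ζ)
    (h1 : ringKrullDim (Y.presheaf.stalk (f ζ)) ≤ ringKrullDim (X.presheaf.stalk ζ)) :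
    ∃ ξ : X, IsMaxPt ξ ∧ ξ ⤳ ζ ∧ IsMaxPt (f ξ) ∧ trn f ξ = trn f ζ := by
  haveI : IsLocallyNoetherian X := LocallyOfFiniteType.isLocallyNoetherian f
  obtain ⟨dZ, hdZ⟩ := exists_nat_ringKrullDim_stalk X ζ
  obtain ⟨dA, hdA⟩ := exists_nat_ringKrullDim_stalk Y (f ζ)
  rw [hdZ, hdA] at h1
  have a1 : dA ≤ dZ := by exact_mod_cast h1
  have hco : Order.coheight ζ = (dZ : ℕ∞) := by
    have := ringKrullDim_stalk_eq_coheight ζ
    rw [hdZ] at this
    exact_mod_cast this.symm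
  obtain ⟨ξ, hζξ, hξmax, hIcc⟩ := exists_isMax_krullDim_Icc_eq ζ dZ hco
  have hξζ : ξ ⤳ ζ := hζξ
  have hξ : IsMaxPt ξ := by
    intro z hz
    have h2 : ξ ≤ z := hz
    have h3 : z ≤ ξ := hξmax h2
    have h4 : ξ ⤳ z := h3
    exact (hz.antisymm h4).eq
  have h2 := scheme_dimIneq f ζ ξ hξζ
  rw [hIcc] at h2
  obtain ⟨z, hz1, hz2, hz3, hz4⟩ := exists_between_trn_le f ζ ξ hξζ
  rw [hmax z hz1 hz3] at hz4
  have h4 := coheight_add_krullDim_Icc_le (a := f ζ) (b := f ξ) (hξζ.map f.continuous)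
  rw [← ringKrullDim_stalk_eq_coheight (f ζ), hdA] at h4
  obtain ⟨c, hc⟩ := exists_nat_krullDim_Icc (a := f ζ) (b := f ξ) (hξζ.map f.continuous)
  rw [hc] at h2 h4
  obtain ⟨tξ, htξ⟩ := exists_trn_eq f ξ
  obtain ⟨tζ, htζ⟩ := exists_trn_eq f ζ
  rw [htξ, htζ] at h2 hz4
  have a2 : dZ + tζ ≤ c + tξ := by exact_mod_cast h2
  have a3 : tξ ≤ tζ := by exact_mod_cast hz4
  have hco' : Order.coheight (f ξ) = 0 := by
    by_contra hne
    have h7 : ((1 : ℕ) : ℕ∞) ≤ Order.coheight (f ξ) := by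
      have := Order.one_le_iff_pos.mpr (pos_iff_ne_zero.mpr hne)
      exact_mod_cast this
    have h8 : (((1 : ℕ) : ℕ∞) : WithBot ℕ∞) + (c : WithBot ℕ∞) ≤ (dA : WithBot ℕ∞) :=
      le_trans (add_le_add_left (WithBot.coe_le_coe.mpr h7) _) h4
    have h9 : 1 + c ≤ dA := by exact_mod_cast h8
    omega
  have a4 : c ≤ dA := by
    have h0 : (0 : WithBot ℕ∞) ≤ ((Order.coheight (f ξ) : ℕ∞) : WithBot ℕ∞) :=
      WithBot.coe_le_coe.mpr zero_le
    have h8 : (c : WithBot ℕ∞) ≤ (dA : WithBot ℕ∞) := by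
      refine le_trans ?_ h4
      calc (c : WithBot ℕ∞) = 0 + (c : WithBot ℕ∞) := (zero_add _).symm
        _ ≤ _ := add_le_add_left h0 _
    exact_mod_cast h8
  refine ⟨ξ, hξ, hξζ, isMaxPt_of_coheight_eq_zero _ hco', ?_⟩
  rw [htξ, htζ]
  have : tξ = tζ := by omega
  exact_mod_cast this

/-- Irreducible target: the maximal point found lies over the generic point. -/
theorem exists_component_of_dim_le' [IrreducibleSpace Y] [IsLocallyNoetherian Y] (ζ : X)
    (hmax : ∀ z' : X, f z' = f ζ → z' ⤳ ζ → z' = ζ)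
    (h1 : ringKrullDim (Y.presheaf.stalk (f ζ)) ≤ ringKrullDim (X.presheaf.stalk ζ)) :
    ∃ ξ : X, IsMaxPt ξ ∧ ξ ⤳ ζ ∧ f ξ = genericPoint Y ∧ trn f ξ = trn f ζ := by
  obtain ⟨ξ, h2, h3, h4, h5⟩ := exists_component_of_dim_le f ζ hmax h1
  exact ⟨ξ, h2, h3, (h4 _ (genericPoint_specializes (f ξ))).symm, h5⟩

/-- `E(y) ⊆ E(η)` when the maximal points of the fibre over `y` have local rings of dimension
at least `dim 𝒪_{Y,y}`. -/
theorem dims_subset_generic_of_dim_le [IrreducibleSpace Y] [IsLocallyNoetherian Y] (y : Y)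
    (hb : ∀ z : X, f z = y → (∀ z' : X, f z' = y → z' ⤳ z → z' = z) →
      ringKrullDim (Y.presheaf.stalk (f z)) ≤ ringKrullDim (X.presheaf.stalk z))
    (C : Set (f.fiber y)) (hC : C ∈ irreducibleComponents (f.fiber y)) :
    ∃ C' ∈ irreducibleComponents ↥(f.fiber (genericPoint Y)),
        topologicalKrullDim ↥C' = topologicalKrullDim ↥C := by
  obtain ⟨ζF, hCeq, hfζ, hmax, hdim⟩ :=
    exists_generic_of_mem_irreducibleComponents_fiber f y C hC
  obtain ⟨ξ, hξmax, hξζ, hgen, htrn⟩ :=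
    exists_component_of_dim_le' f (f.fiberι y ζF)
      (fun z' h1 h2 => hmax z' (h1.trans hfζ) h2) (hb _ hfζ hmax)
  obtain ⟨C', hC', hdim'⟩ :=
    exists_component_fiber_of_max f ξ (genericPoint Y) hgen (fun z' _ h2 => hξmax z' h2)
  exact ⟨C', hC', by rw [hdim', hdim, htrn]⟩

end Dim

end Groth.Agent.Lib.Helper12.OpenFibre
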