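import Mathlib
import Groth.Prelude.Def_Found
import Groth.Prelude.Def_EGA43
import Groth.Agent.Lib.Helper12.OpenFibre3

/-!
# Helper library (helper12): lifting generizations through a morphism open at a point, with
control of the transcendence degree (EGA IV 14.2.1 over an arbitrary generization)
-/

set_option autoImplicit false
universe u v
open Polynomial Cardinal AlgebraicGeometry CategoryTheory TopologicalSpace Limits

namespace Groth.Agent.Lib.Helper12.OpenGen

open Groth.Agent.Lib.Helper12.OrdTools Groth.Agent.Lib.Helper12.DimIneq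
open Groth.Agent.Lib.Helper12 Groth.Agent.Lib.Helper12.SchemeDimFT
open Groth.Agent.Lib.Helper12.ChevalleyCor Groth.Agent.Lib.Helper12.SchemeDimIneq
open Groth.Agent.Lib.Helper14 Order Groth.Agent.Lib.Helper12.Equidim
open Groth.Agent.Lib.Helper12.ClosedSub Groth.Agent.Lib.Helper12.JacDim
open Groth.Agent.Lib.Helper12.FibreMax Groth.Agent.Lib.Helper12.EquidimSub
open Groth.Agent.Lib.Helper12.OpenFibre

section Trn

variable {X Y : Scheme.{u}}

theorem trn_id (y : Y) : trn (𝟙 Y) y = 0 := by
  unfold trn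
  have h : Function.Surjective (((𝟙 Y : Y ⟶ Y).residueFieldMap y).hom) := by
    rw [Scheme.residueFieldMap_id]
    exact fun a => ⟨a, rfl⟩
  rw [trdeg_eq_zero_of_surjective _ h]
  simp

theorem trn_preimmersion (i : X ⟶ Y) [IsPreimmersion i] (w : X) : trn i w = 0 := by
  have h1 := trn_comp_preimmersion i (𝟙 Y) w
  rw [trn_id] at h1
  have h2 : trn (i ≫ 𝟙 Y) w = trn i w := by
    congr 1
  rw [← h2, h1]

/-- `trn` is unchanged by postcomposition with a preimmersion. -/
theorem trn_comp_preimmersion_right {Y' : Scheme.{u}} (g : X ⟶ Y') (i : Y' ⟶ Y)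
    [IsPreimmersion i] (p : X) : trn (g ≫ i) p = trn g p := by
  rw [trn_comp, trn_preimmersion, zero_add]

end Trn

section Gen

variable {X Y : Scheme.{u}} (f : X ⟶ Y) [LocallyOfFiniteType f]

/-- If `f` is open at a maximal point `ζ` of a fibre and `z` is a generization of `f ζ`, then
there is a generization `ξ` of `ζ` over `z`, maximal among the points over the closure of `z`,
with the same transcendence degree as `ζ`. -/
theorem exists_generization_trn_eq [IsLocallyNoetherian Y] (ζ : X)
    (hmax : ∀ z' : X, f z' = f ζ → z' ⤳ ζ → z' = ζ) (hopen : EGA43.IsOpenAt f.base ζ)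
    (z : Y) (hz : z ⤳ f ζ) :
    ∃ ξ : X, ξ ⤳ ζ ∧ f ξ = z ∧ (∀ x' : X, z ⤳ f x' → x' ⤳ ξ → x' = ξ) ∧
      trn f ξ = trn f ζ := by
  let i := clSubι Y z
  let j := pullback.fst f i
  let g := pullback.snd f i
  have hcond : j ≫ f = g ≫ i := pullback.condition
  haveI : IsLocallyNoetherian (clSub Y z) := LocallyOfFiniteType.isLocallyNoetherian i
  have hpt : ∀ p : ↑(pullback f i), f (j p) = i (g p) := by
    intro p
    have := congrArg (fun φ : (pullback f i) ⟶ Y => φ p) hcond
    simpa using this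
  have hjemb : Topology.IsEmbedding j := j.isEmbedding
  have hiinj : Function.Injective i := i.isEmbedding.injective
  obtain ⟨y', hy'⟩ := exists_clSubι_eq (X := Y) (ξ := z) (f ζ) hz
  obtain ⟨ζ', hζ'1, hζ'2⟩ :=
    Scheme.Pullback.exists_preimage_pullback (f := f) (g := i) ζ y' hy'.symm
  -- `g` is open at `ζ'`
  have hgopen : EGA43.IsOpenAt g.base ζ' := by
    intro N hN
    rw [hjemb.isInducing.nhds_eq_comap, Filter.mem_comap] at hN
    obtain ⟨N', hN', hsub⟩ := hN
    have h1 : f.base '' N' ∈ nhds (f.base ζ) := by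
      have := hopen N' (by rw [← hζ'1]; exact hN')
      exact this
    have h2 : i.base ⁻¹' (f.base '' N') ∈ nhds (g.base ζ') := by
      apply i.continuous.continuousAt
      have : i (g ζ') = f ζ := by rw [← hpt, hζ'1]
      show f.base '' N' ∈ nhds (i (g ζ'))
      rw [this]
      exact h1
    refine Filter.mem_of_superset h2 ?_
    rintro w ⟨x, hxN, hxw⟩
    obtain ⟨p, hp1, hp2⟩ :=
      Scheme.Pullback.exists_preimage_pullback (f := f) (g := i) x w hxw
    refine ⟨p, hsub ?_, hp2⟩
    show j p ∈ N'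
    rw [hp1]
    exact hxN
  -- `ζ'` is maximal in its fibre
  have hmax' : ∀ p : ↑(pullback f i), g p = g ζ' → p ⤳ ζ' → p = ζ' := by
    intro p hp hsp
    apply hjemb.injective
    have h1 : j p ⤳ ζ := by rw [← hζ'1]; exact hsp.map j.continuous
    have h2 : f (j p) = f ζ := by rw [hpt, hp, ← hpt, hζ'1]
    rw [hmax _ h2 h1, hζ'1]
  obtain ⟨ξ', hξ'max, hξ'ζ', hgen, htrn⟩ := exists_component_of_isOpenAt g ζ' hmax' hgopen
  have htr : ∀ p : ↑(pullback f i), trn f (j p) = trn g p := by
    intro p
    rw [← trn_comp_preimmersion j f p, ← trn_comp_preimmersion_right g i p]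
    congr 1
  refine ⟨j ξ', ?_, ?_, ?_, ?_⟩
  · rw [← hζ'1]; exact hξ'ζ'.map j.continuous
  · rw [hpt, hgen]; exact clSubι_genericPoint Y z
  · intro x' hx' hsp
    obtain ⟨w, hw⟩ := exists_clSubι_eq (X := Y) (ξ := z) (f x') hx'
    obtain ⟨p, hp1, hp2⟩ :=
      Scheme.Pullback.exists_preimage_pullback (f := f) (g := i) x' w hw.symm
    have h1 : p ⤳ ξ' := by
      apply hjemb.isInducing.specializes_iff.mp
      show j p ⤳ j ξ'
      rw [hp1]; exact hsp
    rw [← hp1, hξ'max p h1]
  · rw [htr, htrn, ← htr, hζ'1]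

end Gen

end Groth.Agent.Lib.Helper12.OpenGen
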