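import Mathlib
import Groth.Prelude.Def_Found
import Groth.Prelude.Def_EGA43
import Groth.Agent.Lib.Helper12.ConstrNhds
import Groth.Agent.Lib.Helper12.OpenGen

/-!
# Helper library (helper12): constructibility of the fibre dimension on the target
-/

set_option autoImplicit false
universe u v
open Polynomial Cardinal AlgebraicGeometry CategoryTheory TopologicalSpace Limits Topology

namespace Groth.Agent.Lib.Helper12.FibreDimConstr

open Groth.Agent.Lib.Helper12.OrdTools Groth.Agent.Lib.Helper12.DimIneq
open Groth.Agent.Lib.Helper12 Groth.Agent.Lib.Helper12.SchemeDimFT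
open Groth.Agent.Lib.Helper12.ChevalleyCor Groth.Agent.Lib.Helper12.SchemeDimIneq
open Groth.Agent.Lib.Helper12.Chevalley
open Groth.Agent.Lib.Helper14 Order Groth.Agent.Lib.Helper12.Equidim
open Groth.Agent.Lib.Helper12.ClosedSub Groth.Agent.Lib.Helper12.JacDim
open Groth.Agent.Lib.Helper12.FibreMax Groth.Agent.Lib.Helper12.EquidimSub
open Groth.Agent.Lib.Helper12.OpenFibre Groth.Agent.Lib.Helper12.OpenGen
open Groth.Agent.Lib.Helper12.ConstrNhds

section Closed

variable {X : Scheme.{u}}

/-- Closed subsets of a locally Noetherian scheme are locally constructible. -/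
theorem isLocallyConstructible_of_isClosed [IsLocallyNoetherian X] (F : Set X) (hF : IsClosed F) :
    IsLocallyConstructible F := by
  intro x
  obtain ⟨_, ⟨U, hU, rfl⟩, hxU, -⟩ := X.isBasis_affineOpens.exists_subset_of_mem_open
    (Set.mem_univ x) isOpen_univ
  haveI : IsNoetherianRing Γ(X, U) := IsLocallyNoetherian.component_noetherian ⟨U, hU⟩
  haveI h1 : NoetherianSpace U := noetherianSpace_of_isAffineOpen U hU
  refine ⟨U, U.2.mem_nhds hxU, U.2, ?_⟩
  show IsConstructible ((Subtype.val : ↥(U : Set X) → X) ⁻¹' F)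
  have hcl : IsClosed ((Subtype.val : ↥(U : Set X) → X) ⁻¹' F) :=
    hF.preimage continuous_subtype_val
  have hop : IsOpen ((Subtype.val : ↥(U : Set X) → X) ⁻¹' F)ᶜ := hcl.isOpen_compl
  have hret : IsRetrocompact ((Subtype.val : ↥(U : Set X) → X) ⁻¹' F)ᶜ := by
    intro V _ _
    exact @NoetherianSpace.isCompact _ _ h1 _
  have := (hret.isConstructible hop).compl
  rwa [compl_compl] at this

end Closed

section Dim

variable {X Y : Scheme.{u}} (f : X ⟶ Y) [LocallyOfFiniteType f]

/-- The set of points where the fibre has dimension at least `n` is the image of a closed set. -/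
theorem exists_isClosed_setOf_le_dim_fiber (n : ℕ) :
    ∃ F : Set X, IsClosed F ∧
      {y : Y | (n : WithBot ℕ∞) ≤ topologicalKrullDim (f.fiber y)} = f.base '' F := by
  rcases n with _ | m
  · refine ⟨Set.univ, isClosed_univ, ?_⟩
    ext y
    simp only [Set.mem_setOf_eq, Nat.cast_zero, Set.image_univ]
    exact zero_le_dim_fiber_iff f y
  · have hop := isOpen_setOf_fibreDimAt_le f m
    refine ⟨{x : X | FlatMor.fibreDimAt f x ≤ m}ᶜ, hop.isClosed_compl, ?_⟩
    ext y
    simp only [Set.mem_setOf_eq, Set.mem_image, Set.mem_compl_iff]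
    rw [succ_le_iff_not_le, dim_fiber_le_iff]
    push Not
    constructor
    · rintro ⟨x, hx, h⟩
      exact ⟨x, h, hx⟩
    · rintro ⟨x, h, hx⟩
      exact ⟨x, hx, h⟩

theorem isLocallyConstructible_setOf_le_dim_fiber [IsLocallyNoetherian Y] [QuasiCompact f]
    (n : ℕ) :
    IsLocallyConstructible {y : Y | (n : WithBot ℕ∞) ≤ topologicalKrullDim (f.fiber y)} := by
  haveI : IsLocallyNoetherian X := LocallyOfFiniteType.isLocallyNoetherian f
  obtain ⟨F, hF, hFeq⟩ := exists_isClosed_setOf_le_dim_fiber f n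
  rw [hFeq]
  exact f.isLocallyConstructible_image (isLocallyConstructible_of_isClosed F hF)

/-- The dimension of a fibre of a morphism of finite type is finite. -/
theorem exists_dim_fiber_le_pt [QuasiCompact f] (y : Y) :
    ∃ n : ℕ, topologicalKrullDim (f.fiber y) ≤ n := by
  choose U m hxU hUm using exists_opens_fibreDimAt_le f
  have hc := f.isCompact_preimage_singleton y
  obtain ⟨t, ht⟩ := hc.elim_nhds_subcover' (fun x _ => (U x : Set X))
    (fun x _ => (U x).2.mem_nhds (hxU x))
  refine ⟨t.sup (fun x => m x.1), ?_⟩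
  rw [dim_fiber_le_iff]
  intro x hx
  have hx' : x ∈ ⋃ x ∈ t, (U x.1 : Set X) := ht hx
  simp only [Set.mem_iUnion] at hx'
  obtain ⟨x₀, hx₀t, hx₀⟩ := hx'
  refine (hUm x₀.1 x hx₀).trans ?_
  have : m x₀.1 ≤ t.sup (fun x => m x.1) := Finset.le_sup (f := fun x => m x.1) hx₀t
  exact_mod_cast this

/-- If the fibre dimension is constant on the generizations of `y`, it is constant on a
neighbourhood of `y`. -/
theorem dim_fiber_eventually_const [IsLocallyNoetherian Y] [QuasiCompact f] (y : Y)
    (h : ∀ z : Y, z ⤳ y → topologicalKrullDim (f.fiber z) = topologicalKrullDim (f.fiber y)) :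
    ∃ V ∈ nhds y, ∀ z ∈ V, topologicalKrullDim (f.fiber z) = topologicalKrullDim (f.fiber y) := by
  obtain ⟨n, hn⟩ := exists_dim_fiber_le_pt f y
  -- upper bound
  have hU : {z : Y | ((n + 1 : ℕ) : WithBot ℕ∞) ≤ topologicalKrullDim (f.fiber z)}ᶜ ∈ nhds y := by
    apply mem_nhds_of_isLocallyConstructible _
      (isLocallyConstructible_compl (isLocallyConstructible_setOf_le_dim_fiber f (n + 1)))
    intro z hz hmem
    rw [Set.mem_setOf_eq, h z hz, succ_le_iff_not_le] at hmem
    exact hmem hn
  rcases ProductDim.withBot_enat_cases (topologicalKrullDim (f.fiber y)) with hd | hd | ⟨k, hd⟩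
  · -- empty fibre
    have hV : {z : Y | ((0 : ℕ) : WithBot ℕ∞) ≤ topologicalKrullDim (f.fiber z)}ᶜ ∈ nhds y := by
      apply mem_nhds_of_isLocallyConstructible _
        (isLocallyConstructible_compl (isLocallyConstructible_setOf_le_dim_fiber f 0))
      intro z hz hmem
      rw [Set.mem_setOf_eq, h z hz, hd] at hmem
      simp at hmem
    refine ⟨_, hV, fun z hz => ?_⟩
    rw [hd]
    rw [Set.mem_compl_iff, Set.mem_setOf_eq, not_le] at hz
    rcases ProductDim.withBot_enat_cases (topologicalKrullDim (f.fiber z)) with h1 | h1 | ⟨k, h1⟩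
    · exact h1
    · rw [h1] at hz
      simp at hz
    · rw [h1] at hz
      have : (k : WithBot ℕ∞) < ((0 : ℕ) : WithBot ℕ∞) := hz
      have : k < 0 := by exact_mod_cast this
      omega
  · rw [hd] at hn
    exact absurd hn (by
      rw [not_le]
      exact WithBot.coe_lt_coe.mpr (ENat.coe_lt_top n))
  · have hV : {z : Y | ((k : ℕ) : WithBot ℕ∞) ≤ topologicalKrullDim (f.fiber z)} ∈ nhds y := by
      apply mem_nhds_of_isLocallyConstructible _
        (isLocallyConstructible_setOf_le_dim_fiber f k)
      intro z hz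
      rw [Set.mem_setOf_eq, h z hz, hd]
    have hW : {z : Y | ((k + 1 : ℕ) : WithBot ℕ∞) ≤ topologicalKrullDim (f.fiber z)}ᶜ ∈ nhds y := by
      apply mem_nhds_of_isLocallyConstructible _
        (isLocallyConstructible_compl (isLocallyConstructible_setOf_le_dim_fiber f (k + 1)))
      intro z hz hmem
      rw [Set.mem_setOf_eq, h z hz, succ_le_iff_not_le, hd] at hmem
      exact hmem le_rfl
    refine ⟨_, Filter.inter_mem hV hW, fun z hz => ?_⟩
    obtain ⟨hz1, hz2⟩ := hz
    rw [Set.mem_compl_iff, Set.mem_setOf_eq, succ_le_iff_not_le, not_not] at hz2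
    rw [hd]
    exact le_antisymm hz2 hz1

/-- If `f` is open at all points of the fibre over `y` and `z` is a generization of `y`, every
dimension of a component of the fibre over `y` is the dimension of a component of the fibre
over `z`. -/
theorem exists_component_fiber_of_specializes [IsLocallyNoetherian Y] (y z : Y) (hzy : z ⤳ y)
    (hopen : ∀ x : X, f x = y → EGA43.IsOpenAt f.base x)
    (C : Set (f.fiber y)) (hC : C ∈ irreducibleComponents (f.fiber y)) :
    ∃ C' ∈ irreducibleComponents (f.fiber z),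
      topologicalKrullDim ↥C' = topologicalKrullDim ↥C := by
  obtain ⟨ζF, hCeq, hfζ, hmax, hdim⟩ :=
    exists_generic_of_mem_irreducibleComponents_fiber f y C hC
  obtain ⟨ξ, hξζ, hfξ, hξmax, htrn⟩ :=
    exists_generization_trn_eq f (f.fiberι y ζF)
      (fun z' h1 h2 => hmax z' (h1.trans hfζ) h2) (hopen _ hfζ) z (by rw [hfζ]; exact hzy)
  obtain ⟨C', hC', hdim'⟩ :=
    exists_component_fiber_of_max f ξ z hfξ
      (fun z' h1 h2 => hξmax z' (by rw [h1]) h2)
  exact ⟨C', hC', by rw [hdim', hdim, htrn]⟩

theorem dim_fiber_le_of_specializes [IsLocallyNoetherian Y] (y z : Y) (hzy : z ⤳ y)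
    (hopen : ∀ x : X, f x = y → EGA43.IsOpenAt f.base x) :
    topologicalKrullDim (f.fiber y) ≤ topologicalKrullDim (f.fiber z) := by
  rw [Groth.Agent.Lib.Helper9.topologicalKrullDim_eq_iSup_irreducibleComponents
    (X := ↥(f.fiber y))]
  apply iSup₂_le
  intro C hC
  obtain ⟨C', hC', hdim⟩ := exists_component_fiber_of_specializes f y z hzy hopen C hC
  rw [← hdim]
  exact topologicalKrullDim_subspace_le _ _

end Dim

end Groth.Agent.Lib.Helper12.FibreDimConstr
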