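import Mathlib
import Groth.Prelude.Def_Flat
import Groth.Agent.Lib.Helper12.Chevalley
import Groth.Agent.Lib.Helper12.ChevalleyCor
import Groth.Agent.S9358

/-! Fibre dimension loci of morphisms locally of finite presentation are retrocompact
(Noetherian descent through `Algebra.Presentation.Core`). -/

set_option autoImplicit false

open CategoryTheory AlgebraicGeometry TopologicalSpace TensorProduct CategoryTheory.Limits

universe u

namespace Groth.Agent.Lib.Helper12.FibreDimFP

/-- A tensor product decomposition gives a pushout square of commutative rings. -/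
theorem isPushout_of_tensorEquiv (R₀ R A₀ A : Type u) [CommRing R₀] [CommRing R] [CommRing A₀]
    [CommRing A] [Algebra R₀ R] [Algebra R₀ A₀] [Algebra R A] (e : R ⊗[R₀] A₀ ≃ₐ[R] A) :
    IsPushout (CommRingCat.ofHom (algebraMap R₀ A₀)) (CommRingCat.ofHom (algebraMap R₀ R))
      (CommRingCat.ofHom (e.toRingEquiv.toRingHom.comp
        (Algebra.TensorProduct.includeRight : A₀ →ₐ[R₀] R ⊗[R₀] A₀).toRingHom))
      (CommRingCat.ofHom (algebraMap R A)) := by
  have h := (CommRingCat.isPushout_tensorProduct R₀ R A₀).flip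
  refine h.of_iso (Iso.refl _) (Iso.refl _) (Iso.refl _) e.toRingEquiv.toCommRingCatIso
    (by simp) (by simp) ?_ ?_
  · refine CommRingCat.hom_ext (RingHom.ext fun x => ?_)
    rfl
  · refine CommRingCat.hom_ext (RingHom.ext fun x => ?_)
    show e ((x : R) ⊗ₜ 1) = algebraMap R A x
    have h1 : ((x : R) ⊗ₜ[R₀] (1 : A₀) : R ⊗[R₀] A₀) = algebraMap R (R ⊗[R₀] A₀) x := by
      rw [Algebra.TensorProduct.algebraMap_apply]; rfl
    rw [h1, e.commutes]

/-- Noetherian descent of a finitely presented ring map, as a cartesian square of spectra. -/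
theorem exists_noetherian_model {R A : CommRingCat.{u}} (φ : R ⟶ A) (hφ : φ.hom.FinitePresentation) :
    ∃ (R₀ A₀ : CommRingCat.{u}) (φ₀ : R₀ ⟶ A₀) (a : R₀ ⟶ R) (b : A₀ ⟶ A),
      IsNoetherianRing R₀ ∧ φ₀.hom.FinitePresentation ∧
        IsPullback (Spec.map b) (Spec.map φ) (Spec.map φ₀) (Spec.map a) := by
  classical
  algebraize [φ.hom]
  haveI : Algebra.FinitePresentation R A := hφ
  haveI : IsNoetherianRing (Algebra.Presentation.ofFinitePresentation R A).Core :=
    Algebra.FiniteType.isNoetherianRing ℤ _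
  have hpo := isPushout_of_tensorEquiv (Algebra.Presentation.ofFinitePresentation R A).Core R
    ((Algebra.Presentation.ofFinitePresentation R A).ModelOfHasCoeffs
      (Algebra.Presentation.ofFinitePresentation R A).Core) A
    ((Algebra.Presentation.ofFinitePresentation R A).tensorModelOfHasCoeffsEquiv
      (Algebra.Presentation.ofFinitePresentation R A).Core)
  refine ⟨CommRingCat.of _, CommRingCat.of _, CommRingCat.ofHom _, CommRingCat.ofHom _,
    CommRingCat.ofHom _, ‹_›, ?_, isPullback_SpecMap_of_isPushout _ _ _ _ hpo⟩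
  show (algebraMap _ _).FinitePresentation
  rw [RingHom.finitePresentation_algebraMap]
  infer_instance


/-- For a finitely presented ring map, the locus of fibre dimension at most `n` is quasi-compact. -/
theorem isCompact_setOf_fibreDimAt_le_Spec {R A : CommRingCat.{u}} (φ : R ⟶ A)
    (hφ : φ.hom.FinitePresentation) (n : ℕ) :
    IsCompact {q : ↥(Spec A) | FlatMor.fibreDimAt (Spec.map φ) q ≤ n} := by
  obtain ⟨R₀, A₀, φ₀, a, b, hN, hφ₀, sq⟩ := exists_noetherian_model φ hφ
  haveI : LocallyOfFiniteType (Spec.map φ₀) := by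
    rw [HasRingHomProperty.Spec_iff (P := @LocallyOfFiniteType)]
    exact RingHom.FiniteType.of_finitePresentation hφ₀
  have hbc := (Groth.Agent.S9358.result (Spec.map φ₀) (Spec.map a) (Spec.map b) (Spec.map φ) sq 0).1
  have heq : {q : ↥(Spec A) | FlatMor.fibreDimAt (Spec.map φ) q ≤ n} =
      (Spec.map b).base ⁻¹' {q₀ | FlatMor.fibreDimAt (Spec.map φ₀) q₀ ≤ n} := by
    ext q
    simp only [Set.mem_setOf_eq, Set.mem_preimage]
    rw [hbc q]
  rw [heq]
  have hopen := Groth.Agent.Lib.Helper12.Chevalley.isOpen_setOf_fibreDimAt_le (Spec.map φ₀) n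
  haveI : IsNoetherianRing A₀ := by
    algebraize [φ₀.hom]
    haveI : Algebra.FiniteType R₀ A₀ := RingHom.FiniteType.of_finitePresentation hφ₀
    exact Algebra.FiniteType.isNoetherianRing R₀ A₀
  haveI : NoetherianSpace ↥(Spec A₀) := inferInstanceAs (NoetherianSpace (PrimeSpectrum A₀))
  have hcomp : IsCompact {q₀ : ↥(Spec A₀) | FlatMor.fibreDimAt (Spec.map φ₀) q₀ ≤ n} :=
    NoetherianSpace.isCompact _
  exact QuasiCompact.isCompact_preimage (f := Spec.map b) _ hopen hcomp


open Groth.Agent.Lib.Helper12.TopFibreDim in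
/-- The fibre dimension in an affine chart, in terms of the morphism of spectra. -/
theorem fibreDimAt_fromSpec' {X Y : Scheme.{u}} (f : X ⟶ Y) {U : X.Opens} {V : Y.Opens}
    (hU : IsAffineOpen U) (hV : IsAffineOpen V) (hUV : U ≤ f ⁻¹ᵁ V) (y : ↥(Spec Γ(X, U))) :
    FlatMor.fibreDimAt f (hU.fromSpec.base y) =
      FlatMor.fibreDimAt (Spec.map (f.appLE V U hUV)) y := by
  rw [Groth.Agent.Lib.Helper12.ChevalleyCor.fibreDimAt_fromSpec f hU hV hUV y,
    fibreDimAt_eq_topFibreDim]
  rfl

/-- **EGA IV 9.9.x / Stacks 05F9**: for a morphism locally of finite presentation, the open locus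
where the fibre dimension is at most `n` is retrocompact. -/
theorem isRetrocompact_setOf_fibreDimAt_le {X S : Scheme.{u}} (f : X ⟶ S)
    [LocallyOfFinitePresentation f] (n : ℕ) :
    IsRetrocompact {x : X | FlatMor.fibreDimAt f x ≤ n} := by
  intro K hKc hKo
  -- affine charts inside `K`
  have hchart : ∀ x ∈ K, ∃ (W : X.Opens) (V : S.Opens), IsAffineOpen W ∧ IsAffineOpen V ∧ x ∈ W ∧
      (W : Set X) ⊆ K ∧ W ≤ f ⁻¹ᵁ V := by
    intro x hx
    obtain ⟨_, ⟨V, hV, rfl⟩, hxV, -⟩ := S.isBasis_affineOpens.exists_subset_of_mem_open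
      (Set.mem_univ (f.base x)) isOpen_univ
    obtain ⟨_, ⟨W, hW, rfl⟩, hxW, hWsub⟩ := X.isBasis_affineOpens.exists_subset_of_mem_open
      (⟨hx, hxV⟩ : x ∈ K ∩ (f ⁻¹ᵁ V : Set X)) (hKo.inter (f ⁻¹ᵁ V).2)
    exact ⟨W, V, hW, hV, hxW, fun z hz => (hWsub hz).1, fun z hz => (hWsub hz).2⟩
  choose! W V hW hV hxW hWK hWV using hchart
  obtain ⟨t, htcov⟩ := hKc.elim_nhds_subcover' (fun x hx => (W x : Set X))
    (fun x hx => (W x).2.mem_nhds (hxW x hx))
  have hpiece : ∀ x : K, IsCompact ({z : X | FlatMor.fibreDimAt f z ≤ n} ∩ (W x : Set X)) := by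
    intro x
    have hφ : (f.appLE (V x) (W x) (hWV x x.2)).hom.FinitePresentation :=
      f.finitePresentation_appLE (hV x x.2) (hW x x.2) (hWV x x.2)
    have hc := isCompact_setOf_fibreDimAt_le_Spec (f.appLE (V x) (W x) (hWV x x.2)) hφ n
    have himg := hc.image (hW x x.2).fromSpec.continuous
    convert himg using 1
    ext z
    simp only [Set.mem_inter_iff, Set.mem_setOf_eq, Set.mem_image]
    constructor
    · rintro ⟨hz1, hz2⟩
      have hzr : z ∈ Set.range (hW x x.2).fromSpec.base := by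
        rw [(hW x x.2).range_fromSpec]; exact hz2
      obtain ⟨q, rfl⟩ := hzr
      refine ⟨q, ?_, rfl⟩
      rw [← fibreDimAt_fromSpec' f (hW x x.2) (hV x x.2) (hWV x x.2) q]
      exact hz1
    · rintro ⟨q, hq, rfl⟩
      refine ⟨?_, ?_⟩
      · rw [fibreDimAt_fromSpec' f (hW x x.2) (hV x x.2) (hWV x x.2) q]
        exact hq
      · have : (hW x x.2).fromSpec.base q ∈ Set.range (hW x x.2).fromSpec.base := ⟨q, rfl⟩
        rw [(hW x x.2).range_fromSpec] at this
        exact this
  have hunion : {z : X | FlatMor.fibreDimAt f z ≤ n} ∩ K =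
      ⋃ x ∈ t, ({z : X | FlatMor.fibreDimAt f z ≤ n} ∩ (W x : Set X)) := by
    ext z
    simp only [Set.mem_inter_iff, Set.mem_setOf_eq, Set.mem_iUnion, exists_prop]
    constructor
    · rintro ⟨hz1, hz2⟩
      obtain ⟨x, hxt, hzx⟩ := Set.mem_iUnion₂.mp (htcov hz2)
      exact ⟨x, hxt, hz1, hzx⟩
    · rintro ⟨x, hxt, hz1, hzx⟩
      exact ⟨hz1, hWK x x.2 hzx⟩
  rw [hunion]
  exact t.finite_toSet.isCompact_biUnion (fun x _ => hpiece x)

end Groth.Agent.Lib.Helper12.FibreDimFP
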