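import Mathlib
import Groth.Agent.Lib.Helper12.FibreDimFP
import Groth.Agent.Lib.Helper12.FibreDimConstr

/-! Constructibility of the fibre dimension on the target, for morphisms of finite presentation. -/

set_option autoImplicit false
universe u
open AlgebraicGeometry CategoryTheory TopologicalSpace Limits Topology

namespace Groth.Agent.Lib.Helper12.FibreDimFP

open Groth.Agent.Lib.Helper12.ChevalleyCor Groth.Agent.Lib.Helper12.Chevalley
open Groth.Agent.Lib.Helper12.ConstrNhds Groth.Agent.Lib.Helper12.FibreDimConstr

variable {X Y : Scheme.{u}} (f : X ⟶ Y)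

theorem isLocallyConstructible_setOf_le_dim_fiber_fp [LocallyOfFinitePresentation f]
    [QuasiCompact f] (n : ℕ) :
    IsLocallyConstructible {y : Y | (n : WithBot ℕ∞) ≤ topologicalKrullDim (f.fiber y)} := by
  rcases n with _ | m
  · have : {y : Y | ((0 : ℕ) : WithBot ℕ∞) ≤ topologicalKrullDim (f.fiber y)} =
        f.base '' Set.univ := by
      ext y
      simp only [Set.mem_setOf_eq, Nat.cast_zero, Set.image_univ]
      exact zero_le_dim_fiber_iff f y
    rw [this]
    exact f.isLocallyConstructible_image IsLocallyConstructible.univ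
  · have hop := isOpen_setOf_fibreDimAt_le f m
    have hretro := isRetrocompact_setOf_fibreDimAt_le f m
    have hlc := isLocallyConstructible_compl (hretro.isLocallyConstructible hop)
    have : {y : Y | ((m + 1 : ℕ) : WithBot ℕ∞) ≤ topologicalKrullDim (f.fiber y)} =
        f.base '' {x : X | FlatMor.fibreDimAt f x ≤ m}ᶜ := by
      ext y
      simp only [Set.mem_setOf_eq, Set.mem_image, Set.mem_compl_iff]
      rw [succ_le_iff_not_le, dim_fiber_le_iff]
      push Not
      constructor
      · rintro ⟨x, hx, h⟩
        exact ⟨x, h, hx⟩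
      · rintro ⟨x, h, hx⟩
        exact ⟨x, hx, h⟩
    rw [this]
    exact f.isLocallyConstructible_image hlc

theorem isLocallyConstructible_setOf_dim_fiber_eq_fp [LocallyOfFinitePresentation f]
    [QuasiCompact f] (n : WithBot ℕ∞) :
    IsLocallyConstructible {y : Y | topologicalKrullDim (f.fiber y) = n} := by
  rcases ProductDim.withBot_enat_cases n with hn | hn | ⟨k, hn⟩
  · have : {y : Y | topologicalKrullDim (f.fiber y) = n} =
        {y : Y | ((0 : ℕ) : WithBot ℕ∞) ≤ topologicalKrullDim (f.fiber y)}ᶜ := by
      ext y
      simp only [Set.mem_setOf_eq, Set.mem_compl_iff, hn, Nat.cast_zero]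
      constructor
      · intro h; rw [h]; simp
      · intro h
        rcases ProductDim.withBot_enat_cases (topologicalKrullDim (f.fiber y)) with h1 | h1 | ⟨j, h1⟩
        · exact h1
        · rw [h1] at h; exact absurd le_top h
        · rw [h1] at h
          exact absurd (by exact_mod_cast Nat.zero_le j) h
    rw [this]
    exact isLocallyConstructible_compl (isLocallyConstructible_setOf_le_dim_fiber_fp f 0)
  · have : {y : Y | topologicalKrullDim (f.fiber y) = n} = ∅ := by
      rw [Set.eq_empty_iff_forall_notMem]
      intro y hy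
      obtain ⟨m, hm⟩ := exists_dim_fiber_le_pt f y
      rw [Set.mem_setOf_eq] at hy
      rw [hy, hn] at hm
      exact absurd hm (by
        rw [not_le]
        exact WithBot.coe_lt_coe.mpr (ENat.coe_lt_top m))
    rw [this]
    exact IsLocallyConstructible.empty
  · have : {y : Y | topologicalKrullDim (f.fiber y) = n} =
        {y : Y | ((k : ℕ) : WithBot ℕ∞) ≤ topologicalKrullDim (f.fiber y)} ∩
          {y : Y | ((k + 1 : ℕ) : WithBot ℕ∞) ≤ topologicalKrullDim (f.fiber y)}ᶜ := by
      ext y
      simp only [Set.mem_setOf_eq, Set.mem_inter_iff, Set.mem_compl_iff, hn]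
      rw [succ_le_iff_not_le, not_not]
      constructor
      · intro h; rw [h]; exact ⟨le_rfl, le_rfl⟩
      · rintro ⟨h1, h2⟩; exact le_antisymm h2 h1
    rw [this]
    exact (isLocallyConstructible_setOf_le_dim_fiber_fp f k).inter
      (isLocallyConstructible_compl (isLocallyConstructible_setOf_le_dim_fiber_fp f (k + 1)))

end Groth.Agent.Lib.Helper12.FibreDimFP
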