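import Mathlib
import Groth.Prelude.Def_EGA4Misc
import Groth.Agent.Lib.Helper12.ConstrNhds
import Groth.Agent.Lib.Helper12.FibreDimBC
import Groth.Agent.Lib.Helper12.FibreDimFP2

/-!
# Basic tools for constructible properties of algebraic schemes (EGA IV 9.2)
-/

set_option autoImplicit false
universe u
open AlgebraicGeometry CategoryTheory TopologicalSpace Topology Limits

namespace Groth.Agent.Lib.Helper12.ConsPropBasic

open Groth.Agent.Lib.Helper12.ConstrNhds

/-- A locally constructible subset of an irreducible scheme containing the generic point contains
a nonempty open subset. -/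
theorem interior_nonempty_of_genericPoint_mem {S : Scheme.{u}} [IrreducibleSpace S] (E : Set S)
    (hE : IsLocallyConstructible E) (h : genericPoint S ∈ E) : (interior E).Nonempty := by
  have hgen : ∀ z : S, z ⤳ genericPoint S → z = genericPoint S := by
    intro z hz
    have h2 : genericPoint S ⤳ z := genericPoint_specializes z
    exact (hz.antisymm h2).eq
  have hnhds := mem_nhds_of_isLocallyConstructible E hE (genericPoint S)
    (fun z hz => (hgen z hz) ▸ h)
  exact ⟨genericPoint S, mem_interior_iff_mem_nhds.mpr hnhds⟩

/-- A locally constructible subset of an irreducible scheme, or its complement, contains a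
nonempty open subset. -/
theorem interior_nonempty_or {S : Scheme.{u}} [IrreducibleSpace S] (E : Set S)
    (hE : IsLocallyConstructible E) : (interior E).Nonempty ∨ (interior Eᶜ).Nonempty := by
  by_cases h : genericPoint S ∈ E
  · exact Or.inl (interior_nonempty_of_genericPoint_mem E hE h)
  · exact Or.inr (interior_nonempty_of_genericPoint_mem Eᶜ (isLocallyConstructible_compl hE) h)

/-- Over a one-point base the fibre is the whole space. -/
theorem dim_fiber_eq_of_subsingleton {Y T : Scheme.{u}} [Subsingleton T] (g : Y ⟶ T) (t : T) :
    topologicalKrullDim (g.fiber t) = topologicalKrullDim Y := by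
  have h1 : (g ⁻¹' {t} : Set Y) = Set.univ := by
    ext y
    simp only [Set.mem_preimage, Set.mem_singleton_iff, Set.mem_univ, iff_true]
    exact Subsingleton.elim _ _
  rw [(g.fiberHomeo t).isHomeomorph.topologicalKrullDim_eq, h1]
  exact (Homeomorph.Set.univ Y).isHomeomorph.topologicalKrullDim_eq

end Groth.Agent.Lib.Helper12.ConsPropBasic
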