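import Mathlib
import Groth.Agent.Lib.Helper12.Equidim
import Groth.Agent.Lib.Helper12.EquidimSub
import Groth.Agent.Lib.Helper12.ClosedSub
import Groth.Agent.Lib.Helper12.ChevalleyCor
import Groth.Agent.Lib.Helper12.FibreRes

/-!
# Helper library (helper12): dimension of the fibres of a flat morphism

Going-down for flat morphisms on the level of schemes, and the equidimensionality criterion for
flat morphisms of schemes locally of finite type over a field.
-/

set_option autoImplicit false
universe u
open AlgebraicGeometry CategoryTheory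

namespace Groth.Agent.Lib.Helper12.FlatDim

open Groth.Agent.Lib.Helper12 Groth.Agent.Lib.Helper12.SchemeDimFT
  Groth.Agent.Lib.Helper12.SchemeDimIneq Groth.Agent.Lib.Helper12.Equidim

section GoingDown

variable {X Y : Scheme.{u}} (f : X ⟶ Y)

/-- Going-down for a flat morphism: `dim O_{Y,f x} ≤ dim O_{X,x}`. -/
theorem ringKrullDim_stalk_le_of_flat [Flat f] (x : X) :
    ringKrullDim (Y.presheaf.stalk (f x)) ≤ ringKrullDim (X.presheaf.stalk x) := by
  rw [ringKrullDim_stalk_eq_coheight, ringKrullDim_stalk_eq_coheight]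
  have hg : GeneralizingMap f := Flat.generalizingMap f
  have key := OrdTools.coheight_apply_le_of_lift (fun a : X => f a) (fun a b hab => by
    have hb : b ⤳ f a := hab.le
    obtain ⟨a', ha', rfl⟩ := hg hb
    refine ⟨a', lt_iff_le_not_ge.mpr ⟨ha', fun h => ?_⟩, rfl⟩
    have h' : a ⤳ a' := h
    exact (lt_iff_le_not_ge.mp hab).2 (h'.map f.continuous)) x
  exact_mod_cast key

/-- A flat morphism maps maximal points to maximal points. -/
theorem isMaxPt_apply_of_flat [Flat f] (η : X) (hη : IsMaxPt η) : IsMaxPt (f η) := by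
  intro y hy
  obtain ⟨a', ha', rfl⟩ := Flat.generalizingMap f hy
  rw [hη a' ha']

/-- Chevalley: along a specialization to a point which is maximal in its fibre, the relative
transcendence degree does not drop. -/
theorem trn_le_of_fibre_max [LocallyOfFiniteType f] (x η : X) (hgen : η ⤳ x)
    (hx : ∀ w : X, w ⤳ x → f w = f x → w = x) : trn f η ≤ trn f x := by
  obtain ⟨x₀, hx₀⟩ := ClosedSub.exists_clSubι_eq X η x hgen
  have h1 := ChevalleyCor.dim_generic_fiber_le_fibreDimAt (ClosedSub.clSubι X η ≫ f) x₀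
  rw [SchemeDimIneq.dim_generic_fiber_eq_trn (ClosedSub.clSubι X η ≫ f)] at h1
  obtain ⟨z, hz1, hz2, hz3⟩ :=
    ClosedSub.exists_generization_trn_eq_fibreDimAt (ClosedSub.clSubι X η ≫ f) x₀
  have hzx : z = x₀ := by
    apply (ClosedSub.clSubι X η).isEmbedding.injective
    rw [hx₀]
    apply hx
    · rw [← hx₀]; exact hz2.map (ClosedSub.clSubι X η).continuous
    · rw [← hx₀]; exact hz1
  rw [hzx] at hz3
  have h2 : trn (ClosedSub.clSubι X η ≫ f) (genericPoint _) ≤
      trn (ClosedSub.clSubι X η ≫ f) x₀ := by exact_mod_cast h1.trans hz3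
  rw [ClosedSub.trn_comp_preimmersion, ClosedSub.trn_comp_preimmersion,
    ClosedSub.clSubι_genericPoint, hx₀] at h2
  exact h2

end GoingDown

section OverField

variable (k : Type u) [Field k] {X Y : Scheme.{u}} (qY : Y ⟶ Spec (CommRingCat.of k))
  [LocallyOfFiniteType qY] (f : X ⟶ Y) [LocallyOfFiniteType f]

/-- Additivity of `tr` along a morphism. -/
theorem tr_eq_add_trn (x : X) :
    letI : Y.Over (Spec (CommRingCat.of k)) := ⟨qY⟩
    letI : X.Over (Spec (CommRingCat.of k)) := ⟨f ≫ qY⟩
    haveI : LocallyOfFiniteType (Y ↘ Spec (CommRingCat.of k)) := ‹LocallyOfFiniteType qY›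
    haveI : LocallyOfFiniteType (X ↘ Spec (CommRingCat.of k)) :=
      inferInstanceAs (LocallyOfFiniteType (f ≫ qY))
    ((tr k X x : ℕ) : ℕ∞) = ((tr k Y (f x) : ℕ) : ℕ∞) + trn f x := by
  letI : Y.Over (Spec (CommRingCat.of k)) := ⟨qY⟩
  letI : X.Over (Spec (CommRingCat.of k)) := ⟨f ≫ qY⟩
  haveI : LocallyOfFiniteType (Y ↘ Spec (CommRingCat.of k)) := ‹LocallyOfFiniteType qY›
  haveI : LocallyOfFiniteType (X ↘ Spec (CommRingCat.of k)) :=
    inferInstanceAs (LocallyOfFiniteType (f ≫ qY))
  have h1 := FibreRes.tr_fiber_add k qY f (f x) (f.asFiber x)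
  rw [f.fiberι_asFiber x] at h1
  rw [trn_eq_tr f x, h1]
  push_cast
  rfl

include k qY in
/-- For a flat morphism of schemes locally of finite type over a field with equidimensional
target, the source is equidimensional iff all fibres are. -/
theorem equidim_iff_fibres [Flat f] (d n : ℕ)
    (hY : ∀ Z ∈ irreducibleComponents (Y : Type u), topologicalKrullDim Z = (d : WithBot ℕ∞)) :
    (∀ Z ∈ irreducibleComponents (X : Type u),
        topologicalKrullDim Z = ((d + n : ℕ) : WithBot ℕ∞)) ↔
      ∀ (y : Y), ∀ Z ∈ irreducibleComponents (f.fiber y : Type u),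
        topologicalKrullDim Z = (n : WithBot ℕ∞) := by
  letI : Y.Over (Spec (CommRingCat.of k)) := ⟨qY⟩
  letI : X.Over (Spec (CommRingCat.of k)) := ⟨f ≫ qY⟩
  haveI : LocallyOfFiniteType (Y ↘ Spec (CommRingCat.of k)) := ‹LocallyOfFiniteType qY›
  haveI : LocallyOfFiniteType (X ↘ Spec (CommRingCat.of k)) :=
    inferInstanceAs (LocallyOfFiniteType (f ≫ qY))
  -- maximal points of `X` map to maximal points of `Y`, of transcendence degree `d`
  have hmaxY : ∀ η : X, IsMaxPt η → tr k Y (f η) = d := fun η hη =>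
    tr_eq_of_isMaxPt k Y d hY (f η) (isMaxPt_apply_of_flat f η hη)
  constructor
  · intro hX y Z hZ
    obtain ⟨x, hxy, hxmax, hdim⟩ := EquidimSub.exists_of_mem_irreducibleComponents_fiber f y Z hZ
    rw [hdim]
    subst hxy
    obtain ⟨t, ht⟩ := exists_trn_eq f x
    rw [ht]
    have hadd := tr_eq_add_trn k qY f x
    rw [ht] at hadd
    have hadd' : tr k X x = tr k Y (f x) + t := by exact_mod_cast hadd
    suffices h : t = n by rw [h]; rfl
    apply le_antisymm
    · -- going-down
      obtain ⟨a, ha⟩ := exists_ringKrullDim_stalk_eq k X x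
      obtain ⟨b, hb⟩ := exists_ringKrullDim_stalk_eq k Y (f x)
      have h1 := ringKrullDim_stalk_le_of_flat f x
      rw [ha, hb] at h1
      have h1' : b ≤ a := by exact_mod_cast h1
      have h2 := localDim_eq_of_equidim k X (d + n) hX x
      rw [localDim_eq k X x _ a (tr_spec k X x) ha] at h2
      have h2' : tr k X x + a = d + n := by exact_mod_cast h2
      have h3 := localDim_eq_of_equidim k Y d hY (f x)
      rw [localDim_eq k Y (f x) _ b (tr_spec k Y (f x)) hb] at h3
      have h3' : tr k Y (f x) + b = d := by exact_mod_cast h3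
      omega
    · -- Chevalley
      obtain ⟨η, hη1, hη2⟩ := exists_isMaxPt_specializes x
      have h1 := trn_le_of_fibre_max f x η hη2 (fun w hw hfw => hxmax w hfw hw)
      obtain ⟨s, hs⟩ := exists_trn_eq f η
      rw [hs, ht] at h1
      have h1' : s ≤ t := by exact_mod_cast h1
      have hadd2 := tr_eq_add_trn k qY f η
      rw [hs] at hadd2
      have hadd2' : tr k X η = tr k Y (f η) + s := by exact_mod_cast hadd2
      have h2 := tr_eq_of_isMaxPt k X (d + n) hX η hη1
      have h3 := hmaxY η hη1
      omega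
  · intro hfib Z hZ
    obtain ⟨η, hη, rfl⟩ := (mem_irreducibleComponents_iff Z).mp hZ
    rw [topologicalKrullDim_closure_singleton k X η]
    have h1 := trn_eq_of_isMaxPt f η hη n (hfib (f η))
    have hadd := tr_eq_add_trn k qY f η
    rw [h1] at hadd
    have hadd' : tr k X η = tr k Y (f η) + n := by exact_mod_cast hadd
    rw [hadd', hmaxY η hη]

end OverField

end Groth.Agent.Lib.Helper12.FlatDim
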