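import Mathlib
import Groth.Prelude.Def_Found
import Groth.Agent.Lib.Helper12.Equidim
import Groth.Agent.Lib.Helper12.JacDim
import Groth.Agent.Lib.Helper12.SchemeDimFT4
import Groth.Agent.Lib.Helper9.TopDim

/-!
# Helper library (helper12): dimension theory over Jacobson universally catenary bases, part 2
-/

set_option autoImplicit false
universe u v
open Polynomial Cardinal AlgebraicGeometry CategoryTheory

namespace Groth.Agent.Lib.Helper12.JacDim

open Groth.Agent.Lib.Helper12.OrdTools Groth.Agent.Lib.Helper12.DimIneq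
open Groth.Agent.Lib.Helper12 Groth.Agent.Lib.Helper12.SchemeDimFT
open Groth.Agent.Lib.Helper12.ChevalleyCor Groth.Agent.Lib.Helper12.SchemeDimIneq
open Groth.Agent.Lib.Helper14 Order Groth.Agent.Lib.Helper12.Equidim

section MaxNbhd

variable (X : Scheme.{u}) [IsLocallyNoetherian X]

/-- A maximal point of a locally Noetherian scheme has an open neighbourhood contained in its
closure. -/
theorem exists_open_subset_closure_of_isMaxPt' (η : X) (hη : IsMaxPt η) :
    ∃ D : Set X, IsOpen D ∧ η ∈ D ∧ D ⊆ closure {η} := by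
  obtain ⟨U, hU, hηU⟩ := exists_affineOpen_mem X η
  haveI : IsNoetherianRing Γ(X, U) := IsLocallyNoetherian.component_noetherian ⟨U, hU⟩
  set q := hU.primeIdealOf ⟨η, hηU⟩ with hq
  have hqmin : q.asIdeal ∈ minimalPrimes Γ(X, U) := by
    have h0 := (isMaxPt_iff_height_eq_zero hU ⟨η, hηU⟩).mp hη
    rw [Order.height_eq_zero] at h0
    refine ⟨⟨q.2, bot_le⟩, ?_⟩
    rintro P ⟨hPp, -⟩ hPle
    exact @h0 ⟨P, hPp⟩ hPle
  have hfin : (minimalPrimes Γ(X, U)).Finite := minimalPrimes.finite_of_isNoetherianRing _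
  have hex : ∀ P ∈ minimalPrimes Γ(X, U), P ≠ q.asIdeal → ∃ a ∈ P, a ∉ q.asIdeal := by
    intro P hP hne
    by_contra hcon
    push Not at hcon
    have hle : P ≤ q.asIdeal := hcon
    exact hne (le_antisymm hle (hqmin.2 hP.1 hle))
  classical
  let aP : Ideal Γ(X, U) → Γ(X, U) := fun P =>
    if h : P ∈ minimalPrimes Γ(X, U) ∧ P ≠ q.asIdeal then (hex P h.1 h.2).choose else 1
  let s := hfin.toFinset.filter (fun P => P ≠ q.asIdeal)
  let a := ∏ P ∈ s, aP P
  have ha_notin : a ∉ q.asIdeal := by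
    intro hmem
    obtain ⟨P, hPs, hPmem⟩ := (Ideal.IsPrime.prod_mem_iff.mp hmem)
    have hP : P ∈ minimalPrimes Γ(X, U) ∧ P ≠ q.asIdeal := by
      simpa [s] using hPs
    have : aP P = (hex P hP.1 hP.2).choose := dif_pos hP
    rw [this] at hPmem
    exact (hex P hP.1 hP.2).choose_spec.2 hPmem
  have ha_in : ∀ P ∈ minimalPrimes Γ(X, U), P ≠ q.asIdeal → a ∈ P := by
    intro P hP hne
    have hPs : P ∈ s := by simp [s, hP, hne]
    have h1 : aP P ∈ P := by
      have : aP P = (hex P hP hne).choose := dif_pos ⟨hP, hne⟩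
      rw [this]
      exact (hex P hP hne).choose_spec.1
    exact Ideal.prod_mem P hPs h1
  refine ⟨(X.basicOpen a : Set X), (X.basicOpen a).2, ?_, ?_⟩
  · rw [SetLike.mem_coe]
    exact (mem_basicOpen_iff_notMem_primeIdealOf hU ⟨η, hηU⟩ a).mpr ha_notin
  · intro y hy
    have hyU : y ∈ U := X.basicOpen_le a hy
    have hya : a ∉ (hU.primeIdealOf ⟨y, hyU⟩).asIdeal :=
      (mem_basicOpen_iff_notMem_primeIdealOf hU ⟨y, hyU⟩ a).mp hy
    obtain ⟨P, hP, hPle⟩ := Ideal.exists_minimalPrimes_le (I := (⊥ : Ideal Γ(X, U)))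
      (J := (hU.primeIdealOf ⟨y, hyU⟩).asIdeal) bot_le
    have hPq : P = q.asIdeal := by
      by_contra hne
      exact hya (hPle (ha_in P hP hne))
    rw [hPq] at hPle
    have hsp : η ⤳ y := (primeIdealOf_le_iff hU ⟨η, hηU⟩ ⟨y, hyU⟩).mp hPle
    exact specializes_iff_mem_closure.mp hsp

/-- A maximal point of a locally Noetherian scheme lies in every dense open subset. -/
theorem mem_of_isMaxPt_of_dense (η : X) (hη : IsMaxPt η) (U : Set X) (hU : IsOpen U)
    (hd : Dense U) : η ∈ U := by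
  obtain ⟨D, hD, hηD, hDsub⟩ := exists_open_subset_closure_of_isMaxPt' X η hη
  obtain ⟨z, hzD, hzU⟩ := hd.inter_open_nonempty D hD ⟨η, hηD⟩
  have hsp : η ⤳ z := specializes_iff_mem_closure.mpr (hDsub hzD)
  exact hsp.mem_open hU hzU

end MaxNbhd

section DenseOpen

variable (X : Scheme.{u}) [IsLocallyNoetherian X] [JacobsonSpace X]

omit [IsLocallyNoetherian X] [JacobsonSpace X] in
theorem krullDim_Icc_le_topologicalKrullDim_of_mem (U : X.Opens) (u0 σ : X) (hu0 : u0 ∈ U) :
    krullDim (Set.Icc u0 σ) ≤ topologicalKrullDim ↥(U : Set X) := by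
  have h1 : topologicalKrullDim ↥(U : Set X) = Order.krullDim (U.toScheme) :=
    topologicalKrullDim_eq_krullDim' U.toScheme
  rw [h1]
  refine Order.krullDim_le_of_strictMono
    (fun z : Set.Icc u0 σ => (⟨z.1, (z.2.1 : z.1 ⤳ u0).mem_open U.2 hu0⟩ : U.toScheme)) ?_
  intro a b hab
  have h2 : (a : X) < (b : X) := hab
  refine ⟨?_, fun h3 => h2.2 ?_⟩
  · exact (U.ι.isEmbedding.isInducing.specializes_iff).mp h2.1
  · exact h3.map U.ι.continuous

theorem dim_dense_open
    (h3 : ∀ X' ∈ irreducibleComponents (X : Type u), ∀ x ∈ X', IsClosed ({x} : Set X) →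
      topologicalKrullDim (↥X' : Type u) = topologicalKrullDim ↥{t : X | t ∈ X' ∧ t ⤳ x})
    (U : Set X) (hU : IsOpen U) (hd : Dense U) :
    topologicalKrullDim ↥U = topologicalKrullDim X := by
  apply le_antisymm (topologicalKrullDim_subspace_le X U)
  rw [Groth.Agent.Lib.Helper9.topologicalKrullDim_eq_iSup_irreducibleComponents]
  refine iSup₂_le fun X' hX' => ?_
  obtain ⟨σ, hσ, rfl⟩ := (mem_irreducibleComponents_iff X').mp hX'
  have hσU : σ ∈ U := mem_of_isMaxPt_of_dense X σ hσ U hU hd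
  obtain ⟨u0, ⟨hu0a, hu0U⟩, hu0c⟩ := nonempty_inter_closedPoints
    (Z := closure ({σ} : Set X) ∩ U) ⟨σ, subset_closure rfl, hσU⟩
    (isClosed_closure.isLocallyClosed.inter hU.isLocallyClosed)
  have hsp : σ ⤳ u0 := specializes_iff_mem_closure.mpr hu0a
  rw [h3 _ hX' u0 hu0a hu0c, topologicalKrullDim_generizations u0 σ hsp]
  exact krullDim_Icc_le_topologicalKrullDim_of_mem X ⟨U, hU⟩ u0 σ hu0U

end DenseOpen

end Groth.Agent.Lib.Helper12.JacDim
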