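import Mathlib
import Groth.Prelude.Def_Found
import Groth.Agent.Lib.Helper12.JacDim2
import Groth.Agent.Lib.Helper12.ClosedDim

/-!
# Helper library (helper12): local dimension of closed subsets of Jacobson universally catenary
schemes (EGA IV 10.6.2-type statements)
-/

set_option autoImplicit false
universe u v
open Polynomial Cardinal AlgebraicGeometry CategoryTheory

namespace Groth.Agent.Lib.Helper12.JacLocalDim

open Groth.Agent.Lib.Helper12.OrdTools Groth.Agent.Lib.Helper12.DimIneq
open Groth.Agent.Lib.Helper12 Groth.Agent.Lib.Helper12.SchemeDimFT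
open Groth.Agent.Lib.Helper12.ChevalleyCor Groth.Agent.Lib.Helper12.SchemeDimIneq
open Groth.Agent.Lib.Helper14 Order Groth.Agent.Lib.Helper12.Equidim
open Groth.Agent.Lib.Helper12.JacDim

section Ord

theorem krullDim_Iic_le_of_forall {α : Type*} [Preorder α] (x : α) (C : WithBot ℕ∞)
    (h : ∀ z ≤ x, ∃ z' ≤ z, Order.krullDim (Set.Icc z' x) ≤ C) :
    Order.krullDim (Set.Iic x) ≤ C := by
  unfold Order.krullDim
  refine iSup_le fun l => ?_
  obtain ⟨z', hz', hC⟩ := h l.head.1 l.head.2
  let l' : LTSeries (Set.Icc z' x) :=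
    { length := l.length
      toFun := fun i => ⟨(l i).1, hz'.trans (l.head_le i), (l i).2⟩
      step := fun i => l.step i }
  exact (Order.LTSeries.length_le_krullDim l').trans hC

theorem krullDim_Icc_le_Iic {α : Type*} [Preorder α] (z x : α) :
    Order.krullDim (Set.Icc z x) ≤ Order.krullDim (Set.Iic x) :=
  Order.krullDim_le_of_strictMono (fun w : Set.Icc z x => (⟨w.1, w.2.2⟩ : Set.Iic x))
    (fun _ _ h => h)

end Ord

section Top

variable {T : Type*} [TopologicalSpace T]

/-- In a quasi-sober space, a point with a Noetherian open neighbourhood has an open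
neighbourhood all of whose maximal points specialize to it. -/
theorem exists_open_maxPts_specialize_top [QuasiSober T] (x : T) (U₀ : Set T) (hU₀ : IsOpen U₀)
    (hx : x ∈ U₀) [TopologicalSpace.NoetherianSpace ↥U₀] :
    ∃ W : Set T, IsOpen W ∧ x ∈ W ∧ ∀ η ∈ W, (∀ z : T, z ⤳ η → z = η) → η ⤳ x := by
  haveI : QuasiSober ↥U₀ := hU₀.isOpenEmbedding_subtypeVal.quasiSober
  let x' : ↥U₀ := ⟨x, hx⟩
  let Bad : Set (Set ↥U₀) := {Z | Z ∈ irreducibleComponents ↥U₀ ∧ x' ∉ Z}
  have hfin : Bad.Finite :=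
    (TopologicalSpace.NoetherianSpace.finite_irreducibleComponents (α := ↥U₀)).subset
      (fun Z hZ => hZ.1)
  have hcl : IsClosed (⋃ Z ∈ Bad, Z) :=
    hfin.isClosed_biUnion (fun Z hZ => isClosed_of_mem_irreducibleComponents Z hZ.1)
  refine ⟨Subtype.val '' (⋃ Z ∈ Bad, Z)ᶜ, hU₀.isOpenMap_subtype_val _ hcl.isOpen_compl,
    ⟨x', ?_, rfl⟩, ?_⟩
  · intro hmem
    simp only [Set.mem_iUnion, exists_prop] at hmem
    obtain ⟨Z, hZ, hxZ⟩ := hmem
    exact hZ.2 hxZ
  · rintro _ ⟨η', hη', rfl⟩ hmax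
    have hZ : irreducibleComponent η' ∈ irreducibleComponents ↥U₀ :=
      irreducibleComponent_mem_irreducibleComponents η'
    have hxZ : x' ∈ irreducibleComponent η' := by
      by_contra hne
      apply hη'
      simp only [Set.mem_iUnion, exists_prop]
      exact ⟨irreducibleComponent η', ⟨hZ, hne⟩, mem_irreducibleComponent⟩
    obtain ⟨ζ, hζ⟩ := QuasiSober.sober hZ.1
      (isClosed_of_mem_irreducibleComponents (irreducibleComponent η') hZ)
    have h1 : ζ ⤳ η' := hζ.specializes mem_irreducibleComponent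
    have h2 : ζ.1 ⤳ η'.1 := h1.map continuous_subtype_val
    have h3 := hmax ζ.1 h2
    have h4 : ζ ⤳ x' := hζ.specializes hxZ
    have h5 : ζ.1 ⤳ x := h4.map continuous_subtype_val
    rw [h3] at h5
    exact h5

theorem exists_max_generization_top [QuasiSober T] [T0Space T] (t : T) :
    ∃ η : T, (∀ z : T, z ⤳ η → z = η) ∧ η ⤳ t := by
  have h1 := irreducibleComponent_mem_irreducibleComponents t
  obtain ⟨ξ, hξ⟩ := QuasiSober.sober (isIrreducible_irreducibleComponent (x := t))
    isClosed_irreducibleComponent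
  refine ⟨ξ, ?_, ?_⟩
  · apply (closure_singleton_mem_irreducibleComponents_iff ξ).mp
    rw [hξ.def]; exact h1
  · rw [specializes_iff_mem_closure, hξ.def]
    exact mem_irreducibleComponent

theorem mem_irreducibleComponents_iff_top [QuasiSober T] [T0Space T] (C : Set T) :
    C ∈ irreducibleComponents T ↔ ∃ η : T, (∀ z : T, z ⤳ η → z = η) ∧ C = closure {η} := by
  constructor
  · intro hT
    obtain ⟨η, hη⟩ := QuasiSober.sober hT.1 (isClosed_of_mem_irreducibleComponents C hT)
    have h1 : C = closure {η} := hη.def.symm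
    refine ⟨η, ?_, h1⟩
    rw [h1] at hT
    exact (closure_singleton_mem_irreducibleComponents_iff η).mp hT
  · rintro ⟨η, hη, rfl⟩
    exact (closure_singleton_mem_irreducibleComponents_iff η).mpr hη

/-- The dimension of a subset of a subspace. -/
theorem dim_preimage_val (Y S : Set T) (hSY : S ⊆ Y) :
    topologicalKrullDim ↥(Subtype.val ⁻¹' S : Set ↥Y) = topologicalKrullDim ↥S := by
  let φ : ↥(Subtype.val ⁻¹' S : Set ↥Y) → T := fun c => c.1.1
  have hφ : Topology.IsEmbedding φ :=
    Topology.IsEmbedding.subtypeVal.comp Topology.IsEmbedding.subtypeVal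
  have hrange : Set.range φ = S := by
    ext t
    constructor
    · rintro ⟨c, rfl⟩
      exact c.2
    · intro ht
      exact ⟨⟨⟨t, hSY ht⟩, ht⟩, rfl⟩
  have e1 : ↥(Subtype.val ⁻¹' S : Set ↥Y) ≃ₜ Set.range φ := hφ.toHomeomorph
  have h := IsHomeomorph.topologicalKrullDim_eq e1 e1.isHomeomorph
  rw [h, hrange]

/-- The dimension of an open subset of a subspace. -/
theorem dim_open_subspace (Y : Set T) (W : Set ↥Y) (U' : Set T) (hW : Subtype.val ⁻¹' U' = W) :
    topologicalKrullDim ↥W = topologicalKrullDim ↥(U' ∩ Y) := by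
  subst hW
  have : (Subtype.val ⁻¹' U' : Set ↥Y) = Subtype.val ⁻¹' (U' ∩ Y) := by
    ext c
    simp only [Set.mem_preimage, Set.mem_inter_iff, c.2, and_true]
  rw [this]
  exact dim_preimage_val Y (U' ∩ Y) Set.inter_subset_right

/-- The closure of a point in a closed subspace. -/
theorem dim_component_eq (Y : Set T) (hY : IsClosed Y) (η : ↥Y) :
    topologicalKrullDim ↥(closure ({η} : Set ↥Y)) =
      topologicalKrullDim ↥(closure ({η.1} : Set T)) := by
  have h1 : closure ({η} : Set ↥Y) = Subtype.val ⁻¹' closure ({η.1} : Set T) := by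
    rw [Topology.IsInducing.subtypeVal.closure_eq_preimage_closure_image, Set.image_singleton]
  rw [h1]
  exact dim_preimage_val Y _
    (hY.closure_subset_iff.mpr (Set.singleton_subset_iff.mpr η.2))

/-- A subspace of a space has a Noetherian neighbourhood wherever the space has one. -/
theorem noetherianSpace_preimage_val (Y U₀ : Set T) [TopologicalSpace.NoetherianSpace ↥U₀] :
    TopologicalSpace.NoetherianSpace ↥(Subtype.val ⁻¹' U₀ : Set ↥Y) := by
  let i : ↥(Subtype.val ⁻¹' U₀ : Set ↥Y) → ↥U₀ := fun c => ⟨c.1.1, c.2⟩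
  have h0 : Topology.IsInducing (fun c : ↥(Subtype.val ⁻¹' U₀ : Set ↥Y) => c.1.1) :=
    Topology.IsInducing.subtypeVal.comp Topology.IsInducing.subtypeVal
  have h1 : Topology.IsInducing ((Subtype.val : ↥U₀ → T) ∘ i) := h0
  exact ((Topology.IsInducing.subtypeVal.of_comp_iff).mp h1).noetherianSpace

end Top

section Sch

variable {X : Scheme.{u}}

theorem topologicalKrullDim_eq_krullDim_of_quasiSober (T : Set X) [QuasiSober ↥T] :
    topologicalKrullDim ↥T = Order.krullDim ↥T := by
  let e0 : @OrderIso (TopologicalSpace.IrreducibleCloseds ↥T) ↥T _ (specializationOrder ↥T).toLE :=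
    @irreducibleSetEquivPoints ↥T _ _ _
  let e : TopologicalSpace.IrreducibleCloseds ↥T ≃o ↥T :=
    { toEquiv := e0.toEquiv
      map_rel_iff' := by
        intro a b
        have h1 := e0.map_rel_iff (a := a) (b := b)
        refine Iff.trans ?_ h1
        exact (subtype_specializes_iff (e0 b) (e0 a)).symm }
  exact Order.krullDim_eq_of_orderIso e

theorem topologicalKrullDim_closure_eq_Iic (τ : X) :
    topologicalKrullDim ↥(closure ({τ} : Set X)) = Order.krullDim (Set.Iic τ) := by
  rw [ClosedDim.topologicalKrullDim_eq_krullDim_of_isLocallyClosed _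
    isClosed_closure.isLocallyClosed]
  have : closure ({τ} : Set X) = Set.Iic τ := by
    ext t
    rw [← specializes_iff_mem_closure]
    rfl
  rw [this]

/-- Maximal points of a closed subset above a given point. -/
theorem exists_max_in_closed (Y : Set X) (hY : IsClosed Y) (t : X) (ht : t ∈ Y) :
    ∃ η ∈ Y, (∀ z ∈ Y, z ⤳ η → z = η) ∧ η ⤳ t := by
  haveI : QuasiSober ↥Y := hY.isClosedEmbedding_subtypeVal.quasiSober
  obtain ⟨η, hη1, hη2⟩ := exists_max_generization_top (T := ↥Y) ⟨t, ht⟩
  refine ⟨η.1, η.2, ?_, (subtype_specializes_iff η ⟨t, ht⟩).mp hη2⟩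
  intro z hz hzη
  have := hη1 ⟨z, hz⟩ ((subtype_specializes_iff (⟨z, hz⟩ : ↥Y) η).mpr hzη)
  exact congrArg Subtype.val this

/-- The dimension of a locally closed piece of a closed subset is bounded by the dimensions of
the closures of the maximal points it contains. -/
theorem dim_inter_le (Y : Set X) (hY : IsClosed Y) (U : Set X) (hU : IsOpen U) (C : WithBot ℕ∞)
    (h : ∀ η ∈ U ∩ Y, (∀ z ∈ Y, z ⤳ η → z = η) →
      topologicalKrullDim ↥(closure ({η} : Set X)) ≤ C) :
    topologicalKrullDim ↥(U ∩ Y) ≤ C := by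
  rw [ClosedDim.topologicalKrullDim_eq_krullDim_of_isLocallyClosed _
    (hU.isLocallyClosed.inter hY.isLocallyClosed)]
  unfold Order.krullDim
  refine iSup_le fun l => ?_
  obtain ⟨η, hηY, hηmax, hηt⟩ := exists_max_in_closed Y hY l.last.1 l.last.2.2
  have hηU : η ∈ U := hηt.mem_open hU l.last.2.1
  have h1 := h η ⟨hηU, hηY⟩ hηmax
  rw [topologicalKrullDim_closure_eq_Iic] at h1
  let l' : LTSeries (Set.Iic η) :=
    { length := l.length
      toFun := fun i => ⟨(l i).1, le_trans (show (l i).1 ≤ l.last.1 from l.monotone (Fin.le_last i))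
        hηt⟩
      step := fun i => l.step i }
  exact (Order.LTSeries.length_le_krullDim l').trans h1

/-- The space of generizations of a point inside a closed subset is quasi-sober. -/
theorem quasiSober_generizations (Y : Set X) (hY : IsClosed Y) (x : X) :
    QuasiSober ↥{t : X | t ∈ Y ∧ t ⤳ x} := by
  have hZ : IsClosed ((X.fromSpecStalk x) ⁻¹' Y) := hY.preimage (X.fromSpecStalk x).continuous
  let φ : ↥((X.fromSpecStalk x) ⁻¹' Y) → X := fun p => (X.fromSpecStalk x) p.1
  have hφ : Topology.IsEmbedding φ :=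
    (X.fromSpecStalk x).isEmbedding.comp Topology.IsEmbedding.subtypeVal
  have hrange : Set.range φ = {t : X | t ∈ Y ∧ t ⤳ x} := by
    ext t
    constructor
    · rintro ⟨p, rfl⟩
      refine ⟨p.2, ?_⟩
      have : φ p ∈ Set.range (X.fromSpecStalk x) := ⟨_, rfl⟩
      rw [Scheme.range_fromSpecStalk] at this
      exact this
    · rintro ⟨ht1, ht2⟩
      obtain ⟨p, rfl⟩ : t ∈ Set.range (X.fromSpecStalk x) := by
        rw [Scheme.range_fromSpecStalk]; exact ht2
      exact ⟨⟨p, ht1⟩, rfl⟩
  haveI : QuasiSober ↥((X.fromSpecStalk x) ⁻¹' Y) := hZ.isClosedEmbedding_subtypeVal.quasiSober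
  have e1 : ↥((X.fromSpecStalk x) ⁻¹' Y) ≃ₜ Set.range φ := hφ.toHomeomorph
  have h2 : QuasiSober (Set.range φ) := e1.symm.isClosedEmbedding.quasiSober
  rw [hrange] at h2
  exact h2

variable [IsLocallyNoetherian X] [JacobsonSpace X]

omit [JacobsonSpace X] in
/-- Every point of a closed subset of a locally Noetherian scheme has an open neighbourhood all
of whose points which are maximal in the closed subset specialize to the point. -/
theorem exists_open_maxPts_specialize_closed (Y : Set X) (hY : IsClosed Y) (x : X) (hx : x ∈ Y) :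
    ∃ U : Set X, IsOpen U ∧ x ∈ U ∧
      ∀ η ∈ U ∩ Y, (∀ z ∈ Y, z ⤳ η → z = η) → η ⤳ x := by
  obtain ⟨U₀, hU₀, hxU₀⟩ := exists_affineOpen_mem X x
  haveI : IsNoetherianRing Γ(X, U₀) := IsLocallyNoetherian.component_noetherian ⟨U₀, hU₀⟩
  haveI : TopologicalSpace.NoetherianSpace ↥(U₀ : Set X) := noetherianSpace_of_isAffineOpen U₀ hU₀
  haveI := noetherianSpace_preimage_val Y (U₀ : Set X)
  haveI : QuasiSober ↥Y := hY.isClosedEmbedding_subtypeVal.quasiSober
  obtain ⟨W, hW, hxW, hWmax⟩ := exists_open_maxPts_specialize_top (T := ↥Y) ⟨x, hx⟩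
    (Subtype.val ⁻¹' (U₀ : Set X)) (U₀.2.preimage continuous_subtype_val) hxU₀
  obtain ⟨U', hU', hWU'⟩ := isOpen_induced_iff.mp hW
  refine ⟨U', hU', ?_, ?_⟩
  · have : (⟨x, hx⟩ : ↥Y) ∈ Subtype.val ⁻¹' U' := by rw [hWU']; exact hxW
    exact this
  · rintro η ⟨hηU', hηY⟩ hmax
    have h1 : (⟨η, hηY⟩ : ↥Y) ∈ W := by rw [← hWU']; exact hηU'
    have h2 := hWmax ⟨η, hηY⟩ h1 (fun z hz =>
      Subtype.ext (hmax z.1 z.2 ((subtype_specializes_iff z ⟨η, hηY⟩).mp hz)))
    exact (subtype_specializes_iff _ _).mp h2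

omit [IsLocallyNoetherian X] in
theorem exists_closed_specialization_open (U : Set X) (hU : IsOpen U) (z : X) (hz : z ∈ U) :
    ∃ s0 ∈ U, IsClosed ({s0} : Set X) ∧ z ⤳ s0 := by
  obtain ⟨s0, ⟨hs1, hs2⟩, hs3⟩ := nonempty_inter_closedPoints
    (Z := closure ({z} : Set X) ∩ U) ⟨z, subset_closure rfl, hz⟩
    (isClosed_closure.isLocallyClosed.inter hU.isLocallyClosed)
  exact ⟨s0, hs2, hs3, specializes_iff_mem_closure.mpr hs1⟩

section Cat

variable (hcat : ∀ x : X, CAlg.IsCatenary (X.presheaf.stalk x))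
  (h3 : ∀ X' ∈ irreducibleComponents (X : Type u), ∀ x ∈ X', IsClosed ({x} : Set X) →
      topologicalKrullDim (↥X' : Type u) = topologicalKrullDim ↥{t : X | t ∈ X' ∧ t ⤳ x})

include hcat h3

omit [JacobsonSpace X] in
/-- The codimension of `closure {τ}` at its closed points is constant, if the irreducible
components are equicodimensional and the local rings are catenary. -/
theorem exists_const_krullDim_Icc' (τ : X) :
    ∃ c : ℕ, ∀ s0 : X, IsClosed ({s0} : Set X) → τ ⤳ s0 → krullDim (Set.Icc s0 τ) = c := by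
  obtain ⟨σ, hσ1, hσ2⟩ := exists_maximal_generization τ
  obtain ⟨m, hm⟩ := exists_nat_krullDim_Icc (a := τ) (b := σ) hσ2
  have key : ∀ s0 : X, IsClosed ({s0} : Set X) → τ ⤳ s0 →
      topologicalKrullDim (↥(closure ({σ} : Set X)) : Type u) =
        krullDim (Set.Icc s0 τ) + (m : WithBot ℕ∞) := by
    intro s0 hs0 hτ
    have hσs : σ ⤳ s0 := hσ2.trans hτ
    rw [h3 _ hσ1 s0 (specializes_iff_mem_closure.mp hσs) hs0,
      topologicalKrullDim_generizations s0 σ hσs]
    rw [krullDim_Icc_add s0 τ σ hτ hσ2 (hcat s0), hm]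
  by_cases hex : ∃ s1 : X, IsClosed ({s1} : Set X) ∧ τ ⤳ s1
  · obtain ⟨s1, hs1, hτ1⟩ := hex
    obtain ⟨c, hc⟩ := exists_nat_krullDim_Icc (a := s1) (b := τ) hτ1
    refine ⟨c, fun s0 hs0 hτ0 => ?_⟩
    obtain ⟨c', hc'⟩ := exists_nat_krullDim_Icc (a := s0) (b := τ) hτ0
    have e1 := key s1 hs1 hτ1
    have e0 := key s0 hs0 hτ0
    rw [e1, hc, hc'] at e0
    have : c + m = c' + m := by exact_mod_cast e0
    rw [hc']
    have : c' = c := by omega
    rw [this]
  · refine ⟨0, fun s0 hs0 hτ0 => absurd ⟨s0, hs0, hτ0⟩ hex⟩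

/-- The dimension of the closure of a point is the codimension of any of its closed points. -/
theorem dim_closure_eq' (τ s0 : X) (hs0 : IsClosed ({s0} : Set X)) (hτ : τ ⤳ s0) :
    topologicalKrullDim ↥(closure ({τ} : Set X)) = krullDim (Set.Icc s0 τ) := by
  obtain ⟨c, hc⟩ := exists_const_krullDim_Icc' hcat h3 τ
  rw [topologicalKrullDim_closure_eq_Iic]
  apply le_antisymm
  · apply krullDim_Iic_le_of_forall
    intro z hz
    obtain ⟨s1, -, hs1, hzs1⟩ := exists_closed_specialization_open Set.univ isOpen_univ z trivial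
    refine ⟨s1, hzs1, ?_⟩
    rw [hc s1 hs1 (Specializes.trans hz hzs1), hc s0 hs0 hτ]
  · exact krullDim_Icc_le_Iic s0 τ

/-- Additivity of the dimensions of closures along a specialization. -/
theorem dim_closure_add' (x η : X) (h : η ⤳ x) :
    topologicalKrullDim ↥(closure ({η} : Set X)) =
      topologicalKrullDim ↥(closure ({x} : Set X)) + krullDim (Set.Icc x η) := by
  obtain ⟨s0, -, hs0, hxs0⟩ := exists_closed_specialization_open Set.univ isOpen_univ x trivial
  rw [dim_closure_eq' hcat h3 η s0 hs0 (h.trans hxs0), dim_closure_eq' hcat h3 x s0 hs0 hxs0]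
  exact krullDim_Icc_add s0 x η hxs0 h (hcat s0)

/-- A locally closed piece of a closed subset has at least the dimension of the closure of each
of its points. -/
theorem dim_closure_le_of_mem_open' (Y : Set X) (hY : IsClosed Y) (U : Set X) (hU : IsOpen U)
    (η : X) (hηU : η ∈ U) (hηY : η ∈ Y) :
    topologicalKrullDim ↥(closure ({η} : Set X)) ≤ topologicalKrullDim ↥(U ∩ Y) := by
  obtain ⟨s0, hs0U, hs0, hηs0⟩ := exists_closed_specialization_open U hU η hηU
  rw [dim_closure_eq' hcat h3 η s0 hs0 hηs0,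
    ClosedDim.topologicalKrullDim_eq_krullDim_of_isLocallyClosed _
      (hU.isLocallyClosed.inter hY.isLocallyClosed)]
  refine Order.krullDim_le_of_strictMono
    (fun z : Set.Icc s0 η => (⟨z.1, (z.2.1 : z.1 ⤳ s0).mem_open hU hs0U,
      hY.closure_subset_iff.mpr (Set.singleton_subset_iff.mpr hηY)
        (specializes_iff_mem_closure.mp (z.2.2 : η ⤳ z.1))⟩ : ↥(U ∩ Y))) ?_
  intro a b hab
  exact hab

end Cat

section UC

variable (h2 : ∀ x : X, CAlg.IsUniversallyCatenary (X.presheaf.stalk x))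
  (h3 : ∀ X' ∈ irreducibleComponents (X : Type u), ∀ x ∈ X', IsClosed ({x} : Set X) →
      topologicalKrullDim (↥X' : Type u) = topologicalKrullDim ↥{t : X | t ∈ X' ∧ t ⤳ x})

include h2 h3

omit [IsLocallyNoetherian X] [JacobsonSpace X] h3 in
theorem isCatenary_of_isUniversallyCatenary (x : X) : CAlg.IsCatenary (X.presheaf.stalk x) :=
  (h2 x).2 _ (inferInstanceAs (Algebra.FiniteType (X.presheaf.stalk x) (X.presheaf.stalk x)))

theorem dim_closure_eq (τ s0 : X) (hs0 : IsClosed ({s0} : Set X)) (hτ : τ ⤳ s0) :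
    topologicalKrullDim ↥(closure ({τ} : Set X)) = krullDim (Set.Icc s0 τ) :=
  dim_closure_eq' (isCatenary_of_isUniversallyCatenary h2) h3 τ s0 hs0 hτ

theorem dim_closure_add (x η : X) (h : η ⤳ x) :
    topologicalKrullDim ↥(closure ({η} : Set X)) =
      topologicalKrullDim ↥(closure ({x} : Set X)) + krullDim (Set.Icc x η) :=
  dim_closure_add' (isCatenary_of_isUniversallyCatenary h2) h3 x η h

theorem dim_closure_le_of_mem_open (Y : Set X) (hY : IsClosed Y) (U : Set X) (hU : IsOpen U)
    (η : X) (hηU : η ∈ U) (hηY : η ∈ Y) :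
    topologicalKrullDim ↥(closure ({η} : Set X)) ≤ topologicalKrullDim ↥(U ∩ Y) :=
  dim_closure_le_of_mem_open' (isCatenary_of_isUniversallyCatenary h2) h3 Y hY U hU η hηU hηY

end UC

end Sch

end Groth.Agent.Lib.Helper12.JacLocalDim
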