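import Mathlib
import Groth.Agent.Lib.Helper12.FlatDim
import Groth.Agent.Lib.Helper12.FibreDim
import Groth.Agent.Lib.Helper12.JacLocalDim

/-!
# Helper library (helper12): dimensions of locally closed subsets via transcendence degrees
-/

set_option autoImplicit false
universe u
open AlgebraicGeometry CategoryTheory

namespace Groth.Agent.Lib.Helper12.DimLC

open Groth.Agent.Lib.Helper12 Groth.Agent.Lib.Helper12.SchemeDimFT
  Groth.Agent.Lib.Helper12.SchemeDimIneq Groth.Agent.Lib.Helper12.Equidim
  Groth.Agent.Lib.Helper12.FlatDim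

section OverField

variable (k : Type u) [Field k] (X : Scheme.{u}) [X.Over (Spec (CommRingCat.of k))]
  [LocallyOfFiniteType (X ↘ Spec (CommRingCat.of k))]

/-- `dim Z + m ≤ n` for a locally closed subset, in terms of points. -/
theorem dim_add_le_iff (Z : Set X) (hZ : IsLocallyClosed Z) (m n : ℕ) :
    topologicalKrullDim ↥Z + (m : WithBot ℕ∞) ≤ n ↔ ∀ z ∈ Z, tr k X z + m ≤ n := by
  constructor
  · intro h z hz
    have h1 := le_topologicalKrullDim_of_isLocallyClosed k X Z hZ z hz
    have h2 := (add_le_add_left h1 (m : WithBot ℕ∞)).trans h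
    exact_mod_cast h2
  · intro h
    by_cases hmn : m ≤ n
    · have h1 := topologicalKrullDim_le_of_isLocallyClosed k X Z hZ ((n - m : ℕ) : WithBot ℕ∞) (by
        intro z hz
        have := h z hz
        have h3 : tr k X z ≤ n - m := by omega
        exact_mod_cast h3)
      refine (add_le_add_left h1 _).trans ?_
      have : n - m + m = n := by omega
      exact_mod_cast this.le
    · have h1 := topologicalKrullDim_le_of_isLocallyClosed k X Z hZ ⊥ (by
        intro z hz
        have := h z hz
        omega)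
      rw [le_bot_iff] at h1
      rw [h1]
      simp

/-- The generic point of an irreducible component of a locally closed subspace. -/
theorem exists_of_mem_irreducibleComponents_lc (S : Set X) (hS : IsLocallyClosed S) (W : Set ↥S)
    (hW : W ∈ irreducibleComponents ↥S) :
    ∃ w : X, w ∈ S ∧ (∀ t : X, t ∈ S → t ⤳ w → t = w) ∧ (∀ z : ↥S, z ∈ W ↔ w ⤳ z.1) ∧
      topologicalKrullDim ↥W = ((tr k X w : ℕ) : WithBot ℕ∞) := by
  haveI : QuasiSober ↥S := quasiSober_of_isLocallyClosed hS
  obtain ⟨w₀, hw₀⟩ := QuasiSober.sober hW.1 (isClosed_of_mem_irreducibleComponents W hW)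
  have hWeq : W = closure {w₀} := hw₀.def.symm
  subst hWeq
  have hmax := (closure_singleton_mem_irreducibleComponents_iff w₀).mp hW
  have h1 : closure ({w₀} : Set ↥S) = Subtype.val ⁻¹' closure ({w₀.1} : Set X) := by
    rw [Topology.IsEmbedding.subtypeVal.closure_eq_preimage_closure_image, Set.image_singleton]
  refine ⟨w₀.1, w₀.2, ?_, ?_, ?_⟩
  · intro t ht hsp
    have h1 : (⟨t, ht⟩ : ↥S) ⤳ w₀ := (subtype_specializes_iff _ _).mpr hsp
    exact congrArg Subtype.val (hmax _ h1)
  · intro z
    rw [h1, Set.mem_preimage, ← specializes_iff_mem_closure]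
  · have h2 : (Subtype.val ⁻¹' closure ({w₀.1} : Set X) : Set ↥S) =
        Subtype.val ⁻¹' (closure ({w₀.1} : Set X) ∩ S) := by
      ext c
      simp only [Set.mem_preimage, Set.mem_inter_iff, c.2, and_true]
    rw [h1, h2, JacLocalDim.dim_preimage_val S _ Set.inter_subset_right]
    have hlc : IsLocallyClosed (closure ({w₀.1} : Set X) ∩ S) :=
      isClosed_closure.isLocallyClosed.inter hS
    apply le_antisymm
    · refine topologicalKrullDim_le_of_isLocallyClosed k X _ hlc _ ?_
      intro z hz
      exact_mod_cast tr_le_of_specializes k X w₀.1 z (specializes_iff_mem_closure.mpr hz.1)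
    · exact le_topologicalKrullDim_of_isLocallyClosed k X _ hlc w₀.1
        ⟨subset_closure rfl, w₀.2⟩

end OverField

section Top

/-- The dimension of the preimage of a set under an embedding. -/
theorem dim_preimage_of_isEmbedding {W X : Type*} [TopologicalSpace W] [TopologicalSpace X]
    (ι : W → X) (hι : Topology.IsEmbedding ι) (B : Set X) :
    topologicalKrullDim ↥(ι ⁻¹' B) = topologicalKrullDim ↥(Set.range ι ∩ B) := by
  let φ : ↥(ι ⁻¹' B) → X := fun c => ι c.1
  have hφ : Topology.IsEmbedding φ := hι.comp Topology.IsEmbedding.subtypeVal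
  have hrange : Set.range φ = Set.range ι ∩ B := by
    ext t
    constructor
    · rintro ⟨c, rfl⟩
      exact ⟨⟨c.1, rfl⟩, c.2⟩
    · rintro ⟨⟨w, rfl⟩, hw⟩
      exact ⟨⟨w, hw⟩, rfl⟩
  have e1 : ↥(ι ⁻¹' B) ≃ₜ Set.range φ := hφ.toHomeomorph
  have h := IsHomeomorph.topologicalKrullDim_eq e1 e1.isHomeomorph
  rw [h, hrange]

end Top

end Groth.Agent.Lib.Helper12.DimLC
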