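import Mathlib
import Groth.Prelude.Def_Found
import Groth.Agent.Lib.Helper12.FibreMax
import Groth.Agent.Lib.Helper12.DimLC

/-!
# Helper library (helper12): dimension of the connected component of a fibre through a point
-/

set_option autoImplicit false
universe u v
open Polynomial Cardinal AlgebraicGeometry CategoryTheory

namespace Groth.Agent.Lib.Helper12.SecComp

open Groth.Agent.Lib.Helper12.OrdTools Groth.Agent.Lib.Helper12.DimIneq
open Groth.Agent.Lib.Helper12 Groth.Agent.Lib.Helper12.SchemeDimFT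
open Groth.Agent.Lib.Helper12.ChevalleyCor Groth.Agent.Lib.Helper12.SchemeDimIneq
open Groth.Agent.Lib.Helper14 Order Groth.Agent.Lib.Helper12.Equidim
open Groth.Agent.Lib.Helper12.ClosedSub Groth.Agent.Lib.Helper12.JacDim
open Groth.Agent.Lib.Helper12.FibreMax

section Top

variable {T : Type*} [TopologicalSpace T]

/-- The connected component of `x` in `F` is relatively closed in `F`. -/
theorem exists_isClosed_connectedComponentIn (F : Set T) (x : T) (hx : x ∈ F) :
    ∃ K : Set T, IsClosed K ∧ connectedComponentIn F x = K ∩ F := by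
  rw [connectedComponentIn_eq_image hx]
  have h1 : IsClosed (connectedComponent (⟨x, hx⟩ : F)) := isClosed_connectedComponent
  obtain ⟨K, hK, hK2⟩ := isClosed_induced_iff.mp h1
  refine ⟨K, hK, ?_⟩
  rw [← hK2]
  ext t
  constructor
  · rintro ⟨⟨t, ht⟩, h2, rfl⟩
    exact ⟨h2, ht⟩
  · rintro ⟨h2, ht⟩
    exact ⟨⟨t, ht⟩, h2, rfl⟩

/-- Generizations inside `F` of a point stay in its connected component. -/
theorem mem_connectedComponentIn_of_specializes (F : Set T) (x z : T) (hx : x ∈ F) (hz : z ∈ F)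
    (h : z ⤳ x) : z ∈ connectedComponentIn F x := by
  have h1 : IsPreconnected (closure ({z} : Set T) ∩ F) := by
    refine IsPreconnected.subset_closure (isPreconnected_singleton (x := z)) ?_ Set.inter_subset_left
    intro t ht
    rw [Set.mem_singleton_iff.mp ht]
    exact ⟨subset_closure rfl, hz⟩
  have h2 := h1.subset_connectedComponentIn (x := x) ⟨specializes_iff_mem_closure.mp h, hx⟩
    Set.inter_subset_right
  exact h2 ⟨subset_closure rfl, hz⟩

end Top

section Fib

variable {X Y : Scheme.{u}} (f : X ⟶ Y) [LocallyOfFiniteType f]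

/-- A generic point of the (irreducible) connected component of the fibre through `x`. -/
theorem exists_generic_of_isIrreducible (x : X)
    (hirr : IsIrreducible (connectedComponentIn (f.base ⁻¹' {f.base x}) x)) :
    ∃ ξ : X, ξ ∈ connectedComponentIn (f.base ⁻¹' {f.base x}) x ∧
      ∀ z ∈ connectedComponentIn (f.base ⁻¹' {f.base x}) x, ξ ⤳ z := by
  set C := connectedComponentIn (f.base ⁻¹' {f.base x}) x with hC
  have hxF : x ∈ f.base ⁻¹' {f.base x} := rfl
  have hxC : x ∈ C := mem_connectedComponentIn hxF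
  have hCF : C ⊆ f.base ⁻¹' {f.base x} := connectedComponentIn_subset _ _
  obtain ⟨K, hK, hCK⟩ := exists_isClosed_connectedComponentIn (f.base ⁻¹' {f.base x}) x hxF
  have hcl : IsIrreducible (closure C) := hirr.closure
  obtain ⟨ξ, hξ⟩ := QuasiSober.sober hcl isClosed_closure
  have hξz : ∀ z ∈ C, ξ ⤳ z := by
    intro z hz
    rw [specializes_iff_mem_closure, hξ.def]
    exact subset_closure hz
  have hξK : ξ ∈ K := by
    have h1 : closure C ⊆ K := by
      refine closure_minimal ?_ hK
      rw [← hC] at hCK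
      rw [hCK]
      exact Set.inter_subset_left
    exact h1 hξ.mem
  have hξF : f.base ξ = f.base x := by
    have h1 : f.base ξ ⤳ f.base x := (hξz x hxC).map f.continuous
    have h2 : f.base x ⤳ f.base ξ := by
      have h3 : closure C ⊆ f.base ⁻¹' closure {f.base x} := by
        refine closure_minimal ?_ (isClosed_closure.preimage f.continuous)
        intro t ht
        have := hCF ht
        simp only [Set.mem_preimage, Set.mem_singleton_iff] at this
        simp only [Set.mem_preimage, this]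
        exact subset_closure rfl
      exact specializes_iff_mem_closure.mpr (h3 hξ.mem)
    exact (h1.antisymm h2).eq
  refine ⟨ξ, ?_, hξz⟩
  rw [← hC] at hCK
  rw [hCK]
  exact ⟨hξK, hξF⟩

theorem trn_le_of_specializes (z z' : X) (hz : f z' = f z) (hsp : z' ⤳ z) :
    trn f z ≤ trn f z' := by
  by_cases hne : z' = z
  · rw [hne]
  · exact (trn_lt_of_specializes f z z' hz hsp hne).le

/-- The dimension of the connected component of the fibre through `x`, when it is irreducible,
is the local dimension of the fibre at `x`. -/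
theorem dim_connectedComponentIn_eq_fibreDimAt (x : X)
    (hirr : IsIrreducible (connectedComponentIn (f.base ⁻¹' {f.base x}) x)) :
    topologicalKrullDim ↥(connectedComponentIn (f.base ⁻¹' {f.base x}) x) =
      FlatMor.fibreDimAt f x := by
  set C := connectedComponentIn (f.base ⁻¹' {f.base x}) x with hC
  have hxF : x ∈ f.base ⁻¹' {f.base x} := rfl
  have hxC : x ∈ C := mem_connectedComponentIn hxF
  have hCF : C ⊆ f.base ⁻¹' {f.base x} := connectedComponentIn_subset _ _
  obtain ⟨K, hK, hCK⟩ := exists_isClosed_connectedComponentIn (f.base ⁻¹' {f.base x}) x hxF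
  rw [← hC] at hCK
  letI ovF : (f.fiber (f x)).Over (Spec (CommRingCat.of (Y.residueField (f x)))) :=
    ⟨f.fiberToSpecResidueField (f x)⟩
  haveI : LocallyOfFiniteType
      ((f.fiber (f x)) ↘ Spec (CommRingCat.of (Y.residueField (f x)))) :=
    FibreRes.locallyOfFiniteType_fiberToSpecResidueField f (f x)
  have hrange : Set.range (f.fiberι (f x)) = f.base ⁻¹' {f.base x} := Scheme.Hom.range_fiberι f (f x)
  -- transport to the fibre scheme
  have hdim : topologicalKrullDim ↥C =
      topologicalKrullDim ↥((f.fiberι (f x)) ⁻¹' C) := by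
    rw [DimLC.dim_preimage_of_isEmbedding (f.fiberι (f x)) (f.fiberι (f x)).isEmbedding C]
    have : Set.range (f.fiberι (f x)) ∩ C = C := by
      rw [hrange]
      exact Set.inter_eq_right.mpr hCF
    rw [this]
  have hPcl : IsClosed ((f.fiberι (f x)) ⁻¹' C) := by
    have : (f.fiberι (f x)) ⁻¹' C = (f.fiberι (f x)) ⁻¹' K := by
      ext w
      simp only [Set.mem_preimage]
      rw [hCK]
      constructor
      · exact fun h => h.1
      · intro h
        refine ⟨h, ?_⟩
        rw [← hrange]
        exact ⟨w, rfl⟩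
    rw [this]
    exact hK.preimage (f.fiberι (f x)).continuous
  rw [hdim]
  apply le_antisymm
  · obtain ⟨ξ, hξC, hξz⟩ := exists_generic_of_isIrreducible f x hirr
    have hξF : f ξ = f x := hCF hξC
    have hξle := trn_le_fibreDimAt_of_specializes f x ξ hξF (hξz x hxC)
    refine topologicalKrullDim_le_of_isLocallyClosed (Y.residueField (f x)) (f.fiber (f x)) _
      hPcl.isLocallyClosed _ ?_
    intro w hw
    have hzC : f.fiberι (f x) w ∈ C := hw
    have hzF : f (f.fiberι (f x) w) = f x := hCF hzC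
    have h1 := trn_eq_tr_of_fiber f (f.fiberι (f x) w) (f x) hzF w rfl
    have h2 := trn_le_of_specializes f (f.fiberι (f x) w) ξ (hξF.trans hzF.symm) (hξz _ hzC)
    rw [h1] at h2
    have h3 : ((tr (Y.residueField (f x)) (f.fiber (f x)) w : ℕ) : WithBot ℕ∞) =
        (((tr (Y.residueField (f x)) (f.fiber (f x)) w : ℕ) : ℕ∞) : WithBot ℕ∞) := rfl
    rw [h3]
    exact le_trans (WithBot.coe_le_coe.mpr h2) hξle
  · obtain ⟨z, hzF, hzx, hle⟩ := exists_generization_trn_eq_fibreDimAt f x
    have hzC : z ∈ C := mem_connectedComponentIn_of_specializes _ x z hxF hzF hzx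
    let w : f.fiber (f x) := (f.fiberHomeo (f x)).symm ⟨z, hzF⟩
    have hw : f.fiberι (f x) w = z := f.fiberι_fiberHomeo_symm (f x) ⟨z, hzF⟩
    have hwP : w ∈ (f.fiberι (f x)) ⁻¹' C := by
      change f.fiberι (f x) w ∈ C
      rw [hw]
      exact hzC
    have h1 := le_topologicalKrullDim_of_isLocallyClosed (Y.residueField (f x)) (f.fiber (f x)) _
      hPcl.isLocallyClosed w hwP
    have h2 := trn_eq_tr_of_fiber f z (f x) hzF w hw
    rw [h2] at hle
    exact le_trans hle h1

/-- Variant with the base point named. -/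
theorem dim_connectedComponentIn_eq_fibreDimAt' (x : X) (y : Y) (hy : f.base x = y)
    (hirr : IsIrreducible (connectedComponentIn (f.base ⁻¹' {y}) x)) :
    topologicalKrullDim ↥(connectedComponentIn (f.base ⁻¹' {y}) x) =
      FlatMor.fibreDimAt f x := by
  subst hy
  exact dim_connectedComponentIn_eq_fibreDimAt f x hirr

/-- The local dimension of a fibre at a point is a natural number. -/
theorem exists_nat_fibreDimAt (x : X) : ∃ m : ℕ, FlatMor.fibreDimAt f x = (m : WithBot ℕ∞) := by
  obtain ⟨z, hzF, hzx, hle⟩ := exists_generization_trn_eq_fibreDimAt f x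
  have h2 := trn_le_fibreDimAt_of_specializes f x z hzF hzx
  have h3 := le_antisymm hle h2
  letI ovF : (f.fiber (f x)).Over (Spec (CommRingCat.of (Y.residueField (f x)))) :=
    ⟨f.fiberToSpecResidueField (f x)⟩
  haveI : LocallyOfFiniteType
      ((f.fiber (f x)) ↘ Spec (CommRingCat.of (Y.residueField (f x)))) :=
    FibreRes.locallyOfFiniteType_fiberToSpecResidueField f (f x)
  let w : f.fiber (f x) := (f.fiberHomeo (f x)).symm ⟨z, hzF⟩
  have hw : f.fiberι (f x) w = z := f.fiberι_fiberHomeo_symm (f x) ⟨z, hzF⟩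
  have h4 := trn_eq_tr_of_fiber f z (f x) hzF w hw
  rw [h4] at h3
  exact ⟨tr (Y.residueField (f x)) (f.fiber (f x)) w, h3⟩

/-- The local fibre dimension at `x` is the transcendence degree at a generic point of the
connected component of the fibre through `x`. -/
theorem fibreDimAt_eq_trn_of_generic (x ξ : X)
    (hξC : ξ ∈ connectedComponentIn (f.base ⁻¹' {f.base x}) x)
    (hξ : ∀ z ∈ connectedComponentIn (f.base ⁻¹' {f.base x}) x, ξ ⤳ z) :
    FlatMor.fibreDimAt f x = ((trn f ξ : ℕ∞) : WithBot ℕ∞) := by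
  have hxF : x ∈ f.base ⁻¹' {f.base x} := rfl
  have hxC : x ∈ connectedComponentIn (f.base ⁻¹' {f.base x}) x := mem_connectedComponentIn hxF
  have hCF : connectedComponentIn (f.base ⁻¹' {f.base x}) x ⊆ f.base ⁻¹' {f.base x} :=
    connectedComponentIn_subset _ _
  have hξF : f ξ = f x := hCF hξC
  apply le_antisymm
  · obtain ⟨z, hzF, hzx, hle⟩ := exists_generization_trn_eq_fibreDimAt f x
    have hzC : z ∈ connectedComponentIn (f.base ⁻¹' {f.base x}) x :=
      mem_connectedComponentIn_of_specializes _ x z hxF hzF hzx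
    have h2 := trn_le_of_specializes f z ξ (hξF.trans hzF.symm) (hξ z hzC)
    exact le_trans hle (WithBot.coe_le_coe.mpr h2)
  · exact trn_le_fibreDimAt_of_specializes f x ξ hξF (hξ x hxC)

/-- If `x' ⤳ x` and the fibre dimension at `x` is at most that at `x'`, then the generic point
of the component through `x'` specializes to the generic point of the component through `x`. -/
theorem specializes_generic_of_fibreDimAt_le (x x' ξ ξ' : X) (hxx : x' ⤳ x)
    (hξC : ξ ∈ connectedComponentIn (f.base ⁻¹' {f.base x}) x)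
    (hξ : ∀ z ∈ connectedComponentIn (f.base ⁻¹' {f.base x}) x, ξ ⤳ z)
    (hξC' : ξ' ∈ connectedComponentIn (f.base ⁻¹' {f.base x'}) x')
    (hξ' : ∀ z ∈ connectedComponentIn (f.base ⁻¹' {f.base x'}) x', ξ' ⤳ z)
    (hle : FlatMor.fibreDimAt f x ≤ FlatMor.fibreDimAt f x') : ξ' ⤳ ξ := by
  have hxF : x ∈ f.base ⁻¹' {f.base x} := rfl
  have hCF : connectedComponentIn (f.base ⁻¹' {f.base x}) x ⊆ f.base ⁻¹' {f.base x} :=
    connectedComponentIn_subset _ _
  have hξF : f ξ = f x := hCF hξC
  have hx'C : x' ∈ connectedComponentIn (f.base ⁻¹' {f.base x'}) x' :=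
    mem_connectedComponentIn (show x' ∈ f.base ⁻¹' {f.base x'} from rfl)
  have h1 : ξ' ⤳ x := (hξ' x' hx'C).trans hxx
  obtain ⟨z, hzF, hξz, hzx, htr⟩ := exists_between_trn_le f x ξ' h1
  have hzC : z ∈ connectedComponentIn (f.base ⁻¹' {f.base x}) x :=
    mem_connectedComponentIn_of_specializes _ x z hxF hzF hzx
  have h2 : ξ ⤳ z := hξ z hzC
  rw [fibreDimAt_eq_trn_of_generic f x ξ hξC hξ, fibreDimAt_eq_trn_of_generic f x' ξ' hξC' hξ'] at hle
  have h3 : trn f ξ ≤ trn f ξ' := WithBot.coe_le_coe.mp hle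
  have h4 : trn f ξ ≤ trn f z := h3.trans htr
  by_cases hne : ξ = z
  · rw [hne]; exact hξz
  · exact absurd (trn_lt_of_specializes f z ξ (hξF.trans hzF.symm) h2 hne) (not_lt.mpr h4)

/-- The dimension of the closure of a point in its fibre. -/
theorem dim_closure_inter_fibre (ζ : X) :
    topologicalKrullDim ↥(closure ({ζ} : Set X) ∩ f.base ⁻¹' {f.base ζ}) =
      ((trn f ζ : ℕ∞) : WithBot ℕ∞) := by
  letI ovF : (f.fiber (f ζ)).Over (Spec (CommRingCat.of (Y.residueField (f ζ)))) :=
    ⟨f.fiberToSpecResidueField (f ζ)⟩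
  haveI : LocallyOfFiniteType
      ((f.fiber (f ζ)) ↘ Spec (CommRingCat.of (Y.residueField (f ζ)))) :=
    FibreRes.locallyOfFiniteType_fiberToSpecResidueField f (f ζ)
  have hrange : Set.range (f.fiberι (f ζ)) = f.base ⁻¹' {f.base ζ} := Scheme.Hom.range_fiberι f (f ζ)
  have h1 := DimLC.dim_preimage_of_isEmbedding (f.fiberι (f ζ)) (f.fiberι (f ζ)).isEmbedding
    (closure ({ζ} : Set X))
  rw [hrange, Set.inter_comm] at h1
  rw [← h1]
  have h2 : (f.fiberι (f ζ)) ⁻¹' closure ({ζ} : Set X) = closure {f.asFiber ζ} := by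
    rw [(f.fiberι (f ζ)).isEmbedding.isInducing.closure_eq_preimage_closure_image, Set.image_singleton,
      f.fiberι_asFiber ζ]
  rw [h2, topologicalKrullDim_closure_singleton (Y.residueField (f ζ)) (f.fiber (f ζ)) (f.asFiber ζ),
    trn_eq_tr_of_fiber f ζ (f ζ) rfl (f.asFiber ζ) (f.fiberι_asFiber ζ)]
  rfl

/-- Points of the connected component of the fibre through `x` bound its dimension below. -/
theorem trn_le_dim_connectedComponentIn (x z : X)
    (hz : z ∈ connectedComponentIn (f.base ⁻¹' {f.base x}) x) :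
    ((trn f z : ℕ∞) : WithBot ℕ∞) ≤
      topologicalKrullDim ↥(connectedComponentIn (f.base ⁻¹' {f.base x}) x) := by
  have hCF : connectedComponentIn (f.base ⁻¹' {f.base x}) x ⊆ f.base ⁻¹' {f.base x} :=
    connectedComponentIn_subset _ _
  have hzF : f z = f x := hCF hz
  rw [← dim_closure_inter_fibre f z]
  refine (fun h => (Topology.IsEmbedding.inclusion h).isInducing.topologicalKrullDim_le) ?_
  rintro t ⟨ht1, ht2⟩
  have ht2' : f t = f z := ht2
  have hx0 : x ∈ f.base ⁻¹' {f.base x} := rfl
  have h1 : connectedComponentIn (f.base ⁻¹' {f.base x}) x =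
      connectedComponentIn (f.base ⁻¹' {f.base x}) z := connectedComponentIn_eq hz
  rw [h1]
  have h3 : IsPreconnected (closure ({z} : Set X) ∩ f.base ⁻¹' {f.base x}) := by
    refine IsPreconnected.subset_closure (isPreconnected_singleton (x := z)) ?_ Set.inter_subset_left
    intro t ht
    rw [Set.mem_singleton_iff.mp ht]
    exact ⟨subset_closure rfl, hzF⟩
  exact h3.subset_connectedComponentIn ⟨subset_closure rfl, hzF⟩ Set.inter_subset_right
    ⟨ht1, ht2'.trans hzF⟩

/-- A maximal irreducible subset of a fibre has a generic point. -/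
theorem exists_generic_of_maximal_irreducible (y : Y) (Z : Set X) (hZF : Z ⊆ f.base ⁻¹' {y})
    (hZ : IsIrreducible Z)
    (hmax : ∀ Z' : Set X, IsIrreducible Z' → Z' ⊆ f.base ⁻¹' {y} → Z ⊆ Z' → Z' = Z) :
    ∃ ζ : X, ζ ∈ Z ∧ Z = closure ({ζ} : Set X) ∩ f.base ⁻¹' {y} := by
  have hcl : IsIrreducible (closure Z) := hZ.closure
  obtain ⟨ζ, hζ⟩ := QuasiSober.sober hcl isClosed_closure
  obtain ⟨z0, hz0⟩ := hZ.nonempty
  have hζz : ∀ z ∈ Z, ζ ⤳ z := by
    intro z hz
    rw [specializes_iff_mem_closure, hζ.def]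
    exact subset_closure hz
  have hζF : f.base ζ = y := by
    have hz0F : f.base z0 = y := hZF hz0
    have h1 : f.base ζ ⤳ y := hz0F ▸ (hζz z0 hz0).map f.continuous
    have h2 : y ⤳ f.base ζ := by
      have h3 : closure Z ⊆ f.base ⁻¹' closure {y} := by
        refine closure_minimal ?_ (isClosed_closure.preimage f.continuous)
        intro t ht
        have := hZF ht
        simp only [Set.mem_preimage, Set.mem_singleton_iff] at this
        simp only [Set.mem_preimage, this]
        exact subset_closure rfl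
      exact specializes_iff_mem_closure.mpr (h3 hζ.mem)
    exact (h1.antisymm h2).eq
  -- the relative closure is irreducible
  have hirr2 : IsIrreducible (closure Z ∩ f.base ⁻¹' {y}) := by
    refine ⟨⟨z0, subset_closure hz0, hZF hz0⟩, ?_⟩
    intro U V hU hV hU2 hV2
    obtain ⟨a, ⟨ha1, -⟩, haU⟩ := hU2
    obtain ⟨b, ⟨hb1, -⟩, hbV⟩ := hV2
    obtain ⟨a', haU', haZ⟩ := mem_closure_iff.mp ha1 U hU haU
    obtain ⟨b', hbV', hbZ⟩ := mem_closure_iff.mp hb1 V hV hbV
    obtain ⟨c, hcZ, hcUV⟩ := hZ.2 U V hU hV ⟨a', haZ, haU'⟩ ⟨b', hbZ, hbV'⟩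
    exact ⟨c, ⟨subset_closure hcZ, hZF hcZ⟩, hcUV⟩
  have hZeq : closure Z ∩ f.base ⁻¹' {y} = Z :=
    hmax _ hirr2 Set.inter_subset_right (fun t ht => ⟨subset_closure ht, hZF ht⟩)
  refine ⟨ζ, ?_, ?_⟩
  · rw [← hZeq]
    exact ⟨hζ.mem, hζF⟩
  · have h9 : closure ({ζ} : Set X) = closure Z := hζ.def
    rw [h9]
    exact hZeq.symm

end Fib

end Groth.Agent.Lib.Helper12.SecComp
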