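import Mathlib
import Groth.Prelude.Def_Found
import Groth.Prelude.Def_FDesc
import Groth.Agent.Lib.Helper12.SecComp

/-!
# Helper library (helper12): section components of fibres under base change
-/

set_option autoImplicit false
universe u v
open AlgebraicGeometry CategoryTheory CategoryTheory.Limits

namespace Groth.Agent.Lib.Helper12.SecCompBC

open Groth.Agent.Lib.Helper12.SecComp

section LFP

/-- A morphism locally of finite type to a locally Noetherian scheme is locally of finite
presentation. -/
theorem locallyOfFinitePresentation_of_isLocallyNoetherian {X Y : Scheme.{u}} (f : X ⟶ Y)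
    [IsLocallyNoetherian Y] [LocallyOfFiniteType f] : LocallyOfFinitePresentation f := by
  rw [HasRingHomProperty.iff_appLE (P := @LocallyOfFinitePresentation)]
  intro V U e
  haveI : IsNoetherianRing Γ(Y, V.1) := IsLocallyNoetherian.component_noetherian V
  exact RingHom.FinitePresentation.of_finiteType.mp
    (HasRingHomProperty.appLE (P := @LocallyOfFiniteType) f inferInstance V U e)

end LFP

section BC

variable {X Y Y' : Scheme.{u}} (f : X ⟶ Y) (g' : Y' ⟶ Y)

/-- Transfer of irreducibility of the geometric fibre preimage of a set `C` to the fibre of the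
base change. -/
theorem isIrreducible_fibre_pullback (y'' : Y') (C : Set X)
    (hirr : IsIrreducible ((@FBase.bcπ (IsLocalRing.ResidueField (Y.presheaf.stalk (g' y''))) _ _
        (f.fiberToSpecResidueField (g' y'')) (Y'.residueField y'') _
        (g'.residueFieldMap y'').hom.toAlgebra ≫ f.fiberι (g' y'')).base ⁻¹' C)) :
    IsIrreducible {t : ↥(pullback f g') | (pullback.snd f g') t = y'' ∧ (pullback.fst f g') t ∈ C} := by
  set f' := pullback.snd f g' with hf'
  set p₁ := pullback.fst f g' with hp₁
  have hsq : IsPullback p₁ f' f g' := IsPullback.of_hasPullback f g'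
  let A : f'.fiber y'' ⟶ f.fiber (g' y'') :=
    pullback.map f' (Y'.fromSpecResidueField y'') f (Y.fromSpecResidueField (g' y'')) p₁
      (Spec.map (g'.residueFieldMap y'')) g' hsq.w.symm (by simp)
  have hP : IsPullback A (f'.fiberToSpecResidueField y'') (f.fiberToSpecResidueField (g' y''))
      (Spec.map (g'.residueFieldMap y'')) :=
    isPullback_fiberToSpecResidueField_of_isPullback hsq y''
  have hAι : A ≫ f.fiberι (g' y'') = f'.fiberι y'' ≫ p₁ := pullback.lift_fst _ _ _
  letI : Algebra (IsLocalRing.ResidueField (Y.presheaf.stalk (g' y'')))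
      (Y'.residueField y'') := (g'.residueFieldMap y'').hom.toAlgebra
  let e : f'.fiber y'' ≅ FBase.bc (f.fiberToSpecResidueField (g' y'')) (Y'.residueField y'') :=
    hP.isoPullback
  have he : e.hom ≫ FBase.bcπ (f.fiberToSpecResidueField (g' y'')) (Y'.residueField y'') = A :=
    hP.isoPullback_hom_fst
  set Q := (FBase.bcπ (f.fiberToSpecResidueField (g' y'')) (Y'.residueField y'') ≫
        f.fiberι (g' y'')).base ⁻¹' C with hQ
  have hQirr : IsIrreducible Q := hirr
  -- the corresponding subset of the fibre of `f'`
  have hR : IsIrreducible (e.inv.base '' Q) :=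
    hQirr.image _ (Scheme.Hom.continuous _).continuousOn
  have hR2 : IsIrreducible ((f'.fiberι y'').base '' (e.inv.base '' Q)) :=
    hR.image _ (Scheme.Hom.continuous _).continuousOn
  convert hR2 using 1
  ext t
  simp only [Set.mem_setOf_eq, Set.mem_image]
  constructor
  · rintro ⟨ht1, ht2⟩
    let w : f'.fiber y'' := (f'.fiberHomeo y'').symm ⟨t, ht1⟩
    have hw : f'.fiberι y'' w = t := f'.fiberι_fiberHomeo_symm y'' ⟨t, ht1⟩
    refine ⟨w, ⟨e.hom w, ?_, ?_⟩, hw⟩
    · rw [hQ]
      simp only [Set.mem_preimage]
      have h1 : (e.hom ≫ FBase.bcπ (f.fiberToSpecResidueField (g' y'')) (Y'.residueField y'') ≫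
          f.fiberι (g' y'')) w = p₁ t := by
        rw [← Category.assoc, he, hAι, Scheme.Hom.comp_apply, hw]
      rw [Scheme.Hom.comp_apply] at h1
      rw [h1]
      exact ht2
    · have := congrArg (fun ψ : f'.fiber y'' ⟶ f'.fiber y'' => ψ w) e.hom_inv_id
      simpa using this
  · rintro ⟨w, ⟨q, hq, rfl⟩, rfl⟩
    refine ⟨?_, ?_⟩
    · have h3 : f'.fiberι y'' (e.inv q) ∈ Set.range (f'.fiberι y'') := ⟨_, rfl⟩
      rw [Scheme.Hom.range_fiberι] at h3
      exact h3
    · have h1 : (e.inv ≫ f'.fiberι y'' ≫ p₁) q =
          (FBase.bcπ (f.fiberToSpecResidueField (g' y'')) (Y'.residueField y'') ≫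
            f.fiberι (g' y'')) q := by
        rw [← hAι, ← he]
        simp
      rw [Scheme.Hom.comp_apply, Scheme.Hom.comp_apply] at h1
      rw [h1]
      exact hq

variable (g : Y ⟶ X) (hg : g ≫ f = 𝟙 Y)
include hg

/-- The induced section of the base change. -/
noncomputable def sec' : Y' ⟶ pullback f g' :=
  pullback.lift (g' ≫ g) (𝟙 Y') (by rw [Category.assoc, hg, Category.comp_id, Category.id_comp])

theorem sec'_snd : sec' f g' g hg ≫ pullback.snd f g' = 𝟙 Y' := pullback.lift_snd _ _ _

theorem sec'_fst : sec' f g' g hg ≫ pullback.fst f g' = g' ≫ g := pullback.lift_fst _ _ _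

theorem sec'_snd_apply (y : Y') : (pullback.snd f g') (sec' f g' g hg y) = y := by
  have := congrArg (fun ψ : Y' ⟶ Y' => ψ y) (sec'_snd f g' g hg)
  simpa using this

theorem sec'_fst_apply (y : Y') : (pullback.fst f g') (sec' f g' g hg y) = g (g' y) := by
  have := congrArg (fun ψ : Y' ⟶ X => ψ y) (sec'_fst f g' g hg)
  simpa using this

theorem sec_apply (y : Y) : f (g y) = y := by
  have := congrArg (fun ψ : Y ⟶ Y => ψ y) hg
  simpa using this

omit hg in
theorem fst_snd_apply (t : ↥(pullback f g')) : f ((pullback.fst f g') t) = g' ((pullback.snd f g') t) := by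
  have := congrArg (fun ψ : pullback f g' ⟶ Y => ψ t) (pullback.condition (f := f) (g := g'))
  simpa using this

/-- The section component of the base change is the preimage of the section component, once the
latter preimage is preconnected. -/
theorem connectedComponentIn_pullback (y'' : Y')
    (hpre : _root_.IsPreconnected {t : ↥(pullback f g') | (pullback.snd f g') t = y'' ∧
      (pullback.fst f g') t ∈ connectedComponentIn (f.base ⁻¹' {g' y''}) (g (g' y''))}) :
    connectedComponentIn ((pullback.snd f g').base ⁻¹' {y''}) (sec' f g' g hg y'') =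
      {t : ↥(pullback f g') | (pullback.snd f g') t = y'' ∧
        (pullback.fst f g') t ∈ connectedComponentIn (f.base ⁻¹' {g' y''}) (g (g' y''))} := by
  have hs1 : sec' f g' g hg y'' ∈ (pullback.snd f g').base ⁻¹' {y''} := sec'_snd_apply f g' g hg y''
  have hgv : g (g' y'') ∈ f.base ⁻¹' {g' y''} := sec_apply f g hg (g' y'')
  apply Set.Subset.antisymm
  · intro t ht
    have ht1 : t ∈ (pullback.snd f g').base ⁻¹' {y''} := connectedComponentIn_subset _ _ ht
    refine ⟨ht1, ?_⟩
    have h1 : _root_.IsPreconnected ((pullback.fst f g').base ''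
        connectedComponentIn ((pullback.snd f g').base ⁻¹' {y''}) (sec' f g' g hg y'')) :=
      isPreconnected_connectedComponentIn.image _ (Scheme.Hom.continuous _).continuousOn
    have h2 : (pullback.fst f g').base ''
        connectedComponentIn ((pullback.snd f g').base ⁻¹' {y''}) (sec' f g' g hg y'') ⊆
        f.base ⁻¹' {g' y''} := by
      rintro _ ⟨t', ht', rfl⟩
      have ht1' : t' ∈ (pullback.snd f g').base ⁻¹' {y''} := connectedComponentIn_subset _ _ ht'
      change f ((pullback.fst f g') t') = g' y''
      rw [fst_snd_apply, ht1']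
    have h3 : g (g' y'') ∈ (pullback.fst f g').base ''
        connectedComponentIn ((pullback.snd f g').base ⁻¹' {y''}) (sec' f g' g hg y'') :=
      ⟨sec' f g' g hg y'', mem_connectedComponentIn hs1, sec'_fst_apply f g' g hg y''⟩
    exact h1.subset_connectedComponentIn h3 h2 ⟨t, ht, rfl⟩
  · refine hpre.subset_connectedComponentIn ?_ ?_
    · refine ⟨hs1, ?_⟩
      rw [sec'_fst_apply]
      exact mem_connectedComponentIn hgv
    · intro t ht
      exact ht.1

end BC

section Geom

/-- Base change of a scheme over a field along a field extension is surjective onto it. -/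
theorem surjective_bcπ {k : Type u} [Field k] {X : Scheme.{u}} (q : X ⟶ Spec (CommRingCat.of k))
    (K : Type u) [Field K] [Algebra k K] : Function.Surjective (FBase.bcπ q K).base := by
  have hysurj : Surjective (Spec.map (CommRingCat.ofHom (algebraMap k K))) := by
    refine ⟨fun s => ?_⟩
    obtain ⟨t⟩ : Nonempty ↥(Spec (CommRingCat.of K)) := inferInstance
    exact ⟨t, Subsingleton.elim _ _⟩
  have h : Surjective (FBase.bcπ q K) := by
    unfold FBase.bcπ
    exact MorphismProperty.pullback_fst (P := @Surjective) _ _ hysurj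
  exact h.surj

/-- A subset of a fibre whose preimage in some base change of the fibre is irreducible is
irreducible. -/
theorem isIrreducible_of_preimage_bc {X Y : Scheme.{u}} (f : X ⟶ Y) (y : Y) (C : Set X)
    (hC : C ⊆ f.base ⁻¹' {y}) (K : Type u) [Field K]
    [Algebra (IsLocalRing.ResidueField (Y.presheaf.stalk y)) K]
    (h : IsIrreducible ((FBase.bcπ (f.fiberToSpecResidueField y) K ≫ f.fiberι y).base ⁻¹' C)) :
    IsIrreducible C := by
  have h2 := h.image (FBase.bcπ (f.fiberToSpecResidueField y) K ≫ f.fiberι y).base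
    (Scheme.Hom.continuous _).continuousOn
  rw [Set.image_preimage_eq_inter_range] at h2
  have h3 : C ⊆ Set.range (FBase.bcπ (f.fiberToSpecResidueField y) K ≫ f.fiberι y).base := by
    intro t ht
    have ht' : t ∈ f.base ⁻¹' {y} := hC ht
    rw [← Scheme.Hom.range_fiberι f y] at ht'
    obtain ⟨w, rfl⟩ := ht'
    obtain ⟨w', rfl⟩ := surjective_bcπ (f.fiberToSpecResidueField y) K w
    exact ⟨w', rfl⟩
  rwa [Set.inter_eq_left.mpr h3] at h2

end Geom

end Groth.Agent.Lib.Helper12.SecCompBC
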