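import Mathlib
import Groth.Prelude.Def_EGA4Misc
import Groth.Agent.Lib.Helper12.ConsPropBasic
import Groth.Agent.Lib.Helper12.ClosedSub
import Groth.Agent.Lib.Helper7.ConstrNoeth
import Groth.Agent.Lib.Helper7.RedLib

/-!
# Constructible properties of fibres over a Noetherian base

For a constructible property `P` of algebraic schemes and a family `u : X ⟶ S` of finite type
over a Noetherian scheme `S`, the locus of `P` is constructible.
-/

set_option autoImplicit false
universe u
open CategoryTheory CategoryTheory.Limits AlgebraicGeometry Topology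

namespace Groth.Agent.Lib.Helper12.ConsPropNoeth

open Groth.Agent.Lib.Helper12.ClosedSub

/-- The fibre of a base change is the base change of the fibre. -/
theorem exists_fibre_isPullback {X X' Y Y' : Scheme.{u}} {f : X ⟶ Y} {f' : X' ⟶ Y'}
    {eX : X' ⟶ X} {eY : Y' ⟶ Y} (hX : IsPullback eX f' f eY) (y' : Y') :
    ∃ e : f'.fiber y' ⟶ f.fiber (eY y'),
      IsPullback e (f'.fiberToSpecResidueField y') (f.fiberToSpecResidueField (eY y'))
        (Spec.map (eY.residueFieldMap y')) ∧ e ≫ f.fiberι (eY y') = f'.fiberι y' ≫ eX := by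
  have h1 : IsPullback (f'.fiberι y' ≫ eX) (f'.fiberToSpecResidueField y') f
      (Y'.fromSpecResidueField y' ≫ eY) :=
    (IsPullback.of_hasPullback f' (Y'.fromSpecResidueField y')).paste_horiz hX
  rw [← Scheme.Hom.SpecMap_residueFieldMap_fromSpecResidueField] at h1
  have h2 : IsPullback (f.fiberι (eY y')) (f.fiberToSpecResidueField (eY y')) f
      (Y.fromSpecResidueField (eY y')) := IsPullback.of_hasPullback _ _
  have hw : (f'.fiberι y' ≫ eX) ≫ f = (f'.fiberToSpecResidueField y' ≫
      Spec.map (eY.residueFieldMap y')) ≫ Y.fromSpecResidueField (eY y') := by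
    rw [Category.assoc]; exact h1.w
  refine ⟨h2.lift _ _ hw, ?_, h2.lift_fst _ _ hw⟩
  refine IsPullback.of_right ?_ (h2.lift_snd _ _ hw) h2
  rw [h2.lift_fst]
  exact h1

open ConsProp in
/-- Compatibility of the locus of a field-stable property with base change. -/
theorem locus_preimage {P : ∀ ⦃Y T : Scheme.{u}⦄, (Y ⟶ T) → Prop} (hP : IsFieldStable P)
    {X X' S S' : Scheme.{u}} {u : X ⟶ S} {u' : X' ⟶ S'} {eX : X' ⟶ X} {h : S' ⟶ S}
    [LocallyOfFiniteType u] [QuasiCompact u] (hX : IsPullback eX u' u h) :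
    locus P u' = h ⁻¹' (locus P u) := by
  ext s'
  obtain ⟨e, he, -⟩ := exists_fibre_isPullback hX s'
  exact (hP (u.fiberToSpecResidueField (h s')) (u'.fiberToSpecResidueField s') e
    (Spec.map (h.residueFieldMap s')) he).symm

instance {S : Scheme.{u}} (ξ : S) : IsIntegral (clSub S ξ) := by
  haveI : IsReduced (clSub S ξ) := Groth.Agent.Lib.Helper7.isReduced_vanishingIdeal_subscheme _
  exact isIntegral_of_irreducibleSpace_of_isReduced _

instance {S : Scheme.{u}} [IsNoetherian S] (ξ : S) : IsNoetherian (clSub S ξ) := by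
  haveI : IsLocallyNoetherian (clSub S ξ) :=
    LocallyOfFiniteType.isLocallyNoetherian (clSubι S ξ)
  haveI : CompactSpace (clSub S ξ) := QuasiCompact.compactSpace_of_compactSpace (clSubι S ξ)
  exact ⟨⟩

open ConsProp in
/-- **Noetherian case**: the locus of a constructible property is constructible. -/
theorem isConstructible_locus {P : ∀ ⦃Y T : Scheme.{u}⦄, (Y ⟶ T) → Prop} (hP : IsCons P)
    {X S : Scheme.{u}} [IsNoetherian S] (u : X ⟶ S) [LocallyOfFiniteType u] [QuasiCompact u] :
    IsConstructible (locus P u) := by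
  rw [Groth.Agent.Lib.Helper7.ConstrNoeth.isConstructible_iff_forall_irreducible_closed]
  intro Z hZc hZi
  obtain ⟨ξ, hξ⟩ : ∃ ξ : S, closure {ξ} = Z := by
    obtain ⟨ξ, hξ⟩ := QuasiSober.sober hZi hZc
    exact ⟨ξ, hξ.def⟩
  subst hξ
  have hloc : locus P (pullback.snd u (clSubι S ξ)) = (clSubι S ξ) ⁻¹' (locus P u) :=
    locus_preimage hP.1 (IsPullback.of_hasPullback u (clSubι S ξ))
  have hopen : ∀ O : Set (clSub S ξ), IsOpen O → ∃ U : Set S, IsOpen U ∧
      (clSubι S ξ) ⁻¹' U = O := by
    intro O hO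
    obtain ⟨U, hU, hUO⟩ := (clSubι S ξ).isEmbedding.isInducing.isOpen_iff.mp hO
    exact ⟨U, hU, hUO⟩
  rcases hP.2 (pullback.snd u (clSubι S ξ)) with h | h
  · right
    obtain ⟨z, hz⟩ := h
    obtain ⟨U, hU, hUO⟩ := hopen _ isOpen_interior
    refine ⟨U, hU, ⟨clSubι S ξ z, ?_, ?_⟩, ?_⟩
    · have : z ∈ (clSubι S ξ) ⁻¹' U := by rw [hUO]; exact hz
      exact this
    · rw [← range_clSubι]; exact ⟨z, rfl⟩
    · rintro s ⟨hsU, hsZ⟩
      rw [← range_clSubι] at hsZ
      obtain ⟨z', rfl⟩ := hsZ
      have h1 : z' ∈ (clSubι S ξ) ⁻¹' U := hsU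
      rw [hUO] at h1
      have h2 := interior_subset h1
      rw [hloc] at h2
      exact h2
  · left
    obtain ⟨z, hz⟩ := h
    obtain ⟨U, hU, hUO⟩ := hopen _ isOpen_interior
    refine Groth.Agent.Lib.Helper7.ConstrNoeth.isNowhereDense_of_inter_subset_compl
      hZi.isPreirreducible hU ⟨clSubι S ξ z, ?_, ?_⟩ ?_
    · have : z ∈ (clSubι S ξ) ⁻¹' U := by rw [hUO]; exact hz
      exact this
    · rw [← range_clSubι]; exact ⟨z, rfl⟩
    · rintro s ⟨hsU, hsZ⟩
      rw [← range_clSubι] at hsZ
      obtain ⟨z', rfl⟩ := hsZ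
      have h1 : z' ∈ (clSubι S ξ) ⁻¹' U := hsU
      rw [hUO] at h1
      have h2 := interior_subset h1
      rw [hloc] at h2
      exact h2

end Groth.Agent.Lib.Helper12.ConsPropNoeth

namespace Groth.Agent.Lib.Helper12.ConsPropNoeth

open Groth.Agent.Lib.Helper12.ClosedSub

/-- The map on fibres is a base change of `f`. -/
theorem isPullback_fiberMap {X Y S : Scheme.{u}} (f : X ⟶ Y) (g : Y ⟶ S) (s : S) :
    IsPullback ((f ≫ g).fiberι s) (MoreMor.fiberMap f g s) f (g.fiberι s) := by
  have hfst : MoreMor.fiberMap f g s ≫ g.fiberι s = (f ≫ g).fiberι s ≫ f :=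
    pullback.lift_fst _ _ _
  have hsnd : MoreMor.fiberMap f g s ≫ g.fiberToSpecResidueField s =
      (f ≫ g).fiberToSpecResidueField s := pullback.lift_snd _ _ _
  have t : IsPullback (g.fiberι s) (g.fiberToSpecResidueField s) g
      (S.fromSpecResidueField s) := IsPullback.of_hasPullback _ _
  refine IsPullback.of_bot ?_ hfst.symm t
  rw [hsnd]
  exact IsPullback.of_hasPullback (f ≫ g) (S.fromSpecResidueField s)

open ConsProp in
/-- For a field-stable `P`, the property "every fibre of `f` has `P`" on the fibre over `s`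
means that all points of `Y` over `s` are in the locus of `P` for `f`. -/
theorem forall_fiberMap_iff {P : ∀ ⦃Y T : Scheme.{u}⦄, (Y ⟶ T) → Prop} (hP : IsFieldStable P)
    {X Y S : Scheme.{u}} (f : X ⟶ Y) (g : Y ⟶ S) [LocallyOfFiniteType f] [QuasiCompact f] (s : S) :
    (∀ y' : g.fiber s, P ((MoreMor.fiberMap f g s).fiberToSpecResidueField y')) ↔
      ∀ y : Y, g y = s → y ∈ locus P f := by
  have key : ∀ y' : g.fiber s, P ((MoreMor.fiberMap f g s).fiberToSpecResidueField y') ↔
      g.fiberι s y' ∈ locus P f := by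
    intro y'
    obtain ⟨e, he, -⟩ := exists_fibre_isPullback (isPullback_fiberMap f g s) y'
    exact (hP _ _ e _ he).symm
  constructor
  · intro H y hy
    have hy2 : y ∈ Set.range (g.fiberι s) := by rw [g.range_fiberι s]; exact hy
    obtain ⟨y', rfl⟩ := hy2
    exact (key y').mp (H y')
  · intro H y'
    rw [key]
    apply H
    have : g.fiberι s y' ∈ Set.range (g.fiberι s) := ⟨y', rfl⟩
    rw [g.range_fiberι s] at this
    exact this

end Groth.Agent.Lib.Helper12.ConsPropNoeth

namespace Groth.Agent.Lib.Helper12.ConsPropNoeth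

open Groth.Agent.Lib.Helper12.ClosedSub TopologicalSpace

/-- A topological lemma: in a Noetherian quasi-sober space `Y` mapping to a `T₀` space with a
generic point `η`, if `E` contains a relative neighbourhood (in the closure) of each of its points
and contains the fibre over `η`, then `η` is not in the closure of the image of the complement. -/
theorem not_mem_closure_image_compl {Y S : Type*} [TopologicalSpace Y] [TopologicalSpace S]
    [NoetherianSpace Y] [QuasiSober Y] [T0Space S] (g : Y → S) (hg : Continuous g) (η : S)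
    (hη : ∀ s : S, η ⤳ s) (E : Set Y)
    (hE : ∀ y ∈ E, ∃ U : Set Y, IsOpen U ∧ y ∈ U ∧ U ∩ closure {y} ⊆ E)
    (hfib : ∀ y : Y, g y = η → y ∈ E) : η ∉ closure (g '' Eᶜ) := by
  have key : ∀ Z : Set Y, IsClosed Z → η ∉ closure (g '' (Eᶜ ∩ Z)) := by
    refine Groth.Agent.Lib.Helper7.ConstrNoeth.closed_induction
      (fun Z => η ∉ closure (g '' (Eᶜ ∩ Z))) ?_ ?_ ?_
    · simp
    · intro Y₁ Y₂ _ _ h1 h2
      show η ∉ closure (g '' (Eᶜ ∩ (Y₁ ∪ Y₂)))
      rw [Set.inter_union_distrib_left, Set.image_union, closure_union]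
      exact fun h => h.elim h1 h2
    · intro Z hZc hZi ih
      show η ∉ closure (g '' (Eᶜ ∩ Z))
      obtain ⟨z, hz⟩ := QuasiSober.sober hZi hZc
      by_cases hzE : z ∈ E
      · obtain ⟨U, hU, hzU, hUE⟩ := hE z hzE
        rw [hz.def] at hUE
        have hsub : Eᶜ ∩ Z = Eᶜ ∩ (Z \ U) := by
          ext y
          constructor
          · rintro ⟨hyE, hyZ⟩
            exact ⟨hyE, hyZ, fun hyU => hyE (hUE ⟨hyU, hyZ⟩)⟩
          · rintro ⟨hyE, hyZ, -⟩
            exact ⟨hyE, hyZ⟩
        rw [hsub]
        refine ih (Z \ U) (hZc.sdiff hU) ⟨Set.diff_subset, fun h => ?_⟩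
        exact (h hz.mem).2 hzU
      · intro hmem
        have h1 : closure (g '' (Eᶜ ∩ Z)) ⊆ closure {g z} := by
          apply closure_minimal _ isClosed_closure
          rintro _ ⟨y, ⟨-, hyZ⟩, rfl⟩
          have : z ⤳ y := by
            rw [specializes_iff_mem_closure, hz.def]; exact hyZ
          exact specializes_iff_mem_closure.mp (this.map hg)
        have h2 : g z ⤳ η := specializes_iff_mem_closure.mpr (h1 hmem)
        have h3 : g z = η := (h2.antisymm (hη (g z))).eq
        exact hzE (hfib z h3)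
  have := key Set.univ isClosed_univ
  rwa [Set.inter_univ] at this

open ConsProp in
/-- For an ind-constructible property, the locus contains a relative neighbourhood (in the closure)
of each of its points. -/
theorem exists_open_inter_closure_subset_locus {P : ∀ ⦃Y T : Scheme.{u}⦄, (Y ⟶ T) → Prop}
    (hP : IsIndCons P) {X S : Scheme.{u}} [IsNoetherian S] (u : X ⟶ S) [LocallyOfFiniteType u]
    [QuasiCompact u] (s : S) (hs : s ∈ locus P u) :
    ∃ U : Set S, IsOpen U ∧ s ∈ U ∧ U ∩ closure {s} ⊆ locus P u := by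
  have hloc : locus P (pullback.snd u (clSubι S s)) = (clSubι S s) ⁻¹' (locus P u) :=
    locus_preimage hP.1 (IsPullback.of_hasPullback u (clSubι S s))
  have hgen : genericPoint (clSub S s) ∈ locus P (pullback.snd u (clSubι S s)) := by
    rw [hloc]
    show clSubι S s (genericPoint (clSub S s)) ∈ locus P u
    rw [clSubι_genericPoint]
    exact hs
  obtain ⟨z, hz⟩ := hP.2 (pullback.snd u (clSubι S s)) hgen
  have hgen2 : genericPoint (clSub S s) ∈ interior (locus P (pullback.snd u (clSubι S s))) :=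
    (genericPoint_specializes z).mem_open isOpen_interior hz
  obtain ⟨U, hU, hUO⟩ := (clSubι S s).isEmbedding.isInducing.isOpen_iff.mp
    (isOpen_interior (s := locus P (pullback.snd u (clSubι S s))))
  refine ⟨U, hU, ?_, ?_⟩
  · have : genericPoint (clSub S s) ∈ (clSubι S s) ⁻¹' U := by rw [hUO]; exact hgen2
    rw [← clSubι_genericPoint S s]
    exact this
  · rintro t ⟨htU, htZ⟩
    rw [← range_clSubι] at htZ
    obtain ⟨z', rfl⟩ := htZ
    have h1 : z' ∈ (clSubι S s) ⁻¹' U := htU
    rw [hUO] at h1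
    have h2 := interior_subset h1
    rw [hloc] at h2
    exact h2

end Groth.Agent.Lib.Helper12.ConsPropNoeth
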