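import Mathlib
import Groth.Agent.S9183

/-!
# Affine schemes as cofiltered limits of affine schemes of finite presentation over a base,
and base change of such limits along a fixed morphism
-/

universe u

set_option backward.isDefEq.respectTransparency false

open CategoryTheory Limits AlgebraicGeometry TopologicalSpace

namespace Groth.Agent.Lib.Helper12.FpLimit

/-- `Spec B` is a cofiltered limit of affine schemes of finite presentation over `Spec R`. -/
theorem exists_limit_of_ringHom {R B : CommRingCat.{u}} (φ : R ⟶ B) :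
    ∃ (J : Type u) (_ : SmallCategory J) (_ : IsCofiltered J) (𝔇 : J ⥤ Scheme.{u})
      (τ : 𝔇 ⟶ (Functor.const J).obj (Spec R))
      (π : (Functor.const J).obj (Spec B) ⟶ 𝔇) (_ : IsLimit (Cone.mk _ π)),
      (∀ j, IsAffine (𝔇.obj j)) ∧ (∀ j, LocallyOfFinitePresentation (τ.app j)) ∧
      ∀ j, π.app j ≫ τ.app j = Spec.map φ := by
  letI : Algebra R B := φ.hom.toAlgebra
  obtain ⟨I, _, _, D', c', hc', hfp, ⟨iso⟩⟩ := Groth.Agent.S9183.result R B
  let G : I ⥤ CommRingCat.{u} := D' ⋙ Under.forget _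
  let γ : Cocone G := (Under.forget _).mapCocone c'
  have hγ : IsColimit γ := isColimitOfPreserves (Under.forget _) hc'
  let 𝔇 : Iᵒᵖ ⥤ Scheme.{u} := G.op ⋙ Scheme.Spec
  let cone : Cone 𝔇 := Scheme.Spec.mapCone γ.op
  have hcone : IsLimit cone := isLimitOfPreserves Scheme.Spec hγ.op
  let st : ∀ a : I, R ⟶ G.obj a := fun a => (D'.obj a).hom
  have hst : ∀ {a b : I} (m : a ⟶ b), st a ≫ G.map m = st b := fun {a b} m =>
    Under.w (D'.map m)
  let σ : R ⟶ γ.pt := c'.pt.hom
  have hσ : ∀ a : I, st a ≫ γ.ι.app a = σ := fun a => Under.w (c'.ι.app a)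
  let θ : γ.pt ≅ B := (Under.forget _).mapIso iso
  have hθ : σ ≫ θ.hom = φ := Under.w iso.hom
  let τ : 𝔇 ⟶ (Functor.const Iᵒᵖ).obj (Spec R) :=
    { app := fun j => Spec.map (st j.unop)
      naturality := fun j j' m => by
        have := hst m.unop
        simp only [Functor.const_obj_obj, Functor.const_obj_map, Category.comp_id]
        show Spec.map (G.map m.unop) ≫ Spec.map (st j'.unop) = Spec.map (st j.unop)
        rw [← Spec.map_comp, this] }
  let Θ : Spec B ≅ cone.pt := Scheme.Spec.mapIso θ.op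
  have hΘ : Θ.hom = Spec.map θ.hom := rfl
  refine ⟨Iᵒᵖ, inferInstance, inferInstance, 𝔇, τ, (cone.extend Θ.hom).π,
    IsLimit.extendIso Θ.hom hcone, fun j => inferInstanceAs (IsAffine (Spec _)),
    fun j => ?_, fun j => ?_⟩
  · show LocallyOfFinitePresentation (Spec.map (st j.unop))
    rw [HasRingHomProperty.Spec_iff (P := @LocallyOfFinitePresentation)]
    exact hfp j.unop
  · show (Θ.hom ≫ Spec.map (γ.ι.app j.unop)) ≫ Spec.map (st j.unop) = Spec.map φ
    rw [hΘ, ← Spec.map_comp, ← Spec.map_comp, ← Category.assoc, hσ, hθ]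

/-- An affine open `V` of `T` mapping into an affine open `S₁` of `S` is a cofiltered limit of
affine schemes locally of finite presentation over `S`. -/
theorem exists_limit_of_affineOpen {S T : Scheme.{u}} (g : T ⟶ S) (S₁ : S.Opens)
    (hS₁ : IsAffineOpen S₁) (V : T.Opens) (hV : IsAffineOpen V) (e : V ≤ g ⁻¹ᵁ S₁) :
    ∃ (J : Type u) (_ : SmallCategory J) (_ : IsCofiltered J) (𝔇 : J ⥤ Scheme.{u})
      (τ : 𝔇 ⟶ (Functor.const J).obj S)
      (π : (Functor.const J).obj (V : Scheme.{u}) ⟶ 𝔇) (_ : IsLimit (Cone.mk _ π)),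
      (∀ j, IsAffine (𝔇.obj j)) ∧ (∀ j, LocallyOfFinitePresentation (τ.app j)) ∧
      ∀ j, π.app j ≫ τ.app j = V.ι ≫ g := by
  obtain ⟨J, _, _, 𝔇, τ, π, hπ, h1, h2, h3⟩ := exists_limit_of_ringHom (g.appLE S₁ V e)
  let c : Cone 𝔇 := Cone.mk _ π
  refine ⟨J, inferInstance, inferInstance, 𝔇, τ ≫ (Functor.const J).map hS₁.fromSpec,
    (c.extend hV.isoSpec.hom).π,
    (IsLimit.extendIso (s := c) hV.isoSpec.hom hπ : IsLimit (c.extend hV.isoSpec.hom)), h1,
    fun j => ?_, fun j => ?_⟩
  · show LocallyOfFinitePresentation (τ.app j ≫ hS₁.fromSpec)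
    haveI := h2 j
    infer_instance
  · show (hV.isoSpec.hom ≫ π.app j) ≫ τ.app j ≫ hS₁.fromSpec = V.ι ≫ g
    rw [Category.assoc, reassoc_of% h3 j, IsAffineOpen.SpecMap_appLE_fromSpec g hS₁ hV e,
      IsAffineOpen.isoSpec_hom_fromSpec_assoc]

section FixedBase

variable {J : Type u} [SmallCategory J] (𝔇 : J ⥤ Scheme.{u}) {S X : Scheme.{u}}
  (τ : 𝔇 ⟶ (Functor.const J).obj S) (f : X ⟶ S)

/-- The diagram `j ↦ X ×_S 𝔇 j`. -/
noncomputable def fbDiagram : J ⥤ Scheme.{u} where
  obj j := pullback f (τ.app j)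
  map {j k} a := pullback.map f (τ.app j) f (τ.app k) (𝟙 X) (𝔇.map a) (𝟙 S) (by simp)
    (by have := τ.naturality a; simp only [Functor.const_obj_obj, Functor.const_obj_map,
      Category.comp_id] at this; rw [this, Category.comp_id])
  map_id j := by
    apply pullback.hom_ext <;> simp
  map_comp a b := by
    apply pullback.hom_ext <;> simp

@[simp] lemma fbDiagram_obj (j : J) : (fbDiagram 𝔇 τ f).obj j = pullback f (τ.app j) := rfl

@[reassoc (attr := simp)]
lemma fbDiagram_map_fst {j k : J} (a : j ⟶ k) :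
    (fbDiagram 𝔇 τ f).map a ≫ pullback.fst f (τ.app k) = pullback.fst f (τ.app j) := by
  simp [fbDiagram]

@[reassoc (attr := simp)]
lemma fbDiagram_map_snd {j k : J} (a : j ⟶ k) :
    (fbDiagram 𝔇 τ f).map a ≫ pullback.snd f (τ.app k) = pullback.snd f (τ.app j) ≫ 𝔇.map a := by
  simp [fbDiagram]

/-- The projection to the original diagram. -/
noncomputable def fbDiagramSnd : fbDiagram 𝔇 τ f ⟶ 𝔇 where
  app j := pullback.snd f (τ.app j)
  naturality j k a := fbDiagram_map_snd 𝔇 τ f a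

lemma isPullback_fbDiagram_map {j k : J} (a : j ⟶ k) :
    IsPullback ((fbDiagram 𝔇 τ f).map a) (pullback.snd f (τ.app j)) (pullback.snd f (τ.app k))
      (𝔇.map a) := by
  refine IsPullback.of_right ?_ (fbDiagram_map_snd 𝔇 τ f a) (IsPullback.of_hasPullback f (τ.app k))
  have := τ.naturality a
  simp only [Functor.const_obj_obj, Functor.const_obj_map, Category.comp_id] at this
  rw [fbDiagram_map_fst, this]
  exact IsPullback.of_hasPullback f (τ.app j)

instance isAffineHom_fbDiagram_map [∀ {i j : J} (a : i ⟶ j), IsAffineHom (𝔇.map a)]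
    {j k : J} (a : j ⟶ k) : IsAffineHom ((fbDiagram 𝔇 τ f).map a) :=
  MorphismProperty.of_isPullback (P := @IsAffineHom) (isPullback_fbDiagram_map 𝔇 τ f a).flip
    inferInstance

lemma compactSpace_fbDiagram_obj [QuasiCompact f] (j : J) [CompactSpace (𝔇.obj j)] :
    CompactSpace ((fbDiagram 𝔇 τ f).obj j) :=
  QuasiCompact.compactSpace_of_compactSpace (pullback.snd f (τ.app j))

variable {𝔇 τ}

/-- The cone over the base-changed diagram. -/
noncomputable def fbCone (c : Cone 𝔇) (σ : c.pt ⟶ S) (hσ : ∀ j, c.π.app j ≫ τ.app j = σ) :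
    Cone (fbDiagram 𝔇 τ f) where
  pt := pullback f σ
  π :=
  { app := fun j => pullback.map f σ f (τ.app j) (𝟙 X) (c.π.app j) (𝟙 S) (by simp)
      (by rw [hσ, Category.comp_id])
    naturality := fun j k a => by
      apply pullback.hom_ext
      · simp
      · simp only [Functor.const_obj_obj, Functor.const_obj_map, Category.id_comp,
          Category.assoc, fbDiagram_map_snd, pullback.lift_snd, pullback.map,
          pullback.lift_snd_assoc]
        rw [c.w a] }

@[reassoc (attr := simp)]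
lemma fbCone_π_fst (c : Cone 𝔇) (σ : c.pt ⟶ S) (hσ : ∀ j, c.π.app j ≫ τ.app j = σ) (j : J) :
    (fbCone f c σ hσ).π.app j ≫ pullback.fst f (τ.app j) = pullback.fst f σ := by
  simp [fbCone]

@[reassoc (attr := simp)]
lemma fbCone_π_snd (c : Cone 𝔇) (σ : c.pt ⟶ S) (hσ : ∀ j, c.π.app j ≫ τ.app j = σ) (j : J) :
    (fbCone f c σ hσ).π.app j ≫ pullback.snd f (τ.app j) = pullback.snd f σ ≫ c.π.app j := by
  simp [fbCone]

lemma isPullback_fbCone_π (c : Cone 𝔇) (σ : c.pt ⟶ S) (hσ : ∀ j, c.π.app j ≫ τ.app j = σ)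
    (j : J) :
    IsPullback ((fbCone f c σ hσ).π.app j) (pullback.snd f σ) (pullback.snd f (τ.app j))
      (c.π.app j) := by
  refine IsPullback.of_right ?_ (fbCone_π_snd f c σ hσ j) (IsPullback.of_hasPullback f (τ.app j))
  rw [fbCone_π_fst, hσ]
  exact IsPullback.of_hasPullback f σ

/-- The base-changed cone is a limit cone. -/
noncomputable def isLimitFbCone [IsCofiltered J] (c : Cone 𝔇) (hc : IsLimit c) (σ : c.pt ⟶ S)
    (hσ : ∀ j, c.π.app j ≫ τ.app j = σ) : IsLimit (fbCone f c σ hσ) :=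
  haveI : IsConnected J := IsCofiltered.isConnected J
  isLimitOfIsPullbackOfIsConnected (fbDiagramSnd 𝔇 τ f) _ c
    { hom := pullback.snd f σ
      w := fun j => (fbCone_π_snd f c σ hσ j).symm }
    (fun j => isPullback_fbCone_π f c σ hσ j) hc

end FixedBase

end Groth.Agent.Lib.Helper12.FpLimit
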