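import Mathlib
import Groth.Prelude.Def_EGA4Misc
import Groth.Agent.Lib.Helper12.ConsPropNoeth
import Groth.Agent.Lib.Helper12.FpLimit
import Groth.Agent.Lib.Helper26.ProConsSch

/-!
# Generic lemmas for constructibility of loci of fibre properties

Abstract (relation-independent) parts of EGA IV 9.3.3 / 9.2.3: Noetherian induction criteria,
reduction to affine charts, and presentation of an affine scheme as a cofiltered limit of
Noetherian affine schemes.
-/

set_option autoImplicit false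
universe u
open CategoryTheory CategoryTheory.Limits AlgebraicGeometry Topology TopologicalSpace

namespace Groth.Agent.Lib.Helper12.ConsPropGen

open Groth.Agent.Lib.Helper12.ClosedSub Groth.Agent.Lib.Helper26.ProConsTop
  Groth.Agent.Lib.Helper26.ProConsSch

/-- (N) Noetherian criterion for constructibility: on the reduced closure of each point, the
set or its complement contains a nonempty open. -/
theorem isConstructible_of_forall_clSub {S : Scheme.{u}} [IsNoetherian S] (E : Set S)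
    (H : ∀ ξ : S, (interior ((clSubι S ξ) ⁻¹' E)).Nonempty ∨
      (interior ((clSubι S ξ) ⁻¹' E)ᶜ).Nonempty) : IsConstructible E := by
  rw [Groth.Agent.Lib.Helper7.ConstrNoeth.isConstructible_iff_forall_irreducible_closed]
  intro Z hZc hZi
  obtain ⟨ξ, hξ⟩ : ∃ ξ : S, closure {ξ} = Z := by
    obtain ⟨ξ, hξ⟩ := QuasiSober.sober hZi hZc
    exact ⟨ξ, hξ.def⟩
  subst hξ
  have hopen : ∀ O : Set (clSub S ξ), IsOpen O → ∃ U : Set S, IsOpen U ∧
      (clSubι S ξ) ⁻¹' U = O := by
    intro O hO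
    obtain ⟨U, hU, hUO⟩ := (clSubι S ξ).isEmbedding.isInducing.isOpen_iff.mp hO
    exact ⟨U, hU, hUO⟩
  rcases H ξ with h | h
  · right
    obtain ⟨z, hz⟩ := h
    obtain ⟨U, hU, hUO⟩ := hopen _ isOpen_interior
    refine ⟨U, hU, ⟨clSubι S ξ z, ?_, ?_⟩, ?_⟩
    · have : z ∈ (clSubι S ξ) ⁻¹' U := by rw [hUO]; exact hz
      exact this
    · rw [← range_clSubι]; exact ⟨z, rfl⟩
    · rintro s ⟨hsU, hsZ⟩
      rw [← range_clSubι] at hsZ
      obtain ⟨z', rfl⟩ := hsZ
      have h1 : z' ∈ (clSubι S ξ) ⁻¹' U := hsU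
      rw [hUO] at h1
      have h2 : z' ∈ (clSubι S ξ) ⁻¹' E := interior_subset h1
      exact h2
  · left
    obtain ⟨z, hz⟩ := h
    obtain ⟨U, hU, hUO⟩ := hopen _ isOpen_interior
    refine Groth.Agent.Lib.Helper7.ConstrNoeth.isNowhereDense_of_inter_subset_compl
      hZi.isPreirreducible hU ⟨clSubι S ξ z, ?_, ?_⟩ ?_
    · have : z ∈ (clSubι S ξ) ⁻¹' U := by rw [hUO]; exact hz
      exact this
    · rw [← range_clSubι]; exact ⟨z, rfl⟩
    · rintro s ⟨hsU, hsZ⟩
      rw [← range_clSubι] at hsZ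
      obtain ⟨z', rfl⟩ := hsZ
      have h1 : z' ∈ (clSubι S ξ) ⁻¹' U := hsU
      rw [hUO] at h1
      have h2 : z' ∈ ((clSubι S ξ) ⁻¹' E)ᶜ := interior_subset h1
      exact h2

/-- (N') relative neighbourhood in the closure of a point. -/
theorem exists_open_inter_closure_subset {S : Scheme.{u}} (E : Set S) (s : S)
    (H : (interior ((clSubι S s) ⁻¹' E)).Nonempty) :
    ∃ U : Set S, IsOpen U ∧ s ∈ U ∧ U ∩ closure {s} ⊆ E := by
  obtain ⟨z, hz⟩ := H
  have hgen2 : genericPoint (clSub S s) ∈ interior ((clSubι S s) ⁻¹' E) :=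
    (genericPoint_specializes z).mem_open isOpen_interior hz
  obtain ⟨U, hU, hUO⟩ := (clSubι S s).isEmbedding.isInducing.isOpen_iff.mp
    (isOpen_interior (s := (clSubι S s) ⁻¹' E))
  refine ⟨U, hU, ?_, ?_⟩
  · have : genericPoint (clSub S s) ∈ (clSubι S s) ⁻¹' U := by rw [hUO]; exact hgen2
    rw [← clSubι_genericPoint S s]
    exact this
  · rintro t ⟨htU, htZ⟩
    rw [← range_clSubι] at htZ
    obtain ⟨z', rfl⟩ := htZ
    have h1 : z' ∈ (clSubι S s) ⁻¹' U := htU
    rw [hUO] at h1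
    have h2 : z' ∈ (clSubι S s) ⁻¹' E := interior_subset h1
    exact h2

/-- (N'') In a Noetherian scheme, a set containing a relative neighbourhood of each of its points
is a union of constructible sets. -/
theorem exists_sUnion_constructible {S : Scheme.{u}} [IsNoetherian S] (E : Set S)
    (H : ∀ s ∈ E, ∃ U : Set S, IsOpen U ∧ s ∈ U ∧ U ∩ closure {s} ⊆ E) :
    ∃ 𝒞 : Set (Set S), (∀ C ∈ 𝒞, IsConstructible C) ∧ E = ⋃₀ 𝒞 := by
  have hopen : ∀ U : Set S, IsOpen U → IsConstructible U := fun U hU =>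
    (NoetherianSpace.isCompact U).isConstructible hU
  refine ⟨{C | IsConstructible C ∧ C ⊆ E}, fun C hC => hC.1, ?_⟩
  apply Set.Subset.antisymm
  · intro s hs
    obtain ⟨U, hU, hsU, hUE⟩ := H s hs
    refine ⟨U ∩ closure {s}, ⟨(hopen U hU).inter ?_, hUE⟩, hsU, subset_closure rfl⟩
    rw [← isConstructible_compl]
    exact hopen _ isClosed_closure.isOpen_compl
  · rintro s ⟨C, ⟨-, hCE⟩, hsC⟩
    exact hCE hsC

/-- (T1) local constructibility from affine charts. -/
theorem isLocallyConstructible_of_affine_charts {S : Scheme.{u}} (E : Set S)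
    (H : ∀ V : S.Opens, IsAffineOpen V → ∃ (N : Scheme.{u}) (p : (V : Scheme.{u}) ⟶ N)
      (E' : Set N), IsConstructible E' ∧ V.ι ⁻¹' E = p ⁻¹' E') :
    IsLocallyConstructible E := by
  refine IsLocallyConstructible.of_isOpenCover (U := fun V : S.affineOpens => V.1)
    (IsOpenCover.mk (iSup_affineOpens_eq_top S)) fun V => ?_
  obtain ⟨N, p, E', hE', he⟩ := H V.1 V.2
  have : IsConstructible (V.1.ι ⁻¹' E) := by
    rw [he]
    exact p.isConstructible_preimage hE'
  exact this.isLocallyConstructible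

/-- (T2) ind-constructibility from affine charts. -/
theorem isIndConstructible_of_affine_charts {S : Scheme.{u}} (E : Set S)
    (H : ∀ V : S.Opens, IsAffineOpen V → ∃ (N : Scheme.{u}) (p : (V : Scheme.{u}) ⟶ N)
      (𝒞 : Set (Set N)), (∀ C ∈ 𝒞, IsConstructible C) ∧ V.ι ⁻¹' E = p ⁻¹' (⋃₀ 𝒞)) :
    ProCons.IsIndConstructible E := by
  rw [isIndConstructible_iff]
  intro V hV
  haveI : IsAffine (V : Scheme.{u}) := hV
  obtain ⟨N, p, 𝒞, h𝒞, he⟩ := H V hV
  have e2 : V.ι.base ⁻¹' E = ⋃₀ ((fun C => p ⁻¹' C) '' 𝒞) := by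
    show V.ι ⁻¹' E = _
    rw [he, Set.preimage_sUnion, Set.sUnion_image]
  rw [e2]
  refine isOpen_cons_sUnion ?_
  rintro _ ⟨C, hC, rfl⟩
  exact p.isConstructible_preimage (h𝒞 C hC)

instance : IsNoetherianRing (ULift.{u} ℤ) :=
  isNoetherianRing_of_ringEquiv ℤ ULift.ringEquiv.symm

set_option backward.isDefEq.respectTransparency false in
/-- (L) An affine open of any scheme is a cofiltered limit of Noetherian affine schemes. -/
theorem exists_noetherian_limit {S : Scheme.{u}} (V : S.Opens) (hV : IsAffineOpen V) :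
    ∃ (J : Type u) (_ : SmallCategory J) (_ : IsCofiltered J) (𝔇 : J ⥤ Scheme.{u})
      (π : (Functor.const J).obj (V : Scheme.{u}) ⟶ 𝔇) (_ : IsLimit (Cone.mk _ π)),
      (∀ j, IsAffine (𝔇.obj j)) ∧ (∀ j, IsNoetherian (𝔇.obj j)) := by
  let g : S ⟶ Spec (.of (ULift.{u} ℤ)) := specULiftZIsTerminal.from S
  obtain ⟨J, _, _, 𝔇, τ, π, hπ, h1, h2, -⟩ :=
    Groth.Agent.Lib.Helper12.FpLimit.exists_limit_of_affineOpen g ⊤
      (isAffineOpen_top _) V hV le_top
  refine ⟨J, inferInstance, inferInstance, 𝔇, π, hπ, h1, fun j => ?_⟩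
  haveI := h1 j
  obtain ⟨t, ht⟩ : ∃ t : 𝔇.obj j ⟶ Spec (.of (ULift.{u} ℤ)), t = τ.app j := ⟨_, rfl⟩
  haveI : LocallyOfFinitePresentation t := ht ▸ h2 j
  haveI : IsLocallyNoetherian (𝔇.obj j) := LocallyOfFiniteType.isLocallyNoetherian t
  exact ⟨⟩

end Groth.Agent.Lib.Helper12.ConsPropGen
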