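import Mathlib
import Groth.Agent.S4600
import Groth.Agent.S12442

/-!
# Descent of affine schemes of finite presentation through cofiltered limits (affine charts)

`exists_descend_of_isAffine`: in a cofiltered system of affine schemes, an affine scheme of finite
presentation over the limit descends to a stage (ring-level descent S4600).
`exists_descend_of_isAffine_of_le`: the same over a general system with affine transition maps,
for an affine scheme mapping into the preimage of an affine open of a stage.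
-/

universe u
set_option backward.isDefEq.respectTransparency false
set_option linter.style.haveILetI false
open CategoryTheory Limits AlgebraicGeometry TopologicalSpace TensorProduct

namespace Groth.Agent.Lib.Helper12.FpDescAff

theorem isPullback_Spec_of_algEquiv (A R B Bi : Type u) [CommRing A] [CommRing R] [CommRing B]
    [CommRing Bi] [Algebra A R] [Algebra A Bi] [Algebra R B] (e : B ≃ₐ[R] R ⊗[A] Bi) :
    IsPullback
      (Spec.map (CommRingCat.ofHom
        ((e.symm : R ⊗[A] Bi →+* B).comp Algebra.TensorProduct.includeRight.toRingHom)))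
      (Spec.map (CommRingCat.ofHom (algebraMap R B)))
      (Spec.map (CommRingCat.ofHom (algebraMap A Bi)))
      (Spec.map (CommRingCat.ofHom (algebraMap A R))) := by
  have P := CommRingCat.isPushout_tensorProduct A R Bi
  let ε : CommRingCat.of (R ⊗[A] Bi) ≅ CommRingCat.of B := e.symm.toRingEquiv.toCommRingCatIso
  have P' : IsPushout (CommRingCat.ofHom (algebraMap A R)) (CommRingCat.ofHom (algebraMap A Bi))
      (CommRingCat.ofHom (algebraMap R B))
      (CommRingCat.ofHom
        ((e.symm : R ⊗[A] Bi →+* B).comp Algebra.TensorProduct.includeRight.toRingHom)) := by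
    refine P.of_iso (Iso.refl _) (Iso.refl _) (Iso.refl _) ε (by simp) (by simp) ?_ ?_
    · ext r
      simp only [Iso.refl_hom, Category.id_comp, CommRingCat.hom_comp, CommRingCat.hom_ofHom,
        RingHom.coe_comp, Function.comp_apply]
      change e.symm (r ⊗ₜ 1) = _
      have : (r ⊗ₜ[A] (1 : Bi) : R ⊗[A] Bi) = algebraMap R (R ⊗[A] Bi) r := rfl
      rw [this, e.symm.commutes]
    · ext b
      rfl
  exact (isPullback_SpecMap_of_isPushout _ _ _ _ P').flip

/-- All-affine case: a finitely presented algebra over a filtered colimit descends. -/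
theorem exists_descend_of_isAffine {I : Type u} [SmallCategory I] [IsCofiltered I]
    (D : I ⥤ Scheme.{u}) (c : Cone D) (hc : IsLimit c) [∀ i, IsAffine (D.obj i)]
    {Z : Scheme.{u}} [IsAffine Z] (h : Z ⟶ c.pt) [LocallyOfFinitePresentation h] :
    ∃ (i : I) (Zi : Scheme.{u}) (hi : Zi ⟶ D.obj i) (g : Z ⟶ Zi),
      LocallyOfFinitePresentation hi ∧ IsAffine Zi ∧ IsPullback g h hi (c.π.app i) := by
  haveI : IsAffine c.pt := Scheme.isAffine_of_isLimit c hc
  haveI : ∀ {i j : I} (f : i ⟶ j), IsAffineHom (D.map f) := fun f => inferInstance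
  obtain ⟨hcol⟩ := nonempty_isColimit_Γ_mapCocone D c hc
  have hfp : (h.appTop).hom.FinitePresentation :=
    (HasRingHomProperty.iff_of_isAffine (P := @LocallyOfFinitePresentation)).mp inferInstance
  letI alg : Algebra ↑(Scheme.Γ.mapCocone c.op).pt ↑Γ(Z, ⊤) := (h.appTop).hom.toAlgebra
  haveI : Algebra.FinitePresentation ↑(Scheme.Γ.mapCocone c.op).pt ↑Γ(Z, ⊤) := hfp
  obtain ⟨i, Bi, _, _, hBi, ⟨e⟩⟩ := Groth.Agent.S4600.result (D.op ⋙ Scheme.Γ)
    (Scheme.Γ.mapCocone c.op) hcol Γ(Z, ⊤)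
  letI : Algebra ↑((D.op ⋙ Scheme.Γ).obj i) ↑(Scheme.Γ.mapCocone c.op).pt :=
    ((Scheme.Γ.mapCocone c.op).ι.app i).hom.toAlgebra
  have sq := isPullback_Spec_of_algEquiv ↑((D.op ⋙ Scheme.Γ).obj i)
    ↑(Scheme.Γ.mapCocone c.op).pt ↑Γ(Z, ⊤) Bi e
  have e1 : CommRingCat.ofHom (algebraMap ↑(Scheme.Γ.mapCocone c.op).pt ↑Γ(Z, ⊤)) = h.appTop := rfl
  have e2 : CommRingCat.ofHom (algebraMap ↑((D.op ⋙ Scheme.Γ).obj i)
      ↑(Scheme.Γ.mapCocone c.op).pt) = (c.π.app i.unop).appTop := rfl
  rw [e1, e2] at sq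
  refine ⟨i.unop, Spec (CommRingCat.of Bi),
    Spec.map (CommRingCat.ofHom (algebraMap ↑((D.op ⋙ Scheme.Γ).obj i) Bi)) ≫
      (D.obj i.unop).isoSpec.inv, Z.isoSpec.hom ≫ Spec.map (CommRingCat.ofHom
        ((e.symm : ↑(Scheme.Γ.mapCocone c.op).pt ⊗[↑((D.op ⋙ Scheme.Γ).obj i)] Bi →+* ↑Γ(Z, ⊤)).comp
          Algebra.TensorProduct.includeRight.toRingHom)), ?_,
    inferInstance, ?_⟩
  · have : LocallyOfFinitePresentation
        (Spec.map (CommRingCat.ofHom (algebraMap ↑((D.op ⋙ Scheme.Γ).obj i) Bi))) := by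
      rw [HasRingHomProperty.Spec_iff (P := @LocallyOfFinitePresentation)]
      exact RingHom.finitePresentation_algebraMap.mpr hBi
    infer_instance
  · refine sq.of_iso Z.isoSpec.symm (Iso.refl _) c.pt.isoSpec.symm (D.obj i.unop).isoSpec.symm
      ?_ ?_ ?_ ?_
    · simp
    · simp only [Iso.symm_hom]
      rw [← Scheme.isoSpec_inv_naturality]
    · simp
    · simp only [Iso.symm_hom]
      rw [← Scheme.isoSpec_inv_naturality]

theorem exists_descend_of_isAffine_of_le {I : Type u} [SmallCategory I] [IsCofiltered I]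
    (D : I ⥤ Scheme.{u}) (c : Cone D) (hc : IsLimit c)
    [∀ {i j : I} (f : i ⟶ j), IsAffineHom (D.map f)]
    [∀ i, QuasiSeparatedSpace (D.obj i)]
    {Z : Scheme.{u}} [IsAffine Z] (h : Z ⟶ c.pt) [LocallyOfFinitePresentation h]
    (i : I) (V : (D.obj i).Opens) (hV : IsAffineOpen V)
    (hhV : Set.range h ⊆ ((c.π.app i ⁻¹ᵁ V : c.pt.Opens) : Set c.pt)) :
    ∃ (j : I) (Zj : Scheme.{u}) (hj : Zj ⟶ D.obj j) (g : Z ⟶ Zj),
      LocallyOfFinitePresentation hj ∧ QuasiCompact hj ∧ QuasiSeparated hj ∧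
        IsPullback g h hj (c.π.app j) := by
  haveI : ∀ j : Over i, IsAffine ((opensDiagram D i V).obj j) := fun j =>
    hV.preimage (D.map j.hom)
  let h' : Z ⟶ (opensCone D c i V).pt :=
    IsOpenImmersion.lift (c.π.app i ⁻¹ᵁ V).ι h (hhV.trans (Scheme.Opens.range_ι _).ge)
  have hh' : h' ≫ (c.π.app i ⁻¹ᵁ V).ι = h := IsOpenImmersion.lift_fac _ _ _
  haveI : LocallyOfFinitePresentation h' := by
    haveI : LocallyOfFinitePresentation (h' ≫ (c.π.app i ⁻¹ᵁ V).ι) := by rw [hh']; infer_instance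
    exact Groth.Agent.S12442.result h' (c.π.app i ⁻¹ᵁ V).ι
  obtain ⟨j, Zj, hj, g, hfp, haff, sq⟩ := exists_descend_of_isAffine (opensDiagram D i V)
    (opensCone D c i V) (isLimitOpensCone D c hc i V) h'
  have sq2 : IsPullback ((opensCone D c i V).π.app j) (c.π.app i ⁻¹ᵁ V).ι
      (D.map j.hom ⁻¹ᵁ V).ι (c.π.app j.left) :=
    IsOpenImmersion.isPullback _ _ _ _ (by simp) (by simp [← Scheme.Hom.comp_preimage])
  have sq3 := sq.paste_vert sq2
  rw [hh'] at sq3
  haveI : CompactSpace ↥((opensDiagram D i V).obj j) := by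
    haveI : IsAffine ((opensDiagram D i V).obj j) := inferInstance
    infer_instance
  refine ⟨j.left, Zj, hj ≫ (D.map j.hom ⁻¹ᵁ V).ι, g, inferInstance, ?_, inferInstance, sq3⟩
  haveI : QuasiCompact hj := by
    haveI : IsAffine ((opensDiagram D i V).obj j) := inferInstance
    infer_instance
  haveI : QuasiCompact (D.map j.hom ⁻¹ᵁ V).ι := by
    exact quasiCompact_of_compactSpace (X := ((opensDiagram D i V).obj j)) _
  infer_instance

end Groth.Agent.Lib.Helper12.FpDescAff
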