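import Mathlib

/-!
# Gluing two schemes of finite presentation along a quasi-compact open

Pure geometry (no limits): pushouts of two open immersions, gluing morphisms on a two-piece open
cover, quasi-separatedness of a union of two quasi-separated opens with quasi-compact
intersection, finite presentation of the glued structure morphism, and stability of the gluing
under base change (`isPullback_glue`).
-/

universe u

open CategoryTheory Limits AlgebraicGeometry TopologicalSpace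

namespace Groth.Agent.Lib.Helper12.FpGlue

section Pushout

variable {U₀ V₀ O₀ : Scheme.{u}} (ι : O₀ ⟶ U₀) (ψ : O₀ ⟶ V₀) [IsOpenImmersion ι]
  [IsOpenImmersion ψ]

instance isOpenImmersion_inl : IsOpenImmersion (pushout.inl ι ψ) :=
  inferInstanceAs (IsOpenImmersion (colimit.ι (span ι ψ) WalkingSpan.left))

instance isOpenImmersion_inr : IsOpenImmersion (pushout.inr ι ψ) :=
  inferInstanceAs (IsOpenImmersion (colimit.ι (span ι ψ) WalkingSpan.right))

lemma inl_eq_inr_iff {a : U₀} {b : V₀} :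
    pushout.inl ι ψ a = pushout.inr ι ψ b ↔ ∃ o : O₀, ι o = a ∧ ψ o = b := by
  constructor
  · intro h
    obtain ⟨k, fi, fj, x, hx1, hx2⟩ :=
      (Scheme.IsLocallyDirected.ι_eq_ι_iff (F := span ι ψ) (i := WalkingSpan.left)
        (j := WalkingSpan.right) (xi := a) (xj := b)).mp h
    rcases k with _ | _ | _
    · change WidePushoutShape.Hom _ _ at fi fj
      cases fi
      cases fj
      exact ⟨x, hx1, hx2⟩
    · change WidePushoutShape.Hom _ _ at fj
      cases fj
    · change WidePushoutShape.Hom _ _ at fi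
      cases fi
  · rintro ⟨o, rfl, rfl⟩
    rw [← Scheme.Hom.comp_apply, ← Scheme.Hom.comp_apply, pushout.condition]

lemma mem_range_inl_or_inr (z : ↥(pushout ι ψ)) :
    z ∈ Set.range (pushout.inl ι ψ) ∨ z ∈ Set.range (pushout.inr ι ψ) := by
  obtain ⟨k, x, hx⟩ := Scheme.IsLocallyDirected.ι_jointly_surjective (span ι ψ) z
  rcases k with _ | _ | _
  · left
    refine ⟨ι x, ?_⟩
    rw [← hx]
    have := (colimit.w (span ι ψ) (WidePushoutShape.Hom.init WalkingPair.left))
    rw [← this]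
    rfl
  · left; exact ⟨x, hx⟩
  · right; exact ⟨x, hx⟩

end Pushout

/-- Gluing two morphisms along two open immersions covering `Z`. -/
theorem exists_glue_two' {U V W Z Y : Scheme.{u}} (jU : U ⟶ Z) (jV : V ⟶ Z)
    [IsOpenImmersion jU] [IsOpenImmersion jV] (pU : W ⟶ U) (pV : W ⟶ V)
    (hW : IsPullback pU pV jU jV)
    (hcov : ∀ z : Z, z ∈ Set.range jU ∨ z ∈ Set.range jV)
    (f₁ : U ⟶ Y) (f₂ : V ⟶ Y) (H : pU ≫ f₁ = pV ≫ f₂) :
    ∃ f : Z ⟶ Y, jU ≫ f = f₁ ∧ jV ≫ f = f₂ := by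
  let 𝒰 : Z.OpenCover := Scheme.Cover.mkOfCovers Bool (fun b => bif b then U else V)
    (fun b => match b with
      | true => jU
      | false => jV)
    (fun z => by
      rcases hcov z with ⟨y, hy⟩ | ⟨y, hy⟩
      · exact ⟨true, y, hy⟩
      · exact ⟨false, y, hy⟩)
    (fun b => by
      cases b
      · exact inferInstanceAs (IsOpenImmersion jV)
      · exact inferInstanceAs (IsOpenImmersion jU))
  let F : ∀ b, 𝒰.X b ⟶ Y := fun b => match b with
    | true => f₁
    | false => f₂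
  have H' : ∀ (T : Scheme.{u}) (r₁ : T ⟶ U) (r₂ : T ⟶ V), r₁ ≫ jU = r₂ ≫ jV →
      r₁ ≫ f₁ = r₂ ≫ f₂ := by
    intro T r₁ r₂ hr
    have h1 : hW.lift r₁ r₂ hr ≫ pU = r₁ := hW.lift_fst _ _ _
    have h2 : hW.lift r₁ r₂ hr ≫ pV = r₂ := hW.lift_snd _ _ _
    calc r₁ ≫ f₁ = (hW.lift r₁ r₂ hr ≫ pU) ≫ f₁ := by rw [h1]
      _ = (hW.lift r₁ r₂ hr ≫ pV) ≫ f₂ := by rw [Category.assoc, H, Category.assoc]
      _ = r₂ ≫ f₂ := by rw [h2]
  have hmono : ∀ b, Mono (𝒰.f b) := fun b => by
    have : IsOpenImmersion (𝒰.f b) := 𝒰.map_prop b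
    infer_instance
  have hF : ∀ b b', pullback.fst (𝒰.f b) (𝒰.f b') ≫ F b = pullback.snd _ _ ≫ F b' := by
    rintro (_ | _) (_ | _)
    · have e : pullback.fst (𝒰.f false) (𝒰.f false) = pullback.snd _ _ :=
        (hmono false).right_cancellation _ _ pullback.condition
      rw [e]
    · exact (H' _ (pullback.snd (𝒰.f false) (𝒰.f true)) (pullback.fst _ _)
        pullback.condition.symm).symm
    · exact H' _ (pullback.fst (𝒰.f true) (𝒰.f false)) (pullback.snd _ _) pullback.condition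
    · have e : pullback.fst (𝒰.f true) (𝒰.f true) = pullback.snd _ _ :=
        (hmono true).right_cancellation _ _ pullback.condition
      rw [e]
  exact ⟨𝒰.glueMorphisms F hF, 𝒰.ι_glueMorphisms F hF true, 𝒰.ι_glueMorphisms F hF false⟩

/-- A scheme covered by two quasi-separated opens with quasi-compact intersection is
quasi-separated. -/
theorem quasiSeparatedSpace_of_two_opens {X : Scheme.{u}} (U V : X.Opens)
    (hcov : ∀ x : X, x ∈ U ∨ x ∈ V)
    (hU : IsQuasiSeparated (U : Set X)) (hV : IsQuasiSeparated (V : Set X))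
    (hO : IsCompact ((U : Set X) ∩ V)) : QuasiSeparatedSpace X := by
  have hOo : IsOpen ((U : Set X) ∩ V) := U.2.inter V.2
  have key : ∀ (A B : X.affineOpens), A.1 ≤ U → B.1 ≤ V →
      IsCompact ((A.1 : Set X) ∩ B.1) := by
    intro A B hA hB
    have h1 : IsCompact ((A.1 : Set X) ∩ ((U : Set X) ∩ V)) :=
      hU _ _ hA A.1.2 A.2.isCompact Set.inter_subset_left hOo hO
    have h2 : IsCompact ((B.1 : Set X) ∩ ((U : Set X) ∩ V)) :=
      hV _ _ hB B.1.2 B.2.isCompact Set.inter_subset_right hOo hO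
    have e : ((A.1 : Set X) ∩ B.1) =
        ((A.1 : Set X) ∩ ((U : Set X) ∩ V)) ∩ ((B.1 : Set X) ∩ ((U : Set X) ∩ V)) := by
      ext x
      simp only [Set.mem_inter_iff, SetLike.mem_coe]
      constructor
      · rintro ⟨h1, h2⟩
        exact ⟨⟨h1, hA h1, hB h2⟩, h2, hA h1, hB h2⟩
      · rintro ⟨⟨h1, _⟩, h2, _⟩
        exact ⟨h1, h2⟩
    rw [e]
    exact hU _ _ (Set.inter_subset_left.trans hA) (A.1.2.inter hOo) h1
      (Set.inter_subset_right.trans Set.inter_subset_left) (B.1.2.inter hOo) h2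
  let J := {A : X.affineOpens // A.1 ≤ U ∨ A.1 ≤ V}
  refine Scheme.quasiSeparatedSpace_of_isOpenCover (fun A : J => A.1.1) ?_ (fun A => A.1.2) ?_
  · refine IsOpenCover.mk (top_unique fun x _ => ?_)
    rw [Opens.mem_iSup]
    rcases hcov x with hx | hx
    · obtain ⟨_, ⟨W, hW, rfl⟩, hxW, hWU⟩ :=
        (X.isBasis_affineOpens).exists_subset_of_mem_open hx U.2
      exact ⟨⟨⟨W, hW⟩, Or.inl hWU⟩, hxW⟩
    · obtain ⟨_, ⟨W, hW, rfl⟩, hxW, hWU⟩ :=
        (X.isBasis_affineOpens).exists_subset_of_mem_open hx V.2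
      exact ⟨⟨⟨W, hW⟩, Or.inr hWU⟩, hxW⟩
  · rintro ⟨A, hA | hA⟩ ⟨B, hB | hB⟩
    · exact hU _ _ hA A.1.2 A.2.isCompact hB B.1.2 B.2.isCompact
    · exact key A B hA hB
    · have := key B A hB hA
      rwa [Set.inter_comm] at this
    · exact hV _ _ hA A.1.2 A.2.isCompact hB B.1.2 B.2.isCompact

section FP

variable {U₀ V₀ O₀ T : Scheme.{u}} (ι : O₀ ⟶ U₀) (ψ : O₀ ⟶ V₀) [IsOpenImmersion ι]
  [IsOpenImmersion ψ] (hU : U₀ ⟶ T) (hV : V₀ ⟶ T) (hO : ι ≫ hU = ψ ≫ hV)

/-- The two-piece open cover of the pushout. -/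
noncomputable def pushoutCover : (pushout ι ψ).OpenCover :=
  Scheme.Cover.mkOfCovers Bool (fun b => bif b then U₀ else V₀)
    (fun b => match b with
      | true => pushout.inl ι ψ
      | false => pushout.inr ι ψ)
    (fun z => by
      rcases mem_range_inl_or_inr ι ψ z with ⟨y, hy⟩ | ⟨y, hy⟩
      · exact ⟨true, y, hy⟩
      · exact ⟨false, y, hy⟩)
    (fun b => by
      cases b
      · exact inferInstanceAs (IsOpenImmersion (pushout.inr ι ψ))
      · exact inferInstanceAs (IsOpenImmersion (pushout.inl ι ψ)))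

include hO in
theorem locallyOfFinitePresentation_desc [LocallyOfFinitePresentation hU]
    [LocallyOfFinitePresentation hV] :
    LocallyOfFinitePresentation (pushout.desc hU hV hO) := by
  refine IsZariskiLocalAtSource.of_openCover (P := @LocallyOfFinitePresentation)
    (pushoutCover ι ψ) ?_
  rintro (_ | _)
  · change LocallyOfFinitePresentation (pushout.inr ι ψ ≫ pushout.desc hU hV hO)
    rw [pushout.inr_desc]
    infer_instance
  · change LocallyOfFinitePresentation (pushout.inl ι ψ ≫ pushout.desc hU hV hO)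
    rw [pushout.inl_desc]
    infer_instance

theorem compactSpace_pushout [CompactSpace U₀] [CompactSpace V₀] :
    CompactSpace ↥(pushout ι ψ) := by
  constructor
  have : (Set.univ : Set ↥(pushout ι ψ)) =
      Set.range (pushout.inl ι ψ) ∪ Set.range (pushout.inr ι ψ) := by
    ext z
    simpa using mem_range_inl_or_inr ι ψ z
  rw [this]
  exact (isCompact_range (pushout.inl ι ψ).continuous).union
    (isCompact_range (pushout.inr ι ψ).continuous)

theorem quasiSeparatedSpace_pushout [QuasiSeparatedSpace U₀] [QuasiSeparatedSpace V₀]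
    [CompactSpace O₀] : QuasiSeparatedSpace ↥(pushout ι ψ) := by
  refine quasiSeparatedSpace_of_two_opens (pushout.inl ι ψ).opensRange
    (pushout.inr ι ψ).opensRange (fun z => mem_range_inl_or_inr ι ψ z) ?_ ?_ ?_
  · rw [Scheme.Hom.coe_opensRange, ← Set.image_univ]
    exact (isQuasiSeparated_univ (α := U₀)).image_of_isEmbedding
      (pushout.inl ι ψ).isOpenEmbedding.isEmbedding
  · rw [Scheme.Hom.coe_opensRange, ← Set.image_univ]
    exact (isQuasiSeparated_univ (α := V₀)).image_of_isEmbedding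
      (pushout.inr ι ψ).isOpenEmbedding.isEmbedding
  · have : ((pushout.inl ι ψ).opensRange : Set ↥(pushout ι ψ)) ∩ (pushout.inr ι ψ).opensRange =
        Set.range (ι ≫ pushout.inl ι ψ) := by
      ext z
      simp only [Scheme.Hom.coe_opensRange, Set.mem_inter_iff, Set.mem_range]
      constructor
      · rintro ⟨⟨a, rfl⟩, b, hb⟩
        obtain ⟨o, rfl, -⟩ := (inl_eq_inr_iff ι ψ).mp hb.symm
        exact ⟨o, rfl⟩
      · rintro ⟨o, rfl⟩
        refine ⟨⟨ι o, rfl⟩, ψ o, ?_⟩
        rw [← Scheme.Hom.comp_apply, pushout.condition]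
    rw [this]
    exact isCompact_range (ι ≫ pushout.inl ι ψ).continuous

include hO in
/-- The glued structure morphism is of finite presentation. -/
theorem fp_desc [LocallyOfFinitePresentation hU] [QuasiCompact hU] [QuasiSeparated hU]
    [LocallyOfFinitePresentation hV] [QuasiCompact hV] [QuasiSeparated hV]
    [CompactSpace O₀] [CompactSpace T] [QuasiSeparatedSpace T] :
    LocallyOfFinitePresentation (pushout.desc hU hV hO) ∧ QuasiCompact (pushout.desc hU hV hO) ∧
      QuasiSeparated (pushout.desc hU hV hO) := by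
  haveI : CompactSpace U₀ := QuasiCompact.compactSpace_of_compactSpace hU
  haveI : CompactSpace V₀ := QuasiCompact.compactSpace_of_compactSpace hV
  haveI : QuasiSeparatedSpace U₀ := quasiSeparatedSpace_of_quasiSeparated hU
  haveI : QuasiSeparatedSpace V₀ := quasiSeparatedSpace_of_quasiSeparated hV
  haveI := compactSpace_pushout ι ψ
  haveI := quasiSeparatedSpace_pushout ι ψ
  exact ⟨locallyOfFinitePresentation_desc ι ψ hU hV hO, inferInstance, inferInstance⟩

end FP

section BaseChange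

set_option backward.isDefEq.respectTransparency false

theorem hom_ext_two' {U V Z Y : Scheme.{u}} (jU : U ⟶ Z) (jV : V ⟶ Z)
    [IsOpenImmersion jU] [IsOpenImmersion jV]
    (hcov : ∀ z : Z, z ∈ Set.range jU ∨ z ∈ Set.range jV)
    (f₁ f₂ : Z ⟶ Y) (h1 : jU ≫ f₁ = jU ≫ f₂) (h2 : jV ≫ f₁ = jV ≫ f₂) : f₁ = f₂ := by
  let 𝒰 : Z.OpenCover := Scheme.Cover.mkOfCovers Bool (fun b => bif b then U else V)
    (fun b => match b with
      | true => jU
      | false => jV)
    (fun z => by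
      rcases hcov z with ⟨y, hy⟩ | ⟨y, hy⟩
      · exact ⟨true, y, hy⟩
      · exact ⟨false, y, hy⟩)
    (fun b => by
      cases b
      · exact inferInstanceAs (IsOpenImmersion jV)
      · exact inferInstanceAs (IsOpenImmersion jU))
  refine 𝒰.hom_ext _ _ ?_
  rintro (_ | _)
  · exact h2
  · exact h1


lemma isIso_snd_of_piece {S' S Z Z₀ U₀ U : Scheme.{u}} (π : S' ⟶ S) (h₀ : Z₀ ⟶ S) (g : Z ⟶ Z₀)
    (h : Z ⟶ S') (comm : g ≫ h₀ = h ≫ π) (iU : U₀ ⟶ Z₀) (jU : U ⟶ Z) (gU : U ⟶ U₀)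
    (AU : IsPullback gU jU iU g) (sqU : IsPullback gU (jU ≫ h) (iU ≫ h₀) π) :
    IsIso (pullback.snd (pullback.lift g h comm)
      (pullback.map (iU ≫ h₀) π h₀ π iU (𝟙 _) (𝟙 _) (by simp) (by simp))) := by
  set θ := pullback.lift g h comm with hθ
  set m := pullback.map (iU ≫ h₀) π h₀ π iU (𝟙 _) (𝟙 _) (by simp) (by simp) with hm
  have hm1 : m ≫ pullback.fst h₀ π = pullback.fst (iU ≫ h₀) π ≫ iU := by
    simp [hm]
  have hm2 : m ≫ pullback.snd h₀ π = pullback.snd (iU ≫ h₀) π := by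
    simp [hm]
  have B : IsPullback (pullback.fst (iU ≫ h₀) π) m iU (pullback.fst h₀ π) := by
    refine IsPullback.of_bot ?_ hm1.symm (IsPullback.of_hasPullback h₀ π)
    rw [hm2]
    exact IsPullback.of_hasPullback (iU ≫ h₀) π
  let θU : U ⟶ pullback (iU ≫ h₀) π := pullback.lift gU (jU ≫ h) sqU.w
  have hθU : θU = sqU.isoPullback.hom := by
    apply pullback.hom_ext <;> simp [θU]
  haveI : IsIso θU := by rw [hθU]; infer_instance
  have hcomm : θU ≫ m = jU ≫ θ := by
    apply pullback.hom_ext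
    · rw [Category.assoc, hm1, Category.assoc, hθ, pullback.lift_fst, pullback.lift_fst_assoc,
        AU.w]
    · rw [Category.assoc, hm2, Category.assoc, hθ, pullback.lift_snd, pullback.lift_snd]
  have C : IsPullback θU jU m θ := by
    refine IsPullback.of_right ?_ hcomm B
    rw [pullback.lift_fst, hθ, pullback.lift_fst]
    exact AU
  have e : pullback.snd θ m = C.flip.isoPullback.inv ≫ θU := by
    rw [Iso.eq_inv_comp]
    exact C.flip.isoPullback_hom_snd
  rw [e]
  infer_instance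

theorem isPullback_of_two_pieces {S' S Z Z₀ U₀ V₀ U V : Scheme.{u}} (π : S' ⟶ S) (h₀ : Z₀ ⟶ S)
    (g : Z ⟶ Z₀) (h : Z ⟶ S') (comm : g ≫ h₀ = h ≫ π)
    (iU : U₀ ⟶ Z₀) (iV : V₀ ⟶ Z₀) [IsOpenImmersion iU] [IsOpenImmersion iV]
    (hcov : ∀ z : Z₀, z ∈ Set.range iU ∨ z ∈ Set.range iV)
    (jU : U ⟶ Z) (jV : V ⟶ Z) (gU : U ⟶ U₀) (gV : V ⟶ V₀)
    (AU : IsPullback gU jU iU g) (AV : IsPullback gV jV iV g)
    (sqU : IsPullback gU (jU ≫ h) (iU ≫ h₀) π) (sqV : IsPullback gV (jV ≫ h) (iV ≫ h₀) π) :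
    IsPullback g h h₀ π := by
  let 𝒰₀ : Z₀.OpenCover := Scheme.Cover.mkOfCovers Bool (fun b => bif b then U₀ else V₀)
    (fun b => match b with
      | true => iU
      | false => iV)
    (fun z => by
      rcases hcov z with ⟨y, hy⟩ | ⟨y, hy⟩
      · exact ⟨true, y, hy⟩
      · exact ⟨false, y, hy⟩)
    (fun b => by
      cases b
      · exact inferInstanceAs (IsOpenImmersion iV)
      · exact inferInstanceAs (IsOpenImmersion iU))
  let 𝒲 := Scheme.Pullback.openCoverOfLeft 𝒰₀ h₀ π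
  have hiso : IsIso (pullback.lift g h comm) := by
    refine IsZariskiLocalAtTarget.of_openCover (P := MorphismProperty.isomorphisms Scheme.{u})
      𝒲 ?_
    rintro (_ | _)
    · exact isIso_snd_of_piece π h₀ g h comm iV jV gV AV sqV
    · exact isIso_snd_of_piece π h₀ g h comm iU jU gU AU sqU
  exact IsPullback.of_iso_pullback ⟨comm⟩ (asIso (pullback.lift g h comm)) (by simp) (by simp)

/-- The gluing of two schemes along an open is stable under base change. -/
theorem isPullback_glue {S' S : Scheme.{u}} (π : S' ⟶ S)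
    {U₀ V₀ O₀ : Scheme.{u}} (ι : O₀ ⟶ U₀) (ψ : O₀ ⟶ V₀) [IsOpenImmersion ι] [IsOpenImmersion ψ]
    (hU : U₀ ⟶ S) (hV : V₀ ⟶ S) (hO : ι ≫ hU = ψ ≫ hV)
    {U V W Z : Scheme.{u}} (jU : U ⟶ Z) (jV : V ⟶ Z) [IsOpenImmersion jU] [IsOpenImmersion jV]
    (pU : W ⟶ U) (pV : W ⟶ V) (hW : IsPullback pU pV jU jV)
    (hcov : ∀ z : Z, z ∈ Set.range jU ∨ z ∈ Set.range jV)
    (h : Z ⟶ S') (gU : U ⟶ U₀) (gV : V ⟶ V₀) (gW : W ⟶ O₀)
    (sqU : IsPullback gU (jU ≫ h) hU π) (sqV : IsPullback gV (jV ≫ h) hV π)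
    (sqWU : IsPullback gW pU ι gU) (sqWV : IsPullback gW pV ψ gV) :
    ∃ g : Z ⟶ pushout ι ψ, IsPullback g h (pushout.desc hU hV hO) π := by
  obtain ⟨g, hgU, hgV⟩ := exists_glue_two' jU jV pU pV hW hcov (gU ≫ pushout.inl ι ψ)
    (gV ≫ pushout.inr ι ψ) (by
      rw [← Category.assoc, ← sqWU.w, ← Category.assoc, ← sqWV.w, Category.assoc, Category.assoc,
        pushout.condition])
  refine ⟨g, ?_⟩
  have comm : g ≫ pushout.desc hU hV hO = h ≫ π := by
    refine hom_ext_two' jU jV hcov _ _ ?_ ?_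
    · rw [reassoc_of% hgU, pushout.inl_desc, sqU.w, Category.assoc]
    · rw [reassoc_of% hgV, pushout.inr_desc, sqV.w, Category.assoc]
  -- set-theoretic preimages
  have AU : IsPullback gU jU (pushout.inl ι ψ) g := by
    refine IsOpenImmersion.isPullback gU jU (pushout.inl ι ψ) g hgU ?_
    ext z
    simp only [Scheme.Hom.coe_opensRange, Set.mem_range, Opens.map_coe, Set.mem_preimage]
    constructor
    · rintro ⟨a, ha⟩
      rcases hcov z with ⟨y, rfl⟩ | ⟨y, rfl⟩
      · exact ⟨y, rfl⟩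
      · have e : g (jV y) = pushout.inr ι ψ (gV y) := by
          rw [← Scheme.Hom.comp_apply, hgV, Scheme.Hom.comp_apply]
        rw [e] at ha
        obtain ⟨o, -, ho⟩ := (inl_eq_inr_iff ι ψ).mp ha
        obtain ⟨w, -, hw⟩ := Scheme.exists_preimage_of_isPullback sqWV o y ho
        refine ⟨pU w, ?_⟩
        rw [← hw, ← Scheme.Hom.comp_apply, ← Scheme.Hom.comp_apply, hW.w]
    · rintro ⟨y, rfl⟩
      refine ⟨gU y, ?_⟩
      rw [← Scheme.Hom.comp_apply, ← Scheme.Hom.comp_apply, hgU]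
  have AV : IsPullback gV jV (pushout.inr ι ψ) g := by
    refine IsOpenImmersion.isPullback gV jV (pushout.inr ι ψ) g hgV ?_
    ext z
    simp only [Scheme.Hom.coe_opensRange, Set.mem_range, Opens.map_coe, Set.mem_preimage]
    constructor
    · rintro ⟨a, ha⟩
      rcases hcov z with ⟨y, rfl⟩ | ⟨y, rfl⟩
      · have e : g (jU y) = pushout.inl ι ψ (gU y) := by
          rw [← Scheme.Hom.comp_apply, hgU, Scheme.Hom.comp_apply]
        rw [e] at ha
        obtain ⟨o, ho, -⟩ := (inl_eq_inr_iff ι ψ).mp ha.symm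
        obtain ⟨w, -, hw⟩ := Scheme.exists_preimage_of_isPullback sqWU o y ho
        refine ⟨pV w, ?_⟩
        rw [← hw, ← Scheme.Hom.comp_apply, ← Scheme.Hom.comp_apply, hW.w]
      · exact ⟨y, rfl⟩
    · rintro ⟨y, rfl⟩
      refine ⟨gV y, ?_⟩
      rw [← Scheme.Hom.comp_apply, ← Scheme.Hom.comp_apply, hgV]
  refine isPullback_of_two_pieces π (pushout.desc hU hV hO) g h comm (pushout.inl ι ψ)
    (pushout.inr ι ψ) (mem_range_inl_or_inr ι ψ) jU jV gU gV AU AV ?_ ?_
  · rw [pushout.inl_desc]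
    exact sqU
  · rw [pushout.inr_desc]
    exact sqV

end BaseChange

end Groth.Agent.Lib.Helper12.FpGlue

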