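import Mathlib

/-!
# Open immersions descend along cofiltered limits of schemes with affine transition maps

Setting: two diagrams `DX DY : J ⥤ Scheme` over a cofiltered category with affine transition maps
and qcqs stages, a cartesian natural transformation `F : DX ⟶ DY` with components locally of
finite presentation, and limit cones `cX`, `cY` with the induced map `f`. If `f` is an open
immersion then some `F.app j` is an open immersion.
-/

universe u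

open CategoryTheory Limits AlgebraicGeometry

namespace Groth.Agent.Lib.Helper12.LimOpenImm

set_option backward.isDefEq.respectTransparency false

variable {J : Type u} [SmallCategory J] [IsCofiltered J] (DX DY : J ⥤ Scheme.{u}) (F : DX ⟶ DY)
  (cX : Cone DX) (hcX : IsLimit cX) (cY : Cone DY) (hcY : IsLimit cY)
  (f : cX.pt ⟶ cY.pt)

/-- The structure map of the restricted diagram `opensDiagram DY j V` to `DY.obj j`. -/
noncomputable def opensDiagramTo (j : J) (V : (DY.obj j).Opens) :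
    opensDiagram DY j V ⟶ (Functor.const (Over j)).obj (DY.obj j) where
  app k := (DY.map k.hom ⁻¹ᵁ V).ι ≫ DY.map k.hom
  naturality k l a := by
    dsimp [opensDiagram]
    rw [Category.comp_id, Scheme.Hom.resLE_comp_ι_assoc, ← DY.map_comp, Over.w a]

/-- The structure map of the diagram `Over.forget j ⋙ DX` to `DY.obj j`. -/
noncomputable def overTo (j : J) :
    Over.forget j ⋙ DX ⟶ (Functor.const (Over j)).obj (DY.obj j) where
  app k := DX.map k.hom ≫ F.app j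
  naturality k l a := by
    dsimp
    rw [Category.comp_id, ← Category.assoc, ← DX.map_comp, Over.w a]

include hcX in
/-- Final step: from a stage-level section compatible with the limit to an open immersion. -/
theorem exists_isOpenImmersion_app_aux
    [∀ {i j : J} (a : i ⟶ j), IsAffineHom (DX.map a)]
    [∀ j, CompactSpace (DX.obj j)]
    (hF : ∀ {j k : J} (a : j ⟶ k), IsPullback (DX.map a) (F.app j) (F.app k) (DY.map a))
    [∀ j, LocallyOfFiniteType (F.app j)]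
    (hf : ∀ j, cX.π.app j ≫ F.app j = f ≫ cY.π.app j)
    {j₂ j : J} (b : j ⟶ j₂) (V : (DY.obj j).Opens) (hFV : F.app j ⁻¹ᵁ V = ⊤)
    (s : (V : Scheme.{u}) ⟶ DX.obj j₂) (hs : s ≫ F.app j₂ = V.ι ≫ DY.map b)
    (g : cX.pt ⟶ (V : Scheme.{u})) (hg1 : g ≫ V.ι = f ≫ cY.π.app j)
    (hg2 : g ≫ s = cX.π.app j₂) :
    ∃ l, IsOpenImmersion (F.app l) := by
  have hsub : ∀ {l : J} (W : (DY.obj l).Opens), F.app l ⁻¹ᵁ W = ⊤ →
      Set.range (F.app l) ⊆ Set.range W.ι := by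
    intro l W hW
    rw [Scheme.Opens.range_ι]
    rintro _ ⟨x, rfl⟩
    have : x ∈ F.app l ⁻¹ᵁ W := by rw [hW]; trivial
    exact this
  let F' : DX.obj j ⟶ (V : Scheme.{u}) := IsOpenImmersion.lift V.ι (F.app j) (hsub V hFV)
  have hF' : F' ≫ V.ι = F.app j := IsOpenImmersion.lift_fac _ _ _
  let σ : (V : Scheme.{u}) ⟶ DX.obj j := (hF b).lift s V.ι hs
  have hσ1 : σ ≫ DX.map b = s := (hF b).lift_fst _ _ _
  have hσ2 : σ ≫ F.app j = V.ι := (hF b).lift_snd _ _ _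
  have hgF' : cX.π.app j ≫ F' = g := by
    rw [← cancel_mono V.ι, Category.assoc, hF', hf, hg1]
  have key : cX.π.app j ≫ F' ≫ σ = cX.π.app j := by
    apply (hF b).hom_ext
    · rw [Category.assoc, Category.assoc, hσ1, ← Category.assoc, hgF', hg2, cX.w]
    · rw [Category.assoc, Category.assoc, hσ2, hF']
  haveI : ∀ (k : Over j), CompactSpace ((Over.forget j ⋙ DX).obj k) := fun k => by
    dsimp; infer_instance
  haveI : ∀ {k l : Over j} (a : k ⟶ l), IsAffineHom ((Over.forget j ⋙ DX).map a) := fun a => by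
    dsimp; infer_instance
  obtain ⟨k, hik, hk⟩ := Scheme.exists_hom_comp_eq_comp_of_locallyOfFiniteType
    (Over.forget j ⋙ DX) (overTo DX DY F j) (F.app j)
    (cX.whisker (Over.forget j)) ((Functor.Initial.isLimitWhiskerEquiv (Over.forget j) cX).symm hcX)
    (i := Over.mk (𝟙 j)) (𝟙 _) (F' ≫ σ)
    (by simp [overTo]) (by simp [overTo, hσ2, hF'])
    (by simpa using key.symm)
  obtain ⟨m, hm⟩ : ∃ m : k.left ⟶ j, m = hik.left := ⟨_, rfl⟩
  have hk' : DX.map m = DX.map m ≫ F' ≫ σ := by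
    have := hk
    simp only [Functor.comp_map, Over.forget_map, Category.comp_id] at this
    rw [hm]
    exact this
  refine ⟨k.left, ?_⟩
  have hFl : F.app k.left ⁻¹ᵁ (DY.map m ⁻¹ᵁ V) = ⊤ := by
    rw [← Scheme.Hom.comp_preimage, ← F.naturality, Scheme.Hom.comp_preimage, hFV]
    rfl
  let Fl' : DX.obj k.left ⟶ ((DY.map m ⁻¹ᵁ V : (DY.obj k.left).Opens) : Scheme.{u}) :=
    IsOpenImmersion.lift (DY.map m ⁻¹ᵁ V).ι (F.app k.left) (hsub _ hFl)
  have hFl' : Fl' ≫ (DY.map m ⁻¹ᵁ V).ι = F.app k.left := IsOpenImmersion.lift_fac _ _ _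
  let σl : ((DY.map m ⁻¹ᵁ V : (DY.obj k.left).Opens) : Scheme.{u}) ⟶ DX.obj k.left :=
    (hF m).lift ((DY.map m ∣_ V) ≫ σ) (DY.map m ⁻¹ᵁ V).ι
      (by rw [Category.assoc, hσ2, morphismRestrict_ι])
  have hσl1 : σl ≫ DX.map m = (DY.map m ∣_ V) ≫ σ := (hF m).lift_fst _ _ _
  have hσl2 : σl ≫ F.app k.left = (DY.map m ⁻¹ᵁ V).ι := (hF m).lift_snd _ _ _
  have hcomm : Fl' ≫ (DY.map m ∣_ V) = DX.map m ≫ F' := by
    rw [← cancel_mono V.ι, Category.assoc, morphismRestrict_ι, ← Category.assoc, hFl',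
      Category.assoc, hF', F.naturality]
  haveI : IsIso Fl' := by
    refine ⟨σl, ?_, ?_⟩
    · apply (hF m).hom_ext
      · rw [Category.assoc, hσl1, ← Category.assoc, hcomm, Category.assoc, ← hk', Category.id_comp]
      · rw [Category.assoc, hσl2, hFl', Category.id_comp]
    · rw [← cancel_mono (DY.map m ⁻¹ᵁ V).ι, Category.assoc, hFl', hσl2, Category.id_comp]
  rw [← hFl']
  infer_instance

include hcX hcY in
theorem exists_isOpenImmersion_app
    [∀ {i j : J} (a : i ⟶ j), IsAffineHom (DX.map a)]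
    [∀ {i j : J} (a : i ⟶ j), IsAffineHom (DY.map a)]
    [∀ j, CompactSpace (DX.obj j)] [∀ j, QuasiSeparatedSpace (DX.obj j)]
    [∀ j, CompactSpace (DY.obj j)] [∀ j, QuasiSeparatedSpace (DY.obj j)]
    (hF : ∀ {j k : J} (a : j ⟶ k), IsPullback (DX.map a) (F.app j) (F.app k) (DY.map a))
    [∀ j, LocallyOfFinitePresentation (F.app j)]
    (hf : ∀ j, cX.π.app j ≫ F.app j = f ≫ cY.π.app j) (hfo : IsOpenImmersion f) :
    ∃ j, IsOpenImmersion (F.app j) := by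
  classical
  haveI := hfo
  haveI : CompactSpace cX.pt := Scheme.compactSpace_of_isLimit DX cX hcX
  have hU : IsCompact (f.opensRange : Set cY.pt) := by
    rw [Scheme.Hom.coe_opensRange]
    exact isCompact_range f.continuous
  obtain ⟨j₁, V₁, hV₁c, hV₁⟩ := exists_preimage_eq DY cY hcY f.opensRange hU
  have h2 : cX.π.app j₁ ⁻¹ᵁ (F.app j₁ ⁻¹ᵁ V₁) = ⊤ := by
    rw [← Scheme.Hom.comp_preimage, hf, Scheme.Hom.comp_preimage, hV₁]
    ext x
    simp
  obtain ⟨j₂, a₂₁, h2'⟩ := exists_map_eq_top DX cX hcX (F.app j₁ ⁻¹ᵁ V₁) h2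
  obtain ⟨V₂, hV₂def⟩ : ∃ V₂ : (DY.obj j₂).Opens, V₂ = DY.map a₂₁ ⁻¹ᵁ V₁ := ⟨_, rfl⟩
  have hV₂c : IsCompact (V₂ : Set (DY.obj j₂)) := by
    rw [hV₂def]
    exact (DY.map a₂₁).isCompact_preimage hV₁c
  have hV₂ : cY.π.app j₂ ⁻¹ᵁ V₂ = f.opensRange := by
    rw [hV₂def, ← Scheme.Hom.comp_preimage, cY.w, hV₁]
  have hF₂ : F.app j₂ ⁻¹ᵁ V₂ = ⊤ := by
    rw [hV₂def, ← Scheme.Hom.comp_preimage, ← F.naturality, Scheme.Hom.comp_preimage, h2']
  -- the iso between the limit of `DX` and the open subscheme of the limit of `DY`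
  have hrange : Set.range f = Set.range (cY.π.app j₂ ⁻¹ᵁ V₂).ι := by
    rw [Scheme.Opens.range_ι, hV₂, Scheme.Hom.coe_opensRange]
  let e : cX.pt ≅ ((cY.π.app j₂ ⁻¹ᵁ V₂ : cY.pt.Opens) : Scheme.{u}) :=
    IsOpenImmersion.isoOfRangeEq f (cY.π.app j₂ ⁻¹ᵁ V₂).ι hrange
  have he : e.hom ≫ (cY.π.app j₂ ⁻¹ᵁ V₂).ι = f := IsOpenImmersion.isoOfRangeEq_hom_fac _ _ _
  haveI (k : Over j₂) : CompactSpace ((opensDiagram DY j₂ V₂).obj k) :=
    isCompact_iff_compactSpace.mp (QuasiCompact.isCompact_preimage _ V₂.2 hV₂c)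
  haveI (k : Over j₂) : QuasiSeparatedSpace ((opensDiagram DY j₂ V₂).obj k) :=
    (isQuasiSeparated_iff_quasiSeparatedSpace _ (DY.map _ ⁻¹ᵁ _).2).mp
      (.of_quasiSeparatedSpace _)
  let a : (opensCone DY cY j₂ V₂).pt ⟶ DX.obj j₂ := e.inv ≫ cX.π.app j₂
  have ha : (opensCone DY cY j₂ V₂).π ≫ opensDiagramTo DY j₂ V₂ =
      (Functor.const _).map (a ≫ F.app j₂) := by
    ext k : 2
    have h1 : (opensCone DY cY j₂ V₂).π.app k ≫ (DY.map k.hom ⁻¹ᵁ V₂).ι ≫ DY.map k.hom =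
        (cY.π.app j₂ ⁻¹ᵁ V₂).ι ≫ cY.π.app j₂ := by
      rw [opensCone_π_app, Scheme.Hom.resLE_comp_ι_assoc, cY.w]
    have h2 : (e.inv ≫ cX.π.app j₂) ≫ F.app j₂ = (cY.π.app j₂ ⁻¹ᵁ V₂).ι ≫ cY.π.app j₂ := by
      rw [Category.assoc, hf, ← he, Category.assoc, Iso.inv_hom_id_assoc]
    exact h1.trans h2.symm
  obtain ⟨j₃, s, hs1, hs2⟩ := Scheme.exists_π_app_comp_eq_of_locallyOfFinitePresentation
    (opensDiagram DY j₂ V₂) (opensDiagramTo DY j₂ V₂) (F.app j₂) (opensCone DY cY j₂ V₂)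
    (isLimitOpensCone DY cY hcY j₂ V₂) a ha
  -- Step 4: the stage `j₃.left`
  obtain ⟨s', hs'⟩ : ∃ s' : ((DY.map j₃.hom ⁻¹ᵁ V₂ : (DY.obj j₃.left).Opens) : Scheme.{u}) ⟶
      DX.obj j₂, s' = s := ⟨s, rfl⟩
  have hs2' : s' ≫ F.app j₂ = (DY.map j₃.hom ⁻¹ᵁ V₂).ι ≫ DY.map j₃.hom := by
    rw [hs']; exact hs2
  have hs1' : (cY.π.app j₃.left).resLE (DY.map j₃.hom ⁻¹ᵁ V₂) (cY.π.app j₂ ⁻¹ᵁ V₂)
      (by rw [← Scheme.Hom.comp_preimage, cY.w]) ≫ s' = e.inv ≫ cX.π.app j₂ := by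
    rw [hs', ← opensCone_π_app]
    exact hs1
  have hFV : F.app j₃.left ⁻¹ᵁ (DY.map j₃.hom ⁻¹ᵁ V₂) = ⊤ := by
    rw [← Scheme.Hom.comp_preimage, ← F.naturality, Scheme.Hom.comp_preimage, hF₂]
    rfl
  have hg1 : (e.hom ≫ (cY.π.app j₃.left).resLE (DY.map j₃.hom ⁻¹ᵁ V₂) (cY.π.app j₂ ⁻¹ᵁ V₂)
      (by rw [← Scheme.Hom.comp_preimage, cY.w])) ≫ (DY.map j₃.hom ⁻¹ᵁ V₂).ι =
      f ≫ cY.π.app j₃.left := by
    rw [Category.assoc, Scheme.Hom.resLE_comp_ι, ← Category.assoc, he]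
  have hg2 : (e.hom ≫ (cY.π.app j₃.left).resLE (DY.map j₃.hom ⁻¹ᵁ V₂) (cY.π.app j₂ ⁻¹ᵁ V₂)
      (by rw [← Scheme.Hom.comp_preimage, cY.w])) ≫ s' = cX.π.app j₂ := by
    rw [Category.assoc, hs1', Iso.hom_inv_id_assoc]
  exact exists_isOpenImmersion_app_aux DX DY F cX hcX cY f hF hf j₃.hom (DY.map j₃.hom ⁻¹ᵁ V₂) hFV s'
    hs2' _ hg1 hg2

end Groth.Agent.Lib.Helper12.LimOpenImm
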