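import Mathlib

/-!
# Base change of a cofiltered diagram of schemes along a morphism to one stage

Given `D : I ⥤ Scheme`, an index `i₀` and `h₀ : Z₀ ⟶ D.obj i₀`, the diagram
`Over i₀ ⥤ Scheme`, `j ↦ Z₀ ×_{D i₀} D j`, and its limit cone over any pullback of `h₀`
along `c.π.app i₀` for a limit cone `c` of `D`.
-/

universe u

set_option backward.isDefEq.respectTransparency false

open CategoryTheory Limits AlgebraicGeometry

namespace Groth.Agent.Lib.Helper12.PbDiag

variable {I : Type u} [SmallCategory I] (D : I ⥤ Scheme.{u}) (i₀ : I) {Z₀ : Scheme.{u}}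
  (h₀ : Z₀ ⟶ D.obj i₀)

/-- The diagram `j ↦ Z₀ ×_{D i₀} D j` indexed by `Over i₀`. -/
noncomputable def pbDiagram : Over i₀ ⥤ Scheme.{u} where
  obj j := pullback h₀ (D.map j.hom)
  map {j k} a := pullback.lift (pullback.fst h₀ (D.map j.hom))
    (pullback.snd h₀ (D.map j.hom) ≫ D.map a.left)
    (by rw [Category.assoc, ← D.map_comp, Over.w a, pullback.condition])
  map_id j := by
    apply pullback.hom_ext <;> simp
  map_comp a b := by
    apply pullback.hom_ext <;> simp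

@[simp] lemma pbDiagram_obj (j : Over i₀) :
    (pbDiagram D i₀ h₀).obj j = pullback h₀ (D.map j.hom) := rfl

@[reassoc (attr := simp)] lemma pbDiagram_map_fst {j k : Over i₀} (a : j ⟶ k) :
    (pbDiagram D i₀ h₀).map a ≫ pullback.fst h₀ (D.map k.hom) = pullback.fst h₀ (D.map j.hom) := by
  simp [pbDiagram]

@[reassoc (attr := simp)] lemma pbDiagram_map_snd {j k : Over i₀} (a : j ⟶ k) :
    (pbDiagram D i₀ h₀).map a ≫ pullback.snd h₀ (D.map k.hom) =
      pullback.snd h₀ (D.map j.hom) ≫ D.map a.left := by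
  simp [pbDiagram]

/-- The projection to the original diagram. -/
noncomputable def pbDiagramι : pbDiagram D i₀ h₀ ⟶ Over.forget i₀ ⋙ D where
  app j := pullback.snd h₀ (D.map j.hom)
  naturality j k a := by simp

@[simp] lemma pbDiagramι_app (j : Over i₀) :
    (pbDiagramι D i₀ h₀).app j = pullback.snd h₀ (D.map j.hom) := rfl

/-- The projection to `Z₀`. -/
noncomputable def pbDiagramFst : pbDiagram D i₀ h₀ ⟶ (Functor.const _).obj Z₀ where
  app j := pullback.fst h₀ (D.map j.hom)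
  naturality j k a := by simp

@[simp] lemma pbDiagramFst_app (j : Over i₀) :
    (pbDiagramFst D i₀ h₀).app j = pullback.fst h₀ (D.map j.hom) := rfl

variable {D i₀ h₀}

/-- The cone over the base-changed diagram with point any pullback of `h₀` along `c.π.app i₀`. -/
noncomputable def pbCone (c : Cone D) {Z : Scheme.{u}} (q : Z ⟶ Z₀) (h : Z ⟶ c.pt)
    (hZ : IsPullback q h h₀ (c.π.app i₀)) : Cone (pbDiagram D i₀ h₀) where
  pt := Z
  π :=
    { app := fun j => pullback.lift q (h ≫ c.π.app j.left)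
        (by rw [Category.assoc, c.w, hZ.w])
      naturality := fun j k a => by
        apply pullback.hom_ext
        · simp
        · simp [c.w] }

@[simp] lemma pbCone_pt (c : Cone D) {Z : Scheme.{u}} (q : Z ⟶ Z₀) (h : Z ⟶ c.pt)
    (hZ : IsPullback q h h₀ (c.π.app i₀)) : (pbCone c q h hZ).pt = Z := rfl

@[reassoc (attr := simp)] lemma pbCone_π_fst (c : Cone D) {Z : Scheme.{u}} (q : Z ⟶ Z₀)
    (h : Z ⟶ c.pt) (hZ : IsPullback q h h₀ (c.π.app i₀)) (j : Over i₀) :
    (pbCone c q h hZ).π.app j ≫ pullback.fst h₀ (D.map j.hom) = q := by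
  simp [pbCone]

@[reassoc (attr := simp)] lemma pbCone_π_snd (c : Cone D) {Z : Scheme.{u}} (q : Z ⟶ Z₀)
    (h : Z ⟶ c.pt) (hZ : IsPullback q h h₀ (c.π.app i₀)) (j : Over i₀) :
    (pbCone c q h hZ).π.app j ≫ pullback.snd h₀ (D.map j.hom) = h ≫ c.π.app j.left := by
  simp [pbCone]

lemma isPullback_pbCone_π (c : Cone D) {Z : Scheme.{u}} (q : Z ⟶ Z₀) (h : Z ⟶ c.pt)
    (hZ : IsPullback q h h₀ (c.π.app i₀)) (j : Over i₀) :
    IsPullback ((pbCone c q h hZ).π.app j) h (pullback.snd h₀ (D.map j.hom)) (c.π.app j.left) := by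
  refine IsPullback.of_right ?_ (by simp) (IsPullback.of_hasPullback h₀ (D.map j.hom))
  rw [pbCone_π_fst, c.w]
  exact hZ

attribute [local instance] CategoryTheory.isConnected_of_hasTerminal

/-- The cone `pbCone` is a limit cone. -/
noncomputable def isLimitPbCone [IsCofiltered I] (c : Cone D) (hc : IsLimit c) {Z : Scheme.{u}}
    (q : Z ⟶ Z₀) (h : Z ⟶ c.pt) (hZ : IsPullback q h h₀ (c.π.app i₀)) :
    IsLimit (pbCone c q h hZ) :=
  isLimitOfIsPullbackOfIsConnected (pbDiagramι D i₀ h₀) _ (c.whisker (Over.forget i₀))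
    (by exact { hom := h, w := fun j => by simp })
    (fun j => isPullback_pbCone_π c q h hZ j)
    ((Functor.Initial.isLimitWhiskerEquiv (Over.forget i₀) c).symm hc)

variable (D i₀ h₀)

lemma isPullback_pbDiagram_map {j k : Over i₀} (a : j ⟶ k) :
    IsPullback ((pbDiagram D i₀ h₀).map a) (pullback.snd h₀ (D.map j.hom))
      (pullback.snd h₀ (D.map k.hom)) (D.map a.left) := by
  refine IsPullback.of_right ?_ (by simp) (IsPullback.of_hasPullback h₀ (D.map k.hom))
  rw [pbDiagram_map_fst, ← D.map_comp, Over.w a]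
  exact IsPullback.of_hasPullback h₀ (D.map j.hom)

instance isAffineHom_pbDiagram_map [∀ {i j : I} (f : i ⟶ j), IsAffineHom (D.map f)]
    {j k : Over i₀} (a : j ⟶ k) : IsAffineHom ((pbDiagram D i₀ h₀).map a) :=
  MorphismProperty.of_isPullback (P := @IsAffineHom) (isPullback_pbDiagram_map D i₀ h₀ a).flip
    inferInstance

lemma compactSpace_pbDiagram_obj [∀ {i j : I} (f : i ⟶ j), IsAffineHom (D.map f)]
    [CompactSpace (D.obj i₀)] [QuasiCompact h₀] (j : Over i₀) :
    CompactSpace ((pbDiagram D i₀ h₀).obj j) := by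
  haveI : CompactSpace (D.obj j.left) := QuasiCompact.compactSpace_of_compactSpace (D.map j.hom)
  exact QuasiCompact.compactSpace_of_compactSpace (pullback.snd h₀ (D.map j.hom))

lemma quasiSeparatedSpace_pbDiagram_obj [∀ {i j : I} (f : i ⟶ j), IsAffineHom (D.map f)]
    [QuasiSeparatedSpace (D.obj i₀)] [QuasiSeparated h₀] (j : Over i₀) :
    QuasiSeparatedSpace ((pbDiagram D i₀ h₀).obj j) := by
  haveI : QuasiSeparatedSpace (D.obj j.left) :=
    quasiSeparatedSpace_of_quasiSeparated (D.map j.hom)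
  exact quasiSeparatedSpace_of_quasiSeparated (pullback.snd h₀ (D.map j.hom))

/-- Functoriality of the base-changed diagram in `Z₀`. -/
noncomputable def pbMap {Z₁ : Scheme.{u}} (u₁ : Z₁ ⟶ Z₀) :
    pbDiagram D i₀ (u₁ ≫ h₀) ⟶ pbDiagram D i₀ h₀ where
  app j := pullback.lift (pullback.fst (u₁ ≫ h₀) (D.map j.hom) ≫ u₁)
    (pullback.snd (u₁ ≫ h₀) (D.map j.hom)) (by rw [Category.assoc, pullback.condition])
  naturality j k a := by
    apply pullback.hom_ext
    · simp
    · simp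

@[reassoc (attr := simp)] lemma pbMap_app_fst {Z₁ : Scheme.{u}} (u₁ : Z₁ ⟶ Z₀) (j : Over i₀) :
    (pbMap D i₀ h₀ u₁).app j ≫ pullback.fst h₀ (D.map j.hom) =
      pullback.fst (u₁ ≫ h₀) (D.map j.hom) ≫ u₁ := by
  simp [pbMap]

@[reassoc (attr := simp)] lemma pbMap_app_snd {Z₁ : Scheme.{u}} (u₁ : Z₁ ⟶ Z₀) (j : Over i₀) :
    (pbMap D i₀ h₀ u₁).app j ≫ pullback.snd h₀ (D.map j.hom) =
      pullback.snd (u₁ ≫ h₀) (D.map j.hom) := by
  simp [pbMap]

lemma isPullback_pbMap_app {Z₁ : Scheme.{u}} (u₁ : Z₁ ⟶ Z₀) (j : Over i₀) :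
    IsPullback (pullback.fst (u₁ ≫ h₀) (D.map j.hom)) ((pbMap D i₀ h₀ u₁).app j) u₁
      (pullback.fst h₀ (D.map j.hom)) := by
  refine IsPullback.of_bot ?_ (by simp) (IsPullback.of_hasPullback h₀ (D.map j.hom))
  rw [pbMap_app_snd]
  exact IsPullback.of_hasPullback (u₁ ≫ h₀) (D.map j.hom)

lemma isPullback_pbMap_map {Z₁ : Scheme.{u}} (u₁ : Z₁ ⟶ Z₀) {j k : Over i₀} (a : j ⟶ k) :
    IsPullback ((pbDiagram D i₀ (u₁ ≫ h₀)).map a) ((pbMap D i₀ h₀ u₁).app j)
      ((pbMap D i₀ h₀ u₁).app k) ((pbDiagram D i₀ h₀).map a) := by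
  refine IsPullback.of_right ?_ ((pbMap D i₀ h₀ u₁).naturality a)
    (isPullback_pbMap_app D i₀ h₀ u₁ k)
  rw [pbDiagram_map_fst, pbDiagram_map_fst]
  exact isPullback_pbMap_app D i₀ h₀ u₁ j

lemma pbCone_π_pbMap (c : Cone D) {Z₁ Z Z' : Scheme.{u}} (u₁ : Z₁ ⟶ Z₀)
    (q : Z ⟶ Z₀) (h : Z ⟶ c.pt) (hZ : IsPullback q h h₀ (c.π.app i₀))
    (q' : Z' ⟶ Z₁) (h' : Z' ⟶ c.pt) (hZ' : IsPullback q' h' (u₁ ≫ h₀) (c.π.app i₀))
    (f : Z' ⟶ Z) (hf1 : q' ≫ u₁ = f ≫ q) (hf2 : h' = f ≫ h) (j : Over i₀) :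
    (pbCone c q' h' hZ').π.app j ≫ (pbMap D i₀ h₀ u₁).app j = f ≫ (pbCone c q h hZ).π.app j := by
  apply pullback.hom_ext
  · rw [Category.assoc, pbMap_app_fst, pbCone_π_fst_assoc, Category.assoc, pbCone_π_fst, hf1]
  · rw [Category.assoc, pbMap_app_snd, pbCone_π_snd, Category.assoc, pbCone_π_snd]
    subst hf2
    exact Category.assoc _ _ _

lemma isAffineHom_pbDiagram_fst [∀ {i j : I} (f : i ⟶ j), IsAffineHom (D.map f)] (j : Over i₀) :
    IsAffineHom (pullback.fst h₀ (D.map j.hom)) :=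
  MorphismProperty.pullback_fst (P := @IsAffineHom) _ _ inferInstance

lemma compactSpace_pbDiagram_obj' [∀ {i j : I} (f : i ⟶ j), IsAffineHom (D.map f)]
    [CompactSpace Z₀] (j : Over i₀) : CompactSpace ((pbDiagram D i₀ h₀).obj j) := by
  haveI := isAffineHom_pbDiagram_fst D i₀ h₀ j
  exact QuasiCompact.compactSpace_of_compactSpace (pullback.fst h₀ (D.map j.hom))

lemma quasiSeparatedSpace_pbDiagram_obj' [∀ {i j : I} (f : i ⟶ j), IsAffineHom (D.map f)]
    [QuasiSeparatedSpace Z₀] (j : Over i₀) : QuasiSeparatedSpace ((pbDiagram D i₀ h₀).obj j) := by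
  haveI := isAffineHom_pbDiagram_fst D i₀ h₀ j
  exact quasiSeparatedSpace_of_quasiSeparated (pullback.fst h₀ (D.map j.hom))

/-- `pullback.snd ι₀ (D.map j.hom)` is a base change of the stage map for `g₀ = 𝟙`. -/
lemma isPullback_snd_pbMap_id (j : Over i₀) :
    IsPullback (pullback.lift (pullback.fst h₀ (D.map j.hom)) (pullback.snd h₀ (D.map j.hom))
        (by rw [Category.comp_id, pullback.condition]) :
        pullback h₀ (D.map j.hom) ⟶ pullback (h₀ ≫ 𝟙 (D.obj i₀)) (D.map j.hom))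
      (pullback.snd h₀ (D.map j.hom)) ((pbMap D i₀ (𝟙 (D.obj i₀)) h₀).app j)
      (pullback.lift (D.map j.hom) (𝟙 _) (by simp) :
        D.obj j.left ⟶ pullback (𝟙 (D.obj i₀)) (D.map j.hom)) := by
  refine IsPullback.of_right ?_ ?_ (isPullback_pbMap_app D i₀ (𝟙 (D.obj i₀)) h₀ j)
  · rw [pullback.lift_fst, pullback.lift_fst]
    exact IsPullback.of_hasPullback h₀ (D.map j.hom)
  · apply pullback.hom_ext
    · rw [Category.assoc, pbMap_app_fst, pullback.lift_fst_assoc, Category.assoc,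
        pullback.lift_fst, pullback.condition]
    · rw [Category.assoc, pbMap_app_snd, pullback.lift_snd, Category.assoc, pullback.lift_snd,
        Category.comp_id]

end Groth.Agent.Lib.Helper12.PbDiag
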