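import Mathlib
import Groth.Agent.Lib.Helper12.PbDiag
import Groth.Agent.Lib.Helper12.LimOpenImm
import Groth.Agent.Lib.Helper12.FpGlue
import Groth.Agent.Lib.Helper12.FpDescAff
import Groth.Agent.S9218
import Groth.Agent.S12442

/-!
# Descent of morphisms of finite presentation through cofiltered limits of schemes

`descends_of_fp`: if `c` is a limit cone of a cofiltered diagram `D` of quasi-compact
quasi-separated schemes with affine transition maps, then every morphism of finite presentation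
`X ⟶ c.pt` is the base change of a morphism of finite presentation to some stage (EGA IV 8.8.2 (ii),
Stacks 01ZM).  The proof is by a two-piece gluing induction over a finite cover by affine opens
(`descends_glue`), using descent of quasi-compact opens, of morphisms (S9218), of open immersions
and ring-level descent of finitely presented algebras (S4600).
-/

universe u
set_option backward.isDefEq.respectTransparency false
set_option linter.style.haveILetI false
open CategoryTheory Limits AlgebraicGeometry TopologicalSpace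

namespace Groth.Agent.Lib.Helper12.FpDesc

open Groth.Agent.Lib.Helper12.PbDiag Groth.Agent.Lib.Helper12.LimOpenImm
  Groth.Agent.Lib.Helper12.FpGlue

variable {I : Type u} [SmallCategory I] (D : I ⥤ Scheme.{u}) (c : Cone D)

/-- `h` is the base change of a finitely presented morphism to some stage. -/
def Descends {Z : Scheme.{u}} (h : Z ⟶ c.pt) : Prop :=
  ∃ (i : I) (Zi : Scheme.{u}) (hi : Zi ⟶ D.obj i) (g : Z ⟶ Zi),
    LocallyOfFinitePresentation hi ∧ QuasiCompact hi ∧ QuasiSeparated hi ∧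
      IsPullback g h hi (c.π.app i)

variable {D c}

lemma isPullback_restage {k l : I} (a : l ⟶ k) {Z Z₀ : Scheme.{u}} {h : Z ⟶ c.pt}
    {h₀ : Z₀ ⟶ D.obj k} {g : Z ⟶ Z₀} (sq : IsPullback g h h₀ (c.π.app k))
    (w : g ≫ h₀ = (h ≫ c.π.app l) ≫ D.map a) :
    IsPullback (pullback.lift g (h ≫ c.π.app l) w) h (pullback.snd h₀ (D.map a))
      (c.π.app l) := by
  refine IsPullback.of_right ?_ (by simp) (IsPullback.of_hasPullback h₀ (D.map a))
  rw [pullback.lift_fst, c.w]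
  exact sq

lemma restage_w {k l : I} (a : l ⟶ k) {Z Z₀ : Scheme.{u}} {h : Z ⟶ c.pt}
    {h₀ : Z₀ ⟶ D.obj k} {g : Z ⟶ Z₀} (sq : IsPullback g h h₀ (c.π.app k)) :
    g ≫ h₀ = (h ≫ c.π.app l) ≫ D.map a := by
  rw [Category.assoc, c.w, sq.w]

lemma isPullback_map_fst {T T' Z₁ Z₀ : Scheme.{u}} (u : Z₁ ⟶ Z₀) (h₀ : Z₀ ⟶ T) (a : T' ⟶ T) :
    IsPullback (pullback.fst (u ≫ h₀) a)
      (pullback.map (u ≫ h₀) a h₀ a u (𝟙 _) (𝟙 _) (by simp) (by simp)) u
      (pullback.fst h₀ a) := by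
  refine (IsPullback.of_right ?_ (by simp) (IsPullback.of_hasPullback h₀ a).flip).flip
  have : pullback.map (u ≫ h₀) a h₀ a u (𝟙 _) (𝟙 _) (by simp) (by simp) ≫ pullback.snd h₀ a =
      pullback.snd (u ≫ h₀) a := by simp
  rw [this]
  exact (IsPullback.of_hasPullback (u ≫ h₀) a).flip

/-- General form of base change of a morphism over a stage. -/
lemma isPullback_map_fst' {T T' Z₁ Z₀ : Scheme.{u}} (u : Z₁ ⟶ Z₀) (h₀ : Z₀ ⟶ T) (x : Z₁ ⟶ T)
    (hx : u ≫ h₀ = x) (a : T' ⟶ T) :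
    IsPullback (pullback.fst x a)
      (pullback.map x a h₀ a u (𝟙 _) (𝟙 _) (by simp [hx]) (by simp)) u
      (pullback.fst h₀ a) := by
  subst hx
  exact isPullback_map_fst u h₀ a

section OpenImm

theorem exists_isOpenImmersion_map [IsCofiltered I] (hc : IsLimit c)
    [∀ {i j : I} (f : i ⟶ j), IsAffineHom (D.map f)] (k : I)
    [CompactSpace (D.obj k)] [QuasiSeparatedSpace (D.obj k)]
    {X₀ Y₀ : Scheme.{u}} (f₀ : X₀ ⟶ Y₀) (g₀ : Y₀ ⟶ D.obj k) (x : X₀ ⟶ D.obj k)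
    (hx : f₀ ≫ g₀ = x)
    [LocallyOfFinitePresentation g₀] [QuasiCompact g₀] [QuasiSeparated g₀]
    [LocallyOfFinitePresentation x] [QuasiCompact x] [QuasiSeparated x]
    {X Y : Scheme.{u}} (f : X ⟶ Y) (g : Y ⟶ c.pt) (qY : Y ⟶ Y₀) (qX : X ⟶ X₀)
    (hY : IsPullback qY g g₀ (c.π.app k)) (hX : IsPullback qX f f₀ qY) [IsOpenImmersion f] :
    ∃ (l : I) (a : l ⟶ k), IsOpenImmersion
      (pullback.map x (D.map a) g₀ (D.map a) f₀ (𝟙 _) (𝟙 _) (by simp [hx]) (by simp)) := by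
  subst hx
  haveI : LocallyOfFinitePresentation f₀ := Groth.Agent.S12442.result f₀ g₀
  have hXS : IsPullback qX (f ≫ g) (f₀ ≫ g₀) (c.π.app k) := hX.paste_vert hY
  haveI : ∀ j, CompactSpace ((pbDiagram D k (f₀ ≫ g₀)).obj j) :=
    fun j => compactSpace_pbDiagram_obj D k (f₀ ≫ g₀) j
  haveI : ∀ j, QuasiSeparatedSpace ((pbDiagram D k (f₀ ≫ g₀)).obj j) :=
    fun j => quasiSeparatedSpace_pbDiagram_obj D k (f₀ ≫ g₀) j
  haveI : ∀ j, CompactSpace ((pbDiagram D k g₀).obj j) :=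
    fun j => compactSpace_pbDiagram_obj D k g₀ j
  haveI : ∀ j, QuasiSeparatedSpace ((pbDiagram D k g₀).obj j) :=
    fun j => quasiSeparatedSpace_pbDiagram_obj D k g₀ j
  haveI : ∀ j, LocallyOfFinitePresentation ((pbMap D k g₀ f₀).app j) := fun j =>
    MorphismProperty.of_isPullback (P := @LocallyOfFinitePresentation)
      (isPullback_pbMap_app D k g₀ f₀ j) inferInstance
  obtain ⟨j, hj⟩ := exists_isOpenImmersion_app (pbDiagram D k (f₀ ≫ g₀)) (pbDiagram D k g₀)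
    (pbMap D k g₀ f₀) (pbCone c qX (f ≫ g) hXS) (isLimitPbCone c hc qX (f ≫ g) hXS)
    (pbCone c qY g hY) (isLimitPbCone c hc qY g hY) f
    (fun a => isPullback_pbMap_map D k g₀ f₀ a)
    (fun j => pbCone_π_pbMap D k g₀ c f₀ qY g hY qX (f ≫ g) hXS f hX.w rfl j)
    (inferInstanceAs (IsOpenImmersion f))
  refine ⟨j.left, j.hom, ?_⟩
  have e : pullback.map (f₀ ≫ g₀) (D.map j.hom) g₀ (D.map j.hom) f₀ (𝟙 _) (𝟙 _) (by simp)
      (by simp) = (pbMap D k g₀ f₀).app j := by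
    apply pullback.hom_ext <;> simp
  rw [e]
  exact hj

end OpenImm

section Stage

variable [∀ {i j : I} (f : i ⟶ j), IsAffineHom (D.map f)]
variable {U V W Z : Scheme.{u}} (jU : U ⟶ Z) (jV : V ⟶ Z) (pU : W ⟶ U) (h : Z ⟶ c.pt)

variable (D c) in
/-- Stage-level data for gluing: finitely presented models of `U`, `V` at stage `k` and a
quasi-compact open of the model of `U` modelling `W`. -/
structure GlueStage (k : I) where
  U₀ : Scheme.{u}
  V₀ : Scheme.{u}
  O₀ : Scheme.{u}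
  hU : U₀ ⟶ D.obj k
  hV : V₀ ⟶ D.obj k
  ι : O₀ ⟶ U₀
  gU : U ⟶ U₀
  gV : V ⟶ V₀
  gW : W ⟶ O₀
  sqU : IsPullback gU (jU ≫ h) hU (c.π.app k)
  sqV : IsPullback gV (jV ≫ h) hV (c.π.app k)
  sqW : IsPullback gW pU ι gU
  lfpU : LocallyOfFinitePresentation hU
  qcU : QuasiCompact hU
  qsU : QuasiSeparated hU
  lfpV : LocallyOfFinitePresentation hV
  qcV : QuasiCompact hV
  qsV : QuasiSeparated hV
  oi : IsOpenImmersion ι
  cO : CompactSpace O₀

variable {jU jV pU h}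

namespace GlueStage

variable {k : I} (G : GlueStage D c jU jV pU h k)

lemma sqWS : IsPullback G.gW (pU ≫ jU ≫ h) (G.ι ≫ G.hU) (c.π.app k) :=
  G.sqW.paste_vert G.sqU

/-- Base change of the stage data to a later stage. -/
noncomputable def restage {l : I} (a : l ⟶ k) : GlueStage D c jU jV pU h l where
  U₀ := pullback G.hU (D.map a)
  V₀ := pullback G.hV (D.map a)
  O₀ := pullback (G.ι ≫ G.hU) (D.map a)
  hU := pullback.snd _ _
  hV := pullback.snd _ _
  ι := pullback.map (G.ι ≫ G.hU) (D.map a) G.hU (D.map a) G.ι (𝟙 _) (𝟙 _) (by simp) (by simp)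
  gU := pullback.lift G.gU ((jU ≫ h) ≫ c.π.app l) (restage_w a G.sqU)
  gV := pullback.lift G.gV ((jV ≫ h) ≫ c.π.app l) (restage_w a G.sqV)
  gW := pullback.lift G.gW ((pU ≫ jU ≫ h) ≫ c.π.app l) (restage_w a G.sqWS)
  sqU := isPullback_restage a G.sqU _
  sqV := isPullback_restage a G.sqV _
  sqW := by
    refine IsPullback.of_bot ?_ ?_ (isPullback_restage a G.sqU (restage_w a G.sqU))
    · have : pullback.map (G.ι ≫ G.hU) (D.map a) G.hU (D.map a) G.ι (𝟙 _) (𝟙 _) (by simp) (by simp) ≫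
          pullback.snd G.hU (D.map a) = pullback.snd (G.ι ≫ G.hU) (D.map a) := by simp
      rw [this]
      exact isPullback_restage a G.sqWS (restage_w a G.sqWS)
    · apply pullback.hom_ext
      · simp [G.sqW.w]
      · simp
  lfpU := by haveI := G.lfpU; infer_instance
  qcU := by haveI := G.qcU; infer_instance
  qsU := by haveI := G.qsU; infer_instance
  lfpV := by haveI := G.lfpV; infer_instance
  qcV := by haveI := G.qcV; infer_instance
  qsV := by haveI := G.qsV; infer_instance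
  oi := by
    haveI := G.oi
    exact MorphismProperty.of_isPullback (P := @IsOpenImmersion)
      (isPullback_map_fst G.ι G.hU (D.map a)) inferInstance
  cO := by
    haveI := G.cO
    haveI : IsAffineHom (pullback.fst (G.ι ≫ G.hU) (D.map a)) :=
      MorphismProperty.pullback_fst (P := @IsAffineHom) _ _ inferInstance
    exact QuasiCompact.compactSpace_of_compactSpace (pullback.fst (G.ι ≫ G.hU) (D.map a))

end GlueStage

variable [IsCofiltered I] [∀ i, CompactSpace (D.obj i)] [∀ i, QuasiSeparatedSpace (D.obj i)]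

include jV in
/-- B1: initial stage data from descent data of `U`, `V` and quasi-compactness of `W`. -/
theorem exists_glueStage (hc : IsLimit c)
    [IsOpenImmersion pU] [CompactSpace W]
    (hdU : Descends D c (jU ≫ h)) (hdV : Descends D c (jV ≫ h)) :
    ∃ k, Nonempty (GlueStage D c jU jV pU h k) := by
  obtain ⟨i₁, U₁, hU₁, gU₁, _, _, _, sqU₁⟩ := hdU
  obtain ⟨i₂, V₁, hV₁, gV₁, _, _, _, sqV₁⟩ := hdV
  obtain ⟨i, a₁, a₂, -⟩ : ∃ (i : I) (a₁ : i ⟶ i₁) (a₂ : i ⟶ i₂), True :=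
    ⟨IsCofiltered.min i₁ i₂, IsCofiltered.minToLeft _ _, IsCofiltered.minToRight _ _, trivial⟩
  have sqU := isPullback_restage a₁ sqU₁ (restage_w a₁ sqU₁)
  have sqV := isPullback_restage a₂ sqV₁ (restage_w a₂ sqV₁)
  have hcomp : IsCompact (pU.opensRange : Set U) := by
    rw [Scheme.Hom.coe_opensRange]
    exact isCompact_range pU.continuous
  obtain ⟨j, O, hOc, hO⟩ := exists_preimage_eq (pbDiagram D i (pullback.snd hU₁ (D.map a₁)))
    (pbCone c _ (jU ≫ h) sqU) (isLimitPbCone c hc _ (jU ≫ h) sqU) pU.opensRange hcomp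
  have sqUj := isPullback_pbCone_π c _ (jU ≫ h) sqU j
  have sqVj := isPullback_pbCone_π c _ (jV ≫ h) sqV j
  have hsub : Set.range (pU ≫ (pbCone c _ (jU ≫ h) sqU).π.app j) ⊆ Set.range O.ι := by
    rw [Scheme.Opens.range_ι]
    rintro _ ⟨w, rfl⟩
    have : pU w ∈ (pbCone c _ (jU ≫ h) sqU).π.app j ⁻¹ᵁ O := by
      rw [hO]
      exact ⟨w, rfl⟩
    exact this
  refine ⟨j.left, ⟨{
    U₀ := pullback (pullback.snd hU₁ (D.map a₁)) (D.map j.hom)
    V₀ := pullback (pullback.snd hV₁ (D.map a₂)) (D.map j.hom)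
    O₀ := O.toScheme
    hU := pullback.snd _ _
    hV := pullback.snd _ _
    ι := O.ι
    gU := (pbCone c _ (jU ≫ h) sqU).π.app j
    gV := (pbCone c _ (jV ≫ h) sqV).π.app j
    gW := IsOpenImmersion.lift O.ι (pU ≫ (pbCone c _ (jU ≫ h) sqU).π.app j) hsub
    sqU := sqUj
    sqV := sqVj
    sqW := IsOpenImmersion.isPullback _ _ _ _ (IsOpenImmersion.lift_fac _ _ _).symm
      (by rw [Scheme.Opens.opensRange_ι]; exact hO)
    lfpU := inferInstance
    qcU := inferInstance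
    qsU := inferInstance
    lfpV := inferInstance
    qcV := inferInstance
    qsV := inferInstance
    oi := inferInstance
    cO := isCompact_iff_compactSpace.mp hOc }⟩⟩

/-- B2: the identification of `W` inside `V` comes from a stage-level morphism. -/
theorem GlueStage.exists_hom (hc : IsLimit c) (pV : W ⟶ V) (hW : IsPullback pU pV jU jV)
    {k : I} (G : GlueStage D c jU jV pU h k) :
    ∃ (l : I) (a : l ⟶ k) (ψ : (G.restage a).O₀ ⟶ (G.restage a).V₀),
      ψ ≫ (G.restage a).hV = (G.restage a).ι ≫ (G.restage a).hU ∧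
        (G.restage a).gW ≫ ψ = pV ≫ (G.restage a).gV := by
  haveI := G.lfpU; haveI := G.qcU; haveI := G.qsU
  haveI := G.lfpV; haveI := G.qcV; haveI := G.qsV
  haveI := G.oi; haveI := G.cO
  haveI : QuasiSeparatedSpace G.O₀ := quasiSeparatedSpace_of_quasiSeparated (G.ι ≫ G.hU)
  haveI : CompactSpace G.V₀ := QuasiCompact.compactSpace_of_compactSpace G.hV
  haveI : QuasiSeparatedSpace G.V₀ := quasiSeparatedSpace_of_quasiSeparated G.hV
  haveI : ∀ (i j : I) (f : i ⟶ j), IsAffineHom (D.map f) := fun _ _ f => inferInstance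
  have hf : pV ≫ jV ≫ h = pU ≫ jU ≫ h := by rw [← Category.assoc, ← hW.w, Category.assoc]
  obtain ⟨j, φ, fj, sX, sY, h1, h2, h3, h4, h5, h6⟩ := Groth.Agent.S9218.result D c hc k
    (G.ι ≫ G.hU) G.hV G.gW (pU ≫ jU ≫ h) G.sqWS G.gV (jV ≫ h) G.sqV pV hf
  have e1 : (G.restage φ).gW = sX := by
    apply pullback.hom_ext
    · exact (pullback.lift_fst _ _ _).trans h2.symm
    · exact (pullback.lift_snd _ _ _).trans h3.symm
  have e2 : (G.restage φ).gV = sY := by
    apply pullback.hom_ext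
    · exact (pullback.lift_fst _ _ _).trans h4.symm
    · exact (pullback.lift_snd _ _ _).trans h5.symm
  refine ⟨j, φ, fj, ?_, ?_⟩
  · refine h1.trans ?_
    exact (pullback.lift_snd _ _ _).symm.trans (by rfl)
  · rw [e1, e2, h6]

namespace GlueStage

variable {k : I} (G : GlueStage D c jU jV pU h k)

/-- Base change of a stage-level morphism `O₀ ⟶ V₀`. -/
noncomputable def restageMap (ψ : G.O₀ ⟶ G.V₀) (hψ : ψ ≫ G.hV = G.ι ≫ G.hU) {l : I}
    (a : l ⟶ k) : (G.restage a).O₀ ⟶ (G.restage a).V₀ :=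
  pullback.map (G.ι ≫ G.hU) (D.map a) G.hV (D.map a) ψ (𝟙 _) (𝟙 _) (by simp [hψ]) (by simp)

lemma restageMap_hV (ψ : G.O₀ ⟶ G.V₀) (hψ : ψ ≫ G.hV = G.ι ≫ G.hU) {l : I} (a : l ⟶ k) :
    G.restageMap ψ hψ a ≫ (G.restage a).hV = (G.restage a).ι ≫ (G.restage a).hU := by
  simp [restageMap, restage]

lemma restageMap_gW (pV : W ⟶ V) (hW : pU ≫ jU = pV ≫ jV) (ψ : G.O₀ ⟶ G.V₀)
    (hψ : ψ ≫ G.hV = G.ι ≫ G.hU) (hgψ : G.gW ≫ ψ = pV ≫ G.gV) {l : I} (a : l ⟶ k) :
    (G.restage a).gW ≫ G.restageMap ψ hψ a = pV ≫ (G.restage a).gV := by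
  apply pullback.hom_ext
  · simp [restageMap, restage, hgψ]
  · simp [restageMap, restage, reassoc_of% hW]

/-- B3: the stage-level morphism becomes an open immersion at a later stage. -/
theorem exists_isOpenImmersion (hc : IsLimit c) (pV : W ⟶ V) (hW : IsPullback pU pV jU jV)
    [IsOpenImmersion pV] (ψ : G.O₀ ⟶ G.V₀) (hψ : ψ ≫ G.hV = G.ι ≫ G.hU)
    (hgψ : G.gW ≫ ψ = pV ≫ G.gV) :
    ∃ (l : I) (a : l ⟶ k), IsOpenImmersion (G.restageMap ψ hψ a) := by
  haveI := G.lfpU; haveI := G.qcU; haveI := G.qsU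
  haveI := G.lfpV; haveI := G.qcV; haveI := G.qsV
  haveI := G.oi; haveI := G.cO
  haveI : QuasiCompact (G.ι ≫ G.hU) := quasiCompact_of_compactSpace _
  have hf : pV ≫ jV ≫ h = pU ≫ jU ≫ h := by rw [← Category.assoc, ← hW.w, Category.assoc]
  have big : IsPullback G.gW (pV ≫ jV ≫ h) (ψ ≫ G.hV) (c.π.app k) := by
    rw [hf, hψ]
    exact G.sqWS
  have hX : IsPullback G.gW pV ψ G.gV := IsPullback.of_bot big hgψ G.sqV
  exact exists_isOpenImmersion_map hc k ψ G.hV (G.ι ≫ G.hU) hψ pV (jV ≫ h) G.gV G.gW G.sqV hX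

/-- Final step: glue the stage-level models. -/
theorem descends (pV : W ⟶ V) (hW : IsPullback pU pV jU jV) [IsOpenImmersion jU]
    [IsOpenImmersion jV] (hcov : ∀ z : Z, z ∈ Set.range jU ∨ z ∈ Set.range jV)
    (ψ : G.O₀ ⟶ G.V₀) [IsOpenImmersion ψ] (hψ : ψ ≫ G.hV = G.ι ≫ G.hU)
    (hgψ : G.gW ≫ ψ = pV ≫ G.gV) : Descends D c h := by
  haveI := G.lfpU; haveI := G.qcU; haveI := G.qsU
  haveI := G.lfpV; haveI := G.qcV; haveI := G.qsV
  haveI := G.oi; haveI := G.cO
  have hf : pV ≫ jV ≫ h = pU ≫ jU ≫ h := by rw [← Category.assoc, ← hW.w, Category.assoc]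
  have big : IsPullback G.gW (pV ≫ jV ≫ h) (ψ ≫ G.hV) (c.π.app k) := by
    rw [hf, hψ]
    exact G.sqWS
  have sqWV : IsPullback G.gW pV ψ G.gV := IsPullback.of_bot big hgψ G.sqV
  obtain ⟨g, hg⟩ := isPullback_glue (c.π.app k) G.ι ψ G.hU G.hV hψ.symm jU jV pU pV hW hcov h
    G.gU G.gV G.gW G.sqU G.sqV G.sqW sqWV
  obtain ⟨h1, h2, h3⟩ := fp_desc G.ι ψ G.hU G.hV hψ.symm
  exact ⟨k, pushout G.ι ψ, pushout.desc _ _ _, g, h1, h2, h3, hg⟩

end GlueStage

/-- Step B: if `Z = U ∪ V` with `U ∩ V` quasi-compact and both `U`, `V` descend, then `Z`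
descends. -/
theorem descends_glue (hc : IsLimit c) {U V W Z : Scheme.{u}} (jU : U ⟶ Z) (jV : V ⟶ Z)
    [IsOpenImmersion jU] [IsOpenImmersion jV] (pU : W ⟶ U) (pV : W ⟶ V)
    (hW : IsPullback pU pV jU jV) (hcov : ∀ z : Z, z ∈ Set.range jU ∨ z ∈ Set.range jV)
    [CompactSpace W] (h : Z ⟶ c.pt)
    (hdU : Descends D c (jU ≫ h)) (hdV : Descends D c (jV ≫ h)) : Descends D c h := by
  haveI : IsOpenImmersion pU :=
    MorphismProperty.of_isPullback (P := @IsOpenImmersion) hW.flip inferInstance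
  haveI : IsOpenImmersion pV :=
    MorphismProperty.of_isPullback (P := @IsOpenImmersion) hW inferInstance
  obtain ⟨k₁, ⟨G₁⟩⟩ := exists_glueStage (pU := pU) hc hdU hdV
  obtain ⟨k₂, a₂, ψ₂, hψ₂, hgψ₂⟩ := G₁.exists_hom hc pV hW
  obtain ⟨k₃, a₃, hoi⟩ := (G₁.restage a₂).exists_isOpenImmersion hc pV hW ψ₂ hψ₂ hgψ₂
  exact ((G₁.restage a₂).restage a₃).descends pV hW hcov _
    ((G₁.restage a₂).restageMap_hV ψ₂ hψ₂ a₃)
    ((G₁.restage a₂).restageMap_gW pV hW.w ψ₂ hψ₂ hgψ₂ a₃)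

theorem isEmpty_bot {X : Scheme.{u}} : IsEmpty ↥((⊥ : X.Opens) : Scheme.{u}) := by
  constructor
  rintro ⟨x, hx⟩
  exact hx

theorem isPullback_of_isEmpty {E S' S : Scheme.{u}} [IsEmpty E] (p : E ⟶ S') (π : S' ⟶ S) :
    IsPullback (𝟙 E) p (p ≫ π) π := by
  have comm : 𝟙 E ≫ (p ≫ π) = p ≫ π := Category.id_comp _
  haveI : IsEmpty ↥(pullback (p ≫ π) π) :=
    Function.isEmpty (pullback.fst (p ≫ π) π)
  have : IsIso (pullback.lift (𝟙 E) p comm) := inferInstance
  exact IsPullback.of_iso_pullback ⟨comm⟩ (asIso (pullback.lift (𝟙 E) p comm)) (by simp) (by simp)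

theorem descends_of_isEmpty {E : Scheme.{u}} [IsEmpty E] (p : E ⟶ c.pt) : Descends D c p := by
  obtain ⟨i⟩ := IsCofiltered.nonempty (C := I)
  exact ⟨i, E, p ≫ c.π.app i, 𝟙 E, inferInstance, inferInstance, inferInstance,
    isPullback_of_isEmpty p (c.π.app i)⟩

/-- Main theorem: a morphism of finite presentation to the limit descends to a stage. -/
theorem descends_of_fp (hc : IsLimit c) {X : Scheme.{u}} (f : X ⟶ c.pt)
    [LocallyOfFinitePresentation f] [QuasiCompact f] [QuasiSeparated f] : Descends D c f := by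
  classical
  obtain ⟨i₀⟩ := IsCofiltered.nonempty (C := I)
  haveI : CompactSpace c.pt := Scheme.compactSpace_of_isLimit D c hc
  haveI : QuasiSeparatedSpace c.pt := by
    haveI := isAffineHom_π_app D c hc i₀
    exact quasiSeparatedSpace_of_quasiSeparated (c.π.app i₀)
  haveI : CompactSpace X := QuasiCompact.compactSpace_of_compactSpace f
  haveI : QuasiSeparatedSpace X := quasiSeparatedSpace_of_quasiSeparated f
  obtain ⟨π₀, hπ₀⟩ : ∃ π₀ : c.pt ⟶ D.obj i₀, π₀ = c.π.app i₀ := ⟨_, rfl⟩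
  -- good affine opens
  have hgood : ∀ x : X, ∃ U : X.Opens, x ∈ U ∧ IsAffineOpen U ∧ Descends D c (U.ι ≫ f) := by
    intro x
    obtain ⟨V, hV, hxV⟩ : ∃ V : (D.obj i₀).Opens, IsAffineOpen V ∧ π₀ (f x) ∈ V := by
      obtain ⟨_, ⟨V, hV, rfl⟩, hxV, -⟩ :=
        (D.obj i₀).isBasis_affineOpens.exists_subset_of_mem_open
          (Set.mem_univ (π₀ (f x))) isOpen_univ
      exact ⟨V, hV, hxV⟩
    have hx' : x ∈ f ⁻¹ᵁ (π₀ ⁻¹ᵁ V) := hxV
    obtain ⟨U, hU, hxU, hUV⟩ : ∃ U : X.Opens, IsAffineOpen U ∧ x ∈ U ∧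
        U ≤ f ⁻¹ᵁ (π₀ ⁻¹ᵁ V) := by
      obtain ⟨_, ⟨U, hU, rfl⟩, hxU, hUV⟩ := X.isBasis_affineOpens.exists_subset_of_mem_open
        hx' (f ⁻¹ᵁ (π₀ ⁻¹ᵁ V)).2
      exact ⟨U, hU, hxU, hUV⟩
    refine ⟨U, hxU, hU, ?_⟩
    haveI : IsAffine U.toScheme := hU
    obtain ⟨j, Zj, hj, g, h1, h2, h3, h4⟩ :=
      Groth.Agent.Lib.Helper12.FpDescAff.exists_descend_of_isAffine_of_le D c hc (U.ι ≫ f) i₀ V hV
        (by
          rintro _ ⟨y, rfl⟩
          have : y.1 ∈ f ⁻¹ᵁ (π₀ ⁻¹ᵁ V) := hUV y.2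
          rw [hπ₀] at this
          exact this)
    exact ⟨j, Zj, hj, g, h1, h2, h3, h4⟩
  choose U hxU hUaff hUdesc using hgood
  obtain ⟨t, ht⟩ := isCompact_univ.elim_finite_subcover (fun x => (U x : Set X))
    (fun x => (U x).2) (fun x _ => Set.mem_iUnion.mpr ⟨x, hxU x⟩)
  have key : ∀ s : Finset X, IsCompact ((s.sup U : X.Opens) : Set X) ∧
      Descends D c ((s.sup U).ι ≫ f) := by
    intro s
    induction s using Finset.induction_on with
    | empty =>
      rw [Finset.sup_empty]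
      haveI := isEmpty_bot (X := X)
      exact ⟨by simp, descends_of_isEmpty _⟩
    | insert x s hx ih =>
      rw [Finset.sup_insert]
      obtain ⟨ihc, ihd⟩ := ih
      refine ⟨(hUaff x).isCompact.union ihc, ?_⟩
      haveI : CompactSpace ↥((U x ⊓ s.sup U : X.Opens) : Scheme.{u}) :=
        isCompact_iff_compactSpace.mp
          (QuasiSeparatedSpace.inter_isCompact _ _ (U x).2 (hUaff x).isCompact (s.sup U).2 ihc)
      refine descends_glue hc (X.homOfLE (le_sup_left : U x ≤ U x ⊔ s.sup U))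
        (X.homOfLE (le_sup_right : s.sup U ≤ U x ⊔ s.sup U))
        (X.homOfLE (inf_le_left : U x ⊓ s.sup U ≤ U x))
        (X.homOfLE (inf_le_right : U x ⊓ s.sup U ≤ s.sup U))
        (isPullback_opens_inf_le le_sup_left le_sup_right) ?_ _ ?_ ?_
      · rintro ⟨z, hz⟩
        rcases hz with hz | hz
        · left
          exact ⟨⟨z, hz⟩, Scheme.homOfLE_apply' _ _ _⟩
        · right
          exact ⟨⟨z, hz⟩, Scheme.homOfLE_apply' _ _ _⟩
      · rw [Scheme.homOfLE_ι_assoc]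
        exact hUdesc x
      · rw [Scheme.homOfLE_ι_assoc]
        exact ihd
  have htop : t.sup U = ⊤ := by
    refine top_unique fun x _ => ?_
    obtain ⟨y, hy⟩ := Set.mem_iUnion.mp (ht (Set.mem_univ x))
    obtain ⟨hyt, hxy⟩ := Set.mem_iUnion.mp hy
    exact (Finset.le_sup (f := U) hyt) hxy
  have fin : ∀ O : X.Opens, O = ⊤ → Descends D c (O.ι ≫ f) → Descends D c f := by
    rintro _ rfl ⟨i, Zi, hi, g, h1, h2, h3, sq⟩
    refine ⟨i, Zi, hi, (X.topIso).inv ≫ g, h1, h2, h3, ?_⟩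
    refine sq.of_iso (X.topIso) (Iso.refl _) (Iso.refl _) (Iso.refl _) ?_ ?_ ?_ ?_
    · simp
    · simp
    · simp
    · simp
  exact fin _ htop (key t).2

end Stage

end Groth.Agent.Lib.Helper12.FpDesc
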