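import Mathlib
import Groth.Agent.Lib.Helper12.JacLocalDim
import Groth.Agent.Lib.Helper12.JacDim
import Groth.Agent.Lib.Helper12.OrdTools

/-!
# Helper library (helper12): dimension and quasi-finite / closed morphisms
-/

set_option autoImplicit false
universe u
open AlgebraicGeometry CategoryTheory

namespace Groth.Agent.Lib.Helper12.QFDim

open Groth.Agent.Lib.Helper12

variable {X Y : Scheme.{u}} (f : X ⟶ Y)

/-- A morphism with discrete fibres does not lower dimension: `dim X ≤ dim T` for any closed
`T` containing the image. -/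
theorem dim_le_of_quasiFinite [LocallyQuasiFinite f] (T : Set Y) (hT : IsClosed T)
    (hfT : Set.range f.base ⊆ T) : topologicalKrullDim X ≤ topologicalKrullDim ↥T := by
  haveI : QuasiSober ↥T := hT.isClosedEmbedding_subtypeVal.quasiSober
  rw [JacDim.topologicalKrullDim_eq_krullDim' X,
    JacLocalDim.topologicalKrullDim_eq_krullDim_of_quasiSober T]
  apply Order.krullDim_le_of_strictMono (fun x : X => (⟨f x, hfT ⟨x, rfl⟩⟩ : ↥T))
  intro a b hab
  have hba : b ⤳ a := (lt_iff_le_not_ge.mp hab).1
  have hnab : ¬ a ⤳ b := (lt_iff_le_not_ge.mp hab).2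
  refine lt_iff_le_not_ge.mpr ⟨hba.map f.continuous, ?_⟩
  intro hge
  have hge' : f a ⤳ f b := hge
  have heq : f b = f a := ((hba.map f.continuous).antisymm hge').eq
  have hdisc := f.isDiscrete_preimage_singleton (f a)
  haveI : DiscreteTopology ↥(f.base ⁻¹' {f.base a}) := hdisc.to_subtype
  have h1 : (⟨b, heq⟩ : ↥(f.base ⁻¹' {f.base a})) ⤳ ⟨a, rfl⟩ :=
    (subtype_specializes_iff _ _).mpr hba
  have h2 := h1.eq
  have h3 : b = a := congrArg Subtype.val h2
  exact hnab (by rw [h3])

/-- A closed map does not raise the dimension of its image. -/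
theorem dim_range_le_of_isClosedMap (hcl : IsClosedMap f.base) :
    topologicalKrullDim ↥(Set.range f.base) ≤ topologicalKrullDim X := by
  haveI : QuasiSober ↥(Set.range f.base) :=
    hcl.isClosed_range.isClosedEmbedding_subtypeVal.quasiSober
  rw [JacDim.topologicalKrullDim_eq_krullDim' X,
    JacLocalDim.topologicalKrullDim_eq_krullDim_of_quasiSober (Set.range f.base)]
  rw [Order.krullDim_eq_iSup_height (α := ↥(Set.range f.base)), Order.krullDim_eq_iSup_height (α := X)]
  apply iSup_le
  rintro ⟨y, x, rfl⟩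
  have hsp : SpecializingMap f.base := hcl.specializingMap
  have key := OrdTools.height_apply_le_of_lift
    (fun x : X => (⟨f x, x, rfl⟩ : ↥(Set.range f.base))) (fun a b hab => by
      have hb : f a ⤳ b.1 := (lt_iff_le_not_ge.mp hab).1
      obtain ⟨a', ha', hfa'⟩ := hsp hb
      refine ⟨a', lt_iff_le_not_ge.mpr ⟨ha', fun h => ?_⟩, Subtype.ext hfa'⟩
      have h' : a' ⤳ a := h
      apply (lt_iff_le_not_ge.mp hab).2
      show b.1 ⤳ f a
      rw [← hfa']
      exact h'.map f.continuous) x
  refine le_trans ?_ (le_iSup (fun a : X => ((Order.height a : ℕ∞) : WithBot ℕ∞)) x)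
  exact_mod_cast key

end Groth.Agent.Lib.Helper12.QFDim
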