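import Mathlib

/-! Finiteness of integral closures (N-1 / N-2 / Japanese rings).

* `finite_integralClosure_of_purelyInseparable`: a Noetherian domain whose integral closures in
  finite purely inseparable extensions of the fraction field are module-finite is N-2. -/

set_option autoImplicit false

namespace Groth.Agent.Lib.Helper12.N2

open Function IntermediateField

universe u

/-- For a finite normal extension `M/K`, the fixed field of the full automorphism group is purely
inseparable over `K`. -/
theorem isPurelyInseparable_fixedField (K M : Type*) [Field K] [Field M] [Algebra K M]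
    [FiniteDimensional K M] [Normal K M] :
    IsPurelyInseparable K (IntermediateField.fixedField (⊤ : Subgroup (M ≃ₐ[K] M))) := by
  classical
  rw [isPurelyInseparable_iff_natSepDegree_eq_one]
  intro x
  have hint : IsIntegral K (x : M) := Algebra.IsIntegral.isIntegral _
  have hroots : ∀ y ∈ (minpoly K (x : M)).aroots M, y = (x : M) := by
    intro y hy
    have hy' : Polynomial.aeval y (minpoly K (x : M)) = 0 := (Polynomial.mem_aroots.1 hy).2
    have hmin : minpoly K y = minpoly K (x : M) :=
      minpoly.eq_of_root (Algebra.IsAlgebraic.isAlgebraic _) hy'
    obtain ⟨σ, hσ⟩ := (Normal.minpoly_eq_iff_mem_orbit (F := K) (E := M)).1 hmin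
    rw [← hσ]
    exact (IntermediateField.mem_fixedField_iff _ _).1 x.2 σ (Subgroup.mem_top σ)
  have hfin : ((minpoly K (x : M)).aroots M).toFinset = {(x : M)} := by
    ext y
    simp only [Multiset.mem_toFinset, Finset.mem_singleton]
    constructor
    · exact hroots y
    · rintro rfl
      rw [Polynomial.mem_aroots]
      exact ⟨minpoly.ne_zero hint, minpoly.aeval K _⟩
  rw [IntermediateField.minpoly_eq,
    Polynomial.natSepDegree_eq_of_splits _ (Normal.splits inferInstance (x : M)), hfin,
    Finset.card_singleton]

/-- Integral closures in a subfield are finite if they are in a bigger field. -/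
theorem finite_integralClosure_of_tower_top (A L M : Type*) [CommRing A] [IsNoetherianRing A]
    [Field L] [Field M] [Algebra A L] [Algebra A M] [Algebra L M] [IsScalarTower A L M]
    (h : Module.Finite A (integralClosure A M)) : Module.Finite A (integralClosure A L) := by
  haveI : IsNoetherian A (integralClosure A M) := isNoetherian_of_isNoetherianRing_of_finite A _
  let ψ : L →ₐ[A] M := IsScalarTower.toAlgHom A L M
  let ι : integralClosure A L →ₗ[A] integralClosure A M :=
    { toFun := fun x => ⟨ψ x.1, x.2.map ψ⟩
      map_add' := fun x y => Subtype.ext (map_add ψ x.1 y.1)
      map_smul' := fun a x => Subtype.ext (map_smul ψ a x.1) }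
  refine Module.Finite.of_injective ι ?_
  intro x y hxy
  apply Subtype.ext
  exact (algebraMap L M).injective (congrArg Subtype.val hxy)

/-- Two-step finiteness: purely inseparable part by hypothesis, separable part by the trace form. -/
theorem finite_integralClosure_of_separable_tower (A K F M : Type*) [CommRing A] [IsDomain A]
    [IsNoetherianRing A] [Field K] [Algebra A K] [IsFractionRing A K]
    [Field F] [Algebra A F] [Algebra K F] [IsScalarTower A K F] [FiniteDimensional K F]
    [Field M] [Algebra A M] [Algebra F M] [IsScalarTower A F M] [FiniteDimensional F M]
    [Algebra.IsSeparable F M] (hF : Module.Finite A (integralClosure A F)) :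
    Module.Finite A (integralClosure A M) := by
  haveI : IsNoetherian A (integralClosure A F) := isNoetherian_of_isNoetherianRing_of_finite A _
  haveI : IsNoetherianRing (integralClosure A F) :=
    isNoetherian_of_tower A ‹IsNoetherian A (integralClosure A F)›
  haveI : IsIntegrallyClosed (integralClosure A F) :=
    integralClosure.isIntegrallyClosedOfFiniteExtension K
  haveI : IsFractionRing (integralClosure A F) F :=
    integralClosure.isFractionRing_of_finite_extension K F
  haveI : IsScalarTower A (integralClosure A F) M := IsScalarTower.of_algebraMap_eq (fun a => by
    rw [IsScalarTower.algebraMap_apply A F M]; rfl)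
  haveI : Module.Finite (integralClosure A F) (integralClosure (integralClosure A F) M) :=
    IsIntegralClosure.finite (integralClosure A F) F M _
  haveI : Module.Finite A (integralClosure (integralClosure A F) M) :=
    Module.Finite.trans (integralClosure A F) _
  haveI : IsNoetherian A (integralClosure (integralClosure A F) M) :=
    isNoetherian_of_isNoetherianRing_of_finite A _
  let ι : integralClosure A M →ₗ[A] integralClosure (integralClosure A F) M :=
    { toFun := fun x => ⟨x.1, x.2.tower_top⟩
      map_add' := fun _ _ => rfl
      map_smul' := fun _ _ => rfl }
  refine Module.Finite.of_injective ι ?_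
  intro x y hxy
  have h1 : ((ι x : integralClosure (integralClosure A F) M) : M) = (ι y : M) := by rw [hxy]
  exact Subtype.ext h1

/-- Stacks 032N-type reduction: N-2 may be checked on finite purely inseparable extensions. -/
theorem finite_integralClosure_of_purelyInseparable (A : Type u) [CommRing A] [IsDomain A]
    [IsNoetherianRing A] (K : Type u) [Field K] [Algebra A K] [IsFractionRing A K]
    (h : ∀ (K' : Type u) [Field K'] [Algebra A K'] [Algebra K K'] [IsScalarTower A K K'],
      FiniteDimensional K K' → IsPurelyInseparable K K' → Module.Finite A (integralClosure A K'))
    (L : Type u) [Field L] [Algebra A L] [Algebra K L] [IsScalarTower A K L]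
    [FiniteDimensional K L] : Module.Finite A (integralClosure A L) := by
  haveI : IsAlgClosure K (AlgebraicClosure L) := IsAlgClosure.ofAlgebraic K L (AlgebraicClosure L)
  haveI : Normal K (AlgebraicClosure L) := IsAlgClosure.normal K (AlgebraicClosure L)
  let M : IntermediateField K (AlgebraicClosure L) := normalClosure K L (AlgebraicClosure L)
  haveI : Normal K M := normalClosure.normal K L (AlgebraicClosure L)
  haveI : FiniteDimensional K M := normalClosure.is_finiteDimensional K L (AlgebraicClosure L)
  let F : IntermediateField K M := IntermediateField.fixedField (⊤ : Subgroup (M ≃ₐ[K] M))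
  haveI : IsPurelyInseparable K F := isPurelyInseparable_fixedField K M
  haveI : IsGalois F M := IsGalois.of_fixed_field M (⊤ : Subgroup (M ≃ₐ[K] M))
  haveI : FiniteDimensional K F := inferInstance
  haveI : FiniteDimensional F M := FiniteDimensional.right K F M
  have hF : Module.Finite A (integralClosure A F) := h F inferInstance inferInstance
  haveI : IsScalarTower A F M := IsScalarTower.of_algebraMap_eq (fun a => rfl)
  have hM : Module.Finite A (integralClosure A M) :=
    finite_integralClosure_of_separable_tower A K F M hF
  haveI : IsScalarTower A L M := IsScalarTower.of_algebraMap_eq (fun a => by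
    apply Subtype.ext
    exact IsScalarTower.algebraMap_apply A L (AlgebraicClosure L) a)
  exact finite_integralClosure_of_tower_top A L M hM

end Groth.Agent.Lib.Helper12.N2
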