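import Mathlib
import Groth.Agent.Lib.Helper12.N2

/-! N-1/N-2 for polynomial rings: the core finiteness lemma. -/

set_option autoImplicit false

namespace Groth.Agent.Lib.Helper12.N2

open Function Polynomial

universe u

/-- The ring map `R[X] → R''[X]`, `X ↦ X ^ q`, coefficients mapped along `R → R''`. -/
noncomputable def phi (R R'' : Type*) [CommRing R] [CommRing R''] [Algebra R R''] (q : ℕ) :
    R[X] →+* R''[X] :=
  (Polynomial.expand R'' q : R''[X] →+* R''[X]).comp (Polynomial.mapRingHom (algebraMap R R''))

theorem phi_C (R R'' : Type*) [CommRing R] [CommRing R''] [Algebra R R''] (q : ℕ) (a : R) :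
    phi R R'' q (C a) = C (algebraMap R R'' a) := by
  simp [phi]

theorem phi_X (R R'' : Type*) [CommRing R] [CommRing R''] [Algebra R R''] (q : ℕ) :
    phi R R'' q X = X ^ q := by
  simp [phi]

/-- Coefficientwise `p^e`-th roots give a `p^e`-th root of the image polynomial. -/
theorem exists_root_phi (R R'' : Type*) [CommRing R] [CommRing R''] [Algebra R R''] (p : ℕ)
    [ExpChar R'' p] (e : ℕ) (f : R[X])
    (hρ : ∀ j, ∃ ρ : R'', ρ ^ (p ^ e) = algebraMap R R'' (f.coeff j)) :
    ∃ f' : R''[X], f' ^ (p ^ e) = phi R R'' (p ^ e) f := by
  choose ρ hρ using hρ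
  refine ⟨∑ j ∈ Finset.range (f.natDegree + 1), monomial j (ρ j), ?_⟩
  rw [← Polynomial.map_iterateFrobenius_expand, Polynomial.map_expand]
  show _ = Polynomial.expand R'' (p ^ e) (Polynomial.map (algebraMap R R'') f)
  congr 1
  ext j
  rw [Polynomial.coeff_map, Polynomial.coeff_map, Polynomial.finset_sum_coeff]
  simp only [Polynomial.coeff_monomial]
  rw [Finset.sum_ite_eq' (Finset.range (f.natDegree + 1)) j ρ]
  by_cases hj : j ∈ Finset.range (f.natDegree + 1)
  · rw [if_pos hj, iterateFrobenius_def, hρ]
  · rw [if_neg hj, map_zero]
    have : f.natDegree < j := by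
      rw [Finset.mem_range] at hj
      omega
    rw [Polynomial.coeff_eq_zero_of_natDegree_lt this, map_zero]

theorem finite_poly_of_finite (R : Type*) [CommRing R] (R'' : Type*) [CommRing R'']
    [Algebra R R''] [Algebra.IsIntegral R R''] (hfin : Module.Finite R R'') (q : ℕ) (hq : 0 < q) :
    letI := (phi R R'' q).toAlgebra
    Module.Finite R[X] R''[X] := by
  letI := (phi R R'' q).toAlgebra
  haveI : IsScalarTower R R[X] R''[X] := IsScalarTower.of_algebraMap_eq (fun a => by
    show _ = phi R R'' q (C a)
    rw [phi_C]; rfl)
  obtain ⟨gens, hgens⟩ := hfin.fg_top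
  let G : Set R''[X] := insert (X : R''[X]) ((fun r => (C r : R''[X])) '' (gens : Set R''))
  have hGfin : G.Finite := (Set.Finite.image _ gens.finite_toSet).insert _
  have hGint : ∀ t ∈ G, IsIntegral R[X] t := by
    rintro t (rfl | ⟨r, -, rfl⟩)
    · refine IsIntegral.of_pow hq ?_
      have : (X : R''[X]) ^ q = algebraMap R[X] R''[X] X := by
        show _ = phi R R'' q X
        rw [phi_X]
      rw [this]
      exact isIntegral_algebraMap
    · have hr : IsIntegral R r := Algebra.IsIntegral.isIntegral r
      have : IsIntegral R (C r : R''[X]) := hr.map (CAlgHom : R'' →ₐ[R] R''[X])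
      exact this.tower_top
  have htop : Algebra.adjoin R[X] G = ⊤ := by
    rw [eq_top_iff]
    rintro t -
    induction t using Polynomial.induction_on with
    | C r =>
      have hr : r ∈ Submodule.span R (gens : Set R'') := by rw [hgens]; trivial
      induction hr using Submodule.span_induction with
      | mem x hx => exact Algebra.subset_adjoin (Or.inr ⟨x, hx, rfl⟩)
      | zero => rw [C_0]; exact Subalgebra.zero_mem _
      | add x y _ _ hx hy => rw [C_add]; exact Subalgebra.add_mem _ hx hy
      | smul a x _ hx =>
        have : (C (a • x) : R''[X]) = algebraMap R[X] R''[X] (C a) * C x := by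
          show _ = phi R R'' q (C a) * C x
          rw [phi_C, Algebra.smul_def, C_mul]
        rw [this]
        exact Subalgebra.mul_mem _ (Subalgebra.algebraMap_mem _ _) hx
    | add f g hf hg => exact Subalgebra.add_mem _ hf hg
    | monomial n r h =>
      rw [pow_succ, ← mul_assoc]
      exact Subalgebra.mul_mem _ h (Algebra.subset_adjoin (Or.inl rfl))
  have hfg := fg_adjoin_of_finite hGfin hGint
  rw [htop, Algebra.top_toSubmodule] at hfg
  exact ⟨hfg⟩

theorem pow_expChar_pow_inj (Ω : Type*) [CommRing Ω] [IsReduced Ω] (p e : ℕ) [ExpChar Ω p]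
    {x y : Ω} (h : x ^ p ^ e = y ^ p ^ e) : x = y :=
  iterateFrobenius_inj Ω p e (by rw [iterateFrobenius_def, iterateFrobenius_def]; exact h)

/-- Core finiteness lemma: if `F` is spanned over `Frac R[X]` by elements whose `p^e`-th powers are
fractions of polynomials all of whose coefficients have `p^e`-th roots in the (module-finite)
integral closure `R''` of `R` in `K'`, then the integral closure of `R[X]` in `F` is finite:
it embeds into `R''[X^{1/p^e}]`. -/
theorem poly_core (R : Type*) [CommRing R] [IsDomain R] [IsNoetherianRing R]
    (K : Type*) [Field K] [Algebra R K] [IsFractionRing R K]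
    (K' : Type*) [Field K'] [Algebra R K'] [Algebra K K'] [IsScalarTower R K K']
    [FiniteDimensional K K']
    (hfin : Module.Finite R (integralClosure R K'))
    (p : ℕ) [ExpChar R p] (e : ℕ)
    (𝕂 : Type*) [Field 𝕂] [Algebra R[X] 𝕂] [IsFractionRing R[X] 𝕂]
    (F : Type*) [Field F] [Algebra R[X] F] [Algebra 𝕂 F] [IsScalarTower R[X] 𝕂 F]
    [FiniteDimensional 𝕂 F]
    (n : ℕ) (b : Fin n → F) (hb : Submodule.span 𝕂 (Set.range b) = ⊤)
    (hroot : ∀ i, ∃ f g : R[X], g ≠ 0 ∧
      b i ^ (p ^ e) * algebraMap R[X] F g = algebraMap R[X] F f ∧
      (∃ f' : (integralClosure R K')[X], f' ^ (p ^ e) = phi R (integralClosure R K') (p ^ e) f) ∧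
      (∃ g' : (integralClosure R K')[X], g' ^ (p ^ e) = phi R (integralClosure R K') (p ^ e) g)) :
    Module.Finite R[X] (integralClosure R[X] F) := by
  have hq : 0 < p ^ e := pow_pos (expChar_pos R p) e
  haveI : IsIntegrallyClosed (integralClosure R K') :=
    integralClosure.isIntegrallyClosedOfFiniteExtension K
  have hinjRK' : Injective (algebraMap R K') := by
    rw [IsScalarTower.algebraMap_eq R K K']
    exact (algebraMap K K').injective.comp (IsFractionRing.injective R K)
  have hinjR'' : Injective (algebraMap R (integralClosure R K')) :=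
    fun a b h => hinjRK' (congrArg Subtype.val h)
  haveI : ExpChar (integralClosure R K') p := expChar_of_injective_ringHom hinjR'' p
  letI : Algebra R[X] (integralClosure R K')[X] := (phi R (integralClosure R K') (p ^ e)).toAlgebra
  haveI hTfin : Module.Finite R[X] (integralClosure R K')[X] :=
    finite_poly_of_finite R _ hfin (p ^ e) hq
  have hφinj : Injective (algebraMap R[X] (integralClosure R K')[X]) := by
    intro x y h
    apply Polynomial.map_injective _ hinjR''
    apply Polynomial.expand_injective hq
    exact h
  have hinjΩ' : Injective (algebraMap R[X] (FractionRing (integralClosure R K')[X])) := by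
    rw [IsScalarTower.algebraMap_eq R[X] (integralClosure R K')[X]
      (FractionRing (integralClosure R K')[X])]
    exact (IsFractionRing.injective (integralClosure R K')[X]
      (FractionRing (integralClosure R K')[X])).comp hφinj
  have hinjΩ'' : Injective (algebraMap R[X]
      (AlgebraicClosure (FractionRing (integralClosure R K')[X]))) := by
    rw [IsScalarTower.algebraMap_eq R[X] (FractionRing (integralClosure R K')[X])
      (AlgebraicClosure (FractionRing (integralClosure R K')[X]))]
    exact (algebraMap (FractionRing (integralClosure R K')[X])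
      (AlgebraicClosure (FractionRing (integralClosure R K')[X]))).injective.comp hinjΩ'
  letI : Algebra 𝕂 (AlgebraicClosure (FractionRing (integralClosure R K')[X])) :=
    (IsFractionRing.lift hinjΩ'').toAlgebra
  haveI : IsScalarTower R[X] 𝕂 (AlgebraicClosure (FractionRing (integralClosure R K')[X])) :=
    IsScalarTower.of_algebraMap_eq (fun x => (IsFractionRing.lift_algebraMap hinjΩ'' x).symm)
  let ι : F →ₐ[𝕂] AlgebraicClosure (FractionRing (integralClosure R K')[X]) := IsAlgClosed.lift
  let ιP : F →ₐ[R[X]] AlgebraicClosure (FractionRing (integralClosure R K')[X]) :=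
    ι.restrictScalars R[X]
  let W : Subfield (AlgebraicClosure (FractionRing (integralClosure R K')[X])) :=
    (algebraMap (FractionRing (integralClosure R K')[X])
      (AlgebraicClosure (FractionRing (integralClosure R K')[X]))).fieldRange
  have hWP : ∀ f : R[X], algebraMap R[X]
      (AlgebraicClosure (FractionRing (integralClosure R K')[X])) f ∈ W := fun f =>
    ⟨algebraMap R[X] (FractionRing (integralClosure R K')[X]) f,
      (IsScalarTower.algebraMap_apply R[X] (FractionRing (integralClosure R K')[X])
        (AlgebraicClosure (FractionRing (integralClosure R K')[X])) f).symm⟩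
  have hWT : ∀ t : (integralClosure R K')[X],
      algebraMap (FractionRing (integralClosure R K')[X])
        (AlgebraicClosure (FractionRing (integralClosure R K')[X]))
        (algebraMap (integralClosure R K')[X] (FractionRing (integralClosure R K')[X]) t) ∈ W :=
    fun t => ⟨_, rfl⟩
  have hW𝕂 : ∀ c : 𝕂, algebraMap 𝕂
      (AlgebraicClosure (FractionRing (integralClosure R K')[X])) c ∈ W := by
    intro c
    obtain ⟨f, g, hg, rfl⟩ := IsFractionRing.div_surjective (A := R[X]) c
    rw [map_div₀, ← IsScalarTower.algebraMap_apply R[X] 𝕂,
      ← IsScalarTower.algebraMap_apply R[X] 𝕂]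
    exact W.div_mem (hWP f) (hWP g)
  haveI : ExpChar (AlgebraicClosure (FractionRing (integralClosure R K')[X])) p :=
    expChar_of_injective_ringHom
      (f := (algebraMap R[X] (AlgebraicClosure (FractionRing (integralClosure R K')[X]))).comp C)
      (hinjΩ''.comp C_injective) p
  have hPΩ : ∀ x : R[X], algebraMap R[X]
      (AlgebraicClosure (FractionRing (integralClosure R K')[X])) x =
      algebraMap (FractionRing (integralClosure R K')[X])
        (AlgebraicClosure (FractionRing (integralClosure R K')[X]))
        (algebraMap (integralClosure R K')[X] (FractionRing (integralClosure R K')[X])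
          (phi R (integralClosure R K') (p ^ e) x)) := by
    intro x
    rw [IsScalarTower.algebraMap_apply R[X] (FractionRing (integralClosure R K')[X])
      (AlgebraicClosure (FractionRing (integralClosure R K')[X])),
      IsScalarTower.algebraMap_apply R[X] (integralClosure R K')[X]
        (FractionRing (integralClosure R K')[X])]
    rfl
  have hWb : ∀ i, ι (b i) ∈ W := by
    intro i
    obtain ⟨f, g, hg, hfg, ⟨f', hf'⟩, ⟨g', hg'⟩⟩ := hroot i
    have h1 := congrArg ιP hfg
    rw [map_mul, map_pow, AlgHom.commutes, AlgHom.commutes, hPΩ f, hPΩ g, ← hf', ← hg',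
      map_pow, map_pow, map_pow, map_pow, ← mul_pow] at h1
    have h2 := pow_expChar_pow_inj (AlgebraicClosure (FractionRing (integralClosure R K')[X]))
      p e h1
    have hg'0 : g' ≠ 0 := by
      rintro rfl
      rw [zero_pow hq.ne'] at hg'
      apply hg
      apply hφinj
      rw [map_zero]
      exact hg'.symm
    have hjg' : algebraMap (FractionRing (integralClosure R K')[X])
        (AlgebraicClosure (FractionRing (integralClosure R K')[X]))
        (algebraMap (integralClosure R K')[X] (FractionRing (integralClosure R K')[X]) g') ≠ 0 := by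
      rw [Ne, map_eq_zero, map_eq_zero_iff _ (IsFractionRing.injective _ _)]
      exact hg'0
    have h3 : ι (b i) = algebraMap (FractionRing (integralClosure R K')[X])
        (AlgebraicClosure (FractionRing (integralClosure R K')[X]))
        (algebraMap (integralClosure R K')[X] (FractionRing (integralClosure R K')[X]) f') /
        algebraMap (FractionRing (integralClosure R K')[X])
        (AlgebraicClosure (FractionRing (integralClosure R K')[X]))
        (algebraMap (integralClosure R K')[X] (FractionRing (integralClosure R K')[X]) g') := by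
      rw [eq_div_iff hjg']
      exact h2
    rw [h3]
    exact W.div_mem (hWT f') (hWT g')
  have hWall : ∀ a : F, ι a ∈ W := by
    intro a
    have ha : a ∈ Submodule.span 𝕂 (Set.range b) := by rw [hb]; trivial
    induction ha using Submodule.span_induction with
    | mem x hx =>
      obtain ⟨i, rfl⟩ := hx
      exact hWb i
    | zero => rw [map_zero]; exact W.zero_mem
    | add x y _ _ hx hy => rw [map_add]; exact W.add_mem hx hy
    | smul c x _ hx =>
      rw [Algebra.smul_def, map_mul, AlgHom.commutes]
      exact W.mul_mem (hW𝕂 c) hx
  haveI : IsNoetherian R[X] (integralClosure R K')[X] :=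
    isNoetherian_of_isNoetherianRing_of_finite R[X] _
  let ψ : (integralClosure R K')[X] →ₗ[R[X]]
      AlgebraicClosure (FractionRing (integralClosure R K')[X]) :=
    ((IsScalarTower.toAlgHom R[X] (FractionRing (integralClosure R K')[X])
      (AlgebraicClosure (FractionRing (integralClosure R K')[X]))).comp
      (IsScalarTower.toAlgHom R[X] (integralClosure R K')[X]
        (FractionRing (integralClosure R K')[X]))).toLinearMap
  have hψ : Injective ψ :=
    (algebraMap (FractionRing (integralClosure R K')[X])
      (AlgebraicClosure (FractionRing (integralClosure R K')[X]))).injective.comp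
      (IsFractionRing.injective (integralClosure R K')[X] (FractionRing (integralClosure R K')[X]))
  haveI : IsNoetherian R[X] (LinearMap.range ψ) :=
    isNoetherian_of_linearEquiv (LinearEquiv.ofInjective ψ hψ)
  have hmem : ∀ c : integralClosure R[X] F, ιP c.1 ∈ LinearMap.range ψ := by
    intro c
    obtain ⟨ω, hω⟩ := hWall c.1
    have hint : IsIntegral R[X] (ιP c.1) := c.2.map ιP
    have hj : Injective (IsScalarTower.toAlgHom R[X]
        (FractionRing (integralClosure R K')[X])
        (AlgebraicClosure (FractionRing (integralClosure R K')[X]))) :=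
      (algebraMap (FractionRing (integralClosure R K')[X])
        (AlgebraicClosure (FractionRing (integralClosure R K')[X]))).injective
    have hint' : IsIntegral R[X] ω := by
      rw [← isIntegral_algHom_iff (IsScalarTower.toAlgHom R[X]
        (FractionRing (integralClosure R K')[X])
        (AlgebraicClosure (FractionRing (integralClosure R K')[X]))) hj]
      show IsIntegral R[X] (algebraMap (FractionRing (integralClosure R K')[X])
        (AlgebraicClosure (FractionRing (integralClosure R K')[X])) ω)
      rw [hω]
      exact hint
    obtain ⟨t, ht⟩ := IsIntegrallyClosed.algebraMap_eq_of_integral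
      (R := (integralClosure R K')[X]) (K := FractionRing (integralClosure R K')[X])
      hint'.tower_top
    refine ⟨t, ?_⟩
    show algebraMap (FractionRing (integralClosure R K')[X])
      (AlgebraicClosure (FractionRing (integralClosure R K')[X]))
      (algebraMap (integralClosure R K')[X] (FractionRing (integralClosure R K')[X]) t) = _
    rw [ht, hω]
    rfl
  let κ : integralClosure R[X] F →ₗ[R[X]] LinearMap.range ψ :=
    LinearMap.codRestrict (LinearMap.range ψ)
      (ιP.toLinearMap.comp (integralClosure R[X] F).val.toLinearMap) hmem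
  refine Module.Finite.of_injective κ ?_
  intro x y hxy
  have h1 : ((κ x : LinearMap.range ψ) : AlgebraicClosure (FractionRing (integralClosure R K')[X]))
      = (κ y : _) := by rw [hxy]
  have h2 : ι x.1 = ι y.1 := h1
  exact Subtype.ext (ι.toRingHom.injective h2)

/-- N-1 passes to the polynomial ring (Noetherian domains). -/
theorem isN1_polynomial (R : Type*) [CommRing R] [IsDomain R] [IsNoetherianRing R]
    (h : Module.Finite R (integralClosure R (FractionRing R))) :
    Module.Finite R[X] (integralClosure R[X] (FractionRing R[X])) := by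
  refine poly_core R (FractionRing R) (FractionRing R) h (ringExpChar R) 0 (FractionRing R[X])
    (FractionRing R[X]) 1 (fun _ => 1) ?_ ?_
  · have : Set.range (fun _ : Fin 1 => (1 : FractionRing R[X])) = {1} := by
      ext x
      simp [eq_comm]
    rw [this]
    exact Ideal.span_singleton_one
  · intro i
    refine ⟨1, 1, one_ne_zero, by simp, ⟨1, by simp⟩, ⟨1, by simp⟩⟩

/-- N-2 passes to the polynomial ring (Noetherian domains). -/
theorem isN2_polynomial (R : Type u) [CommRing R] [IsDomain R] [IsNoetherianRing R]
    (hR : ∀ (L : Type u) [Field L] [Algebra R L] [Algebra (FractionRing R) L]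
      [IsScalarTower R (FractionRing R) L], FiniteDimensional (FractionRing R) L →
      Module.Finite R (integralClosure R L))
    (L : Type u) [Field L] [Algebra R[X] L] [Algebra (FractionRing R[X]) L]
    [IsScalarTower R[X] (FractionRing R[X]) L] [FiniteDimensional (FractionRing R[X]) L] :
    Module.Finite R[X] (integralClosure R[X] L) := by
  classical
  refine finite_integralClosure_of_purelyInseparable R[X] (FractionRing R[X]) ?_ L
  intro F _ _ _ _ hFfin hFpi
  set p := ringExpChar R with hp
  have hinjP : Injective (algebraMap R[X] (FractionRing R[X])) :=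
    IsFractionRing.injective R[X] (FractionRing R[X])
  haveI : ExpChar (FractionRing R[X]) p :=
    expChar_of_injective_ringHom (f := (algebraMap R[X] (FractionRing R[X])).comp C)
      (hinjP.comp C_injective) p
  let b := Module.finBasis (FractionRing R[X]) F
  -- a common exponent
  have hexp : ∀ i, ∃ m : ℕ, b i ^ p ^ m ∈ (algebraMap (FractionRing R[X]) F).range :=
    fun i => IsPurelyInseparable.pow_mem (FractionRing R[X]) p (b i)
  choose m hm using hexp
  let e := Finset.univ.sup m
  have hq : 0 < p ^ e := pow_pos (expChar_pos R p) e
  have hpow : ∀ i, b i ^ p ^ e ∈ (algebraMap (FractionRing R[X]) F).range := by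
    intro i
    have hle : m i ≤ e := Finset.le_sup (f := m) (Finset.mem_univ i)
    have : b i ^ p ^ e = (b i ^ p ^ m i) ^ p ^ (e - m i) := by
      rw [← pow_mul, ← pow_add, Nat.add_sub_cancel' hle]
    rw [this]
    exact Subring.pow_mem _ (hm i) _
  choose c hc using hpow
  have hfrac : ∀ i, ∃ f g : R[X], g ≠ 0 ∧
      b i ^ (p ^ e) * algebraMap R[X] F g = algebraMap R[X] F f := by
    intro i
    obtain ⟨f, g, hg, hfg⟩ := IsFractionRing.div_surjective (A := R[X]) (c i)
    have hg0 : g ≠ 0 := nonZeroDivisors.ne_zero hg
    have hgK : algebraMap R[X] (FractionRing R[X]) g ≠ 0 := by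
      rw [Ne, map_eq_zero_iff _ hinjP]
      exact hg0
    refine ⟨f, g, hg0, ?_⟩
    rw [← hc i, ← hfg, IsScalarTower.algebraMap_apply R[X] (FractionRing R[X]) F g,
      IsScalarTower.algebraMap_apply R[X] (FractionRing R[X]) F f, ← map_mul,
      div_mul_cancel₀ _ hgK]
  choose f g hg hfg using hfrac
  -- the finite set of coefficients and their roots
  let S : Finset R := Finset.univ.biUnion (fun i => (f i).coeffs ∪ (g i).coeffs)
  have hrootex : ∀ a : R, ∃ z : AlgebraicClosure (FractionRing R),
      z ^ (p ^ e) = algebraMap R (AlgebraicClosure (FractionRing R)) a :=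
    fun a => IsAlgClosed.exists_pow_nat_eq _ hq
  choose root hroot using hrootex
  haveI : Finite ↑(root '' (S : Set R)) := (S.finite_toSet.image root).to_subtype
  have hrootint : ∀ a : R, IsIntegral (FractionRing R) (root a) := by
    intro a
    refine IsIntegral.of_pow hq ?_
    rw [hroot a, IsScalarTower.algebraMap_apply R (FractionRing R)
      (AlgebraicClosure (FractionRing R))]
    exact isIntegral_algebraMap
  let K' : IntermediateField (FractionRing R) (AlgebraicClosure (FractionRing R)) :=
    IntermediateField.adjoin (FractionRing R) (root '' (S : Set R))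
  haveI : FiniteDimensional (FractionRing R) K' :=
    IntermediateField.finiteDimensional_adjoin (fun x hx => by
      obtain ⟨a, -, rfl⟩ := hx
      exact hrootint a)
  have hfinR'' : Module.Finite R (integralClosure R K') := hR K' inferInstance
  have hinjRK' : Injective (algebraMap R K') := by
    rw [IsScalarTower.algebraMap_eq R (FractionRing R) K']
    exact (algebraMap (FractionRing R) K').injective.comp
      (IsFractionRing.injective R (FractionRing R))
  have hinjR'' : Injective (algebraMap R (integralClosure R K')) :=
    fun a b h => hinjRK' (congrArg Subtype.val h)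
  haveI : ExpChar (integralClosure R K') p := expChar_of_injective_ringHom hinjR'' p
  -- roots of the coefficients in `S` inside the integral closure
  have hρS : ∀ a ∈ S, ∃ ρ : integralClosure R K', ρ ^ (p ^ e) = algebraMap R _ a := by
    intro a ha
    have hmem : root a ∈ K' :=
      IntermediateField.subset_adjoin _ _ ⟨a, ha, rfl⟩
    have hpowK' : (⟨root a, hmem⟩ : K') ^ (p ^ e) = algebraMap R K' a := by
      apply Subtype.ext
      show root a ^ (p ^ e) = _
      rw [hroot a]
      rfl
    have hint : IsIntegral R (⟨root a, hmem⟩ : K') := by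
      refine IsIntegral.of_pow hq ?_
      rw [hpowK']
      exact isIntegral_algebraMap
    refine ⟨⟨⟨root a, hmem⟩, hint⟩, ?_⟩
    apply Subtype.ext
    show (⟨root a, hmem⟩ : K') ^ (p ^ e) = _
    rw [hpowK']
    rfl
  have hρ : ∀ (h : R[X]), h.coeffs ⊆ S → ∀ j, ∃ ρ : integralClosure R K',
      ρ ^ (p ^ e) = algebraMap R _ (h.coeff j) := by
    intro h hS j
    by_cases hj : h.coeff j = 0
    · exact ⟨0, by rw [hj, map_zero, zero_pow hq.ne']⟩
    · exact hρS _ (hS (Polynomial.coeff_mem_coeffs hj))
  have hfS : ∀ i, (f i).coeffs ⊆ S := fun i a ha =>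
    Finset.mem_biUnion.2 ⟨i, Finset.mem_univ i, Finset.mem_union_left _ ha⟩
  have hgS : ∀ i, (g i).coeffs ⊆ S := fun i a ha =>
    Finset.mem_biUnion.2 ⟨i, Finset.mem_univ i, Finset.mem_union_right _ ha⟩
  refine poly_core R (FractionRing R) K' hfinR'' p e (FractionRing R[X]) F _ b
    (Module.Basis.span_eq b) ?_
  intro i
  exact ⟨f i, g i, hg i, hfg i, exists_root_phi R _ p e (f i) (hρ _ (hfS i)),
    exists_root_phi R _ p e (g i) (hρ _ (hgS i))⟩

end Groth.Agent.Lib.Helper12.N2
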