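import Mathlib
import Groth.Agent.Lib.Helper12.N2Poly

/-! Finitely generated domains over a field are Japanese (N-2). -/

set_option autoImplicit false

namespace Groth.Agent.Lib.Helper12.N2

open Function Polynomial
open scoped Pointwise

universe u

/-- `L` is "finite over the fraction field of `R`", stated without fraction fields. -/
def FinGen (R L : Type*) [CommRing R] [Field L] [Algebra R L] : Prop :=
  ∃ s : Finset L, ∀ x : L, ∃ a : R, a ≠ 0 ∧ a • x ∈ Submodule.span R (s : Set L)

/-- Fraction-field-free form of N-2. -/
def N2' (R : Type u) [CommRing R] : Prop :=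
  ∀ (L : Type u) [Field L] [Algebra R L], Injective (algebraMap R L) → FinGen R L →
    Module.Finite R (integralClosure R L)

theorem finGen_of_finiteDimensional (R K L : Type*) [CommRing R] [IsDomain R] [Field K]
    [Algebra R K] [IsFractionRing R K] [Field L] [Algebra R L] [Algebra K L] [IsScalarTower R K L]
    [FiniteDimensional K L] : FinGen R L := by
  classical
  let b := Module.finBasis K L
  refine ⟨Finset.univ.image b, fun x => ?_⟩
  obtain ⟨d, hd⟩ := IsLocalization.exist_integer_multiples_of_finset (nonZeroDivisors R)
    (Finset.univ.image (fun i => b.repr x i))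
  choose r hr using fun i => hd (b.repr x i)
    (Finset.mem_image_of_mem (fun i => b.repr x i) (Finset.mem_univ i))
  refine ⟨d, nonZeroDivisors.coe_ne_zero d, ?_⟩
  have hx : (d : R) • x = ∑ i, r i • b i := by
    conv_lhs => rw [← b.sum_repr x, Finset.smul_sum]
    refine Finset.sum_congr rfl fun i _ => ?_
    rw [← smul_assoc, ← hr i, algebraMap_smul]
  rw [hx]
  refine Submodule.sum_mem _ fun i _ => Submodule.smul_mem _ _ (Submodule.subset_span ?_)
  exact Finset.mem_coe.2 (Finset.mem_image_of_mem b (Finset.mem_univ i))

theorem finiteDimensional_of_finGen (R K L : Type*) [CommRing R] [IsDomain R] [Field K]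
    [Algebra R K] [IsFractionRing R K] [Field L] [Algebra R L] [Algebra K L] [IsScalarTower R K L]
    (h : FinGen R L) : FiniteDimensional K L := by
  obtain ⟨s, hs⟩ := h
  refine ⟨⟨s, ?_⟩⟩
  rw [eq_top_iff]
  rintro x -
  obtain ⟨a, ha, hax⟩ := hs x
  have haK : algebraMap R K a ≠ 0 := by
    rw [Ne, map_eq_zero_iff _ (IsFractionRing.injective R K)]
    exact ha
  have h1 : a • x ∈ Submodule.span K (s : Set L) :=
    Submodule.span_le_restrictScalars R K (s : Set L) hax
  have h2 : x = (algebraMap R K a)⁻¹ • (a • x) := by
    rw [← algebraMap_smul K a x, smul_smul, inv_mul_cancel₀ haK, one_smul]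
  rw [h2]
  exact Submodule.smul_mem _ _ h1

theorem N2'_of_isN2 (R : Type u) [CommRing R] [IsDomain R]
    (hR : ∀ (L : Type u) [Field L] [Algebra R L] [Algebra (FractionRing R) L]
      [IsScalarTower R (FractionRing R) L], FiniteDimensional (FractionRing R) L →
      Module.Finite R (integralClosure R L)) : N2' R := by
  intro L _ _ hinj hfg
  letI : Algebra (FractionRing R) L := (IsFractionRing.lift hinj).toAlgebra
  haveI : IsScalarTower R (FractionRing R) L :=
    IsScalarTower.of_algebraMap_eq (fun x => (IsFractionRing.lift_algebraMap hinj x).symm)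
  exact hR L (finiteDimensional_of_finGen R (FractionRing R) L hfg)

theorem isN2_of_N2' (R : Type u) [CommRing R] [IsDomain R] (hR : N2' R)
    (L : Type u) [Field L] [Algebra R L] [Algebra (FractionRing R) L]
    [IsScalarTower R (FractionRing R) L] [FiniteDimensional (FractionRing R) L] :
    Module.Finite R (integralClosure R L) := by
  refine hR L ?_ (finGen_of_finiteDimensional R (FractionRing R) L)
  rw [IsScalarTower.algebraMap_eq R (FractionRing R) L]
  exact (algebraMap (FractionRing R) L).injective.comp
    (IsFractionRing.injective R (FractionRing R))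

theorem N2'_field (k : Type u) [Field k] : N2' k := by
  intro L _ _ hinj hfg
  haveI : FiniteDimensional k L := finiteDimensional_of_finGen k k L hfg
  exact Module.Finite.of_injective (integralClosure k L).val.toLinearMap Subtype.val_injective

theorem N2'_of_ringEquiv {R R' : Type u} [CommRing R] [CommRing R'] (e : R ≃+* R')
    (hR : N2' R) : N2' R' := by
  intro L _ _ hinj' hfg'
  letI : Algebra R R' := e.toRingHom.toAlgebra
  letI : Algebra R L := ((algebraMap R' L).comp e.toRingHom).toAlgebra
  haveI : IsScalarTower R R' L := IsScalarTower.of_algebraMap_eq (fun _ => rfl)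
  have hinj : Injective (algebraMap R L) := hinj'.comp e.injective
  have hsmul : ∀ (r' : R') (y : L), r' • y = (e.symm r') • y := by
    intro r' y
    rw [Algebra.smul_def, Algebra.smul_def]
    show _ = algebraMap R' L (e (e.symm r')) * y
    rw [e.apply_symm_apply]
  have hspan : ∀ (s : Finset L) (z : L), z ∈ Submodule.span R' (s : Set L) →
      z ∈ Submodule.span R (s : Set L) := by
    intro s z hz
    induction hz using Submodule.span_induction with
    | mem y hy => exact Submodule.subset_span hy
    | zero => exact Submodule.zero_mem _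
    | add y z _ _ hy hz => exact Submodule.add_mem _ hy hz
    | smul r' y _ hy => rw [hsmul]; exact Submodule.smul_mem _ _ hy
  have hfg : FinGen R L := by
    obtain ⟨s, hs⟩ := hfg'
    refine ⟨s, fun x => ?_⟩
    obtain ⟨a', ha', hax⟩ := hs x
    refine ⟨e.symm a', fun h => ha' ?_, ?_⟩
    · rw [← e.apply_symm_apply a', h, map_zero]
    · rw [← hsmul]
      exact hspan s _ hax
  haveI := hR L hinj hfg
  haveI : Algebra.IsIntegral R R' :=
    Algebra.IsIntegral.of_surjective (Algebra.ofId R R') e.surjective
  haveI : RingHomSurjective (e : R →+* R') := ⟨e.surjective⟩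
  let f : integralClosure R L →ₛₗ[(e : R →+* R')] integralClosure R' L :=
    { toFun := fun x => ⟨x.1, x.2.tower_top⟩
      map_add' := fun _ _ => rfl
      map_smul' := fun r x => Subtype.ext (by
        show r • x.1 = (e r) • x.1
        rw [Algebra.smul_def, Algebra.smul_def]
        rfl) }
  refine Module.Finite.of_surjective f ?_
  intro y
  exact ⟨⟨y.1, isIntegral_trans (R := R) (A := R') y.1 y.2⟩, rfl⟩

theorem N2'_of_finite_injective (P A : Type u) [CommRing P] [IsDomain P] [CommRing A] [IsDomain A]
    [Algebra P A] [Module.Finite P A] (hinjPA : Injective (algebraMap P A)) (hP : N2' P) :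
    N2' A := by
  classical
  intro L _ _ hinjA hfgA
  letI : Algebra P L := ((algebraMap A L).comp (algebraMap P A)).toAlgebra
  haveI : IsScalarTower P A L := IsScalarTower.of_algebraMap_eq (fun _ => rfl)
  haveI : Algebra.IsIntegral P A := Algebra.IsIntegral.of_finite P A
  have hinjP : Injective (algebraMap P L) := hinjA.comp hinjPA
  have hfgP : FinGen P L := by
    obtain ⟨s, hs⟩ := hfgA
    obtain ⟨t, ht⟩ := (inferInstance : Module.Finite P A).fg_top
    have hfin : ((t : Set A) • (s : Set L)).Finite := Set.Finite.smul t.finite_toSet s.finite_toSet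
    refine ⟨hfin.toFinset, fun x => ?_⟩
    obtain ⟨a, ha, hax⟩ := hs x
    obtain ⟨a', ha', u, hu⟩ := (Algebra.IsAlgebraic.isAlgebraic (R := P) a).exists_nonzero_dvd
      (mem_nonZeroDivisors_of_ne_zero ha)
    refine ⟨a', ha', ?_⟩
    rw [Set.Finite.coe_toFinset, Submodule.span_smul_of_span_eq_top ht]
    show a' • x ∈ Submodule.span A (s : Set L)
    have : a' • x = u • (a • x) := by
      rw [← algebraMap_smul A a' x, hu, mul_comm, mul_smul]
    rw [this]
    exact Submodule.smul_mem _ _ hax
  haveI := hP L hinjP hfgP
  let f : integralClosure P L →ₗ[P] integralClosure A L :=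
    { toFun := fun x => ⟨x.1, x.2.tower_top⟩
      map_add' := fun _ _ => rfl
      map_smul' := fun _ _ => rfl }
  haveI : Module.Finite P (integralClosure A L) := by
    refine Module.Finite.of_surjective f ?_
    intro y
    exact ⟨⟨y.1, isIntegral_trans (R := P) (A := A) y.1 y.2⟩, rfl⟩
  exact Module.Finite.of_restrictScalars_finite P A (integralClosure A L)

theorem N2'_polynomial (R : Type u) [CommRing R] [IsDomain R] [IsNoetherianRing R]
    (hR : N2' R) : N2' R[X] := by
  refine N2'_of_isN2 R[X] ?_
  intro L _ _ _ _ hfd
  exact isN2_polynomial R (fun L' _ _ _ _ hfd' => isN2_of_N2' R hR L') L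

theorem N2'_mvPolynomial (k : Type u) [Field k] (n : ℕ) : N2' (MvPolynomial (Fin n) k) := by
  induction n with
  | zero => exact N2'_of_ringEquiv (MvPolynomial.isEmptyRingEquiv k (Fin 0)).symm (N2'_field k)
  | succ n ih =>
    exact N2'_of_ringEquiv (MvPolynomial.finSuccEquiv k n).toRingEquiv.symm
      (N2'_polynomial _ ih)

/-- A domain of finite type over a field is N-2 (Japanese). -/
theorem N2'_of_finiteType (k A : Type u) [Field k] [CommRing A] [IsDomain A] [Algebra k A]
    [Algebra.FiniteType k A] : N2' A := by
  obtain ⟨s, g, hg, hfin⟩ := exists_finite_inj_algHom_of_fg k A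
  letI : Algebra (MvPolynomial (Fin s) k) A := g.toRingHom.toAlgebra
  haveI : Module.Finite (MvPolynomial (Fin s) k) A := hfin
  exact N2'_of_finite_injective (MvPolynomial (Fin s) k) A hg (N2'_mvPolynomial k s)

theorem isN2_of_finiteType (k A : Type u) [Field k] [CommRing A] [IsDomain A] [Algebra k A]
    [Algebra.FiniteType k A] (L : Type u) [Field L] [Algebra A L] [Algebra (FractionRing A) L]
    [IsScalarTower A (FractionRing A) L] [FiniteDimensional (FractionRing A) L] :
    Module.Finite A (integralClosure A L) :=
  isN2_of_N2' A (N2'_of_finiteType k A) L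

end Groth.Agent.Lib.Helper12.N2
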