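import Mathlib

/-! Krull–Akizuki (degree one case): a ring between a one-dimensional Noetherian domain and its
fraction field is Noetherian; valuation rings in between are discrete. -/

set_option autoImplicit false

namespace Groth.Agent.Lib.Helper12.KA

variable {A : Type*} [CommRing A] [IsDomain A]

theorem length_quotient_ne_top [IsNoetherianRing A] [Ring.KrullDimLE 1 A] {I : Ideal A}
    (hI : I ≠ ⊥) : Module.length A (A ⧸ I) ≠ ⊤ := by
  haveI : Ring.KrullDimLE 0 (A ⧸ I) := by
    rw [Ring.krullDimLE_zero_iff]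
    intro P hP
    have hcomap : (P.comap (Ideal.Quotient.mk I)).IsPrime := hP.comap _
    have hne : P.comap (Ideal.Quotient.mk I) ≠ ⊥ := by
      intro h
      apply hI
      rw [eq_bot_iff, ← h]
      intro x hx
      rw [Ideal.mem_comap, Ideal.Quotient.eq_zero_iff_mem.2 hx]
      exact P.zero_mem
    have hmax : (P.comap (Ideal.Quotient.mk I)).IsMaximal :=
      Ring.krullDimLE_one_iff_of_noZeroDivisors.1 inferInstance _ hne hcomap
    have hP' : (P.comap (Ideal.Quotient.mk I)).map (Ideal.Quotient.mk I) = P :=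
      Ideal.map_comap_of_surjective _ Ideal.Quotient.mk_surjective P
    rcases Ideal.map_eq_top_or_isMaximal_of_surjective (Ideal.Quotient.mk I)
      Ideal.Quotient.mk_surjective hmax with h | h
    · rw [hP'] at h; exact absurd h hP.ne_top
    · rwa [hP'] at h
  haveI : IsArtinianRing (A ⧸ I) := isArtinianRing_iff_krullDimLE_zero.2 inferInstance
  rw [Module.length_eq_of_surjective (R := A ⧸ I) (S := A) (M := A ⧸ I)
    (Ideal.Quotient.mk_surjective (I := I))]
  exact Module.length_ne_top

theorem length_quotient_span_mul (a : A) (ha : a ≠ 0) (I : Ideal A) :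
    Module.length A (A ⧸ (Ideal.span {a} * I)) =
      Module.length A (A ⧸ I) + Module.length A (A ⧸ Ideal.span {a}) := by
  have h1 : I ≤ Submodule.comap (LinearMap.mulLeft A a) (Ideal.span {a} * I) := by
    intro x hx
    exact Submodule.mem_comap.2 (Ideal.mul_mem_mul (Ideal.mem_span_singleton_self a) hx)
  have h2 : Ideal.span {a} * I ≤ Submodule.comap (LinearMap.id : A →ₗ[A] A) (Ideal.span {a}) := by
    intro x hx
    obtain ⟨z, -, rfl⟩ := Ideal.mem_span_singleton_mul.1 hx
    exact Submodule.mem_comap.2 (Ideal.mul_mem_right z _ (Ideal.mem_span_singleton_self a))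
  let f : (A ⧸ I) →ₗ[A] (A ⧸ (Ideal.span {a} * I)) :=
    Submodule.mapQ I (Ideal.span {a} * I) (LinearMap.mulLeft A a) h1
  let g : (A ⧸ (Ideal.span {a} * I)) →ₗ[A] (A ⧸ Ideal.span {a}) :=
    Submodule.mapQ _ _ LinearMap.id h2
  refine Module.length_eq_add_of_exact f g ?_ ?_ ?_
  · rw [← LinearMap.ker_eq_bot, LinearMap.ker_eq_bot']
    intro y hy
    obtain ⟨x, rfl⟩ := Submodule.mkQ_surjective I y
    have hmem : a * x ∈ Ideal.span {a} * I := by
      have := hy
      rwa [Submodule.mkQ_apply, Submodule.mapQ_apply, Submodule.Quotient.mk_eq_zero] at this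
    obtain ⟨z, hz, hz'⟩ := Ideal.mem_span_singleton_mul.1 hmem
    have : x = z := (mul_left_cancel₀ ha hz').symm
    rw [this]
    exact (Submodule.Quotient.mk_eq_zero I).2 hz
  · intro y
    obtain ⟨x, rfl⟩ := Submodule.mkQ_surjective _ y
    exact ⟨Submodule.mkQ _ x, rfl⟩
  · intro y
    obtain ⟨z, rfl⟩ := Submodule.mkQ_surjective _ y
    constructor
    · intro h
      have hz : z ∈ Ideal.span {a} := by
        have := h
        rwa [Submodule.mkQ_apply, Submodule.mapQ_apply, Submodule.Quotient.mk_eq_zero] at this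
      obtain ⟨x, rfl⟩ := Ideal.mem_span_singleton'.1 hz
      refine ⟨Submodule.mkQ I x, ?_⟩
      show Submodule.mapQ I (Ideal.span {a} * I) (LinearMap.mulLeft A a) h1 (Submodule.mkQ I x) = _
      rw [Submodule.mkQ_apply, Submodule.mapQ_apply, Submodule.mkQ_apply]
      congr 1
      exact mul_comm a x
    · rintro ⟨w, hw⟩
      obtain ⟨x, rfl⟩ := Submodule.mkQ_surjective I w
      rw [← hw]
      show Submodule.mapQ _ _ LinearMap.id h2
        (Submodule.mapQ I (Ideal.span {a} * I) (LinearMap.mulLeft A a) h1 (Submodule.mkQ I x)) = 0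
      rw [Submodule.mkQ_apply, Submodule.mapQ_apply, Submodule.mapQ_apply,
        Submodule.Quotient.mk_eq_zero]
      exact Ideal.mul_mem_right x _ (Ideal.mem_span_singleton_self a)

theorem coheight_add_le_of_chain {α : Type*} [Preorder α] (I : ℕ → α) (n : ℕ)
    (h : ∀ i < n, I (i + 1) < I i) :
    Order.coheight (I 0) + n ≤ Order.coheight (I n) := by
  induction n with
  | zero => simp
  | succ n ih =>
    have h1 := ih (fun i hi => h i (Nat.lt_succ_of_lt hi))
    have h2 : Order.coheight (I n) + 1 ≤ Order.coheight (I (n + 1)) :=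
      Order.coheight_add_one_le (h n (Nat.lt_succ_self n))
    calc Order.coheight (I 0) + ((n + 1 : ℕ) : ℕ∞)
        = Order.coheight (I 0) + n + 1 := by push_cast; rw [add_assoc]
      _ ≤ Order.coheight (I n) + 1 := by gcongr
      _ ≤ _ := h2

theorem chain_le_length [IsNoetherianRing A] [Ring.KrullDimLE 1 A] (a : A) (ha : a ≠ 0)
    (I : ℕ → Ideal A) (n : ℕ) (h : ∀ i < n, I (i + 1) < I i) (h0 : I 0 ≠ ⊥)
    (hn : Ideal.span {a} * I 0 ≤ I n) :
    (n : ℕ∞) ≤ Module.length A (A ⧸ Ideal.span {a}) := by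
  have h1 := coheight_add_le_of_chain I n h
  rw [← Module.length_quotient, ← Module.length_quotient] at h1
  have h2 : Module.length A (A ⧸ I n) ≤ Module.length A (A ⧸ (Ideal.span {a} * I 0)) := by
    rw [Module.length_quotient, Module.length_quotient]
    exact Order.coheight_anti hn
  rw [length_quotient_span_mul a ha (I 0)] at h2
  have h3 := h1.trans h2
  exact (WithTop.add_le_add_iff_left (length_quotient_ne_top h0)).1 h3

theorem chain_submodule_le_length [IsNoetherianRing A] [Ring.KrullDimLE 1 A]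
    {K : Type*} [Field K] [Algebra A K] [IsFractionRing A K]
    (a : A) (ha : a ≠ 0) (J : ℕ → Submodule A K) (n : ℕ) (h : ∀ i < n, J (i + 1) < J i)
    (hn : ∀ x ∈ J 0, a • x ∈ J n) :
    (n : ℕ∞) ≤ Module.length A (A ⧸ Ideal.span {a}) := by
  classical
  rcases Nat.eq_zero_or_pos n with rfl | hpos
  · simp
  have hx : ∀ i, i < n → ∃ x ∈ J i, x ∉ J (i + 1) := fun i hi => SetLike.exists_of_lt (h i hi)
  let x : ℕ → K := fun i => if hi : i < n then (hx i hi).choose else 0
  have hx1 : ∀ i (hi : i < n), x i ∈ J i ∧ x i ∉ J (i + 1) := by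
    intro i hi
    simp only [x, dif_pos hi]
    exact (hx i hi).choose_spec
  obtain ⟨d, hd⟩ := IsLocalization.exist_integer_multiples_of_finset (nonZeroDivisors A)
    ((Finset.range n).image x)
  have hd0 : (d : A) ≠ 0 := nonZeroDivisors.coe_ne_zero d
  have hdK : algebraMap A K d ≠ 0 := by
    rw [Ne, map_eq_zero_iff _ (IsFractionRing.injective A K)]
    exact hd0
  let φ : A →ₗ[A] K := (algebraMap A K d)⁻¹ • Algebra.linearMap A K
  have hφ : ∀ r, φ r = (algebraMap A K d)⁻¹ * algebraMap A K r := fun r => by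
    simp [φ]
  let I : ℕ → Ideal A := fun i => (J i).comap φ
  have hI : ∀ i < n, I (i + 1) < I i := by
    intro i hi
    obtain ⟨r, hr⟩ := hd (x i) (Finset.mem_image_of_mem x (Finset.mem_range.2 hi))
    have hφr : φ r = x i := by
      rw [hφ, hr, Algebra.smul_def, ← mul_assoc, inv_mul_cancel₀ hdK, one_mul]
    refine SetLike.lt_iff_le_and_exists.2 ⟨Submodule.comap_mono (h i hi).le, r, ?_, ?_⟩
    · show φ r ∈ J i
      rw [hφr]; exact (hx1 i hi).1
    · show ¬ φ r ∈ J (i + 1)
      rw [hφr]; exact (hx1 i hi).2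
  have hI0 : I 0 ≠ ⊥ := by
    intro hbot
    have := hI 0 hpos
    rw [hbot] at this
    exact not_lt_bot this
  have hIn : Ideal.span {a} * I 0 ≤ I n := by
    rw [Ideal.span_singleton_mul_le_iff]
    intro z hz
    show φ (a * z) ∈ J n
    have : φ (a * z) = a • φ z := by rw [← smul_eq_mul, map_smul]
    rw [this]
    exact hn _ hz
  exact chain_le_length a ha I n hI hI0 hIn

/-- The `A`-submodule of `K` underlying an ideal of an intermediate ring. -/
def toSub {K : Type*} [Field K] [Algebra A K] (O : Subring K)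
    (hO : ∀ r : A, algebraMap A K r ∈ O) (P : Ideal O) : Submodule A K where
  carrier := {z | ∃ w : O, w ∈ P ∧ (w : K) = z}
  add_mem' := by
    rintro _ _ ⟨w, hw, rfl⟩ ⟨w', hw', rfl⟩
    exact ⟨w + w', P.add_mem hw hw', rfl⟩
  zero_mem' := ⟨0, P.zero_mem, rfl⟩
  smul_mem' := by
    rintro r _ ⟨w, hw, rfl⟩
    exact ⟨⟨algebraMap A K r, hO r⟩ * w, P.mul_mem_left _ hw, by rw [Algebra.smul_def]; rfl⟩

theorem mem_toSub {K : Type*} [Field K] [Algebra A K] (O : Subring K)
    (hO : ∀ r : A, algebraMap A K r ∈ O) (P : Ideal O) (z : K) :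
    z ∈ toSub O hO P ↔ ∃ w : O, w ∈ P ∧ (w : K) = z := Iff.rfl

theorem toSub_strictMono {K : Type*} [Field K] [Algebra A K] (O : Subring K)
    (hO : ∀ r : A, algebraMap A K r ∈ O) : StrictMono (toSub O hO) := by
  intro P P' hPP'
  obtain ⟨w, hw, hw'⟩ := SetLike.exists_of_lt hPP'
  refine SetLike.lt_iff_le_and_exists.2 ⟨?_, (w : K), (mem_toSub O hO P' _).2 ⟨w, hw, rfl⟩, ?_⟩
  · intro z hz
    obtain ⟨v, hv, rfl⟩ := (mem_toSub O hO P z).1 hz
    exact (mem_toSub O hO P' _).2 ⟨v, hPP'.le hv, rfl⟩
  · intro hmem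
    obtain ⟨v, hv, hvw⟩ := (mem_toSub O hO P _).1 hmem
    have : v = w := Subtype.ext hvw
    exact hw' (this ▸ hv)

/-- Krull–Akizuki for subrings of the fraction field. -/
theorem isNoetherianRing_of_le [IsNoetherianRing A] [Ring.KrullDimLE 1 A]
    {K : Type*} [Field K] [Algebra A K] [IsFractionRing A K]
    (O : Subring K) (hO : ∀ r : A, algebraMap A K r ∈ O) : IsNoetherianRing O := by
  show IsNoetherian O O
  rw [isNoetherian_iff, RelEmbedding.wellFounded_iff_isEmpty]
  refine ⟨fun g => ?_⟩
  have hg : ∀ m m' : ℕ, m < m' → g m < g m' := fun m m' h => g.map_rel_iff.2 h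
  have hg1 : g 1 ≠ ⊥ := by
    intro h
    have := hg 0 1 Nat.zero_lt_one
    rw [h] at this
    exact not_lt_bot this
  obtain ⟨y, hy, hy0⟩ := Submodule.exists_mem_ne_zero_of_ne_bot hg1
  obtain ⟨r, s, hs, hrs⟩ := IsFractionRing.div_surjective (A := A) (y : K)
  have hsK : algebraMap A K s ≠ 0 := by
    rw [Ne, map_eq_zero_iff _ (IsFractionRing.injective A K)]
    exact nonZeroDivisors.ne_zero hs
  have hyK : (y : K) ≠ 0 := fun h => hy0 (Subtype.ext h)
  have hr : algebraMap A K r = algebraMap A K s * y := by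
    rw [← hrs, mul_div_cancel₀ _ hsK]
  have hr0 : r ≠ 0 := by
    rintro rfl
    rw [map_zero] at hr
    exact mul_ne_zero hsK hyK hr.symm
  have hrg : (⟨algebraMap A K r, hO r⟩ : O) ∈ g 1 := by
    have : (⟨algebraMap A K r, hO r⟩ : O) = ⟨algebraMap A K s, hO s⟩ * y := Subtype.ext hr
    rw [this]
    exact Ideal.mul_mem_left (g 1) _ hy
  have hc : Module.length A (A ⧸ Ideal.span {r}) ≠ ⊤ :=
    length_quotient_ne_top (by rwa [Ne, Ideal.span_singleton_eq_bot])
  set n := (Module.length A (A ⧸ Ideal.span {r})).toNat + 1 with hn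
  have hbound := chain_submodule_le_length r hr0 (fun i => toSub O hO (g (1 + n - i))) n
    (fun i hi => toSub_strictMono O hO (hg _ _ (by omega)))
    (by
      intro z hz
      obtain ⟨w, -, rfl⟩ := (mem_toSub O hO _ z).1 hz
      refine (mem_toSub O hO _ _).2
        ⟨⟨algebraMap A K r, hO r⟩ * w, ?_, by rw [Algebra.smul_def]; rfl⟩
      have : 1 + n - n = 1 := by omega
      rw [this]
      exact Ideal.mul_mem_right _ (g 1) hrg)
  rw [hn, ← ENat.natCast_toNat hc] at hbound
  have : ((Module.length A (A ⧸ Ideal.span {r})).toNat + 1 : ℕ) ≤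
      (Module.length A (A ⧸ Ideal.span {r})).toNat := by
    exact_mod_cast hbound
  omega

/-- A valuation subring of the fraction field of a one-dimensional Noetherian domain `A`,
containing `A` and not the whole field, is a discrete valuation ring. -/
theorem isDiscreteValuationRing_of_le [IsNoetherianRing A] [Ring.KrullDimLE 1 A]
    {K : Type*} [Field K] [Algebra A K] [IsFractionRing A K]
    (O : ValuationSubring K) (hO : ∀ r : A, algebraMap A K r ∈ O) (hne : O ≠ ⊤) :
    IsDiscreteValuationRing O := by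
  haveI : IsNoetherianRing O := isNoetherianRing_of_le O.toSubring hO
  have hnf : ¬ IsField O := by
    intro hf
    apply hne
    rw [eq_top_iff]
    intro x _
    rcases O.mem_or_inv_mem x with h | h
    · exact h
    · by_cases hx : x = 0
      · rw [hx]; exact O.zero_mem
      · have hne0 : (⟨x⁻¹, h⟩ : O) ≠ 0 := fun h0 => inv_ne_zero hx (congrArg Subtype.val h0)
        obtain ⟨z, hz⟩ := hf.mul_inv_cancel hne0
        have hz' : x⁻¹ * (z : K) = 1 := congrArg Subtype.val hz
        have : (z : K) = x := by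
          field_simp at hz'
          exact hz'.symm ▸ rfl
        rw [← this]; exact z.2
  have htfae := (IsDiscreteValuationRing.TFAE (R := O) hnf).out 0 1
  exact htfae.2 inferInstance

end Groth.Agent.Lib.Helper12.KA
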