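import Mathlib
import Groth.Agent.Lib.Helper12.KrullAkizuki

/-! Krull–Akizuki in "birational overring" form, for abstract algebras `A → B`:
if `A` is a one-dimensional Noetherian domain, `B` a domain containing `A` all of whose elements
are fractions of elements of `A`, then `B` is Noetherian of dimension `≤ 1`, `B ⧸ I` has finite
length over `A` for `I ≠ 0`, the fibres of `Spec B → Spec A` are finite, etc. -/

set_option autoImplicit false

namespace Groth.Agent.Lib.Helper12.KAExt

open Groth.Agent.Lib.Helper12.KA Function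

/-- `B` is "birational" over `A`: every element of `B` is a fraction of elements of `A`. -/
def Bir (A B : Type*) [CommRing A] [CommRing B] [Algebra A B] : Prop :=
  ∀ b : B, ∃ a a' : A, a ≠ 0 ∧ algebraMap A B a * b = algebraMap A B a'

theorem not_toNat_succ_le {L : ℕ∞} (hc : L ≠ ⊤) : ¬ (((L.toNat + 1 : ℕ) : ℕ∞) ≤ L) := by
  lift L to ℕ using hc
  intro h
  rw [ENat.toNat_natCast] at h
  have h' : L + 1 ≤ L := by exact_mod_cast h
  omega

section basic

variable {A B : Type*} [CommRing A] [IsDomain A] [CommRing B] [IsDomain B] [Algebra A B]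

theorem exists_ne_zero_mem (hinj : Injective (algebraMap A B)) (hbir : Bir A B)
    (q : Ideal B) (hq : q ≠ ⊥) : ∃ r : A, r ≠ 0 ∧ algebraMap A B r ∈ q := by
  obtain ⟨b, hb, hb0⟩ := Submodule.exists_mem_ne_zero_of_ne_bot hq
  obtain ⟨a, a', ha, h⟩ := hbir b
  refine ⟨a', ?_, ?_⟩
  · rintro rfl
    rw [map_zero] at h
    rcases mul_eq_zero.1 h with h | h
    · exact ha ((map_eq_zero_iff _ hinj).1 h)
    · exact hb0 h
  · rw [← h]
    exact q.mul_mem_left _ hb

theorem isFractionRing_of_bir (hinj : Injective (algebraMap A B)) (hbir : Bir A B)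
    (K : Type*) [Field K] [Algebra B K] [IsFractionRing B K] [Algebra A K] [IsScalarTower A B K] :
    IsFractionRing A K := by
  have hinjK : Injective (algebraMap A K) := by
    rw [IsScalarTower.algebraMap_eq A B K]
    exact (IsFractionRing.injective B K).comp hinj
  haveI : FaithfulSMul A K := (faithfulSMul_iff_algebraMap_injective A K).2 hinjK
  refine IsFractionRing.of_field A K fun z => ?_
  obtain ⟨b, b', hb', hz⟩ := IsFractionRing.div_surjective (A := B) z
  obtain ⟨a, a₁, ha, h1⟩ := hbir b
  obtain ⟨a', a₁', ha', h1'⟩ := hbir b'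
  have hb'0 : b' ≠ 0 := nonZeroDivisors.ne_zero hb'
  have ha₁' : a₁' ≠ 0 := by
    rintro rfl
    rw [map_zero] at h1'
    rcases mul_eq_zero.1 h1' with h | h
    · exact ha' ((map_eq_zero_iff _ hinj).1 h)
    · exact hb'0 h
  have hne : ∀ c : A, c ≠ 0 → algebraMap A K c ≠ 0 := fun c hc => by
    rwa [Ne, map_eq_zero_iff _ hinjK]
  have e1 : algebraMap A K a * algebraMap B K b = algebraMap A K a₁ := by
    rw [IsScalarTower.algebraMap_apply A B K a, IsScalarTower.algebraMap_apply A B K a₁, ← h1,
      map_mul]
  have e2 : algebraMap A K a' * algebraMap B K b' = algebraMap A K a₁' := by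
    rw [IsScalarTower.algebraMap_apply A B K a', IsScalarTower.algebraMap_apply A B K a₁', ← h1',
      map_mul]
  have hbK : algebraMap B K b' ≠ 0 := by
    rwa [Ne, map_eq_zero_iff _ (IsFractionRing.injective B K)]
  have h1K := hne a ha
  have h2K := hne a' ha'
  refine ⟨a₁ * a', a * a₁', ?_⟩
  rw [← hz, map_mul, map_mul, ← e1, ← e2]
  first | (field_simp; ring) | field_simp

/-- At a "generic" evaluation (injective `ev'`), the map of residue fields is surjective. -/
theorem surjective_of_residue (hinj : Injective (algebraMap A B)) (hbir : Bir A B)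
    {k k' : Type*} [Field k] [Field k'] (ev : A →+* k) (ev' : B →+* k') (ρ : k →+* k')
    (hcomm : ρ.comp ev = ev'.comp (algebraMap A B))
    (hgen : ∀ z : k', ∃ b b' : B, ev' b' ≠ 0 ∧ z * ev' b' = ev' b)
    (hinj' : Injective ev') : Surjective ρ := by
  have hcomm' : ∀ a, ρ (ev a) = ev' (algebraMap A B a) := fun a => RingHom.congr_fun hcomm a
  intro z
  obtain ⟨b, b', hb', hz⟩ := hgen z
  obtain ⟨a, a₁, ha, h1⟩ := hbir b
  obtain ⟨a', a₁', ha', h1'⟩ := hbir b'
  have hb'0 : b' ≠ 0 := by
    rintro rfl
    exact hb' (map_zero ev')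
  have ha₁' : a₁' ≠ 0 := by
    rintro rfl
    rw [map_zero] at h1'
    rcases mul_eq_zero.1 h1' with h | h
    · exact ha' ((map_eq_zero_iff _ hinj).1 h)
    · exact hb'0 h
  have hne : ∀ c : A, c ≠ 0 → ρ (ev c) ≠ 0 := fun c hc => by
    rw [hcomm', Ne, map_eq_zero_iff _ hinj', map_eq_zero_iff _ hinj]
    exact hc
  have e1 : ρ (ev a) * ev' b = ρ (ev a₁) := by
    rw [hcomm', hcomm', ← h1, map_mul]
  have e2 : ρ (ev a') * ev' b' = ρ (ev a₁') := by
    rw [hcomm', hcomm', ← h1', map_mul]
  have h1K := hne a ha
  have h2K := hne a' ha'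
  have h3K := hne a₁' ha₁'
  refine ⟨ev a₁ * ev a' / (ev a * ev a₁'), ?_⟩
  rw [map_div₀, map_mul, map_mul, ← e1, ← e2]
  have hz' : z = ev' b / ev' b' := by
    rw [eq_div_iff hb', hz]
  rw [hz']
  first | (field_simp; ring) | field_simp

variable [IsNoetherianRing A] [Ring.KrullDimLE 1 A]

theorem isNoetherianRing_of_bir (hinj : Injective (algebraMap A B)) (hbir : Bir A B) :
    IsNoetherianRing B := by
  haveI := isFractionRing_of_bir hinj hbir (FractionRing B)
  let O : Subring (FractionRing B) := (algebraMap B (FractionRing B)).range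
  have hO : ∀ r : A, algebraMap A (FractionRing B) r ∈ O := fun r =>
    ⟨algebraMap A B r, (IsScalarTower.algebraMap_apply A B (FractionRing B) r).symm⟩
  haveI : IsNoetherianRing O := isNoetherianRing_of_le O hO
  have hinjB : Injective (algebraMap B (FractionRing B)).rangeRestrict := by
    intro x y hxy
    apply IsFractionRing.injective B (FractionRing B)
    have := congrArg Subtype.val hxy
    rw [RingHom.coe_rangeRestrict, RingHom.coe_rangeRestrict] at this
    exact this
  let e : B ≃+* O := RingEquiv.ofBijective (algebraMap B (FractionRing B)).rangeRestrict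
    ⟨hinjB, (algebraMap B (FractionRing B)).rangeRestrict_surjective⟩
  exact isNoetherianRing_of_ringEquiv O e.symm

theorem chainB_le (hinj : Injective (algebraMap A B)) (hbir : Bir A B) (r : A) (hr : r ≠ 0)
    (J : ℕ → Submodule A B) (n : ℕ) (h : ∀ i < n, J (i + 1) < J i)
    (hn : ∀ x ∈ J 0, r • x ∈ J n) :
    (n : ℕ∞) ≤ Module.length A (A ⧸ Ideal.span {r}) := by
  haveI := isFractionRing_of_bir hinj hbir (FractionRing B)
  let φ : B →ₗ[A] FractionRing B := (IsScalarTower.toAlgHom A B (FractionRing B)).toLinearMap
  have hφ : Injective φ := IsFractionRing.injective B (FractionRing B)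
  refine chain_submodule_le_length r hr (fun i => (J i).map φ) n
    (fun i hi => Submodule.map_strictMono_of_injective hφ (h i hi)) ?_
  intro z hz
  obtain ⟨x, hx, rfl⟩ := Submodule.mem_map.1 hz
  exact Submodule.mem_map.2 ⟨r • x, hn x hx, map_smul φ r x⟩

/-- Key finiteness: an `A`-module quotient of `B` killed by a nonzero element of `A` has finite
length. -/
theorem isNoetherian_isArtinian_of_surjective (hinj : Injective (algebraMap A B)) (hbir : Bir A B)
    {M : Type*} [AddCommGroup M] [Module A M] (π : B →ₗ[A] M) (hπ : Surjective π)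
    (r : A) (hr : r ≠ 0) (hrM : ∀ b, π (r • b) = 0) : IsNoetherian A M ∧ IsArtinian A M := by
  have hc : Module.length A (A ⧸ Ideal.span {r}) ≠ ⊤ :=
    length_quotient_ne_top (by rwa [Ne, Ideal.span_singleton_eq_bot])
  have key : ∀ (J : ℕ → Submodule A M) (n : ℕ), (∀ i < n, J (i + 1) < J i) →
      (n : ℕ∞) ≤ Module.length A (A ⧸ Ideal.span {r}) := by
    intro J n h
    refine chainB_le hinj hbir r hr (fun i => (J i).comap π) n
      (fun i hi => Submodule.comap_strictMono_of_surjective hπ (h i hi)) ?_
    intro x _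
    show π (r • x) ∈ J n
    rw [hrM]
    exact (J n).zero_mem
  constructor
  · rw [isNoetherian_iff, RelEmbedding.wellFounded_iff_isEmpty]
    refine ⟨fun g => ?_⟩
    have hg : ∀ m m' : ℕ, m < m' → g m < g m' := fun m m' h => g.map_rel_iff.2 h
    exact not_toNat_succ_le hc
      (key (fun i => g ((Module.length A (A ⧸ Ideal.span {r})).toNat + 1 - i)) _
        (fun i hi => hg _ _ (by omega)))
  · rw [isArtinian_iff, RelEmbedding.wellFounded_iff_isEmpty]
    refine ⟨fun g => ?_⟩
    have hg : ∀ m : ℕ, g (m + 1) < g m := fun m => g.map_rel_iff.2 (Nat.lt_succ_self m)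
    exact not_toNat_succ_le hc (key (fun i => g i) _ (fun i _ => hg i))

theorem quotient_isNoetherian_isArtinian (hinj : Injective (algebraMap A B)) (hbir : Bir A B)
    (I : Ideal B) (r : A) (hr : r ≠ 0) (hrI : algebraMap A B r ∈ I) :
    IsNoetherian A (B ⧸ I) ∧ IsArtinian A (B ⧸ I) := by
  refine isNoetherian_isArtinian_of_surjective hinj hbir (Ideal.Quotient.mkₐ A I).toLinearMap
    Ideal.Quotient.mk_surjective r hr ?_
  intro b
  show Ideal.Quotient.mk I (r • b) = 0
  rw [Ideal.Quotient.eq_zero_iff_mem, Algebra.smul_def]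
  exact I.mul_mem_right _ hrI

theorem quotient_finite (hinj : Injective (algebraMap A B)) (hbir : Bir A B)
    (I : Ideal B) (hI : I ≠ ⊥) : Module.Finite A (B ⧸ I) := by
  obtain ⟨r, hr, hrI⟩ := exists_ne_zero_mem hinj hbir I hI
  haveI := (quotient_isNoetherian_isArtinian hinj hbir I r hr hrI).1
  exact Module.IsNoetherian.finite A (B ⧸ I)

theorem quotient_isArtinianRing (hinj : Injective (algebraMap A B)) (hbir : Bir A B)
    (I : Ideal B) (hI : I ≠ ⊥) : IsArtinianRing (B ⧸ I) := by
  obtain ⟨r, hr, hrI⟩ := exists_ne_zero_mem hinj hbir I hI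
  exact isArtinian_of_tower A (quotient_isNoetherian_isArtinian hinj hbir I r hr hrI).2

theorem isMaximal_of_isPrime (hinj : Injective (algebraMap A B)) (hbir : Bir A B)
    (q : Ideal B) [q.IsPrime] (hq : q ≠ ⊥) : q.IsMaximal := by
  haveI := quotient_isArtinianRing hinj hbir q hq
  exact Ideal.Quotient.maximal_of_isField q (IsArtinianRing.isField_of_isDomain (B ⧸ q))

theorem dimensionLEOne_of_bir (hinj : Injective (algebraMap A B)) (hbir : Bir A B) :
    Ring.DimensionLEOne B :=
  ⟨fun {p} hp hprime => by
    haveI := hprime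
    exact isMaximal_of_isPrime hinj hbir p hp⟩

theorem isDedekindDomain_of_bir (hinj : Injective (algebraMap A B)) (hbir : Bir A B)
    [IsIntegrallyClosed B] : IsDedekindDomain B := by
  haveI := isNoetherianRing_of_bir hinj hbir
  haveI := dimensionLEOne_of_bir hinj hbir
  exact (isDedekindDomain_iff B (FractionRing B)).2
    ⟨inferInstance, inferInstance, inferInstance,
      fun hx => IsIntegrallyClosed.algebraMap_eq_of_integral hx⟩

theorem finite_fibre (hinj : Injective (algebraMap A B)) (hbir : Bir A B) (p : PrimeSpectrum A) :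
    (PrimeSpectrum.comap (algebraMap A B) ⁻¹' {p}).Finite := by
  by_cases hp : p.asIdeal = ⊥
  · refine Set.Subsingleton.finite ?_
    have hbot : ∀ q : PrimeSpectrum B, PrimeSpectrum.comap (algebraMap A B) q = p →
        q.asIdeal = ⊥ := by
      intro q hq
      by_contra hne
      obtain ⟨r, hr, hrq⟩ := exists_ne_zero_mem hinj hbir q.asIdeal hne
      have : r ∈ (PrimeSpectrum.comap (algebraMap A B) q).asIdeal := hrq
      rw [hq, hp] at this
      exact hr this
    intro q hq q' hq'
    ext1
    rw [hbot q hq, hbot q' hq']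
  · obtain ⟨r, hrp, hr⟩ := Submodule.exists_mem_ne_zero_of_ne_bot hp
    set I : Ideal B := Ideal.span {algebraMap A B r} with hI
    have hI0 : I ≠ ⊥ := by
      rw [hI, Ne, Ideal.span_singleton_eq_bot, map_eq_zero_iff _ hinj]
      exact hr
    haveI := quotient_isArtinianRing hinj hbir I hI0
    have hfin : (Set.range (PrimeSpectrum.comap (Ideal.Quotient.mk I))).Finite :=
      Set.finite_range _
    rw [range_comap_of_surjective _ _ Ideal.Quotient.mk_surjective,
      Ideal.mk_ker] at hfin
    refine hfin.subset fun q hq => ?_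
    rw [PrimeSpectrum.mem_zeroLocus, SetLike.coe_subset_coe, hI, Ideal.span_singleton_le_iff_mem]
    have : r ∈ (PrimeSpectrum.comap (algebraMap A B) q).asIdeal := by
      rw [show PrimeSpectrum.comap (algebraMap A B) q = p from hq]
      exact hrp
    exact this

theorem residue_finite (hinj : Injective (algebraMap A B)) (hbir : Bir A B)
    (q : Ideal B) (hq : q ≠ ⊥) : Module.Finite (A ⧸ q.comap (algebraMap A B)) (B ⧸ q) := by
  haveI := quotient_finite hinj hbir q hq
  exact Module.Finite.of_restrictScalars_finite A (A ⧸ q.comap (algebraMap A B)) (B ⧸ q)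

/-- Finiteness of residue field extensions, in a form suited to schemes: `ev`, `ev'` are
"evaluation maps" to fields, such that every element of the target of `ev'` is a fraction of
values. -/
theorem finite_of_residue (hinj : Injective (algebraMap A B)) (hbir : Bir A B)
    {k k' : Type*} [Field k] [Field k'] (ev : A →+* k) (ev' : B →+* k') (ρ : k →+* k')
    (hcomm : ρ.comp ev = ev'.comp (algebraMap A B))
    (hgen : ∀ z : k', ∃ b b' : B, ev' b' ≠ 0 ∧ z * ev' b' = ev' b) : ρ.Finite := by
  letI : Algebra k k' := ρ.toAlgebra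
  show Module.Finite k k'
  have hcomm' : ∀ a, ρ (ev a) = ev' (algebraMap A B a) := fun a => RingHom.congr_fun hcomm a
  by_cases hker : RingHom.ker ev' = ⊥
  · -- generic case: `ρ` is surjective
    have hinj' : Injective ev' := (RingHom.injective_iff_ker_eq_bot ev').2 hker
    have hsurj : Surjective ρ := surjective_of_residue hinj hbir ev ev' ρ hcomm hgen hinj'
    exact Module.Finite.of_surjective (Algebra.linearMap k k') hsurj
  · -- closed point case
    haveI : (RingHom.ker ev').IsPrime := RingHom.ker_isPrime ev'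
    have hmax : (RingHom.ker ev').IsMaximal := isMaximal_of_isPrime hinj hbir _ hker
    obtain ⟨r, hr, hrq⟩ := exists_ne_zero_mem hinj hbir _ hker
    have hsurj : Surjective ev' := by
      intro z
      obtain ⟨b, b', hb', hz⟩ := hgen z
      have hb'q : b' ∉ RingHom.ker ev' := fun h => hb' ((RingHom.mem_ker).1 h)
      obtain ⟨c, i, hi, hci⟩ := hmax.exists_inv hb'q
      have h1 : ev' c * ev' b' = 1 := by
        have := congrArg ev' hci
        rw [map_add, map_mul, (RingHom.mem_ker).1 hi, add_zero, map_one] at this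
        exact this
      refine ⟨b * c, ?_⟩
      rw [map_mul, ← hz, mul_assoc, mul_comm (ev' b'), h1, mul_one]
    letI : Algebra A k := ev.toAlgebra
    letI : Algebra A k' := (ρ.comp ev).toAlgebra
    haveI : IsScalarTower A k k' := IsScalarTower.of_algebraMap_eq (fun _ => rfl)
    let π : B →ₗ[A] k' :=
      { toFun := ev'
        map_add' := map_add ev'
        map_smul' := fun a b => by
          rw [RingHom.id_apply, Algebra.smul_def, map_mul, Algebra.smul_def]
          congr 1
          exact (hcomm' a).symm }
    have hπ : Surjective π := hsurj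
    haveI := (isNoetherian_isArtinian_of_surjective hinj hbir π hπ r hr (fun b => by
      show ev' (r • b) = 0
      rw [Algebra.smul_def, map_mul, (RingHom.mem_ker).1 hrq, zero_mul])).1
    haveI : Module.Finite A k' := Module.IsNoetherian.finite A k'
    exact Module.Finite.of_restrictScalars_finite A k k'

end basic

/-- The integral closure of a domain in its fraction ring: the hypotheses of the above. -/
theorem integralClosure_props (A L : Type*) [CommRing A] [IsDomain A] [CommRing L] [Algebra A L]
    [IsFractionRing A L] :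
    IsDomain (integralClosure A L) ∧ Injective (algebraMap A (integralClosure A L)) ∧
      Bir A (integralClosure A L) ∧ IsIntegrallyClosed (integralClosure A L) := by
  let ε : integralClosure A (FractionRing A) ≃ₐ[A] integralClosure A L :=
    AlgEquiv.mapIntegralClosure (FractionRing.algEquiv A L)
  haveI : IsIntegrallyClosed (integralClosure A (FractionRing A)) :=
    integralClosure.isIntegrallyClosedOfFiniteExtension (FractionRing A)
  refine ⟨?_, ?_, ?_, ?_⟩
  · exact Function.Injective.isDomain ε.symm ε.symm.injective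
  · intro a b h
    exact IsFractionRing.injective A L (congrArg Subtype.val h)
  · intro c
    obtain ⟨a, a', ha'⟩ := IsLocalization.exists_integer_multiple (nonZeroDivisors A) (c : L)
    refine ⟨a, a', nonZeroDivisors.coe_ne_zero a, ?_⟩
    apply Subtype.ext
    show algebraMap A L a * (c : L) = algebraMap A L a'
    rw [ha', Algebra.smul_def]
  · exact IsIntegrallyClosed.of_equiv ε.toRingEquiv

end Groth.Agent.Lib.Helper12.KAExt
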