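import Mathlib
import Groth.Agent.Lib.Helper12.KAExt

/-! The normalization of an integral scheme (relative normalization in the spectrum of the function
field), affine-locally: sections over the preimage of an affine open are the integral closure in
the function field. Consequences for one-dimensional locally Noetherian integral schemes
(Krull–Akizuki). -/

set_option autoImplicit false

namespace Groth.Agent.Lib.Helper12.NormAff

open AlgebraicGeometry CategoryTheory TopologicalSpace Opposite Function
open Groth.Agent.Lib.Helper12.KAExt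

universe u

theorem krullDimLE_one_of_affine (X : Scheme.{u}) {U : X.Opens} (hU : IsAffineOpen U)
    (hdim : topologicalKrullDim X ≤ 1) : Ring.KrullDimLE 1 Γ(X, U) := by
  rw [Ring.KrullDimLE, Order.krullDimLE_iff, ← ringKrullDim, Nat.cast_one,
    ← PrimeSpectrum.topologicalKrullDim_eq_ringKrullDim Γ(X, U)]
  change topologicalKrullDim (Spec Γ(X, U)) ≤ 1
  rw [← IsHomeomorph.topologicalKrullDim_eq _ hU.isoSpec.hom.homeomorph.isHomeomorph]
  exact (topologicalKrullDim_subspace_le X U).trans hdim

theorem isField_of_atPrime_eq_bot {R S : Type*} [CommRing R] [IsDomain R] [CommRing S]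
    [Algebra R S] (P : Ideal R) [hP : P.IsPrime] [IsLocalization.AtPrime S P] (h : P = ⊥) :
    IsField S := by
  subst h
  have hM : (⊥ : Ideal R).primeCompl = nonZeroDivisors R := by
    ext x
    rw [mem_nonZeroDivisors_iff_ne_zero]
    exact not_congr Ideal.mem_bot
  haveI : IsFractionRing R S := by
    show IsLocalization (nonZeroDivisors R) S
    rw [← hM]; infer_instance
  letI := IsFractionRing.toField R (K := S)
  exact Field.toIsField S

theorem exists_affine_mem (X : Scheme.{u}) (x : X) : ∃ U : X.Opens, IsAffineOpen U ∧ x ∈ U := by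
  obtain ⟨_, ⟨U, hU, rfl⟩, hx, -⟩ :=
    X.isBasis_affineOpens.exists_subset_of_mem_open (Set.mem_univ x) isOpen_univ
  exact ⟨U, hU, hx⟩

variable (X : Scheme.{u}) [IsIntegral X]

theorem genericPoint_mem {U : X.Opens} (hne : (U : Set X).Nonempty) : genericPoint X ∈ U :=
  ((genericPoint_spec X).mem_open_set_iff U.isOpen).mpr (by simpa using hne)

theorem preimage_eq_top {U : X.Opens} (hne : (U : Set X).Nonempty) :
    (X.fromSpecStalk (genericPoint X)) ⁻¹ᵁ U = ⊤ := by
  refine eq_top_iff.2 fun s _ => ?_
  rw [Scheme.Hom.mem_preimage]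
  have h : (X.fromSpecStalk (genericPoint X)) s ⤳ genericPoint X := by
    have := Set.mem_range_self (f := (X.fromSpecStalk (genericPoint X))) s
    rw [Scheme.range_fromSpecStalk] at this
    exact this
  exact h.mem_open U.2 (genericPoint_mem X hne)

theorem isFractionRing_app {U : X.Opens} (hU : IsAffineOpen U) (hne : (U : Set X).Nonempty) :
    letI := ((X.fromSpecStalk (genericPoint X)).app U).hom.toAlgebra
    IsFractionRing Γ(X, U)
      Γ(Spec (X.presheaf.stalk (genericPoint X)), (X.fromSpecStalk (genericPoint X)) ⁻¹ᵁ U) := by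
  letI := ((X.fromSpecStalk (genericPoint X)).app U).hom.toAlgebra
  haveI : Nonempty U := ⟨⟨_, hne.some_mem⟩⟩
  haveI := functionField_isFractionRing_of_isAffineOpen X U hU
  have hη : genericPoint X ∈ U := genericPoint_mem X hne
  have htop := preimage_eq_top X hne
  have hiso : IsIso ((Spec (X.presheaf.stalk (genericPoint X))).presheaf.map
      (homOfLE (le_top : (X.fromSpecStalk (genericPoint X)) ⁻¹ᵁ U ≤ ⊤)).op) := by
    have : homOfLE (le_top : (X.fromSpecStalk (genericPoint X)) ⁻¹ᵁ U ≤ ⊤) = eqToHom htop :=
      Subsingleton.elim _ _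
    rw [this]; infer_instance
  let g : X.functionField ⟶
      Γ(Spec (X.presheaf.stalk (genericPoint X)), (X.fromSpecStalk (genericPoint X)) ⁻¹ᵁ U) :=
    (Scheme.ΓSpecIso (X.presheaf.stalk (genericPoint X))).inv ≫
      (Spec (X.presheaf.stalk (genericPoint X))).presheaf.map (homOfLE le_top).op
  haveI : IsIso g := by dsimp only [g]; infer_instance
  have happ : (X.fromSpecStalk (genericPoint X)).app U =
      X.presheaf.germ U (genericPoint X) hη ≫ g := Scheme.fromSpecStalk_app hη
  let e : X.functionField ≃ₐ[Γ(X, U)]
      Γ(Spec (X.presheaf.stalk (genericPoint X)), (X.fromSpecStalk (genericPoint X)) ⁻¹ᵁ U) :=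
    AlgEquiv.ofRingEquiv (f := (asIso g).commRingCatIsoToRingEquiv) (fun a => by
      show g.hom ((X.germToFunctionField U).hom a) =
        ((X.fromSpecStalk (genericPoint X)).app U).hom a
      rw [happ]; rfl)
  exact IsLocalization.isLocalization_of_algEquiv (nonZeroDivisors Γ(X, U)) e

variable [QuasiCompact (X.fromSpecStalk (genericPoint X))]
  [QuasiSeparated (X.fromSpecStalk (genericPoint X))]

/-- The sections of the normalization over the preimage of a nonempty affine open: a domain,
birational over and containing the sections of `X`, integrally closed. -/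
theorem sections_props {U : X.Opens} (hU : IsAffineOpen U) (hne : (U : Set X).Nonempty) :
    letI := ((X.fromSpecStalk (genericPoint X)).fromNormalization.app U).hom.toAlgebra
    IsDomain Γ((X.fromSpecStalk (genericPoint X)).normalization,
      (X.fromSpecStalk (genericPoint X)).fromNormalization ⁻¹ᵁ U) ∧
    Injective (algebraMap Γ(X, U) Γ((X.fromSpecStalk (genericPoint X)).normalization,
      (X.fromSpecStalk (genericPoint X)).fromNormalization ⁻¹ᵁ U)) ∧
    Bir Γ(X, U) Γ((X.fromSpecStalk (genericPoint X)).normalization,
      (X.fromSpecStalk (genericPoint X)).fromNormalization ⁻¹ᵁ U) ∧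
    IsIntegrallyClosed Γ((X.fromSpecStalk (genericPoint X)).normalization,
      (X.fromSpecStalk (genericPoint X)).fromNormalization ⁻¹ᵁ U) := by
  letI := ((X.fromSpecStalk (genericPoint X)).app U).hom.toAlgebra
  letI := ((X.fromSpecStalk (genericPoint X)).fromNormalization.app U).hom.toAlgebra
  haveI := isFractionRing_app X hU hne
  haveI : Nonempty U := ⟨⟨_, hne.some_mem⟩⟩
  obtain ⟨h1, h2, h3, h4⟩ := integralClosure_props Γ(X, U)
    Γ(Spec (X.presheaf.stalk (genericPoint X)), (X.fromSpecStalk (genericPoint X)) ⁻¹ᵁ U)
  let E : Γ((X.fromSpecStalk (genericPoint X)).normalization,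
      (X.fromSpecStalk (genericPoint X)).fromNormalization ⁻¹ᵁ U) ≃+*
      integralClosure Γ(X, U)
        Γ(Spec (X.presheaf.stalk (genericPoint X)), (X.fromSpecStalk (genericPoint X)) ⁻¹ᵁ U) :=
    ((X.fromSpecStalk (genericPoint X)).normalizationObjIso hU).commRingCatIsoToRingEquiv
  have hE : ∀ a : Γ(X, U), E (algebraMap Γ(X, U) _ a) = algebraMap Γ(X, U) _ a := by
    intro a
    show ((X.fromSpecStalk (genericPoint X)).normalizationObjIso hU).hom.hom
      (((X.fromSpecStalk (genericPoint X)).fromNormalization.app U).hom a) = _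
    rw [Scheme.Hom.fromNormalization_app _ hU]
    simp
  refine ⟨?_, ?_, ?_, ?_⟩
  · exact Function.Injective.isDomain E E.injective
  · intro a b h
    apply h2
    rw [← hE, ← hE, h]
  · intro b
    obtain ⟨a, a', ha, h⟩ := h3 (E b)
    refine ⟨a, a', ha, E.injective ?_⟩
    rw [map_mul, hE, hE, h]
  · exact IsIntegrallyClosed.of_equiv E.symm



/-- Every element of the residue field at a point of an affine open is a fraction of values of
sections. -/
theorem evaluation_gen {Y : Scheme.{u}} {V : Y.Opens} (hV : IsAffineOpen V) (y : Y) (hy : y ∈ V)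
    (z : Y.residueField y) : ∃ b b' : Γ(Y, V), (Y.evaluation V y hy).hom b' ≠ 0 ∧
      z * (Y.evaluation V y hy).hom b' = (Y.evaluation V y hy).hom b := by
  obtain ⟨s, rfl⟩ := Scheme.residue_surjective _ y z
  letI := Y.presheaf.algebra_section_stalk (U := V) ⟨y, hy⟩
  haveI := hV.isLocalization_stalk ⟨y, hy⟩
  obtain ⟨⟨b, m⟩, hbm⟩ := IsLocalization.surj (hV.primeIdealOf ⟨y, hy⟩).asIdeal.primeCompl s
  refine ⟨b, m, ?_, ?_⟩
  · have hu : IsUnit (algebraMap Γ(Y, V) (Y.presheaf.stalk y) (m : _)) :=
      IsLocalization.map_units _ m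
    exact (hu.map (Y.residue y).hom).ne_zero
  · have := congrArg (Y.residue y).hom hbm
    rw [map_mul] at this
    exact this

theorem evaluation_comm (x' : (X.fromSpecStalk (genericPoint X)).normalization) {U : X.Opens}
    (hxU : (X.fromSpecStalk (genericPoint X)).fromNormalization x' ∈ U) :
    letI := ((X.fromSpecStalk (genericPoint X)).fromNormalization.app U).hom.toAlgebra
    ((X.fromSpecStalk (genericPoint X)).fromNormalization.residueFieldMap x').hom.comp
      (X.evaluation U ((X.fromSpecStalk (genericPoint X)).fromNormalization x') hxU).hom =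
    ((X.fromSpecStalk (genericPoint X)).normalization.evaluation
      ((X.fromSpecStalk (genericPoint X)).fromNormalization ⁻¹ᵁ U) x' hxU).hom.comp
      (algebraMap Γ(X, U) Γ((X.fromSpecStalk (genericPoint X)).normalization,
        (X.fromSpecStalk (genericPoint X)).fromNormalization ⁻¹ᵁ U)) := by
  have := Scheme.evaluation_naturality
    (X.fromSpecStalk (genericPoint X)).fromNormalization x' hxU
  ext a
  exact congr($(this).hom a)

theorem isIntegrallyClosed_stalk (x' : (X.fromSpecStalk (genericPoint X)).normalization) :
    IsIntegrallyClosed ((X.fromSpecStalk (genericPoint X)).normalization.presheaf.stalk x') := by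
  obtain ⟨U, hU, hxU⟩ := exists_affine_mem X
    ((X.fromSpecStalk (genericPoint X)).fromNormalization x')
  have hne : (U : Set X).Nonempty := ⟨_, hxU⟩
  have hV : IsAffineOpen ((X.fromSpecStalk (genericPoint X)).fromNormalization ⁻¹ᵁ U) :=
    hU.preimage _
  letI := ((X.fromSpecStalk (genericPoint X)).fromNormalization.app U).hom.toAlgebra
  obtain ⟨hdom, hinj, hbir, hic⟩ := sections_props X hU hne
  letI := (X.fromSpecStalk (genericPoint X)).normalization.presheaf.algebra_section_stalk
    (U := (X.fromSpecStalk (genericPoint X)).fromNormalization ⁻¹ᵁ U) ⟨x', hxU⟩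
  haveI := hV.isLocalization_stalk ⟨x', hxU⟩
  exact isIntegrallyClosed_of_isLocalization _
    (hV.primeIdealOf ⟨x', hxU⟩).asIdeal.primeCompl (Ideal.primeCompl_le_nonZeroDivisors _)

theorem surjective_fromNormalization :
    Function.Surjective (X.fromSpecStalk (genericPoint X)).fromNormalization := by
  have hcl : IsClosedMap (X.fromSpecStalk (genericPoint X)).fromNormalization :=
    (X.fromSpecStalk (genericPoint X)).fromNormalization.isClosedMap
  have hη : genericPoint X ∈ Set.range (X.fromSpecStalk (genericPoint X)).fromNormalization := by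
    refine ⟨(X.fromSpecStalk (genericPoint X)).toNormalization (IsLocalRing.closedPoint _), ?_⟩
    rw [← Scheme.Hom.comp_apply, Scheme.Hom.toNormalization_fromNormalization,
      Scheme.fromSpecStalk_closedPoint]
  have hrange : IsClosed (Set.range (X.fromSpecStalk (genericPoint X)).fromNormalization) :=
    hcl.isClosed_range
  intro x
  have hsub : closure {genericPoint X} ⊆
      Set.range (X.fromSpecStalk (genericPoint X)).fromNormalization :=
    hrange.closure_subset_iff.2 (Set.singleton_subset_iff.2 hη)
  apply hsub
  rw [(genericPoint_spec X).def]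
  trivial

theorem map_genericPoint :
    (X.fromSpecStalk (genericPoint X)).fromNormalization
      (genericPoint (X.fromSpecStalk (genericPoint X)).normalization) = genericPoint X := by
  have h := (genericPoint_spec (X.fromSpecStalk (genericPoint X)).normalization).image
    (X.fromSpecStalk (genericPoint X)).fromNormalization.continuous
  have hs : closure ((X.fromSpecStalk (genericPoint X)).fromNormalization ''
      (Set.univ : Set (X.fromSpecStalk (genericPoint X)).normalization)) = ⊤ := by
    rw [Set.image_univ, (surjective_fromNormalization X).range_eq, closure_univ]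
    rfl
  rw [hs] at h
  exact ((genericPoint_spec X).eq h).symm

theorem residueFieldMap_genericPoint_bijective :
    Function.Bijective ((X.fromSpecStalk (genericPoint X)).fromNormalization.residueFieldMap
      (genericPoint (X.fromSpecStalk (genericPoint X)).normalization)).hom := by
  obtain ⟨U, hU, hxU⟩ := exists_affine_mem X
    ((X.fromSpecStalk (genericPoint X)).fromNormalization
      (genericPoint (X.fromSpecStalk (genericPoint X)).normalization))
  have hne : (U : Set X).Nonempty := ⟨_, hxU⟩
  have hV : IsAffineOpen ((X.fromSpecStalk (genericPoint X)).fromNormalization ⁻¹ᵁ U) :=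
    hU.preimage _
  letI := ((X.fromSpecStalk (genericPoint X)).fromNormalization.app U).hom.toAlgebra
  obtain ⟨hdom, hinj, hbir, hic⟩ := sections_props X hU hne
  haveI : Nonempty U := ⟨⟨_, hxU⟩⟩
  refine ⟨RingHom.injective _, ?_⟩
  refine surjective_of_residue hinj hbir _ _ _ (evaluation_comm X _ hxU)
    (evaluation_gen hV _ hxU) ?_
  have h1 : Function.Injective ((X.fromSpecStalk (genericPoint X)).normalization.presheaf.germ
      ((X.fromSpecStalk (genericPoint X)).fromNormalization ⁻¹ᵁ U)
      (genericPoint (X.fromSpecStalk (genericPoint X)).normalization) hxU).hom :=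
    germ_injective_of_isIntegral (X.fromSpecStalk (genericPoint X)).normalization
      (U := (X.fromSpecStalk (genericPoint X)).fromNormalization ⁻¹ᵁ U)
      (genericPoint (X.fromSpecStalk (genericPoint X)).normalization) hxU
  have h2 : Function.Injective ((X.fromSpecStalk (genericPoint X)).normalization.residue
      (genericPoint (X.fromSpecStalk (genericPoint X)).normalization)).hom :=
    RingHom.injective _
  exact h2.comp h1


/-- If the integral closure of `Γ(X, U)` in its fraction field is module-finite, then the
normalization is finite over `U`. -/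
theorem app_finite_of_integralClosure_finite {U : X.Opens} (hU : IsAffineOpen U)
    (hne : (U : Set X).Nonempty)
    (h : haveI : Nonempty U := ⟨⟨_, hne.some_mem⟩⟩
      Module.Finite Γ(X, U) (integralClosure Γ(X, U) (FractionRing Γ(X, U)))) :
    ((X.fromSpecStalk (genericPoint X)).fromNormalization.app U).hom.Finite := by
  letI := ((X.fromSpecStalk (genericPoint X)).app U).hom.toAlgebra
  haveI := isFractionRing_app X hU hne
  haveI : Nonempty U := ⟨⟨_, hne.some_mem⟩⟩
  let ε : integralClosure Γ(X, U) (FractionRing Γ(X, U)) ≃ₐ[Γ(X, U)]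
      integralClosure Γ(X, U)
        Γ(Spec (X.presheaf.stalk (genericPoint X)), (X.fromSpecStalk (genericPoint X)) ⁻¹ᵁ U) :=
    AlgEquiv.mapIntegralClosure (FractionRing.algEquiv Γ(X, U) _)
  haveI : Module.Finite Γ(X, U) (integralClosure Γ(X, U)
      Γ(Spec (X.presheaf.stalk (genericPoint X)), (X.fromSpecStalk (genericPoint X)) ⁻¹ᵁ U)) :=
    Module.Finite.equiv ε.toLinearEquiv
  let E : Γ((X.fromSpecStalk (genericPoint X)).normalization,
      (X.fromSpecStalk (genericPoint X)).fromNormalization ⁻¹ᵁ U) ≃+*
      integralClosure Γ(X, U)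
        Γ(Spec (X.presheaf.stalk (genericPoint X)), (X.fromSpecStalk (genericPoint X)) ⁻¹ᵁ U) :=
    ((X.fromSpecStalk (genericPoint X)).normalizationObjIso hU).commRingCatIsoToRingEquiv
  have hE : ∀ a : Γ(X, U),
      E (((X.fromSpecStalk (genericPoint X)).fromNormalization.app U).hom a) =
        algebraMap Γ(X, U) _ a := by
    intro a
    show ((X.fromSpecStalk (genericPoint X)).normalizationObjIso hU).hom.hom
      (((X.fromSpecStalk (genericPoint X)).fromNormalization.app U).hom a) = _
    rw [Scheme.Hom.fromNormalization_app _ hU]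
    simp
  have hcomp : ((X.fromSpecStalk (genericPoint X)).fromNormalization.app U).hom =
      (E.symm : _ →+* _).comp (algebraMap Γ(X, U) (integralClosure Γ(X, U)
        Γ(Spec (X.presheaf.stalk (genericPoint X)),
          (X.fromSpecStalk (genericPoint X)) ⁻¹ᵁ U))) := by
    ext a
    show _ = E.symm (algebraMap Γ(X, U) _ a)
    rw [← hE a, E.symm_apply_apply]
  rw [hcomp]
  refine RingHom.Finite.comp (RingHom.Finite.of_surjective _ E.symm.surjective) ?_
  show Module.Finite Γ(X, U) (integralClosure Γ(X, U)
      Γ(Spec (X.presheaf.stalk (genericPoint X)), (X.fromSpecStalk (genericPoint X)) ⁻¹ᵁ U))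
  infer_instance

theorem app_finite_of_empty {U : X.Opens} (hne : ¬ (U : Set X).Nonempty) :
    ((X.fromSpecStalk (genericPoint X)).fromNormalization.app U).hom.Finite := by
  have hU : U = ⊥ := by
    ext x
    simp only [Opens.coe_bot, Set.mem_empty_iff_false, iff_false]
    exact fun hx => hne ⟨x, hx⟩
  subst hU
  haveI : Subsingleton Γ((X.fromSpecStalk (genericPoint X)).normalization,
      (X.fromSpecStalk (genericPoint X)).fromNormalization ⁻¹ᵁ ⊥) := by
    rw [show (X.fromSpecStalk (genericPoint X)).fromNormalization ⁻¹ᵁ ⊥ = ⊥ from rfl]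
    infer_instance
  letI := ((X.fromSpecStalk (genericPoint X)).fromNormalization.app ⊥).hom.toAlgebra
  show Module.Finite Γ(X, ⊥) Γ((X.fromSpecStalk (genericPoint X)).normalization,
      (X.fromSpecStalk (genericPoint X)).fromNormalization ⁻¹ᵁ ⊥)
  exact Module.Finite.of_finite

variable [IsLocallyNoetherian X]

theorem finite_fibre (hdim : topologicalKrullDim X ≤ 1) (x : X) :
    Finite {x' : (X.fromSpecStalk (genericPoint X)).normalization //
      (X.fromSpecStalk (genericPoint X)).fromNormalization x' = x} := by
  obtain ⟨U, hU, hxU⟩ := exists_affine_mem X x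
  have hne : (U : Set X).Nonempty := ⟨x, hxU⟩
  have hV : IsAffineOpen ((X.fromSpecStalk (genericPoint X)).fromNormalization ⁻¹ᵁ U) :=
    hU.preimage _
  letI := ((X.fromSpecStalk (genericPoint X)).fromNormalization.app U).hom.toAlgebra
  obtain ⟨hdom, hinj, hbir, hic⟩ := sections_props X hU hne
  haveI : Nonempty U := ⟨⟨x, hxU⟩⟩
  haveI : IsNoetherianRing Γ(X, U) := IsLocallyNoetherian.component_noetherian ⟨U, hU⟩
  haveI := krullDimLE_one_of_affine X hU hdim
  have hfin := KAExt.finite_fibre hinj hbir (hU.primeIdealOf ⟨x, hxU⟩)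
  haveI := hfin.to_subtype
  have mem : ∀ x' : {x' : (X.fromSpecStalk (genericPoint X)).normalization //
      (X.fromSpecStalk (genericPoint X)).fromNormalization x' = x},
      x'.1 ∈ (X.fromSpecStalk (genericPoint X)).fromNormalization ⁻¹ᵁ U := by
    intro x'
    rw [Scheme.Hom.mem_preimage, x'.2]
    exact hxU
  have hg : ∀ x' : {x' : (X.fromSpecStalk (genericPoint X)).normalization //
      (X.fromSpecStalk (genericPoint X)).fromNormalization x' = x},
      hV.primeIdealOf ⟨x'.1, mem x'⟩ ∈
        (PrimeSpectrum.comap (algebraMap Γ(X, U)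
          Γ((X.fromSpecStalk (genericPoint X)).normalization,
            (X.fromSpecStalk (genericPoint X)).fromNormalization ⁻¹ᵁ U)) ⁻¹'
          {hU.primeIdealOf ⟨x, hxU⟩}) := by
    intro x'
    have h1 := IsAffineOpen.comap_primeIdealOf_appLE
      (f := (X.fromSpecStalk (genericPoint X)).fromNormalization) U hU _ hV le_rfl (mem x')
    have h2 : hU.primeIdealOf ⟨(X.fromSpecStalk (genericPoint X)).fromNormalization x'.1,
        mem x'⟩ = hU.primeIdealOf ⟨x, hxU⟩ := by
      congr 1
      exact Subtype.ext x'.2
    show PrimeSpectrum.comap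
      ((X.fromSpecStalk (genericPoint X)).fromNormalization.app U).hom _ = _
    rw [Scheme.Hom.app_eq_appLE]
    exact h1.trans h2
  refine Finite.of_injective (fun x' => (⟨hV.primeIdealOf ⟨x'.1, mem x'⟩, hg x'⟩ :
    (PrimeSpectrum.comap (algebraMap Γ(X, U)
          Γ((X.fromSpecStalk (genericPoint X)).normalization,
            (X.fromSpecStalk (genericPoint X)).fromNormalization ⁻¹ᵁ U)) ⁻¹'
          {hU.primeIdealOf ⟨x, hxU⟩}))) ?_
  intro x' y' hxy
  have h := congrArg Subtype.val hxy
  have h' := congrArg hV.fromSpec h
  rw [hV.fromSpec_primeIdealOf, hV.fromSpec_primeIdealOf] at h'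
  exact Subtype.ext h'

theorem residue_finite (hdim : topologicalKrullDim X ≤ 1)
    (x' : (X.fromSpecStalk (genericPoint X)).normalization) :
    ((X.fromSpecStalk (genericPoint X)).fromNormalization.residueFieldMap x').hom.Finite := by
  obtain ⟨U, hU, hxU⟩ := exists_affine_mem X
    ((X.fromSpecStalk (genericPoint X)).fromNormalization x')
  have hne : (U : Set X).Nonempty := ⟨_, hxU⟩
  have hV : IsAffineOpen ((X.fromSpecStalk (genericPoint X)).fromNormalization ⁻¹ᵁ U) :=
    hU.preimage _
  letI := ((X.fromSpecStalk (genericPoint X)).fromNormalization.app U).hom.toAlgebra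
  obtain ⟨hdom, hinj, hbir, hic⟩ := sections_props X hU hne
  haveI : Nonempty U := ⟨⟨_, hxU⟩⟩
  haveI : IsNoetherianRing Γ(X, U) := IsLocallyNoetherian.component_noetherian ⟨U, hU⟩
  haveI := krullDimLE_one_of_affine X hU hdim
  refine KAExt.finite_of_residue hinj hbir
    (X.evaluation U ((X.fromSpecStalk (genericPoint X)).fromNormalization x') hxU).hom
    ((X.fromSpecStalk (genericPoint X)).normalization.evaluation
      ((X.fromSpecStalk (genericPoint X)).fromNormalization ⁻¹ᵁ U) x' hxU).hom
    ((X.fromSpecStalk (genericPoint X)).fromNormalization.residueFieldMap x').hom ?_ ?_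
  · have := Scheme.evaluation_naturality
      (X.fromSpecStalk (genericPoint X)).fromNormalization x' hxU
    ext a
    exact congr($(this).hom a)
  · intro z
    obtain ⟨s, rfl⟩ := Scheme.residue_surjective _ x' z
    letI := (X.fromSpecStalk (genericPoint X)).normalization.presheaf.algebra_section_stalk
      (U := (X.fromSpecStalk (genericPoint X)).fromNormalization ⁻¹ᵁ U) ⟨x', hxU⟩
    haveI := hV.isLocalization_stalk ⟨x', hxU⟩
    obtain ⟨⟨b, m⟩, hbm⟩ := IsLocalization.surj (hV.primeIdealOf ⟨x', hxU⟩).asIdeal.primeCompl s
    refine ⟨b, m, ?_, ?_⟩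
    · have hu : IsUnit (algebraMap Γ((X.fromSpecStalk (genericPoint X)).normalization,
          (X.fromSpecStalk (genericPoint X)).fromNormalization ⁻¹ᵁ U)
          ((X.fromSpecStalk (genericPoint X)).normalization.presheaf.stalk x') (m : _)) :=
        IsLocalization.map_units _ m
      exact (hu.map ((X.fromSpecStalk (genericPoint X)).normalization.residue x').hom).ne_zero
    · have := congrArg ((X.fromSpecStalk (genericPoint X)).normalization.residue x').hom hbm
      rw [map_mul] at this
      exact this

theorem isLocallyNoetherian_normalization (hdim : topologicalKrullDim X ≤ 1) :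
    IsLocallyNoetherian (X.fromSpecStalk (genericPoint X)).normalization := by
  let S : {U : X.affineOpens // ((U : X.Opens) : Set X).Nonempty} →
      (X.fromSpecStalk (genericPoint X)).normalization.affineOpens :=
    fun U => ⟨(X.fromSpecStalk (genericPoint X)).fromNormalization ⁻¹ᵁ U.1.1, U.1.2.preimage _⟩
  refine isLocallyNoetherian_of_affine_cover (S := S) ?_ ?_
  · rw [eq_top_iff]
    intro x' _
    obtain ⟨U, hU, hxU⟩ := exists_affine_mem X
      ((X.fromSpecStalk (genericPoint X)).fromNormalization x')
    exact Opens.mem_iSup.2 ⟨⟨⟨U, hU⟩, ⟨_, hxU⟩⟩, hxU⟩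
  · rintro ⟨⟨U, hU⟩, hne⟩
    letI := ((X.fromSpecStalk (genericPoint X)).fromNormalization.app U).hom.toAlgebra
    obtain ⟨hdom, hinj, hbir, hic⟩ := sections_props X hU hne
    haveI : Nonempty U := ⟨⟨_, hne.some_mem⟩⟩
    haveI : IsNoetherianRing Γ(X, U) := IsLocallyNoetherian.component_noetherian ⟨U, hU⟩
    haveI := krullDimLE_one_of_affine X hU hdim
    exact isNoetherianRing_of_bir hinj hbir

theorem isDedekindDomain_sections (hdim : topologicalKrullDim X ≤ 1) {U : X.Opens}
    (hU : IsAffineOpen U) (hne : (U : Set X).Nonempty) :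
    IsDedekindDomain Γ((X.fromSpecStalk (genericPoint X)).normalization,
      (X.fromSpecStalk (genericPoint X)).fromNormalization ⁻¹ᵁ U) := by
  letI := ((X.fromSpecStalk (genericPoint X)).fromNormalization.app U).hom.toAlgebra
  obtain ⟨hdom, hinj, hbir, hic⟩ := sections_props X hU hne
  haveI : Nonempty U := ⟨⟨_, hne.some_mem⟩⟩
  haveI : IsNoetherianRing Γ(X, U) := IsLocallyNoetherian.component_noetherian ⟨U, hU⟩
  haveI := krullDimLE_one_of_affine X hU hdim
  exact isDedekindDomain_of_bir hinj hbir

theorem stalk_isDiscreteValuationRing (hdim : topologicalKrullDim X ≤ 1)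
    (x' : (X.fromSpecStalk (genericPoint X)).normalization)
    (hnf : ¬ IsField ((X.fromSpecStalk (genericPoint X)).normalization.presheaf.stalk x')) :
    IsDiscreteValuationRing ((X.fromSpecStalk (genericPoint X)).normalization.presheaf.stalk x') := by
  obtain ⟨U, hU, hxU⟩ := exists_affine_mem X
    ((X.fromSpecStalk (genericPoint X)).fromNormalization x')
  have hne : (U : Set X).Nonempty := ⟨_, hxU⟩
  have hV : IsAffineOpen ((X.fromSpecStalk (genericPoint X)).fromNormalization ⁻¹ᵁ U) :=
    hU.preimage _
  haveI := isDedekindDomain_sections X hdim hU hne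
  letI := (X.fromSpecStalk (genericPoint X)).normalization.presheaf.algebra_section_stalk
    (U := (X.fromSpecStalk (genericPoint X)).fromNormalization ⁻¹ᵁ U) ⟨x', hxU⟩
  haveI := hV.isLocalization_stalk ⟨x', hxU⟩
  have hq : (hV.primeIdealOf ⟨x', hxU⟩).asIdeal ≠ ⊥ := fun h =>
    hnf (isField_of_atPrime_eq_bot (hV.primeIdealOf ⟨x', hxU⟩).asIdeal h)
  exact IsLocalization.AtPrime.isDiscreteValuationRing_of_dedekind_domain _ hq _

theorem isDedekindDomain_of_affine (hdim : topologicalKrullDim X ≤ 1)
    (W : (X.fromSpecStalk (genericPoint X)).normalization.affineOpens)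
    (hW : ((W : (X.fromSpecStalk (genericPoint X)).normalization.Opens) :
      Set (X.fromSpecStalk (genericPoint X)).normalization).Nonempty) :
    IsDedekindDomain Γ((X.fromSpecStalk (genericPoint X)).normalization,
      (W : (X.fromSpecStalk (genericPoint X)).normalization.Opens)) := by
  haveI := isLocallyNoetherian_normalization X hdim
  haveI : Nonempty (W : (X.fromSpecStalk (genericPoint X)).normalization.Opens) :=
    ⟨⟨_, hW.some_mem⟩⟩
  haveI : IsNoetherianRing Γ((X.fromSpecStalk (genericPoint X)).normalization,
      (W : (X.fromSpecStalk (genericPoint X)).normalization.Opens)) :=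
    IsLocallyNoetherian.component_noetherian W
  haveI : IsDedekindDomainDvr Γ((X.fromSpecStalk (genericPoint X)).normalization,
      (W : (X.fromSpecStalk (genericPoint X)).normalization.Opens)) :=
    { toIsNoetherian := inferInstance
      is_dvr_at_nonzero_prime := by
        intro P hP hprime
        have hy : W.2.fromSpec ⟨P, hprime⟩ ∈
            (W : (X.fromSpecStalk (genericPoint X)).normalization.Opens) := by
          rw [← SetLike.mem_coe, ← W.2.range_fromSpec]
          exact ⟨_, rfl⟩
        letI := (X.fromSpecStalk (genericPoint X)).normalization.presheaf.algebra_section_stalk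
          (U := (W : (X.fromSpecStalk (genericPoint X)).normalization.Opens))
          ⟨W.2.fromSpec ⟨P, hprime⟩, hy⟩
        haveI hloc : IsLocalization.AtPrime
            ((X.fromSpecStalk (genericPoint X)).normalization.presheaf.stalk
              (W.2.fromSpec ⟨P, hprime⟩)) P := W.2.isLocalization_stalk' ⟨P, hprime⟩ hy
        have hnf := IsLocalization.AtPrime.not_isField _ hP
          ((X.fromSpecStalk (genericPoint X)).normalization.presheaf.stalk
            (W.2.fromSpec ⟨P, hprime⟩))
        haveI := stalk_isDiscreteValuationRing X hdim _ hnf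
        exact IsDiscreteValuationRing.RingEquivClass.isDiscreteValuationRing
          (IsLocalization.algEquiv P.primeCompl
            ((X.fromSpecStalk (genericPoint X)).normalization.presheaf.stalk
              (W.2.fromSpec ⟨P, hprime⟩)) (Localization.AtPrime P)) }
  exact IsDedekindDomainDvr.isDedekindDomain _

end Groth.Agent.Lib.Helper12.NormAff
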