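import Mathlib
import Groth.Agent.Lib.Helper12.NormAff
import Groth.Agent.Lib.Helper12.N2Field

/-! Normalization of an integral scheme in a finite extension of its function field; bridge from
"locally of finite type over a field" to N-2 of coordinate rings; the open locus where the
normalization is an isomorphism. -/

set_option autoImplicit false

namespace Groth.Agent.Lib.Helper12.NormGen

open AlgebraicGeometry CategoryTheory TopologicalSpace Opposite Function
open Groth.Agent.Lib.Helper12.KAExt Groth.Agent.Lib.Helper12.N2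

universe u

section Alg

theorem finite_of_ringEquiv {A B C : Type*} [CommRing A] [CommRing B] [CommRing C] [Algebra A B]
    (ρ : A →+* C) (E : C ≃+* B) (hE : ∀ a, E (ρ a) = algebraMap A B a) [Module.Finite A B] :
    ρ.Finite := by
  have hcomp : ρ = (E.symm : B →+* C).comp (algebraMap A B) := by
    ext a
    show _ = E.symm (algebraMap A B a)
    rw [← hE a, E.symm_apply_apply]
  rw [hcomp]
  exact RingHom.Finite.comp (RingHom.Finite.of_surjective _ E.symm.surjective)
    (RingHom.finite_algebraMap.2 inferInstance)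

theorem integralClosure_field_props (A K : Type u) [CommRing A] [IsDomain A] [Field K]
    [Algebra A K] (hinj : Injective (algebraMap A K)) (hfg : FinGen A K) :
    IsIntegrallyClosed (integralClosure A K) ∧
      Injective (algebraMap A (integralClosure A K)) := by
  letI : Algebra (FractionRing A) K := (IsFractionRing.lift hinj).toAlgebra
  haveI : IsScalarTower A (FractionRing A) K :=
    IsScalarTower.of_algebraMap_eq (fun x => (IsFractionRing.lift_algebraMap hinj x).symm)
  haveI : FiniteDimensional (FractionRing A) K :=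
    finiteDimensional_of_finGen A (FractionRing A) K hfg
  refine ⟨integralClosure.isIntegrallyClosedOfFiniteExtension (FractionRing A), ?_⟩
  intro a b h
  apply hinj
  exact congrArg Subtype.val h

/-- A birational integral extension of an integrally closed domain is trivial. -/
theorem surjective_of_isIntegrallyClosed {A B : Type*} [CommRing A] [IsDomain A] [CommRing B]
    [IsDomain B] [Algebra A B] (hinj : Injective (algebraMap A B)) (hbir : Bir A B)
    [Algebra.IsIntegral A B] [IsIntegrallyClosed A] : Surjective (algebraMap A B) := by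
  intro b
  haveI := isFractionRing_of_bir hinj hbir (FractionRing B)
  have hb : IsIntegral A (algebraMap B (FractionRing B) b) :=
    (Algebra.IsIntegral.isIntegral (R := A) b).algebraMap
  obtain ⟨y, hy⟩ := IsIntegrallyClosed.algebraMap_eq_of_integral hb
  refine ⟨y, IsFractionRing.injective B (FractionRing B) ?_⟩
  rw [← hy, IsScalarTower.algebraMap_apply A B (FractionRing B)]

theorem exists_conductor {A B : Type*} [CommRing A] [IsDomain A] [CommRing B] [Algebra A B]
    (hbir : Bir A B) [Module.Finite A B] :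
    ∃ s : A, s ≠ 0 ∧ ∀ b : B, ∃ a : A, algebraMap A B a = algebraMap A B s * b := by
  classical
  obtain ⟨t, ht⟩ := (Module.Finite.fg_top : (⊤ : Submodule A B).FG)
  choose a a' ha h using hbir
  refine ⟨∏ i ∈ t, a i, Finset.prod_ne_zero_iff.2 (fun i _ => ha i), ?_⟩
  have key : (⊤ : Submodule A B) ≤ (LinearMap.range (Algebra.linearMap A B)).comap
      (LinearMap.lsmul A B (∏ i ∈ t, a i)) := by
    rw [← ht, Submodule.span_le]
    intro i hi
    show (∏ i ∈ t, a i) • i ∈ LinearMap.range (Algebra.linearMap A B)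
    refine ⟨(∏ j ∈ t.erase i, a j) * a' i, ?_⟩
    calc algebraMap A B ((∏ j ∈ t.erase i, a j) * a' i)
        = algebraMap A B (∏ j ∈ t.erase i, a j) * (algebraMap A B (a i) * i) := by
          rw [map_mul, h i]
      _ = algebraMap A B (a i * ∏ j ∈ t.erase i, a j) * i := by rw [map_mul]; ring
      _ = (∏ i ∈ t, a i) • i := by rw [Finset.mul_prod_erase t a hi, Algebra.smul_def]
  intro b
  obtain ⟨c, hc⟩ := key (Submodule.mem_top : b ∈ ⊤)
  exact ⟨c, hc.trans (Algebra.smul_def _ b)⟩

theorem isIntegrallyClosed_away {A B : Type*} [CommRing A] [IsDomain A] [CommRing B] [IsDomain B]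
    [Algebra A B] (hinj : Injective (algebraMap A B)) (hbir : Bir A B) [IsIntegrallyClosed B]
    (s : A) (hs0 : s ≠ 0) (hs : ∀ b : B, ∃ a : A, algebraMap A B a = algebraMap A B s * b)
    (A' : Type*) [CommRing A'] [Algebra A A'] [IsLocalization.Away s A'] :
    IsIntegrallyClosed A' := by
  haveI : IsFractionRing A (FractionRing B) := isFractionRing_of_bir hinj hbir (FractionRing B)
  have hM : Submonoid.powers s ≤ nonZeroDivisors A := by
    rw [Submonoid.powers_le]
    exact mem_nonZeroDivisors_of_ne_zero hs0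
  haveI : IsDomain A' := IsLocalization.isDomain_of_le_nonZeroDivisors A' hM
  have hunits : ∀ y : Submonoid.powers s, IsUnit (algebraMap A (FractionRing B) y) := by
    intro y
    refine IsUnit.mk0 _ ?_
    rw [Ne, map_eq_zero_iff _ (IsFractionRing.injective A (FractionRing B))]
    exact nonZeroDivisors.ne_zero (hM y.2)
  letI : Algebra A' (FractionRing B) := (IsLocalization.lift hunits).toAlgebra
  haveI : IsScalarTower A A' (FractionRing B) :=
    IsScalarTower.of_algebraMap_eq (fun x => (IsLocalization.lift_eq hunits x).symm)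
  haveI : IsFractionRing A' (FractionRing B) :=
    IsFractionRing.isFractionRing_of_isDomain_of_isLocalization (Submonoid.powers s) A'
      (FractionRing B)
  refine (isIntegrallyClosed_iff (FractionRing B)).2 fun {x} hx => ?_
  obtain ⟨⟨_, n, rfl⟩, hm⟩ :=
    IsIntegral.exists_multiple_integral_of_isLocalization (Submonoid.powers s) x hx
  rw [Submonoid.smul_def] at hm
  have hmB : IsIntegral B ((s ^ n) • x) := hm.tower_top
  obtain ⟨b, hb⟩ := IsIntegrallyClosed.algebraMap_eq_of_integral hmB
  obtain ⟨a, ha⟩ := hs b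
  have hsn : algebraMap A (FractionRing B) (s ^ (n + 1)) ≠ 0 := by
    rw [Ne, map_eq_zero_iff _ (IsFractionRing.injective A (FractionRing B))]
    exact pow_ne_zero _ hs0
  refine ⟨IsLocalization.mk' A' a (⟨s ^ (n + 1), n + 1, rfl⟩ : Submonoid.powers s), ?_⟩
  apply mul_right_cancel₀ hsn
  have h1 := IsLocalization.mk'_spec A' a (⟨s ^ (n + 1), n + 1, rfl⟩ : Submonoid.powers s)
  have h2 := congrArg (algebraMap A' (FractionRing B)) h1
  rw [map_mul, ← IsScalarTower.algebraMap_apply A A' (FractionRing B),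
    ← IsScalarTower.algebraMap_apply A A' (FractionRing B)] at h2
  rw [h2, IsScalarTower.algebraMap_apply A B (FractionRing B) a, ha, map_mul, hb,
    ← IsScalarTower.algebraMap_apply A B (FractionRing B), Algebra.smul_def, pow_succ, map_mul]
  ring

end Alg

section Generic

variable {X Y : Scheme.{u}} (f : Y ⟶ X) [QuasiCompact f] [QuasiSeparated f]

/-- Sections of the relative normalization over the preimage of an affine open: the integral
closure. -/
theorem exists_ringEquiv {U : X.Opens} (hU : IsAffineOpen U) :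
    letI := (f.app U).hom.toAlgebra
    ∃ E : Γ(f.normalization, f.fromNormalization ⁻¹ᵁ U) ≃+*
        integralClosure Γ(X, U) Γ(Y, f ⁻¹ᵁ U),
      ∀ a : Γ(X, U), E ((f.fromNormalization.app U).hom a) = algebraMap Γ(X, U) _ a := by
  letI := (f.app U).hom.toAlgebra
  refine ⟨(f.normalizationObjIso hU).commRingCatIsoToRingEquiv, fun a => ?_⟩
  show (f.normalizationObjIso hU).hom.hom ((f.fromNormalization.app U).hom a) = _
  rw [Scheme.Hom.fromNormalization_app _ hU]
  simp

theorem exists_ringEquiv_of_equiv {U : X.Opens} (hU : IsAffineOpen U) {K : Type u} [CommRing K]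
    (e : Γ(Y, f ⁻¹ᵁ U) ≃+* K) :
    letI := ((e : Γ(Y, f ⁻¹ᵁ U) →+* K).comp (f.app U).hom).toAlgebra
    ∃ E : Γ(f.normalization, f.fromNormalization ⁻¹ᵁ U) ≃+* integralClosure Γ(X, U) K,
      ∀ a : Γ(X, U), E ((f.fromNormalization.app U).hom a) = algebraMap Γ(X, U) _ a := by
  letI := (f.app U).hom.toAlgebra
  letI := ((e : Γ(Y, f ⁻¹ᵁ U) →+* K).comp (f.app U).hom).toAlgebra
  obtain ⟨E, hE⟩ := exists_ringEquiv f hU
  let e' : Γ(Y, f ⁻¹ᵁ U) ≃ₐ[Γ(X, U)] K := AlgEquiv.ofRingEquiv (f := e) (fun a => rfl)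
  refine ⟨E.trans (AlgEquiv.mapIntegralClosure e').toRingEquiv, fun a => ?_⟩
  show (AlgEquiv.mapIntegralClosure e') (E _) = _
  rw [hE]
  exact (AlgEquiv.mapIntegralClosure e').commutes a

theorem app_finite_of_empty {U : X.Opens} (hne : ¬ (U : Set X).Nonempty) :
    (f.fromNormalization.app U).hom.Finite := by
  have hU : U = ⊥ := by
    ext x
    simp only [Opens.coe_bot, Set.mem_empty_iff_false, iff_false]
    exact fun hx => hne ⟨x, hx⟩
  subst hU
  haveI : Subsingleton Γ(f.normalization, f.fromNormalization ⁻¹ᵁ ⊥) := by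
    rw [show f.fromNormalization ⁻¹ᵁ ⊥ = ⊥ from rfl]
    infer_instance
  letI := (f.fromNormalization.app ⊥).hom.toAlgebra
  show Module.Finite Γ(X, ⊥) Γ(f.normalization, f.fromNormalization ⁻¹ᵁ ⊥)
  exact Module.Finite.of_finite

end Generic

section FiniteType

/-- Coordinate rings of affine opens of a scheme locally of finite type over a field are of finite
type over the field. -/
theorem exists_finiteType (k : Type u) [Field k] {X : Scheme.{u}}
    (f : X ⟶ Spec (CommRingCat.of k)) [LocallyOfFiniteType f] {U : X.Opens}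
    (hU : IsAffineOpen U) : ∃ φ : k →+* Γ(X, U), φ.FiniteType := by
  refine ⟨(f.appLE ⊤ U le_top).hom.comp (Scheme.ΓSpecIso (CommRingCat.of k)).inv.hom, ?_⟩
  have h1 : (f.appLE ⊤ U le_top).hom.FiniteType :=
    HasRingHomProperty.appLE (P := @LocallyOfFiniteType) f inferInstance
      ⟨⊤, isAffineOpen_top _⟩ ⟨U, hU⟩ le_top
  refine RingHom.FiniteType.comp h1 (RingHom.FiniteType.of_surjective _ ?_)
  exact (Scheme.ΓSpecIso (CommRingCat.of k)).symm.commRingCatIsoToRingEquiv.surjective

theorem N2'_sections (k : Type u) [Field k] {X : Scheme.{u}} [IsIntegral X]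
    (f : X ⟶ Spec (CommRingCat.of k)) [LocallyOfFiniteType f] {U : X.Opens}
    (hU : IsAffineOpen U) (hne : (U : Set X).Nonempty) :
    N2' Γ(X, U) := by
  haveI : Nonempty U := ⟨⟨_, hne.some_mem⟩⟩
  obtain ⟨φ, hφ⟩ := exists_finiteType k f hU
  letI := φ.toAlgebra
  haveI : Algebra.FiniteType k Γ(X, U) := hφ
  exact N2'_of_finiteType k Γ(X, U)

theorem isNoetherianRing_sections (k : Type u) [Field k] {X : Scheme.{u}}
    (f : X ⟶ Spec (CommRingCat.of k)) [LocallyOfFiniteType f] {U : X.Opens}
    (hU : IsAffineOpen U) : IsNoetherianRing Γ(X, U) := by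
  obtain ⟨φ, hφ⟩ := exists_finiteType k f hU
  letI := φ.toAlgebra
  haveI : Algebra.FiniteType k Γ(X, U) := hφ
  exact Algebra.FiniteType.isNoetherianRing k Γ(X, U)

/-- For an integral scheme locally of finite type over a field whose local rings at closed points
are one-dimensional, every affine coordinate ring has all nonzero primes maximal. -/
theorem dimensionLEOne_sections (k : Type u) [Field k] {X : Scheme.{u}} [IsIntegral X]
    (f : X ⟶ Spec (CommRingCat.of k)) [LocallyOfFiniteType f]
    (hX : ∀ x : X, IsClosed ({x} : Set X) → ringKrullDim (X.presheaf.stalk x) = 1)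
    {U : X.Opens} (hU : IsAffineOpen U) (hne : (U : Set X).Nonempty) :
    Ring.DimensionLEOne Γ(X, U) := by
  haveI : JacobsonSpace X := LocallyOfFiniteType.jacobsonSpace f
  haveI : Nonempty U := ⟨⟨_, hne.some_mem⟩⟩
  have hdim : ringKrullDim Γ(X, U) ≤ 1 := by
    rw [ringKrullDim_le_iff_isMaximal_height_le]
    intro m hm
    haveI := hm.isPrime
    let y : PrimeSpectrum Γ(X, U) := ⟨m, hm.isPrime⟩
    have hyU : hU.fromSpec y ∈ U := by
      have := Set.mem_range_self (f := hU.fromSpec) y
      rw [hU.range_fromSpec] at this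
      exact this
    have hcl : IsClosed ({hU.fromSpec y} : Set X) := by
      apply isClosed_singleton_of_isLocallyClosed_singleton
      have h1 : IsClosed ({y} : Set (PrimeSpectrum Γ(X, U))) :=
        (PrimeSpectrum.isClosed_singleton_iff_isMaximal y).2 hm
      have := h1.isLocallyClosed.image hU.fromSpec.isOpenEmbedding.isInducing
        hU.fromSpec.isOpenEmbedding.isOpen_range.isLocallyClosed
      rwa [Set.image_singleton] at this
    have h1 := hX _ hcl
    letI := TopCat.Presheaf.algebra_section_stalk X.presheaf ⟨hU.fromSpec y, hyU⟩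
    haveI : IsLocalization.AtPrime (X.presheaf.stalk (hU.fromSpec y)) m :=
      hU.isLocalization_stalk' y hyU
    rw [IsLocalization.AtPrime.ringKrullDim_eq_height m] at h1
    exact h1.le
  haveI : Ring.KrullDimLE 1 Γ(X, U) := Ring.krullDimLE_iff.2 (by exact_mod_cast hdim)
  exact ⟨fun {p} hp hprime => Ring.krullDimLE_one_iff_of_noZeroDivisors.mp ‹_› p hp hprime⟩

end FiniteType

section FieldExt

variable (X : Scheme.{u}) [IsIntegral X] {K : Type u} [Field K] (φ : X.functionField →+* K)

/-- The morphism from the spectrum of an extension of the function field. -/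
noncomputable abbrev gmor : Spec (CommRingCat.of K) ⟶ X :=
  Spec.map (CommRingCat.ofHom φ) ≫ X.fromSpecStalk (genericPoint X)

theorem gmor_specializes (s : Spec (CommRingCat.of K)) : (gmor X φ) s ⤳ genericPoint X := by
  have := Set.mem_range_self (f := (X.fromSpecStalk (genericPoint X)))
    ((Spec.map (CommRingCat.ofHom φ)) s)
  rw [Scheme.range_fromSpecStalk] at this
  exact this

theorem gmor_preimage_eq_top {U : X.Opens} (hne : (U : Set X).Nonempty) :
    (gmor X φ) ⁻¹ᵁ U = ⊤ := by
  refine eq_top_iff.2 fun s _ => ?_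
  rw [Scheme.Hom.mem_preimage]
  exact (gmor_specializes X φ s).mem_open U.2 (NormAff.genericPoint_mem X hne)

theorem gmor_app_eq {U : X.Opens} (hne : (U : Set X).Nonempty) :
    (gmor X φ).app U = X.presheaf.germ U (genericPoint X) (NormAff.genericPoint_mem X hne) ≫
      CommRingCat.ofHom φ ≫ (Scheme.ΓSpecIso (CommRingCat.of K)).inv ≫
        (Spec (CommRingCat.of K)).presheaf.map
          (homOfLE (le_top : (gmor X φ) ⁻¹ᵁ U ≤ ⊤)).op := by
  have hη := NormAff.genericPoint_mem X hne
  show (X.fromSpecStalk (genericPoint X)).app U ≫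
    (Spec.map (CommRingCat.ofHom φ)).app ((X.fromSpecStalk (genericPoint X)) ⁻¹ᵁ U) = _
  rw [Scheme.fromSpecStalk_app hη]
  simp only [Category.assoc]
  congr 1
  rw [Scheme.Hom.naturality, ← Category.assoc]
  erw [← Scheme.ΓSpecIso_inv_naturality (CommRingCat.ofHom φ)]
  exact Category.assoc _ _ _

variable [QuasiCompact (gmor X φ)] [QuasiSeparated (gmor X φ)]

theorem affine_model (hφ : φ.Finite) {U : X.Opens} (hU : IsAffineOpen U)
    (hne : (U : Set X).Nonempty) :
    ∃ ψ : Γ(X, U) →+* K, Injective ψ ∧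
      (letI := ψ.toAlgebra
       FinGen Γ(X, U) K ∧
       ∃ E : Γ((gmor X φ).normalization, (gmor X φ).fromNormalization ⁻¹ᵁ U) ≃+*
          integralClosure Γ(X, U) K,
         ∀ a : Γ(X, U), E (((gmor X φ).fromNormalization.app U).hom a) =
          algebraMap Γ(X, U) _ a) := by
  have htop : (gmor X φ) ⁻¹ᵁ U = ⊤ := gmor_preimage_eq_top X φ hne
  have hiso : IsIso ((Spec (CommRingCat.of K)).presheaf.map
      (homOfLE (le_top : (gmor X φ) ⁻¹ᵁ U ≤ ⊤)).op) := by
    have : homOfLE (le_top : (gmor X φ) ⁻¹ᵁ U ≤ ⊤) = eqToHom htop := Subsingleton.elim _ _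
    rw [this]; infer_instance
  let g0 : CommRingCat.of K ⟶ Γ(Spec (CommRingCat.of K), (gmor X φ) ⁻¹ᵁ U) :=
    (Scheme.ΓSpecIso (CommRingCat.of K)).inv ≫
      (Spec (CommRingCat.of K)).presheaf.map (homOfLE le_top).op
  haveI : IsIso g0 := by dsimp only [g0]; infer_instance
  let e : Γ(Spec (CommRingCat.of K), (gmor X φ) ⁻¹ᵁ U) ≃+* K :=
    (asIso g0).symm.commRingCatIsoToRingEquiv
  let ψ : Γ(X, U) →+* K :=
    (e : Γ(Spec (CommRingCat.of K), (gmor X φ) ⁻¹ᵁ U) →+* K).comp ((gmor X φ).app U).hom
  -- factorization through the function field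
  letI algF := ((X.fromSpecStalk (genericPoint X)).app U).hom.toAlgebra
  haveI hfr := NormAff.isFractionRing_app X hU hne
  haveI : Nonempty U := ⟨⟨_, hne.some_mem⟩⟩
  have hVaff : IsAffineOpen ((X.fromSpecStalk (genericPoint X)) ⁻¹ᵁ U) := by
    rw [NormAff.preimage_eq_top X hne]; exact isAffineOpen_top _
  haveI : IsFinite (Spec.map (CommRingCat.ofHom φ)) := (IsFinite.SpecMap_iff _).2 hφ
  have hρ : ((Spec.map (CommRingCat.ofHom φ)).app
      ((X.fromSpecStalk (genericPoint X)) ⁻¹ᵁ U)).hom.Finite :=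
    IsFinite.finite_app (f := Spec.map (CommRingCat.ofHom φ)) _ hVaff
  let σ : Γ(Spec (X.presheaf.stalk (genericPoint X)),
      (X.fromSpecStalk (genericPoint X)) ⁻¹ᵁ U) →+* K :=
    (e : Γ(Spec (CommRingCat.of K), (gmor X φ) ⁻¹ᵁ U) →+* K).comp
      ((Spec.map (CommRingCat.ofHom φ)).app ((X.fromSpecStalk (genericPoint X)) ⁻¹ᵁ U)).hom
  have hσ : σ.Finite := RingHom.Finite.comp (RingHom.Finite.of_surjective _ e.surjective) hρ
  have hψσ : ∀ a, ψ a = σ (algebraMap Γ(X, U) _ a) := fun a => rfl
  letI fldF : Field Γ(Spec (X.presheaf.stalk (genericPoint X)),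
      (X.fromSpecStalk (genericPoint X)) ⁻¹ᵁ U) := IsFractionRing.toField Γ(X, U)
  have hinj : Injective ψ := by
    intro a b hab
    rw [hψσ, hψσ] at hab
    exact IsFractionRing.injective Γ(X, U) _ (σ.injective hab)
  refine ⟨ψ, hinj, ?_⟩
  letI algK := ψ.toAlgebra
  refine ⟨?_, exists_ringEquiv_of_equiv (gmor X φ) hU e⟩
  letI algFK : Algebra Γ(Spec (X.presheaf.stalk (genericPoint X)),
      (X.fromSpecStalk (genericPoint X)) ⁻¹ᵁ U) K := σ.toAlgebra
  haveI : IsScalarTower Γ(X, U) Γ(Spec (X.presheaf.stalk (genericPoint X)),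
      (X.fromSpecStalk (genericPoint X)) ⁻¹ᵁ U) K :=
    IsScalarTower.of_algebraMap_eq (fun a => hψσ a)
  haveI : FiniteDimensional Γ(Spec (X.presheaf.stalk (genericPoint X)),
      (X.fromSpecStalk (genericPoint X)) ⁻¹ᵁ U) K := hσ
  exact finGen_of_finiteDimensional Γ(X, U) Γ(Spec (X.presheaf.stalk (genericPoint X)),
      (X.fromSpecStalk (genericPoint X)) ⁻¹ᵁ U) K

theorem sections_props (hφ : φ.Finite) {U : X.Opens} (hU : IsAffineOpen U)
    (hne : (U : Set X).Nonempty) :
    IsDomain Γ((gmor X φ).normalization, (gmor X φ).fromNormalization ⁻¹ᵁ U) ∧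
    IsIntegrallyClosed Γ((gmor X φ).normalization, (gmor X φ).fromNormalization ⁻¹ᵁ U) ∧
    (Ring.DimensionLEOne Γ(X, U) →
      Ring.DimensionLEOne Γ((gmor X φ).normalization, (gmor X φ).fromNormalization ⁻¹ᵁ U)) ∧
    Injective ((gmor X φ).fromNormalization.app U).hom := by
  obtain ⟨ψ, hinj, h⟩ := affine_model X φ hφ hU hne
  letI := ψ.toAlgebra
  obtain ⟨hfg, E, hE⟩ := h
  haveI : Nonempty U := ⟨⟨_, hne.some_mem⟩⟩
  obtain ⟨hic, hinjB⟩ := integralClosure_field_props Γ(X, U) K hinj hfg
  refine ⟨Function.Injective.isDomain E.toRingHom E.injective, IsIntegrallyClosed.of_equiv E.symm,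
    fun hd => ?_, ?_⟩
  · haveI := hd
    exact Ring.DimensionLEOne.of_ringEquiv E
  · intro a b hab
    apply hinjB
    rw [← hE, ← hE, hab]

theorem isFinite_fromNormalization (hφ : φ.Finite)
    (hN : ∀ U : X.Opens, IsAffineOpen U → (U : Set X).Nonempty → N2' Γ(X, U)) :
    IsFinite (gmor X φ).fromNormalization := by
  refine { toIsAffineHom := inferInstance, finite_app := fun U hU => ?_ }
  by_cases hne : (U : Set X).Nonempty
  · obtain ⟨ψ, hinj, h⟩ := affine_model X φ hφ hU hne
    letI := ψ.toAlgebra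
    obtain ⟨hfg, E, hE⟩ := h
    haveI : Module.Finite Γ(X, U) (integralClosure Γ(X, U) K) := hN U hU hne K hinj hfg
    exact finite_of_ringEquiv _ E hE
  · exact app_finite_of_empty _ hne

theorem stalk_normal (hφ : φ.Finite) (x' : (gmor X φ).normalization) :
    IsDomain ((gmor X φ).normalization.presheaf.stalk x') ∧
      IsIntegrallyClosed ((gmor X φ).normalization.presheaf.stalk x') := by
  obtain ⟨U, hU, hxU⟩ := NormAff.exists_affine_mem X ((gmor X φ).fromNormalization x')
  have hne : (U : Set X).Nonempty := ⟨_, hxU⟩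
  have hV : IsAffineOpen ((gmor X φ).fromNormalization ⁻¹ᵁ U) := hU.preimage _
  obtain ⟨hdom, hic, -, -⟩ := sections_props X φ hφ hU hne
  letI := (gmor X φ).normalization.presheaf.algebra_section_stalk
    (U := (gmor X φ).fromNormalization ⁻¹ᵁ U) ⟨x', hxU⟩
  haveI := hV.isLocalization_stalk ⟨x', hxU⟩
  exact ⟨IsLocalization.isDomain_of_le_nonZeroDivisors _
      (Ideal.primeCompl_le_nonZeroDivisors (hV.primeIdealOf ⟨x', hxU⟩).asIdeal),
    isIntegrallyClosed_of_isLocalization _
      (hV.primeIdealOf ⟨x', hxU⟩).asIdeal.primeCompl (Ideal.primeCompl_le_nonZeroDivisors _)⟩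

theorem stalk_dim_eq_one (hφ : φ.Finite)
    (hdimX : ∀ U : X.Opens, IsAffineOpen U → (U : Set X).Nonempty →
      Ring.DimensionLEOne Γ(X, U))
    (x' : (gmor X φ).normalization)
    (hx : ringKrullDim (X.presheaf.stalk ((gmor X φ).fromNormalization x')) = 1) :
    ringKrullDim ((gmor X φ).normalization.presheaf.stalk x') = 1 := by
  obtain ⟨U, hU, hxU⟩ := NormAff.exists_affine_mem X ((gmor X φ).fromNormalization x')
  have hne : (U : Set X).Nonempty := ⟨_, hxU⟩
  have hV : IsAffineOpen ((gmor X φ).fromNormalization ⁻¹ᵁ U) := hU.preimage _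
  obtain ⟨hdom, hic, hdim', hinj⟩ := sections_props X φ hφ hU hne
  haveI : Nonempty U := ⟨⟨_, hxU⟩⟩
  haveI := hdom
  haveI : Ring.DimensionLEOne
      Γ((gmor X φ).normalization, (gmor X φ).fromNormalization ⁻¹ᵁ U) := hdim' (hdimX U hU hne)
  have hpq : (hV.primeIdealOf ⟨x', hxU⟩).asIdeal.comap ((gmor X φ).fromNormalization.app U).hom =
      (hU.primeIdealOf ⟨(gmor X φ).fromNormalization x', hxU⟩).asIdeal := by
    have := IsAffineOpen.comap_primeIdealOf_appLE (f := (gmor X φ).fromNormalization) (x := x')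
      U hU ((gmor X φ).fromNormalization ⁻¹ᵁ U) hV le_rfl hxU
    rw [Scheme.Hom.appLE_eq_app] at this
    exact congrArg PrimeSpectrum.asIdeal this
  -- height of p
  have hp1 : (hU.primeIdealOf ⟨(gmor X φ).fromNormalization x', hxU⟩).asIdeal.height = 1 := by
    letI := X.presheaf.algebra_section_stalk (U := U) ⟨(gmor X φ).fromNormalization x', hxU⟩
    haveI := hU.isLocalization_stalk ⟨(gmor X φ).fromNormalization x', hxU⟩
    rw [IsLocalization.AtPrime.ringKrullDim_eq_height
      (hU.primeIdealOf ⟨(gmor X φ).fromNormalization x', hxU⟩).asIdeal] at hx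
    exact_mod_cast hx
  have hp0 : (hU.primeIdealOf ⟨(gmor X φ).fromNormalization x', hxU⟩).asIdeal ≠ ⊥ :=
    Ideal.ne_bot_of_height_eq_one hp1
  have hq0 : (hV.primeIdealOf ⟨x', hxU⟩).asIdeal ≠ ⊥ := by
    intro h0
    apply hp0
    rw [← hpq, h0]
    exact Ideal.comap_bot_of_injective _ hinj
  have hq1 : (hV.primeIdealOf ⟨x', hxU⟩).asIdeal.height = 1 := by
    refine le_antisymm ?_ (ENat.one_le_iff_ne_zero.2 ?_)
    · have h1 : ((hV.primeIdealOf ⟨x', hxU⟩).asIdeal.height : WithBot ℕ∞) ≤
          ringKrullDim Γ((gmor X φ).normalization, (gmor X φ).fromNormalization ⁻¹ᵁ U) :=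
        Ideal.height_le_ringKrullDim_of_isPrime
      have h2 : ringKrullDim Γ((gmor X φ).normalization, (gmor X φ).fromNormalization ⁻¹ᵁ U) ≤
          ((1 : ℕ) : WithBot ℕ∞) := Ring.krullDimLE_iff.1 inferInstance
      exact_mod_cast h1.trans h2
    · rw [Ne, Ideal.height_eq_zero_iff_eq_bot]
      exact hq0
  letI := (gmor X φ).normalization.presheaf.algebra_section_stalk
    (U := (gmor X φ).fromNormalization ⁻¹ᵁ U) ⟨x', hxU⟩
  haveI := hV.isLocalization_stalk ⟨x', hxU⟩
  rw [IsLocalization.AtPrime.ringKrullDim_eq_height (hV.primeIdealOf ⟨x', hxU⟩).asIdeal, hq1]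
  rfl

theorem exists_ringEquiv_congr {A B' K' : Type*} [CommRing A] [CommRing B'] [CommRing K']
    (ρ : A →+* B') (ψ₁ ψ₂ : A →+* K') (h : ψ₁ = ψ₂)
    (H : letI := ψ₁.toAlgebra
      ∃ E : B' ≃+* integralClosure A K', ∀ a : A, E (ρ a) = algebraMap A _ a) :
    letI := ψ₂.toAlgebra
    ∃ E : B' ≃+* integralClosure A K', ∀ a : A, E (ρ a) = algebraMap A _ a := by
  subst h
  exact H

/-- The sections of the normalization in `K` over an affine open, with the algebra structure on
`K` given explicitly by `φ` composed with the germ map. -/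
theorem affine_model' {U : X.Opens} (hU : IsAffineOpen U) (hne : (U : Set X).Nonempty) :
    letI := (φ.comp (X.presheaf.germ U (genericPoint X)
      (NormAff.genericPoint_mem X hne)).hom).toAlgebra
    ∃ E : Γ((gmor X φ).normalization, (gmor X φ).fromNormalization ⁻¹ᵁ U) ≃+*
        integralClosure Γ(X, U) K,
      ∀ a : Γ(X, U), E (((gmor X φ).fromNormalization.app U).hom a) =
        algebraMap Γ(X, U) _ a := by
  have htop : (gmor X φ) ⁻¹ᵁ U = ⊤ := gmor_preimage_eq_top X φ hne
  have hiso : IsIso ((Spec (CommRingCat.of K)).presheaf.map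
      (homOfLE (le_top : (gmor X φ) ⁻¹ᵁ U ≤ ⊤)).op) := by
    have : homOfLE (le_top : (gmor X φ) ⁻¹ᵁ U ≤ ⊤) = eqToHom htop := Subsingleton.elim _ _
    rw [this]; infer_instance
  let g0 : CommRingCat.of K ⟶ Γ(Spec (CommRingCat.of K), (gmor X φ) ⁻¹ᵁ U) :=
    (Scheme.ΓSpecIso (CommRingCat.of K)).inv ≫
      (Spec (CommRingCat.of K)).presheaf.map (homOfLE le_top).op
  haveI : IsIso g0 := by dsimp only [g0]; infer_instance
  let e : Γ(Spec (CommRingCat.of K), (gmor X φ) ⁻¹ᵁ U) ≃+* K :=
    (asIso g0).symm.commRingCatIsoToRingEquiv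
  refine exists_ringEquiv_congr _ _ _ ?_ (exists_ringEquiv_of_equiv (gmor X φ) hU e)
  ext a
  have h1 := congr($(gmor_app_eq X φ hne).hom a)
  show e (((gmor X φ).app U).hom a) = φ _
  rw [h1]
  show (inv g0).hom (g0.hom (φ _)) = φ _
  rw [← CommRingCat.comp_apply, IsIso.hom_inv_id]
  rfl

end FieldExt

section FunctionField

variable (X : Scheme.{u}) [IsIntegral X] [QuasiCompact (X.fromSpecStalk (genericPoint X))]
  [QuasiSeparated (X.fromSpecStalk (genericPoint X))]

theorem isFinite_of_N2'
    (hN : ∀ U : X.Opens, IsAffineOpen U → (U : Set X).Nonempty → N2' Γ(X, U)) :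
    IsFinite (X.fromSpecStalk (genericPoint X)).fromNormalization := by
  refine { toIsAffineHom := inferInstance, finite_app := fun U hU => ?_ }
  by_cases hne : (U : Set X).Nonempty
  · haveI : Nonempty U := ⟨⟨_, hne.some_mem⟩⟩
    refine NormAff.app_finite_of_integralClosure_finite X hU hne ?_
    exact isN2_of_N2' Γ(X, U) (hN U hU hne) (FractionRing Γ(X, U))
  · exact NormAff.app_finite_of_empty X hne

/-- If the normalization is finite over a nonempty affine open, then it is an isomorphism over a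
smaller nonempty open. -/
theorem exists_isIso_restrict {U : X.Opens} (hU : IsAffineOpen U) (hne : (U : Set X).Nonempty)
    (hfin : ((X.fromSpecStalk (genericPoint X)).fromNormalization.app U).hom.Finite) :
    ∃ V : X.Opens, (V : Set X).Nonempty ∧
      IsIso ((X.fromSpecStalk (genericPoint X)).fromNormalization ∣_ V) := by
  letI algU := ((X.fromSpecStalk (genericPoint X)).fromNormalization.app U).hom.toAlgebra
  obtain ⟨hdom, hinj, hbir, hic⟩ := NormAff.sections_props X hU hne
  haveI : Nonempty U := ⟨⟨_, hne.some_mem⟩⟩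
  haveI : Module.Finite Γ(X, U) Γ((X.fromSpecStalk (genericPoint X)).normalization,
      (X.fromSpecStalk (genericPoint X)).fromNormalization ⁻¹ᵁ U) := hfin
  obtain ⟨s, hs0, hs⟩ := exists_conductor hbir
  have hV : IsAffineOpen (X.basicOpen s) := hU.basicOpen s
  have hneV : ((X.basicOpen s : X.Opens) : Set X).Nonempty := by
    by_contra hcon
    apply hs0
    rw [← basicOpen_eq_bot_iff]
    ext x
    simp only [Opens.coe_bot, Set.mem_empty_iff_false, iff_false]
    exact fun hx => hcon ⟨x, hx⟩
  haveI : Nonempty (X.basicOpen s : X.Opens) := ⟨⟨_, hneV.some_mem⟩⟩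
  have hicV : IsIntegrallyClosed Γ(X, X.basicOpen s) := by
    haveI := hU.isLocalization_basicOpen s
    exact isIntegrallyClosed_away hinj hbir s hs0 hs Γ(X, X.basicOpen s)
  letI algV := ((X.fromSpecStalk (genericPoint X)).fromNormalization.app
    (X.basicOpen s)).hom.toAlgebra
  obtain ⟨hdomV, hinjV, hbirV, -⟩ := NormAff.sections_props X hV hneV
  haveI : Algebra.IsIntegral Γ(X, X.basicOpen s)
      Γ((X.fromSpecStalk (genericPoint X)).normalization,
        (X.fromSpecStalk (genericPoint X)).fromNormalization ⁻¹ᵁ (X.basicOpen s)) :=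
    ⟨IsIntegralHom.isIntegral_app (X.fromSpecStalk (genericPoint X)).fromNormalization _ hV⟩
  have hsurj := surjective_of_isIntegrallyClosed hinjV hbirV
  have hbij : Function.Bijective
      ((X.fromSpecStalk (genericPoint X)).fromNormalization.app (X.basicOpen s)).hom :=
    ⟨hinjV, hsurj⟩
  haveI hisoV : IsIso ((X.fromSpecStalk (genericPoint X)).fromNormalization.app (X.basicOpen s)) :=
    (ConcreteCategory.isIso_iff_bijective _).2 hbij
  refine ⟨X.basicOpen s, hneV, ?_⟩
  haveI : IsAffine (X.basicOpen s).toScheme := hV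
  have haff : IsAffine ((X.fromSpecStalk (genericPoint X)).fromNormalization ⁻¹ᵁ
      (X.basicOpen s)).toScheme := hV.preimage _
  apply (HasAffineProperty.iff_of_isAffine (P := MorphismProperty.isomorphisms Scheme)).2
  refine ⟨haff, ?_⟩
  rw [morphismRestrict_appTop]
  have key : ∀ W : X.Opens, W = X.basicOpen s →
      IsIso ((X.fromSpecStalk (genericPoint X)).fromNormalization.app W) := by
    rintro W rfl; exact hisoV
  have h1 := key _ (X.basicOpen s).ι_image_top
  have h2 : ∀ {W W' : (X.fromSpecStalk (genericPoint X)).normalization.Opens} (h : W = W'),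
      IsIso ((X.fromSpecStalk (genericPoint X)).normalization.presheaf.map (eqToHom h).op) := by
    intro W W' h
    subst h
    simp only [eqToHom_refl, op_id, CategoryTheory.Functor.map_id]
    infer_instance
  exact @IsIso.comp_isIso _ _ _ _ _ _ _ h1 (h2 _)

end FunctionField

end Groth.Agent.Lib.Helper12.NormGen
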