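import Mathlib
import Groth.Agent.Lib.Helper12.SchemeDimFT4

/-!
# Dense opens of schemes of finite type over a field have full dimension (helper12)
-/

set_option autoImplicit false
set_option linter.style.haveILetI false
universe u
open AlgebraicGeometry CategoryTheory

namespace Groth.Agent.Lib.Helper12.SchemeDimFT

variable (k : Type u) [Field k] (X : Scheme.{u}) [X.Over (Spec (CommRingCat.of k))]
  [LocallyOfFiniteType (X ↘ Spec (CommRingCat.of k))]

include k in
theorem isMaxPt_mem_of_dense (U : X.Opens) (hU : Dense (U : Set X)) (η : X) (hη : IsMaxPt η) :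
    η ∈ U := by
  obtain ⟨D, hD, hηD, hDcl⟩ := exists_open_subset_closure_of_isMaxPt k X η hη
  obtain ⟨w, hwD, hwU⟩ := hU.inter_open_nonempty D hD ⟨η, hηD⟩
  have hsp : η ⤳ w := specializes_iff_mem_closure.mpr (hDcl hwD)
  exact hsp.mem_open U.isOpen hwU

include k in
theorem topologicalKrullDim_dense_open (U : X.Opens) (hU : Dense (U : Set X)) :
    topologicalKrullDim (U : Set X) = topologicalKrullDim X := by
  apply le_antisymm
  · refine topologicalKrullDim_le_of_isLocallyClosed k X _ U.isOpen.isLocallyClosed _ ?_
    intro z _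
    exact trdeg_le_topologicalKrullDim k X z (tr k X z) (tr_spec k X z)
  · refine topologicalKrullDim_le_of_strictAnti (tr k X)
      (fun a b hab hne => tr_lt_of_specializes k X a b hab hne) _ ?_
    intro x
    obtain ⟨η, hη, hηx⟩ := exists_isMaxPt_specializes x
    have h1 : tr k X x ≤ tr k X η := tr_le_of_specializes k X η x hηx
    have h2 := le_topologicalKrullDim_of_isLocallyClosed k X _ U.isOpen.isLocallyClosed η
      (isMaxPt_mem_of_dense k X U hU η hη)
    refine le_trans ?_ h2
    exact_mod_cast h1

end Groth.Agent.Lib.Helper12.SchemeDimFT
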