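import Mathlib
import Groth.Prelude
import Groth.Agent.Lib.Helper3.GlobGen
import Groth.Agent.Lib.Helper3.QCPush

/-!
# Helper library (helper12): the pushforward of the structure sheaf of a base change `X ×_V T → X`
(`V`, `T` affine) is globally generated; in particular `i_* O_{X_v}` for a fibre over an affine base
(lemma (a) / La of the S1485 effort)
-/

set_option autoImplicit false
set_option linter.style.haveILetI false
universe u
open CategoryTheory CategoryTheory.Limits AlgebraicGeometry Opposite

namespace Groth.Agent.Lib.Helper12.FibH1a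

open Groth.Agent.Lib.Helper3

open TensorProduct in
/-- In a pushout of commutative rings every element is a sum of products `inl a * inr b`. -/
lemma mem_of_isPushout {R A B P : CommRingCat.{u}} {f : R ⟶ A} {g : R ⟶ B} {inl : A ⟶ P}
    {inr : B ⟶ P} (H : IsPushout f g inl inr) (S : AddSubmonoid P)
    (hS : ∀ (a : A) (b : B), inl a * inr b ∈ S) (p : P) : p ∈ S := by
  letI : Algebra R A := f.hom.toAlgebra
  letI : Algebra R B := g.hom.toAlgebra
  have H0 := CommRingCat.isPushout_tensorProduct R A B
  have hf : CommRingCat.ofHom (algebraMap R A) = f := rfl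
  have hg : CommRingCat.ofHom (algebraMap R B) = g := rfl
  rw [hf, hg] at H0
  let e := H0.isoIsPushout _ _ H
  have h1 : ∀ a : A, e.hom (a ⊗ₜ[R] (1 : B)) = inl a := fun a =>
    congr($(H0.inl_isoIsPushout_hom _ _ H).hom a)
  have h2 : ∀ b : B, e.hom ((1 : A) ⊗ₜ[R] b) = inr b := fun b =>
    congr($(H0.inr_isoIsPushout_hom _ _ H).hom b)
  have key : ∀ t : A ⊗[R] B, e.hom t ∈ S := by
    intro t
    induction t using TensorProduct.induction_on with
    | zero => rw [map_zero]; exact S.zero_mem
    | tmul a b =>
      have : a ⊗ₜ[R] b = (a ⊗ₜ[R] (1 : B)) * ((1 : A) ⊗ₜ[R] b) := by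
        rw [Algebra.TensorProduct.tmul_mul_tmul, mul_one, one_mul]
      rw [this, map_mul, h1, h2]
      exact hS a b
    | add x y hx hy => rw [map_add]; exact S.add_mem hx hy
  have : p = e.hom (e.inv p) := by
    change p = (e.inv ≫ e.hom) p
    rw [e.inv_hom_id]
    rfl
  rw [this]
  exact key _


theorem isGloballyGenerated_push_fst {X V T : Scheme.{u}} (h : X ⟶ V) (g : T ⟶ V)
    [IsAffine V] [IsAffine T] :
    Curv2.IsGloballyGenerated ((Scheme.Modules.pushforward (pullback.fst h g)).obj
      (Coh.structureModule (pullback h g))) := by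
  haveI : IsAffineHom g := inferInstance
  haveI : IsAffineHom (pullback.fst h g) :=
    MorphismProperty.of_isPullback (P := @IsAffineHom) (IsPullback.of_hasPullback h g).flip
      ‹IsAffineHom g›
  haveI : (Coh.structureModule (pullback h g)).IsQuasicoherent := inferInstance
  haveI := QCSec.isQuasicoherent_pushforward (pullback.fst h g)
    (Coh.structureModule (pullback h g))
  refine GlobGen.isGloballyGenerated_of_span _ (fun m => m) (fun x => ?_)
  obtain ⟨U, hU, hxU⟩ := QCProps.exists_affine_nbhd x
  refine ⟨U, hU, hxU, ?_⟩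
  rw [eq_top_iff]
  intro s _
  have H := IsPullback.of_hasPullback h g
  have hUY : pullback.fst h g ⁻¹ᵁ U = pullback.fst h g ⁻¹ᵁ U ⊓ pullback.snd h g ⁻¹ᵁ ⊤ := by
    simp
  have hiso := isIso_pushoutSection_of_isAffineOpen H (US := ⊤) (UT := ⊤) (UX := U)
    (UY := pullback.fst h g ⁻¹ᵁ U) (by simp) (by simp) hUY
    (isAffineOpen_top V) (isAffineOpen_top T) hU
  have hpo := (isIso_pushoutSection_iff H (US := ⊤) (UT := ⊤) (UX := U)
    (UY := pullback.fst h g ⁻¹ᵁ U) (by simp) (by simp) hUY).mp hiso
  let N : X.Modules := (Scheme.Modules.pushforward (pullback.fst h g)).obj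
    (Coh.structureModule (pullback h g))
  let Sp : Submodule Γ(X, U) Γ(N, U) := Submodule.span Γ(X, U)
    (Set.range fun i : Γ(N, ⊤) => QCSec.res N (le_top : U ≤ ⊤) i)
  let S : AddSubmonoid ↑Γ(pullback h g, pullback.fst h g ⁻¹ᵁ U) :=
    { carrier := {p | (show Γ(N, U) from p) ∈ Sp}
      add_mem' := fun {a b} ha hb => Sp.add_mem ha hb
      zero_mem' := Sp.zero_mem }
  refine mem_of_isPushout hpo S (fun a b => ?_) s
  have hb : QCSec.res N (le_top : U ≤ ⊤) (show Γ(N, ⊤) from (pullback.snd h g).appTop b) ∈ Sp :=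
    Submodule.subset_span ⟨_, rfl⟩
  have := Sp.smul_mem a hb
  have e1 : (pullback.fst h g).appLE U (pullback.fst h g ⁻¹ᵁ U) le_rfl =
      (pullback.fst h g).app U := (Scheme.Hom.app_eq_appLE _).symm
  show (show Γ(N, U) from ((pullback.fst h g).appLE U (pullback.fst h g ⁻¹ᵁ U) le_rfl a *
    (pullback.snd h g).appLE ⊤ (pullback.fst h g ⁻¹ᵁ U) (by simp) b)) ∈ Sp
  rw [e1]
  exact this

/-- (a) the pushforward of the structure sheaf of a base change along a morphism of affine schemes
is a quotient of a free module. -/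
theorem exists_epi_sigma_structureModule_push {X V T : Scheme.{u}} (h : X ⟶ V) (g : T ⟶ V)
    [IsAffine V] [IsAffine T] :
    ∃ (J : Type u) (π : (∐ fun _ : J => Coh.structureModule X) ⟶
        (Scheme.Modules.pushforward (pullback.fst h g)).obj
          (Coh.structureModule (pullback h g))), Epi π := by
  obtain ⟨J, p, hp⟩ := isGloballyGenerated_push_fst h g
  exact ⟨J, p, hp⟩

/-- (La) the pushforward of the structure sheaf of a fibre over an affine base is globally
generated. -/
theorem isGloballyGenerated_push_fiber {X V : Scheme.{u}} (h : X ⟶ V) [IsAffine V] (v : V) :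
    Curv2.IsGloballyGenerated ((Scheme.Modules.pushforward (h.fiberι v)).obj
      (Coh.structureModule (h.fiber v))) :=
  isGloballyGenerated_push_fst h (V.fromSpecResidueField v)

end Groth.Agent.Lib.Helper12.FibH1a
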