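import Mathlib

set_option autoImplicit false

namespace Groth.Agent.Lib.Helper12.FibreRank

open TensorProduct

universe u v

variable {R : Type u} [CommRing R]

/-- fibre dimension of `M` at `p`. -/
noncomputable def fdim (M : Type v) [AddCommGroup M] [Module R M] (p : PrimeSpectrum R) : ℕ :=
  Module.finrank p.asIdeal.ResidueField (p.asIdeal.ResidueField ⊗[R] M)

section general

variable {F : Type*} {M : Type*} [AddCommGroup F] [Module R F] [AddCommGroup M] [Module R M]

/-- surjectivity of the base change of `ψ` ↔ triviality of the base change of the cokernel. -/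
theorem baseChange_surjective_iff (κ : Type*) [CommRing κ] [Algebra R κ] (ψ : F →ₗ[R] M) :
    Function.Surjective (ψ.baseChange κ) ↔
      Subsingleton (κ ⊗[R] (M ⧸ LinearMap.range ψ)) := by
  have hex : Function.Exact ψ (LinearMap.range ψ).mkQ := ψ.exact_map_mkQ_range
  have hsurj : Function.Surjective (LinearMap.range ψ).mkQ := Submodule.mkQ_surjective _
  have hex' := lTensor_exact κ hex hsurj
  have hsurj' := LinearMap.lTensor_surjective κ hsurj
  constructor
  · intro h
    have key : ∀ y : κ ⊗[R] (M ⧸ LinearMap.range ψ), y = 0 := by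
      intro y
      obtain ⟨z, rfl⟩ := hsurj' y
      obtain ⟨w, rfl⟩ := h z
      exact hex'.apply_apply_eq_zero w
    exact ⟨fun a b => by rw [key a, key b]⟩
  · intro h z
    have hz : (LinearMap.lTensor κ (LinearMap.range ψ).mkQ) z = 0 := Subsingleton.elim _ _
    obtain ⟨w, hw⟩ := (hex' z).1 hz
    exact ⟨w, hw⟩

/-- fibre dimension of a cokernel + rank of the base-changed map = fibre dimension of target. -/
theorem finrank_coker_add (κ : Type*) [Field κ] [Algebra R κ] (ψ : F →ₗ[R] M)
    [Module.Finite R M] :
    Module.finrank κ (κ ⊗[R] (M ⧸ LinearMap.range ψ)) +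
      Module.finrank κ (LinearMap.range (ψ.baseChange κ)) = Module.finrank κ (κ ⊗[R] M) := by
  have hex : Function.Exact ψ (LinearMap.range ψ).mkQ := ψ.exact_map_mkQ_range
  have hsurj : Function.Surjective (LinearMap.range ψ).mkQ := Submodule.mkQ_surjective _
  have hex' := lTensor_exact κ hex hsurj
  have hsurj' := LinearMap.lTensor_surjective κ hsurj
  set π := (LinearMap.range ψ).mkQ.baseChange κ with hπ
  have hπs : Function.Surjective π := hsurj'
  have hker : LinearMap.ker π = LinearMap.range (ψ.baseChange κ) := by
    ext z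
    rw [LinearMap.mem_ker, LinearMap.mem_range]
    exact hex' z
  have h1 := LinearMap.finrank_range_add_finrank_ker π
  rw [LinearMap.range_eq_top.2 hπs, finrank_top, hker] at h1
  exact h1

end general

section support

variable {F : Type*} {M : Type*} [AddCommGroup F] [Module R F] [AddCommGroup M] [Module R M]

theorem baseChange_surjective_iff_notMem_support [Module.Finite R M] (ψ : F →ₗ[R] M)
    (p : PrimeSpectrum R) :
    Function.Surjective (ψ.baseChange p.asIdeal.ResidueField) ↔
      p ∉ Module.support R (M ⧸ LinearMap.range ψ) := by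
  rw [baseChange_surjective_iff, Module.mem_support_iff_nontrivial_residueField_tensorProduct,
    not_nontrivial_iff_subsingleton]

theorem baseChange_surjective_of_le [Module.Finite R M] (ψ : F →ₗ[R] M)
    {p q : PrimeSpectrum R} (hqp : q ≤ p)
    (h : Function.Surjective (ψ.baseChange p.asIdeal.ResidueField)) :
    Function.Surjective (ψ.baseChange q.asIdeal.ResidueField) := by
  rw [baseChange_surjective_iff_notMem_support] at h ⊢
  exact fun hq => h (Module.mem_support_mono hqp hq)

end support

section main

variable (M : Type v) [AddCommGroup M] [Module R M]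

theorem finrank_tensor_pi (κ : Type*) [Field κ] [Algebra R κ] (n : ℕ) :
    Module.finrank κ (κ ⊗[R] (Fin n → R)) = n := by
  rw [(TensorProduct.piScalarRight R κ κ (Fin n)).finrank_eq, Module.finrank_fin_fun]

/-- Nakayama-type lift: a map from a free module of rank `fdim M p` which is surjective on the
fibre at `p`. -/
theorem exists_map_surjective [Module.Finite R M] (p : PrimeSpectrum R) :
    ∃ ψ : (Fin (fdim M p) → R) →ₗ[R] M,
      Function.Surjective (ψ.baseChange p.asIdeal.ResidueField) := by
  set κ := p.asIdeal.ResidueField with hκ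
  set s : Set (κ ⊗[R] M) := Set.range (TensorProduct.mk R κ M 1) with hs
  have hspan : Submodule.span κ s = ⊤ := by
    have h1 := Submodule.baseChange_top (R := R) (M := M) κ
    rw [Submodule.baseChange_eq_span, Submodule.map_top] at h1
    exact h1
  obtain ⟨f, hf_mem, hf_span, -⟩ := Submodule.exists_fun_fin_finrank_span_eq κ s
  have hn : Module.finrank κ (Submodule.span κ s) = fdim M p := by
    rw [hspan, finrank_top]; rfl
  choose x hx using hf_mem
  let ψ : (Fin (fdim M p) → R) →ₗ[R] M :=
    Fintype.linearCombination R (fun i => x (Fin.cast hn.symm i))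
  refine ⟨ψ, ?_⟩
  rw [← LinearMap.range_eq_top, eq_top_iff, ← hspan, ← hf_span, Submodule.span_le]
  rintro _ ⟨i, rfl⟩
  refine ⟨(1 : κ) ⊗ₜ[R] Pi.single (Fin.cast hn i) 1, ?_⟩
  rw [LinearMap.baseChange_tmul, ← hx i]
  simp [ψ, Fintype.linearCombination_apply_single]

/-- upper semicontinuity along specialisation. -/
theorem fdim_le_of_le [Module.Finite R M] {p q : PrimeSpectrum R} (hqp : q ≤ p) :
    fdim M q ≤ fdim M p := by
  obtain ⟨ψ, hψ⟩ := exists_map_surjective M p
  have h := baseChange_surjective_of_le ψ hqp hψ
  have := LinearMap.finrank_le_finrank_of_surjective h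
  rwa [finrank_tensor_pi] at this

/-- elements in the kernel of `ψ` have coordinates in `q` whenever the fibre map at `q` is
injective. -/
theorem coord_mem_of_injective {n : ℕ} (ψ : (Fin n → R) →ₗ[R] M) (q : PrimeSpectrum R)
    (hinj : Function.Injective (ψ.baseChange q.asIdeal.ResidueField))
    (a : Fin n → R) (ha : ψ a = 0) (i : Fin n) : a i ∈ q.asIdeal := by
  set κ := q.asIdeal.ResidueField
  have h0 : ψ.baseChange κ ((1 : κ) ⊗ₜ[R] a) = 0 := by
    rw [LinearMap.baseChange_tmul, ha, tmul_zero]
  have h1 : (1 : κ) ⊗ₜ[R] a = 0 := hinj (by rw [h0, map_zero])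
  have h2 := congrArg (TensorProduct.piScalarRight R κ κ (Fin n)) h1
  rw [TensorProduct.piScalarRight_apply, TensorProduct.piScalarRightHom_tmul, map_zero] at h2
  have h3 := congrFun h2 i
  simp only [Pi.zero_apply] at h3
  rw [Algebra.smul_def, mul_one] at h3
  exact (Ideal.algebraMap_residueField_eq_zero).1 h3

/-- over a reduced ring: an element lying in all primes below `p` is killed by some `t ∉ p`. -/
theorem exists_smul_eq_zero_of_mem [IsReduced R] (p : PrimeSpectrum R) (r : R)
    (hr : ∀ q : PrimeSpectrum R, q ≤ p → r ∈ q.asIdeal) :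
    ∃ t : R, t ∉ p.asIdeal ∧ t * r = 0 := by
  set Rp := Localization.AtPrime p.asIdeal
  have h0 : algebraMap R Rp r = 0 := by
    have hnil : algebraMap R Rp r ∈ nilradical Rp := by
      rw [nilradical_eq_sInf, Ideal.mem_sInf]
      intro J hJ
      have hJ' : J.IsPrime := hJ
      have hle : (⟨J.comap (algebraMap R Rp), inferInstance⟩ : PrimeSpectrum R) ≤ p := by
        intro x hx
        by_contra hxp
        have hu : IsUnit (algebraMap R Rp x) :=
          IsLocalization.map_units Rp (⟨x, hxp⟩ : p.asIdeal.primeCompl)
        exact hJ'.ne_top (Ideal.eq_top_of_isUnit_mem _ hx hu)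
      exact hr _ hle
    rw [nilradical_eq_zero] at hnil
    exact hnil
  obtain ⟨m, hm⟩ := (IsLocalization.map_eq_zero_iff p.asIdeal.primeCompl Rp r).1 h0
  exact ⟨m.1, m.2, hm⟩

/-- Key lemma: over a reduced ring, a finite module whose fibre dimension is constant on the
generisations of `p` is free at `p`. -/
theorem mem_freeLocus_of_fdim_eq [IsReduced R] [Module.Finite R M] (p : PrimeSpectrum R)
    (h : ∀ q : PrimeSpectrum R, q ≤ p → fdim M q = fdim M p) :
    p ∈ Module.freeLocus R M := by
  obtain ⟨ψ, hψ⟩ := exists_map_surjective M p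
  generalize hn : fdim M p = n at ψ hψ h
  have hsurj : ∀ q : PrimeSpectrum R, q ≤ p →
      Function.Surjective (ψ.baseChange q.asIdeal.ResidueField) :=
    fun q hq => baseChange_surjective_of_le ψ hq hψ
  have hinj : ∀ q : PrimeSpectrum R, q ≤ p →
      Function.Injective (ψ.baseChange q.asIdeal.ResidueField) := by
    intro q hq
    have hfr : Module.finrank q.asIdeal.ResidueField (q.asIdeal.ResidueField ⊗[R] (Fin n → R)) =
        Module.finrank q.asIdeal.ResidueField (q.asIdeal.ResidueField ⊗[R] M) := by
      rw [finrank_tensor_pi]; exact (h q hq).symm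
    exact (LinearMap.injective_iff_surjective_of_finrank_eq_finrank hfr).2 (hsurj q hq)
  -- kernel elements are killed by some `t ∉ p`
  have hker : ∀ a : Fin n → R, ψ a = 0 → ∃ t : R, t ∉ p.asIdeal ∧ t • a = 0 := by
    intro a ha
    have hcoord : ∀ i, ∃ t : R, t ∉ p.asIdeal ∧ t * a i = 0 := fun i =>
      exists_smul_eq_zero_of_mem p (a i)
        (fun q hq => coord_mem_of_injective M ψ q (hinj q hq) a ha i)
    choose t ht ht0 using hcoord
    refine ⟨∏ i, t i, ?_, ?_⟩
    · intro hmem
      obtain ⟨i, -, hi⟩ := (Ideal.IsPrime.prod_mem_iff (hp := p.isPrime)).1 hmem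
      exact ht i hi
    · funext i
      simp only [Pi.smul_apply, smul_eq_mul, Pi.zero_apply]
      rw [← Finset.mul_prod_erase Finset.univ t (Finset.mem_univ i), mul_comm (t i), mul_assoc,
        ht0 i, mul_zero]
  -- cokernel is killed locally
  have hcoker : ∀ m : M, ∃ r : R, r ∉ p.asIdeal ∧ r • m ∈ LinearMap.range ψ := by
    have hp := (baseChange_surjective_iff_notMem_support ψ p).1 hψ
    rw [Module.notMem_support_iff'] at hp
    intro m
    obtain ⟨r, hr, hrm⟩ := hp ((LinearMap.range ψ).mkQ m)
    refine ⟨r, hr, ?_⟩
    rw [← map_smul, Submodule.mkQ_apply, Submodule.Quotient.mk_eq_zero] at hrm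
    exact hrm
  set S := p.asIdeal.primeCompl with hS
  have hbij : Function.Bijective (LocalizedModule.map S ψ) := by
    constructor
    · rw [injective_iff_map_eq_zero]
      intro z hz
      induction z using LocalizedModule.induction_on with
      | h a s =>
        rw [LocalizedModule.map_mk] at hz
        rw [← LocalizedModule.zero_mk s, LocalizedModule.mk_eq] at hz
        obtain ⟨u, hu⟩ := hz
        rw [smul_zero, smul_zero] at hu
        have hu' : ψ ((u : R) • (s : R) • a) = 0 := by
          rw [map_smul, map_smul]
          exact hu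
        obtain ⟨t, ht, hta⟩ := hker _ hu'
        rw [← LocalizedModule.zero_mk s, LocalizedModule.mk_eq]
        refine ⟨⟨t, ht⟩ * u, ?_⟩
        rw [smul_zero, smul_zero, mul_smul]
        exact hta
    · intro z
      induction z using LocalizedModule.induction_on with
      | h m s =>
        obtain ⟨r, hr, a, ha⟩ := hcoker m
        refine ⟨LocalizedModule.mk a (⟨r, hr⟩ * s), ?_⟩
        rw [LocalizedModule.map_mk, ha, LocalizedModule.mk_eq]
        refine ⟨1, ?_⟩
        simp only [one_smul]
        rw [mul_smul]
        simp only [Submonoid.smul_def]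
        exact smul_comm _ _ _
  have e : LocalizedModule S (Fin n → R) ≃ₗ[Localization S] LocalizedModule S M :=
    LinearEquiv.ofBijective (LocalizedModule.map S ψ) hbij
  have hfree : Module.Free (Localization S) (LocalizedModule S (Fin n → R)) :=
    Module.free_of_isLocalizedModule S (LocalizedModule.mkLinearMap S (Fin n → R))
  exact Module.Free.of_equiv e

/-- Over a reduced ring, two finitely presented modules whose fibre dimensions add up to a function
constant along specialisations are both projective. -/
theorem projective_of_add_const [IsReduced R] (N : Type v) [AddCommGroup N] [Module R N]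
    [Module.FinitePresentation R M] [Module.FinitePresentation R N]
    (c : PrimeSpectrum R → ℕ) (hc : ∀ p q : PrimeSpectrum R, q ≤ p → c q = c p)
    (h : ∀ p, fdim M p + fdim N p = c p) :
    Module.Projective R M ∧ Module.Projective R N := by
  have key : ∀ p q : PrimeSpectrum R, q ≤ p → fdim M q = fdim M p ∧ fdim N q = fdim N p := by
    intro p q hq
    have h1 := fdim_le_of_le M hq
    have h2 := fdim_le_of_le N hq
    have h3 := h p
    have h4 := h q
    have h5 := hc p q hq
    omega
  constructor
  · rw [← Module.freeLocus_eq_univ_iff, Set.eq_univ_iff_forall]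
    exact fun p => mem_freeLocus_of_fdim_eq M p (fun q hq => (key p q hq).1)
  · rw [← Module.freeLocus_eq_univ_iff, Set.eq_univ_iff_forall]
    exact fun p => mem_freeLocus_of_fdim_eq N p (fun q hq => (key p q hq).2)

theorem eq_of_le_of_isLocallyConstant {α : Type*} (β : PrimeSpectrum R → α)
    (hβ : IsLocallyConstant β) {p q : PrimeSpectrum R} (hqp : q ≤ p) : β q = β p := by
  have hopen : IsOpen (β ⁻¹' {β p}) := hβ.isOpen_fiber (β p)
  have hspec : q ⤳ p := (PrimeSpectrum.le_iff_specializes q p).1 hqp
  exact hspec.mem_open hopen rfl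

end main

end Groth.Agent.Lib.Helper12.FibreRank
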