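import Mathlib
import Groth.Prelude.Def_ClSub2
import Groth.Prelude.Def_Omega2

/-! Generalities on `unitToPush`, ideal modules and pushforward along isomorphisms. -/

set_option autoImplicit false
universe u
open CategoryTheory CategoryTheory.Limits AlgebraicGeometry Opposite TopologicalSpace

namespace Groth.Agent.Lib.Helper12.OmegaAffine

variable {X Y Z : Scheme.{u}}

/-- Pushforward along an isomorphism is an equivalence. -/
noncomputable def pushforwardEquiv (e : X ≅ Y) : X.Modules ≌ Y.Modules :=
  CategoryTheory.Equivalence.mk (Scheme.Modules.pushforward e.hom) (Scheme.Modules.pushforward e.inv)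
    ((Scheme.Modules.pushforwardId X).symm ≪≫ Scheme.Modules.pushforwardCongr e.hom_inv_id.symm ≪≫
      (Scheme.Modules.pushforwardComp e.hom e.inv).symm)
    (Scheme.Modules.pushforwardComp e.inv e.hom ≪≫ Scheme.Modules.pushforwardCongr e.inv_hom_id ≪≫
      Scheme.Modules.pushforwardId Y)

/-- Pullback along the inverse of an isomorphism is pushforward along the isomorphism. -/
noncomputable def pullbackInvIsoPushforward (e : X ≅ Y) :
    Scheme.Modules.pullback e.inv ≅ Scheme.Modules.pushforward e.hom :=
  (Scheme.Modules.pullbackPushforwardAdjunction e.inv).leftAdjointUniq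
    (pushforwardEquiv e).toAdjunction

theorem unitToPush_app_apply (f : X ⟶ Y) (U : Y.Opens) (s : Γ(Coh.structureModule Y, U)) :
    (ClSub.unitToPush f).app U s = (f.app U).hom s := rfl

instance isIso_unitToPush (f : X ⟶ Y) [IsIso f] : IsIso (ClSub.unitToPush f) := by
  rw [Scheme.Modules.Hom.isIso_iff_isIso_app]
  intro U
  rw [ConcreteCategory.isIso_iff_bijective]
  exact ConcreteCategory.bijective_of_isIso (f.app U)

theorem unitToPush_comp (f : X ⟶ Y) (g : Y ⟶ Z) :
    ClSub.unitToPush (f ≫ g) = ClSub.unitToPush g ≫
      (Scheme.Modules.pushforward g).map (ClSub.unitToPush f) ≫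
      (Scheme.Modules.pushforwardComp f g).hom.app _ := by
  ext U s
  rfl

/-- Transport of the kernel along an equality of morphisms. -/
noncomputable def kernelUnitToPushCongr {f g : X ⟶ Y} (h : f = g) :
    kernel (ClSub.unitToPush f) ≅ kernel (ClSub.unitToPush g) := by
  subst h
  exact Iso.refl _

/-- The ideal module of a closed immersion is the kernel of `O_Y ⟶ f_* O_X`. -/
noncomputable def idealModIso (f : X ⟶ Y) [IsClosedImmersion f] :
    ClSub.idealMod f.ker ≅ kernel (ClSub.unitToPush f) :=
  (kernelCompMono (ClSub.unitToPush f.imageι)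
      ((Scheme.Modules.pushforward f.imageι).map (ClSub.unitToPush f.toImage) ≫
        (Scheme.Modules.pushforwardComp f.toImage f.imageι).hom.app _)).symm ≪≫
    kernelIsoOfEq (unitToPush_comp f.toImage f.imageι).symm ≪≫
    kernelUnitToPushCongr f.toImage_imageι

/-- Pushing the kernel of `O_X ⟶ f_* O_Z` forward along an isomorphism. -/
noncomputable def pushforwardKernelIso (f : Z ⟶ X) (e : X ≅ Y) :
    (Scheme.Modules.pushforward e.hom).obj (kernel (ClSub.unitToPush f)) ≅
      kernel (ClSub.unitToPush (f ≫ e.hom)) :=
  PreservesKernel.iso (Scheme.Modules.pushforward e.hom) (ClSub.unitToPush f) ≪≫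
    (kernelIsIsoComp (ClSub.unitToPush e.hom)
      ((Scheme.Modules.pushforward e.hom).map (ClSub.unitToPush f))).symm ≪≫
    (kernelCompMono (ClSub.unitToPush e.hom ≫
      (Scheme.Modules.pushforward e.hom).map (ClSub.unitToPush f))
      ((Scheme.Modules.pushforwardComp f e.hom).hom.app _)).symm ≪≫
    kernelIsoOfEq (by rw [unitToPush_comp, Category.assoc])

end Groth.Agent.Lib.Helper12.OmegaAffine
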