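import Mathlib

/-! Affine communication lemma for properties of rings. -/

set_option autoImplicit false
universe u
open CategoryTheory AlgebraicGeometry TopologicalSpace

namespace Groth.Agent.Lib.Helper12.AffLocal

/-- A ring property that is iso-invariant, passes to `Localization.Away` for sections rings
of affine opens of `X`, and glues along finite spanning sets, is affine-local on `X`. -/
theorem affine_local (X : Scheme.{u}) (Q : ∀ (R : Type u) [CommRing R], Prop)
    (hiso : ∀ (R R' : Type u) [CommRing R] [CommRing R'], (R ≃+* R') → Q R → Q R')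
    (hloc : ∀ (W : X.affineOpens) (f : Γ(X, W)), Q Γ(X, W) → Q (Localization.Away f))
    (hglue : ∀ (W : X.affineOpens) (s : Finset Γ(X, W)), Ideal.span (s : Set Γ(X, W)) = ⊤ →
      (∀ f ∈ s, Q (Localization.Away f)) → Q Γ(X, W))
    {ι : Type*} (U : ι → X.Opens) (hU : iSup U = ⊤) (haff : ∀ i, IsAffineOpen (U i))
    (hQ : ∀ i, Q Γ(X, U i)) (V : X.Opens) (hV : IsAffineOpen V) : Q Γ(X, V) := by
  let U' : ι → X.affineOpens := fun i => ⟨U i, haff i⟩
  have key : ∀ (W : X.affineOpens) (f : Γ(X, W)),
      Q (Localization.Away f) ↔ Q Γ(X, X.basicOpen f) := by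
    intro W f
    haveI := W.2.isLocalization_basicOpen f
    let e : Localization.Away f ≃+* Γ(X, X.basicOpen f) :=
      (IsLocalization.algEquiv (Submonoid.powers f) (Localization.Away f)
        Γ(X, X.basicOpen f)).toRingEquiv
    exact ⟨hiso _ _ e, hiso _ _ e.symm⟩
  refine of_affine_open_cover (P := fun W => Q Γ(X, W)) U' ?_ ⟨V, hV⟩ ?_ ?_ ?_
  · exact hU
  · intro W f hW
    exact (key W f).1 (hloc W f hW)
  · intro W s hs h
    exact hglue W s hs (fun f hf => (key W f).2 (h ⟨f, hf⟩))
  · exact hQ

end Groth.Agent.Lib.Helper12.AffLocal
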