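import Mathlib
import Groth.Prelude.Def_Found
import Groth.Agent.Lib.Helper12.N2Field
import Groth.Agent.Lib.Helper12.AffLocal
import Groth.Agent.S9392
import Groth.Agent.S9394
import Groth.Agent.S9398
import Groth.Agent.S9399
import Groth.Agent.S9400
import Groth.Agent.S4710

/-! Transport of Nagata-type properties along ring isomorphisms. -/

set_option autoImplicit false
universe u
open Groth.Agent.Lib.Helper12.N2

namespace Groth.Agent.Lib.Helper12.NagataLoc

theorem N2'_of_not_isDomain (R : Type u) [CommRing R] (h : ¬ IsDomain R) : N2' R := by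
  intro L _ _ hinj _
  exact absurd (Function.Injective.isDomain (algebraMap R L) hinj) h

theorem isN2_iff_N2' (R : Type u) [CommRing R] [IsDomain R] : CAlg.IsN2 R ↔ N2' R := by
  constructor
  · intro h
    exact N2'_of_isN2 R h
  · intro h L _ _ _ _ hfd
    haveI := hfd
    exact isN2_of_N2' R h L

theorem isNagata_of_ringEquiv {R R' : Type u} [CommRing R] [CommRing R'] (e : R ≃+* R')
    (h : CAlg.IsNagata R) : CAlg.IsNagata R' := by
  obtain ⟨hN, hJ⟩ := h
  haveI := hN
  refine ⟨isNoetherianRing_of_ringEquiv R e, ?_⟩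
  intro p' hp'
  haveI : (p'.comap (e : R →+* R')).IsPrime := Ideal.comap_isPrime _ _
  have hmap : p' = (p'.comap (e : R →+* R')).map (e : R →+* R') :=
    (Ideal.map_comap_of_surjective (e : R →+* R') e.surjective p').symm
  let e' : (R ⧸ p'.comap (e : R →+* R')) ≃+* (R' ⧸ p') := Ideal.quotientEquiv _ _ e hmap
  rw [isN2_iff_N2']
  exact N2'_of_ringEquiv e' ((isN2_iff_N2' _).1 (hJ _))

theorem isUniversallyJapanese_of_ringEquiv {R R' : Type u} [CommRing R] [CommRing R']
    (e : R ≃+* R') (h : CAlg.IsUniversallyJapanese R) : CAlg.IsUniversallyJapanese R' := by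
  letI : Algebra R R' := e.toRingHom.toAlgebra
  haveI : Algebra.FiniteType R R' := RingHom.FiniteType.of_surjective e.toRingHom e.surjective
  exact Groth.Agent.S9398.result R h R'

end Groth.Agent.Lib.Helper12.NagataLoc
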