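import Mathlib
import Groth.Agent.Lib.Helper12.N2Field

/-! N-2 can be tested on finite purely inseparable extensions of the fraction field. -/

set_option autoImplicit false
universe u
open Function Groth.Agent.Lib.Helper12.N2 IntermediateField

namespace Groth.Agent.Lib.Helper12.N2Insep

/-- Transitivity of finiteness of integral closures along a finite ring extension. -/
theorem finite_integralClosure_trans (B C N : Type*) [CommRing B] [CommRing C] [CommRing N]
    [Algebra B C] [Algebra C N] [Algebra B N] [IsScalarTower B C N] [Module.Finite B C]
    (h : Module.Finite C (integralClosure C N)) : Module.Finite B (integralClosure B N) := by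
  haveI : Algebra.IsIntegral B C := Algebra.IsIntegral.of_finite B C
  have hfg : (Subalgebra.toSubmodule (integralClosure C N)).FG := Module.Finite.iff_fg.1 h
  have hfg' := Submodule.FG.restrictScalars (R := B) hfg
  have heq : Subalgebra.toSubmodule (integralClosure B N) =
      (Subalgebra.toSubmodule (integralClosure C N)).restrictScalars B := by
    ext x
    constructor
    · intro hx
      exact IsIntegral.tower_top (A := C) hx
    · intro hx
      exact isIntegral_trans x hx
  have : (Subalgebra.toSubmodule (integralClosure B N)).FG := by rw [heq]; exact hfg'
  exact Module.Finite.iff_fg.2 this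

/-- For a finite normal extension `N/K`, the fixed field of the full automorphism group is purely
inseparable over `K`. -/
theorem isPurelyInseparable_fixedField (K N : Type*) [Field K] [Field N] [Algebra K N]
    [FiniteDimensional K N] [Normal K N] :
    IsPurelyInseparable K (IntermediateField.fixedField (⊤ : Subgroup (N ≃ₐ[K] N))) := by
  classical
  rw [isPurelyInseparable_iff_natSepDegree_eq_one]
  intro x
  have hmin : minpoly K x = minpoly K (x : N) := IntermediateField.minpoly_eq x
  have hint : IsIntegral K (x : N) := Algebra.IsIntegral.isIntegral _
  have hsplits : ((minpoly K (x : N)).map (algebraMap K N)).Splits := Normal.splits' _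
  rw [hmin, Polynomial.natSepDegree_eq_of_splits _ hsplits]
  have hroots : ((minpoly K (x : N)).aroots N).toFinset = {(x : N)} := by
    ext y
    rw [Multiset.mem_toFinset, Polynomial.mem_aroots, Finset.mem_singleton]
    constructor
    · rintro ⟨-, hy⟩
      have hconj : IsConjRoot K (x : N) y := isConjRoot_of_aeval_eq_zero hint hy
      obtain ⟨σ, hσ⟩ := isConjRoot_iff_exists_algEquiv.1 hconj
      have hfix : σ (x : N) = (x : N) :=
        (IntermediateField.mem_fixedField_iff _ _).1 x.2 σ (Subgroup.mem_top σ)
      exact σ.injective (hσ.trans hfix.symm)
    · rintro rfl
      exact ⟨minpoly.ne_zero hint, minpoly.aeval K _⟩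
  rw [hroots, Finset.card_singleton]

/-- A Noetherian domain is N-2 as soon as its integral closures in finite purely inseparable
extensions of the fraction field are finite. -/
theorem N2'_of_purelyInseparable (B : Type u) [CommRing B] [IsDomain B] [IsNoetherianRing B]
    (h : ∀ (K' : Type u) [Field K'] [Algebra B K'] [Algebra (FractionRing B) K']
      [IsScalarTower B (FractionRing B) K'] [FiniteDimensional (FractionRing B) K']
      [IsPurelyInseparable (FractionRing B) K'], Module.Finite B (integralClosure B K')) :
    N2' B := by
  classical
  refine N2'_of_isN2 B ?_
  intro L _ _ _ _ hfd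
  haveI := hfd
  -- embed `L` in a finite normal extension `N`
  let f₀ : L →ₐ[FractionRing B] AlgebraicClosure (FractionRing B) := IsAlgClosed.lift
  let N : IntermediateField (FractionRing B) (AlgebraicClosure (FractionRing B)) :=
    IntermediateField.normalClosure (FractionRing B) L (AlgebraicClosure (FractionRing B))
  haveI : Normal (FractionRing B) N := normalClosure.normal _ _ _
  haveI : FiniteDimensional (FractionRing B) N := normalClosure.is_finiteDimensional _ _ _
  let j : L →ₐ[FractionRing B] N :=
    f₀.codRestrict N.toSubalgebra (fun x => f₀.fieldRange_le_normalClosure ⟨x, rfl⟩)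
  -- the purely inseparable part
  let K₁ : IntermediateField (FractionRing B) N :=
    IntermediateField.fixedField (⊤ : Subgroup (N ≃ₐ[FractionRing B] N))
  haveI : IsGalois K₁ N := IsGalois.of_fixed_field N (⊤ : Subgroup (N ≃ₐ[FractionRing B] N))
  haveI : IsPurelyInseparable (FractionRing B) K₁ := isPurelyInseparable_fixedField _ N
  haveI hfin₁ : Module.Finite B (integralClosure B K₁) := h K₁
  haveI : IsNoetherianRing (integralClosure B K₁) := IsNoetherianRing.of_finite B _
  haveI : IsFractionRing (integralClosure B K₁) K₁ :=
    integralClosure.isFractionRing_of_finite_extension (FractionRing B) K₁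
  haveI : IsIntegrallyClosed (integralClosure B K₁) :=
    integralClosure.isIntegrallyClosedOfFiniteExtension (FractionRing B)
  haveI : IsScalarTower (integralClosure B K₁) K₁ N := IsScalarTower.of_algebraMap_eq (fun _ => rfl)
  haveI : IsScalarTower B (integralClosure B K₁) N := IsScalarTower.of_algebraMap_eq (fun _ => rfl)
  have hfinN' : Module.Finite (integralClosure B K₁) (integralClosure (integralClosure B K₁) N) :=
    IsIntegralClosure.finite (integralClosure B K₁) K₁ N _
  have hfinN : Module.Finite B (integralClosure B N) :=
    finite_integralClosure_trans B (integralClosure B K₁) N hfinN'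
  -- descend to `L`
  haveI : IsNoetherian B (integralClosure B N) := isNoetherian_of_isNoetherianRing_of_finite B _
  let jB : L →ₐ[B] N := j.restrictScalars B
  refine Module.Finite.of_injective (jB.mapIntegralClosure).toLinearMap ?_
  intro a b hab
  apply Subtype.ext
  apply jB.toRingHom.injective
  exact congrArg Subtype.val hab

end Groth.Agent.Lib.Helper12.N2Insep
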