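import Mathlib
import Groth.Prelude.Def_Found
import Groth.Agent.S0572
import Groth.Agent.S9391

/-! Local criterion for N-1 (Stacks 0333). -/

set_option autoImplicit false
universe u
open Function

namespace Groth.Agent.Lib.Helper12.N1Crit

/-- A localization `A = M⁻¹S` of a domain is integrally closed iff every element of the fraction
field integral over `S` has a denominator in `M`. -/
theorem isIntegrallyClosed_localization_iff {S : Type*} [CommRing S] [IsDomain S] (K : Type*)
    [Field K] [Algebra S K] [IsFractionRing S K] (M : Submonoid S) (hM : M ≤ nonZeroDivisors S)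
    (A : Type*) [CommRing A] [Algebra S A] [IsLocalization M A] :
    IsIntegrallyClosed A ↔
      ∀ x : K, IsIntegral S x → ∃ a : S, ∃ s ∈ M, x * algebraMap S K s = algebraMap S K a := by
  have hunits : ∀ m : M, IsUnit (algebraMap S K m) := fun m =>
    IsUnit.mk0 _ ((map_ne_zero_iff _ (IsFractionRing.injective S K)).2
      (nonZeroDivisors.ne_zero (hM m.2)))
  letI : Algebra A K := (IsLocalization.lift (M := M) (g := algebraMap S K) hunits).toAlgebra
  haveI : IsScalarTower S A K :=
    IsScalarTower.of_algebraMap_eq (fun x => (IsLocalization.lift_eq hunits x).symm)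
  haveI : IsDomain A := IsLocalization.isDomain_of_le_nonZeroDivisors A hM
  haveI : IsFractionRing A K := IsFractionRing.isFractionRing_of_isDomain_of_isLocalization M A K
  rw [isIntegrallyClosed_iff K]
  constructor
  · intro h x hx
    obtain ⟨z, hz⟩ := h (hx.tower_top (A := A))
    obtain ⟨a, s, rfl⟩ := IsLocalization.exists_mk'_eq M z
    refine ⟨a, s.1, s.2, ?_⟩
    rw [← hz, IsScalarTower.algebraMap_apply S A K (s : S), ← map_mul, IsLocalization.mk'_spec,
      ← IsScalarTower.algebraMap_apply]
  · intro h x hx
    obtain ⟨⟨m, hm⟩, hmx⟩ := IsIntegral.exists_multiple_integral_of_isLocalization M x hx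
    obtain ⟨a, s, hs, has⟩ := h _ hmx
    refine ⟨IsLocalization.mk' A a (⟨m * s, M.mul_mem hm hs⟩ : M), ?_⟩
    show IsLocalization.lift hunits (IsLocalization.mk' A a _) = x
    rw [IsLocalization.lift_mk'_spec, ← has, Submonoid.smul_def, Algebra.smul_def, map_mul]
    ring

/-- Transport finiteness of the integral closure from `FractionRing A` to any fraction field. -/
theorem finite_integralClosure_of_fractionRing (A : Type*) [CommRing A] [IsDomain A] (K : Type*)
    [Field K] [Algebra A K] [IsFractionRing A K]
    (h : Module.Finite A (integralClosure A (FractionRing A))) :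
    Module.Finite A (integralClosure A K) :=
  Module.Finite.equiv (AlgEquiv.mapIntegralClosure (FractionRing.algEquiv A K)).toLinearEquiv

section
variable (R : Type u) [CommRing R] [IsDomain R] (K : Type u) [Field K] [Algebra R K]
  [IsFractionRing R K]

/-- Consequence of N-1 for the localization at a prime, expressed in `K`. -/
theorem exists_finset_of_isN1_atPrime (m : Ideal R) [m.IsPrime]
    (h : CAlg.IsN1 (Localization.AtPrime m)) :
    ∃ Y : Finset K, (∀ y ∈ Y, IsIntegral R y) ∧ ∀ x : K, IsIntegral R x →
      ∃ s ∈ m.primeCompl, s • x ∈ Submodule.span R (Y : Set K) := by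
  classical
  have hM : m.primeCompl ≤ nonZeroDivisors R := m.primeCompl_le_nonZeroDivisors
  have hunits : ∀ s : m.primeCompl, IsUnit (algebraMap R K s) := fun s =>
    IsUnit.mk0 _ ((map_ne_zero_iff _ (IsFractionRing.injective R K)).2
      (nonZeroDivisors.ne_zero (hM s.2)))
  letI : Algebra (Localization.AtPrime m) K :=
    (IsLocalization.lift (M := m.primeCompl) (g := algebraMap R K) hunits).toAlgebra
  haveI : IsScalarTower R (Localization.AtPrime m) K :=
    IsScalarTower.of_algebraMap_eq (fun x => (IsLocalization.lift_eq hunits x).symm)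
  haveI : IsFractionRing (Localization.AtPrime m) K :=
    IsFractionRing.isFractionRing_of_isDomain_of_isLocalization m.primeCompl
      (Localization.AtPrime m) K
  haveI hfin : Module.Finite (Localization.AtPrime m)
      (integralClosure (Localization.AtPrime m) K) :=
    finite_integralClosure_of_fractionRing (Localization.AtPrime m) K h
  have hfg : (Subalgebra.toSubmodule (integralClosure (Localization.AtPrime m) K)).FG :=
    Module.Finite.iff_fg.1 hfin
  obtain ⟨Z, hZ⟩ := hfg
  have hZint : ∀ z ∈ Z, IsIntegral (Localization.AtPrime m) z := fun z hz => by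
    have : z ∈ Subalgebra.toSubmodule (integralClosure (Localization.AtPrime m) K) :=
      hZ ▸ Submodule.subset_span hz
    exact this
  have hmult : ∀ z : K, IsIntegral (Localization.AtPrime m) z →
      ∃ s : m.primeCompl, IsIntegral R (s • z) := fun z hz =>
    IsIntegral.exists_multiple_integral_of_isLocalization m.primeCompl z hz
  choose! σ hσ using hmult
  refine ⟨Z.image (fun z => σ z • z), ?_, ?_⟩
  · intro y hy
    obtain ⟨z, hz, rfl⟩ := Finset.mem_image.1 hy
    exact hσ z (hZint z hz)
  · intro x hx
    have hxA : x ∈ Submodule.span (Localization.AtPrime m) (Z : Set K) := by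
      rw [hZ]; exact hx.tower_top (A := Localization.AtPrime m)
    refine Submodule.span_induction (p := fun x _ => ∃ s ∈ m.primeCompl,
      s • x ∈ Submodule.span R ((Z.image (fun z => σ z • z) : Finset K) : Set K)) ?_ ?_ ?_ ?_ hxA
    · intro z hz
      refine ⟨σ z, (σ z).2, Submodule.subset_span ?_⟩
      exact Finset.mem_coe.2 (Finset.mem_image.2 ⟨z, hz, rfl⟩)
    · exact ⟨1, m.primeCompl.one_mem, by simp⟩
    · rintro x y _ _ ⟨s, hs, hsx⟩ ⟨t, ht, hty⟩
      refine ⟨s * t, m.primeCompl.mul_mem hs ht, ?_⟩
      rw [smul_add]
      refine Submodule.add_mem _ ?_ ?_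
      · rw [mul_comm, mul_smul]; exact Submodule.smul_mem _ _ hsx
      · rw [mul_smul]; exact Submodule.smul_mem _ _ hty
    · rintro a x _ ⟨s, hs, hsx⟩
      obtain ⟨r, t, rfl⟩ := IsLocalization.exists_mk'_eq m.primeCompl a
      refine ⟨t * s, m.primeCompl.mul_mem t.2 hs, ?_⟩
      have key : ((t : R) * s) • (IsLocalization.mk' (Localization.AtPrime m) r t • x) =
          r • (s • x) := by
        rw [Algebra.smul_def, Algebra.smul_def, Algebra.smul_def, Algebra.smul_def, map_mul,
          IsScalarTower.algebraMap_apply R (Localization.AtPrime m) K (t : R)]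
        have h1 : algebraMap (Localization.AtPrime m) K (algebraMap R _ (t : R)) *
            algebraMap (Localization.AtPrime m) K (IsLocalization.mk' _ r t) =
            algebraMap R K r := by
          rw [← map_mul, IsLocalization.mk'_spec', ← IsScalarTower.algebraMap_apply]
        calc algebraMap (Localization.AtPrime m) K (algebraMap R _ (t : R)) * algebraMap R K s *
              (algebraMap (Localization.AtPrime m) K (IsLocalization.mk' _ r t) * x)
            = (algebraMap (Localization.AtPrime m) K (algebraMap R _ (t : R)) *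
                algebraMap (Localization.AtPrime m) K (IsLocalization.mk' _ r t)) *
                (algebraMap R K s * x) := by ring
          _ = algebraMap R K r * (algebraMap R K s * x) := by rw [h1]
      rw [key]; exact Submodule.smul_mem _ _ hsx

/-- N-1 implies that some `R_f` is integrally closed. -/
theorem exists_away_of_isN1 (hfin : Module.Finite R (integralClosure R K)) :
    ∃ f : R, f ≠ 0 ∧ IsIntegrallyClosed (Localization.Away f) := by
  classical
  have hfg : (Subalgebra.toSubmodule (integralClosure R K)).FG := Module.Finite.iff_fg.1 hfin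
  obtain ⟨Z, hZ⟩ := hfg
  obtain ⟨b, hb⟩ := IsLocalization.exist_integer_multiples_of_finset (nonZeroDivisors R) Z
  have hb0 : (b : R) ≠ 0 := nonZeroDivisors.ne_zero b.2
  refine ⟨b, hb0, ?_⟩
  rw [isIntegrallyClosed_localization_iff K (Submonoid.powers (b : R))
    (powers_le_nonZeroDivisors_of_noZeroDivisors hb0)]
  intro x hx
  have hxZ : x ∈ Submodule.span R (Z : Set K) := by rw [hZ]; exact hx
  have : ∃ a : R, (b : R) • x = algebraMap R K a := by
    refine Submodule.span_induction (p := fun x _ => ∃ a : R, (b : R) • x = algebraMap R K a)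
      ?_ ?_ ?_ ?_ hxZ
    · intro z hz
      obtain ⟨a, ha⟩ := hb z hz
      exact ⟨a, ha.symm⟩
    · exact ⟨0, by simp⟩
    · rintro x y _ _ ⟨a, ha⟩ ⟨c, hc⟩
      exact ⟨a + c, by rw [smul_add, ha, hc, map_add]⟩
    · rintro r x _ ⟨a, ha⟩
      exact ⟨r * a, by rw [smul_comm, ha, Algebra.smul_def, map_mul]⟩
  obtain ⟨a, ha⟩ := this
  exact ⟨a, b, Submonoid.mem_powers _, by rw [mul_comm, ← Algebra.smul_def, ha]⟩

end

end Groth.Agent.Lib.Helper12.N1Crit
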