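import Mathlib
import Groth.Agent.Lib.Helper12.N1Crit

/-! Local criterion for N-1 (Stacks 0333), the hard direction. -/

set_option autoImplicit false
universe u
open Function

namespace Groth.Agent.Lib.Helper12.N1Crit

section
variable (R : Type u) [CommRing R] [IsDomain R] (K : Type u) [Field K] [Algebra R K]
  [IsFractionRing R K]

/-- A prime `q` of a subalgebra `S ⊆ K` is good if the integral closure of `R` is contained in the
localization of `S` at `q`. -/
def Good (S : Subalgebra R K) (q : PrimeSpectrum S) : Prop :=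
  ∀ x : K, IsIntegral R x → ∃ a s : S, s ∉ q.asIdeal ∧ x * (s : K) = (a : K)

theorem good_iff (S : Subalgebra R K) [Module.Finite R S] (q : PrimeSpectrum S) :
    IsIntegrallyClosed (Localization.AtPrime q.asIdeal) ↔ Good R K S q := by
  rw [isIntegrallyClosed_localization_iff K q.asIdeal.primeCompl
    q.asIdeal.primeCompl_le_nonZeroDivisors]
  constructor
  · intro h x hx
    obtain ⟨a, s, hs, hxs⟩ := h x (hx.tower_top (A := S))
    exact ⟨a, s, hs, hxs⟩
  · intro h x hx
    have hxR : IsIntegral R x := isIntegral_trans x hx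
    obtain ⟨a, s, hs, hxs⟩ := h x hxR
    exact ⟨a, s, hs, hxs⟩

/-- The set of primes of `R` over which `S` is "normal". -/
def V (S : Subalgebra R K) : Set (PrimeSpectrum R) :=
  (PrimeSpectrum.comap (algebraMap R S) '' {q | Good R K S q}ᶜ)ᶜ

theorem mem_V (S : Subalgebra R K) (p : PrimeSpectrum R) :
    p ∈ V R K S ↔ ∀ q : PrimeSpectrum S,
      PrimeSpectrum.comap (algebraMap R S) q = p → Good R K S q := by
  simp only [V, Set.mem_compl_iff, Set.mem_image, Set.mem_setOf_eq, not_exists, not_and]
  constructor
  · intro h q hq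
    by_contra hg
    exact h q hg hq
  · intro h q hg hq
    exact hg (h q hq)

theorem V_mono {S S' : Subalgebra R K} (hSS' : S ≤ S') : V R K S ⊆ V R K S' := by
  intro p hp
  rw [mem_V] at hp ⊢
  intro q' hq'
  have hq : PrimeSpectrum.comap (algebraMap R S)
      (PrimeSpectrum.comap (Subalgebra.inclusion hSS').toRingHom q') = p := by
    rw [← hq']
    apply PrimeSpectrum.ext
    ext r
    show (Subalgebra.inclusion hSS') (algebraMap R S r) ∈ q'.asIdeal ↔
      algebraMap R S' r ∈ q'.asIdeal
    rw [(Subalgebra.inclusion hSS').commutes r]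
  intro x hx
  obtain ⟨a, s, hs, hxs⟩ := hp _ hq x hx
  exact ⟨Subalgebra.inclusion hSS' a, Subalgebra.inclusion hSS' s, hs, hxs⟩

/-- The finite subalgebra generated by a finite set of integral elements. -/
def Sub (T : Finset (integralClosure R K)) : Subalgebra R K :=
  Algebra.adjoin R (Subtype.val '' (T : Set (integralClosure R K)))

theorem sub_fg (T : Finset (integralClosure R K)) : (Sub R K T).toSubmodule.FG :=
  fg_adjoin_of_finite (T.finite_toSet.image _) (by rintro _ ⟨y, _, rfl⟩; exact y.2)

theorem sub_le (T : Finset (integralClosure R K)) : Sub R K T ≤ integralClosure R K :=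
  Algebra.adjoin_le (by rintro _ ⟨y, _, rfl⟩; exact y.2)

theorem sub_mono {T T' : Finset (integralClosure R K)} (h : T ⊆ T') : Sub R K T ≤ Sub R K T' :=
  Algebra.adjoin_mono (Set.image_mono (Finset.coe_subset.2 h))

theorem subset_sub (T : Finset (integralClosure R K)) (y : integralClosure R K) (hy : y ∈ T) :
    (y : K) ∈ Sub R K T :=
  Algebra.subset_adjoin ⟨y, Finset.mem_coe.2 hy, rfl⟩

instance sub_finite (T : Finset (integralClosure R K)) : Module.Finite R (Sub R K T) :=
  Module.Finite.iff_fg.2 (sub_fg R K T)

variable [IsNoetherianRing R]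

theorem isOpen_V (f : R) (hf : f ≠ 0)
    (hfpow : ∀ x : K, IsIntegral R x →
      ∃ n : ℕ, ∃ a : R, x * algebraMap R K (f ^ n) = algebraMap R K a)
    (S : Subalgebra R K) [Module.Finite R S] : IsOpen (V R K S) := by
  haveI : IsNoetherianRing S := IsNoetherianRing.of_finite R S
  have hinj : Injective (algebraMap R S) := by
    intro a b hab
    apply IsFractionRing.injective R K
    exact congrArg Subtype.val hab
  have hf' : algebraMap R S f ≠ 0 := (map_ne_zero_iff _ hinj).2 hf
  have hn' : IsIntegrallyClosed (Localization.Away (algebraMap R S f)) := by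
    rw [isIntegrallyClosed_localization_iff K (Submonoid.powers (algebraMap R S f))
      (powers_le_nonZeroDivisors_of_noZeroDivisors hf')]
    intro x hx
    obtain ⟨n, a, h⟩ := hfpow x (isIntegral_trans x hx)
    refine ⟨algebraMap R S a, algebraMap R S f ^ n, ⟨n, rfl⟩, ?_⟩
    rw [← map_pow, ← IsScalarTower.algebraMap_apply, ← IsScalarTower.algebraMap_apply]
    exact h
  have hopen := Groth.Agent.S0572.result S (algebraMap R S f) hf' hn'
  have hset : {q : PrimeSpectrum S |
      IsIntegrallyClosed (Localization.AtPrime q.asIdeal)} = {q | Good R K S q} := by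
    ext q
    exact good_iff R K S q
  rw [hset] at hopen
  rw [V, isOpen_compl_iff]
  exact PrimeSpectrum.isClosedMap_comap_of_isIntegral _
    (algebraMap_isIntegral_iff.2 inferInstance) _ hopen.isClosed_compl

/-- **Stacks 0333**: a Noetherian domain with `R_f` normal for some `f ≠ 0` and all local rings at
maximal ideals N-1 is N-1. -/
theorem finite_integralClosure_of_local (f : R) (hf : f ≠ 0)
    (hn : IsIntegrallyClosed (Localization.Away f))
    (hloc : ∀ (m : Ideal R) [m.IsMaximal], CAlg.IsN1 (Localization.AtPrime m)) :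
    Module.Finite R (integralClosure R K) := by
  classical
  have hfpow : ∀ x : K, IsIntegral R x →
      ∃ n : ℕ, ∃ a : R, x * algebraMap R K (f ^ n) = algebraMap R K a := by
    intro x hx
    obtain ⟨a, s, ⟨n, rfl⟩, h⟩ := (isIntegrallyClosed_localization_iff K (Submonoid.powers f)
      (powers_le_nonZeroDivisors_of_noZeroDivisors hf) (Localization.Away f)).1 hn x hx
    exact ⟨n, a, h⟩
  have hVopen : ∀ T, IsOpen (V R K (Sub R K T)) := fun T => isOpen_V R K f hf hfpow (Sub R K T)
  have hcover : (Set.univ : Set (PrimeSpectrum R)) ⊆ ⋃ T, V R K (Sub R K T) := by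
    intro p _
    obtain ⟨m, hm, hpm⟩ := Ideal.exists_le_maximal p.asIdeal p.2.ne_top
    haveI := hm
    obtain ⟨Y, hYint, hY⟩ := exists_finset_of_isN1_atPrime R K m (hloc m)
    let T : Finset (integralClosure R K) := Y.attach.image (fun y => ⟨y.1, hYint y.1 y.2⟩)
    have hYT : ∀ y ∈ Y, y ∈ Sub R K T := by
      intro y hy
      exact subset_sub R K T ⟨y, hYint y hy⟩
        (Finset.mem_image.2 ⟨⟨y, hy⟩, Finset.mem_attach _ _, rfl⟩)
    have hmV : (⟨m, hm.isPrime⟩ : PrimeSpectrum R) ∈ V R K (Sub R K T) := by
      rw [mem_V]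
      intro q hq x hx
      obtain ⟨s, hs, hsx⟩ := hY x hx
      have hmem : s • x ∈ Sub R K T := by
        have : Submodule.span R (Y : Set K) ≤ (Sub R K T).toSubmodule :=
          Submodule.span_le.2 (fun y hy => hYT y hy)
        exact this hsx
      refine ⟨⟨s • x, hmem⟩, algebraMap R (Sub R K T) s, ?_, ?_⟩
      · intro hcon
        apply hs
        have : s ∈ (PrimeSpectrum.comap (algebraMap R (Sub R K T)) q).asIdeal := hcon
        rw [hq] at this
        exact this
      · show x * algebraMap R K s = s • x
        rw [Algebra.smul_def, mul_comm]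
    refine Set.mem_iUnion.2 ⟨T, ?_⟩
    have hspec : p ⤳ ⟨m, hm.isPrime⟩ := (PrimeSpectrum.le_iff_specializes _ _).1 hpm
    exact hspec.mem_open (hVopen T) hmV
  have hdir : Directed (· ⊆ ·) (fun T => V R K (Sub R K T)) := by
    intro T T'
    exact ⟨T ∪ T', V_mono R K (sub_mono R K Finset.subset_union_left),
      V_mono R K (sub_mono R K Finset.subset_union_right)⟩
  obtain ⟨T, hT⟩ := isCompact_univ.elim_directed_cover (fun T => V R K (Sub R K T)) hVopen hcover hdir
  have hle : integralClosure R K ≤ Sub R K T := by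
    intro x hx
    by_contra hxT
    let I : Ideal (Sub R K T) :=
      { carrier := {s | (s : K) * x ∈ Sub R K T}
        add_mem' := fun {a b} ha hb => by
          show ((a + b : Sub R K T) : K) * x ∈ Sub R K T
          rw [Subalgebra.coe_add, add_mul]
          exact (Sub R K T).add_mem ha hb
        zero_mem' := by
          show ((0 : Sub R K T) : K) * x ∈ Sub R K T
          rw [Subalgebra.coe_zero, zero_mul]
          exact (Sub R K T).zero_mem
        smul_mem' := fun c s hs => by
          show ((c * s : Sub R K T) : K) * x ∈ Sub R K T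
          rw [Subalgebra.coe_mul, mul_assoc]
          exact (Sub R K T).mul_mem c.2 hs }
    have hI : I ≠ ⊤ := by
      intro h
      apply hxT
      have h1 : (1 : Sub R K T) ∈ I := h ▸ Submodule.mem_top
      have h2 : ((1 : Sub R K T) : K) * x ∈ Sub R K T := h1
      rwa [Subalgebra.coe_one, one_mul] at h2
    obtain ⟨q, hq, hIq⟩ := Ideal.exists_le_maximal I hI
    have hg : Good R K (Sub R K T) ⟨q, hq.isPrime⟩ :=
      (mem_V R K (Sub R K T) _).1 (hT (Set.mem_univ
        (PrimeSpectrum.comap (algebraMap R (Sub R K T)) ⟨q, hq.isPrime⟩))) _ rfl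
    obtain ⟨a, s, hs, hxs⟩ := hg x hx
    apply hs
    apply hIq
    show (s : K) * x ∈ Sub R K T
    rw [mul_comm, hxs]
    exact a.2
  have heq : integralClosure R K = Sub R K T := le_antisymm hle (sub_le R K T)
  have hfg : (Subalgebra.toSubmodule (integralClosure R K)).FG := by
    rw [heq]
    exact sub_fg R K T
  exact Module.Finite.iff_fg.2 hfg

end

end Groth.Agent.Lib.Helper12.N1Crit
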