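import Mathlib
import Groth.Prelude.Def_Found

/-!
# Helper library (helper12): integer valued dimension functions on a prime spectrum give
catenarity and finite dimension; they restrict to localisations
-/

set_option autoImplicit false
universe u

namespace Groth.Agent.Lib.Helper12.DimFunRing

variable {A : Type u} [CommRing A]

/-- An integer valued dimension function on a prime spectrum: strictly decreasing, and dropping by
exactly one along covers. -/
structure IsDimFun (δ : PrimeSpectrum A → ℤ) : Prop where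
  lt : ∀ x y : PrimeSpectrum A, x < y → δ y < δ x
  covBy : ∀ x y : PrimeSpectrum A, x ⋖ y → δ x = δ y + 1

namespace IsDimFun

variable {δ : PrimeSpectrum A → ℤ} (hδ : IsDimFun δ)

include hδ

theorem le_aux (s : LTSeries (PrimeSpectrum A)) (i : ℕ) (hi : i ≤ s.length) :
    (i : ℤ) ≤ δ (s 0) - δ (s ⟨i, Nat.lt_succ_of_le hi⟩) := by
  induction i with
  | zero => simp
  | succ i ih =>
    have h1 := ih (Nat.le_of_succ_le hi)
    have h2 := s.step ⟨i, hi⟩
    have h3 := hδ.lt _ _ h2
    have e1 : (Fin.castSucc (⟨i, hi⟩ : Fin s.length)) = ⟨i, Nat.lt_succ_of_le (Nat.le_of_succ_le hi)⟩ :=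
      rfl
    have e2 : (Fin.succ (⟨i, hi⟩ : Fin s.length)) = ⟨i + 1, Nat.lt_succ_of_le hi⟩ := rfl
    rw [e1, e2] at h3
    push_cast
    omega

theorem eq_aux (s : LTSeries (PrimeSpectrum A))
    (hs : ∀ i : Fin s.length, s (Fin.castSucc i) ⋖ s (Fin.succ i)) (i : ℕ) (hi : i ≤ s.length) :
    (i : ℤ) = δ (s 0) - δ (s ⟨i, Nat.lt_succ_of_le hi⟩) := by
  induction i with
  | zero => simp
  | succ i ih =>
    have h1 := ih (Nat.le_of_succ_le hi)
    have h2 := hs ⟨i, hi⟩
    have h3 := hδ.covBy _ _ h2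
    have e1 : (Fin.castSucc (⟨i, hi⟩ : Fin s.length)) = ⟨i, Nat.lt_succ_of_le (Nat.le_of_succ_le hi)⟩ :=
      rfl
    have e2 : (Fin.succ (⟨i, hi⟩ : Fin s.length)) = ⟨i + 1, Nat.lt_succ_of_le hi⟩ := rfl
    rw [e1, e2] at h3
    push_cast
    omega

theorem length_le (s : LTSeries (PrimeSpectrum A)) : (s.length : ℤ) ≤ δ s.head - δ s.last :=
  hδ.le_aux s s.length le_rfl

theorem length_eq (s : LTSeries (PrimeSpectrum A))
    (hs : ∀ i : Fin s.length, s (Fin.castSucc i) ⋖ s (Fin.succ i)) :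
    (s.length : ℤ) = δ s.head - δ s.last :=
  hδ.eq_aux s hs s.length le_rfl

theorem isCatenary : CAlg.IsCatenary A := by
  refine ⟨fun p q _ => ⟨(δ p - δ q).toNat, fun s hs1 hs2 => ?_⟩, fun s t h1 h2 hs ht => ?_⟩
  · have := hδ.length_le s
    rw [hs1, hs2] at this
    omega
  · have e1 := hδ.length_eq s hs
    have e2 := hδ.length_eq t ht
    rw [h1, h2] at e1
    omega

theorem dim_lt_top (a b : ℤ) (hb : ∀ x, a ≤ δ x ∧ δ x ≤ b) : ringKrullDim A < ⊤ := by
  have h : ringKrullDim A ≤ ((b - a).toNat : WithBot ℕ∞) := by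
    unfold ringKrullDim Order.krullDim
    refine iSup_le fun s => ?_
    have h1 := hδ.length_le s
    have h2 := hb s.head
    have h3 := hb s.last
    have h4 : s.length ≤ (b - a).toNat := by omega
    exact_mod_cast h4
  have h5 : (((b - a).toNat : ℕ∞) : WithBot ℕ∞) < ((⊤ : ℕ∞) : WithBot ℕ∞) :=
    WithBot.coe_lt_coe.mpr (ENat.coe_lt_top _)
  exact h.trans_lt h5

/-- A dimension function restricts to a localisation. -/
theorem localization (M : Submonoid A) (T : Type u) [CommRing T] [Algebra A T]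
    [IsLocalization M T] : IsDimFun (δ ∘ PrimeSpectrum.comap (algebraMap A T)) := by
  let e := IsLocalization.primeSpectrumOrderIso M T
  have he : ∀ x : PrimeSpectrum T, (e x).1 = PrimeSpectrum.comap (algebraMap A T) x :=
    fun x => rfl
  refine ⟨fun x y hxy => ?_, fun x y hxy => ?_⟩
  · have h1 : e x < e y := e.lt_iff_lt.mpr hxy
    exact hδ.lt _ _ h1
  · apply hδ.covBy
    rw [← he, ← he]
    refine ⟨e.lt_iff_lt.mpr hxy.lt, ?_⟩
    intro c h1 h2
    have hc : Disjoint (M : Set A) c.asIdeal :=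
      Set.disjoint_of_subset_right (show (c.asIdeal : Set A) ⊆ (e y).1.asIdeal from h2.le) (e y).2
    have h3 : e x < ⟨c, hc⟩ := h1
    have h4 : (⟨c, hc⟩ : {p : PrimeSpectrum A // Disjoint (M : Set A) p.asIdeal}) < e y := h2
    rw [← e.apply_symm_apply ⟨c, hc⟩, e.lt_iff_lt] at h3 h4
    exact hxy.2 h3 h4

end IsDimFun

end Groth.Agent.Lib.Helper12.DimFunRing
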