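import Groth.Agent.S7651

/-! Normalization of a reduced one-dimensional Noetherian local ring: total ring of fractions as a
product of residue fields, integrality in products, localizations of finite products. -/

set_option autoImplicit false
universe u

namespace Groth.Agent.Lib.Helper12

open IsLocalRing Groth.Agent.S7651

theorem exists_fractionRing_equiv (A : Type u) [CommRing A] [IsLocalRing A] [IsNoetherianRing A]
    [IsReduced A] (hdim : ringKrullDim A = 1) :
    Nonempty (FractionRing A ≃ₐ[A]
      (∀ p : {p : PrimeSpectrum A // p.asIdeal ∈ minimalPrimes A}, p.1.asIdeal.ResidueField)) := by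
  obtain ⟨f, hfm, hf⟩ := exists_notMem hdim
  obtain ⟨e1⟩ := (res_iff hdim hfm).1 hf
  haveI := (isLocalization_iff hdim (Or.inr inferInstance) hfm).1 hf
  exact ⟨(IsLocalization.algEquiv (nonZeroDivisors A) (FractionRing A)
    (Localization.Away f)).trans e1⟩

theorem isIntegral_pi {A : Type*} [CommRing A] {ι : Type*} [Finite ι] {κ : ι → Type*}
    [∀ i, CommRing (κ i)] [∀ i, Algebra A (κ i)] (y : ∀ i, κ i) (h : ∀ i, IsIntegral A (y i)) :
    IsIntegral A y := by
  classical
  haveI := Fintype.ofFinite ι
  have h' : ∀ i, ∃ p : Polynomial A, p.Monic ∧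
      Polynomial.eval₂ (algebraMap A (κ i)) (y i) p = 0 := h
  choose g hg hgy using h'
  refine ⟨∏ i, g i, Polynomial.monic_prod_of_monic _ _ (fun i _ => hg i), ?_⟩
  rw [← Polynomial.aeval_def]
  funext i
  have h1 : (Polynomial.aeval y (∏ i, g i)) i = Polynomial.aeval (y i) (∏ i, g i) :=
    (Polynomial.aeval_algHom_apply (Pi.evalAlgHom A κ i) y (∏ i, g i)).symm
  rw [h1, map_prod]
  exact Finset.prod_eq_zero (Finset.mem_univ i) (by rw [Polynomial.aeval_def]; exact hgy i)

/-- For a prime `𝔭`, the integral closure of `A` in `κ(𝔭)` has fraction field `κ(𝔭)`. -/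
theorem isFractionRing_integralClosure_residueField {A : Type*} [CommRing A] (𝔭 : Ideal A)
    [𝔭.IsPrime] : IsFractionRing (integralClosure A 𝔭.ResidueField) 𝔭.ResidueField := by
  haveI : FaithfulSMul (integralClosure A 𝔭.ResidueField) 𝔭.ResidueField :=
    (faithfulSMul_iff_algebraMap_injective _ _).2 Subtype.val_injective
  apply IsFractionRing.of_field
  intro z
  obtain ⟨a, b, hb, rfl⟩ := IsFractionRing.div_surjective (A := A ⧸ 𝔭) z
  obtain ⟨a, rfl⟩ := Ideal.Quotient.mk_surjective a
  obtain ⟨b, rfl⟩ := Ideal.Quotient.mk_surjective b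
  exact ⟨algebraMap A _ a, algebraMap A _ b, rfl⟩

theorem isIntegrallyClosed_integralClosure_residueField {A : Type*} [CommRing A] (𝔭 : Ideal A)
    [𝔭.IsPrime] : IsIntegrallyClosed (integralClosure A 𝔭.ResidueField) := by
  haveI := isFractionRing_integralClosure_residueField 𝔭
  exact (isIntegrallyClosed_iff_isIntegrallyClosedIn 𝔭.ResidueField).2 inferInstance

/-- A ring isomorphic to a finite product of integrally closed domains has integrally closed
domains as its local rings. -/
theorem localization_of_equiv_pi {S : Type*} [CommRing S] {ι : Type*} [Finite ι] (R : ι → Type*)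
    [∀ i, CommRing (R i)] [∀ i, IsDomain (R i)] [∀ i, IsIntegrallyClosed (R i)]
    (e : S ≃+* ∀ i, R i) (q : Ideal S) [hq : q.IsPrime] :
    IsDomain (Localization.AtPrime q) ∧ IsIntegrallyClosed (Localization.AtPrime q) := by
  classical
  have hq' : (q.comap e.symm.toRingHom).IsPrime := Ideal.comap_isPrime _ _
  obtain ⟨⟨j, qj⟩, hj⟩ := (PrimeSpectrum.sigmaToPi_bijective R).2 ⟨q.comap e.symm.toRingHom, hq'⟩
  have hmem : ∀ x : S, x ∈ q ↔ (e x) j ∈ qj.asIdeal := by
    intro x
    have h1 := congrArg PrimeSpectrum.asIdeal hj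
    rw [PrimeSpectrum.sigmaToPi_apply] at h1
    have h2 : e x ∈ (PrimeSpectrum.comap (Pi.evalRingHom R j) qj).asIdeal ↔
        e x ∈ q.comap e.symm.toRingHom := by rw [h1]
    rw [PrimeSpectrum.comap_asIdeal, Ideal.mem_comap, Ideal.mem_comap] at h2
    have h3 : e.symm.toRingHom (e x) = x := e.symm_apply_apply x
    rw [h3] at h2
    exact h2.symm
  letI : Algebra S (Localization.AtPrime qj.asIdeal) :=
    ((algebraMap (R j) (Localization.AtPrime qj.asIdeal)).comp
      ((Pi.evalRingHom R j).comp e.toRingHom)).toAlgebra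
  have halg : ∀ x : S, algebraMap S (Localization.AtPrime qj.asIdeal) x =
      algebraMap (R j) (Localization.AtPrime qj.asIdeal) ((e x) j) := fun x => rfl
  have hsingle : ∀ c : R j, c ∉ qj.asIdeal → e.symm (Pi.single j c) ∉ q := by
    intro c hc hmem'
    have := (hmem _).1 hmem'
    rw [e.apply_symm_apply, Pi.single_eq_same] at this
    exact hc this
  have hloc : IsLocalization.AtPrime (Localization.AtPrime qj.asIdeal) q := by
    refine (isLocalization_iff q.primeCompl (Localization.AtPrime qj.asIdeal)).2 ⟨?_, ?_, ?_⟩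
    · rintro ⟨y, hy⟩
      have hyj : (e y) j ∈ qj.asIdeal.primeCompl := fun h => hy ((hmem y).2 h)
      exact IsLocalization.map_units (Localization.AtPrime qj.asIdeal)
        (⟨(e y) j, hyj⟩ : qj.asIdeal.primeCompl)
    · intro z
      obtain ⟨⟨a, s⟩, h⟩ := IsLocalization.surj qj.asIdeal.primeCompl z
      refine ⟨(e.symm (Pi.single j a), ⟨e.symm (Pi.single j (s : R j)), hsingle _ s.2⟩), ?_⟩
      rw [halg, halg]
      simp only [e.apply_symm_apply, Pi.single_eq_same]
      exact h
    · intro x y hxy
      rw [halg, halg] at hxy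
      obtain ⟨c, hc⟩ := (IsLocalization.eq_iff_exists qj.asIdeal.primeCompl
        (Localization.AtPrime qj.asIdeal)).1 hxy
      refine ⟨⟨e.symm (Pi.single j (c : R j)), hsingle _ c.2⟩, ?_⟩
      apply e.injective
      simp only [map_mul, e.apply_symm_apply]
      funext i
      by_cases hi : i = j
      · subst hi
        simp only [Pi.mul_apply, Pi.single_eq_same]
        exact hc
      · simp only [Pi.mul_apply, Pi.single_eq_of_ne hi, zero_mul]
  have hdomT : IsDomain (Localization.AtPrime qj.asIdeal) :=
    IsLocalization.isDomain_localization (Ideal.primeCompl_le_nonZeroDivisors _)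
  have hicT : IsIntegrallyClosed (Localization.AtPrime qj.asIdeal) :=
    isIntegrallyClosed_of_isLocalization (Localization.AtPrime qj.asIdeal)
      qj.asIdeal.primeCompl (Ideal.primeCompl_le_nonZeroDivisors _)
  let ε : Localization.AtPrime q ≃ₐ[S] Localization.AtPrime qj.asIdeal :=
    IsLocalization.algEquiv q.primeCompl _ _
  exact ⟨ε.toRingEquiv.toMulEquiv.isDomain _, IsIntegrallyClosed.of_equiv ε.symm.toRingEquiv⟩

/-- Over a one-dimensional Noetherian local ring, a finite module killed by a power of a
parameter has finite length. -/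
theorem isFiniteLength_of_pow_smul_eq_zero {A : Type u} [CommRing A] [IsLocalRing A]
    [IsNoetherianRing A] (hdim : ringKrullDim A = 1) {f : A} (hfm : f ∈ maximalIdeal A)
    (hf : ∀ p ∈ minimalPrimes A, f ∉ p) {M : Type*} [AddCommGroup M] [Module A M]
    [Module.Finite A M] {N : ℕ} (hN : ∀ x : M, f ^ N • x = 0) : IsFiniteLength A M := by
  rw [isFiniteLength_iff_isNoetherian_isArtinian]
  refine ⟨inferInstance, ?_⟩
  let _ : Module (A ⧸ Module.annihilator A M) M := Module.quotientAnnihilator
  have : IsScalarTower A (A ⧸ Module.annihilator A M) M :=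
    (Module.isTorsionBySet_annihilator A M).isScalarTower
  have : Module.Finite (A ⧸ Module.annihilator A M) M :=
    Module.Finite.of_restrictScalars_finite A (A ⧸ Module.annihilator A M) M
  have hfN : f ^ N ∈ Module.annihilator A M := Module.mem_annihilator.2 hN
  have hrad : maximalIdeal A = (Ideal.span {f}).radical := (radical_iff hdim hfm).2 hf
  have : Ring.KrullDimLE 0 (A ⧸ Module.annihilator A M) := by
    rw [Ring.krullDimLE_zero_iff]
    intro P hP
    have hcomap : (P.comap (Ideal.Quotient.mk (Module.annihilator A M))).IsPrime := hP.comap _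
    have hfmem : f ∈ P.comap (Ideal.Quotient.mk (Module.annihilator A M)) := by
      apply hcomap.mem_of_pow_mem N
      rw [Ideal.mem_comap, Ideal.Quotient.eq_zero_iff_mem.2 hfN]
      exact P.zero_mem
    have hle : maximalIdeal A ≤ P.comap (Ideal.Quotient.mk (Module.annihilator A M)) := by
      rw [hrad]
      exact hcomap.radical_le_iff.2 ((Ideal.span_singleton_le_iff_mem _).2 hfmem)
    have hmax : (P.comap (Ideal.Quotient.mk (Module.annihilator A M))).IsMaximal := by
      rw [← (maximalIdeal.isMaximal A).eq_of_le hcomap.ne_top hle]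
      exact maximalIdeal.isMaximal A
    have hP' : (P.comap (Ideal.Quotient.mk (Module.annihilator A M))).map
        (Ideal.Quotient.mk (Module.annihilator A M)) = P :=
      Ideal.map_comap_of_surjective _ Ideal.Quotient.mk_surjective P
    rcases Ideal.map_eq_top_or_isMaximal_of_surjective
      (Ideal.Quotient.mk (Module.annihilator A M)) Ideal.Quotient.mk_surjective hmax with h | h
    · rw [hP'] at h; exact absurd h hP.ne_top
    · rwa [hP'] at h
  have : IsArtinianRing (A ⧸ Module.annihilator A M) :=
    isArtinianRing_iff_krullDimLE_zero.mpr inferInstance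
  have : IsArtinian (A ⧸ Module.annihilator A M) M := inferInstance
  exact isArtinian_of_surjective_algebraMap (R := A ⧸ Module.annihilator A M) (S := A)
    Ideal.Quotient.mk_surjective

end Groth.Agent.Lib.Helper12
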