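import Mathlib

/-!
# `Spec 𝒪_{X,x}` as the limit of the affine open neighbourhoods of `x`
-/

universe u

set_option backward.isDefEq.respectTransparency false

open CategoryTheory Limits AlgebraicGeometry TopologicalSpace

namespace Groth.Agent.Lib.Helper12.StalkLim

/-- Two morphisms which agree on all `Spec 𝒪_{X,z}` are equal. -/
theorem hom_ext_of_fromSpecStalk {X Y : Scheme.{u}} (g₁ g₂ : X ⟶ Y)
    (H : ∀ z : X, X.fromSpecStalk z ≫ g₁ = X.fromSpecStalk z ≫ g₂) : g₁ = g₂ := by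
  have hbase : ∀ z : X, g₁ z = g₂ z := by
    intro z
    have := congr($(H z) (IsLocalRing.closedPoint (X.presheaf.stalk z)))
    simpa [Scheme.Hom.comp_apply] using this
  refine Scheme.hom_ext_of_forall _ _ fun z ↦ ?_
  obtain ⟨_, ⟨V, (hV : IsAffineOpen V), rfl⟩, hzV, -⟩ :=
    Y.isBasis_affineOpens.exists_subset_of_mem_open (Set.mem_univ (g₁ z)) isOpen_univ
  obtain ⟨_, ⟨W, (hW : IsAffineOpen W), rfl⟩, hzW, hWV : W ≤ g₁ ⁻¹ᵁ V ⊓ g₂ ⁻¹ᵁ V⟩ :=
    X.isBasis_affineOpens.exists_subset_of_mem_open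
      (show z ∈ ((g₁ ⁻¹ᵁ V ⊓ g₂ ⁻¹ᵁ V : X.Opens) : Set X) from
        ⟨hzV, by show g₂ z ∈ V; rw [← hbase z]; exact hzV⟩) (g₁ ⁻¹ᵁ V ⊓ g₂ ⁻¹ᵁ V).2
  refine ⟨W, hzW, ?_⟩
  have h1 : W ≤ g₁ ⁻¹ᵁ V := hWV.trans inf_le_left
  have h2 : W ≤ g₂ ⁻¹ᵁ V := hWV.trans inf_le_right
  have key : g₁.appLE V W h1 = g₂.appLE V W h2 := by
    ext s
    refine TopCat.Presheaf.section_ext X.sheaf W _ _ fun w hw ↦ ?_
    have e := H w
    rw [← hW.fromSpecStalk_eq_fromSpecStalk hw, IsAffineOpen.fromSpecStalk, Category.assoc,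
      Category.assoc, ← hV.SpecMap_appLE_fromSpec g₁ hW h1, ← hV.SpecMap_appLE_fromSpec g₂ hW h2,
      ← Spec.map_comp_assoc, ← Spec.map_comp_assoc, cancel_mono] at e
    have e' := Spec.map_injective e
    exact congr($e' s)
  have e1 := hV.SpecMap_appLE_fromSpec g₁ hW h1
  have e2 := hV.SpecMap_appLE_fromSpec g₂ hW h2
  rw [key] at e1
  have e3 : hW.fromSpec ≫ g₁ = hW.fromSpec ≫ g₂ := e1.symm.trans e2
  have e4 := congr((IsAffineOpen.isoSpec hW).hom ≫ $e3)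
  simpa [IsAffineOpen.isoSpec_hom_fromSpec_assoc] using e4


/-- A morphism whose image consists of generalizations of `x` factors through `Spec 𝒪_{X,x}`
(same statement and proof as `Helper11.Birat.exists_lift_fromSpecStalk`, restated here to keep
the import graph small). -/
theorem exists_lift_fromSpecStalk {X P : Scheme.{u}} (g : P ⟶ X) (x : X)
    (hg : ∀ p : P, g.base p ⤳ x) :
    ∃ g' : P ⟶ Spec (X.presheaf.stalk x), g' ≫ X.fromSpecStalk x = g := by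
  obtain ⟨U, hU, hxU⟩ : ∃ U : X.Opens, IsAffineOpen U ∧ x ∈ U := by
    obtain ⟨_, ⟨U, hU, rfl⟩, hxU, -⟩ :=
      X.isBasis_affineOpens.exists_subset_of_mem_open (Set.mem_univ x) isOpen_univ
    exact ⟨U, hU, hxU⟩
  have hgU : ∀ p : P, g.base p ∈ U := fun p => (hg p).mem_open U.2 hxU
  have hle : (⊤ : P.Opens) ≤ g ⁻¹ᵁ U := fun p _ => hgU p
  letI := X.presheaf.algebra_section_stalk ⟨x, hxU⟩
  haveI hloc := hU.isLocalization_stalk ⟨x, hxU⟩
  have hunit : ∀ r : (hU.primeIdealOf ⟨x, hxU⟩).asIdeal.primeCompl,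
      IsUnit (g.appLE U ⊤ hle (r : Γ(X, U))) := by
    intro r
    have hxr : x ∈ X.basicOpen (r : Γ(X, U)) :=
      (X.mem_basicOpen _ x hxU).mpr (IsLocalization.map_units (X.presheaf.stalk x) r)
    refine RingedSpace.isUnit_of_isUnit_germ P.toRingedSpace ⊤ _ (fun p hp => ?_)
    refine (P.mem_basicOpen (g.appLE U ⊤ hle (r : Γ(X, U))) p hp).mp ?_
    rw [Scheme.basicOpen_appLE]
    exact ⟨hp, (hg p).mem_open (X.basicOpen _).2 hxr⟩
  let φ₁ : X.presheaf.stalk x →+* Γ(P, ⊤) :=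
    IsLocalization.lift (M := (hU.primeIdealOf ⟨x, hxU⟩).asIdeal.primeCompl)
      (g := (g.appLE U ⊤ hle).hom) hunit
  have hφ₁ : X.presheaf.germ U x hxU ≫ CommRingCat.ofHom φ₁ = g.appLE U ⊤ hle := by
    ext r
    exact IsLocalization.lift_eq hunit r
  refine ⟨P.toSpecΓ ≫ Spec.map (CommRingCat.ofHom φ₁), ?_⟩
  rw [← hU.fromSpecStalk_eq_fromSpecStalk hxU, IsAffineOpen.fromSpecStalk, Category.assoc,
    ← Spec.map_comp_assoc, hφ₁, ← cancel_epi P.topIso.hom, Scheme.topIso_hom]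
  calc (⊤ : P.Opens).ι ≫ P.toSpecΓ ≫ Spec.map (g.appLE U ⊤ hle) ≫ hU.fromSpec
      = ((⊤ : P.Opens).toSpecΓ ≫ Spec.map (g.appLE U ⊤ hle)) ≫ hU.fromSpec := by
        rw [Scheme.Opens.toSpecΓ_top]; simp only [Category.assoc]
    _ = (g.resLE U ⊤ hle ≫ U.toSpecΓ) ≫ hU.fromSpec := by
        rw [Scheme.Opens.toSpecΓ_SpecMap_appLE]
    _ = g.resLE U ⊤ hle ≫ U.ι := by rw [Category.assoc, hU.toSpecΓ_fromSpec]
    _ = (⊤ : P.Opens).ι ≫ g := Scheme.Hom.resLE_comp_ι _ _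

section

variable (X : Scheme.{u}) (x : X)

/-- The affine open neighbourhoods of a point. -/
structure AffNhd : Type u where
  /-- the underlying open -/
  U : X.Opens
  isAffineOpen : IsAffineOpen U
  mem : x ∈ U

instance : Preorder (AffNhd X x) := Preorder.lift AffNhd.U

variable {X x} in
lemma AffNhd.le_iff {W W' : AffNhd X x} : W ≤ W' ↔ W.U ≤ W'.U := Iff.rfl

variable {X x} in
lemma AffNhd.exists_le (O : X.Opens) (hO : x ∈ O) : ∃ W : AffNhd X x, W.U ≤ O := by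
  obtain ⟨_, ⟨W, hW, rfl⟩, hxW, hWO⟩ :=
    X.isBasis_affineOpens.exists_subset_of_mem_open hO O.2
  exact ⟨⟨W, hW, hxW⟩, hWO⟩

instance : Nonempty (AffNhd X x) := by
  obtain ⟨W, -⟩ := AffNhd.exists_le (x := x) (⊤ : X.Opens) trivial
  exact ⟨W⟩

instance : IsCodirectedOrder (AffNhd X x) := by
  refine ⟨fun W₁ W₂ ↦ ?_⟩
  obtain ⟨W, hW⟩ := AffNhd.exists_le (x := x) (W₁.U ⊓ W₂.U) ⟨W₁.mem, W₂.mem⟩
  exact ⟨W, hW.trans inf_le_left, hW.trans inf_le_right⟩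

instance : IsCofiltered (AffNhd X x) := inferInstance

/-- The diagram of affine open neighbourhoods of `x`. -/
@[simps] noncomputable
def diag : AffNhd X x ⥤ Scheme.{u} where
  obj W := W.U
  map f := X.homOfLE (AffNhd.le_iff.mp f.le)

instance (W : AffNhd X x) : IsAffine ((diag X x).obj W) := W.isAffineOpen

instance {W W' : AffNhd X x} (f : W ⟶ W') : IsAffineHom ((diag X x).map f) := inferInstance

/-- The cone over the diagram of affine open neighbourhoods with vertex `Spec 𝒪_{X,x}`. -/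
@[simps] noncomputable
def cone : Cone (diag X x) where
  pt := Spec (X.presheaf.stalk x)
  π :=
  { app W := W.U.fromSpecStalkOfMem x W.mem
    naturality W W' f := by
      show 𝟙 _ ≫ W'.U.fromSpecStalkOfMem x W'.mem =
        W.U.fromSpecStalkOfMem x W.mem ≫ X.homOfLE (AffNhd.le_iff.mp f.le)
      rw [Category.id_comp, ← cancel_mono W'.U.ι, Category.assoc, Scheme.homOfLE_ι,
        Scheme.Opens.fromSpecStalkOfMem_ι, Scheme.Opens.fromSpecStalkOfMem_ι] }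

/-- The compatible family of structure maps to a base. -/
@[simps] noncomputable
def toBase {S : Scheme.{u}} (p : X ⟶ S) : diag X x ⟶ (Functor.const _).obj S where
  app W := W.U.ι ≫ p
  naturality W W' f := by
    show X.homOfLE (AffNhd.le_iff.mp f.le) ≫ W'.U.ι ≫ p = (W.U.ι ≫ p) ≫ 𝟙 _
    rw [Category.comp_id, Scheme.homOfLE_ι_assoc]

lemma cone_w_ι (s : Cone (diag X x)) (W W' : AffNhd X x) :
    s.π.app W ≫ W.U.ι = s.π.app W' ≫ W'.U.ι := by
  obtain ⟨W'', h1, h2⟩ := exists_le_le W W'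
  have e1 : s.π.app W'' ≫ X.homOfLE (AffNhd.le_iff.mp h1) = s.π.app W := s.w (homOfLE h1)
  have e2 : s.π.app W'' ≫ X.homOfLE (AffNhd.le_iff.mp h2) = s.π.app W' := s.w (homOfLE h2)
  rw [← e1, ← e2, Category.assoc, Category.assoc, Scheme.homOfLE_ι, Scheme.homOfLE_ι]

/-- `Spec 𝒪_{X,x}` is the limit of the affine open neighbourhoods of `x`. -/
noncomputable def isLimitCone : IsLimit (cone X x) := by
  have hspec : ∀ (s : Cone (diag X x)) (W₀ : AffNhd X x) (p : s.pt),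
      (s.π.app W₀ ≫ W₀.U.ι) p ⤳ x := by
    intro s W₀ p
    rw [specializes_iff_forall_open]
    intro O hO hxO
    obtain ⟨W, hW⟩ := AffNhd.exists_le (x := x) ⟨O, hO⟩ hxO
    rw [cone_w_ι X x s W₀ W, Scheme.Hom.comp_apply]
    exact hW (Subtype.prop _)
  let W₀ : AffNhd X x := Classical.arbitrary _
  refine
  { lift := fun s ↦ (exists_lift_fromSpecStalk (s.π.app W₀ ≫ W₀.U.ι) x (hspec s W₀)).choose
    fac := fun s W ↦ ?_
    uniq := fun s m hm ↦ ?_ }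
  · have h := (exists_lift_fromSpecStalk (s.π.app W₀ ≫ W₀.U.ι) x (hspec s W₀)).choose_spec
    rw [← cancel_mono W.U.ι, Category.assoc]
    show _ ≫ W.U.fromSpecStalkOfMem x W.mem ≫ W.U.ι = _
    rw [Scheme.Opens.fromSpecStalkOfMem_ι, h]
    exact cone_w_ι X x s W₀ W
  · have h := (exists_lift_fromSpecStalk (s.π.app W₀ ≫ W₀.U.ι) x (hspec s W₀)).choose_spec
    rw [← cancel_mono (X.fromSpecStalk x), h, ← hm W₀, Category.assoc]
    show _ = m ≫ W₀.U.fromSpecStalkOfMem x W₀.mem ≫ W₀.U.ι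
    rw [Scheme.Opens.fromSpecStalkOfMem_ι]

end

/-- Spreading out: a morphism `Spec 𝒪_{X,x} ⟶ Y` over `S` into a scheme locally of finite
presentation over `S` extends to an affine open neighbourhood of `x`. -/
theorem exists_spread {X Y S : Scheme.{u}} (p : X ⟶ S) (q : Y ⟶ S)
    [LocallyOfFinitePresentation q] (x : X) (b : Spec (X.presheaf.stalk x) ⟶ Y)
    (hb : b ≫ q = X.fromSpecStalk x ≫ p) :
    ∃ (W : AffNhd X x) (g : (W.U : Scheme.{u}) ⟶ Y),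
      W.U.fromSpecStalkOfMem x W.mem ≫ g = b ∧ g ≫ q = W.U.ι ≫ p := by
  have ha : (cone X x).π ≫ toBase X x p = (Functor.const _).map (b ≫ q) := by
    ext W : 2
    show W.U.fromSpecStalkOfMem x W.mem ≫ W.U.ι ≫ p = b ≫ q
    rw [Scheme.Opens.fromSpecStalkOfMem_ι_assoc, hb]
  obtain ⟨W, g, h1, h2⟩ := Scheme.exists_π_app_comp_eq_of_locallyOfFinitePresentation
    (diag X x) (toBase X x p) q (cone X x) (isLimitCone X x) b ha
  exact ⟨W, g, h1, h2⟩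

/-- Gluing two morphisms defined on two opens covering `X`. -/
theorem exists_glue_two {X Y : Scheme.{u}} (U₁ U₂ : X.Opens) (hcov : ∀ z : X, z ∈ U₁ ∨ z ∈ U₂)
    (f₁ : (U₁ : Scheme.{u}) ⟶ Y) (f₂ : (U₂ : Scheme.{u}) ⟶ Y)
    (H : ∀ (T : Scheme.{u}) (r₁ : T ⟶ U₁) (r₂ : T ⟶ U₂),
      r₁ ≫ U₁.ι = r₂ ≫ U₂.ι → r₁ ≫ f₁ = r₂ ≫ f₂) :
    ∃ f : X ⟶ Y, U₁.ι ≫ f = f₁ ∧ U₂.ι ≫ f = f₂ := by
  let U : Bool → X.Opens := fun b => bif b then U₁ else U₂
  have hU : IsOpenCover U := by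
    refine IsOpenCover.mk (top_unique fun z _ => ?_)
    rw [Opens.mem_iSup]
    rcases hcov z with h | h
    · exact ⟨true, h⟩
    · exact ⟨false, h⟩
  let 𝒰 := X.openCoverOfIsOpenCover U hU
  let F : ∀ b, 𝒰.X b ⟶ Y := fun b => match b with
    | true => f₁
    | false => f₂
  have hF : ∀ b b', pullback.fst (𝒰.f b) (𝒰.f b') ≫ F b = pullback.snd _ _ ≫ F b' := by
    rintro (_ | _) (_ | _)
    · have e : pullback.fst (𝒰.f false) (𝒰.f false) = pullback.snd _ _ := by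
        rw [← cancel_mono (𝒰.f false)]
        exact pullback.condition
      rw [e]
    · exact (H _ (pullback.snd (𝒰.f false) (𝒰.f true)) (pullback.fst _ _)
        pullback.condition.symm).symm
    · exact H _ (pullback.fst (𝒰.f true) (𝒰.f false)) (pullback.snd _ _) pullback.condition
    · have e : pullback.fst (𝒰.f true) (𝒰.f true) = pullback.snd _ _ := by
        rw [← cancel_mono (𝒰.f true)]
        exact pullback.condition
      rw [e]
  exact ⟨𝒰.glueMorphisms F hF, 𝒰.ι_glueMorphisms F hF true, 𝒰.ι_glueMorphisms F hF false⟩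

/-- `W ∩ U` is compact inside `W` if `U ⟶ X` is quasi-compact and `W` is compact. -/
lemma isCompact_ι_preimage {X : Scheme.{u}} (U W : X.Opens) [QuasiCompact U.ι]
    (hW : IsCompact (W : Set X)) : IsCompact ((W.ι ⁻¹ᵁ U : W.toScheme.Opens) : Set W) := by
  have h1 : IsCompact (U.ι ⁻¹' (W : Set X)) :=
    QuasiCompact.isCompact_preimage (f := U.ι) _ W.2 hW
  have h2 : IsCompact (U.ι '' (U.ι ⁻¹' (W : Set X))) := h1.image U.ι.continuous
  have h3 : U.ι '' (U.ι ⁻¹' (W : Set X)) = (W : Set X) ∩ U := by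
    rw [Set.image_preimage_eq_inter_range]; simp
  rw [h3] at h2
  have h4 : ((W.ι ⁻¹ᵁ U : W.toScheme.Opens) : Set W) = W.ι ⁻¹' ((W : Set X) ∩ U) := by
    ext w
    simp
  rw [h4]
  exact (W.ι.isEmbedding.isInducing.isCompact_preimage_iff (by simp)).mpr h2

/-- Two morphisms, one defined on an affine neighbourhood `W` of `x` and one on a retrocompact
open `U`, which agree over `Spec 𝒪_{X,x}`, agree on `W' ∩ U` for a smaller neighbourhood `W'`. -/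
theorem exists_eq_on_nhd {X Y S : Scheme.{u}} (p : X ⟶ S) (q : Y ⟶ S) [LocallyOfFiniteType q]
    (x : X) (U : X.Opens) [QuasiCompact U.ι] (W : AffNhd X x)
    (a : (U : Scheme.{u}) ⟶ Y) (g : (W.U : Scheme.{u}) ⟶ Y) (ha : a ≫ q = U.ι ≫ p)
    (hg : g ≫ q = W.U.ι ≫ p)
    (hab : ((X.fromSpecStalk x) ⁻¹ᵁ U).ι ≫ W.U.fromSpecStalkOfMem x W.mem ≫ g =
      ((X.fromSpecStalk x) ∣_ U) ≫ a) :
    ∃ (W' : AffNhd X x) (hW' : W'.U ≤ W.U), ∀ (T : Scheme.{u}) (r : T ⟶ W'.U) (r' : T ⟶ U),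
      r ≫ W'.U.ι = r' ≫ U.ι → r ≫ X.homOfLE hW' ≫ g = r' ≫ a := by
  let D := diag X x
  let c := cone X x
  have hc := isLimitCone X x
  let UW : (D.obj W).Opens := W.U.ι ⁻¹ᵁ U
  let D' := opensDiagram D W UW
  have hDι : ∀ j : Over W, D.map j.hom ≫ W.U.ι = j.left.U.ι := fun j =>
    X.homOfLE_ι (AffNhd.le_iff.mp j.hom.le)
  have hpre : ∀ j : Over W, D.map j.hom ⁻¹ᵁ UW = j.left.U.ι ⁻¹ᵁ U := by
    intro j
    rw [← Scheme.Hom.comp_preimage, hDι]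
  haveI : ∀ j, CompactSpace (D'.obj j) := by
    intro j
    show CompactSpace ↥(D.map j.hom ⁻¹ᵁ UW)
    rw [hpre j]
    exact isCompact_iff_compactSpace.mp
      (isCompact_ι_preimage U j.left.U j.left.isAffineOpen.isCompact)
  let t' : D' ⟶ (Functor.const _).obj S :=
    { app := fun j => (D.map j.hom ⁻¹ᵁ UW).ι ≫ j.left.U.ι ≫ p
      naturality := fun j k f => by
        show (D.map f.left).resLE _ _ _ ≫ (D.map k.hom ⁻¹ᵁ UW).ι ≫ k.left.U.ι ≫ p =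
          ((D.map j.hom ⁻¹ᵁ UW).ι ≫ j.left.U.ι ≫ p) ≫ 𝟙 _
        rw [Scheme.Hom.resLE_comp_ι_assoc, Category.comp_id]
        congr 1
        show X.homOfLE (AffNhd.le_iff.mp f.left.le) ≫ k.left.U.ι ≫ p = _
        rw [Scheme.homOfLE_ι_assoc] }
  let i₀ : Over W := Over.mk (𝟙 W)
  let O₀ : (D.obj W).Opens := D.map i₀.hom ⁻¹ᵁ UW
  have hO₀ : Set.range (O₀.ι ≫ W.U.ι) ⊆ Set.range U.ι := by
    rintro _ ⟨z, rfl⟩
    have hz : ∀ w : D.obj W, w ∈ O₀ → w ∈ W.U.ι ⁻¹ᵁ U := fun w hw => (hpre i₀).le hw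
    rw [Scheme.Opens.range_ι]
    exact hz z.1 z.2
  let lift₀ : (O₀ : Scheme.{u}) ⟶ U := IsOpenImmersion.lift U.ι (O₀.ι ≫ W.U.ι) hO₀
  have hlift₀ : lift₀ ≫ U.ι = O₀.ι ≫ W.U.ι := IsOpenImmersion.lift_fac _ _ _
  let a₁ : D'.obj i₀ ⟶ Y := O₀.ι ≫ g
  let a₂ : D'.obj i₀ ⟶ Y := lift₀ ≫ a
  have h₁ : t'.app i₀ = a₁ ≫ q := by
    show O₀.ι ≫ W.U.ι ≫ p = (O₀.ι ≫ g) ≫ q
    rw [Category.assoc, hg]
  have h₂ : t'.app i₀ = a₂ ≫ q := by
    show O₀.ι ≫ W.U.ι ≫ p = (lift₀ ≫ a) ≫ q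
    rw [Category.assoc, ha, reassoc_of% hlift₀]
  have hcW : c.π.app W ≫ W.U.ι = X.fromSpecStalk x :=
    Scheme.Opens.fromSpecStalkOfMem_ι _ _ _
  have h₃ : (opensCone D c W UW).π.app i₀ ≫ a₁ = (opensCone D c W UW).π.app i₀ ≫ a₂ := by
    let f := X.fromSpecStalk x
    let V₁ : (Spec (X.presheaf.stalk x)).Opens := c.π.app W ⁻¹ᵁ UW
    have hV : V₁ = f ⁻¹ᵁ U := by
      show c.π.app W ⁻¹ᵁ (W.U.ι ⁻¹ᵁ U) = _
      rw [← Scheme.Hom.comp_preimage, hcW]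
    have e : V₁ ≤ f ⁻¹ᵁ U := hV.le
    have hπ : (opensCone D c W UW).π.app i₀ ≫ O₀.ι = V₁.ι ≫ c.π.app W := by
      show (c.π.app W).resLE _ _ _ ≫ _ = _
      exact Scheme.Hom.resLE_comp_ι _ _
    have key : (Spec (X.presheaf.stalk x)).homOfLE e ≫ (f ∣_ U) =
        (opensCone D c W UW).π.app i₀ ≫ lift₀ := by
      rw [← cancel_mono U.ι, Category.assoc, Category.assoc, morphismRestrict_ι,
        Scheme.homOfLE_ι_assoc, hlift₀, reassoc_of% hπ, hcW]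
    show (opensCone D c W UW).π.app i₀ ≫ O₀.ι ≫ g =
      (opensCone D c W UW).π.app i₀ ≫ lift₀ ≫ a
    rw [reassoc_of% hπ, ← reassoc_of% key, ← hab, Scheme.homOfLE_ι_assoc]
    rfl
  obtain ⟨k, hik, hk⟩ := Scheme.exists_hom_comp_eq_comp_of_locallyOfFiniteType D' t' q
    (opensCone D c W UW) (isLimitOpensCone D c hc W UW) a₁ a₂ h₁ h₂ h₃
  refine ⟨k.left, AffNhd.le_iff.mp k.hom.le, fun T r r' hr => ?_⟩
  let Ok : (D.obj k.left).Opens := D.map k.hom ⁻¹ᵁ UW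
  have hOk : Set.range r ⊆ Set.range Ok.ι := by
    rintro _ ⟨z, rfl⟩
    rw [Scheme.Opens.range_ι]
    have hz : ∀ w : D.obj k.left, w ∈ k.left.U.ι ⁻¹ᵁ U → w ∈ Ok := fun w hw => (hpre k).ge hw
    refine hz _ ?_
    show k.left.U.ι (r z) ∈ U
    rw [← Scheme.Hom.comp_apply, hr, Scheme.Hom.comp_apply]
    exact (r' z).2
  let l : T ⟶ Ok := IsOpenImmersion.lift Ok.ι r hOk
  have hl : l ≫ Ok.ι = r := IsOpenImmersion.lift_fac _ _ _
  have hres : D'.map hik ≫ O₀.ι = Ok.ι ≫ D.map k.hom := by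
    show (D.map hik.left).resLE _ _ _ ≫ _ = _
    rw [Scheme.Hom.resLE_comp_ι]
    rfl
  have hr' : r' = l ≫ D'.map hik ≫ lift₀ := by
    rw [← cancel_mono U.ι, Category.assoc, Category.assoc, hlift₀, reassoc_of% hres,
      reassoc_of% hl, hDι, hr]
  calc r ≫ X.homOfLE _ ≫ g = l ≫ Ok.ι ≫ D.map k.hom ≫ g := by rw [reassoc_of% hl]; rfl
    _ = l ≫ D'.map hik ≫ a₁ := by rw [← reassoc_of% hres]
    _ = l ≫ D'.map hik ≫ a₂ := by rw [hk]
    _ = r' ≫ a := by rw [hr']; simp only [Category.assoc]; rfl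

end Groth.Agent.Lib.Helper12.StalkLim
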