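import Mathlib
import Groth.Agent.Lib.Helper12.LimOpenImm

/-!
# Cartesian natural transformations between cofiltered diagrams of qcqs schemes

`LimData J` packages two diagrams `DX DY : J ⥤ Scheme` with affine transition maps and qcqs
stages, a cartesian natural transformation `F : DX ⟶ DY`, limit cones and the induced map `f`
between the limits.  We provide the restriction of such data to an open of a stage of `DY`.
-/

universe u

open CategoryTheory Limits AlgebraicGeometry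

namespace Groth.Agent.Lib.Helper12

set_option backward.isDefEq.respectTransparency false

/-- Limit data: see the module docstring. -/
structure LimData (J : Type u) [SmallCategory J] where
  DX : J ⥤ Scheme.{u}
  DY : J ⥤ Scheme.{u}
  F : DX ⟶ DY
  cX : Cone DX
  cY : Cone DY
  hcX : IsLimit cX
  hcY : IsLimit cY
  f : cX.pt ⟶ cY.pt
  hf : ∀ j, cX.π.app j ≫ F.app j = f ≫ cY.π.app j
  hF : ∀ {j k : J} (a : j ⟶ k), IsPullback (DX.map a) (F.app j) (F.app k) (DY.map a)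
  affY : ∀ {i j : J} (a : i ⟶ j), IsAffineHom (DY.map a)
  cptX : ∀ j, CompactSpace (DX.obj j)
  qsX : ∀ j, QuasiSeparatedSpace (DX.obj j)
  cptY : ∀ j, CompactSpace (DY.obj j)
  qsY : ∀ j, QuasiSeparatedSpace (DY.obj j)

namespace LimData

attribute [instance] affY cptX qsX cptY qsY

variable {J : Type u} [SmallCategory J] (A : LimData J)

instance affX {i j : J} (a : i ⟶ j) : IsAffineHom (A.DX.map a) :=
  MorphismProperty.of_isPullback (P := @IsAffineHom) (A.hF a).flip inferInstance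

instance quasiCompact_F (j : J) : QuasiCompact (A.F.app j) :=
  (inferInstance : QuasiCompact (show A.DX.obj j ⟶ A.DY.obj j from A.F.app j))

lemma preimage_eq {j k : J} (a : j ⟶ k) (W : (A.DY.obj k).Opens) :
    A.DX.map a ⁻¹ᵁ (A.F.app k ⁻¹ᵁ W) = A.F.app j ⁻¹ᵁ (A.DY.map a ⁻¹ᵁ W) := by
  rw [← Scheme.Hom.comp_preimage, ← Scheme.Hom.comp_preimage, A.F.naturality]

lemma preimage_eq' (j : J) (W : (A.DY.obj j).Opens) :
    A.cX.π.app j ⁻¹ᵁ (A.F.app j ⁻¹ᵁ W) = A.f ⁻¹ᵁ (A.cY.π.app j ⁻¹ᵁ W) := by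
  rw [← Scheme.Hom.comp_preimage, ← Scheme.Hom.comp_preimage, A.hf]

variable [IsCofiltered J]

/-- Restriction of limit data to a compact open of a stage of `DY`. -/
noncomputable def restrict (j₀ : J) (W : (A.DY.obj j₀).Opens)
    (hW : IsCompact (W : Set (A.DY.obj j₀))) : LimData (Over j₀) where
  DX := opensDiagram A.DX j₀ (A.F.app j₀ ⁻¹ᵁ W)
  DY := opensDiagram A.DY j₀ W
  F :=
    { app := fun k => (A.F.app k.left).resLE (A.DY.map k.hom ⁻¹ᵁ W)
        (A.DX.map k.hom ⁻¹ᵁ (A.F.app j₀ ⁻¹ᵁ W)) (A.preimage_eq k.hom W).le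
      naturality := fun k l a => by
        rw [← cancel_mono (Scheme.Opens.ι _)]
        simp only [opensDiagram_map, Category.assoc, Scheme.Hom.resLE_comp_ι,
          Scheme.Hom.resLE_comp_ι_assoc]
        rw [A.F.naturality] }
  cX := opensCone A.DX A.cX j₀ (A.F.app j₀ ⁻¹ᵁ W)
  cY := opensCone A.DY A.cY j₀ W
  hcX := isLimitOpensCone A.DX A.cX A.hcX j₀ _
  hcY := isLimitOpensCone A.DY A.cY A.hcY j₀ _
  f := A.f.resLE (A.cY.π.app j₀ ⁻¹ᵁ W) (A.cX.π.app j₀ ⁻¹ᵁ (A.F.app j₀ ⁻¹ᵁ W))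
    (A.preimage_eq' j₀ W).le
  hf := fun k => by
    rw [← cancel_mono (Scheme.Opens.ι _)]
    simp only [opensCone_π_app, Category.assoc, Scheme.Hom.resLE_comp_ι,
      Scheme.Hom.resLE_comp_ι_assoc]
    rw [A.hf]
  hF := fun {k l} a => by
    refine Scheme.Hom.isPullback_resLE (A.hF a.left) _ _ ?_
    have h1 : A.DX.map a.left ⁻¹ᵁ (A.DX.map l.hom ⁻¹ᵁ (A.F.app j₀ ⁻¹ᵁ W)) =
        A.DX.map k.hom ⁻¹ᵁ (A.F.app j₀ ⁻¹ᵁ W) := by
      rw [← Scheme.Hom.comp_preimage, ← A.DX.map_comp, Over.w a]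
    rw [h1, ← A.preimage_eq k.hom W, inf_idem]
  affY := fun a => inferInstance
  cptX := fun k => isCompact_iff_compactSpace.mp
    (QuasiCompact.isCompact_preimage (f := A.DX.map k.hom) _ (A.F.app j₀ ⁻¹ᵁ W).2
      (QuasiCompact.isCompact_preimage (f := A.F.app j₀) _ W.2 hW))
  qsX := fun k => (isQuasiSeparated_iff_quasiSeparatedSpace _ (A.DX.map _ ⁻¹ᵁ _).2).mp
    (.of_quasiSeparatedSpace _)
  cptY := fun k => isCompact_iff_compactSpace.mp
    (QuasiCompact.isCompact_preimage (f := A.DY.map k.hom) _ W.2 hW)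
  qsY := fun k => (isQuasiSeparated_iff_quasiSeparatedSpace _ (A.DY.map _ ⁻¹ᵁ _).2).mp
    (.of_quasiSeparatedSpace _)

lemma restrict_F_app (j₀ : J) (W : (A.DY.obj j₀).Opens)
    (hW : IsCompact (W : Set (A.DY.obj j₀))) (k : Over j₀) :
    (A.restrict j₀ W hW).F.app k = (A.F.app k.left).resLE (A.DY.map k.hom ⁻¹ᵁ W)
        (A.DX.map k.hom ⁻¹ᵁ (A.F.app j₀ ⁻¹ᵁ W)) (A.preimage_eq k.hom W).le := rfl

lemma restrict_f (j₀ : J) (W : (A.DY.obj j₀).Opens)
    (hW : IsCompact (W : Set (A.DY.obj j₀))) :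
    (A.restrict j₀ W hW).f = A.f.resLE (A.cY.π.app j₀ ⁻¹ᵁ W)
      (A.cX.π.app j₀ ⁻¹ᵁ (A.F.app j₀ ⁻¹ᵁ W)) (A.preimage_eq' j₀ W).le := rfl

end LimData

/-- The restriction `f.resLE U V` with `V = f ⁻¹ᵁ U` is a base change of `f`. -/
lemma isPullback_resLE_ι {X Y : Scheme.{u}} (f : X ⟶ Y) (U : Y.Opens) (V : X.Opens)
    (hV : V = f ⁻¹ᵁ U) : IsPullback V.ι (f.resLE U V hV.le) f U.ι := by
  subst hV
  rw [Scheme.Hom.resLE_eq_morphismRestrict]
  exact (isPullback_morphismRestrict f U).flip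

lemma morphismRestrict_of_resLE (P : MorphismProperty Scheme.{u}) {X Y : Scheme.{u}} (f : X ⟶ Y)
    (U : Y.Opens) (V : X.Opens) (hV : V = f ⁻¹ᵁ U) (h : P (f.resLE U V hV.le)) : P (f ∣_ U) := by
  subst hV
  rwa [Scheme.Hom.resLE_eq_morphismRestrict] at h

end Groth.Agent.Lib.Helper12
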