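import Mathlib
import Groth.Agent.Lib.Helper12.PbDiag
import Groth.Agent.Lib.Helper12.LimData

/-!
# Limit data attached to a base change situation over a stage of a cofiltered diagram
-/

universe u

open CategoryTheory Limits AlgebraicGeometry

namespace Groth.Agent.Lib.Helper12

set_option backward.isDefEq.respectTransparency false

open PbDiag

namespace LimData

variable {I : Type u} [SmallCategory I] [IsCofiltered I] (D : I ⥤ Scheme.{u}) (c : Cone D)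
  (hc : IsLimit c) [∀ {i j : I} (f : i ⟶ j), IsAffineHom (D.map f)] (i₀ : I)
  [CompactSpace (D.obj i₀)] [QuasiSeparatedSpace (D.obj i₀)] {X₀ Y₀ : Scheme.{u}}
  (f₀ : X₀ ⟶ Y₀) (g₀ : Y₀ ⟶ D.obj i₀) [QuasiCompact g₀] [QuasiSeparated g₀]
  [QuasiCompact (f₀ ≫ g₀)] [QuasiSeparated (f₀ ≫ g₀)]
  {X Y : Scheme.{u}} (f : X ⟶ Y) (g : Y ⟶ c.pt) (qY : Y ⟶ Y₀) (qX : X ⟶ X₀)
  (hY : IsPullback qY g g₀ (c.π.app i₀)) (hX : IsPullback qX f f₀ qY)

/-- The limit data of a base change situation. -/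
noncomputable def ofPb : LimData (Over i₀) where
  DX := pbDiagram D i₀ (f₀ ≫ g₀)
  DY := pbDiagram D i₀ g₀
  F := pbMap D i₀ g₀ f₀
  cX := pbCone c qX (f ≫ g) (hX.paste_vert hY)
  cY := pbCone c qY g hY
  hcX := isLimitPbCone c hc qX (f ≫ g) (hX.paste_vert hY)
  hcY := isLimitPbCone c hc qY g hY
  f := f
  hf := fun j => pbCone_π_pbMap D i₀ g₀ c f₀ qY g hY qX (f ≫ g) (hX.paste_vert hY) f hX.w rfl j
  hF := fun a => isPullback_pbMap_map D i₀ g₀ f₀ a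
  affY := fun a => inferInstance
  cptX := fun j => compactSpace_pbDiagram_obj D i₀ (f₀ ≫ g₀) j
  qsX := fun j => quasiSeparatedSpace_pbDiagram_obj D i₀ (f₀ ≫ g₀) j
  cptY := fun j => compactSpace_pbDiagram_obj D i₀ g₀ j
  qsY := fun j => quasiSeparatedSpace_pbDiagram_obj D i₀ g₀ j

lemma ofPb_F_app (j : Over i₀) :
    (ofPb D c hc i₀ f₀ g₀ f g qY qX hY hX).F.app j = (pbMap D i₀ g₀ f₀).app j := rfl

lemma ofPb_f : (ofPb D c hc i₀ f₀ g₀ f g qY qX hY hX).f = f := rfl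

omit [IsCofiltered I] [∀ {i j : I} (f : i ⟶ j), IsAffineHom (D.map f)]
  [CompactSpace (D.obj i₀)] [QuasiSeparatedSpace (D.obj i₀)] [QuasiCompact g₀]
  [QuasiSeparated g₀] [QuasiCompact (f₀ ≫ g₀)] [QuasiSeparated (f₀ ≫ g₀)] in
/-- The conclusion of the descent statements from a stage of the limit data. -/
theorem exists_stage (P : MorphismProperty Scheme.{u})
    (h : ∃ j : Over i₀, P ((pbMap D i₀ g₀ f₀).app j)) :
    ∃ (i : I) (φ : i ⟶ i₀) (Xi Yi : Scheme.{u}) (fi : Xi ⟶ Yi) (gi : Yi ⟶ D.obj i)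
      (pY : Yi ⟶ Y₀) (pX : Xi ⟶ X₀),
      IsPullback pY gi g₀ (D.map φ) ∧ IsPullback pX fi f₀ pY ∧ P fi := by
  obtain ⟨j, hj⟩ := h
  exact ⟨j.left, j.hom, pullback (f₀ ≫ g₀) (D.map j.hom), pullback g₀ (D.map j.hom),
    (pbMap D i₀ g₀ f₀).app j, pullback.snd _ _, pullback.fst _ _, pullback.fst _ _,
    IsPullback.of_hasPullback _ _, isPullback_pbMap_app D i₀ g₀ f₀ j, hj⟩

end LimData

end Groth.Agent.Lib.Helper12
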