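import Mathlib
import Groth.Agent.Lib.Helper12.PbDiag

/-!
# Localising base change situations over a stage of a diagram of schemes

For opens `U ⊆ Y₀`, `V ⊆ X₀` with `V ≤ f₀ ⁻¹ᵁ U` we compare the base changes of
`f₀.resLE U V e : V ⟶ U` and of `f₀ : X₀ ⟶ Y₀` to the stages of a diagram.
-/

universe u

open CategoryTheory Limits AlgebraicGeometry

namespace Groth.Agent.Lib.Helper12.PbLocal

set_option backward.isDefEq.respectTransparency false

open PbDiag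

/-- A property local at the target holds if it holds on a jointly surjective family of
cartesian squares over open immersions. -/
theorem of_isPullback_family (P : MorphismProperty Scheme.{u}) [IsZariskiLocalAtTarget P]
    {ι : Type*} {X Y : Scheme.{u}} (f : X ⟶ Y) (U V : ι → Scheme.{u}) (i : ∀ β, U β ⟶ Y)
    [∀ β, IsOpenImmersion (i β)] (a : ∀ β, V β ⟶ X) (f' : ∀ β, V β ⟶ U β)
    (h : ∀ β, IsPullback (a β) (f' β) f (i β)) (hcov : ∀ y : Y, ∃ β, y ∈ Set.range (i β))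
    (H : ∀ β, P (f' β)) : P f := by
  refine IsZariskiLocalAtTarget.of_iSup_eq_top (fun β => (i β).opensRange) ?_ fun β => ?_
  · refine top_le_iff.mp fun y _ => ?_
    obtain ⟨β, hβ⟩ := hcov y
    exact TopologicalSpace.Opens.mem_iSup.mpr ⟨β, hβ⟩
  · refine (P.arrow_mk_iso_iff (morphismRestrictOpensRange f (i β))).mpr ?_
    have h1 : (h β).isoPullback.hom ≫ pullback.snd f (i β) = f' β := (h β).isoPullback_hom_snd
    have h2 : P ((h β).isoPullback.hom ≫ pullback.snd f (i β)) := by rw [h1]; exact H β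
    exact (P.cancel_left_of_respectsIso (h β).isoPullback.hom _).mp h2

/-- A property local at the source and stable under postcomposition with open immersions holds
if it holds on a jointly surjective family of commutative squares over open immersions. -/
theorem of_comm_family (P : MorphismProperty Scheme.{u}) [IsZariskiLocalAtSource P]
    [P.RespectsRight @IsOpenImmersion]
    {ι : Type*} {X Y : Scheme.{u}} (f : X ⟶ Y) (U V : ι → Scheme.{u}) (i : ∀ β, U β ⟶ Y)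
    [∀ β, IsOpenImmersion (i β)] (a : ∀ β, V β ⟶ X) [∀ β, IsOpenImmersion (a β)]
    (f' : ∀ β, V β ⟶ U β)
    (h : ∀ β, a β ≫ f = f' β ≫ i β) (hcov : ∀ x : X, ∃ β, x ∈ Set.range (a β))
    (H : ∀ β, P (f' β)) : P f := by
  refine (IsZariskiLocalAtSource.iff_of_iSup_eq_top (P := P) (fun β => (a β).opensRange) ?_).mpr
    fun β => ?_
  · refine top_le_iff.mp fun x _ => ?_
    obtain ⟨β, hβ⟩ := hcov x
    exact TopologicalSpace.Opens.mem_iSup.mpr ⟨β, hβ⟩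
  · have h1 : P (a β ≫ f) := by
      rw [h β]
      exact MorphismProperty.RespectsRight.postcomp (Q := @IsOpenImmersion) _ inferInstance _ (H β)
    have h2 : (a β).isoOpensRange.hom ≫ (a β).opensRange.ι = a β := by simp
    rw [← h2, Category.assoc] at h1
    exact (P.cancel_left_of_respectsIso _ _).mp h1

variable {I : Type u} [SmallCategory I] (D : I ⥤ Scheme.{u}) (i₀ : I) {X₀ Y₀ : Scheme.{u}}
  (f₀ : X₀ ⟶ Y₀) (g₀ : Y₀ ⟶ D.obj i₀)

/-- The inclusion of the stage of the restricted source. -/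
noncomputable def ιX (U : Y₀.Opens) (V : X₀.Opens) (e : V ≤ f₀ ⁻¹ᵁ U) (j : Over i₀) :
    pullback (f₀.resLE U V e ≫ U.ι ≫ g₀) (D.map j.hom) ⟶ pullback (f₀ ≫ g₀) (D.map j.hom) :=
  pullback.lift (pullback.fst _ _ ≫ V.ι) (pullback.snd _ _)
    (by rw [Category.assoc, ← Scheme.Hom.resLE_comp_ι_assoc f₀ e, pullback.condition])

@[reassoc (attr := simp)] lemma ιX_fst (U : Y₀.Opens) (V : X₀.Opens) (e : V ≤ f₀ ⁻¹ᵁ U)
    (j : Over i₀) : ιX D i₀ f₀ g₀ U V e j ≫ pullback.fst _ _ = pullback.fst _ _ ≫ V.ι := by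
  simp [ιX]

@[reassoc (attr := simp)] lemma ιX_snd (U : Y₀.Opens) (V : X₀.Opens) (e : V ≤ f₀ ⁻¹ᵁ U)
    (j : Over i₀) : ιX D i₀ f₀ g₀ U V e j ≫ pullback.snd _ _ = pullback.snd _ _ := by
  simp [ιX]

lemma isPullback_ιX (U : Y₀.Opens) (V : X₀.Opens) (e : V ≤ f₀ ⁻¹ᵁ U) (j : Over i₀) :
    IsPullback (pullback.fst (f₀.resLE U V e ≫ U.ι ≫ g₀) (D.map j.hom)) (ιX D i₀ f₀ g₀ U V e j)
      V.ι (pullback.fst (f₀ ≫ g₀) (D.map j.hom)) := by
  refine IsPullback.of_bot ?_ (ιX_fst D i₀ f₀ g₀ U V e j).symm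
    (IsPullback.of_hasPullback (f₀ ≫ g₀) (D.map j.hom))
  rw [ιX_snd]
  have e1 : f₀.resLE U V e ≫ U.ι ≫ g₀ = V.ι ≫ f₀ ≫ g₀ := by
    rw [Scheme.Hom.resLE_comp_ι_assoc]
  rw [← e1]
  exact IsPullback.of_hasPullback (f₀.resLE U V e ≫ U.ι ≫ g₀) (D.map j.hom)

instance (U : Y₀.Opens) (V : X₀.Opens) (e : V ≤ f₀ ⁻¹ᵁ U) (j : Over i₀) :
    IsOpenImmersion (ιX D i₀ f₀ g₀ U V e j) :=
  MorphismProperty.of_isPullback (P := @IsOpenImmersion) (isPullback_ιX D i₀ f₀ g₀ U V e j)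
    inferInstance

lemma range_ιX (U : Y₀.Opens) (V : X₀.Opens) (e : V ≤ f₀ ⁻¹ᵁ U) (j : Over i₀) :
    Set.range (ιX D i₀ f₀ g₀ U V e j) = (pullback.fst (f₀ ≫ g₀) (D.map j.hom)) ⁻¹' (V : Set X₀) := by
  ext x
  constructor
  · rintro ⟨y, rfl⟩
    have := congr($(ιX_fst D i₀ f₀ g₀ U V e j) y)
    simp only [Scheme.Hom.comp_apply] at this
    refine (congrArg (· ∈ (V : Set X₀)) this).mpr ?_
    exact ((pullback.fst (f₀.resLE U V e ≫ U.ι ≫ g₀) (D.map j.hom)) y).2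
  · intro hx
    obtain ⟨v, hv⟩ : ∃ v : V, V.ι v = pullback.fst (f₀ ≫ g₀) (D.map j.hom) x := ⟨⟨_, hx⟩, rfl⟩
    obtain ⟨y, -, hy⟩ := Scheme.exists_preimage_of_isPullback (isPullback_ιX D i₀ f₀ g₀ U V e j)
      v x hv
    exact ⟨y, hy⟩

/-- The comparison square of stages. -/
lemma comm (U : Y₀.Opens) (V : X₀.Opens) (e : V ≤ f₀ ⁻¹ᵁ U) (j : Over i₀) :
    ιX D i₀ f₀ g₀ U V e j ≫ (pbMap D i₀ g₀ f₀).app j =
      (pbMap D i₀ (U.ι ≫ g₀) (f₀.resLE U V e)).app j ≫ (pbMap D i₀ g₀ U.ι).app j := by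
  apply pullback.hom_ext
  · simp
  · simp

/-- When `V = f₀ ⁻¹ᵁ U` the comparison square is cartesian. -/
lemma isPullback_comm (U : Y₀.Opens) (V : X₀.Opens) (hV : V = f₀ ⁻¹ᵁ U) (j : Over i₀) :
    IsPullback (ιX D i₀ f₀ g₀ U V hV.le j) ((pbMap D i₀ (U.ι ≫ g₀) (f₀.resLE U V hV.le)).app j)
      ((pbMap D i₀ g₀ f₀).app j) ((pbMap D i₀ g₀ U.ι).app j) := by
  refine IsPullback.of_right ?_ (comm D i₀ f₀ g₀ U V hV.le j)
    (isPullback_pbMap_app D i₀ g₀ f₀ j)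
  rw [ιX_fst, pbMap_app_fst]
  have h1 := isPullback_pbMap_app D i₀ (U.ι ≫ g₀) (f₀.resLE U V hV.le) j
  have h2 : IsPullback V.ι (f₀.resLE U V hV.le) f₀ U.ι := by
    subst hV
    rw [Scheme.Hom.resLE_eq_morphismRestrict]
    exact (isPullback_morphismRestrict f₀ U).flip
  exact h1.paste_horiz h2

lemma range_pbMap_ι (U : Y₀.Opens) (j : Over i₀) :
    Set.range ((pbMap D i₀ g₀ U.ι).app j) =
      (pullback.fst g₀ (D.map j.hom)) ⁻¹' (U : Set Y₀) := by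
  ext x
  constructor
  · rintro ⟨y, rfl⟩
    have := congr($(pbMap_app_fst D i₀ g₀ U.ι j) y)
    simp only [Scheme.Hom.comp_apply] at this
    refine (congrArg (· ∈ (U : Set Y₀)) this).mpr ?_
    exact ((pullback.fst (U.ι ≫ g₀) (D.map j.hom)) y).2
  · intro hx
    obtain ⟨v, hv⟩ : ∃ v : U, U.ι v = pullback.fst g₀ (D.map j.hom) x := ⟨⟨_, hx⟩, rfl⟩
    obtain ⟨y, -, hy⟩ := Scheme.exists_preimage_of_isPullback
      (isPullback_pbMap_app D i₀ g₀ U.ι j) v x hv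
    exact ⟨y, hy⟩

instance (U : Y₀.Opens) (j : Over i₀) : IsOpenImmersion ((pbMap D i₀ g₀ U.ι).app j) :=
  MorphismProperty.of_isPullback (P := @IsOpenImmersion) (isPullback_pbMap_app D i₀ g₀ U.ι j)
    inferInstance

variable {D i₀ f₀ g₀}

/-- Gluing stages over a finite affine cover of `Y₀`, for properties local at the target. -/
theorem exists_stage_of_targetLocal (P : MorphismProperty Scheme.{u}) [IsZariskiLocalAtTarget P]
    [P.IsStableUnderBaseChange] [IsCofiltered I] [CompactSpace Y₀]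
    (H : ∀ U : Y₀.Opens, IsAffineOpen U → ∃ j : Over i₀,
      P ((pbMap D i₀ (U.ι ≫ g₀) (f₀.resLE U (f₀ ⁻¹ᵁ U) le_rfl)).app j)) :
    ∃ j : Over i₀, P ((pbMap D i₀ g₀ f₀).app j) := by
  classical
  let 𝒰 := Y₀.affineCover.finiteSubcover
  have hW : ∀ β : 𝒰.I₀, IsAffineOpen (𝒰.f β).opensRange := fun β =>
    isAffineOpen_opensRange (𝒰.f β)
  choose j hj using fun β : 𝒰.I₀ => H _ (hW β)
  obtain ⟨j', hj'⟩ := IsCofiltered.inf_objs_exists (Finset.univ.image j)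
  have a : ∀ β, j' ⟶ j β := fun β =>
    (hj' (Finset.mem_image_of_mem j (Finset.mem_univ β))).some
  refine ⟨j', ?_⟩
  have h1 : ∀ β, P ((pbMap D i₀ ((𝒰.f β).opensRange.ι ≫ g₀)
      (f₀.resLE (𝒰.f β).opensRange (f₀ ⁻¹ᵁ (𝒰.f β).opensRange) le_rfl)).app j') := fun β =>
    MorphismProperty.of_isPullback (P := P)
      (isPullback_pbMap_map D i₀ ((𝒰.f β).opensRange.ι ≫ g₀)
        (f₀.resLE (𝒰.f β).opensRange (f₀ ⁻¹ᵁ (𝒰.f β).opensRange) le_rfl) (a β)) (hj β)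
  refine of_isPullback_family P ((pbMap D i₀ g₀ f₀).app j') _ _
    (fun β => (pbMap D i₀ g₀ (𝒰.f β).opensRange.ι).app j')
    (fun β => ιX D i₀ f₀ g₀ (𝒰.f β).opensRange (f₀ ⁻¹ᵁ (𝒰.f β).opensRange) le_rfl j')
    _ (fun β => isPullback_comm D i₀ f₀ g₀ _ _ rfl j') ?_ h1
  intro y
  obtain ⟨β, hβ⟩ := 𝒰.exists_eq ((pullback.fst g₀ (D.map j'.hom)) y)
  refine ⟨β, ?_⟩
  exact (Set.ext_iff.mp (range_pbMap_ι D i₀ g₀ (𝒰.f β).opensRange j') y).mpr hβ

/-- Gluing stages over a finite cover of `X₀` by affine charts, for properties local at the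
source. -/
theorem exists_stage_of_sourceLocal (P : MorphismProperty Scheme.{u}) [IsZariskiLocalAtSource P]
    [P.RespectsRight @IsOpenImmersion] [P.IsStableUnderBaseChange] [IsCofiltered I]
    [CompactSpace X₀]
    (H : ∀ (U : Y₀.Opens) (V : X₀.Opens) (e : V ≤ f₀ ⁻¹ᵁ U), IsAffineOpen U → IsAffineOpen V →
      ∃ j : Over i₀, P ((pbMap D i₀ (U.ι ≫ g₀) (f₀.resLE U V e)).app j)) :
    ∃ j : Over i₀, P ((pbMap D i₀ g₀ f₀).app j) := by
  classical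
  -- charts around each point
  have hx : ∀ x : X₀, ∃ (U : Y₀.Opens) (V : X₀.Opens), IsAffineOpen U ∧ IsAffineOpen V ∧
      V ≤ f₀ ⁻¹ᵁ U ∧ x ∈ V := by
    intro x
    obtain ⟨_, ⟨U, hU, rfl⟩, hxU, -⟩ := Y₀.isBasis_affineOpens.exists_subset_of_mem_open
      (Set.mem_univ (f₀ x)) isOpen_univ
    obtain ⟨_, ⟨V, hV, rfl⟩, hxV, hVU⟩ := X₀.isBasis_affineOpens.exists_subset_of_mem_open
      (show x ∈ ((f₀ ⁻¹ᵁ U : X₀.Opens) : Set X₀) from hxU) (f₀ ⁻¹ᵁ U).2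
    exact ⟨U, V, hU, hV, hVU, hxV⟩
  choose U V hU hV hVU hxV using hx
  obtain ⟨t, ht⟩ := CompactSpace.elim_nhds_subcover (fun x => (V x : Set X₀))
    (fun x => (V x).2.mem_nhds (hxV x))
  choose j hj using fun x : X₀ => H (U x) (V x) (hVU x) (hU x) (hV x)
  obtain ⟨j', hj'⟩ := IsCofiltered.inf_objs_exists (t.image j)
  have a : ∀ β : t, j' ⟶ j β.1 := fun β =>
    (hj' (Finset.mem_image_of_mem j β.2)).some
  refine ⟨j', ?_⟩
  have h1 : ∀ β : t, P ((pbMap D i₀ ((U β.1).ι ≫ g₀)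
      (f₀.resLE (U β.1) (V β.1) (hVU β.1))).app j') := fun β =>
    MorphismProperty.of_isPullback (P := P)
      (isPullback_pbMap_map D i₀ ((U β.1).ι ≫ g₀)
        (f₀.resLE (U β.1) (V β.1) (hVU β.1)) (a β)) (hj β.1)
  refine of_comm_family P ((pbMap D i₀ g₀ f₀).app j') _ _
    (fun β : t => (pbMap D i₀ g₀ (U β.1).ι).app j')
    (fun β : t => ιX D i₀ f₀ g₀ (U β.1) (V β.1) (hVU β.1) j')
    _ (fun β => comm D i₀ f₀ g₀ _ _ _ j') ?_ h1
  intro y
  have hy : (pullback.fst (f₀ ≫ g₀) (D.map j'.hom)) y ∈ ⋃ x ∈ t, (V x : Set X₀) := by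
    rw [ht]; trivial
  obtain ⟨x, hxt, hxy⟩ := Set.mem_iUnion₂.mp hy
  refine ⟨⟨x, hxt⟩, ?_⟩
  exact (Set.ext_iff.mp (range_ιX D i₀ f₀ g₀ (U x) (V x) (hVU x) j') y).mpr hxy

end Groth.Agent.Lib.Helper12.PbLocal
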