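import Mathlib
import Groth.Agent.Lib.Helper12.PbDiag
import Groth.Agent.Lib.Helper12.PbLocal
import Groth.Agent.Lib.Helper12.LimData

/-!
# Limit data of base change situations with qcqs `X₀`, `Y₀`, and localisation
-/

universe u

open CategoryTheory Limits AlgebraicGeometry

namespace Groth.Agent.Lib.Helper12

set_option backward.isDefEq.respectTransparency false

open PbDiag PbLocal

namespace LimData

section ofPb'

variable {I : Type u} [SmallCategory I] [IsCofiltered I] (D : I ⥤ Scheme.{u}) (c : Cone D)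
  (hc : IsLimit c) [∀ {i j : I} (f : i ⟶ j), IsAffineHom (D.map f)] (i₀ : I)
  {X₀ Y₀ : Scheme.{u}} (f₀ : X₀ ⟶ Y₀) (g₀ : Y₀ ⟶ D.obj i₀)
  [CompactSpace X₀] [QuasiSeparatedSpace X₀] [CompactSpace Y₀] [QuasiSeparatedSpace Y₀]
  {X Y : Scheme.{u}} (f : X ⟶ Y) (g : Y ⟶ c.pt) (qY : Y ⟶ Y₀) (qX : X ⟶ X₀)
  (hY : IsPullback qY g g₀ (c.π.app i₀)) (hX : IsPullback qX f f₀ qY)

/-- The limit data of a base change situation with `X₀`, `Y₀` qcqs (no hypothesis on the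
stage `D.obj i₀`). -/
noncomputable def ofPb' : LimData (Over i₀) where
  DX := pbDiagram D i₀ (f₀ ≫ g₀)
  DY := pbDiagram D i₀ g₀
  F := pbMap D i₀ g₀ f₀
  cX := pbCone c qX (f ≫ g) (hX.paste_vert hY)
  cY := pbCone c qY g hY
  hcX := isLimitPbCone c hc qX (f ≫ g) (hX.paste_vert hY)
  hcY := isLimitPbCone c hc qY g hY
  f := f
  hf := fun j => pbCone_π_pbMap D i₀ g₀ c f₀ qY g hY qX (f ≫ g) (hX.paste_vert hY) f hX.w rfl j
  hF := fun a => isPullback_pbMap_map D i₀ g₀ f₀ a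
  affY := fun a => inferInstance
  cptX := fun j => compactSpace_pbDiagram_obj' D i₀ (f₀ ≫ g₀) j
  qsX := fun j => quasiSeparatedSpace_pbDiagram_obj' D i₀ (f₀ ≫ g₀) j
  cptY := fun j => compactSpace_pbDiagram_obj' D i₀ g₀ j
  qsY := fun j => quasiSeparatedSpace_pbDiagram_obj' D i₀ g₀ j

lemma ofPb'_F_app (j : Over i₀) :
    (ofPb' D c hc i₀ f₀ g₀ f g qY qX hY hX).F.app j = (pbMap D i₀ g₀ f₀).app j := rfl

lemma ofPb'_f : (ofPb' D c hc i₀ f₀ g₀ f g qY qX hY hX).f = f := rfl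

end ofPb'

section restrict

variable {I : Type u} [SmallCategory I] {D : I ⥤ Scheme.{u}} (c : Cone D) {i₀ : I}
  {X₀ Y₀ : Scheme.{u}} {f₀ : X₀ ⟶ Y₀} {g₀ : Y₀ ⟶ D.obj i₀}
  {X Y : Scheme.{u}} {f : X ⟶ Y} {g : Y ⟶ c.pt} {qY : Y ⟶ Y₀} {qX : X ⟶ X₀}
  (hY : IsPullback qY g g₀ (c.π.app i₀)) (hX : IsPullback qX f f₀ qY)

include hY in
lemma isPullback_restrict_Y (U : Y₀.Opens) :
    IsPullback (qY ∣_ U) ((qY ⁻¹ᵁ U).ι ≫ g) (U.ι ≫ g₀) (c.π.app i₀) :=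
  (isPullback_morphismRestrict qY U).paste_vert hY

include hX in
lemma le_of_le {U : Y₀.Opens} {V : X₀.Opens} (e : V ≤ f₀ ⁻¹ᵁ U) :
    qX ⁻¹ᵁ V ≤ f ⁻¹ᵁ (qY ⁻¹ᵁ U) := by
  rw [← Scheme.Hom.comp_preimage, ← hX.w, Scheme.Hom.comp_preimage]
  exact Scheme.Hom.preimage_mono qX e

include hX in
lemma isPullback_restrict_X (U : Y₀.Opens) (V : X₀.Opens) (e : V ≤ f₀ ⁻¹ᵁ U) :
    IsPullback (qX ∣_ V) (f.resLE (qY ⁻¹ᵁ U) (qX ⁻¹ᵁ V) (le_of_le hX e)) (f₀.resLE U V e)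
      (qY ∣_ U) := by
  have h := Scheme.Hom.isPullback_resLE hX (US := U) (UT := qY ⁻¹ᵁ U) (UX := V) le_rfl e
    (UY := qX ⁻¹ᵁ V) (by rw [eq_comm, inf_eq_left]; exact le_of_le hX e)
  rw [Scheme.Hom.resLE_eq_morphismRestrict, Scheme.Hom.resLE_eq_morphismRestrict] at h
  exact h

end restrict

section converse

variable {I : Type u} [SmallCategory I] {D : I ⥤ Scheme.{u}} (c : Cone D) {i₀ : I}
  {X₀ Y₀ : Scheme.{u}} {f₀ : X₀ ⟶ Y₀} {g₀ : Y₀ ⟶ D.obj i₀}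
  {X Y : Scheme.{u}} {f : X ⟶ Y} {g : Y ⟶ c.pt} {qY : Y ⟶ Y₀} {qX : X ⟶ X₀}
  (hY : IsPullback qY g g₀ (c.π.app i₀)) (hX : IsPullback qX f f₀ qY)

include hY hX in
/-- The limit map is a base change of any stage map. -/
theorem of_stage (P : MorphismProperty Scheme.{u}) [P.IsStableUnderBaseChange]
    (h : ∃ (j : I) (φ : j ⟶ i₀) (Xj Yj : Scheme.{u}) (fj : Xj ⟶ Yj) (gj : Yj ⟶ D.obj j)
      (pY : Yj ⟶ Y₀) (pX : Xj ⟶ X₀), IsPullback pY gj g₀ (D.map φ) ∧ IsPullback pX fj f₀ pY ∧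
        P fj) : P f := by
  obtain ⟨j, φ, Xj, Yj, fj, gj, pY, pX, hYj, hXj, hP⟩ := h
  let rY : Y ⟶ Yj := hYj.lift qY (g ≫ c.π.app j) (by rw [Category.assoc, c.w, hY.w])
  have hrY : rY ≫ pY = qY := hYj.lift_fst _ _ _
  let rX : X ⟶ Xj := hXj.lift qX (f ≫ rY) (by rw [Category.assoc, hrY, hX.w])
  have hrX1 : rX ≫ pX = qX := hXj.lift_fst _ _ _
  have hrX2 : rX ≫ fj = f ≫ rY := hXj.lift_snd _ _ _
  have hsq : IsPullback rX f fj rY := by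
    refine IsPullback.of_right ?_ hrX2 hXj
    rw [hrX1, hrY]
    exact hX
  exact MorphismProperty.of_isPullback (P := P) hsq hP

end converse

section combinators

variable {I : Type u} [SmallCategory I] [IsCofiltered I]

/-- Descent to a stage for a target-local property `P` under a target-local finiteness
condition `Q`, from the corresponding statement for limit data, for `Y₀` quasi-compact and
`f₀` quasi-compact quasi-separated. -/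
theorem exists_stage_targetLocal (P Q : MorphismProperty Scheme.{u})
    [IsZariskiLocalAtTarget P] [P.IsStableUnderBaseChange] [IsZariskiLocalAtTarget Q]
    [Q.IsStableUnderBaseChange]
    (D : I ⥤ Scheme.{u}) (c : Cone D) (hc : IsLimit c)
    [∀ {i j : I} (f : i ⟶ j), IsAffineHom (D.map f)] (i₀ : I)
    (hPQ : ∀ A : LimData (Over i₀), (∀ j, Q (A.F.app j)) → P A.f → ∃ j, P (A.F.app j))
    {X₀ Y₀ : Scheme.{u}} (f₀ : X₀ ⟶ Y₀) (g₀ : Y₀ ⟶ D.obj i₀) [CompactSpace Y₀]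
    [QuasiCompact f₀] [QuasiSeparated f₀] (hQ : Q f₀)
    {X Y : Scheme.{u}} (f : X ⟶ Y) (g : Y ⟶ c.pt) (qY : Y ⟶ Y₀) (qX : X ⟶ X₀)
    (hY : IsPullback qY g g₀ (c.π.app i₀)) (hX : IsPullback qX f f₀ qY) (hf : P f) :
    ∃ j : Over i₀, P ((pbMap D i₀ g₀ f₀).app j) := by
  refine PbLocal.exists_stage_of_targetLocal P fun U hU => ?_
  haveI : IsAffine (U : Scheme.{u}) := hU
  haveI : CompactSpace ((f₀ ⁻¹ᵁ U : X₀.Opens) : Scheme.{u}) :=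
    isCompact_iff_compactSpace.mp (QuasiCompact.isCompact_preimage (f := f₀) _ U.2 hU.isCompact)
  haveI : QuasiSeparatedSpace ((f₀ ⁻¹ᵁ U : X₀.Opens) : Scheme.{u}) := by
    haveI : QuasiSeparated (f₀ ∣_ U) :=
      IsZariskiLocalAtTarget.restrict (P := @QuasiSeparated) inferInstance U
    exact quasiSeparatedSpace_of_quasiSeparated (f₀ ∣_ U)
  have heq : qX ⁻¹ᵁ (f₀ ⁻¹ᵁ U) = f ⁻¹ᵁ (qY ⁻¹ᵁ U) := by
    rw [← Scheme.Hom.comp_preimage, hX.w, Scheme.Hom.comp_preimage]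
  have hQA : ∀ j, Q ((ofPb' D c hc i₀ (f₀.resLE U (f₀ ⁻¹ᵁ U) le_rfl) (U.ι ≫ g₀)
      (f.resLE (qY ⁻¹ᵁ U) (qX ⁻¹ᵁ (f₀ ⁻¹ᵁ U)) (le_of_le hX le_rfl)) ((qY ⁻¹ᵁ U).ι ≫ g)
      (qY ∣_ U) (qX ∣_ (f₀ ⁻¹ᵁ U)) (isPullback_restrict_Y c hY U)
      (isPullback_restrict_X hX U _ le_rfl)).F.app j) := fun j =>
    MorphismProperty.of_isPullback (P := Q) (isPullback_pbMap_app D i₀ (U.ι ≫ g₀) _ j) (by
      rw [Scheme.Hom.resLE_eq_morphismRestrict]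
      exact IsZariskiLocalAtTarget.restrict hQ U)
  have hPA : P (f.resLE (qY ⁻¹ᵁ U) (qX ⁻¹ᵁ (f₀ ⁻¹ᵁ U)) (le_of_le hX le_rfl)) :=
    IsZariskiLocalAtTarget.of_isPullback (P := P) (isPullback_resLE_ι f _ _ heq) hf
  exact hPQ _ hQA hPA

end combinators

end LimData

end Groth.Agent.Lib.Helper12
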