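import Mathlib
import Groth.Agent.Lib.Helper12.LimData
import Groth.Agent.S9200

/-!
# Affine morphisms, closed immersions and immersions descend along cofiltered limits
-/

universe u

open CategoryTheory Limits AlgebraicGeometry

namespace Groth.Agent.Lib.Helper12

set_option backward.isDefEq.respectTransparency false

/-- In a pushout square of commutative rings, if `A₀` is generated over `B₀` by `T` and the
image of `T` in `A₂` lies in the range of `B₂ → A₂`, then `B₂ → A₂` is surjective. -/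
theorem surjective_of_isPushout {B₀ A₀ B₂ A₂ : CommRingCat.{u}} {φ₀ : B₀ ⟶ A₀} {β : B₀ ⟶ B₂}
    {α : A₀ ⟶ A₂} {φ₂ : B₂ ⟶ A₂} (h : IsPushout φ₀ β α φ₂) (T : Set A₀)
    (hgen : ∀ R : Subring A₀, (∀ b, φ₀ b ∈ R) → T ⊆ R → R = ⊤)
    (hT : ∀ x ∈ T, ∃ y, φ₂ y = α x) : Function.Surjective φ₂ := by
  let R : Subring A₂ := φ₂.hom.range
  have hα : ∀ a, α.hom a ∈ R := by
    have h1 := hgen (R.comap α.hom) (fun b => ?_) (fun x hx => ?_)
    · intro a
      have : a ∈ R.comap α.hom := h1 ▸ Subring.mem_top a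
      exact this
    · refine ⟨β b, ?_⟩
      have := congr($(h.w) b)
      simpa using this.symm
    · obtain ⟨y, hy⟩ := hT x hx
      exact ⟨y, hy⟩
  let α' : A₀ ⟶ CommRingCat.of R := CommRingCat.ofHom (α.hom.codRestrict R hα)
  let φ₂' : B₂ ⟶ CommRingCat.of R := CommRingCat.ofHom (φ₂.hom.rangeRestrict)
  let ι : CommRingCat.of R ⟶ A₂ := CommRingCat.ofHom R.subtype
  have hα' : α' ≫ ι = α := by ext; rfl
  have hφ₂' : φ₂' ≫ ι = φ₂ := by ext; rfl
  have h1 : φ₀ ≫ α' = β ≫ φ₂' := by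
    ext b
    exact congr($(h.w) b)
  have h2 : h.desc α' φ₂' h1 ≫ ι = 𝟙 A₂ := by
    apply h.hom_ext
    · rw [IsPushout.inl_desc_assoc, hα', Category.comp_id]
    · rw [IsPushout.inr_desc_assoc, hφ₂', Category.comp_id]
  intro a
  have h3 : ι (h.desc α' φ₂' h1 a) = a := congr($h2 a)
  obtain ⟨y, hy⟩ := (h.desc α' φ₂' h1 a).2
  exact ⟨y, hy.trans h3⟩

lemma appTop_appTop {X Y Z : Scheme.{u}} (f : X ⟶ Y) (g : Y ⟶ Z) (s : Γ(Z, ⊤)) :
    f.appTop (g.appTop s) = (f ≫ g).appTop s := by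
  rw [Scheme.Hom.comp_appTop]; rfl

lemma cone_appTop {J : Type u} [SmallCategory J] {D : J ⥤ Scheme.{u}} (c : Cone D) {i j : J}
    (a : i ⟶ j) (s : Γ(D.obj j, ⊤)) :
    (c.π.app i).appTop ((D.map a).appTop s) = (c.π.app j).appTop s := by
  have := appTop_appTop (c.π.app i) (D.map a) s
  rw [c.w] at this
  exact this

namespace LimData

variable {J : Type u} [SmallCategory J] [IsCofiltered J] (A : LimData J)

/-- Closed immersions descend when all stages are affine. -/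
theorem exists_isClosedImmersion_of_isAffine
    (hX : ∀ j, IsAffine (A.DX.obj j)) (hY : ∀ j, IsAffine (A.DY.obj j))
    [∀ j, LocallyOfFiniteType (A.F.app j)] (hf : IsClosedImmersion A.f) :
    ∃ j, IsClosedImmersion (A.F.app j) := by
  classical
  haveI := hf
  haveI : IsAffine A.cX.pt := Scheme.isAffine_of_isLimit _ A.hcX
  haveI : IsAffine A.cY.pt := Scheme.isAffine_of_isLimit _ A.hcY
  obtain ⟨-, hsurj⟩ := IsClosedImmersion.isAffine_surjective_of_isAffine A.f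
  obtain ⟨j₀⟩ := IsCofiltered.nonempty (C := J)
  have hft : (A.F.app j₀).appTop.hom.FiniteType :=
    (HasRingHomProperty.iff_of_isAffine (P := @LocallyOfFiniteType)).mp inferInstance
  obtain ⟨T, hgen⟩ : ∃ T : Finset Γ(A.DX.obj j₀, ⊤), ∀ R : Subring Γ(A.DX.obj j₀, ⊤),
      (∀ b, (A.F.app j₀).appTop b ∈ R) →
        (T : Set Γ(A.DX.obj j₀, ⊤)) ⊆ (R : Set Γ(A.DX.obj j₀, ⊤)) → R = ⊤ := by
    letI := (A.F.app j₀).appTop.hom.toAlgebra
    obtain ⟨T, hT⟩ := (Algebra.FiniteType.out (self := hft) :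
      (⊤ : Subalgebra Γ(A.DY.obj j₀, ⊤) Γ(A.DX.obj j₀, ⊤)).FG)
    refine ⟨T, ?_⟩
    intro R hR hTR
    let R' : Subalgebra Γ(A.DY.obj j₀, ⊤) Γ(A.DX.obj j₀, ⊤) :=
      { R.toSubsemiring with algebraMap_mem' := hR }
    have h0 : (T : Set Γ(A.DX.obj j₀, ⊤)) ⊆ (R' : Set Γ(A.DX.obj j₀, ⊤)) := fun x hx => hTR hx
    have h1 : R' = ⊤ := top_le_iff.mp (hT ▸ Algebra.adjoin_le h0)
    refine top_le_iff.mp fun x _ => ?_
    have : x ∈ R' := h1 ▸ Algebra.mem_top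
    exact this
  have h1 : ∀ x : T, ∃ (j : J) (y' : Γ(A.DY.obj j, ⊤)),
      A.f.appTop ((A.cY.π.app j).appTop y') = (A.cX.π.app j₀).appTop x.1 := by
    intro x
    obtain ⟨y, hy⟩ := hsurj ((A.cX.π.app j₀).appTop x.1)
    obtain ⟨j, y', hy'⟩ := exists_appTop_π_eq_of_isLimit A.DY A.cY A.hcY y
    exact ⟨j, y', by rw [← hy', hy]⟩
  choose jx y' hy' using h1
  obtain ⟨j₁, hj₁⟩ := IsCofiltered.inf_objs_exists (insert j₀ (Finset.univ.image jx))
  have a₀ : j₁ ⟶ j₀ := (hj₁ (Finset.mem_insert_self _ _)).some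
  have ax : ∀ x : T, j₁ ⟶ jx x := fun x =>
    (hj₁ (Finset.mem_insert_of_mem (Finset.mem_image_of_mem _ (Finset.mem_univ x)))).some
  have h2 : ∀ x : T, (A.cX.π.app j₁).appTop
      ((A.F.app j₁).appTop ((A.DY.map (ax x)).appTop (y' x))) =
      (A.cX.π.app j₁).appTop ((A.DX.map a₀).appTop x.1) := by
    intro x
    have e1 := appTop_appTop (A.cX.π.app j₁) (A.F.app j₁) ((A.DY.map (ax x)).appTop (y' x))
    have e2 : (A.cX.π.app j₁ ≫ A.F.app j₁).appTop ((A.DY.map (ax x)).appTop (y' x)) =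
        (A.f ≫ A.cY.π.app j₁).appTop ((A.DY.map (ax x)).appTop (y' x)) := by
      rw [A.hf]; rfl
    have e3 := appTop_appTop A.f (A.cY.π.app j₁) ((A.DY.map (ax x)).appTop (y' x))
    have e4 := cone_appTop A.cY (ax x) (y' x)
    have e5 := cone_appTop A.cX a₀ x.1
    exact e1.trans (e2.trans (e3.symm.trans (congr(A.f.appTop $e4).trans
      ((hy' x).trans e5.symm))))
  have h3 : ∀ x : T, ∃ (j : J) (b : j ⟶ j₁),
      (A.DX.map b).appTop ((A.F.app j₁).appTop ((A.DY.map (ax x)).appTop (y' x))) =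
      (A.DX.map b).appTop ((A.DX.map a₀).appTop x.1) := fun x =>
    exists_app_map_eq_map_of_isLimit A.DX A.cX A.hcX (U := ⊤) isCompact_univ _ _ (h2 x)
  choose j₂x bx hbx using h3
  obtain ⟨j₂, b, d, hd⟩ := IsCofiltered.wideCospan bx
  refine ⟨j₂, ?_⟩
  have hpo := isPushout_appTop_of_isPullback (A.hF (b ≫ a₀))
  have hs : Function.Surjective (A.F.app j₂).appTop := by
    refine surjective_of_isPushout hpo (T : Set _) hgen ?_
    intro x hx
    refine ⟨(A.DY.map b).appTop ((A.DY.map (ax ⟨x, hx⟩)).appTop (y' ⟨x, hx⟩)), ?_⟩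
    have h4 := congr((A.DX.map (d ⟨x, hx⟩)).appTop $(hbx ⟨x, hx⟩))
    rw [appTop_appTop, appTop_appTop (A.DX.map (d ⟨x, hx⟩)), ← A.DX.map_comp, hd] at h4
    rw [appTop_appTop, ← A.F.naturality, ← appTop_appTop, h4, appTop_appTop, ← A.DX.map_comp]
  exact IsClosedImmersion.of_surjective_of_isAffine _ hs

/-- Affineness of the limit map descends to a stage (and all later stages). -/
theorem exists_isAffineHom (h : IsAffineHom A.f) :
    ∃ j₀, ∀ (j : J) (_ : j ⟶ j₀), IsAffineHom (A.F.app j) := by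
  obtain ⟨j₁⟩ := IsCofiltered.nonempty (C := J)
  haveI := h
  haveI : ∀ (k l : Over j₁) (a : k ⟶ l), IsAffineHom ((Over.forget j₁ ⋙ A.DX).map a) :=
    fun k l a => by dsimp; infer_instance
  haveI : ∀ k, CompactSpace ((Over.forget j₁ ⋙ A.DX).obj k) := fun k => by dsimp; infer_instance
  haveI : ∀ k, QuasiSeparatedSpace ((Over.forget j₁ ⋙ A.DX).obj k) :=
    fun k => by dsimp; infer_instance
  haveI : IsAffineHom (A.cY.π.app j₁) := isAffineHom_π_app A.DY A.cY A.hcY j₁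
  have hcomp : (A.cX.whisker (Over.forget j₁)).π.app (Over.mk (𝟙 j₁)) ≫
      (LimOpenImm.overTo A.DX A.DY A.F j₁).app (Over.mk (𝟙 j₁)) = A.f ≫ A.cY.π.app j₁ := by
    simp [LimOpenImm.overTo, A.hf]
  haveI : IsAffineHom ((A.cX.whisker (Over.forget j₁)).π.app (Over.mk (𝟙 j₁)) ≫
      (LimOpenImm.overTo A.DX A.DY A.F j₁).app (Over.mk (𝟙 j₁))) := by
    rw [hcomp]
    exact MorphismProperty.comp_mem (W := @IsAffineHom) _ _ inferInstance inferInstance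
  obtain ⟨k₁, hk₁⟩ := Groth.Agent.S9200.result (A.DY.obj j₁) (Over.forget j₁ ⋙ A.DX)
    (LimOpenImm.overTo A.DX A.DY A.F j₁) (A.cX.whisker (Over.forget j₁))
    ((Functor.Initial.isLimitWhiskerEquiv (Over.forget j₁) A.cX).symm A.hcX) (Over.mk (𝟙 j₁))
  refine ⟨k₁.left, fun j a => ?_⟩
  have h1 : IsAffineHom (A.DX.map (a ≫ k₁.hom) ≫ A.F.app j₁) :=
    hk₁ (Over.mk (a ≫ k₁.hom)) (Over.homMk a)
  haveI h2 : IsAffineHom (A.F.app j ≫ A.DY.map (a ≫ k₁.hom)) := by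
    rw [← A.F.naturality]; exact h1
  haveI : IsSeparated (A.DY.map (a ≫ k₁.hom)) := IsSeparated.of_isAffineHom _
  exact IsAffineHom.of_comp (A.F.app j) (A.DY.map (a ≫ k₁.hom))

/-- Closed immersions descend. -/
theorem exists_isClosedImmersion [∀ j, LocallyOfFiniteType (A.F.app j)]
    (hf : IsClosedImmersion A.f) : ∃ j, IsClosedImmersion (A.F.app j) := by
  classical
  haveI := hf
  obtain ⟨j₀, hj₀⟩ := A.exists_isAffineHom inferInstance
  haveI : IsAffineHom (A.F.app j₀) := hj₀ j₀ (𝟙 _)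
  let 𝒰 := (A.DY.obj j₀).affineCover.finiteSubcover
  have hW : ∀ α : 𝒰.I₀, IsAffineOpen (𝒰.f α).opensRange :=
    fun α => isAffineOpen_opensRange (𝒰.f α)
  have key : ∀ α : 𝒰.I₀, ∃ k : Over j₀, IsClosedImmersion
      ((A.restrict j₀ (𝒰.f α).opensRange (hW α).isCompact).F.app k) := by
    intro α
    have hBX : ∀ k, IsAffine ((A.restrict j₀ (𝒰.f α).opensRange (hW α).isCompact).DX.obj k) :=
      fun k => ((hW α).preimage (A.F.app j₀)).preimage (A.DX.map k.hom)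
    have hBY : ∀ k, IsAffine ((A.restrict j₀ (𝒰.f α).opensRange (hW α).isCompact).DY.obj k) :=
      fun k => (hW α).preimage (A.DY.map k.hom)
    haveI : ∀ k, LocallyOfFiniteType
        ((A.restrict j₀ (𝒰.f α).opensRange (hW α).isCompact).F.app k) := fun k =>
      IsZariskiLocalAtTarget.of_isPullback (P := @LocallyOfFiniteType)
        (isPullback_resLE_ι _ _ _ (A.preimage_eq k.hom _)) inferInstance
    have hBf : IsClosedImmersion (A.restrict j₀ (𝒰.f α).opensRange (hW α).isCompact).f :=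
      IsZariskiLocalAtTarget.of_isPullback (P := @IsClosedImmersion)
        (isPullback_resLE_ι _ _ _ (A.preimage_eq' j₀ _)) inferInstance
    exact (A.restrict j₀ (𝒰.f α).opensRange (hW α).isCompact).exists_isClosedImmersion_of_isAffine
      hBX hBY hBf
  choose k hk using key
  obtain ⟨j, g, a, ha⟩ := IsCofiltered.wideCospan (fun α => (k α).hom)
  refine ⟨j, ?_⟩
  refine IsZariskiLocalAtTarget.of_iSup_eq_top (P := @IsClosedImmersion)
    (fun α => A.DY.map g ⁻¹ᵁ (𝒰.f α).opensRange) ?_ fun α => ?_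
  · rw [← Scheme.Hom.preimage_iSup, 𝒰.iSup_opensRange]
    rfl
  · have h1 : IsClosedImmersion ((A.restrict j₀ (𝒰.f α).opensRange (hW α).isCompact).F.app
        (Over.mk g)) :=
      MorphismProperty.of_isPullback (P := @IsClosedImmersion)
        ((A.restrict j₀ (𝒰.f α).opensRange (hW α).isCompact).hF
          (Over.homMk (a α) (ha α) : Over.mk g ⟶ k α)) (hk α)
    exact morphismRestrict_of_resLE _ _ _ _ (A.preimage_eq g _) h1

/-- Immersions descend. -/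
theorem exists_isImmersion [∀ j, LocallyOfFiniteType (A.F.app j)]
    (hf : IsImmersion A.f) : ∃ j, IsImmersion (A.F.app j) := by
  classical
  haveI := hf
  haveI : CompactSpace A.cX.pt := Scheme.compactSpace_of_isLimit A.DX A.cX A.hcX
  obtain ⟨W', hW'c, hW'o, hKW, hWU⟩ := PrespectralSpace.exists_isCompact_and_isOpen_between
    (isCompact_range A.f.continuous) A.f.coborderRange.2 subset_coborder
  obtain ⟨j₁, V₁, hV₁c, hV₁⟩ := exists_preimage_eq A.DY A.cY A.hcY ⟨W', hW'o⟩ hW'c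
  have h2 : A.cX.π.app j₁ ⁻¹ᵁ (A.F.app j₁ ⁻¹ᵁ V₁) = ⊤ := by
    rw [A.preimage_eq', hV₁]
    refine top_le_iff.mp fun x _ => ?_
    exact hKW ⟨x, rfl⟩
  obtain ⟨j₂, a₂₁, h2'⟩ := exists_map_eq_top A.DX A.cX A.hcX _ h2
  obtain ⟨V₂, hV₂def⟩ : ∃ V₂ : (A.DY.obj j₂).Opens, V₂ = A.DY.map a₂₁ ⁻¹ᵁ V₁ := ⟨_, rfl⟩
  have hV₂c : IsCompact (V₂ : Set (A.DY.obj j₂)) := by
    rw [hV₂def]; exact (A.DY.map a₂₁).isCompact_preimage hV₁c
  have hV₂ : A.cY.π.app j₂ ⁻¹ᵁ V₂ = ⟨W', hW'o⟩ := by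
    rw [hV₂def, ← Scheme.Hom.comp_preimage, A.cY.w, hV₁]
  have hF₂ : A.F.app j₂ ⁻¹ᵁ V₂ = ⊤ := by
    rw [hV₂def, ← A.preimage_eq, h2']
  -- the restricted data
  have hBf' : IsClosedImmersion (A.f.resLE (A.cY.π.app j₂ ⁻¹ᵁ V₂)
        (A.cX.π.app j₂ ⁻¹ᵁ (A.F.app j₂ ⁻¹ᵁ V₂)) (A.preimage_eq' j₂ V₂).le) := by
    haveI : IsPreimmersion (A.f.resLE (A.cY.π.app j₂ ⁻¹ᵁ V₂)
        (A.cX.π.app j₂ ⁻¹ᵁ (A.F.app j₂ ⁻¹ᵁ V₂)) (A.preimage_eq' j₂ V₂).le ≫
        (A.cY.π.app j₂ ⁻¹ᵁ V₂).ι) := by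
      rw [Scheme.Hom.resLE_comp_ι]; infer_instance
    haveI : IsPreimmersion (A.f.resLE (A.cY.π.app j₂ ⁻¹ᵁ V₂)
        (A.cX.π.app j₂ ⁻¹ᵁ (A.F.app j₂ ⁻¹ᵁ V₂)) (A.preimage_eq' j₂ V₂).le) :=
      .of_comp _ (A.cY.π.app j₂ ⁻¹ᵁ V₂).ι
    refine .of_isPreimmersion _ ?_
    have hr : Set.range (A.f.resLE (A.cY.π.app j₂ ⁻¹ᵁ V₂)
        (A.cX.π.app j₂ ⁻¹ᵁ (A.F.app j₂ ⁻¹ᵁ V₂)) (A.preimage_eq' j₂ V₂).le) =
        (A.cY.π.app j₂ ⁻¹ᵁ V₂).ι ⁻¹' closure (Set.range A.f) := by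
      ext w
      constructor
      · rintro ⟨x, rfl⟩
        apply subset_closure
        refine ⟨x.1, ?_⟩
        have := congr($(Scheme.Hom.resLE_comp_ι A.f (A.preimage_eq' j₂ V₂).le) x)
        exact this.symm
      · intro hw
        have hwW : w.1 ∈ W' := hV₂.le w.2
        have h3 : w.1 ∈ coborder (Set.range A.f) ∩ closure (Set.range A.f) := ⟨hWU hwW, hw⟩
        rw [coborder_inter_closure] at h3
        obtain ⟨x, hx⟩ := h3
        have hxU : x ∈ A.cX.π.app j₂ ⁻¹ᵁ (A.F.app j₂ ⁻¹ᵁ V₂) := by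
          rw [hF₂]; trivial
        refine ⟨⟨x, hxU⟩, ?_⟩
        apply (A.cY.π.app j₂ ⁻¹ᵁ V₂).ι.isEmbedding.injective
        have := congr($(Scheme.Hom.resLE_comp_ι A.f (A.preimage_eq' j₂ V₂).le) ⟨x, hxU⟩)
        exact this.trans hx
    rw [hr]
    exact isClosed_closure.preimage (A.cY.π.app j₂ ⁻¹ᵁ V₂).ι.continuous
  have hBf : IsClosedImmersion (A.restrict j₂ V₂ hV₂c).f := hBf'
  haveI : ∀ k, LocallyOfFiniteType ((A.restrict j₂ V₂ hV₂c).F.app k) := fun k =>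
    IsZariskiLocalAtTarget.of_isPullback (P := @LocallyOfFiniteType)
      (isPullback_resLE_ι _ _ _ (A.preimage_eq k.hom _)) inferInstance
  obtain ⟨k, hk⟩ := (A.restrict j₂ V₂ hV₂c).exists_isClosedImmersion hBf
  refine ⟨k.left, ?_⟩
  rw [restrict_F_app] at hk
  have h3 : A.DX.map k.hom ⁻¹ᵁ (A.F.app j₂ ⁻¹ᵁ V₂) = ⊤ := by rw [hF₂]; rfl
  haveI : IsIso (A.DX.map k.hom ⁻¹ᵁ (A.F.app j₂ ⁻¹ᵁ V₂)).ι :=
    isIso_of_isOpenImmersion_of_opensRange_eq_top _ (by rw [Scheme.Opens.opensRange_ι, h3])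
  have h4 := Scheme.Hom.resLE_comp_ι (A.F.app k.left) (A.preimage_eq k.hom V₂).le
  have h5 : A.F.app k.left = inv (A.DX.map k.hom ⁻¹ᵁ (A.F.app j₂ ⁻¹ᵁ V₂)).ι ≫
      (A.F.app k.left).resLE (A.DY.map k.hom ⁻¹ᵁ V₂) (A.DX.map k.hom ⁻¹ᵁ (A.F.app j₂ ⁻¹ᵁ V₂))
        (A.preimage_eq k.hom V₂).le ≫ (A.DY.map k.hom ⁻¹ᵁ V₂).ι := by
    rw [h4, IsIso.inv_hom_id_assoc]
  rw [h5]
  infer_instance

end LimData

end Groth.Agent.Lib.Helper12
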