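import Mathlib
import Groth.Agent.Lib.Helper8.WeakColimBase
import Groth.Agent.Lib.Helper12.LimCI

/-!
# Ring-level descent along limits of affine schemes

We bridge `LimData` with all stages affine to the weak-colimit framework of
`Groth.Agent.Lib.Helper8.WeakColim`: a property `Q` of ring homomorphisms which respects
isomorphisms and descends along weak colimits (for finitely presented algebras) descends from the
limit map of a `LimData` to a stage.
-/

universe u

open CategoryTheory Limits AlgebraicGeometry TensorProduct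
open Groth.Agent.Lib.Helper8.WeakColim

namespace Groth.Agent.Lib.Helper12

set_option backward.isDefEq.respectTransparency false

/-- A property of ring homomorphisms descends along weak colimits: if the base change of a finitely
presented `R`-algebra `C` to the weak colimit `B'` of `R`-algebras `B i` has `Q`, so has the base
change to some stage `B j`. -/
def DescendsWeakColim
    (Q : ∀ {R S : Type u} [CommRing R] [CommRing S], (R →+* S) → Prop) : Prop :=
  ∀ {ι : Type u} (S : WSys.{u, u} ι) {R : Type u} [CommRing R] {B : ι → Type u}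
    [∀ i, CommRing (B i)] [∀ i, Algebra R (B i)] {B' : Type u} [CommRing B'] [Algebra R B']
    {β : ∀ i, B i →ₐ[R] B'} {μ : ∀ {i j}, S.H i j → (B i →ₐ[R] B j)},
    IsWeakColim S B B' (fun i => β i) (fun h => μ h) →
    ∀ (C : Type u) [CommRing C] [Algebra R C] [Algebra.FinitePresentation R C],
      Q (algebraMap B' (B' ⊗[R] C)) → ∀ i₀, ∃ j, ∃ _ : S.H i₀ j, Q (algebraMap (B j) (B j ⊗[R] C))

theorem descendsWeakColim_smooth : DescendsWeakColim @RingHom.Smooth := by
  intro ι S R _ B _ _ B' _ _ β μ hW C _ _ _ h i₀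
  rw [RingHom.smooth_algebraMap] at h
  haveI := h
  obtain ⟨j, hj, hj'⟩ := hW.exists_formallySmooth C i₀
  exact ⟨j, hj, RingHom.smooth_algebraMap.mpr { formallySmooth := hj' }⟩

theorem descendsWeakColim_etale : DescendsWeakColim @RingHom.Etale := by
  intro ι S R _ B _ _ B' _ _ β μ hW C _ _ _ h i₀
  rw [RingHom.etale_algebraMap] at h
  haveI := h
  obtain ⟨j, hj, hj'⟩ := hW.exists_formallyEtale C i₀
  exact ⟨j, hj, RingHom.etale_algebraMap.mpr { formallyEtale := hj' }⟩

theorem descendsWeakColim_finite : DescendsWeakColim @RingHom.Finite := by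
  intro ι S R _ B _ _ B' _ _ β μ hW C _ _ _ h i₀
  rw [RingHom.finite_algebraMap] at h
  haveI := h
  obtain ⟨j, hj, hj'⟩ := hW.exists_finite C i₀
  exact ⟨j, hj, RingHom.finite_algebraMap.mpr hj'⟩

/-- For a pushout square of commutative rings, a property respecting isomorphisms holds for the
pushout of `φ` along `ψ` iff it holds for the base change map `B → B ⊗[R] C`. -/
theorem iff_of_isPushout {Q : ∀ {R S : Type u} [CommRing R] [CommRing S], (R →+* S) → Prop}
    (hQ : RingHom.RespectsIso @Q) {R B C X : CommRingCat.{u}} {ψ : R ⟶ B} {φ : R ⟶ C}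
    {q : B ⟶ X} {p : C ⟶ X} (H : IsPushout ψ φ q p) :
    letI := ψ.hom.toAlgebra
    letI := φ.hom.toAlgebra
    Q q.hom ↔ Q (algebraMap B (B ⊗[R] C)) := by
  letI := ψ.hom.toAlgebra
  letI := φ.hom.toAlgebra
  have H3 := CommRingCat.isPushout_tensorProduct R B C
  have e1 := IsPushout.inl_isoIsPushout_hom _ _ H3 H
  have e2 : q.hom = (H3.isoIsPushout _ _ H).hom.hom.comp
      (CommRingCat.ofHom (Algebra.TensorProduct.includeLeftRingHom (R := R) (A := B) (B := C))).hom :=
    congrArg CommRingCat.Hom.hom e1.symm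
  have e3 : algebraMap B (B ⊗[R] C) = (CommRingCat.ofHom
      (Algebra.TensorProduct.includeLeftRingHom (R := R) (A := B) (B := C))).hom := by
    ext b; simp
  rw [e2, e3]
  exact hQ.cancel_right_isIso _ _

/-- Abstract descent along a weak colimit, phrased in `CommRingCat` with pushout squares. -/
theorem exists_of_descendsWeakColim
    {Q : ∀ {R S : Type u} [CommRing R] [CommRing S], (R →+* S) → Prop}
    (hQi : RingHom.RespectsIso @Q) (hQ : DescendsWeakColim @Q)
    {ι : Type u} (S : WSys.{u, u} ι) {R C : CommRingCat.{u}} (φ : R ⟶ C)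
    (hφ : φ.hom.FinitePresentation)
    (B : ι → CommRingCat.{u}) (ψ : ∀ i, R ⟶ B i) (B' : CommRingCat.{u}) (ψ' : R ⟶ B')
    (μ : ∀ {i j}, S.H i j → (B i ⟶ B j)) (hμ : ∀ {i j} (h : S.H i j), ψ i ≫ μ h = ψ j)
    (β : ∀ i, B i ⟶ B') (hβ : ∀ i, ψ i ≫ β i = ψ')
    (hW : IsWeakColim S (fun i => B i) B' (fun i => (β i).hom) (fun h => (μ h).hom))
    (X : ι → CommRingCat.{u}) (q : ∀ i, B i ⟶ X i) (p : ∀ i, C ⟶ X i)
    (H : ∀ i, IsPushout (ψ i) φ (q i) (p i))
    (X' : CommRingCat.{u}) (q' : B' ⟶ X') (p' : C ⟶ X') (H' : IsPushout ψ' φ q' p')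
    (hq' : Q q'.hom) (i₀ : ι) : ∃ j, ∃ _ : S.H i₀ j, Q (q j).hom := by
  letI algC : Algebra R C := φ.hom.toAlgebra
  letI algB : ∀ i, Algebra R (B i) := fun i => (ψ i).hom.toAlgebra
  letI algB' : Algebra R B' := ψ'.hom.toAlgebra
  haveI : Algebra.FinitePresentation R C := hφ
  let μ' : ∀ {i j}, S.H i j → (B i →ₐ[R] B j) := fun {i j} h =>
    { (μ h).hom with commutes' := fun r => congrArg (fun k => k.hom r) (hμ h) }
  let β' : ∀ i, B i →ₐ[R] B' := fun i =>
    { (β i).hom with commutes' := fun r => congrArg (fun k => k.hom r) (hβ i) }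
  have hW' : IsWeakColim S (fun i => B i) B' (fun i => β' i) (fun h => μ' h) := hW
  have h1 := (iff_of_isPushout hQi H').mp hq'
  obtain ⟨j, hj, hj'⟩ := hQ S hW' C h1 i₀
  exact ⟨j, hj, (iff_of_isPushout hQi (H j)).mpr hj'⟩

namespace LimData

variable {J : Type u} [SmallCategory J] [IsCofiltered J] (A : LimData J)

/-- The weak index system attached to a cofiltered category (arrows reversed). -/
def wsys (J : Type u) [SmallCategory J] [IsCofiltered J] : WSys.{u, u} J where
  H i j := (j ⟶ i)
  id i := 𝟙 i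
  comp h h' := h' ≫ h
  directed i j := ⟨IsCofiltered.min i j, ⟨IsCofiltered.minToLeft i j⟩,
    ⟨IsCofiltered.minToRight i j⟩⟩

/-- Global sections of the limit of the `DY` form a weak colimit of the global sections of the
stages. -/
theorem isWeakColim_appTop :
    IsWeakColim (wsys J) (fun j => Γ(A.DY.obj j, ⊤)) Γ(A.cY.pt, ⊤)
      (fun j => (A.cY.π.app j).appTop.hom) (fun {i j} (h : j ⟶ i) => (A.DY.map h).appTop.hom) where
  map_zero h := map_zero _
  map_id i x := by
    show (A.DY.map (𝟙 i)).appTop.hom x = x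
    rw [A.DY.map_id]; simp
  map_comp {i j k} h h' x := by
    show (A.DY.map (h' ≫ h)).appTop.hom x = (A.DY.map h').appTop.hom ((A.DY.map h).appTop.hom x)
    rw [A.DY.map_comp]
    exact (appTop_appTop _ _ x).symm
  compat {i j} h x := cone_appTop A.cY h x
  surj y := by
    obtain ⟨j, t, ht⟩ := exists_appTop_π_eq_of_isLimit A.DY A.cY A.hcY y
    exact ⟨j, t, ht.symm⟩
  ker i x hx := by
    obtain ⟨j, b, hb⟩ := exists_app_map_eq_map_of_isLimit A.DY A.cY A.hcY (U := ⊤)
      isCompact_univ x 0 (by rw [map_zero]; exact hx)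
    refine ⟨j, b, ?_⟩
    rw [map_zero] at hb
    exact hb

/-- **Descent of ring-theoretic properties to a stage** for `LimData` with affine stages and a
terminal index. -/
theorem exists_of_descendsWeakColim
    {Q : ∀ {R S : Type u} [CommRing R] [CommRing S], (R →+* S) → Prop}
    (hQi : RingHom.RespectsIso @Q) (hQ : DescendsWeakColim @Q)
    {j₀ : J} (hT : IsTerminal j₀)
    (hXaff : ∀ j, IsAffine (A.DX.obj j)) (hYaff : ∀ j, IsAffine (A.DY.obj j))
    (hπ : IsPullback (A.cX.π.app j₀) A.f (A.F.app j₀) (A.cY.π.app j₀))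
    [LocallyOfFinitePresentation (A.F.app j₀)]
    (h : Q A.f.appTop.hom) : ∃ j, Q (A.F.app j).appTop.hom := by
  haveI : IsAffine A.cY.pt := Scheme.isAffine_of_isLimit _ A.hcY
  have hfp : (A.F.app j₀).appTop.hom.FinitePresentation :=
    (HasRingHomProperty.iff_of_isAffine (P := @LocallyOfFinitePresentation)).mp inferInstance
  obtain ⟨j, -, hj⟩ := Groth.Agent.Lib.Helper12.exists_of_descendsWeakColim hQi hQ (wsys J)
    (A.F.app j₀).appTop hfp
    (fun j => Γ(A.DY.obj j, ⊤)) (fun j => (A.DY.map (hT.from j)).appTop) Γ(A.cY.pt, ⊤)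
    (A.cY.π.app j₀).appTop
    (fun {i j} (h : j ⟶ i) => (A.DY.map h).appTop)
    (fun {i j} (h : j ⟶ i) => by
      rw [← Scheme.Hom.comp_appTop, ← A.DY.map_comp, hT.hom_ext (h ≫ hT.from i) (hT.from j)])
    (fun j => (A.cY.π.app j).appTop)
    (fun j => by rw [← Scheme.Hom.comp_appTop, A.cY.w])
    A.isWeakColim_appTop
    (fun j => Γ(A.DX.obj j, ⊤)) (fun j => (A.F.app j).appTop)
    (fun j => (A.DX.map (hT.from j)).appTop)
    (fun j => (isPushout_appTop_of_isPullback (A.hF (hT.from j))).flip)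
    Γ(A.cX.pt, ⊤) A.f.appTop (A.cX.π.app j₀).appTop
    (isPushout_appTop_of_isPullback hπ).flip h j₀
  exact ⟨j, hj⟩

end LimData

end Groth.Agent.Lib.Helper12
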