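import Mathlib
import Groth.Agent.Lib.Helper12.LimRing
import Groth.Agent.Lib.Helper12.LimPb
import Groth.Agent.Lib.Helper12.LimPb2

/-!
# Descent to a stage for properties given by ring-hom properties descending along weak colimits
-/

universe u

open CategoryTheory Limits AlgebraicGeometry

namespace Groth.Agent.Lib.Helper12

set_option backward.isDefEq.respectTransparency false

open PbDiag PbLocal

namespace LimData

section

variable {I : Type u} [SmallCategory I] [IsCofiltered I] (D : I ⥤ Scheme.{u}) (c : Cone D)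
  (hc : IsLimit c) [∀ {i j : I} (f : i ⟶ j), IsAffineHom (D.map f)] (i₀ : I)
  {X₀ Y₀ : Scheme.{u}} (f₀ : X₀ ⟶ Y₀) (g₀ : Y₀ ⟶ D.obj i₀)
  {X Y : Scheme.{u}} (f : X ⟶ Y) (g : Y ⟶ c.pt) (qY : Y ⟶ Y₀) (qX : X ⟶ X₀)
  (hY : IsPullback qY g g₀ (c.π.app i₀)) (hX : IsPullback qX f f₀ qY)

omit [IsCofiltered I] [∀ {i j : I} (f : i ⟶ j), IsAffineHom (D.map f)] in
/-- The projections of the limit to the stages form cartesian squares with the stage maps. -/
lemma isPullback_pbCone_π_pbMap (j : Over i₀) :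
    IsPullback ((pbCone c qX (f ≫ g) (hX.paste_vert hY)).π.app j) f
      ((pbMap D i₀ g₀ f₀).app j) ((pbCone c qY g hY).π.app j) := by
  refine IsPullback.of_right ?_
    (pbCone_π_pbMap D i₀ g₀ c f₀ qY g hY qX (f ≫ g) (hX.paste_vert hY) f hX.w rfl j)
    (isPullback_pbMap_app D i₀ g₀ f₀ j)
  rw [pbCone_π_fst, pbCone_π_fst]
  exact hX

include hc hY hX in
/-- Descent to a stage in the case `X₀`, `Y₀` affine. -/
theorem exists_stage_of_isAffine (P : MorphismProperty Scheme.{u})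
    (Q : ∀ {R S : Type u} [CommRing R] [CommRing S], (R →+* S) → Prop)
    [HasRingHomProperty P @Q] (hQ : DescendsWeakColim @Q)
    [IsAffine X₀] [IsAffine Y₀] [LocallyOfFinitePresentation f₀] (hf : P f) :
    ∃ j : Over i₀, P ((pbMap D i₀ g₀ f₀).app j) := by
  haveI hXaff : ∀ j : Over i₀, IsAffine ((ofPb' D c hc i₀ f₀ g₀ f g qY qX hY hX).DX.obj j) :=
    fun j => inferInstanceAs (IsAffine (pullback (f₀ ≫ g₀) (D.map j.hom)))
  haveI hYaff : ∀ j : Over i₀, IsAffine ((ofPb' D c hc i₀ f₀ g₀ f g qY qX hY hX).DY.obj j) :=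
    fun j => inferInstanceAs (IsAffine (pullback g₀ (D.map j.hom)))
  haveI : LocallyOfFinitePresentation ((ofPb' D c hc i₀ f₀ g₀ f g qY qX hY hX).F.app
      (Over.mk (𝟙 i₀))) :=
    MorphismProperty.of_isPullback (P := @LocallyOfFinitePresentation)
      (isPullback_pbMap_app D i₀ g₀ f₀ (Over.mk (𝟙 i₀))) inferInstance
  haveI : IsAffine (ofPb' D c hc i₀ f₀ g₀ f g qY qX hY hX).cX.pt :=
    Scheme.isAffine_of_isLimit _ (ofPb' D c hc i₀ f₀ g₀ f g qY qX hY hX).hcX
  haveI : IsAffine (ofPb' D c hc i₀ f₀ g₀ f g qY qX hY hX).cY.pt :=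
    Scheme.isAffine_of_isLimit _ (ofPb' D c hc i₀ f₀ g₀ f g qY qX hY hX).hcY
  have hQi : RingHom.RespectsIso @Q :=
    (HasRingHomProperty.isLocal_ringHomProperty (P := P)).respectsIso
  have h1 : Q (ofPb' D c hc i₀ f₀ g₀ f g qY qX hY hX).f.appTop.hom :=
    (HasRingHomProperty.iff_of_isAffine (P := P)).mp hf
  obtain ⟨j, hj⟩ := (ofPb' D c hc i₀ f₀ g₀ f g qY qX hY hX).exists_of_descendsWeakColim hQi hQ
    Over.mkIdTerminal hXaff hYaff
    (isPullback_pbCone_π_pbMap D c i₀ f₀ g₀ f g qY qX hY hX (Over.mk (𝟙 i₀))) h1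
  haveI : IsAffine (pullback (f₀ ≫ g₀) (D.map j.hom)) := inferInstance
  haveI : IsAffine (pullback g₀ (D.map j.hom)) := inferInstance
  exact ⟨j, (HasRingHomProperty.iff_of_isAffine (P := P)
    (f := (show pullback (f₀ ≫ g₀) (D.map j.hom) ⟶ pullback g₀ (D.map j.hom) from
      (pbMap D i₀ g₀ f₀).app j))).mpr hj⟩

include hc hY hX in
/-- Descent to a stage for `X₀` quasi-compact and `f₀` locally of finite presentation. -/
theorem exists_stage_of_hasRingHomProperty (P : MorphismProperty Scheme.{u})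
    (Q : ∀ {R S : Type u} [CommRing R] [CommRing S], (R →+* S) → Prop)
    [HasRingHomProperty P @Q] (hQ : DescendsWeakColim @Q)
    [P.RespectsRight @IsOpenImmersion] [P.IsStableUnderBaseChange]
    [CompactSpace X₀] [LocallyOfFinitePresentation f₀] (hf : P f) :
    ∃ j : Over i₀, P ((pbMap D i₀ g₀ f₀).app j) := by
  refine PbLocal.exists_stage_of_sourceLocal P fun U V e hU hV => ?_
  haveI : IsAffine (U : Scheme.{u}) := hU
  haveI : IsAffine (V : Scheme.{u}) := hV
  haveI : LocallyOfFinitePresentation (f₀.resLE U V e) :=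
    IsZariskiLocalAtSource.resLE (P := @LocallyOfFinitePresentation) e inferInstance
  exact exists_stage_of_isAffine D c hc i₀ (f₀.resLE U V e) (U.ι ≫ g₀)
    (f.resLE (qY ⁻¹ᵁ U) (qX ⁻¹ᵁ V) (le_of_le hX e)) ((qY ⁻¹ᵁ U).ι ≫ g)
    (qY ∣_ U) (qX ∣_ V) (isPullback_restrict_Y c hY U) (isPullback_restrict_X hX U V e) P @Q hQ
    (IsZariskiLocalAtSource.resLE (P := P) _ hf)

end

end LimData

end Groth.Agent.Lib.Helper12
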