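import Mathlib
import Groth.Agent.S9183

/-!
# Locally of finite presentation from the limit-preservation property
-/

universe u

set_option backward.isDefEq.respectTransparency false

open CategoryTheory Limits AlgebraicGeometry

namespace Groth.Agent.Lib.Helper12.LfpOfSurj

/-- A retract of a finitely presented algebra is finitely presented. -/
lemma finitePresentation_of_retract {A R B : Type*} [CommRing A] [CommRing R] [CommRing B]
    (φk : A →+* R) (ρ : R →+* B) (ψ : B →+* R) (hfp : φk.FinitePresentation)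
    (h1 : ρ.comp ψ = RingHom.id B) (h2 : ψ.comp (ρ.comp φk) = φk) :
    (ρ.comp φk).FinitePresentation := by
  have h1' : ∀ b, ρ (ψ b) = b := fun b => congr($h1 b)
  have h2' : ∀ a, ψ (ρ (φk a)) = φk a := fun a => congr($h2 a)
  refine hfp.comp_surjective (fun b => ⟨ψ b, h1' b⟩) ?_
  algebraize [φk]
  have hft : Algebra.FiniteType A R := RingHom.FiniteType.of_finitePresentation hfp
  obtain ⟨s, hs⟩ := hft.out
  classical
  let e : R →ₐ[A] R :=
    { (ψ.comp ρ) with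
      commutes' := fun a => h2' a }
  have he : ∀ x, e x = ψ (ρ x) := fun x => rfl
  refine ⟨s.image (fun x => e x - x), ?_⟩
  apply le_antisymm
  · rw [Ideal.span_le]
    intro y hy
    simp only [Finset.coe_image, Set.mem_image, Finset.mem_coe] at hy
    obtain ⟨x, -, rfl⟩ := hy
    show ρ (e x - x) = 0
    rw [map_sub, he, h1', sub_self]
  · intro b hb
    let π : R →ₐ[A] R ⧸ Ideal.span (↑(s.image fun x => e x - x) : Set R) :=
      Ideal.Quotient.mkₐ A _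
    have hπ : π.comp e = π := AlgHom.ext_of_adjoin_eq_top hs (fun x hx => by
      show Ideal.Quotient.mk _ (e x) = Ideal.Quotient.mk _ x
      rw [Ideal.Quotient.eq]
      exact Ideal.subset_span (Finset.mem_coe.mpr (Finset.mem_image_of_mem _ hx)))
    have hb' : e b = 0 := by rw [he, RingHom.mem_ker.mp hb, map_zero]
    have h3 := congr($hπ b)
    rw [AlgHom.comp_apply, hb', map_zero] at h3
    exact Ideal.Quotient.eq_zero_iff_mem.mp h3.symm

/-- The core statement: if `S`-morphisms from cofiltered limits of affine schemes (lying over an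
affine open of `S`) to `X` factor through a stage, then `X ⟶ S` is locally of finite
presentation. -/
theorem lfp_of_surj {X S : Scheme.{u}} (f : X ⟶ S)
    (h : ∀ (U : S.Opens) (hU : IsAffineOpen U) (J : Type u) [Preorder J] [IsDirected J (· ≤ ·)]
      [Nonempty J] (D : Jᵒᵖ ⥤ Scheme.{u}) (t : D ⟶ (Functor.const Jᵒᵖ).obj (Spec Γ(S, U)))
      (c : Cone D) (_ : IsLimit c), (∀ j, IsAffine (D.obj j)) → ∀ (j₀ : Jᵒᵖ) (g : c.pt ⟶ X),
        g ≫ f = c.π.app j₀ ≫ t.app j₀ ≫ hU.fromSpec →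
        ∃ (j : Jᵒᵖ) (gj : D.obj j ⟶ X), gj ≫ f = t.app j ≫ hU.fromSpec ∧ c.π.app j ≫ gj = g) :
    LocallyOfFinitePresentation f := by
  rw [HasRingHomProperty.iff_appLE (P := @LocallyOfFinitePresentation)]
  intro U V e
  let φ : Γ(S, U.1) ⟶ Γ(X, V.1) := f.appLE U.1 V.1 e
  letI : Algebra Γ(S, U.1) Γ(X, V.1) := φ.hom.toAlgebra
  obtain ⟨I, _, _, D', c', hc', hfp, ⟨iso⟩⟩ := Groth.Agent.S9183.result Γ(S, U.1) Γ(X, V.1)
  obtain ⟨α, _, _, _, F, _⟩ := IsFiltered.exists_directed I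
  let G : α ⥤ CommRingCat.{u} := F ⋙ D' ⋙ Under.forget _
  let γ : Cocone G := (Under.forget _).mapCocone (c'.whisker F)
  have hγ : IsColimit γ := isColimitOfPreserves (Under.forget _)
    ((Functor.Final.isColimitWhiskerEquiv F c').symm hc')
  let 𝔇 : αᵒᵖ ⥤ Scheme.{u} := G.op ⋙ Scheme.Spec
  let cone : Cone 𝔇 := Scheme.Spec.mapCone γ.op
  have hcone : IsLimit cone := isLimitOfPreserves Scheme.Spec hγ.op
  -- structure maps
  let st : ∀ a : α, Γ(S, U.1) ⟶ G.obj a := fun a => (D'.obj (F.obj a)).hom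
  have hst : ∀ {a b : α} (m : a ⟶ b), st a ≫ G.map m = st b := fun {a b} m =>
    Under.w (D'.map (F.map m))
  let σ : Γ(S, U.1) ⟶ γ.pt := c'.pt.hom
  have hσ : ∀ a : α, st a ≫ γ.ι.app a = σ := fun a => Under.w (c'.ι.app (F.obj a))
  let θ : γ.pt ≅ Γ(X, V.1) := (Under.forget _).mapIso iso
  have hθ : σ ≫ θ.hom = φ := Under.w iso.hom
  let t : 𝔇 ⟶ (Functor.const αᵒᵖ).obj (Spec Γ(S, U.1)) :=
    { app := fun j => Spec.map (st j.unop)
      naturality := fun j j' m => by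
        have := hst m.unop
        simp only [Functor.const_obj_obj, Functor.const_obj_map, Category.comp_id]
        show Spec.map (G.map m.unop) ≫ Spec.map (st j'.unop) = Spec.map (st j.unop)
        rw [← Spec.map_comp, this] }
  let g : cone.pt ⟶ X := Spec.map θ.inv ≫ V.2.fromSpec
  have hπ : ∀ j : αᵒᵖ, cone.π.app j = Spec.map (γ.ι.app j.unop) := fun j => rfl
  have hg : ∀ j₀ : αᵒᵖ, g ≫ f = cone.π.app j₀ ≫ t.app j₀ ≫ U.2.fromSpec := by
    intro j₀
    show (Spec.map θ.inv ≫ V.2.fromSpec) ≫ f =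
      Spec.map (γ.ι.app j₀.unop) ≫ Spec.map (st j₀.unop) ≫ U.2.fromSpec
    rw [Category.assoc, ← IsAffineOpen.SpecMap_appLE_fromSpec f U.2 V.2 e, ← Spec.map_comp_assoc,
      ← Spec.map_comp_assoc, hσ]
    congr 2
    show φ ≫ θ.inv = σ
    rw [← hθ, Category.assoc, Iso.hom_inv_id, Category.comp_id]
  haveI : Nonempty αᵒᵖ := ⟨Opposite.op (Classical.arbitrary α)⟩
  obtain ⟨j, gj, hgj1, hgj2⟩ := h U.1 U.2 α 𝔇 t cone hcone
    (fun j => inferInstanceAs (IsAffine (Spec _))) (Classical.arbitrary _) g (hg _)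
  have hgV : g ⁻¹ᵁ V.1 = ⊤ := by
    show (Spec.map θ.inv ≫ V.2.fromSpec) ⁻¹ᵁ V.1 = ⊤
    rw [Scheme.Hom.comp_preimage, IsAffineOpen.fromSpec_preimage_self, Scheme.Hom.preimage_top]
  have hW : cone.π.app j ⁻¹ᵁ (gj ⁻¹ᵁ V.1) = ⊤ := by
    rw [← Scheme.Hom.comp_preimage, hgj2, hgV]
  haveI : ∀ {i j : αᵒᵖ} (m : i ⟶ j), IsAffineHom (𝔇.map m) := fun m =>
    inferInstanceAs (IsAffineHom (Spec.map (G.map m.unop)))
  haveI : ∀ i : αᵒᵖ, CompactSpace (𝔇.obj i) := fun i =>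
    inferInstanceAs (CompactSpace (Spec (G.obj i.unop)))
  obtain ⟨k, a, hka⟩ := exists_map_eq_top 𝔇 cone hcone (gj ⁻¹ᵁ V.1) hW
  let gk : 𝔇.obj k ⟶ X := 𝔇.map a ≫ gj
  have hgkV : gk ⁻¹ᵁ V.1 = ⊤ := by
    show (𝔇.map a ≫ gj) ⁻¹ᵁ V.1 = ⊤
    rw [Scheme.Hom.comp_preimage]; exact hka
  have hrange : Set.range ⇑gk ⊆ Set.range ⇑V.2.fromSpec := by
    rw [IsAffineOpen.range_fromSpec]
    rintro _ ⟨x, rfl⟩
    have : x ∈ gk ⁻¹ᵁ V.1 := by rw [hgkV]; trivial
    exact this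
  let l : 𝔇.obj k ⟶ Spec Γ(X, V.1) := IsOpenImmersion.lift V.2.fromSpec gk hrange
  have hl : l ≫ V.2.fromSpec = gk := IsOpenImmersion.lift_fac _ _ _
  obtain ⟨ψ, hψ⟩ : ∃ ψ : Γ(X, V.1) ⟶ G.obj k.unop, Spec.map ψ = l := Spec.map_surjective l
  have h1 : ψ ≫ γ.ι.app k.unop = θ.inv := by
    apply Spec.map_injective
    rw [Spec.map_comp, ← cancel_mono V.2.fromSpec, Category.assoc, hψ, hl]
    show cone.π.app k ≫ 𝔇.map a ≫ gj = g
    rw [← Category.assoc, cone.w a, hgj2]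
  have h2 : φ ≫ ψ = st k.unop := by
    apply Spec.map_injective
    rw [Spec.map_comp, ← cancel_mono U.2.fromSpec, Category.assoc,
      IsAffineOpen.SpecMap_appLE_fromSpec f U.2 V.2 e, hψ, reassoc_of% hl]
    show (𝔇.map a ≫ gj) ≫ f = t.app k ≫ U.2.fromSpec
    rw [Category.assoc, hgj1, ← Category.assoc, t.naturality a]
    rfl
  let ρ : G.obj k.unop ⟶ Γ(X, V.1) := γ.ι.app k.unop ≫ θ.hom
  have hρ : st k.unop ≫ ρ = φ := by
    show st k.unop ≫ γ.ι.app k.unop ≫ θ.hom = φ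
    rw [← Category.assoc, hσ, hθ]
  have hψρ : ψ ≫ ρ = 𝟙 _ := by
    show ψ ≫ γ.ι.app k.unop ≫ θ.hom = 𝟙 _
    rw [← Category.assoc, h1, Iso.inv_hom_id]
  show φ.hom.FinitePresentation
  rw [← hρ, CommRingCat.hom_comp]
  refine finitePresentation_of_retract (st k.unop).hom ρ.hom ψ.hom (hfp (F.obj k.unop)) ?_ ?_
  · rw [← CommRingCat.hom_comp, hψρ]; rfl
  · rw [← CommRingCat.hom_comp, ← CommRingCat.hom_comp, hρ, h2]

end Groth.Agent.Lib.Helper12.LfpOfSurj
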