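import Mathlib

/-!
# Finite type over `ℤ` in terms of finitely generated rings
-/

universe u

open CategoryTheory Limits AlgebraicGeometry TopologicalSpace

namespace Groth.Agent.Lib.Helper12.FTInt

set_option backward.isDefEq.respectTransparency false
set_option linter.style.haveILetI false

/-- Every element of `Γ(Spec (ULift ℤ), ⊤)` is an integer. -/
lemma exists_intCast (r : Γ(Spec (.of (ULift.{u} ℤ)), ⊤)) : ∃ n : ℤ, r = (n : Γ(Spec (.of (ULift.{u} ℤ)), ⊤)) := by
  let e : Γ(Spec (.of (ULift.{u} ℤ)), ⊤) ≃+* ℤ :=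
    (Scheme.ΓSpecIso (.of (ULift.{u} ℤ))).commRingCatIsoToRingEquiv.trans ULift.ringEquiv
  refine ⟨e r, ?_⟩
  have : e.symm (e r) = ((e r : ℤ) : Γ(Spec (.of (ULift.{u} ℤ)), ⊤)) := by
    have := map_intCast e.symm (e r)
    simpa using this
  rw [← this, RingEquiv.symm_apply_apply]

/-- A ring map out of (a ring isomorphic to) `ℤ` of finite type has finitely generated target. -/
lemma exists_finset_closure_of_finiteType {R A : Type*} [CommRing R] [CommRing A] (φ : R →+* A)
    (hR : ∀ r : R, ∃ n : ℤ, r = (n : R)) (hφ : φ.FiniteType) :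
    ∃ s : Finset A, Subring.closure (s : Set A) = ⊤ := by
  letI := φ.toAlgebra
  obtain ⟨s, hs⟩ := (hφ : Algebra.FiniteType R A).out
  refine ⟨s, ?_⟩
  have h1 : (Algebra.adjoin R (s : Set A)).toSubring = ⊤ := by rw [hs]; rfl
  rw [Algebra.adjoin_eq_ring_closure] at h1
  rw [eq_top_iff, ← h1, Subring.closure_le]
  rintro x (⟨r, rfl⟩ | hx)
  · obtain ⟨n, rfl⟩ := hR r
    rw [map_intCast]
    exact intCast_mem _ n
  · exact Subring.subset_closure hx

/-- Affine opens of a scheme locally of finite type over `ℤ` have finitely generated section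
rings. -/
theorem exists_finset_closure_eq_top {X : Scheme.{u}}
    [LocallyOfFiniteType (specULiftZIsTerminal.from X)] (U : X.Opens) (hU : IsAffineOpen U) :
    ∃ s : Finset Γ(X, U), Subring.closure (s : Set Γ(X, U)) = ⊤ := by
  have H : LocallyOfFiniteType (specULiftZIsTerminal.from X) := inferInstance
  have h1 := HasRingHomProperty.appLE (P := @LocallyOfFiniteType) _ H
    ⟨⊤, isAffineOpen_top _⟩ ⟨U, hU⟩ le_top
  exact exists_finset_closure_of_finiteType _ exists_intCast h1

/-- The spectrum of a finitely generated ring is of finite type over `ℤ`. -/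
theorem locallyOfFiniteType_of_closure_eq_top {A : Type u} [CommRing A]
    (h : ∃ s : Finset A, Subring.closure (s : Set A) = ⊤) :
    LocallyOfFiniteType (specULiftZIsTerminal.from (Spec (.of A))) := by
  let φ : CommRingCat.of (ULift.{u} ℤ) ⟶ CommRingCat.of A :=
    CommRingCat.ofHom ((Int.castRingHom A).comp ULift.ringEquiv.toRingHom)
  have e : specULiftZIsTerminal.from (Spec (.of A)) = Spec.map φ :=
    specULiftZIsTerminal.hom_ext _ _
  rw [e, HasRingHomProperty.Spec_iff (P := @LocallyOfFiniteType)]
  obtain ⟨s, hs⟩ := h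
  letI := φ.hom.toAlgebra
  refine (⟨⟨s, ?_⟩⟩ : Algebra.FiniteType (ULift.{u} ℤ) A)
  rw [eq_top_iff]
  intro x _
  rw [← Subalgebra.mem_toSubring, Algebra.adjoin_eq_ring_closure]
  have : x ∈ Subring.closure (s : Set A) := by rw [hs]; trivial
  exact Subring.closure_mono Set.subset_union_right this

lemma closure_preimage_top {R : Type*} [CommRing R] (s : Set R) :
    Subring.closure ((Subtype.val : Subring.closure s → R) ⁻¹' s) = ⊤ := by
  rw [eq_top_iff]
  rintro ⟨x, hx⟩ -
  induction hx using Subring.closure_induction with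
  | mem x hx => exact Subring.subset_closure hx
  | zero => exact Subring.zero_mem _
  | one => exact Subring.one_mem _
  | add x y hx hy ihx ihy => exact Subring.add_mem _ ihx ihy
  | neg x hx ih => exact Subring.neg_mem _ ih
  | mul x y hx hy ihx ihy => exact Subring.mul_mem _ ihx ihy

/-- A finitely generated subring is a finitely generated ring. -/
lemma exists_finset_closure_subring {R : Type*} [CommRing R] (A : Subring R)
    (h : ∃ s : Finset R, Subring.closure (s : Set R) = A) :
    ∃ s : Finset A, Subring.closure (s : Set A) = ⊤ := by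
  classical
  obtain ⟨s, rfl⟩ := h
  refine ⟨s.preimage Subtype.val Subtype.val_injective.injOn, ?_⟩
  rw [Finset.coe_preimage]
  exact closure_preimage_top _

end Groth.Agent.Lib.Helper12.FTInt
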