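import Mathlib

/-!
# The pinch ring `A₁ ×_C B` and its localisations

For ring maps `φ : A₁ → C`, `ψ : B → C` and elements `f`, `g` with `φ f = ψ g` such that `B_g → C_{ψ g}`
is an isomorphism (phrased elementwise as `H1`, `H2`), the localisation of a sufficiently large
subring `A` of the fibre product `A₁ ×_C B` at `(f, g)` is the localisation of `A₁` at `f`.
-/

open scoped Pointwise

namespace Groth.Agent.Lib.Helper12.PinchRing

variable {A₁ B C : Type*} [CommRing A₁] [CommRing B] [CommRing C] (φ : A₁ →+* C) (ψ : B →+* C)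

/-- The fibre product ring `A₁ ×_C B` as a subring of the product. -/
def pinch : Subring (A₁ × B) :=
  RingHom.eqLocus (φ.comp (RingHom.fst A₁ B)) (ψ.comp (RingHom.snd A₁ B))

lemma mem_pinch {x : A₁ × B} : x ∈ pinch φ ψ ↔ φ x.1 = ψ x.2 := Iff.rfl

section Loc

variable {M : Type*} [CommRing M] (lam : A₁ →+* M) (f : A₁) (g : B)

/-- A subring of the product is good for the chart `(f, g)` if it contains `(f, g)` and every element
of `M` is, up to a power of `f`, the image of one of its elements. -/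
def Good (A : Subring (A₁ × B)) : Prop :=
  (f, g) ∈ A ∧ ∀ m : M, ∃ (n : ℕ) (x : A₁ × B), x ∈ A ∧ lam x.1 = lam f ^ n * m

lemma Good.mono {A A' : Subring (A₁ × B)} (h : Good lam f g A) (hAA' : A ≤ A') :
    Good lam f g A' :=
  ⟨hAA' h.1, fun m => by
    obtain ⟨n, x, hx, e⟩ := h.2 m
    exact ⟨n, x, hAA' hx, e⟩⟩

variable (hfg : φ f = ψ g)
  (hsurj : ∀ m : M, ∃ (n : ℕ) (a : A₁), lam a = lam f ^ n * m)
  (H1 : ∀ x : C, ∃ (n : ℕ) (r : B), ψ r = ψ g ^ n * x)

include hfg hsurj H1 in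
lemma exists_pinch_lift (m : M) :
    ∃ (n : ℕ) (x : A₁ × B), x ∈ pinch φ ψ ∧ lam x.1 = lam f ^ n * m := by
  obtain ⟨n, a, ha⟩ := hsurj m
  obtain ⟨k, r, hr⟩ := H1 (φ a)
  refine ⟨k + n, (f ^ k * a, r), ?_, ?_⟩
  · rw [mem_pinch]
    simp only [map_mul, map_pow]
    rw [hr, hfg]
  · simp only [map_mul, map_pow]
    rw [ha, pow_add, mul_assoc]

include hfg hsurj H1 in
/-- If `M` is a finitely generated ring, finitely many elements of the pinch ring suffice for
goodness. -/
theorem exists_good_finset (hM : ∃ s : Finset M, Subring.closure (s : Set M) = ⊤) :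
    ∃ t : Finset (A₁ × B), (↑t ⊆ (pinch φ ψ : Set (A₁ × B))) ∧
      ∀ A : Subring (A₁ × B), (↑t ⊆ (A : Set (A₁ × B))) → Good lam f g A := by
  classical
  obtain ⟨s, hs⟩ := hM
  choose n x hx hxm using exists_pinch_lift φ ψ lam f g hfg hsurj H1
  refine ⟨insert (f, g) (s.image x), ?_, fun A hA => ⟨?_, fun m => ?_⟩⟩
  · intro y hy
    simp only [Finset.coe_insert, Finset.coe_image, Set.mem_insert_iff, Set.mem_image,
      Finset.mem_coe] at hy
    rcases hy with rfl | ⟨m, -, rfl⟩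
    · exact hfg
    · exact hx m
  · exact hA (by simp)
  · have hfgA : (f, g) ∈ A := hA (by simp)
    have hmem : m ∈ Subring.closure (s : Set M) := by rw [hs]; trivial
    induction hmem using Subring.closure_induction with
    | mem m hm =>
      exact ⟨n m, x m, hA (Finset.mem_coe.mpr (Finset.mem_insert_of_mem
        (Finset.mem_image_of_mem x hm))), hxm m⟩
    | zero => exact ⟨0, 0, A.zero_mem, by simp⟩
    | one => exact ⟨0, 1, A.one_mem, by simp⟩
    | add m m' _ _ ih ih' =>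
      obtain ⟨k, y, hy, e⟩ := ih
      obtain ⟨k', y', hy', e'⟩ := ih'
      refine ⟨k + k', (f, g) ^ k' * y + (f, g) ^ k * y',
        A.add_mem (A.mul_mem (A.pow_mem hfgA _) hy) (A.mul_mem (A.pow_mem hfgA _) hy'), ?_⟩
      simp only [Prod.fst_add, Prod.fst_mul, Prod.pow_fst, map_add, map_mul, map_pow]
      rw [e, e']
      ring
    | neg m _ ih =>
      obtain ⟨k, y, hy, e⟩ := ih
      exact ⟨k, -y, A.neg_mem hy, by simp [e]⟩
    | mul m m' _ _ ih ih' =>
      obtain ⟨k, y, hy, e⟩ := ih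
      obtain ⟨k', y', hy', e'⟩ := ih'
      refine ⟨k + k', y * y', A.mul_mem hy hy', ?_⟩
      simp only [Prod.fst_mul, map_mul]
      rw [e, e']
      ring

variable (hunit : IsUnit (lam f))
  (hinj : ∀ a : A₁, lam a = 0 → ∃ n : ℕ, f ^ n * a = 0)
  (H2 : ∀ r : B, ψ r = 0 → ∃ n : ℕ, g ^ n * r = 0)

include hfg hunit hinj H2 in
/-- The localisation of a good subring of the pinch ring at `(f, g)` is `M`. -/
theorem isLocalization_away (A : Subring (A₁ × B)) (hA : A ≤ pinch φ ψ)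
    (hgood : Good lam f g A) :
    letI : Algebra A M := (lam.comp ((RingHom.fst A₁ B).comp A.subtype)).toAlgebra
    IsLocalization.Away (⟨(f, g), hgood.1⟩ : A) M := by
  letI : Algebra A M := (lam.comp ((RingHom.fst A₁ B).comp A.subtype)).toAlgebra
  have halg : ∀ y : A, algebraMap A M y = lam (y : A₁ × B).1 := fun y => rfl
  have hpow : ∀ n : ℕ, lam (((⟨(f, g), hgood.1⟩ : A) ^ n : A) : A₁ × B).1 = lam f ^ n := by
    intro n
    rw [Subring.coe_pow, Prod.pow_fst, map_pow]
  constructor; constructor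
  · rintro ⟨_, n, rfl⟩
    rw [halg, hpow]
    exact hunit.pow n
  · intro m
    obtain ⟨n, x, hx, e⟩ := hgood.2 m
    refine ⟨⟨⟨x, hx⟩, ⟨_, n, rfl⟩⟩, ?_⟩
    rw [halg, halg, hpow, e, mul_comm]
  · intro y y' hyy'
    have h0 : lam ((y : A₁ × B).1 - (y' : A₁ × B).1) = 0 := by
      rw [map_sub, sub_eq_zero]
      exact hyy'
    obtain ⟨k, hk⟩ := hinj _ h0
    have hz : φ ((y : A₁ × B).1 - (y' : A₁ × B).1) = ψ ((y : A₁ × B).2 - (y' : A₁ × B).2) := by
      rw [map_sub, map_sub, (mem_pinch φ ψ).mp (hA y.2), (mem_pinch φ ψ).mp (hA y'.2)]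
    have h1 : ψ (g ^ k * ((y : A₁ × B).2 - (y' : A₁ × B).2)) = 0 := by
      rw [map_mul, map_pow, ← hz, ← hfg, ← map_pow, ← map_mul, hk, map_zero]
    obtain ⟨n, hn⟩ := H2 _ h1
    refine ⟨⟨_, n + k, rfl⟩, ?_⟩
    apply Subtype.ext
    apply Prod.ext
    · simp only [Subring.coe_mul, Subring.coe_pow, Prod.fst_mul, Prod.pow_fst]
      rw [← sub_eq_zero, ← mul_sub, pow_add, mul_assoc, hk, mul_zero]
    · simp only [Subring.coe_mul, Subring.coe_pow, Prod.snd_mul, Prod.pow_snd]
      rw [← sub_eq_zero, ← mul_sub, pow_add, mul_assoc, hn]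

end Loc

end Groth.Agent.Lib.Helper12.PinchRing
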