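import Mathlib
import Groth.Agent.Lib.Helper12.PinchRing

universe u

open CategoryTheory Limits AlgebraicGeometry TopologicalSpace

set_option backward.isDefEq.respectTransparency false
set_option linter.style.haveILetI false

namespace Groth.Agent.Lib.Helper12.PinchGeo

open Groth.Agent.Lib.Helper12.PinchRing

section H

variable {W V : Scheme.{u}} (j : W ⟶ V) [IsOpenImmersion j] (g : Γ(V, ⊤))
  (hg : V.basicOpen g ≤ j.opensRange)

include hg in
lemma res_eq_zero_of_appTop_eq_zero (r : Γ(V, ⊤)) (hr : j.appTop r = 0) :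
    V.presheaf.map (homOfLE (le_top : V.basicOpen g ≤ ⊤)).op r = 0 := by
  haveI := Scheme.Hom.isIso_app j (V.basicOpen g) hg
  have hinj : Function.Injective (j.app (V.basicOpen g)) :=
    ((ConcreteCategory.isIso_iff_bijective _).mp inferInstance).1
  apply hinj
  rw [map_zero]
  have nat := j.naturality (homOfLE (le_top : V.basicOpen g ≤ ⊤)).op
  have := congr($(nat) r)
  rw [CommRingCat.comp_apply, CommRingCat.comp_apply] at this
  rw [this]
  show (W.presheaf.map _) (j.appTop r) = 0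
  rw [hr, map_zero]

include hg in
lemma H2 [CompactSpace V] (r : Γ(V, ⊤)) (hr : j.appTop r = 0) : ∃ n : ℕ, g ^ n * r = 0 :=
  exists_pow_mul_eq_zero_of_res_basicOpen_eq_zero_of_isCompact V (U := ⊤) isCompact_univ r g
    (res_eq_zero_of_appTop_eq_zero j g hg r hr)

lemma app_res (O : V.Opens) (r : Γ(V, ⊤)) :
    j.app O (V.presheaf.map (homOfLE (le_top : O ≤ ⊤)).op r) =
      W.presheaf.map (homOfLE (le_top : j ⁻¹ᵁ O ≤ ⊤)).op (j.appTop r) := by
  have nat := j.naturality (homOfLE (le_top : O ≤ ⊤)).op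
  have := congr($(nat) r)
  rw [CommRingCat.comp_apply, CommRingCat.comp_apply] at this
  exact this

include hg in
lemma H1 [CompactSpace W] [CompactSpace V] [QuasiSeparatedSpace V] (x : Γ(W, ⊤)) :
    ∃ (n : ℕ) (r : Γ(V, ⊤)), j.appTop r = j.appTop g ^ n * x := by
  haveI := Scheme.Hom.isIso_app j (V.basicOpen g) hg
  have hsurj : Function.Surjective (j.app (V.basicOpen g)) :=
    ((ConcreteCategory.isIso_iff_bijective _).mp inferInstance).2
  obtain ⟨y, hy⟩ := hsurj (W.presheaf.map (homOfLE (le_top : j ⁻¹ᵁ V.basicOpen g ≤ ⊤)).op x)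
  obtain ⟨n, r, hr⟩ := exists_eq_pow_mul_of_isCompact_of_isQuasiSeparated V ⊤ isCompact_univ
    isQuasiSeparated_univ g y
  have h1 : W.presheaf.map (homOfLE (le_top : j ⁻¹ᵁ V.basicOpen g ≤ ⊤)).op
      (j.appTop r - j.appTop g ^ n * x) = 0 := by
    rw [map_sub, map_mul, map_pow, ← app_res, ← app_res, ← hy, ← map_pow, ← map_mul, ← map_sub,
      sub_eq_zero.mpr]
    · rw [map_zero]
    · exact hr
  have e : W.basicOpen (j.appTop g) = j ⁻¹ᵁ V.basicOpen g := (Scheme.preimage_basicOpen_top j g).symm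
  have h2 : W.presheaf.map (homOfLE (le_top : W.basicOpen (j.appTop g) ≤ ⊤)).op
      (j.appTop r - j.appTop g ^ n * x) = 0 := by
    have : (homOfLE (le_top : W.basicOpen (j.appTop g) ≤ ⊤)).op =
        (homOfLE (le_top : j ⁻¹ᵁ V.basicOpen g ≤ ⊤)).op ≫ (eqToHom e).op := rfl
    rw [this, Functor.map_comp, CommRingCat.comp_apply, h1, map_zero]
  obtain ⟨m, hm⟩ := exists_pow_mul_eq_zero_of_res_basicOpen_eq_zero_of_isCompact W (U := ⊤)
    isCompact_univ _ (j.appTop g) h2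
  refine ⟨m + n, g ^ m * r, ?_⟩
  rw [map_mul, map_pow, pow_add, mul_assoc, ← sub_eq_zero, ← mul_sub]
  exact hm

end H

section Loc

variable {T : Scheme.{u}} [CompactSpace T] [QuasiSeparatedSpace T] (f : Γ(T, ⊤))

/-- Restriction to the basic open of a global section. -/
noncomputable def lam : Γ(T, ⊤) →+* Γ(T, T.basicOpen f) :=
  (T.presheaf.map (homOfLE (le_top : T.basicOpen f ≤ ⊤)).op).hom

omit [CompactSpace T] [QuasiSeparatedSpace T] in
lemma lam_isUnit : IsUnit (lam f f) := RingedSpace.isUnit_res_basicOpen _ f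

lemma lam_surj (m : Γ(T, T.basicOpen f)) : ∃ (n : ℕ) (a : Γ(T, ⊤)), lam f a = lam f f ^ n * m :=
  exists_eq_pow_mul_of_isCompact_of_isQuasiSeparated T ⊤ isCompact_univ isQuasiSeparated_univ f m

omit [QuasiSeparatedSpace T] in
lemma lam_inj (a : Γ(T, ⊤)) (h : lam f a = 0) : ∃ n : ℕ, f ^ n * a = 0 :=
  exists_pow_mul_eq_zero_of_res_basicOpen_eq_zero_of_isCompact T (U := ⊤) isCompact_univ a f h

end Loc

section ChartLemmas

theorem isOpenImmersion_of_charts {T : Scheme.{u}} {A : CommRingCat.{u}} (θ : A ⟶ Γ(T, ⊤))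
    {L : Type*} (h : L → A)
    (hcov : ∀ x : T, ∃ l, x ∈ T.basicOpen (θ (h l)))
    (haff : ∀ l, IsAffineOpen (T.basicOpen (θ (h l))))
    (hloc : ∀ l, @IsLocalization.Away A _ (h l) Γ(T, T.basicOpen (θ (h l))) _
      (θ ≫ T.presheaf.map (homOfLE le_top).op).hom.toAlgebra) :
    IsOpenImmersion (T.toSpecΓ ≫ Spec.map θ) := by
  refine IsZariskiLocalAtTarget.of_forall_source_exists_preimage _ fun x ↦ ?_
  obtain ⟨l, hl⟩ := hcov x
  have hpre : (T.toSpecΓ ≫ Spec.map θ) ⁻¹ᵁ PrimeSpectrum.basicOpen (h l) =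
      T.basicOpen (θ (h l)) := by
    rw [Scheme.Hom.comp_preimage, SpecMap_preimage_basicOpen, Scheme.toSpecΓ_preimage_basicOpen]
  refine ⟨PrimeSpectrum.basicOpen (h l), hpre.ge hl, ?_⟩
  suffices IsOpenImmersion ((T.basicOpen (θ (h l))).ι ≫ T.toSpecΓ ≫ Spec.map θ) by
    convert! this
  rw [← Scheme.Opens.toSpecΓ_SpecMap_presheaf_map_top_assoc, ← Spec.map_comp]
  letI := (θ ≫ T.presheaf.map (homOfLE (le_top : T.basicOpen (θ (h l)) ≤ ⊤)).op).hom.toAlgebra
  haveI := hloc l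
  exact MorphismProperty.comp_mem _ (haff l).isoSpec.hom _ inferInstance
    (IsOpenImmersion.of_isLocalization (h l))

/-- The range of the chart map contains the basic opens. -/
theorem basicOpen_le_range_of_charts {T : Scheme.{u}} {A : CommRingCat.{u}} (θ : A ⟶ Γ(T, ⊤))
    (h : A) (haff : IsAffineOpen (T.basicOpen (θ h)))
    (hloc : @IsLocalization.Away A _ h Γ(T, T.basicOpen (θ h)) _
      (θ ≫ T.presheaf.map (homOfLE le_top).op).hom.toAlgebra) :
    (PrimeSpectrum.basicOpen h : Set (PrimeSpectrum A)) ⊆ Set.range (T.toSpecΓ ≫ Spec.map θ) := by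
  letI := (θ ≫ T.presheaf.map (homOfLE (le_top : T.basicOpen (θ h) ≤ ⊤)).op).hom.toAlgebra
  haveI := hloc
  have e : (T.basicOpen (θ h)).ι ≫ T.toSpecΓ ≫ Spec.map θ =
      haff.isoSpec.hom ≫ Spec.map (CommRingCat.ofHom (algebraMap A Γ(T, T.basicOpen (θ h)))) := by
    rw [← Scheme.Opens.toSpecΓ_SpecMap_presheaf_map_top_assoc, ← Spec.map_comp]
    rfl
  intro y hy
  have h1 : y ∈ Set.range (Spec.map (CommRingCat.ofHom
      (algebraMap A Γ(T, T.basicOpen (θ h))))) := by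
    have := PrimeSpectrum.localization_away_comap_range Γ(T, T.basicOpen (θ h)) h
    exact this.ge hy
  obtain ⟨z, rfl⟩ := h1
  obtain ⟨w, rfl⟩ := haff.isoSpec.hom.homeomorph.surjective z
  refine ⟨(T.basicOpen (θ h)).ι w, ?_⟩
  rw [← Scheme.Hom.comp_apply, e, Scheme.Hom.comp_apply]
  rfl

end ChartLemmas

section Pinch

variable {W T V : Scheme.{u}} (p : W ⟶ T) (j : W ⟶ V)
  (A : Subring (Γ(T, ⊤) × Γ(V, ⊤)))

/-- First projection of a subring of `Γ(T) × Γ(V)`. -/
def fstHom : CommRingCat.of A ⟶ Γ(T, ⊤) :=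
  CommRingCat.ofHom ((RingHom.fst _ _).comp A.subtype)

/-- Second projection of a subring of `Γ(T) × Γ(V)`. -/
def sndHom : CommRingCat.of A ⟶ Γ(V, ⊤) :=
  CommRingCat.ofHom ((RingHom.snd _ _).comp A.subtype)

/-- The chart map `T ⟶ Spec A`. -/
noncomputable def κ : T ⟶ Spec (.of A) := T.toSpecΓ ≫ Spec.map (fstHom A)

/-- The map `V ⟶ Spec A`. -/
noncomputable def σ : V ⟶ Spec (.of A) := V.toSpecΓ ≫ Spec.map (sndHom A)

lemma κ_comm (hA : A ≤ pinch p.appTop.hom j.appTop.hom) : p ≫ κ A = j ≫ σ A := by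
  have e : fstHom A ≫ p.appTop = sndHom A ≫ j.appTop := by
    ext a
    exact (mem_pinch _ _).mp (hA a.2)
  simp only [κ, σ]
  rw [Scheme.toSpecΓ_naturality_assoc, Scheme.toSpecΓ_naturality_assoc, ← Spec.map_comp,
    ← Spec.map_comp, e]

end Pinch

section Main

variable {W T V : Scheme.{u}} (p : W ⟶ T) (j : W ⟶ V) [IsOpenImmersion j]
  [CompactSpace T] [QuasiSeparatedSpace T] [CompactSpace V] [QuasiSeparatedSpace V]
  [CompactSpace W]
  {L : Type*} (f : L → Γ(T, ⊤)) (g : L → Γ(V, ⊤))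
  (hfg : ∀ l, p.appTop (f l) = j.appTop (g l))
  (haff : ∀ l, IsAffineOpen (T.basicOpen (f l)))
  (hcov : ∀ x : T, ∃ l, x ∈ T.basicOpen (f l))
  (hle : ∀ l, V.basicOpen (g l) ≤ j.opensRange)
  (A : Subring (Γ(T, ⊤) × Γ(V, ⊤))) (hA : A ≤ pinch p.appTop.hom j.appTop.hom)
  (hgood : ∀ l, Good (lam (f l)) (f l) (g l) A)

/-- The chart elements `(f l, g l)` of `A`. -/
def hel (l : L) : CommRingCat.of A := ⟨(f l, g l), (hgood l).1⟩

@[simp] lemma fstHom_hel (l : L) : fstHom A (hel f g A hgood l) = f l := rfl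
@[simp] lemma sndHom_hel (l : L) : sndHom A (hel f g A hgood l) = g l := rfl

include hfg hle hA in
lemma isLocalization_hel (l : L) :
    @IsLocalization.Away (CommRingCat.of A) _ (hel f g A hgood l)
      Γ(T, T.basicOpen (fstHom A (hel f g A hgood l))) _
      (fstHom A ≫ T.presheaf.map (homOfLE le_top).op).hom.toAlgebra :=
  isLocalization_away p.appTop.hom j.appTop.hom (lam (f l)) (f l) (g l) (hfg l) (lam_isUnit _)
    (lam_inj _) (H2 j (g l) (hle l)) A hA (hgood l)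

include hfg hle hA haff hcov hgood in
theorem isOpenImmersion_κ : IsOpenImmersion (κ (T := T) A) :=
  isOpenImmersion_of_charts (fstHom A) (hel f g A hgood) hcov haff
    (isLocalization_hel p j f g hfg hle A hA hgood)

include hfg hle hA haff hcov in
theorem range_κ : Set.range (κ (T := T) A) =
    ⋃ l, (PrimeSpectrum.basicOpen (hel f g A hgood l) : Set (PrimeSpectrum A)) := by
  have hpre : ∀ l, (κ (T := T) A) ⁻¹ᵁ PrimeSpectrum.basicOpen (hel f g A hgood l) =
      T.basicOpen (f l) := fun l => by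
    rw [κ, Scheme.Hom.comp_preimage, SpecMap_preimage_basicOpen,
      Scheme.toSpecΓ_preimage_basicOpen]
    rfl
  apply Set.Subset.antisymm
  · rintro _ ⟨x, rfl⟩
    obtain ⟨l, hl⟩ := hcov x
    exact Set.mem_iUnion.mpr ⟨l, (hpre l).ge hl⟩
  · intro y hy
    obtain ⟨l, hl⟩ := Set.mem_iUnion.mp hy
    exact basicOpen_le_range_of_charts (fstHom A) (hel f g A hgood l) (haff l)
      (isLocalization_hel p j f g hfg hle A hA hgood l) hl

include hfg hle hA haff hcov hgood in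
theorem isPullback_κ_σ (hjr : ∀ v : V, v ∈ Set.range j → ∃ l, v ∈ V.basicOpen (g l)) :
    IsPullback p j (κ (T := T) A) (σ (V := V) A) := by
  haveI := isOpenImmersion_κ p j f g hfg haff hcov hle A hA hgood
  refine IsOpenImmersion.isPullback p j (κ A) (σ A) (κ_comm p j A hA).symm ?_
  have hpre : ∀ l, (σ (V := V) A) ⁻¹ᵁ PrimeSpectrum.basicOpen (hel f g A hgood l) =
      V.basicOpen (g l) := fun l => by
    rw [σ, Scheme.Hom.comp_preimage, SpecMap_preimage_basicOpen,
      Scheme.toSpecΓ_preimage_basicOpen]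
    rfl
  ext v
  simp only [Scheme.Hom.coe_opensRange, Opens.map_coe, Set.mem_preimage]
  rw [range_κ p j f g hfg haff hcov hle A hA hgood]
  constructor
  · intro hv
    obtain ⟨l, hl⟩ := Set.mem_iUnion.mp hv
    exact hle l ((hpre l).le hl)
  · intro hv
    obtain ⟨l, hl⟩ := hjr v hv
    exact Set.mem_iUnion.mpr ⟨l, (hpre l).ge hl⟩

end Main

section Trans

variable {T T' V : Scheme.{u}} (t : T' ⟶ T)
  (A : Subring (Γ(T, ⊤) × Γ(V, ⊤))) (A' : Subring (Γ(T', ⊤) × Γ(V, ⊤)))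
  (hAA' : ∀ x ∈ A, (t.appTop x.1, x.2) ∈ A')

/-- The transition map between subrings of pinch rings induced by `t : T' ⟶ T`. -/
def transHom : CommRingCat.of A ⟶ CommRingCat.of A' :=
  CommRingCat.ofHom (((RingHom.prodMap t.appTop.hom (RingHom.id _)).comp A.subtype).codRestrict A'
    (fun x => hAA' x.1 x.2))

@[reassoc]
lemma transHom_fstHom : transHom t A A' hAA' ≫ fstHom A' = fstHom A ≫ t.appTop := rfl

@[reassoc]
lemma transHom_sndHom : transHom t A A' hAA' ≫ sndHom A' = sndHom A := rfl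

@[reassoc]
lemma κ_transHom : κ (T := T') A' ≫ Spec.map (transHom t A A' hAA') = t ≫ κ (T := T) A := by
  simp only [κ]
  rw [Category.assoc, ← Spec.map_comp, transHom_fstHom, Spec.map_comp,
    Scheme.toSpecΓ_naturality_assoc]

@[reassoc]
lemma σ_transHom : σ (V := V) A' ≫ Spec.map (transHom t A A' hAA') = σ (V := V) A := by
  simp only [σ]
  rw [Category.assoc, ← Spec.map_comp, transHom_sndHom]

end Trans

section Trans2

variable {W T T' V : Scheme.{u}} (p : W ⟶ T) (p' : W ⟶ T') (j : W ⟶ V) [IsOpenImmersion j]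
  (t : T' ⟶ T)
  [CompactSpace T] [QuasiSeparatedSpace T] [CompactSpace T'] [QuasiSeparatedSpace T']
  [CompactSpace V] [QuasiSeparatedSpace V] [CompactSpace W]
  {L : Type*} (f : L → Γ(T, ⊤)) (f' : L → Γ(T', ⊤)) (g : L → Γ(V, ⊤))
  (hff' : ∀ l, f' l = t.appTop (f l))
  (hfg : ∀ l, p.appTop (f l) = j.appTop (g l))
  (haff : ∀ l, IsAffineOpen (T.basicOpen (f l)))
  (hcov : ∀ x : T, ∃ l, x ∈ T.basicOpen (f l))
  (hfg' : ∀ l, p'.appTop (f' l) = j.appTop (g l))
  (haff' : ∀ l, IsAffineOpen (T'.basicOpen (f' l)))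
  (hcov' : ∀ x : T', ∃ l, x ∈ T'.basicOpen (f' l))
  (hle : ∀ l, V.basicOpen (g l) ≤ j.opensRange)
  (A : Subring (Γ(T, ⊤) × Γ(V, ⊤))) (hA : A ≤ pinch p.appTop.hom j.appTop.hom)
  (hgood : ∀ l, Good (lam (f l)) (f l) (g l) A)
  (A' : Subring (Γ(T', ⊤) × Γ(V, ⊤))) (hA' : A' ≤ pinch p'.appTop.hom j.appTop.hom)
  (hgood' : ∀ l, Good (lam (f' l)) (f' l) (g l) A')
  (hAA' : ∀ x ∈ A, (t.appTop x.1, x.2) ∈ A')

include hff' hfg haff hcov hfg' haff' hcov' hle hA hgood hA' hgood' in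
theorem isPullback_κ_trans :
    IsPullback t (κ (T := T') A') (κ (T := T) A) (Spec.map (transHom t A A' hAA')) := by
  haveI := isOpenImmersion_κ p j f g hfg haff hcov hle A hA hgood
  haveI := isOpenImmersion_κ p' j f' g hfg' haff' hcov' hle A' hA' hgood'
  refine IsOpenImmersion.isPullback t (κ A') (κ A) (Spec.map (transHom t A A' hAA'))
    (κ_transHom t A A' hAA') ?_
  have htr : ∀ l, transHom t A A' hAA' (hel f g A hgood l) = hel f' g A' hgood' l := fun l =>
    Subtype.ext (Prod.ext (hff' l).symm rfl)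
  ext y
  simp only [Scheme.Hom.coe_opensRange, Opens.map_coe, Set.mem_preimage]
  rw [range_κ p j f g hfg haff hcov hle A hA hgood,
    range_κ p' j f' g hfg' haff' hcov' hle A' hA' hgood']
  constructor
  · intro hy
    obtain ⟨l, hl⟩ := Set.mem_iUnion.mp hy
    refine Set.mem_iUnion.mpr ⟨l, ?_⟩
    rw [← htr l]
    exact hl
  · intro hy
    obtain ⟨l, hl⟩ := Set.mem_iUnion.mp hy
    refine Set.mem_iUnion.mpr ⟨l, ?_⟩
    rw [← htr l] at hl
    exact hl

end Trans2

end Groth.Agent.Lib.Helper12.PinchGeo
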