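import Mathlib

/-!
# A cone of schemes is a limit cone if it is so over the members of an open cover

Let `D : J ⥤ Scheme` be a cofiltered diagram with a cone `c`. Suppose given a family of
"open subdiagrams" `τ k : Dk k ⟶ D` (componentwise open immersions, all naturality squares
cartesian), jointly surjective, together with limit cones `ck k` over `Dk k` and open immersions
`σ k : (ck k).pt ⟶ c.pt` making the evident squares cartesian. Then `c` is a limit cone.
-/

universe w' w v u

open CategoryTheory Limits AlgebraicGeometry TopologicalSpace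

namespace Groth.Agent.Lib.Helper12.LimGlue

lemma range_snd_of_isPullback {P X Y Z : Scheme.{u}} {fst : P ⟶ X} {snd : P ⟶ Y} {f : X ⟶ Z}
    {g : Y ⟶ Z} (h : IsPullback fst snd f g) : Set.range snd = g ⁻¹' Set.range f := by
  ext y
  constructor
  · rintro ⟨p, rfl⟩
    refine ⟨fst p, ?_⟩
    rw [← Scheme.Hom.comp_apply, ← Scheme.Hom.comp_apply, h.w]
  · rintro ⟨x, hx⟩
    obtain ⟨p, -, hp⟩ := Scheme.exists_preimage_of_isPullback h x y hx
    exact ⟨p, hp⟩

section

variable {J : Type v} [Category.{w} J] [IsCofiltered J]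
  (D : J ⥤ Scheme.{u}) (c : Cone D)
  {K : Type w'} (Dk : K → (J ⥤ Scheme.{u})) (τ : ∀ k, Dk k ⟶ D)
  [∀ k j, IsOpenImmersion ((τ k).app j)]
  (hτ : ∀ k {j j' : J} (a : j ⟶ j'),
    IsPullback ((Dk k).map a) ((τ k).app j) ((τ k).app j') (D.map a))
  (ck : ∀ k, Cone (Dk k)) (hck : ∀ k, IsLimit (ck k))
  (σ : ∀ k, (ck k).pt ⟶ c.pt) [∀ k, IsOpenImmersion (σ k)]
  (hσ : ∀ k j, IsPullback ((ck k).π.app j) (σ k) ((τ k).app j) (c.π.app j))
  (hcov : ∀ j (z : D.obj j), ∃ k, z ∈ Set.range ((τ k).app j))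

include hτ in
lemma range_τ (k : K) {j j' : J} (a : j ⟶ j') :
    Set.range ((τ k).app j) = (D.map a) ⁻¹' Set.range ((τ k).app j') :=
  range_snd_of_isPullback (hτ k a)

include hσ in
lemma range_σ (k : K) (j : J) :
    Set.range (σ k) = (c.π.app j) ⁻¹' Set.range ((τ k).app j) :=
  range_snd_of_isPullback (hσ k j)

include hτ in
/-- For a cone `s`, the preimage of the `k`-th piece does not depend on the index. -/
lemma preimage_range_eq (s : Cone D) (k : K) (j j' : J) :
    (s.π.app j) ⁻¹' Set.range ((τ k).app j) = (s.π.app j') ⁻¹' Set.range ((τ k).app j') := by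
  obtain ⟨m, a, b, -⟩ := IsCofilteredOrEmpty.cone_objs j j'
  have h1 : (s.π.app j) ⁻¹' Set.range ((τ k).app j) =
      (s.π.app m) ⁻¹' Set.range ((τ k).app m) := by
    rw [range_τ D Dk τ hτ k a]
    ext x
    simp only [Set.mem_preimage]
    rw [← Scheme.Hom.comp_apply, s.w]
  have h2 : (s.π.app j') ⁻¹' Set.range ((τ k).app j') =
      (s.π.app m) ⁻¹' Set.range ((τ k).app m) := by
    rw [range_τ D Dk τ hτ k b]
    ext x
    simp only [Set.mem_preimage]
    rw [← Scheme.Hom.comp_apply, s.w]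
  rw [h1, h2]

include hck hσ hcov in
/-- Morphisms into the vertex of `c` are determined by their components. -/
theorem hom_ext_of_pieces {T : Scheme.{u}} (a b : T ⟶ c.pt)
    (h : ∀ j, a ≫ c.π.app j = b ≫ c.π.app j) : a = b := by
  obtain ⟨j₀⟩ := IsCofiltered.nonempty (C := J)
  refine Scheme.hom_ext_of_forall a b fun t => ?_
  obtain ⟨k, hk⟩ := hcov j₀ (c.π.app j₀ (a t))
  have hat : a t ∈ Set.range (σ k) := by
    rw [range_snd_of_isPullback (hσ k j₀)]; exact hk
  let O : T.Opens := a ⁻¹ᵁ (σ k).opensRange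
  have hO : t ∈ O := hat
  refine ⟨O, hO, ?_⟩
  have ha : Set.range (O.ι ≫ a) ⊆ Set.range (σ k) := by
    rintro _ ⟨x, rfl⟩
    exact x.2
  have hb : Set.range (O.ι ≫ b) ⊆ Set.range (σ k) := by
    rintro _ ⟨x, rfl⟩
    have h1 := ha ⟨x, rfl⟩
    rw [range_snd_of_isPullback (hσ k j₀)] at h1 ⊢
    simp only [Set.mem_preimage] at h1 ⊢
    rw [← Scheme.Hom.comp_apply, Category.assoc, ← h j₀, ← Category.assoc,
      Scheme.Hom.comp_apply]
    exact h1
  let a' := IsOpenImmersion.lift (σ k) (O.ι ≫ a) ha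
  let b' := IsOpenImmersion.lift (σ k) (O.ι ≫ b) hb
  have ha' : a' ≫ σ k = O.ι ≫ a := IsOpenImmersion.lift_fac _ _ _
  have hb' : b' ≫ σ k = O.ι ≫ b := IsOpenImmersion.lift_fac _ _ _
  have : a' = b' := by
    apply (hck k).hom_ext
    intro j
    rw [← cancel_mono ((τ k).app j), Category.assoc, Category.assoc, (hσ k j).w,
      ← Category.assoc, ← Category.assoc, ha', hb', Category.assoc, Category.assoc, h j]
  rw [← ha', ← hb', this]

include hτ hck hσ hcov in
theorem exists_lift (s : Cone D) : ∃ l : s.pt ⟶ c.pt, ∀ j, l ≫ c.π.app j = s.π.app j := by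
  obtain ⟨j₀⟩ := IsCofiltered.nonempty (C := J)
  let Tk : K → s.pt.Opens := fun k => (s.π.app j₀) ⁻¹ᵁ ((τ k).app j₀).opensRange
  have hTk : ∀ k j, ((Tk k : s.pt.Opens) : Set s.pt) =
      (s.π.app j) ⁻¹' Set.range ((τ k).app j) :=
    fun k j => preimage_range_eq D Dk τ hτ s k j₀ j
  have hcovT : IsOpenCover Tk := by
    rw [IsOpenCover, eq_top_iff]
    intro t _
    obtain ⟨k, hk⟩ := hcov j₀ (s.π.app j₀ t)
    exact Opens.mem_iSup.mpr ⟨k, hk⟩
  have hrange : ∀ k j, Set.range ((Tk k).ι ≫ s.π.app j) ⊆ Set.range ((τ k).app j) := by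
    rintro k j _ ⟨x, rfl⟩
    have : x.1 ∈ ((Tk k : s.pt.Opens) : Set s.pt) := x.2
    rw [hTk k j] at this
    exact this
  let sk : ∀ k, Cone (Dk k) := fun k =>
    { pt := Tk k
      π :=
        { app := fun j =>
            IsOpenImmersion.lift ((τ k).app j) ((Tk k).ι ≫ s.π.app j) (hrange k j)
          naturality := fun j j' a => by
            rw [← cancel_mono ((τ k).app j')]
            simp only [Functor.const_obj_obj, Functor.const_obj_map, Category.id_comp,
              Category.assoc, IsOpenImmersion.lift_fac]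
            rw [(τ k).naturality a, ← Category.assoc, IsOpenImmersion.lift_fac, Category.assoc,
              s.w] } }
  obtain ⟨lk, hlk⟩ : ∃ lk : ∀ k, (Tk k : Scheme) ⟶ c.pt,
      ∀ k j, lk k ≫ c.π.app j = (Tk k).ι ≫ s.π.app j := by
    refine ⟨fun k => (hck k).lift (sk k) ≫ σ k, fun k j => ?_⟩
    simp only [Category.assoc]
    rw [← (hσ k j).w, ← Category.assoc, (hck k).fac]
    exact IsOpenImmersion.lift_fac _ _ _
  let 𝒰 := s.pt.openCoverOfIsOpenCover Tk hcovT
  refine ⟨𝒰.glueMorphisms lk ?_, fun j => ?_⟩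
  · intro (k : K) (k' : K)
    apply hom_ext_of_pieces D c Dk τ ck hck σ hσ hcov
    intro j
    show (pullback.fst (Tk k).ι (Tk k').ι ≫ lk k) ≫ c.π.app j =
      (pullback.snd (Tk k).ι (Tk k').ι ≫ lk k') ≫ c.π.app j
    rw [Category.assoc, Category.assoc, hlk, hlk, ← Category.assoc, ← Category.assoc]
    congr 1
    exact pullback.condition
  · apply 𝒰.hom_ext
    intro (k : K)
    rw [← Category.assoc, 𝒰.ι_glueMorphisms]
    exact hlk k j

include hτ hck hσ hcov in
/-- **Limits of schemes are local on the target.** -/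
theorem nonempty_isLimit : Nonempty (IsLimit c) := by
  refine ⟨IsLimit.ofExistsUnique fun s => ?_⟩
  obtain ⟨l, hl⟩ := exists_lift D c Dk τ hτ ck hck σ hσ hcov s
  refine ⟨l, hl, fun l' hl' => ?_⟩
  apply hom_ext_of_pieces D c Dk τ ck hck σ hσ hcov
  intro j
  rw [hl, hl']

end

end Groth.Agent.Lib.Helper12.LimGlue
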