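import Mathlib
import Groth.Agent.Lib.Helper12.FpGlue
import Groth.Agent.Lib.Helper12.LimGlue

/-!
# Gluing two cofiltered systems of schemes along a common open subsystem

Given cofiltered diagrams `D₁ ⟵ D₀ ⟶ D₂` of schemes whose comparison maps are open immersions
with cartesian naturality squares, the pointwise gluing `glue a b` is again a diagram, and a
scheme `Z` covered by two opens which are limits of `D₁` and `D₂` (compatibly) is the limit of the
glued diagram.
-/

universe w v u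

open CategoryTheory Limits AlgebraicGeometry TopologicalSpace

namespace Groth.Agent.Lib.Helper12.PushoutLimit

open Groth.Agent.Lib.Helper12.FpGlue

set_option backward.isDefEq.respectTransparency false

/-- A map from a two-piece glued scheme to a pushout of two open immersions restricts to a cartesian
square over the left piece, provided the overlap is cartesian over the right piece. -/
theorem isPullback_inl_of_glue {U V W Z : Scheme.{u}} (jU : U ⟶ Z) (jV : V ⟶ Z)
    [IsOpenImmersion jU] [IsOpenImmersion jV] (pU : W ⟶ U) (pV : W ⟶ V)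
    (hW : pU ≫ jU = pV ≫ jV)
    (hcov : ∀ z : Z, z ∈ Set.range jU ∨ z ∈ Set.range jV)
    {U₀ V₀ O₀ : Scheme.{u}} (ι : O₀ ⟶ U₀) (ψ : O₀ ⟶ V₀) [IsOpenImmersion ι] [IsOpenImmersion ψ]
    (g : Z ⟶ pushout ι ψ) (gU : U ⟶ U₀) (gV : V ⟶ V₀) (gW : W ⟶ O₀)
    (hgU : jU ≫ g = gU ≫ pushout.inl ι ψ) (hgV : jV ≫ g = gV ≫ pushout.inr ι ψ)
    (sqWV : IsPullback gW pV ψ gV) : IsPullback gU jU (pushout.inl ι ψ) g := by
  refine IsOpenImmersion.isPullback gU jU (pushout.inl ι ψ) g hgU ?_
  ext z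
  simp only [Scheme.Hom.coe_opensRange, Set.mem_range, Opens.map_coe, Set.mem_preimage]
  constructor
  · rintro ⟨a, ha⟩
    rcases hcov z with ⟨y, rfl⟩ | ⟨y, rfl⟩
    · exact ⟨y, rfl⟩
    · have e : g (jV y) = pushout.inr ι ψ (gV y) := by
        rw [← Scheme.Hom.comp_apply, hgV, Scheme.Hom.comp_apply]
      rw [e] at ha
      obtain ⟨o, -, ho⟩ := (inl_eq_inr_iff ι ψ).mp ha
      obtain ⟨w, -, hw⟩ := Scheme.exists_preimage_of_isPullback sqWV o y ho
      refine ⟨pU w, ?_⟩
      rw [← hw, ← Scheme.Hom.comp_apply, ← Scheme.Hom.comp_apply, hW]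
  · rintro ⟨y, rfl⟩
    refine ⟨gU y, ?_⟩
    rw [← Scheme.Hom.comp_apply, ← Scheme.Hom.comp_apply, hgU]

theorem isPullback_inr_of_glue {U V W Z : Scheme.{u}} (jU : U ⟶ Z) (jV : V ⟶ Z)
    [IsOpenImmersion jU] [IsOpenImmersion jV] (pU : W ⟶ U) (pV : W ⟶ V)
    (hW : pU ≫ jU = pV ≫ jV)
    (hcov : ∀ z : Z, z ∈ Set.range jU ∨ z ∈ Set.range jV)
    {U₀ V₀ O₀ : Scheme.{u}} (ι : O₀ ⟶ U₀) (ψ : O₀ ⟶ V₀) [IsOpenImmersion ι] [IsOpenImmersion ψ]
    (g : Z ⟶ pushout ι ψ) (gU : U ⟶ U₀) (gV : V ⟶ V₀) (gW : W ⟶ O₀)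
    (hgU : jU ≫ g = gU ≫ pushout.inl ι ψ) (hgV : jV ≫ g = gV ≫ pushout.inr ι ψ)
    (sqWU : IsPullback gW pU ι gU) : IsPullback gV jV (pushout.inr ι ψ) g := by
  refine IsOpenImmersion.isPullback gV jV (pushout.inr ι ψ) g hgV ?_
  ext z
  simp only [Scheme.Hom.coe_opensRange, Set.mem_range, Opens.map_coe, Set.mem_preimage]
  constructor
  · rintro ⟨a, ha⟩
    rcases hcov z with ⟨y, rfl⟩ | ⟨y, rfl⟩
    · have e : g (jU y) = pushout.inl ι ψ (gU y) := by
        rw [← Scheme.Hom.comp_apply, hgU, Scheme.Hom.comp_apply]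
      rw [e] at ha
      obtain ⟨o, ho, -⟩ := (inl_eq_inr_iff ι ψ).mp ha.symm
      obtain ⟨w, -, hw⟩ := Scheme.exists_preimage_of_isPullback sqWU o y ho
      refine ⟨pV w, ?_⟩
      rw [← hw, ← Scheme.Hom.comp_apply, ← Scheme.Hom.comp_apply, hW]
    · exact ⟨y, rfl⟩
  · rintro ⟨y, rfl⟩
    refine ⟨gV y, ?_⟩
    rw [← Scheme.Hom.comp_apply, ← Scheme.Hom.comp_apply, hgV]

section

variable {J : Type v} [Category.{w} J]
  {D₁ D₂ D₀ : J ⥤ Scheme.{u}} (a : D₀ ⟶ D₁) (b : D₀ ⟶ D₂)
  [∀ j, IsOpenImmersion (a.app j)] [∀ j, IsOpenImmersion (b.app j)]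

/-- The pointwise gluing of `D₁` and `D₂` along `D₀`. -/
noncomputable def glue : J ⥤ Scheme.{u} where
  obj j := pushout (a.app j) (b.app j)
  map {j j'} m := pushout.map (a.app j) (b.app j) (a.app j') (b.app j') (D₁.map m) (D₂.map m)
    (D₀.map m) (a.naturality m).symm (b.naturality m).symm
  map_id j := by apply pushout.hom_ext <;> simp
  map_comp m m' := by apply pushout.hom_ext <;> simp

@[simp] lemma glue_obj (j : J) : (glue a b).obj j = pushout (a.app j) (b.app j) := rfl

@[reassoc (attr := simp)]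
lemma inl_glue_map {j j' : J} (m : j ⟶ j') :
    pushout.inl (a.app j) (b.app j) ≫ (glue a b).map m =
      D₁.map m ≫ pushout.inl (a.app j') (b.app j') := by
  simp [glue]

@[reassoc (attr := simp)]
lemma inr_glue_map {j j' : J} (m : j ⟶ j') :
    pushout.inr (a.app j) (b.app j) ≫ (glue a b).map m =
      D₂.map m ≫ pushout.inr (a.app j') (b.app j') := by
  simp [glue]

/-- The left piece of the glued diagram. -/
noncomputable def inlNat : D₁ ⟶ glue a b where
  app j := pushout.inl (a.app j) (b.app j)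
  naturality j j' m := (inl_glue_map a b m).symm

/-- The right piece of the glued diagram. -/
noncomputable def inrNat : D₂ ⟶ glue a b where
  app j := pushout.inr (a.app j) (b.app j)
  naturality j j' m := (inr_glue_map a b m).symm

@[simp] lemma inlNat_app (j : J) : (inlNat a b).app j = pushout.inl (a.app j) (b.app j) := rfl
@[simp] lemma inrNat_app (j : J) : (inrNat a b).app j = pushout.inr (a.app j) (b.app j) := rfl

instance (j : J) : IsOpenImmersion ((inlNat a b).app j) :=
  inferInstanceAs (IsOpenImmersion (pushout.inl (a.app j) (b.app j)))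

instance (j : J) : IsOpenImmersion ((inrNat a b).app j) :=
  inferInstanceAs (IsOpenImmersion (pushout.inr (a.app j) (b.app j)))

variable (ha : ∀ {j j' : J} (m : j ⟶ j'), IsPullback (D₀.map m) (a.app j) (a.app j') (D₁.map m))
  (hb : ∀ {j j' : J} (m : j ⟶ j'), IsPullback (D₀.map m) (b.app j) (b.app j') (D₂.map m))

include hb in
lemma isPullback_inl_glue_map {j j' : J} (m : j ⟶ j') :
    IsPullback (D₁.map m) (pushout.inl (a.app j) (b.app j)) (pushout.inl (a.app j') (b.app j'))
      ((glue a b).map m) :=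
  isPullback_inl_of_glue _ _ (a.app j) (b.app j) pushout.condition
    (mem_range_inl_or_inr _ _) _ _ _ _ _ (D₀.map m) (inl_glue_map a b m) (inr_glue_map a b m)
    (hb m)

include ha in
lemma isPullback_inr_glue_map {j j' : J} (m : j ⟶ j') :
    IsPullback (D₂.map m) (pushout.inr (a.app j) (b.app j)) (pushout.inr (a.app j') (b.app j'))
      ((glue a b).map m) :=
  isPullback_inr_of_glue _ _ (a.app j) (b.app j) pushout.condition
    (mem_range_inl_or_inr _ _) _ _ _ _ _ (D₀.map m) (inl_glue_map a b m) (inr_glue_map a b m)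
    (ha m)

end

section Cone

variable {J : Type v} [Category.{w} J]
  {D₁ D₂ D₀ : J ⥤ Scheme.{u}} (a : D₀ ⟶ D₁) (b : D₀ ⟶ D₂)
  [∀ j, IsOpenImmersion (a.app j)] [∀ j, IsOpenImmersion (b.app j)]
  (ha : ∀ {j j' : J} (m : j ⟶ j'), IsPullback (D₀.map m) (a.app j) (a.app j') (D₁.map m))
  (hb : ∀ {j j' : J} (m : j ⟶ j'), IsPullback (D₀.map m) (b.app j) (b.app j') (D₂.map m))
  (c₁ : Cone D₁) (c₂ : Cone D₂) (c₀ : Cone D₀)
  (pU : c₀.pt ⟶ c₁.pt) (pV : c₀.pt ⟶ c₂.pt)
  {Z : Scheme.{u}} (jU : c₁.pt ⟶ Z) (jV : c₂.pt ⟶ Z) [IsOpenImmersion jU] [IsOpenImmersion jV]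
  (hW : IsPullback pU pV jU jV)
  (hcov : ∀ z : Z, z ∈ Set.range jU ∨ z ∈ Set.range jV)
  (sqU : ∀ j, IsPullback (c₀.π.app j) pU (a.app j) (c₁.π.app j))
  (sqV : ∀ j, IsPullback (c₀.π.app j) pV (b.app j) (c₂.π.app j))

include hW hcov sqU sqV in
lemma exists_cone_map (j : J) : ∃ g : Z ⟶ (glue a b).obj j,
    jU ≫ g = c₁.π.app j ≫ pushout.inl (a.app j) (b.app j) ∧
      jV ≫ g = c₂.π.app j ≫ pushout.inr (a.app j) (b.app j) :=
  exists_glue_two' jU jV pU pV hW hcov _ _ (by
    rw [← Category.assoc, ← (sqU j).w, ← Category.assoc, ← (sqV j).w, Category.assoc,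
      Category.assoc, pushout.condition])

/-- The cone over the glued diagram with vertex the glued scheme `Z`. -/
noncomputable def glueCone : Cone (glue a b) where
  pt := Z
  π :=
    { app := fun j => (exists_cone_map a b c₁ c₂ c₀ pU pV jU jV hW hcov sqU sqV j).choose
      naturality := fun j j' m => by
        have h1 := (exists_cone_map a b c₁ c₂ c₀ pU pV jU jV hW hcov sqU sqV j).choose_spec
        have h2 := (exists_cone_map a b c₁ c₂ c₀ pU pV jU jV hW hcov sqU sqV j').choose_spec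
        simp only [Functor.const_obj_obj, Functor.const_obj_map, Category.id_comp]
        refine hom_ext_two' jU jV hcov _ _ ?_ ?_
        · rw [h2.1, reassoc_of% h1.1, inl_glue_map, ← Category.assoc, c₁.w]
        · rw [h2.2, reassoc_of% h1.2, inr_glue_map, ← Category.assoc, c₂.w] }

@[simp] lemma glueCone_pt : (glueCone a b c₁ c₂ c₀ pU pV jU jV hW hcov sqU sqV).pt = Z := rfl

@[reassoc]
lemma inl_glueCone_π (j : J) :
    jU ≫ (glueCone a b c₁ c₂ c₀ pU pV jU jV hW hcov sqU sqV).π.app j =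
      c₁.π.app j ≫ pushout.inl (a.app j) (b.app j) :=
  (exists_cone_map a b c₁ c₂ c₀ pU pV jU jV hW hcov sqU sqV j).choose_spec.1

@[reassoc]
lemma inr_glueCone_π (j : J) :
    jV ≫ (glueCone a b c₁ c₂ c₀ pU pV jU jV hW hcov sqU sqV).π.app j =
      c₂.π.app j ≫ pushout.inr (a.app j) (b.app j) :=
  (exists_cone_map a b c₁ c₂ c₀ pU pV jU jV hW hcov sqU sqV j).choose_spec.2

lemma isPullback_glueCone_inl (j : J) :
    IsPullback (c₁.π.app j) jU (pushout.inl (a.app j) (b.app j))
      ((glueCone a b c₁ c₂ c₀ pU pV jU jV hW hcov sqU sqV).π.app j) :=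
  isPullback_inl_of_glue jU jV pU pV hW.w hcov _ _ _ _ _ (c₀.π.app j)
    (inl_glueCone_π a b c₁ c₂ c₀ pU pV jU jV hW hcov sqU sqV j)
    (inr_glueCone_π a b c₁ c₂ c₀ pU pV jU jV hW hcov sqU sqV j) (sqV j)

lemma isPullback_glueCone_inr (j : J) :
    IsPullback (c₂.π.app j) jV (pushout.inr (a.app j) (b.app j))
      ((glueCone a b c₁ c₂ c₀ pU pV jU jV hW hcov sqU sqV).π.app j) :=
  isPullback_inr_of_glue jU jV pU pV hW.w hcov _ _ _ _ _ (c₀.π.app j)
    (inl_glueCone_π a b c₁ c₂ c₀ pU pV jU jV hW hcov sqU sqV j)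
    (inr_glueCone_π a b c₁ c₂ c₀ pU pV jU jV hW hcov sqU sqV j) (sqU j)

include ha hb in
/-- The glued cone is a limit cone if its two pieces are. -/
theorem nonempty_isLimit_glueCone [IsCofiltered J] (h₁ : IsLimit c₁) (h₂ : IsLimit c₂) :
    Nonempty (IsLimit (glueCone a b c₁ c₂ c₀ pU pV jU jV hW hcov sqU sqV)) := by
  let Dk : Bool → (J ⥤ Scheme.{u}) := fun k => bif k then D₁ else D₂
  let τ : ∀ k, Dk k ⟶ glue a b := fun k => match k with
    | true => inlNat a b
    | false => inrNat a b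
  let ck : ∀ k, Cone (Dk k) := fun k => match k with
    | true => c₁
    | false => c₂
  let σ : ∀ k, (ck k).pt ⟶ (glueCone a b c₁ c₂ c₀ pU pV jU jV hW hcov sqU sqV).pt :=
    fun k => match k with
    | true => jU
    | false => jV
  haveI : ∀ k j, IsOpenImmersion ((τ k).app j) := by
    rintro (_ | _) j
    · exact inferInstanceAs (IsOpenImmersion (pushout.inr (a.app j) (b.app j)))
    · exact inferInstanceAs (IsOpenImmersion (pushout.inl (a.app j) (b.app j)))
  haveI : ∀ k, IsOpenImmersion (σ k) := by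
    rintro (_ | _)
    · exact inferInstanceAs (IsOpenImmersion jV)
    · exact inferInstanceAs (IsOpenImmersion jU)
  refine Groth.Agent.Lib.Helper12.LimGlue.nonempty_isLimit (glue a b)
    (glueCone a b c₁ c₂ c₀ pU pV jU jV hW hcov sqU sqV) Dk τ ?_ ck ?_ σ ?_ ?_
  · rintro (_ | _) j j' m
    · exact isPullback_inr_glue_map a b ha m
    · exact isPullback_inl_glue_map a b hb m
  · rintro (_ | _)
    · exact h₂
    · exact h₁
  · rintro (_ | _) j
    · exact isPullback_glueCone_inr a b c₁ c₂ c₀ pU pV jU jV hW hcov sqU sqV j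
    · exact isPullback_glueCone_inl a b c₁ c₂ c₀ pU pV jU jV hW hcov sqU sqV j
  · intro j z
    rcases mem_range_inl_or_inr (a.app j) (b.app j) z with h | h
    · exact ⟨true, h⟩
    · exact ⟨false, h⟩

end Cone

section Props

/-- A morphism out of a pushout of open immersions is locally of finite type if it is so on the
two pieces. -/
theorem locallyOfFiniteType_of_pieces {U₀ V₀ O₀ S : Scheme.{u}} (ι : O₀ ⟶ U₀) (ψ : O₀ ⟶ V₀)
    [IsOpenImmersion ι] [IsOpenImmersion ψ] (t : pushout ι ψ ⟶ S)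
    [LocallyOfFiniteType (pushout.inl ι ψ ≫ t)] [LocallyOfFiniteType (pushout.inr ι ψ ≫ t)] :
    LocallyOfFiniteType t := by
  refine IsZariskiLocalAtSource.of_openCover (P := @LocallyOfFiniteType) (pushoutCover ι ψ) ?_
  rintro (_ | _)
  · exact inferInstanceAs (LocallyOfFiniteType (pushout.inr ι ψ ≫ t))
  · exact inferInstanceAs (LocallyOfFiniteType (pushout.inl ι ψ ≫ t))

variable {J : Type v} [Category.{w} J]
  {D₁ D₂ D₀ : J ⥤ Scheme.{u}} (a : D₀ ⟶ D₁) (b : D₀ ⟶ D₂)
  [∀ j, IsOpenImmersion (a.app j)] [∀ j, IsOpenImmersion (b.app j)]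
  (ha : ∀ {j j' : J} (m : j ⟶ j'), IsPullback (D₀.map m) (a.app j) (a.app j') (D₁.map m))
  (hb : ∀ {j j' : J} (m : j ⟶ j'), IsPullback (D₀.map m) (b.app j) (b.app j') (D₂.map m))

include ha hb in
/-- Transition maps of the glued diagram are affine if those of the pieces are. -/
theorem isAffineHom_glue_map {j j' : J} (m : j ⟶ j') [IsAffineHom (D₁.map m)]
    [IsAffineHom (D₂.map m)] : IsAffineHom ((glue a b).map m) := by
  refine IsZariskiLocalAtTarget.of_openCover (P := @IsAffineHom)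
    (pushoutCover (a.app j') (b.app j')) ?_
  rintro (_ | _)
  · have sq := (isPullback_inr_glue_map a b ha m).flip
    show IsAffineHom (pullback.snd ((glue a b).map m) (pushout.inr (a.app j') (b.app j')))
    rw [← MorphismProperty.cancel_left_of_respectsIso @IsAffineHom sq.isoPullback.hom,
      sq.isoPullback_hom_snd]
    infer_instance
  · have sq := (isPullback_inl_glue_map a b hb m).flip
    show IsAffineHom (pullback.snd ((glue a b).map m) (pushout.inl (a.app j') (b.app j')))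
    rw [← MorphismProperty.cancel_left_of_respectsIso @IsAffineHom sq.isoPullback.hom,
      sq.isoPullback_hom_snd]
    infer_instance

end Props

end Groth.Agent.Lib.Helper12.PushoutLimit
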