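import Mathlib
import Groth.Agent.Lib.Helper12.PinchGeo
import Groth.Agent.Lib.Helper12.PushoutLimit
import Groth.Agent.Lib.Helper12.FTInt

universe u

open CategoryTheory Limits AlgebraicGeometry TopologicalSpace Opposite

set_option backward.isDefEq.respectTransparency false
set_option linter.style.haveILetI false

namespace Groth.Agent.Lib.Helper12.ApproxStep

open Groth.Agent.Lib.Helper12.PinchRing Groth.Agent.Lib.Helper12.PinchGeo

section Core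

variable {I : Type u} [Preorder I]
  (Wd : Iᵒᵖ ⥤ Scheme.{u}) {Vs : Scheme.{u}} (cW : Cone Wd) (jV : cW.pt ⟶ Vs)
  {L : Type*} (i₀ : I) (h₀ : ∀ i, i₀ ≤ i) (f₀ : L → Γ(Wd.obj (op i₀), ⊤)) (g : L → Γ(Vs, ⊤))

/-- Transition maps on global sections. -/
def res {i i' : I} (h : i ≤ i') : Γ(Wd.obj (op i), ⊤) →+* Γ(Wd.obj (op i'), ⊤) :=
  (Wd.map (homOfLE h).op).appTop.hom

lemma res_refl (i : I) (x : Γ(Wd.obj (op i), ⊤)) : res Wd (le_refl i) x = x := by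
  have : Wd.map (homOfLE (le_refl i)).op = 𝟙 _ := by
    rw [← Wd.map_id]; rfl
  simp only [res, this]
  rfl

lemma res_trans {i i' i'' : I} (h : i ≤ i') (h' : i' ≤ i'') (x : Γ(Wd.obj (op i), ⊤)) :
    res Wd h' (res Wd h x) = res Wd (h.trans h') x := by
  have : Wd.map (homOfLE (h.trans h')).op = Wd.map (homOfLE h').op ≫ Wd.map (homOfLE h).op := by
    rw [← Wd.map_comp]; rfl
  simp only [res, this, Scheme.Hom.comp_appTop, CommRingCat.hom_comp, RingHom.comp_apply]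

/-- Transition maps on the product rings. -/
def prodRes {i i' : I} (h : i ≤ i') :
    Γ(Wd.obj (op i), ⊤) × Γ(Vs, ⊤) →+* Γ(Wd.obj (op i'), ⊤) × Γ(Vs, ⊤) :=
  RingHom.prodMap (res Wd h) (RingHom.id _)

lemma prodRes_refl (i : I) (x : Γ(Wd.obj (op i), ⊤) × Γ(Vs, ⊤)) :
    prodRes Wd (le_refl i) x = x :=
  Prod.ext (res_refl Wd i x.1) rfl

lemma prodRes_trans {i i' i'' : I} (h : i ≤ i') (h' : i' ≤ i'')
    (x : Γ(Wd.obj (op i), ⊤) × Γ(Vs, ⊤)) :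
    prodRes Wd h' (prodRes Wd h x) = prodRes Wd (h.trans h') x :=
  Prod.ext (res_trans Wd h h' x.1) rfl

/-- The chart sections at stage `i`. -/
def fl (i : I) (l : L) : Γ(Wd.obj (op i), ⊤) := res Wd (h₀ i) (f₀ l)

include h₀ in
lemma res_fl {i i' : I} (h : i ≤ i') (l : L) :
    res Wd h (fl Wd i₀ h₀ f₀ i l) = fl Wd i₀ h₀ f₀ i' l :=
  res_trans Wd (h₀ i) h (f₀ l)

/-- The index set: a stage together with a good finitely generated subring of the pinch ring. -/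
structure Idx where
  i : I
  A : Subring (Γ(Wd.obj (op i), ⊤) × Γ(Vs, ⊤))
  le_pinch : A ≤ pinch (cW.π.app (op i)).appTop.hom jV.appTop.hom
  fg : ∃ s : Finset (Γ(Wd.obj (op i), ⊤) × Γ(Vs, ⊤)), Subring.closure (s : Set _) = A
  good : ∀ l, Good (lam (fl Wd i₀ h₀ f₀ i l)) (fl Wd i₀ h₀ f₀ i l) (g l) A

instance : Preorder (Idx Wd cW jV i₀ h₀ f₀ g) where
  le j j' := j.i ≤ j'.i ∧ ∀ h : j.i ≤ j'.i, ∀ x ∈ j.A, prodRes Wd h x ∈ j'.A
  le_refl j := ⟨le_rfl, fun _ x hx => by rw [prodRes_refl]; exact hx⟩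
  le_trans j j' j'' := fun ⟨h, H⟩ ⟨h', H'⟩ =>
    ⟨h.trans h', fun _ x hx => by rw [← prodRes_trans Wd h h']; exact H' h' _ (H h _ hx)⟩

lemma π_res {i i' : I} (h : i ≤ i') (x : Γ(Wd.obj (op i), ⊤)) :
    (cW.π.app (op i')).appTop (res Wd h x) = (cW.π.app (op i)).appTop x := by
  have : cW.π.app (op i) = cW.π.app (op i') ≫ Wd.map (homOfLE h).op := (cW.w _).symm
  rw [this, Scheme.Hom.comp_appTop]
  rfl

lemma prodRes_mem_pinch {i i' : I} (h : i ≤ i') (x : Γ(Wd.obj (op i), ⊤) × Γ(Vs, ⊤))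
    (hx : x ∈ pinch (cW.π.app (op i)).appTop.hom jV.appTop.hom) :
    prodRes Wd h x ∈ pinch (cW.π.app (op i')).appTop.hom jV.appTop.hom := by
  rw [mem_pinch] at hx ⊢
  show (cW.π.app (op i')).appTop (res Wd h x.1) = jV.appTop x.2
  rw [π_res]
  exact hx

variable (hfg₀ : ∀ l, (cW.π.app (op i₀)).appTop (f₀ l) = jV.appTop (g l))

include hfg₀ in
lemma hfg (i : I) (l : L) :
    (cW.π.app (op i)).appTop (fl Wd i₀ h₀ f₀ i l) = jV.appTop (g l) := by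
  rw [fl, π_res]
  exact hfg₀ l

variable [IsOpenImmersion jV] [∀ i, CompactSpace (Wd.obj i)] [∀ i, QuasiSeparatedSpace (Wd.obj i)]
  [CompactSpace cW.pt] [CompactSpace Vs] [QuasiSeparatedSpace Vs]
  (hle : ∀ l, Vs.basicOpen (g l) ≤ jV.opensRange)
  (hM : ∀ i l, ∃ s : Finset Γ(Wd.obj (op i), (Wd.obj (op i)).basicOpen (fl Wd i₀ h₀ f₀ i l)),
    Subring.closure (s : Set Γ(Wd.obj (op i), (Wd.obj (op i)).basicOpen (fl Wd i₀ h₀ f₀ i l))) = ⊤)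

include hfg₀ hle hM in
lemma exists_good_finset_all [Finite L] (i : I) :
    ∃ t : Finset (Γ(Wd.obj (op i), ⊤) × Γ(Vs, ⊤)),
      ((t : Set (Γ(Wd.obj (op i), ⊤) × Γ(Vs, ⊤))) ⊆
        (pinch (cW.π.app (op i)).appTop.hom jV.appTop.hom : Set _)) ∧
      ∀ A : Subring (Γ(Wd.obj (op i), ⊤) × Γ(Vs, ⊤)),
        ((t : Set (Γ(Wd.obj (op i), ⊤) × Γ(Vs, ⊤))) ⊆ (A : Set _)) →
        ∀ l, Good (lam (fl Wd i₀ h₀ f₀ i l)) (fl Wd i₀ h₀ f₀ i l) (g l) A := by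
  classical
  cases nonempty_fintype L
  have key := fun l => exists_good_finset (cW.π.app (op i)).appTop.hom jV.appTop.hom
    (lam (fl Wd i₀ h₀ f₀ i l)) (fl Wd i₀ h₀ f₀ i l) (g l) (hfg Wd cW jV i₀ h₀ f₀ g hfg₀ i l)
    (lam_surj _) (H1 jV (g l) (hle l)) (hM i l)
  choose t ht1 ht2 using key
  refine ⟨Finset.univ.biUnion t, ?_, fun A hA l => ht2 l A ?_⟩
  · intro x hx
    simp only [Finset.coe_biUnion, Finset.coe_univ, Set.mem_univ, Set.iUnion_true,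
      Set.mem_iUnion] at hx
    obtain ⟨l, hl⟩ := hx
    exact ht1 l hl
  · intro x hx
    apply hA
    simp only [Finset.coe_biUnion, Finset.coe_univ, Set.mem_univ, Set.iUnion_true,
      Set.mem_iUnion]
    exact ⟨l, hx⟩

section MkIdx

variable [Finite L]

/-- A chosen finite subset of the pinch ring forcing goodness. -/
noncomputable def goodSet (i : I) : Finset (Γ(Wd.obj (op i), ⊤) × Γ(Vs, ⊤)) :=
  (exists_good_finset_all Wd cW jV i₀ h₀ f₀ g hfg₀ hle hM i).choose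

lemma goodSet_subset (i : I) :
    (goodSet Wd cW jV i₀ h₀ f₀ g hfg₀ hle hM i : Set (Γ(Wd.obj (op i), ⊤) × Γ(Vs, ⊤))) ⊆
      (pinch (cW.π.app (op i)).appTop.hom jV.appTop.hom : Set _) :=
  (exists_good_finset_all Wd cW jV i₀ h₀ f₀ g hfg₀ hle hM i).choose_spec.1

lemma goodSet_good (i : I) (A : Subring (Γ(Wd.obj (op i), ⊤) × Γ(Vs, ⊤)))
    (hA : (goodSet Wd cW jV i₀ h₀ f₀ g hfg₀ hle hM i : Set (Γ(Wd.obj (op i), ⊤) × Γ(Vs, ⊤))) ⊆
      (A : Set _)) (l : L) :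
    Good (lam (fl Wd i₀ h₀ f₀ i l)) (fl Wd i₀ h₀ f₀ i l) (g l) A :=
  (exists_good_finset_all Wd cW jV i₀ h₀ f₀ g hfg₀ hle hM i).choose_spec.2 A hA l

/-- The index with stage `i` generated by a finite subset of the pinch ring (together with the
chosen good finite set). -/
noncomputable def mkIdx (i : I) (s : Finset (Γ(Wd.obj (op i), ⊤) × Γ(Vs, ⊤)))
    (hs : (s : Set (Γ(Wd.obj (op i), ⊤) × Γ(Vs, ⊤))) ⊆
      (pinch (cW.π.app (op i)).appTop.hom jV.appTop.hom : Set _)) :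
    Idx Wd cW jV i₀ h₀ f₀ g where
  i := i
  A := Subring.closure
    ((goodSet Wd cW jV i₀ h₀ f₀ g hfg₀ hle hM i : Set (Γ(Wd.obj (op i), ⊤) × Γ(Vs, ⊤))) ∪ s)
  le_pinch := by
    rw [Subring.closure_le]
    exact Set.union_subset (goodSet_subset Wd cW jV i₀ h₀ f₀ g hfg₀ hle hM i) hs
  fg := by
    classical
    exact ⟨goodSet Wd cW jV i₀ h₀ f₀ g hfg₀ hle hM i ∪ s, by rw [Finset.coe_union]⟩
  good := fun l => goodSet_good Wd cW jV i₀ h₀ f₀ g hfg₀ hle hM i _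
    (Set.subset_union_left.trans Subring.subset_closure) l

lemma subset_mkIdx_A (i : I) (s : Finset (Γ(Wd.obj (op i), ⊤) × Γ(Vs, ⊤)))
    (hs : (s : Set (Γ(Wd.obj (op i), ⊤) × Γ(Vs, ⊤))) ⊆
      (pinch (cW.π.app (op i)).appTop.hom jV.appTop.hom : Set _)) :
    ∀ x ∈ s, x ∈ (mkIdx Wd cW jV i₀ h₀ f₀ g hfg₀ hle hM i s hs).A :=
  fun x hx => Subring.subset_closure (Or.inr hx)

open Classical in
/-- Every index is dominated by a generated index over any larger stage containing prescribed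
elements. -/
lemma exists_ge (j : Idx Wd cW jV i₀ h₀ f₀ g) (i : I) (h : j.i ≤ i)
    (s : Finset (Γ(Wd.obj (op i), ⊤) × Γ(Vs, ⊤)))
    (hs : (s : Set (Γ(Wd.obj (op i), ⊤) × Γ(Vs, ⊤))) ⊆
      (pinch (cW.π.app (op i)).appTop.hom jV.appTop.hom : Set _)) :
    ∃ (s' : Finset (Γ(Wd.obj (op i), ⊤) × Γ(Vs, ⊤)))
      (hs' : (s' : Set (Γ(Wd.obj (op i), ⊤) × Γ(Vs, ⊤))) ⊆
        (pinch (cW.π.app (op i)).appTop.hom jV.appTop.hom : Set _)),
      s ⊆ s' ∧ j ≤ mkIdx Wd cW jV i₀ h₀ f₀ g hfg₀ hle hM i s' hs' := by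
  obtain ⟨sj, hsj⟩ := j.fg
  have hsj' : (sj : Set (Γ(Wd.obj (op j.i), ⊤) × Γ(Vs, ⊤))) ⊆ (j.A : Set _) := by
    rw [← hsj]; exact Subring.subset_closure
  let s' : Finset (Γ(Wd.obj (op i), ⊤) × Γ(Vs, ⊤)) := sj.image (prodRes Wd h) ∪ s
  have hs' : (s' : Set (Γ(Wd.obj (op i), ⊤) × Γ(Vs, ⊤))) ⊆
      (pinch (cW.π.app (op i)).appTop.hom jV.appTop.hom : Set _) := by
    rw [Finset.coe_union, Finset.coe_image]
    refine Set.union_subset ?_ hs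
    rintro _ ⟨x, hx, rfl⟩
    exact prodRes_mem_pinch Wd cW jV h x (j.le_pinch (hsj' hx))
  refine ⟨s', hs', Finset.subset_union_right, ⟨h, fun _ x hx => ?_⟩⟩
  have h1 : (Subring.closure (sj : Set (Γ(Wd.obj (op j.i), ⊤) × Γ(Vs, ⊤)))).map (prodRes Wd h) ≤
      (mkIdx Wd cW jV i₀ h₀ f₀ g hfg₀ hle hM i s' hs').A := by
    rw [RingHom.map_closure, Subring.closure_le]
    rintro _ ⟨y, hy, rfl⟩
    apply subset_mkIdx_A Wd cW jV i₀ h₀ f₀ g hfg₀ hle hM i s' hs'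
    exact Finset.mem_union_left _ (Finset.mem_image_of_mem _ hy)
  rw [← hsj] at hx
  exact h1 (Subring.mem_map.mpr ⟨x, hx, rfl⟩)

lemma mkIdx_mono (i : I) (s s' : Finset (Γ(Wd.obj (op i), ⊤) × Γ(Vs, ⊤)))
    (hs : (s : Set (Γ(Wd.obj (op i), ⊤) × Γ(Vs, ⊤))) ⊆
      (pinch (cW.π.app (op i)).appTop.hom jV.appTop.hom : Set _))
    (hs' : (s' : Set (Γ(Wd.obj (op i), ⊤) × Γ(Vs, ⊤))) ⊆
      (pinch (cW.π.app (op i)).appTop.hom jV.appTop.hom : Set _)) (hss' : s ⊆ s') :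
    mkIdx Wd cW jV i₀ h₀ f₀ g hfg₀ hle hM i s hs ≤ mkIdx Wd cW jV i₀ h₀ f₀ g hfg₀ hle hM i s' hs' := by
  refine ⟨le_refl i, fun _ x hx => ?_⟩
  have e : prodRes Wd (le_refl i) x = x := prodRes_refl Wd i x
  have h1 : x ∈ Subring.closure
      ((goodSet Wd cW jV i₀ h₀ f₀ g hfg₀ hle hM i : Set (Γ(Wd.obj (op i), ⊤) × Γ(Vs, ⊤))) ∪ s') :=
    Subring.closure_mono (Set.union_subset_union_right _ (Finset.coe_subset.mpr hss')) hx
  rw [← e] at h1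
  exact h1

include hfg₀ hle hM in
lemma nonempty_idx : Nonempty (Idx Wd cW jV i₀ h₀ f₀ g) :=
  ⟨mkIdx Wd cW jV i₀ h₀ f₀ g hfg₀ hle hM i₀ ∅ (by simp)⟩

include hfg₀ hle hM in
lemma isDirected_idx [IsDirected I (· ≤ ·)] :
    IsDirected (Idx Wd cW jV i₀ h₀ f₀ g) (· ≤ ·) := by
  refine ⟨fun j j' => ?_⟩
  obtain ⟨i, hi, hi'⟩ := exists_ge_ge j.i j'.i
  obtain ⟨s₁, hs₁, -, hj⟩ := exists_ge Wd cW jV i₀ h₀ f₀ g hfg₀ hle hM j i hi ∅ (by simp)
  obtain ⟨s₂, hs₂, hsub, hj'⟩ := exists_ge Wd cW jV i₀ h₀ f₀ g hfg₀ hle hM j' i hi' s₁ hs₁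
  exact ⟨mkIdx Wd cW jV i₀ h₀ f₀ g hfg₀ hle hM i s₂ hs₂,
    hj.trans (mkIdx_mono Wd cW jV i₀ h₀ f₀ g hfg₀ hle hM i s₁ s₂ hs₁ hs₂ hsub), hj'⟩

/-- The projection to the stage, as a monotone map. -/
def idxProj : Idx Wd cW jV i₀ h₀ f₀ g →o I where
  toFun j := j.i
  monotone' := fun _ _ h => h.1

end MkIdx

section Diagrams

/-- The rings `A_j`, functorially in the index. -/
noncomputable def ringFunctor : Idx Wd cW jV i₀ h₀ f₀ g ⥤ CommRingCat.{u} where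
  obj j := .of j.A
  map {j j'} m := transHom (Wd.map (homOfLE (leOfHom m).1).op) j.A j'.A
    ((leOfHom m).2 (leOfHom m).1)
  map_id j := by
    refine CommRingCat.hom_ext (RingHom.ext fun x => Subtype.ext ?_)
    exact prodRes_refl Wd j.i x.1
  map_comp {j j' j''} m m' := by
    refine CommRingCat.hom_ext (RingHom.ext fun x => Subtype.ext ?_)
    exact (prodRes_trans Wd (leOfHom m).1 (leOfHom m').1 x.1).symm

/-- The cocone from the rings `A_j` to `Γ(Vs, ⊤)`. -/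
noncomputable def ringCocone : Cocone (ringFunctor Wd cW jV i₀ h₀ f₀ g) where
  pt := Γ(Vs, ⊤)
  ι :=
    { app := fun j => sndHom j.A
      naturality := fun j j' m => rfl }

/-- The affine pieces `Spec A_j`. -/
noncomputable def D₂ : (Idx Wd cW jV i₀ h₀ f₀ g)ᵒᵖ ⥤ Scheme.{u} :=
  (ringFunctor Wd cW jV i₀ h₀ f₀ g).op ⋙ Scheme.Spec

/-- The projection of indices as a functor. -/
def projFunctor : (Idx Wd cW jV i₀ h₀ f₀ g)ᵒᵖ ⥤ Iᵒᵖ where
  obj j := op j.unop.i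
  map {j j'} m := (homOfLE (leOfHom m.unop).1).op

/-- The chart maps `W_i ⟶ Spec A_j` as a natural transformation. -/
noncomputable def bNat : projFunctor Wd cW jV i₀ h₀ f₀ g ⋙ Wd ⟶ D₂ Wd cW jV i₀ h₀ f₀ g where
  app j := κ j.unop.A
  naturality {j j'} m := (κ_transHom (Wd.map (homOfLE (leOfHom m.unop).1).op) j'.unop.A j.unop.A
    ((leOfHom m.unop).2 (leOfHom m.unop).1)).symm

end Diagrams

section Assemble

variable [Finite L] [IsDirected I (· ≤ ·)]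
  [∀ {i i' : Iᵒᵖ} (m : i ⟶ i'), IsAffineHom (Wd.map m)]
  (haff₀ : ∀ l, IsAffineOpen ((Wd.obj (op i₀)).basicOpen (f₀ l)))
  (hcov₀ : ∀ x : Wd.obj (op i₀), ∃ l, x ∈ (Wd.obj (op i₀)).basicOpen (f₀ l))
  (hjr : ∀ v : Vs, v ∈ Set.range jV → ∃ l, v ∈ Vs.basicOpen (g l))

lemma basicOpen_fl (i : I) (l : L) :
    (Wd.obj (op i)).basicOpen (fl Wd i₀ h₀ f₀ i l) =
      (Wd.map (homOfLE (h₀ i)).op) ⁻¹ᵁ (Wd.obj (op i₀)).basicOpen (f₀ l) :=
  (Scheme.preimage_basicOpen_top _ _).symm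

include haff₀ in
lemma haff (i : I) (l : L) : IsAffineOpen ((Wd.obj (op i)).basicOpen (fl Wd i₀ h₀ f₀ i l)) := by
  rw [basicOpen_fl]
  exact (haff₀ l).preimage _

include hcov₀ in
lemma hcov (i : I) (x : Wd.obj (op i)) : ∃ l, x ∈ (Wd.obj (op i)).basicOpen (fl Wd i₀ h₀ f₀ i l) := by
  obtain ⟨l, hl⟩ := hcov₀ ((Wd.map (homOfLE (h₀ i)).op) x)
  refine ⟨l, ?_⟩
  rw [basicOpen_fl]
  exact hl

include hfg₀ hle haff₀ hcov₀ in
lemma isOpenImmersion_bNat (j : (Idx Wd cW jV i₀ h₀ f₀ g)ᵒᵖ) :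
    IsOpenImmersion ((bNat Wd cW jV i₀ h₀ f₀ g).app j) :=
  isOpenImmersion_κ (W := cW.pt) (cW.π.app (op j.unop.i)) jV _ g
    (hfg Wd cW jV i₀ h₀ f₀ g hfg₀ j.unop.i) (haff Wd i₀ h₀ f₀ haff₀ j.unop.i)
    (hcov Wd i₀ h₀ f₀ hcov₀ j.unop.i) hle j.unop.A j.unop.le_pinch j.unop.good

include hfg₀ hle haff₀ hcov₀ in
lemma isPullback_bNat {j j' : (Idx Wd cW jV i₀ h₀ f₀ g)ᵒᵖ} (m : j ⟶ j') :
    IsPullback ((projFunctor Wd cW jV i₀ h₀ f₀ g ⋙ Wd).map m)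
      ((bNat Wd cW jV i₀ h₀ f₀ g).app j) ((bNat Wd cW jV i₀ h₀ f₀ g).app j')
      ((D₂ Wd cW jV i₀ h₀ f₀ g).map m) :=
  isPullback_κ_trans (W := cW.pt) (cW.π.app (op j'.unop.i)) (cW.π.app (op j.unop.i)) jV
    (Wd.map (homOfLE (leOfHom m.unop).1).op) _ _ g
    (fun l => (res_fl Wd i₀ h₀ f₀ (leOfHom m.unop).1 l).symm)
    (hfg Wd cW jV i₀ h₀ f₀ g hfg₀ j'.unop.i) (haff Wd i₀ h₀ f₀ haff₀ j'.unop.i)
    (hcov Wd i₀ h₀ f₀ hcov₀ j'.unop.i)
    (hfg Wd cW jV i₀ h₀ f₀ g hfg₀ j.unop.i) (haff Wd i₀ h₀ f₀ haff₀ j.unop.i)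
    (hcov Wd i₀ h₀ f₀ hcov₀ j.unop.i) hle j'.unop.A j'.unop.le_pinch j'.unop.good
    j.unop.A j.unop.le_pinch j.unop.good ((leOfHom m.unop).2 (leOfHom m.unop).1)

/-- The cone over the affine pieces with vertex `Vs`. -/
noncomputable def c₂ : Cone (D₂ Wd cW jV i₀ h₀ f₀ g) :=
  (Scheme.Spec.mapCone (ringCocone Wd cW jV i₀ h₀ f₀ g).op).extend Vs.toSpecΓ

lemma c₂_π_app (j : (Idx Wd cW jV i₀ h₀ f₀ g)ᵒᵖ) :
    (c₂ Wd cW jV i₀ h₀ f₀ g).π.app j = σ (V := Vs) j.unop.A := rfl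

include hfg₀ hle haff₀ hcov₀ hjr in
lemma isPullback_c₂ (j : (Idx Wd cW jV i₀ h₀ f₀ g)ᵒᵖ) :
    IsPullback ((cW.whisker (projFunctor Wd cW jV i₀ h₀ f₀ g)).π.app j) jV
      ((bNat Wd cW jV i₀ h₀ f₀ g).app j) ((c₂ Wd cW jV i₀ h₀ f₀ g).π.app j) := by
  rw [c₂_π_app]
  exact isPullback_κ_σ (W := cW.pt) (cW.π.app (op j.unop.i)) jV _ g
    (hfg Wd cW jV i₀ h₀ f₀ g hfg₀ j.unop.i) (haff Wd i₀ h₀ f₀ haff₀ j.unop.i)
    (hcov Wd i₀ h₀ f₀ hcov₀ j.unop.i) hle j.unop.A j.unop.le_pinch j.unop.good hjr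

end Assemble

section Colim

variable [Finite L] [IsDirected I (· ≤ ·)]
  [∀ {i i' : Iᵒᵖ} (m : i ⟶ i'), IsAffineHom (Wd.map m)]

include hfg₀ hle hM in
lemma isFiltered_idx : IsFiltered (Idx Wd cW jV i₀ h₀ f₀ g) := by
  haveI := isDirected_idx Wd cW jV i₀ h₀ f₀ g hfg₀ hle hM
  haveI := nonempty_idx Wd cW jV i₀ h₀ f₀ g hfg₀ hle hM
  infer_instance

include hfg₀ hle hM h₀ in
lemma nonempty_isColimit_ringCocone (hcW : IsLimit cW) :
    Nonempty (IsColimit (ringCocone Wd cW jV i₀ h₀ f₀ g)) := by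
  haveI := isFiltered_idx Wd cW jV i₀ h₀ f₀ g hfg₀ hle hM
  haveI : IsFiltered I := by
    haveI : Nonempty I := ⟨i₀⟩
    infer_instance
  have : ReflectsFilteredColimits (forget CommRingCat.{u}) :=
    ⟨fun _ ↦ reflectsColimitsOfShape_of_reflectsIsomorphisms⟩
  refine ReflectsColimit.reflects (F := forget _)
    (Types.FilteredColimit.isColimitOf' _ _ ?_ ?_)
  · intro (r : Γ(Vs, ⊤))
    obtain ⟨i, a, ha⟩ := exists_appTop_π_eq_of_isLimit Wd cW hcW (jV.appTop r)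
    let x : Γ(Wd.obj (op i.unop), ⊤) × Γ(Vs, ⊤) := (a, r)
    have hx : x ∈ pinch (cW.π.app (op i.unop)).appTop.hom jV.appTop.hom := ha.symm
    refine ⟨mkIdx Wd cW jV i₀ h₀ f₀ g hfg₀ hle hM i.unop {x} (by simpa using hx),
      ⟨x, subset_mkIdx_A Wd cW jV i₀ h₀ f₀ g hfg₀ hle hM i.unop {x} _ x
        (Finset.mem_singleton_self x)⟩, rfl⟩
  · intro j (x : j.A) (y : j.A) (hxy : x.1.2 = y.1.2)
    have h1 : (cW.π.app (op j.i)).appTop (x.1.1 - y.1.1) = 0 := by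
      rw [map_sub, sub_eq_zero]
      have hx := (mem_pinch _ _).mp (j.le_pinch x.2)
      have hy := (mem_pinch _ _).mp (j.le_pinch y.2)
      exact hx.trans ((congrArg _ hxy).trans hy.symm)
    obtain ⟨k, m, hm⟩ := exists_appTop_map_eq_zero_of_isLimit Wd cW hcW _ h1
    have hk : j.i ≤ k.unop := leOfHom m.unop
    obtain ⟨s', hs', -, hj'⟩ := exists_ge Wd cW jV i₀ h₀ f₀ g hfg₀ hle hM j k.unop hk ∅ (by simp)
    refine ⟨_, homOfLE hj', ?_⟩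
    apply Subtype.ext
    apply Prod.ext
    · show res Wd _ x.1.1 = res Wd _ y.1.1
      rw [← sub_eq_zero, ← map_sub]
      exact hm
    · exact hxy

end Colim

section Final

variable [Finite L] [IsDirected I (· ≤ ·)] [IsAffine Vs]
  [∀ {i i' : Iᵒᵖ} (m : i ⟶ i'), IsAffineHom (Wd.map m)]

include hfg₀ hle hM h₀ in
lemma nonempty_isLimit_c₂ (hcW : IsLimit cW) :
    Nonempty (IsLimit (c₂ Wd cW jV i₀ h₀ f₀ g)) := by
  obtain ⟨hγ⟩ := nonempty_isColimit_ringCocone Wd cW jV i₀ h₀ f₀ g hfg₀ hle hM hcW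
  have h1 : IsLimit (Scheme.Spec.mapCone (ringCocone Wd cW jV i₀ h₀ f₀ g).op) :=
    isLimitOfPreserves Scheme.Spec hγ.op
  haveI : IsIso Vs.toSpecΓ := inferInstance
  have h2 := IsLimit.extendIso Vs.toSpecΓ h1
  exact ⟨h2⟩

include hfg₀ hle hM in
lemma initial_projFunctor : (projFunctor Wd cW jV i₀ h₀ f₀ g).Initial := by
  haveI := isFiltered_idx Wd cW jV i₀ h₀ f₀ g hfg₀ hle hM
  refine Functor.initial_of_exists_of_isCofiltered _ (fun d => ?_) (fun {d c} s s' => ?_)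
  · exact ⟨op (mkIdx Wd cW jV i₀ h₀ f₀ g hfg₀ hle hM d.unop ∅ (by simp)), ⟨𝟙 _⟩⟩
  · exact ⟨c, 𝟙 _, Subsingleton.elim _ _⟩

end Final

section Main

variable [Finite L] [IsDirected I (· ≤ ·)] [IsAffine Vs]
  [∀ {i i' : Iᵒᵖ} (m : i ⟶ i'), IsAffineHom (Wd.map m)]
  (haff₀ : ∀ l, IsAffineOpen ((Wd.obj (op i₀)).basicOpen (f₀ l)))
  (hcov₀ : ∀ x : Wd.obj (op i₀), ∃ l, x ∈ (Wd.obj (op i₀)).basicOpen (f₀ l))
  (hjr : ∀ v : Vs, v ∈ Set.range jV → ∃ l, v ∈ Vs.basicOpen (g l))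
  (D : Iᵒᵖ ⥤ Scheme.{u}) (a : Wd ⟶ D) [∀ i, IsOpenImmersion (a.app i)]
  (ha : ∀ {i i' : Iᵒᵖ} (m : i ⟶ i'), IsPullback (Wd.map m) (a.app i) (a.app i') (D.map m))
  [∀ {i i' : Iᵒᵖ} (m : i ⟶ i'), IsAffineHom (D.map m)]
  (hD : ∀ i, CompactSpace (D.obj i) ∧
    LocallyOfFiniteType (specULiftZIsTerminal.from (D.obj i)))
  (cU : Cone D) (hcU : IsLimit cU) (jU : cW.pt ⟶ cU.pt) [IsOpenImmersion jU]
  (sqW : ∀ i, IsPullback (cW.π.app i) jU (a.app i) (cU.π.app i))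
  {X : Scheme.{u}} (jXU : cU.pt ⟶ X) (jXV : Vs ⟶ X) [IsOpenImmersion jXU] [IsOpenImmersion jXV]
  (hX : IsPullback jU jV jXU jXV) (hcovX : ∀ x : X, x ∈ Set.range jXU ∨ x ∈ Set.range jXV)

include hfg₀ hle haff₀ hcov₀ hjr ha hD hcU sqW hX hcovX h₀ in
theorem step_core :
    ∃ (J : Type u) (_ : Preorder J) (_ : IsDirected J (· ≤ ·)) (_ : Nonempty J)
      (DS : Jᵒᵖ ⥤ Scheme.{u}) (π : (Functor.const Jᵒᵖ).obj X ⟶ DS)
      (_ : IsLimit ({ pt := X, π := π } : Cone DS))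
      (α : J →o I) (ι₁ : ∀ j : J, D.obj (op (α j)) ⟶ DS.obj (op j)),
      (∀ (j j' : Jᵒᵖ) (m : j ⟶ j'), IsAffineHom (DS.map m)) ∧
      (∀ j, CompactSpace (DS.obj j) ∧
        LocallyOfFiniteType (specULiftZIsTerminal.from (DS.obj j))) ∧
      (∀ j, IsOpenImmersion (ι₁ j)) ∧
      (∀ (j j' : J) (h : j' ≤ j), IsPullback (D.map (homOfLE (α.mono h)).op) (ι₁ j) (ι₁ j')
        (DS.map (homOfLE h).op)) ∧
      (∀ j : J, IsPullback (cU.π.app (op (α j))) jXU (ι₁ j) (π.app (op j))) := by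
  -- finite generation of the chart rings
  have hLFT : ∀ i, LocallyOfFiniteType (specULiftZIsTerminal.from (Wd.obj i)) := fun i => by
    haveI := (hD i).2
    rw [show specULiftZIsTerminal.from (Wd.obj i) = a.app i ≫ specULiftZIsTerminal.from (D.obj i)
      from specULiftZIsTerminal.hom_ext _ _]
    infer_instance
  have hM : ∀ i l, ∃ s : Finset Γ(Wd.obj (op i), (Wd.obj (op i)).basicOpen (fl Wd i₀ h₀ f₀ i l)),
      Subring.closure
        (s : Set Γ(Wd.obj (op i), (Wd.obj (op i)).basicOpen (fl Wd i₀ h₀ f₀ i l))) = ⊤ :=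
    fun i l => by
      haveI := hLFT (op i)
      exact Groth.Agent.Lib.Helper12.FTInt.exists_finset_closure_eq_top _
        (haff Wd i₀ h₀ f₀ haff₀ i l)
  haveI hdir := isDirected_idx Wd cW jV i₀ h₀ f₀ g hfg₀ hle hM
  haveI hne := nonempty_idx Wd cW jV i₀ h₀ f₀ g hfg₀ hle hM
  haveI hfil := isFiltered_idx Wd cW jV i₀ h₀ f₀ g hfg₀ hle hM
  haveI : IsFiltered I := by
    haveI : Nonempty I := ⟨i₀⟩
    infer_instance
  -- the limit property of the `W`-cone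
  haveI : IsConnected Iᵒᵖ := IsCofiltered.isConnected _
  have hcW : IsLimit cW :=
    isLimitOfIsPullbackOfIsConnected a cW cU { hom := jU, w := fun i => (sqW i).w.symm } sqW hcU
  -- the pieces
  let P := projFunctor Wd cW jV i₀ h₀ f₀ g
  let aN : P ⋙ Wd ⟶ P ⋙ D := Functor.whiskerLeft P a
  let bN := bNat Wd cW jV i₀ h₀ f₀ g
  haveI : ∀ j, IsOpenImmersion (aN.app j) := fun j => inferInstanceAs (IsOpenImmersion (a.app _))
  haveI : ∀ j, IsOpenImmersion (bN.app j) :=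
    isOpenImmersion_bNat Wd cW jV i₀ h₀ f₀ g hfg₀ hle haff₀ hcov₀
  have haN : ∀ {j j' : (Idx Wd cW jV i₀ h₀ f₀ g)ᵒᵖ} (m : j ⟶ j'),
      IsPullback ((P ⋙ Wd).map m) (aN.app j) (aN.app j') ((P ⋙ D).map m) := fun m => ha _
  have hbN : ∀ {j j' : (Idx Wd cW jV i₀ h₀ f₀ g)ᵒᵖ} (m : j ⟶ j'),
      IsPullback ((P ⋙ Wd).map m) (bN.app j) (bN.app j') ((D₂ Wd cW jV i₀ h₀ f₀ g).map m) :=
    fun m => isPullback_bNat Wd cW jV i₀ h₀ f₀ g hfg₀ hle haff₀ hcov₀ m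
  let c₁ : Cone (P ⋙ D) := cU.whisker P
  let c₀ : Cone (P ⋙ Wd) := cW.whisker P
  haveI := initial_projFunctor Wd cW jV i₀ h₀ f₀ g hfg₀ hle hM
  have hc₁ : IsLimit c₁ := (Functor.Initial.isLimitWhiskerEquiv P cU).symm hcU
  obtain ⟨hc₂⟩ := nonempty_isLimit_c₂ Wd cW jV i₀ h₀ f₀ g hfg₀ hle hM hcW
  have sqU : ∀ j, IsPullback (c₀.π.app j) jU (aN.app j) (c₁.π.app j) := fun j => sqW _
  have sqV : ∀ j, IsPullback (c₀.π.app j) jV (bN.app j) ((c₂ Wd cW jV i₀ h₀ f₀ g).π.app j) :=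
    isPullback_c₂ Wd cW jV i₀ h₀ f₀ g hfg₀ hle haff₀ hcov₀ hjr
  let cS := Groth.Agent.Lib.Helper12.PushoutLimit.glueCone aN bN c₁ (c₂ Wd cW jV i₀ h₀ f₀ g) c₀
    jU jV jXU jXV hX hcovX sqU sqV
  obtain ⟨hcS⟩ := Groth.Agent.Lib.Helper12.PushoutLimit.nonempty_isLimit_glueCone aN bN haN hbN c₁
    (c₂ Wd cW jV i₀ h₀ f₀ g) c₀ jU jV jXU jXV hX hcovX sqU sqV hc₁ hc₂
  refine ⟨Idx Wd cW jV i₀ h₀ f₀ g, inferInstance, hdir, hne,
    Groth.Agent.Lib.Helper12.PushoutLimit.glue aN bN, cS.π, hcS,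
    idxProj Wd cW jV i₀ h₀ f₀ g, fun j => pushout.inl (aN.app (op j)) (bN.app (op j)),
    ?_, ?_, ?_, ?_, ?_⟩
  · intro j j' m
    haveI : IsAffineHom ((P ⋙ D).map m) := inferInstanceAs (IsAffineHom (D.map _))
    haveI : IsAffineHom ((D₂ Wd cW jV i₀ h₀ f₀ g).map m) :=
      inferInstanceAs (IsAffineHom (Spec.map _))
    exact Groth.Agent.Lib.Helper12.PushoutLimit.isAffineHom_glue_map aN bN haN hbN m
  · intro j
    haveI : CompactSpace ((P ⋙ D).obj j) := (hD _).1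
    haveI : CompactSpace ((D₂ Wd cW jV i₀ h₀ f₀ g).obj j) :=
      inferInstanceAs (CompactSpace (Spec _))
    refine ⟨Groth.Agent.Lib.Helper12.FpGlue.compactSpace_pushout (aN.app j) (bN.app j), ?_⟩
    haveI : LocallyOfFiniteType (pushout.inl (aN.app j) (bN.app j) ≫
        specULiftZIsTerminal.from (pushout (aN.app j) (bN.app j))) := by
      rw [show pushout.inl (aN.app j) (bN.app j) ≫
        specULiftZIsTerminal.from (pushout (aN.app j) (bN.app j)) =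
          specULiftZIsTerminal.from (D.obj (P.obj j)) from specULiftZIsTerminal.hom_ext _ _]
      exact (hD _).2
    haveI : LocallyOfFiniteType (pushout.inr (aN.app j) (bN.app j) ≫
        specULiftZIsTerminal.from (pushout (aN.app j) (bN.app j))) := by
      rw [show pushout.inr (aN.app j) (bN.app j) ≫
        specULiftZIsTerminal.from (pushout (aN.app j) (bN.app j)) =
          specULiftZIsTerminal.from (Spec (.of j.unop.A)) from specULiftZIsTerminal.hom_ext _ _]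
      exact Groth.Agent.Lib.Helper12.FTInt.locallyOfFiniteType_of_closure_eq_top
        (Groth.Agent.Lib.Helper12.FTInt.exists_finset_closure_subring _ j.unop.fg)
    show LocallyOfFiniteType (specULiftZIsTerminal.from (pushout (aN.app j) (bN.app j)))
    exact Groth.Agent.Lib.Helper12.PushoutLimit.locallyOfFiniteType_of_pieces (aN.app j) (bN.app j) _
  · intro j
    infer_instance
  · intro j j' h
    exact Groth.Agent.Lib.Helper12.PushoutLimit.isPullback_inl_glue_map aN bN hbN (homOfLE h).op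
  · intro j
    exact Groth.Agent.Lib.Helper12.PushoutLimit.isPullback_glueCone_inl aN bN c₁
      (c₂ Wd cW jV i₀ h₀ f₀ g) c₀ jU jV jXU jXV hX hcovX sqU sqV (op j)

end Main

end Core

end Groth.Agent.Lib.Helper12.ApproxStep
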