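import Mathlib

universe u

open CategoryTheory Limits AlgebraicGeometry TopologicalSpace Opposite

set_option backward.isDefEq.respectTransparency false
set_option linter.style.haveILetI false

namespace Groth.Agent.Lib.Helper12.LimCharts

variable {K : Type u} [SmallCategory K] [IsCofiltered K] (Wd : K ⥤ Scheme.{u})
  [∀ {k k' : K} (m : k ⟶ k'), IsAffineHom (Wd.map m)]
  [∀ k, CompactSpace (Wd.obj k)] [∀ k, QuasiSeparatedSpace (Wd.obj k)]
  (cW : Cone Wd) (hcW : IsLimit cW)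

/-- Finitely many stable properties which each hold eventually hold simultaneously. -/
lemma exists_common {L : Type*} [Finite L] (k₁ : K) (P : L → Over k₁ → Prop)
    (hP : ∀ l (X Y : Over k₁) (_ : Y ⟶ X), P l X → P l Y) (h : ∀ l, ∃ X, P l X) :
    ∃ X, ∀ l, P l X := by
  classical
  cases nonempty_fintype L
  choose X hX using h
  obtain ⟨S, hS⟩ := IsCofiltered.inf_objs_exists (Finset.univ.image X)
  exact ⟨S, fun l => hP l _ _ (hS (Finset.mem_image_of_mem X (Finset.mem_univ l))).some (hX l)⟩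

include hcW in
/-- Affine basic-open charts of the limit descend to a stage. -/
theorem exists_charts {L : Type*} [Finite L] (s : L → Γ(cW.pt, ⊤))
    (haff : ∀ l, IsAffineOpen (cW.pt.basicOpen (s l)))
    (hcov : ∀ x : cW.pt, ∃ l, x ∈ cW.pt.basicOpen (s l)) :
    ∃ (k : K) (f : L → Γ(Wd.obj k, ⊤)), (∀ l, (cW.π.app k).appTop (f l) = s l) ∧
      (∀ l, IsAffineOpen ((Wd.obj k).basicOpen (f l))) ∧
      ∀ x : Wd.obj k, ∃ l, x ∈ (Wd.obj k).basicOpen (f l) := by
  classical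
  cases nonempty_fintype L
  -- step 1: lift the sections
  choose k₀ a₀ ha₀ using fun l => exists_appTop_π_eq_of_isLimit Wd cW hcW (s l)
  obtain ⟨k₁, hk₁⟩ := IsCofiltered.inf_objs_exists (Finset.univ.image k₀)
  have m₁ : ∀ l, k₁ ⟶ k₀ l := fun l => (hk₁ (Finset.mem_image_of_mem k₀ (Finset.mem_univ l))).some
  let f₁ : L → Γ(Wd.obj k₁, ⊤) := fun l => (Wd.map (m₁ l)).appTop (a₀ l)
  have hf₁ : ∀ l, (cW.π.app k₁).appTop (f₁ l) = s l := fun l => by
    simp only [f₁]
    rw [← CommRingCat.comp_apply, ← Scheme.Hom.comp_appTop, cW.w]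
    exact (ha₀ l).symm
  -- the sections over `Over k₁`
  let fX : ∀ X : Over k₁, L → Γ(Wd.obj X.left, ⊤) := fun X l => (Wd.map X.hom).appTop (f₁ l)
  have hfX : ∀ (X : Over k₁) l, (cW.π.app X.left).appTop (fX X l) = s l := fun X l => by
    simp only [fX]
    rw [← CommRingCat.comp_apply, ← Scheme.Hom.comp_appTop, cW.w]
    exact hf₁ l
  have hfXY : ∀ (X Y : Over k₁) (t : Y ⟶ X) l, (Wd.map t.left).appTop (fX X l) = fX Y l :=
    fun X Y t l => by
      simp only [fX]
      rw [← CommRingCat.comp_apply, ← Scheme.Hom.comp_appTop, ← Wd.map_comp, Over.w t]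
  have hbo : ∀ (X Y : Over k₁) (t : Y ⟶ X) l, (Wd.obj Y.left).basicOpen (fX Y l) =
      (Wd.map t.left) ⁻¹ᵁ (Wd.obj X.left).basicOpen (fX X l) := fun X Y t l => by
    rw [Scheme.preimage_basicOpen_top]
    exact congrArg _ (hfXY X Y t l).symm
  have hpre : ∀ (X : Over k₁) l, (cW.π.app X.left) ⁻¹ᵁ (Wd.obj X.left).basicOpen (fX X l) =
      cW.pt.basicOpen (s l) := fun X l => by
    rw [Scheme.preimage_basicOpen_top]
    exact congrArg _ (hfX X l)
  -- step 2: affineness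
  have hA : ∀ l, ∃ X : Over k₁, IsAffineOpen ((Wd.obj X.left).basicOpen (fX X l)) := by
    intro l
    obtain ⟨k', O, hO, hOe⟩ := exists_isAffineOpen_preimage_eq Wd cW hcW _ (haff l)
    obtain ⟨k'', p, q, -⟩ := IsCofilteredOrEmpty.cone_objs k' k₁
    let X'' : Over k₁ := Over.mk q
    have hc1 : IsCompact (((Wd.map p) ⁻¹ᵁ O : (Wd.obj k'').Opens) : Set (Wd.obj k'')) :=
      (hO.preimage (Wd.map p)).isCompact
    have hc2 : IsCompact (((Wd.obj k'').basicOpen (fX X'' l) : (Wd.obj k'').Opens) :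
        Set (Wd.obj k'')) := isCompact_basicOpen _ isCompact_univ _
    have heq : (cW.π.app k'') ⁻¹ᵁ ((Wd.map p) ⁻¹ᵁ O) =
        (cW.π.app k'') ⁻¹ᵁ ((Wd.obj k'').basicOpen (fX X'' l)) := by
      have h2 : (cW.π.app k'') ⁻¹ᵁ ((Wd.obj k'').basicOpen (fX X'' l)) =
          cW.pt.basicOpen (s l) := hpre X'' l
      rw [h2, ← Scheme.Hom.comp_preimage, cW.w, hOe]
    obtain ⟨k₃, r, hr⟩ := exists_map_preimage_eq_map_preimage Wd cW hcW hc1 hc2 heq
    let X₃ : Over k₁ := Over.mk (r ≫ q)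
    let t : X₃ ⟶ X'' := Over.homMk r rfl
    refine ⟨X₃, ?_⟩
    rw [hbo X'' X₃ t l]
    show IsAffineOpen ((Wd.map r) ⁻¹ᵁ (Wd.obj k'').basicOpen (fX X'' l))
    rw [← hr]
    exact (hO.preimage (Wd.map p)).preimage (Wd.map r)
  -- step 3: covering
  have hC : ∃ X : Over k₁, ∀ x : Wd.obj X.left, ∃ l, x ∈ (Wd.obj X.left).basicOpen (fX X l) := by
    have h1 : (cW.π.app k₁) ⁻¹ᵁ (⨆ l, (Wd.obj k₁).basicOpen (f₁ l)) = ⊤ := by
      rw [eq_top_iff]
      intro x _
      obtain ⟨l, hl⟩ := hcov x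
      rw [Scheme.Hom.preimage_iSup]
      refine Opens.mem_iSup.mpr ⟨l, ?_⟩
      rw [Scheme.preimage_basicOpen_top, hf₁]
      exact hl
    obtain ⟨k₂, q, hq⟩ := exists_map_eq_top Wd cW hcW _ h1
    refine ⟨Over.mk q, fun x => ?_⟩
    have hx : x ∈ (Wd.map q) ⁻¹ᵁ (⨆ l, (Wd.obj k₁).basicOpen (f₁ l)) := by rw [hq]; trivial
    rw [Scheme.Hom.preimage_iSup] at hx
    obtain ⟨l, hl⟩ := Opens.mem_iSup.mp hx
    refine ⟨l, ?_⟩
    rw [Scheme.preimage_basicOpen_top] at hl
    exact hl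
  -- step 4: common refinement
  obtain ⟨X, hX⟩ := exists_common (L := Option L) k₁
    (fun o X => match o with
      | some l => IsAffineOpen ((Wd.obj X.left).basicOpen (fX X l))
      | none => ∀ x : Wd.obj X.left, ∃ l, x ∈ (Wd.obj X.left).basicOpen (fX X l))
    (by
      rintro (_ | l) X Y t h
      · intro y
        obtain ⟨l, hl⟩ := h ((Wd.map t.left) y)
        refine ⟨l, ?_⟩
        rw [hbo X Y t l]
        exact hl
      · show IsAffineOpen _
        rw [hbo X Y t l]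
        exact IsAffineOpen.preimage h (Wd.map t.left))
    (by
      rintro (_ | l)
      · exact hC
      · exact hA l)
  exact ⟨X.left, fX X, hfX X, fun l => hX (some l), hX none⟩

end Groth.Agent.Lib.Helper12.LimCharts
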