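import Mathlib

universe u

open CategoryTheory Limits AlgebraicGeometry TopologicalSpace Opposite

set_option backward.isDefEq.respectTransparency false
set_option linter.style.haveILetI false

namespace Groth.Agent.Lib.Helper12.OpensSys

variable {K : Type u} [Category.{u} K] (D : K ⥤ Scheme.{u}) (Wf : ∀ k : K, (D.obj k).Opens)
  (hWf : ∀ {k k' : K} (m : k ⟶ k'), (D.map m) ⁻¹ᵁ (Wf k') = Wf k)

attribute [local simp] Scheme.Hom.resLE_comp_resLE

/-- The diagram of open subschemes `Wf k ⊆ D k`. -/
@[simps] noncomputable def opensD : K ⥤ Scheme.{u} where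
  obj k := Wf k
  map {k k'} m := (D.map m).resLE (Wf k') (Wf k) (hWf m).ge

/-- The inclusion of the diagram of opens. -/
@[simps] noncomputable def opensDι : opensD D Wf hWf ⟶ D where
  app k := (Wf k).ι

instance (k : K) : IsOpenImmersion ((opensDι D Wf hWf).app k) := by
  delta opensDι; infer_instance

lemma isPullback_opensDι {k k' : K} (m : k ⟶ k') :
    IsPullback ((opensD D Wf hWf).map m) ((opensDι D Wf hWf).app k) ((opensDι D Wf hWf).app k')
      (D.map m) :=
  IsOpenImmersion.isPullback _ _ _ _ (by simp) (by simp [hWf m])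

instance [∀ {k k' : K} (m : k ⟶ k'), IsAffineHom (D.map m)] {k k' : K} (m : k ⟶ k') :
    IsAffineHom ((opensD D Wf hWf).map m) :=
  MorphismProperty.of_isPullback (P := @IsAffineHom) (isPullback_opensDι D Wf hWf m).flip
    inferInstance

variable (c : Cone D) (WU : c.pt.Opens) (hWU : ∀ k, (c.π.app k) ⁻¹ᵁ (Wf k) = WU)

/-- The cone over the diagram of opens. -/
@[simps] noncomputable def opensC : Cone (opensD D Wf hWf) where
  pt := WU
  π :=
    { app := fun k => (c.π.app k).resLE (Wf k) WU (hWU k).ge
      naturality := fun k k' m => by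
        rw [← cancel_mono (Wf k').ι]
        simp [Scheme.Hom.resLE_comp_ι] }

lemma isPullback_opensC (k : K) :
    IsPullback ((opensC D Wf hWf c WU hWU).π.app k) WU.ι ((opensDι D Wf hWf).app k)
      (c.π.app k) :=
  IsOpenImmersion.isPullback _ _ _ _ (by simp) (by simp [hWU k])

/-- The cone of opens is a limit cone. -/
noncomputable def isLimitOpensC [IsConnected K] (hc : IsLimit c) :
    IsLimit (opensC D Wf hWf c WU hWU) :=
  isLimitOfIsPullbackOfIsConnected (opensDι D Wf hWf) _ c
    { hom := WU.ι, w := fun k => by simp }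
    (isPullback_opensC D Wf hWf c WU hWU) hc

end Groth.Agent.Lib.Helper12.OpensSys
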