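import Mathlib

universe u

open CategoryTheory Limits Opposite

namespace Groth.Agent.Lib.Helper12.UpSet

variable {I : Type u} [Preorder I] (i₀ : I)

/-- The elements above `i₀`. -/
abbrev Up := {i : I // i₀ ≤ i}

instance [IsDirected I (· ≤ ·)] : IsDirected (Up i₀) (· ≤ ·) where
  directed a b := by
    obtain ⟨c, hac, hbc⟩ := exists_ge_ge a.1 b.1
    exact ⟨⟨c, a.2.trans hac⟩, hac, hbc⟩

instance : Nonempty (Up i₀) := ⟨⟨i₀, le_rfl⟩⟩

/-- The inclusion of the upper set. -/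
def upIncl : Up i₀ →o I := ⟨Subtype.val, fun _ _ h => h⟩

/-- The inclusion of the upper set as a functor between opposite categories. -/
def upFunctor : (Up i₀)ᵒᵖ ⥤ Iᵒᵖ := (upIncl i₀).monotone.functor.op

@[simp] lemma upFunctor_obj (k : (Up i₀)ᵒᵖ) : (upFunctor i₀).obj k = op k.unop.1 := rfl

instance initial_upFunctor [IsDirected I (· ≤ ·)] : (upFunctor i₀).Initial := by
  haveI : IsFiltered (Up i₀) := inferInstance
  refine Functor.initial_of_exists_of_isCofiltered _ (fun d => ?_) (fun {d c} s s' => ?_)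
  · obtain ⟨c, hc1, hc2⟩ := exists_ge_ge d.unop i₀
    exact ⟨op ⟨c, hc2⟩, ⟨(homOfLE hc1).op⟩⟩
  · exact ⟨c, 𝟙 _, Subsingleton.elim _ _⟩

end Groth.Agent.Lib.Helper12.UpSet
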