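import Mathlib
import Groth.Agent.Lib.Helper12.ApproxStep
import Groth.Agent.Lib.Helper12.OpensSys
import Groth.Agent.Lib.Helper12.LimCharts
import Groth.Agent.Lib.Helper12.UpSet

universe u

open CategoryTheory Limits AlgebraicGeometry TopologicalSpace Opposite

set_option backward.isDefEq.respectTransparency false
set_option linter.style.haveILetI false

namespace Groth.Agent.Lib.Helper12.ApproxWrap

open Groth.Agent.Lib.Helper12.UpSet Groth.Agent.Lib.Helper12.OpensSys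

instance : IsNoetherianRing (ULift.{u} ℤ) :=
  isNoetherianRing_of_ringEquiv ℤ ULift.ringEquiv.symm

lemma quasiSeparatedSpace_of_lft {X : Scheme.{u}} [CompactSpace X]
    [LocallyOfFiniteType (specULiftZIsTerminal.from X)] : QuasiSeparatedSpace X := by
  haveI : IsLocallyNoetherian X :=
    LocallyOfFiniteType.isLocallyNoetherian (specULiftZIsTerminal.from X)
  haveI : IsNoetherian X := ⟨⟩
  infer_instance

/-- A quasi-compact open of an affine scheme is a finite union of basic opens. -/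
lemma exists_basicOpen_cover {V : Scheme.{u}} [IsAffine V] (O : V.Opens)
    (hO : IsCompact (O : Set V)) :
    ∃ (n : ℕ) (g : Fin n → Γ(V, ⊤)), (∀ l, V.basicOpen (g l) ≤ O) ∧
      ∀ v ∈ O, ∃ l, v ∈ V.basicOpen (g l) := by
  obtain ⟨Us, hUs, hfin, hsup⟩ := (isBasis_basicOpen V).exists_finite_of_isCompact hO
  haveI : Finite ↥Us := hfin.to_subtype
  obtain ⟨n, ⟨e⟩⟩ := Finite.exists_equiv_fin ↥Us
  have hg : ∀ l : Fin n, ∃ g : Γ(V, ⊤), V.basicOpen g = (e.symm l).1 := fun l =>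
    hUs (e.symm l).2
  choose g hg using hg
  refine ⟨n, g, fun l => ?_, fun v hv => ?_⟩
  · rw [hg l, hsup]
    exact le_sSup (e.symm l).2
  · rw [hsup] at hv
    obtain ⟨O', hO', hvO'⟩ := Opens.mem_sSup.mp hv
    refine ⟨e ⟨O', hO'⟩, ?_⟩
    rw [hg, Equiv.symm_apply_apply]
    exact hvO'

/-- **The inductive step of absolute Noetherian approximation**: if `X = U ∪ V` with `V` affine,
`U ∩ V` quasi-compact, and `U` is a directed limit of schemes of finite type over `ℤ` with affine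
transition maps, then so is `X`, compatibly with the presentation of `U`. -/
theorem step {X : Scheme.{u}} (T U V : X.Opens) (hUT : U ≤ T) (hVT : V ≤ T) (hV : IsAffineOpen V)
    (hcovT : ∀ x ∈ T, x ∈ U ∨ x ∈ V) (hUV : IsCompact ((U ⊓ V : X.Opens) : Set X))
    {I : Type u} [Preorder I] [IsDirected I (· ≤ ·)] [Nonempty I]
    (D : Iᵒᵖ ⥤ Scheme.{u}) [∀ {i i' : Iᵒᵖ} (m : i ⟶ i'), IsAffineHom (D.map m)]
    (hD : ∀ i, CompactSpace (D.obj i) ∧
      LocallyOfFiniteType (specULiftZIsTerminal.from (D.obj i)))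
    (πU : (Functor.const Iᵒᵖ).obj (U : Scheme.{u}) ⟶ D)
    (hcU : IsLimit ({ pt := U, π := πU } : Cone D)) :
    ∃ (J : Type u) (_ : Preorder J) (_ : IsDirected J (· ≤ ·)) (_ : Nonempty J)
      (DS : Jᵒᵖ ⥤ Scheme.{u}) (π : (Functor.const Jᵒᵖ).obj (T : Scheme.{u}) ⟶ DS)
      (_ : IsLimit ({ pt := T, π := π } : Cone DS))
      (α : J →o I) (ι₁ : ∀ j : J, D.obj (op (α j)) ⟶ DS.obj (op j)),
      (∀ (j j' : Jᵒᵖ) (m : j ⟶ j'), IsAffineHom (DS.map m)) ∧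
      (∀ j, CompactSpace (DS.obj j) ∧
        LocallyOfFiniteType (specULiftZIsTerminal.from (DS.obj j))) ∧
      (∀ j, IsOpenImmersion (ι₁ j)) ∧
      (∀ (j j' : J) (h : j' ≤ j), IsPullback (D.map (homOfLE (α.mono h)).op) (ι₁ j) (ι₁ j')
        (DS.map (homOfLE h).op)) ∧
      (∀ j : J, IsPullback (πU.app (op (α j))) (X.homOfLE hUT) (ι₁ j) (π.app (op j))) := by
  haveI : IsFiltered I := inferInstance
  let cU : Cone D := { pt := U, π := πU }
  haveI hDc : ∀ i, CompactSpace (D.obj i) := fun i => (hD i).1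
  haveI hDq : ∀ i, QuasiSeparatedSpace (D.obj i) := fun i => by
    haveI := (hD i).1
    haveI := (hD i).2
    exact quasiSeparatedSpace_of_lft
  -- the open `U ∩ V` of `U`
  let WU : (U : Scheme.{u}).Opens := U.ι ⁻¹ᵁ V
  have hWU : IsCompact (WU : Set (U : Scheme.{u})) := by
    have : (U.ι ''ᵁ WU : X.Opens) = U ⊓ V := by
      rw [Scheme.Hom.image_preimage_eq_opensRange_inf, Scheme.Opens.opensRange_ι]
    have h2 : (U.ι '' (WU : Set (U : Scheme.{u}))) = ((U ⊓ V : X.Opens) : Set X) := by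
      rw [← this]; rfl
    exact U.ι.isOpenEmbedding.isCompact_iff.mpr (h2 ▸ hUV)
  obtain ⟨i₁, W₁, hW₁c, hW₁⟩ := exists_preimage_eq D cU hcU WU hWU
  -- restrict to the indices above `i₁`
  let F₁ : (Up i₁.unop)ᵒᵖ ⥤ Iᵒᵖ := upFunctor i₁.unop
  let D₁ : (Up i₁.unop)ᵒᵖ ⥤ Scheme.{u} := F₁ ⋙ D
  let c₁ : Cone D₁ := cU.whisker F₁
  have hc₁ : IsLimit c₁ := (Functor.Initial.isLimitWhiskerEquiv F₁ cU).symm hcU
  haveI : ∀ {k k' : (Up i₁.unop)ᵒᵖ} (m : k ⟶ k'), IsAffineHom (D₁.map m) := fun m =>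
    inferInstanceAs (IsAffineHom (D.map _))
  let Wf : ∀ k : (Up i₁.unop)ᵒᵖ, (D₁.obj k).Opens := fun k =>
    (D.map (homOfLE k.unop.2).op) ⁻¹ᵁ W₁
  have hWf : ∀ {k k' : (Up i₁.unop)ᵒᵖ} (m : k ⟶ k'), (D₁.map m) ⁻¹ᵁ (Wf k') = Wf k := by
    intro k k' m
    show (D.map (F₁.map m)) ⁻¹ᵁ ((D.map (homOfLE k'.unop.2).op) ⁻¹ᵁ W₁) =
      (D.map (homOfLE k.unop.2).op) ⁻¹ᵁ W₁
    rw [← Scheme.Hom.comp_preimage, ← D.map_comp]
    rfl
  have hWU' : ∀ k, (c₁.π.app k) ⁻¹ᵁ (Wf k) = WU := by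
    intro k
    show (cU.π.app (F₁.obj k)) ⁻¹ᵁ ((D.map (homOfLE k.unop.2).op) ⁻¹ᵁ W₁) = WU
    rw [← Scheme.Hom.comp_preimage, cU.w]
    exact hW₁
  let Wd₁ := opensD D₁ Wf hWf
  let cW₁ := opensC D₁ Wf hWf c₁ WU hWU'
  haveI : IsConnected (Up i₁.unop)ᵒᵖ := IsCofiltered.isConnected _
  have hcW₁ : IsLimit cW₁ := isLimitOpensC D₁ Wf hWf c₁ WU hWU' hc₁
  haveI hWc : ∀ k, CompactSpace (Wd₁.obj k) := fun k => by
    show CompactSpace ↥(Wf k : Scheme.{u})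
    exact isCompact_iff_compactSpace.mp
      (QuasiCompact.isCompact_preimage (f := D.map (homOfLE k.unop.2).op) _ W₁.2 hW₁c)
  haveI hWq : ∀ k, QuasiSeparatedSpace (Wd₁.obj k) := fun k => by
    show QuasiSeparatedSpace ↥(Wf k : Scheme.{u})
    haveI : QuasiSeparatedSpace (D₁.obj k) := hDq _
    exact (Wf k).ι.isOpenEmbedding.quasiSeparatedSpace
  -- the affine piece and its charts
  haveI : IsAffine (V : Scheme.{u}) := hV
  let jV : (WU : Scheme.{u}) ⟶ (V : Scheme.{u}) := U.ι.resLE V WU le_rfl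
  have hjVι : jV ≫ V.ι = WU.ι ≫ U.ι := Scheme.Hom.resLE_comp_ι _ _
  haveI : IsOpenImmersion jV := by
    have : IsOpenImmersion (jV ≫ V.ι) := by rw [hjVι]; infer_instance
    exact IsOpenImmersion.of_comp jV V.ι
  haveI : CompactSpace (WU : Scheme.{u}) := isCompact_iff_compactSpace.mp hWU
  have hOc : IsCompact (jV.opensRange : Set (V : Scheme.{u})) := by
    rw [Scheme.Hom.coe_opensRange]
    exact isCompact_range jV.continuous
  obtain ⟨n, g, hgle, hgcov⟩ := exists_basicOpen_cover jV.opensRange hOc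
  let s : Fin n → Γ(cW₁.pt, ⊤) := fun l => jV.appTop (g l)
  have hsbo : ∀ l, cW₁.pt.basicOpen (s l) = jV ⁻¹ᵁ (V : Scheme.{u}).basicOpen (g l) := fun l =>
    (Scheme.preimage_basicOpen_top jV (g l)).symm
  have hsaff : ∀ l, IsAffineOpen (cW₁.pt.basicOpen (s l)) := fun l => by
    rw [hsbo]
    exact ((isAffineOpen_top (V : Scheme.{u})).basicOpen (g l)).preimage_of_isOpenImmersion jV
      (hgle l)
  have hscov : ∀ x : cW₁.pt, ∃ l, x ∈ cW₁.pt.basicOpen (s l) := fun x => by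
    obtain ⟨l, hl⟩ := hgcov (jV x) ⟨x, rfl⟩
    exact ⟨l, by rw [hsbo]; exact hl⟩
  obtain ⟨k₀, f₀, hf₀, haff₀, hcov₀⟩ :=
    Groth.Agent.Lib.Helper12.LimCharts.exists_charts Wd₁ cW₁ hcW₁ s hsaff hscov
  -- restrict to the indices above `k₀`
  let F₀ : (Up k₀.unop)ᵒᵖ ⥤ (Up i₁.unop)ᵒᵖ := upFunctor k₀.unop
  let Wd : (Up k₀.unop)ᵒᵖ ⥤ Scheme.{u} := F₀ ⋙ Wd₁
  let D₀ : (Up k₀.unop)ᵒᵖ ⥤ Scheme.{u} := F₀ ⋙ D₁
  let a : Wd ⟶ D₀ := Functor.whiskerLeft F₀ (opensDι D₁ Wf hWf)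
  let cW : Cone Wd := cW₁.whisker F₀
  let cU₀ : Cone D₀ := c₁.whisker F₀
  have hcU₀ : IsLimit cU₀ := (Functor.Initial.isLimitWhiskerEquiv F₀ c₁).symm hc₁
  haveI : ∀ i, IsOpenImmersion (a.app i) := fun i =>
    inferInstanceAs (IsOpenImmersion ((opensDι D₁ Wf hWf).app _))
  haveI : ∀ {i i' : (Up k₀.unop)ᵒᵖ} (m : i ⟶ i'), IsAffineHom (Wd.map m) := fun m =>
    inferInstanceAs (IsAffineHom ((opensD D₁ Wf hWf).map _))
  haveI : ∀ {i i' : (Up k₀.unop)ᵒᵖ} (m : i ⟶ i'), IsAffineHom (D₀.map m) := fun m =>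
    inferInstanceAs (IsAffineHom (D.map _))
  haveI : ∀ i, CompactSpace (Wd.obj i) := fun i => hWc _
  haveI : ∀ i, QuasiSeparatedSpace (Wd.obj i) := fun i => hWq _
  haveI : CompactSpace cW.pt := inferInstanceAs (CompactSpace (WU : Scheme.{u}))
  have hsq : WU.ι ≫ X.homOfLE hUT = jV ≫ X.homOfLE hVT := by
    rw [← cancel_mono T.ι, Category.assoc, Category.assoc, Scheme.homOfLE_ι, Scheme.homOfLE_ι,
      hjVι]
  have hX : IsPullback WU.ι jV (X.homOfLE hUT) (X.homOfLE hVT) := by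
    refine (IsOpenImmersion.isPullback jV WU.ι (X.homOfLE hVT) (X.homOfLE hUT) hsq ?_).flip
    rw [Scheme.opensRange_homOfLE, ← Scheme.Hom.comp_preimage, Scheme.homOfLE_ι,
      Scheme.Opens.opensRange_ι]
  have hcovX' : ∀ x : (T : Scheme.{u}), x ∈ Set.range (X.homOfLE hUT) ∨
      x ∈ Set.range (X.homOfLE hVT) := fun x => by
    rcases hcovT x.1 x.2 with h | h
    · exact Or.inl ⟨⟨x.1, h⟩, Scheme.homOfLE_apply' hUT x.1 h⟩
    · exact Or.inr ⟨⟨x.1, h⟩, Scheme.homOfLE_apply' hVT x.1 h⟩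
  obtain ⟨J, iJ1, iJ2, iJ3, DS, π, hlim, α, ι₁, P1, P2, P3, P4, P5⟩ :=
    Groth.Agent.Lib.Helper12.ApproxStep.step_core Wd cW jV (⟨k₀.unop, le_rfl⟩ : Up k₀.unop)
      (fun i => i.2) f₀ g hf₀ hgle haff₀ hcov₀ (fun v hv => hgcov v hv) D₀ a
      (fun m => isPullback_opensDι D₁ Wf hWf (F₀.map m)) (fun i => hD _) cU₀ hcU₀ WU.ι
      (fun k => isPullback_opensC D₁ Wf hWf c₁ WU hWU' (F₀.obj k)) (X.homOfLE hUT)
      (X.homOfLE hVT) hX hcovX'
  refine ⟨J, iJ1, iJ2, iJ3, DS, π, hlim,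
    (upIncl i₁.unop).comp ((upIncl k₀.unop).comp α), ι₁, P1, P2, P3, ?_, ?_⟩
  · intro j j' h
    exact P4 j j' h
  · intro j
    exact P5 j

end Groth.Agent.Lib.Helper12.ApproxWrap
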