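import Mathlib

universe u

open CategoryTheory Limits AlgebraicGeometry TopologicalSpace Opposite

set_option backward.isDefEq.respectTransparency false
set_option linter.style.haveILetI false

namespace Groth.Agent.Lib.Helper12.FibSys

variable {I : Type u} [Preorder I]
  {DX DS : Iᵒᵖ ⥤ Scheme.{u}} (φ : DX ⟶ DS) (cX : Cone DX) (cS : Cone DS)
  (f : cX.pt ⟶ cS.pt) (hf : ∀ i, cX.π.app i ≫ φ.app i = f ≫ cS.π.app i)
  {S₀ : Scheme.{u}} (ι : cS.pt ⟶ S₀)

/-- The transition maps of the system `X_i ×_{S_i} S`. -/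
noncomputable def fibMap {i j : Iᵒᵖ} (m : i ⟶ j) :
    pullback (φ.app i) (cS.π.app i) ⟶ pullback (φ.app j) (cS.π.app j) :=
  pullback.map (φ.app i) (cS.π.app i) (φ.app j) (cS.π.app j) (DX.map m) (𝟙 _) (DS.map m)
    (φ.naturality m).symm (by rw [Category.id_comp, cS.w])

@[reassoc (attr := simp)]
lemma fibMap_fst {i j : Iᵒᵖ} (m : i ⟶ j) :
    fibMap φ cS m ≫ pullback.fst _ _ = pullback.fst _ _ ≫ DX.map m := by
  simp [fibMap]

@[reassoc (attr := simp)]
lemma fibMap_snd {i j : Iᵒᵖ} (m : i ⟶ j) :
    fibMap φ cS m ≫ pullback.snd _ _ = pullback.snd _ _ := by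
  simp [fibMap]

/-- The system `X_i ×_{S_i} S` over `S₀`. -/
noncomputable def fibSys : Iᵒᵖ ⥤ Over S₀ where
  obj i := Over.mk (pullback.snd (φ.app i) (cS.π.app i) ≫ ι)
  map m := Over.homMk (fibMap φ cS m) (by simp)
  map_id i := by
    ext
    apply pullback.hom_ext <;> simp
  map_comp m m' := by
    ext
    apply pullback.hom_ext <;> simp

/-- The cone over the system `X_i ×_{S_i} S` with vertex `X`. -/
noncomputable def fibCone : Cone (fibSys φ cS ι) where
  pt := Over.mk (f ≫ ι)
  π :=
    { app := fun i => Over.homMk (pullback.lift (cX.π.app i) f (hf i)) (by simp [fibSys])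
      naturality := fun i j m => by
        ext
        apply pullback.hom_ext <;> simp [fibSys] }

include hf in
/-- `X = lim X_i ×_{S_i} S` as schemes. -/
theorem nonempty_isLimit_mapCone_fibCone [IsDirected I (· ≤ ·)] [Nonempty I]
    (hcX : IsLimit cX) (hcS : IsLimit cS) :
    Nonempty (IsLimit ((Over.forget S₀).mapCone (fibCone φ cX cS f hf ι))) := by
  refine ⟨?_⟩
  -- all the second projections of a cone agree
  have hsnd : ∀ (s : Cone (fibSys φ cS ι ⋙ Over.forget S₀)) (i j : Iᵒᵖ),
      s.π.app i ≫ pullback.snd (φ.app i) (cS.π.app i) =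
        s.π.app j ≫ pullback.snd (φ.app j) (cS.π.app j) := by
    intro s i j
    obtain ⟨k, hi, hj⟩ := exists_ge_ge i.unop j.unop
    have e1 := s.w (homOfLE hi).op
    have e2 := s.w (homOfLE hj).op
    have e1' : s.π.app (op k) ≫ fibMap φ cS (homOfLE hi).op = s.π.app i := e1
    have e2' : s.π.app (op k) ≫ fibMap φ cS (homOfLE hj).op = s.π.app j := e2
    rw [← e1', ← e2', Category.assoc, Category.assoc, fibMap_snd, fibMap_snd]
  let cone1 : ∀ s : Cone (fibSys φ cS ι ⋙ Over.forget S₀), Cone DX := fun s =>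
    { pt := s.pt
      π :=
        { app := fun i => s.π.app i ≫ pullback.fst (φ.app i) (cS.π.app i)
          naturality := fun i j m => by
            have e := s.w m
            have e' : s.π.app i ≫ fibMap φ cS m = s.π.app j := e
            simp only [Functor.const_obj_obj, Functor.const_obj_map, Category.id_comp]
            rw [← e', Category.assoc, fibMap_fst, Category.assoc] } }
  refine
    { lift := fun s => hcX.lift (cone1 s)
      fac := fun s i => ?_
      uniq := fun s m hm => ?_ }
  · show hcX.lift (cone1 s) ≫ pullback.lift (cX.π.app i) f (hf i) = s.π.app i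
    apply pullback.hom_ext
    · rw [Category.assoc, pullback.lift_fst, hcX.fac]
    · rw [Category.assoc, pullback.lift_snd]
      refine hcS.hom_ext (fun j => ?_)
      rw [Category.assoc, ← hf j, ← Category.assoc, hcX.fac, hsnd s i j, Category.assoc,
        Category.assoc, pullback.condition]
  · refine hcX.uniq (cone1 s) m (fun i => ?_)
    have := hm i
    have e : m ≫ pullback.lift (cX.π.app i) f (hf i) = s.π.app i := this
    show m ≫ cX.π.app i = s.π.app i ≫ pullback.fst _ _
    rw [← e, Category.assoc, pullback.lift_fst]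

include hf in
/-- `X = lim X_i ×_{S_i} S` as schemes over `S₀`. -/
theorem nonempty_isLimit_fibCone [IsDirected I (· ≤ ·)] [Nonempty I]
    (hcX : IsLimit cX) (hcS : IsLimit cS) :
    Nonempty (IsLimit (fibCone φ cX cS f hf ι)) := by
  haveI : IsConnected Iᵒᵖ := IsCofiltered.isConnected _
  obtain ⟨h⟩ := nonempty_isLimit_mapCone_fibCone φ cX cS f hf ι hcX hcS
  exact ⟨isLimitOfReflects (Over.forget S₀) h⟩

/-- The transition maps of the system `X_i ×_{S_i} S` are affine. -/
lemma isAffineHom_fibMap {i j : Iᵒᵖ} (m : i ⟶ j) [IsAffineHom (DX.map m)]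
    [IsSeparated (DS.map m)] : IsAffineHom (fibMap φ cS m) := by
  have e : fibMap φ cS m = pullback.mapDesc (φ.app i) (cS.π.app i) (DS.map m) ≫
      pullback.map (φ.app i ≫ DS.map m) (cS.π.app i ≫ DS.map m) (φ.app j) (cS.π.app j)
        (DX.map m) (𝟙 _) (𝟙 _) (by rw [Category.comp_id]; exact (φ.naturality m).symm)
        (by rw [Category.comp_id, Category.id_comp, cS.w]) := by
    apply pullback.hom_ext <;> simp [fibMap, pullback.mapDesc]
  rw [e]
  have h2 : IsAffineHom (pullback.map (φ.app i ≫ DS.map m) (cS.π.app i ≫ DS.map m) (φ.app j)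
      (cS.π.app j) (DX.map m) (𝟙 _) (𝟙 _) (by rw [Category.comp_id]; exact (φ.naturality m).symm)
        (by rw [Category.comp_id, Category.id_comp, cS.w])) :=
    MorphismProperty.pullbackMap (P := @IsAffineHom) (inferInstance : IsAffineHom (DX.map m))
      (inferInstance : IsAffineHom (𝟙 cS.pt)) (φ.naturality m).symm
      (by rw [Category.id_comp, cS.w])
  infer_instance

end Groth.Agent.Lib.Helper12.FibSys
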