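import Mathlib
import Groth.Agent.Lib.Helper12.ApproxWrap

universe u

open CategoryTheory Limits AlgebraicGeometry TopologicalSpace Opposite

set_option backward.isDefEq.respectTransparency false
set_option linter.style.haveILetI false

namespace Groth.Agent.Lib.Helper12.ApproxHom

open Groth.Agent.Lib.Helper12.ApproxWrap

variable {A B : Type u} [Preorder A] [Preorder B]
  (DX : Aᵒᵖ ⥤ Scheme.{u}) (DS : Bᵒᵖ ⥤ Scheme.{u})
  (cX : Cone DX) (cS : Cone DS) (f : cX.pt ⟶ cS.pt)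

/-- Triples `(a, b, g : X_a ⟶ S_b)` compatible with `f : X ⟶ S`. -/
structure Tr where
  /-- index of the source -/
  a : A
  /-- index of the target -/
  b : B
  /-- the approximating morphism -/
  g : DX.obj (op a) ⟶ DS.obj (op b)
  comm : cX.π.app (op a) ≫ g = f ≫ cS.π.app (op b)

instance : Preorder (Tr DX DS cX cS f) where
  le t t' := ∃ (ha : t.a ≤ t'.a) (hb : t.b ≤ t'.b),
    DX.map (homOfLE ha).op ≫ t.g = t'.g ≫ DS.map (homOfLE hb).op
  le_refl t := ⟨le_rfl, le_rfl, by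
    rw [show (homOfLE (le_refl t.a)).op = 𝟙 _ from rfl, show (homOfLE (le_refl t.b)).op = 𝟙 _ from rfl,
      DX.map_id, DS.map_id, Category.id_comp, Category.comp_id]⟩
  le_trans t t' t'' := by
    rintro ⟨ha, hb, h⟩ ⟨ha', hb', h'⟩
    refine ⟨ha.trans ha', hb.trans hb', ?_⟩
    rw [show (homOfLE (ha.trans ha')).op = (homOfLE ha').op ≫ (homOfLE ha).op from rfl,
      show (homOfLE (hb.trans hb')).op = (homOfLE hb').op ≫ (homOfLE hb).op from rfl,
      DX.map_comp, DS.map_comp, Category.assoc, h, ← Category.assoc, h', Category.assoc]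

variable {DX DS cX cS f}

lemma Tr.le_def {t t' : Tr DX DS cX cS f} : t ≤ t' ↔ ∃ (ha : t.a ≤ t'.a) (hb : t.b ≤ t'.b),
    DX.map (homOfLE ha).op ≫ t.g = t'.g ≫ DS.map (homOfLE hb).op := Iff.rfl

variable (DX DS cX cS f)

/-- The canonical natural transformation to the constant diagram on `Spec ℤ`. -/
noncomputable def toZ {J : Type u} [Category.{u} J] (D : J ⥤ Scheme.{u}) :
    D ⟶ (Functor.const J).obj (Spec (.of (ULift.{u} ℤ))) where
  app j := specULiftZIsTerminal.from (D.obj j)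
  naturality _ _ _ := specULiftZIsTerminal.hom_ext _ _

section

variable [IsDirected A (· ≤ ·)] [Nonempty A]
  [∀ {i j : Aᵒᵖ} (m : i ⟶ j), IsAffineHom (DX.map m)]
  (hX : ∀ a, CompactSpace (DX.obj a) ∧ LocallyOfFiniteType (specULiftZIsTerminal.from (DX.obj a)))
  (hS : ∀ b, LocallyOfFiniteType (specULiftZIsTerminal.from (DS.obj b)))
  (hcX : IsLimit cX)

include hX hS hcX in
/-- Existence: every morphism from the limit to a stage `S_b` factors through a stage `X_a`. -/
lemma exists_tr (b : B) : ∃ t : Tr DX DS cX cS f, t.b = b := by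
  haveI : ∀ a, CompactSpace (DX.obj a) := fun a => (hX a).1
  haveI : ∀ a, QuasiSeparatedSpace (DX.obj a) := fun a => by
    haveI := (hX a).2
    exact quasiSeparatedSpace_of_lft
  haveI : LocallyOfFinitePresentation (specULiftZIsTerminal.from (DS.obj (op b))) := by
    rw [LocallyOfFinitePresentation.iff_locallyOfFiniteType]
    exact hS _
  obtain ⟨a, g, hg, -⟩ := Scheme.exists_π_app_comp_eq_of_locallyOfFinitePresentation DX (toZ DX)
    (specULiftZIsTerminal.from (DS.obj (op b))) cX hcX (f ≫ cS.π.app (op b))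
    (by ext j : 2; exact specULiftZIsTerminal.hom_ext _ _)
  exact ⟨⟨a.unop, b, g, hg⟩, rfl⟩

include hX hS hcX in
/-- Uniqueness: two factorizations through stages agree after passing to a larger stage. -/
lemma exists_eq {a : A} {b : B} (g g' : DX.obj (op a) ⟶ DS.obj (op b))
    (h : cX.π.app (op a) ≫ g = cX.π.app (op a) ≫ g') :
    ∃ (a' : A) (ha : a ≤ a'), DX.map (homOfLE ha).op ≫ g = DX.map (homOfLE ha).op ≫ g' := by
  haveI : ∀ a, CompactSpace (DX.obj a) := fun a => (hX a).1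
  haveI := hS (op b)
  obtain ⟨k, hk, e⟩ := Scheme.exists_hom_comp_eq_comp_of_locallyOfFiniteType DX (toZ DX)
    (specULiftZIsTerminal.from (DS.obj (op b))) cX hcX g g'
    (specULiftZIsTerminal.hom_ext _ _) (specULiftZIsTerminal.hom_ext _ _) h
  exact ⟨k.unop, leOfHom hk.unop, e⟩

include hX hS hcX in
lemma exists_tr_ge [IsDirected B (· ≤ ·)] (t t' : Tr DX DS cX cS f) :
    ∃ t'' : Tr DX DS cX cS f, t ≤ t'' ∧ t' ≤ t'' := by
  obtain ⟨b, hb, hb'⟩ := exists_ge_ge t.b t'.b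
  obtain ⟨t₀, rfl⟩ := exists_tr DX DS cX cS f hX hS hcX b
  obtain ⟨a₁, h1, h1', h1''⟩ := directed_of₃ (· ≤ ·) t.a t'.a t₀.a
  -- compare on `t.b`
  obtain ⟨a₂, h2, e2⟩ := exists_eq DX DS cX hX hS hcX
    (DX.map (homOfLE h1).op ≫ t.g) (DX.map (homOfLE h1'').op ≫ t₀.g ≫ DS.map (homOfLE hb).op) (by
      rw [cX.w_assoc, cX.w_assoc, t.comm, reassoc_of% t₀.comm, cS.w])
  obtain ⟨a₃, h3, e3⟩ := exists_eq DX DS cX hX hS hcX
    (DX.map (homOfLE h1').op ≫ t'.g) (DX.map (homOfLE h1'').op ≫ t₀.g ≫ DS.map (homOfLE hb').op) (by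
      rw [cX.w_assoc, cX.w_assoc, t'.comm, reassoc_of% t₀.comm, cS.w])
  obtain ⟨a₄, h4, h4'⟩ := exists_ge_ge a₂ a₃
  have k0 : t₀.a ≤ a₄ := h1''.trans (h2.trans h4)
  refine ⟨⟨a₄, t₀.b, DX.map (homOfLE k0).op ≫ t₀.g, ?_⟩, ⟨h1.trans (h2.trans h4), hb, ?_⟩,
    ⟨h1'.trans (h3.trans h4'), hb', ?_⟩⟩
  · rw [cX.w_assoc, t₀.comm]
  · have := congrArg (fun q => DX.map (homOfLE h4).op ≫ q) e2
    simp only [← Category.assoc, ← DX.map_comp] at this
    simp only [Category.assoc] at this ⊢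
    exact this
  · have := congrArg (fun q => DX.map (homOfLE h4').op ≫ q) e3
    simp only [← Category.assoc, ← DX.map_comp] at this
    simp only [Category.assoc] at this ⊢
    exact this

include hX hS hcX in
lemma isDirected_tr [IsDirected B (· ≤ ·)] : IsDirected (Tr DX DS cX cS f) (· ≤ ·) :=
  ⟨fun t t' => exists_tr_ge DX DS cX cS f hX hS hcX t t'⟩

include hX hS hcX in
lemma nonempty_tr [Nonempty B] : Nonempty (Tr DX DS cX cS f) := by
  obtain ⟨b⟩ := ‹Nonempty B›
  obtain ⟨t, -⟩ := exists_tr DX DS cX cS f hX hS hcX b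
  exact ⟨t⟩

/-- Enlarging the source index of a triple. -/
def Tr.up (t : Tr DX DS cX cS f) {a' : A} (h : t.a ≤ a') : Tr DX DS cX cS f where
  a := a'
  b := t.b
  g := DX.map (homOfLE h).op ≫ t.g
  comm := by rw [cX.w_assoc, t.comm]

lemma Tr.le_up (t : Tr DX DS cX cS f) {a' : A} (h : t.a ≤ a') : t ≤ t.up DX DS cX cS f h :=
  ⟨h, le_rfl, by
    have h1 : DS.map (homOfLE (le_refl t.b)).op = 𝟙 _ := DS.map_id _
    exact (Category.comp_id _).symm.trans (congrArg _ h1.symm)⟩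

end

/-- The projection to the source index. -/
def projA : (Tr DX DS cX cS f)ᵒᵖ ⥤ Aᵒᵖ where
  obj t := op t.unop.a
  map m := (homOfLE (leOfHom m.unop).1).op
  map_id _ := rfl
  map_comp _ _ := rfl

/-- The projection to the target index. -/
def projB : (Tr DX DS cX cS f)ᵒᵖ ⥤ Bᵒᵖ where
  obj t := op t.unop.b
  map m := (homOfLE (leOfHom m.unop).2.1).op
  map_id _ := rfl
  map_comp _ _ := rfl

/-- The compatible family of morphisms. -/
def phi : projA DX DS cX cS f ⋙ DX ⟶ projB DX DS cX cS f ⋙ DS where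
  app t := t.unop.g
  naturality _ _ m := (leOfHom m.unop).2.2

section

variable [IsDirected A (· ≤ ·)] [Nonempty A] [IsDirected B (· ≤ ·)] [Nonempty B]
  [∀ {i j : Aᵒᵖ} (m : i ⟶ j), IsAffineHom (DX.map m)]
  (hX : ∀ a, CompactSpace (DX.obj a) ∧ LocallyOfFiniteType (specULiftZIsTerminal.from (DX.obj a)))
  (hS : ∀ b, LocallyOfFiniteType (specULiftZIsTerminal.from (DS.obj b)))
  (hcX : IsLimit cX)

include hX hS hcX in
lemma initial_projA : (projA DX DS cX cS f).Initial := by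
  haveI := isDirected_tr DX DS cX cS f hX hS hcX
  haveI := nonempty_tr DX DS cX cS f hX hS hcX
  refine Functor.initial_of_exists_of_isCofiltered _ (fun d => ?_) (fun {d c} s s' => ?_)
  · obtain ⟨t₀⟩ := nonempty_tr DX DS cX cS f hX hS hcX
    obtain ⟨a', h1, h2⟩ := exists_ge_ge t₀.a d.unop
    exact ⟨op (t₀.up DX DS cX cS f h1), ⟨(homOfLE h2).op⟩⟩
  · exact ⟨c, 𝟙 _, Subsingleton.elim _ _⟩

include hX hS hcX in
lemma initial_projB : (projB DX DS cX cS f).Initial := by
  haveI := isDirected_tr DX DS cX cS f hX hS hcX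
  haveI := nonempty_tr DX DS cX cS f hX hS hcX
  refine Functor.initial_of_exists_of_isCofiltered _ (fun d => ?_) (fun {d c} s s' => ?_)
  · obtain ⟨t, ht⟩ := exists_tr DX DS cX cS f hX hS hcX d.unop
    exact ⟨op t, ⟨(homOfLE ht.ge).op⟩⟩
  · exact ⟨c, 𝟙 _, Subsingleton.elim _ _⟩

end

end Groth.Agent.Lib.Helper12.ApproxHom
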