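import Mathlib
import Groth.Agent.Lib.Helper12.ApproxWrap

universe u

open CategoryTheory Limits AlgebraicGeometry TopologicalSpace Opposite

set_option backward.isDefEq.respectTransparency false
set_option linter.style.haveILetI false

namespace Groth.Agent.Lib.Helper12.ApproxMain

open Groth.Agent.Lib.Helper12.ApproxWrap

/-- A Noetherian approximation of the open `T ⊇ V` of `S` extending a given approximation
`V = lim DV` of the open `V`. -/
def Rel {S : Scheme.{u}} (V : S.Opens) {I : Type u} [Preorder I] (DV : Iᵒᵖ ⥤ Scheme.{u})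
    (πV : (Functor.const Iᵒᵖ).obj (V : Scheme.{u}) ⟶ DV) (T : S.Opens) : Prop :=
  ∃ (hVT : V ≤ T) (J : Type u) (_ : Preorder J) (_ : IsDirected J (· ≤ ·)) (_ : Nonempty J)
    (DS : Jᵒᵖ ⥤ Scheme.{u}) (π : (Functor.const Jᵒᵖ).obj (T : Scheme.{u}) ⟶ DS)
    (_ : IsLimit ({ pt := T, π := π } : Cone DS))
    (α : J →o I) (ι₁ : ∀ j : J, DV.obj (op (α j)) ⟶ DS.obj (op j)),
    (∀ (j j' : Jᵒᵖ) (m : j ⟶ j'), IsAffineHom (DS.map m)) ∧
    (∀ j, CompactSpace (DS.obj j) ∧
      LocallyOfFiniteType (specULiftZIsTerminal.from (DS.obj j))) ∧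
    (∀ j, IsOpenImmersion (ι₁ j)) ∧
    (∀ (j j' : J) (h : j' ≤ j), IsPullback (DV.map (homOfLE (α.mono h)).op) (ι₁ j) (ι₁ j')
      (DS.map (homOfLE h).op)) ∧
    (∀ j : J, IsPullback (πV.app (op (α j))) (S.homOfLE hVT) (ι₁ j) (π.app (op j)))

/-- **Absolute Noetherian approximation relative to a quasi-compact open** (Stacks 01ZA, 07RN):
a presentation of a quasi-compact open `V` of a qcqs scheme `S` as a directed limit of schemes of
finite type over `ℤ` with affine transition maps extends to such a presentation of `S`. -/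
theorem rel_top {S : Scheme.{u}} [CompactSpace S] [QuasiSeparatedSpace S] (V : S.Opens)
    (hV : IsCompact (V : Set S))
    {I : Type u} [Preorder I] [IsDirected I (· ≤ ·)] [Nonempty I]
    (DV : Iᵒᵖ ⥤ Scheme.{u}) [∀ {i i' : Iᵒᵖ} (m : i ⟶ i'), IsAffineHom (DV.map m)]
    (hD : ∀ i, CompactSpace (DV.obj i) ∧
      LocallyOfFiniteType (specULiftZIsTerminal.from (DV.obj i)))
    (πV : (Functor.const Iᵒᵖ).obj (V : Scheme.{u}) ⟶ DV)
    (hcV : IsLimit ({ pt := V, π := πV } : Cone DV)) : Rel V DV πV ⊤ := by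
  have key : ∀ T : S.Opens, IsCompact (T : Set S) → ∀ T', T' = V ⊔ T → Rel V DV πV T' := by
    intro T hT
    refine compact_open_induction_on (P := fun T => ∀ T', T' = V ⊔ T → Rel V DV πV T') T hT ?_ ?_
    · intro T' hT'
      rw [sup_bot_eq] at hT'
      subst hT'
      refine ⟨le_rfl, I, inferInstance, inferInstance, inferInstance, DV, πV, hcV, OrderHom.id,
        fun j => 𝟙 _, fun _ _ m => inferInstance, hD, fun j => inferInstance, fun j j' h => ?_,
        fun j => ?_⟩
      · exact IsPullback.of_vert_isIso ⟨by simp⟩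
      · haveI : IsIso (S.homOfLE (le_refl T')) := by
          rw [Scheme.homOfLE_rfl]; infer_instance
        refine IsPullback.of_vert_isIso ⟨?_⟩
        rw [Scheme.homOfLE_rfl]
        exact (Category.comp_id _).trans (Category.id_comp _).symm
    · intro T hT U ih T'' hT''
      obtain ⟨hVT, J, iJ1, iJ2, iJ3, DS, π, hlim, α, ι₁, P1, P2, P3, P4, P5⟩ := ih (V ⊔ T) rfl
      have hT3 : T'' = (V ⊔ T) ⊔ U.1 := by rw [hT'', sup_assoc]
      subst hT3
      haveI : ∀ {j j' : Jᵒᵖ} (m : j ⟶ j'), IsAffineHom (DS.map m) := fun m => P1 _ _ m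
      have hc : IsCompact (((V ⊔ T) ⊓ U.1 : S.Opens) : Set S) := by
        rw [Opens.coe_inf, Opens.coe_sup]
        exact QuasiSeparatedSpace.inter_isCompact _ _ ((V.2.union T.2)) (hV.union hT) U.1.2
          U.2.isCompact
      obtain ⟨J', iK1, iK2, iK3, DS', π', hlim', α', ι₁', Q1, Q2, Q3, Q4, Q5⟩ :=
        step ((V ⊔ T) ⊔ U.1) (V ⊔ T) U.1 le_sup_left le_sup_right U.2
          (fun x hx => hx) hc DS P2 π hlim
      haveI := Q3
      haveI := P3
      refine ⟨le_sup_left.trans le_sup_left, J', iK1, iK2, iK3, DS', π', hlim', α.comp α',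
        fun j => ι₁ (α' j) ≫ ι₁' j, Q1, Q2, fun j => inferInstance, fun j j' h => ?_, fun j => ?_⟩
      · exact (P4 (α' j) (α' j') (α'.mono h)).paste_vert (Q4 j j' h)
      · have := (P5 (α' j)).paste_vert (Q5 j)
        rw [Scheme.homOfLE_homOfLE] at this
        exact this
  exact key ⊤ isCompact_univ ⊤ (by simp)

end Groth.Agent.Lib.Helper12.ApproxMain
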