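import Mathlib
import Groth.Agent.Lib.Helper12.FibSys
import Groth.Agent.Lib.Helper12.ApproxWrap
import Groth.Agent.S7384

universe u

open CategoryTheory Limits AlgebraicGeometry TopologicalSpace Opposite

set_option backward.isDefEq.respectTransparency false
set_option linter.style.haveILetI false

namespace Groth.Agent.Lib.Helper12.ApproxOver

open Groth.Agent.Lib.Helper12.FibSys

lemma exists_compact_open_range_le {X S : Scheme.{u}} (f : X ⟶ S) [CompactSpace X] :
    ∃ S' : S.Opens, IsCompact (S' : Set S) ∧ Set.range f ⊆ S' := by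
  have hc : IsCompact (Set.range f) := isCompact_range f.continuous
  obtain ⟨t, ht⟩ := hc.elim_finite_subcover (fun U : S.affineOpens => (U.1 : Set S))
    (fun U => U.1.2) (fun x _ => by
      obtain ⟨U, hU, hxU, -⟩ := Opens.isBasis_iff_nbhd.mp S.isBasis_affineOpens
        (show x ∈ (⊤ : S.Opens) from trivial)
      exact Set.mem_iUnion.mpr ⟨⟨U, hU⟩, hxU⟩)
  refine ⟨⨆ U ∈ t, U.1, ?_, ?_⟩
  · have : ((⨆ U ∈ t, U.1 : S.Opens) : Set S) = ⋃ U ∈ t, (U.1 : Set S) := by
      simp
    rw [this]
    exact t.isCompact_biUnion (fun U _ => U.2.isCompact)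
  · intro x hx
    have := ht hx
    simpa using this

/-- The morphisms between schemes of finite type over `ℤ` are of finite presentation. -/
lemma lfp_of_lft_int {X Y : Scheme.{u}} (g : X ⟶ Y)
    [LocallyOfFiniteType (specULiftZIsTerminal.from X)]
    [LocallyOfFiniteType (specULiftZIsTerminal.from Y)] : LocallyOfFinitePresentation g := by
  haveI : IsLocallyNoetherian Y :=
    LocallyOfFiniteType.isLocallyNoetherian (specULiftZIsTerminal.from Y)
  rw [LocallyOfFinitePresentation.iff_locallyOfFiniteType]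
  haveI : LocallyOfFiniteType (g ≫ specULiftZIsTerminal.from Y) := by
    rw [show g ≫ specULiftZIsTerminal.from Y = specULiftZIsTerminal.from X from
      specULiftZIsTerminal.hom_ext _ _]
    infer_instance
  exact locallyOfFiniteType_of_comp g (specULiftZIsTerminal.from Y)

/-- **Relative approximation** (Stacks 09MV): a morphism `f : X ⟶ S` with `X` qcqs and `S`
quasi-separated is, in `Over S`, a directed limit with affine transition maps of qcqs schemes of
finite presentation over `S`. -/
theorem exists_approx_over {X S : Scheme.{u}} (f : X ⟶ S)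
    [CompactSpace X] [QuasiSeparatedSpace X] [QuasiSeparatedSpace S] :
    ∃ (I : Type u) (_ : Preorder I) (_ : IsDirected I (· ≤ ·)) (_ : Nonempty I)
      (D : Iᵒᵖ ⥤ Over S) (π : (Functor.const Iᵒᵖ).obj (Over.mk f) ⟶ D)
      (_ : IsLimit ({ pt := Over.mk f, π := π } : Cone D))
      (_ : IsLimit ((Over.forget S).mapCone ({ pt := Over.mk f, π := π } : Cone D))),
      (∀ i, LocallyOfFinitePresentation (D.obj i).hom ∧ QuasiCompact (D.obj i).hom ∧
        QuasiSeparated (D.obj i).hom ∧ CompactSpace (D.obj i).left ∧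
        QuasiSeparatedSpace (D.obj i).left) ∧
      (∀ (i j : Iᵒᵖ) (a : i ⟶ j), IsAffineHom (D.map a).left) := by
  classical
  obtain ⟨S', hS'c, hS'r⟩ := exists_compact_open_range_le f
  haveI : CompactSpace (S' : Scheme.{u}) := isCompact_iff_compactSpace.mp hS'c
  haveI : QuasiSeparatedSpace (S' : Scheme.{u}) := S'.ι.isOpenEmbedding.quasiSeparatedSpace
  let f'' : X ⟶ (S' : Scheme.{u}) := IsOpenImmersion.lift S'.ι f (by
    rw [Scheme.Opens.range_ι]; exact hS'r)
  have hf'' : f'' ≫ S'.ι = f := IsOpenImmersion.lift_fac _ _ _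
  obtain ⟨I, iI1, iI2, iI3, DX, DS, φ, cX, cS, hcX, hcS, eX, eS, haff, hft, hcomm⟩ :=
    Groth.Agent.S7384.result f''
  let f' : cX.pt ⟶ cS.pt := eX.hom ≫ f'' ≫ eS.inv
  have hf : ∀ i, cX.π.app i ≫ φ.app i = f' ≫ cS.π.app i := fun i => by
    rw [hcomm i]; simp only [f', Category.assoc]
  let ι : cS.pt ⟶ S := eS.hom ≫ S'.ι
  obtain ⟨hlim⟩ := nonempty_isLimit_fibCone φ cX cS f' hf ι hcX hcS
  obtain ⟨hlim'⟩ := nonempty_isLimit_mapCone_fibCone φ cX cS f' hf ι hcX hcS
  haveI : QuasiCompact S'.ι := by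
    haveI : CompactSpace (S' : Scheme.{u}) := isCompact_iff_compactSpace.mp hS'c
    infer_instance
  have hw : eX.hom ≫ f = f' ≫ ι := by
    simp only [f', ι, Category.assoc, Iso.inv_hom_id_assoc, hf'']
  let E : (fibCone φ cX cS f' hf ι).pt ≅ Over.mk f := Over.isoMk eX hw
  have hlimE : IsLimit ((fibCone φ cX cS f' hf ι).extend E.inv) := IsLimit.extendIso E.inv hlim
  haveI : HasLimit (fibSys φ cS ι ⋙ Over.forget S) := HasLimit.mk ⟨_, hlim'⟩
  haveI : IsConnected Iᵒᵖ := IsCofiltered.isConnected _
  haveI : PreservesLimit (fibSys φ cS ι) (Over.forget S) :=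
    preservesLimit_of_createsLimit_and_hasLimit _ _
  refine ⟨I, iI1, iI2, iI3, fibSys φ cS ι, ((fibCone φ cX cS f' hf ι).extend E.inv).π, hlimE,
    isLimitOfPreserves (Over.forget S) hlimE, ?_, ?_⟩
  · intro i
    haveI := (hft i).1
    haveI := (hft i).2.1
    haveI := (hft i).2.2.1
    haveI := (hft i).2.2.2
    haveI : LocallyOfFinitePresentation (φ.app i) := lfp_of_lft_int _
    haveI : QuasiSeparatedSpace (DS.obj i) :=
      Groth.Agent.Lib.Helper12.ApproxWrap.quasiSeparatedSpace_of_lft
    haveI : QuasiSeparatedSpace (DX.obj i) :=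
      Groth.Agent.Lib.Helper12.ApproxWrap.quasiSeparatedSpace_of_lft
    haveI : QuasiCompact (φ.app i) := inferInstance
    haveI : QuasiSeparated (φ.app i) := inferInstance
    haveI : CompactSpace cS.pt := ⟨by
      have := eS.inv.homeomorph.isCompact_image.mpr (isCompact_univ)
      rwa [Set.image_univ, Set.range_eq_univ.mpr eS.inv.homeomorph.surjective] at this⟩
    haveI : QuasiSeparatedSpace cS.pt := eS.hom.homeomorph.isOpenEmbedding.quasiSeparatedSpace
    refine ⟨?_, ?_, ?_, ?_, ?_⟩
    · show LocallyOfFinitePresentation (pullback.snd (φ.app i) (cS.π.app i) ≫ eS.hom ≫ S'.ι)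
      infer_instance
    · show QuasiCompact (pullback.snd (φ.app i) (cS.π.app i) ≫ eS.hom ≫ S'.ι)
      infer_instance
    · show QuasiSeparated (pullback.snd (φ.app i) (cS.π.app i) ≫ eS.hom ≫ S'.ι)
      infer_instance
    · show CompactSpace ↥(pullback (φ.app i) (cS.π.app i))
      exact QuasiCompact.compactSpace_of_compactSpace (Y := cS.pt)
        (pullback.snd (φ.app i) (cS.π.app i))
    · show QuasiSeparatedSpace ↥(pullback (φ.app i) (cS.π.app i))
      exact quasiSeparatedSpace_of_quasiSeparated (Y := cS.pt)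
        (pullback.snd (φ.app i) (cS.π.app i))
  · intro i j a
    haveI := (haff i j a).1
    haveI := (haff i j a).2
    show IsAffineHom (fibMap φ cS a)
    exact isAffineHom_fibMap φ cS a

end Groth.Agent.Lib.Helper12.ApproxOver
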