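import Mathlib
import Groth.Agent.Lib.Helper12.ConsPropNoeth

/-!
# Topology of the fibres of a morphism and base change

The closure of a subset inside a fibre, and its compatibility with base change (the map of
fibres induced by a base change is a base change of an extension of fields, hence open and
surjective).
-/

set_option autoImplicit false
universe u
open AlgebraicGeometry CategoryTheory CategoryTheory.Limits TopologicalSpace Topology

namespace Groth.Agent.Lib.Helper12.FibreTop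

open Groth.Agent.Lib.Helper12.ConsPropNoeth

set_option backward.isDefEq.respectTransparency false

/-- Closure of the trace of `T` inside the fibre over `s`. -/
def fcl {X S : Scheme.{u}} (f : X ⟶ S) (s : S) (T : Set X) : Set X :=
  closure (T ∩ f ⁻¹' {s}) ∩ f ⁻¹' {s}

theorem fcl_subset_fibre {X S : Scheme.{u}} (f : X ⟶ S) (s : S) (T : Set X) :
    fcl f s T ⊆ f ⁻¹' {s} := Set.inter_subset_right

theorem subset_fcl {X S : Scheme.{u}} (f : X ⟶ S) (s : S) (T : Set X) :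
    T ∩ f ⁻¹' {s} ⊆ fcl f s T := fun _ hx => ⟨subset_closure hx, hx.2⟩

theorem fcl_inter_fibre {X S : Scheme.{u}} (f : X ⟶ S) (s : S) (T : Set X) :
    fcl f s (T ∩ f ⁻¹' {s}) = fcl f s T := by
  unfold fcl
  rw [Set.inter_assoc, Set.inter_self]

/-- The four relations. -/
def RDense {X S : Scheme.{u}} (f : X ⟶ S) (Z Z' : Set X) (s : S) : Prop :=
  Z' ∩ f ⁻¹' {s} ⊆ closure (Z ∩ f ⁻¹' {s})

def RClosed {X S : Scheme.{u}} (f : X ⟶ S) (Z : Set X) (s : S) : Prop :=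
  IsClosed (Subtype.val ⁻¹' Z : Set ↥(f ⁻¹' {s}))

def ROpen {X S : Scheme.{u}} (f : X ⟶ S) (Z : Set X) (s : S) : Prop :=
  IsOpen (Subtype.val ⁻¹' Z : Set ↥(f ⁻¹' {s}))

def RLC {X S : Scheme.{u}} (f : X ⟶ S) (Z : Set X) (s : S) : Prop :=
  IsLocallyClosed (Subtype.val ⁻¹' Z : Set ↥(f ⁻¹' {s}))

theorem rDense_iff {X S : Scheme.{u}} (f : X ⟶ S) (Z Z' : Set X) (s : S) :
    RDense f Z Z' s ↔ Z' ∩ f ⁻¹' {s} ⊆ fcl f s Z :=
  ⟨fun h x hx => ⟨h hx, hx.2⟩, fun h x hx => (h hx).1⟩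

theorem closure_val_preimage {X : Type*} [TopologicalSpace X] (F Z : Set X) :
    closure (Subtype.val ⁻¹' Z : Set ↥F) = Subtype.val ⁻¹' (closure (Z ∩ F)) := by
  rw [Topology.IsInducing.subtypeVal.closure_eq_preimage_closure_image,
    Subtype.image_preimage_coe, Set.inter_comm]

theorem rClosed_iff {X S : Scheme.{u}} (f : X ⟶ S) (Z : Set X) (s : S) :
    RClosed f Z s ↔ fcl f s Z ⊆ Z := by
  unfold RClosed
  rw [← closure_subset_iff_isClosed, closure_val_preimage]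
  constructor
  · rintro h x ⟨hx1, hx2⟩
    exact h (a := ⟨x, hx2⟩) hx1
  · rintro h ⟨x, hx2⟩ hx1
    exact h ⟨hx1, hx2⟩

theorem rOpen_iff {X S : Scheme.{u}} (f : X ⟶ S) (Z : Set X) (s : S) :
    ROpen f Z s ↔ RClosed f Zᶜ s := by
  unfold ROpen RClosed
  rw [Set.preimage_compl, isClosed_compl_iff]

theorem rClosed_inter_fibre {X S : Scheme.{u}} (f : X ⟶ S) (Z : Set X) (s : S) :
    RClosed f (Z ∩ f ⁻¹' {s}) s ↔ RClosed f Z s := by
  unfold RClosed
  have : (Subtype.val ⁻¹' (Z ∩ f ⁻¹' {s}) : Set ↥(f ⁻¹' {s})) = Subtype.val ⁻¹' Z := by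
    ext ⟨x, hx⟩
    simp only [Set.mem_preimage, Set.mem_inter_iff, and_iff_left_iff_imp]
    exact fun _ => hx
  rw [this]

theorem rLC_iff {X S : Scheme.{u}} (f : X ⟶ S) (Z : Set X) (s : S) :
    RLC f Z s ↔ RClosed f (fcl f s Z \ Z) s := by
  unfold RLC RClosed
  have h01 := (isLocallyClosed_tfae (Subtype.val ⁻¹' Z : Set ↥(f ⁻¹' {s}))).out 0 1
  rw [h01, coborder, isOpen_compl_iff, closure_val_preimage]
  have : (Subtype.val ⁻¹' (fcl f s Z \ Z) : Set ↥(f ⁻¹' {s})) =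
      Subtype.val ⁻¹' closure (Z ∩ f ⁻¹' {s}) \ Subtype.val ⁻¹' Z := by
    ext ⟨x, hx⟩
    simp only [fcl, Set.mem_preimage, Set.mem_diff, Set.mem_inter_iff]
    constructor
    · rintro ⟨⟨h1, -⟩, h2⟩; exact ⟨h1, h2⟩
    · rintro ⟨h1, h2⟩; exact ⟨⟨h1, hx⟩, h2⟩
  rw [this]

section BaseChange

variable {X X' S S' : Scheme.{u}} {f : X ⟶ S} {f' : X' ⟶ S'} {eX : X' ⟶ X} {h : S' ⟶ S}

/-- The map of fibres induced by a base change is open and surjective. -/
theorem exists_fibre_map (hX : IsPullback eX f' f h) (s' : S') :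
    ∃ e : f'.fiber s' ⟶ f.fiber (h s'), IsOpenMap e ∧ Function.Surjective e ∧
      e ≫ f.fiberι (h s') = f'.fiberι s' ≫ eX := by
  obtain ⟨e, he, hcomp⟩ := exists_fibre_isPullback hX s'
  haveI : Surjective (Spec.map (h.residueFieldMap s')) := by
    constructor
    intro x
    refine ⟨⟨⊥, Ideal.isPrime_bot⟩, Subsingleton.elim _ _⟩
  haveI : UniversallyOpen e :=
    MorphismProperty.of_isPullback (P := @UniversallyOpen) he.flip inferInstance
  haveI : Surjective e :=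
    MorphismProperty.of_isPullback (P := @Surjective) he.flip inferInstance
  exact ⟨e, e.isOpenMap, e.surjective, hcomp⟩

theorem image_fibre (hX : IsPullback eX f' f h) (s' : S') :
    eX '' (f' ⁻¹' {s'}) = f ⁻¹' {h s'} := by
  obtain ⟨e, -, hsurj, hcomp⟩ := exists_fibre_map hX s'
  apply Set.Subset.antisymm
  · rintro _ ⟨x', hx', rfl⟩
    show f (eX x') = h s'
    rw [← Scheme.Hom.comp_apply, hX.w, Scheme.Hom.comp_apply, hx']
  · intro x hx
    rw [← f.range_fiberι (h s')] at hx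
    obtain ⟨w, rfl⟩ := hx
    obtain ⟨w', rfl⟩ := hsurj w
    refine ⟨f'.fiberι s' w', ?_, ?_⟩
    · rw [← f'.range_fiberι s']; exact ⟨w', rfl⟩
    · rw [← Scheme.Hom.comp_apply, ← hcomp, Scheme.Hom.comp_apply]

theorem preimage_closure_fiberι {X S : Scheme.{u}} (f : X ⟶ S) (s : S) (T : Set X) :
    (f.fiberι s) ⁻¹' closure (T ∩ f ⁻¹' {s}) = closure ((f.fiberι s) ⁻¹' T) := by
  rw [(f.fiberι s).isEmbedding.isInducing.closure_eq_preimage_closure_image,
    Set.image_preimage_eq_inter_range, f.range_fiberι s]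

/-- Compatibility of the closure in the fibres with base change. -/
theorem fcl_preimage (hX : IsPullback eX f' f h) (s' : S') (T : Set X) :
    fcl f' s' (eX ⁻¹' T) = eX ⁻¹' (fcl f (h s') T) ∩ f' ⁻¹' {s'} := by
  obtain ⟨e, hopen, hsurj, hcomp⟩ := exists_fibre_map hX s'
  have hpre : ∀ A : Set X, (f'.fiberι s') ⁻¹' (eX ⁻¹' A) = e ⁻¹' ((f.fiberι (h s')) ⁻¹' A) := by
    intro A
    ext w
    simp only [Set.mem_preimage]
    rw [← Scheme.Hom.comp_apply, ← Scheme.Hom.comp_apply, hcomp]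
  have key : (f'.fiberι s') ⁻¹' closure (eX ⁻¹' T ∩ f' ⁻¹' {s'}) =
      (f'.fiberι s') ⁻¹' (eX ⁻¹' closure (T ∩ f ⁻¹' {h s'})) := by
    rw [preimage_closure_fiberι, hpre, hpre, preimage_closure_fiberι,
      hopen.preimage_closure_eq_closure_preimage e.continuous]
  ext x'
  simp only [fcl, Set.mem_inter_iff, Set.mem_preimage]
  constructor
  · rintro ⟨h1, h2⟩
    have hx' : x' ∈ Set.range (f'.fiberι s') := by rw [f'.range_fiberι s']; exact h2
    obtain ⟨w, rfl⟩ := hx'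
    have h3 : w ∈ (f'.fiberι s') ⁻¹' closure (eX ⁻¹' T ∩ f' ⁻¹' {s'}) := h1
    rw [key] at h3
    refine ⟨⟨h3, ?_⟩, h2⟩
    have := image_fibre hX s' ▸ Set.mem_image_of_mem eX h2
    exact this
  · rintro ⟨⟨h1, -⟩, h2⟩
    have hx' : x' ∈ Set.range (f'.fiberι s') := by rw [f'.range_fiberι s']; exact h2
    obtain ⟨w, rfl⟩ := hx'
    have h3 : w ∈ (f'.fiberι s') ⁻¹' (eX ⁻¹' closure (T ∩ f ⁻¹' {h s'})) := h1
    rw [← key] at h3
    exact ⟨h3, h2⟩

theorem rClosed_preimage (hX : IsPullback eX f' f h) (Z : Set X) (s' : S') :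
    RClosed f' (eX ⁻¹' Z) s' ↔ RClosed f Z (h s') := by
  rw [rClosed_iff, rClosed_iff, fcl_preimage hX]
  constructor
  · intro H x hx
    have hxF : x ∈ f ⁻¹' {h s'} := fcl_subset_fibre _ _ _ hx
    rw [← image_fibre hX s'] at hxF
    obtain ⟨x', hx', rfl⟩ := hxF
    exact H ⟨hx, hx'⟩
  · rintro H x' ⟨hx1, -⟩
    exact H hx1

theorem rOpen_preimage (hX : IsPullback eX f' f h) (Z : Set X) (s' : S') :
    ROpen f' (eX ⁻¹' Z) s' ↔ ROpen f Z (h s') := by
  rw [rOpen_iff, rOpen_iff, ← Set.preimage_compl, rClosed_preimage hX]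

theorem rDense_preimage (hX : IsPullback eX f' f h) (Z Z' : Set X) (s' : S') :
    RDense f' (eX ⁻¹' Z) (eX ⁻¹' Z') s' ↔ RDense f Z Z' (h s') := by
  rw [rDense_iff, rDense_iff, fcl_preimage hX]
  constructor
  · rintro H x ⟨hx1, hxF⟩
    have hxF' := hxF
    rw [← image_fibre hX s'] at hxF
    obtain ⟨x', hx', rfl⟩ := hxF
    exact (H ⟨hx1, hx'⟩).1
  · rintro H x' ⟨hx1, hx2⟩
    refine ⟨H ⟨hx1, ?_⟩, hx2⟩
    have := image_fibre hX s' ▸ Set.mem_image_of_mem eX hx2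
    exact this

theorem rLC_preimage (hX : IsPullback eX f' f h) (Z : Set X) (s' : S') :
    RLC f' (eX ⁻¹' Z) s' ↔ RLC f Z (h s') := by
  rw [rLC_iff, rLC_iff, ← rClosed_preimage hX, fcl_preimage hX,
    ← rClosed_inter_fibre f' (eX ⁻¹' (fcl f (h s') Z \ Z))]
  have : (eX ⁻¹' fcl f (h s') Z ∩ f' ⁻¹' {s'}) \ eX ⁻¹' Z =
      eX ⁻¹' (fcl f (h s') Z \ Z) ∩ f' ⁻¹' {s'} := by
    ext x
    simp only [Set.mem_diff, Set.mem_inter_iff, Set.mem_preimage]
    tauto
  rw [this]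

end BaseChange

end Groth.Agent.Lib.Helper12.FibreTop
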