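import Mathlib
import Groth.Prelude.Def_Found
import Groth.Prelude.Def_EGA43
import Groth.Agent.Lib.Helper12.FibreDimConstr

/-!
# Helper library (helper12): the set of dimensions of the components of a fibre
-/

set_option autoImplicit false
universe u v
open Polynomial Cardinal AlgebraicGeometry CategoryTheory TopologicalSpace Limits Topology

namespace Groth.Agent.Lib.Helper12.FibreDimConstr

open Groth.Agent.Lib.Helper12.OrdTools Groth.Agent.Lib.Helper12.DimIneq
open Groth.Agent.Lib.Helper12 Groth.Agent.Lib.Helper12.SchemeDimFT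
open Groth.Agent.Lib.Helper12.ChevalleyCor Groth.Agent.Lib.Helper12.SchemeDimIneq
open Groth.Agent.Lib.Helper12.Chevalley
open Groth.Agent.Lib.Helper14 Order Groth.Agent.Lib.Helper12.Equidim
open Groth.Agent.Lib.Helper12.ClosedSub Groth.Agent.Lib.Helper12.JacDim
open Groth.Agent.Lib.Helper12.FibreMax Groth.Agent.Lib.Helper12.EquidimSub
open Groth.Agent.Lib.Helper12.EquidimHyp
open Groth.Agent.Lib.Helper12.OpenFibre Groth.Agent.Lib.Helper12.OpenGen
open Groth.Agent.Lib.Helper12.ConstrNhds

section Dims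

variable {X Y : Scheme.{u}} (f : X ⟶ Y) [LocallyOfFiniteType f]

/-- At a maximal point of a fibre, the local dimension of the fibre is the transcendence
degree. -/
theorem fibreDimAt_eq_trn_of_max (ζ : X) (hmax : ∀ z' : X, f z' = f ζ → z' ⤳ ζ → z' = ζ) :
    FlatMor.fibreDimAt f ζ = ((trn f ζ : ℕ∞) : WithBot ℕ∞) := by
  obtain ⟨t, ht⟩ := exists_trn_eq f ζ
  rw [ht]
  apply le_antisymm
  · have h0 : ((t : ℕ∞) : WithBot ℕ∞) = ((t : ℕ) : WithBot ℕ∞) := rfl
    rw [h0, fibreDimAt_le_iff]
    intro z hz hzw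
    rw [hmax _ hz hzw, ht]
  · have h1 := trn_le_fibreDimAt_of_specializes f ζ ζ rfl specializes_rfl
    rw [ht] at h1
    exact h1

/-- The set of dimensions of the irreducible components of a fibre is the set of local
dimensions of the fibre. -/
theorem mem_dims_iff (z : Y) (e : WithBot ℕ∞) :
    e ∈ (fun Z : Set ↥(f.fiber z) => topologicalKrullDim ↥Z) '' irreducibleComponents ↥(f.fiber z) ↔
      ∃ x : X, f x = z ∧ FlatMor.fibreDimAt f x = e := by
  constructor
  · rintro ⟨C, hC, rfl⟩
    obtain ⟨ζF, hCeq, hfζ, hmax, hdim⟩ :=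
      exists_generic_of_mem_irreducibleComponents_fiber f z C hC
    refine ⟨f.fiberι z ζF, hfζ, ?_⟩
    show _ = topologicalKrullDim ↥C
    rw [hdim]
    exact fibreDimAt_eq_trn_of_max f _ (fun z' h1 h2 => hmax z' (h1.trans hfζ) h2)
  · rintro ⟨x, rfl, rfl⟩
    obtain ⟨ζ, hζ1, hζ2, hζ3⟩ := exists_generization_trn_eq_fibreDimAt f x
    have hζ4 := trn_le_fibreDimAt_of_specializes f x ζ hζ1 hζ2
    have hmax : ∀ z' : X, f z' = f x → z' ⤳ ζ → z' = ζ := by
      intro z' hz' hsp
      by_contra hne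
      have h1 := trn_lt_of_specializes f ζ z' (hz'.trans hζ1.symm) hsp hne
      have h2 := trn_le_fibreDimAt_of_specializes f x z' hz' (hsp.trans hζ2)
      have h3 : ((trn f z' : ℕ∞) : WithBot ℕ∞) ≤ ((trn f ζ : ℕ∞) : WithBot ℕ∞) := h2.trans hζ3
      have h4 : trn f z' ≤ trn f ζ := by exact_mod_cast h3
      exact absurd h1 (not_lt.mpr h4)
    obtain ⟨C, hC, hdim⟩ := exists_component_fiber_of_max f ζ (f x) hζ1 hmax
    refine ⟨C, hC, ?_⟩
    show topologicalKrullDim ↥C = _
    rw [hdim]
    exact le_antisymm hζ4 hζ3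

theorem isClosed_setOf_le_fibreDimAt (d : ℕ) :
    IsClosed {x : X | (d : WithBot ℕ∞) ≤ FlatMor.fibreDimAt f x} := by
  rcases d with _ | m
  · have : {x : X | ((0 : ℕ) : WithBot ℕ∞) ≤ FlatMor.fibreDimAt f x} = Set.univ := by
      ext x
      simp only [Set.mem_setOf_eq, Set.mem_univ, iff_true]
      refine le_trans ?_ (trn_le_fibreDimAt_of_specializes f x x rfl specializes_rfl)
      exact WithBot.coe_le_coe.mpr zero_le
    rw [this]
    exact isClosed_univ
  · have hop := isOpen_setOf_fibreDimAt_le f m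
    have : {x : X | ((m + 1 : ℕ) : WithBot ℕ∞) ≤ FlatMor.fibreDimAt f x} =
        {x : X | FlatMor.fibreDimAt f x ≤ m}ᶜ := by
      ext x
      simp only [Set.mem_setOf_eq, Set.mem_compl_iff]
      exact succ_le_iff_not_le _ _
    rw [this]
    exact hop.isClosed_compl

theorem isLocallyConstructible_setOf_fibreDimAt_eq [IsLocallyNoetherian Y] (d : ℕ) :
    IsLocallyConstructible {x : X | FlatMor.fibreDimAt f x = (d : WithBot ℕ∞)} := by
  haveI : IsLocallyNoetherian X := LocallyOfFiniteType.isLocallyNoetherian f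
  have h1 := isLocallyConstructible_of_isClosed _ (isClosed_setOf_le_fibreDimAt f d)
  have h2 := isLocallyConstructible_compl
    (isLocallyConstructible_of_isClosed _ (isOpen_setOf_fibreDimAt_le f d).isClosed_compl)
  rw [compl_compl] at h2
  have h3 := h1.inter h2
  have : {x : X | FlatMor.fibreDimAt f x = (d : WithBot ℕ∞)} =
      {x : X | (d : WithBot ℕ∞) ≤ FlatMor.fibreDimAt f x} ∩
        {x : X | FlatMor.fibreDimAt f x ≤ d} := by
    ext x
    simp only [Set.mem_setOf_eq, Set.mem_inter_iff]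
    constructor
    · intro h; rw [h]; exact ⟨le_rfl, le_rfl⟩
    · rintro ⟨h1, h2⟩; exact le_antisymm h2 h1
  rw [this]
  exact h3

theorem isLocallyConstructible_setOf_mem_dims [IsLocallyNoetherian Y] [QuasiCompact f] (d : ℕ) :
    IsLocallyConstructible {z : Y | ∃ x : X, f x = z ∧
      FlatMor.fibreDimAt f x = (d : WithBot ℕ∞)} := by
  have h1 := f.isLocallyConstructible_image (isLocallyConstructible_setOf_fibreDimAt_eq f d)
  have : {z : Y | ∃ x : X, f x = z ∧ FlatMor.fibreDimAt f x = (d : WithBot ℕ∞)} =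
      f.base '' {x : X | FlatMor.fibreDimAt f x = (d : WithBot ℕ∞)} := by
    ext z
    simp only [Set.mem_setOf_eq, Set.mem_image]
    constructor
    · rintro ⟨x, h1, h2⟩; exact ⟨x, h2, h1⟩
    · rintro ⟨x, h1, h2⟩; exact ⟨x, h2, h1⟩
  rw [this]
  exact h1

/-- The set of local dimensions of the fibre over `z`. -/
def locDims (z : Y) : Set (WithBot ℕ∞) := {e | ∃ x : X, f x = z ∧ FlatMor.fibreDimAt f x = e}

theorem locDims_eq (z : Y) :
    locDims f z = (fun Z : Set ↥(f.fiber z) => topologicalKrullDim ↥Z) ''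
      irreducibleComponents ↥(f.fiber z) := by
  ext e
  exact (mem_dims_iff f z e).symm

omit [LocallyOfFiniteType f] in
theorem exists_nat_of_mem_locDims [LocallyOfFiniteType f] (z : Y) (n : ℕ)
    (hn : topologicalKrullDim (f.fiber z) ≤ n) (e : WithBot ℕ∞) (he : e ∈ locDims f z) :
    ∃ d : ℕ, e = d ∧ d ≤ n := by
  obtain ⟨x, hx, rfl⟩ := he
  have h1 := (dim_fiber_le_iff f z n).mp hn x hx
  have h0 : (0 : WithBot ℕ∞) ≤ FlatMor.fibreDimAt f x := by
    refine le_trans ?_ (trn_le_fibreDimAt_of_specializes f x x rfl specializes_rfl)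
    exact WithBot.coe_le_coe.mpr zero_le
  obtain ⟨d, hd⟩ := FourCond.exists_nat_of_le_nat _ n h0 h1
  refine ⟨d, hd, ?_⟩
  rw [hd] at h1
  exact_mod_cast h1

/-- If the set of dimensions of the components of the fibres is constant on the generizations
of `y`, it is constant on a neighbourhood of `y`. -/
theorem locDims_eventually_const [IsLocallyNoetherian Y] [QuasiCompact f] (y : Y)
    (h : ∀ z : Y, z ⤳ y → locDims f z = locDims f y) :
    ∃ V ∈ nhds y, ∀ z ∈ V, locDims f z = locDims f y := by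
  classical
  obtain ⟨n, hn⟩ := exists_dim_fiber_le_pt f y
  have hV0 : {z : Y | ((n + 1 : ℕ) : WithBot ℕ∞) ≤ topologicalKrullDim (f.fiber z)}ᶜ ∈ nhds y := by
    apply mem_nhds_of_isLocallyConstructible _
      (isLocallyConstructible_compl (isLocallyConstructible_setOf_le_dim_fiber f (n + 1)))
    intro z hz hmem
    rw [Set.mem_setOf_eq, succ_le_iff_not_le] at hmem
    apply hmem
    rw [dim_fiber_le_iff]
    intro x hx
    have h1 : FlatMor.fibreDimAt f x ∈ locDims f z := ⟨x, hx, rfl⟩
    rw [h z hz] at h1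
    obtain ⟨x', hx', hx'e⟩ := h1
    rw [← hx'e]
    exact (dim_fiber_le_iff f y n).mp hn x' hx'
  let A : ℕ → Set Y := fun d => {z : Y | ((d : ℕ) : WithBot ℕ∞) ∈ locDims f z}
  have hA : ∀ d, IsLocallyConstructible (A d) := fun d => isLocallyConstructible_setOf_mem_dims f d
  let W : ℕ → Set Y := fun d => if ((d : ℕ) : WithBot ℕ∞) ∈ locDims f y then A d else (A d)ᶜ
  have hW : ∀ d, W d ∈ nhds y := by
    intro d
    by_cases hd : ((d : ℕ) : WithBot ℕ∞) ∈ locDims f y
    · have : W d = A d := if_pos hd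
      rw [this]
      apply mem_nhds_of_isLocallyConstructible _ (hA d)
      intro z hz
      show ((d : ℕ) : WithBot ℕ∞) ∈ locDims f z
      rw [h z hz]
      exact hd
    · have : W d = (A d)ᶜ := if_neg hd
      rw [this]
      apply mem_nhds_of_isLocallyConstructible _ (isLocallyConstructible_compl (hA d))
      intro z hz hmem
      have : ((d : ℕ) : WithBot ℕ∞) ∈ locDims f z := hmem
      rw [h z hz] at this
      exact hd this
  have hWall : (⋂ d ∈ Finset.range (n + 1), W d) ∈ nhds y :=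
    (Filter.biInter_finset_mem (Finset.range (n + 1))).mpr (fun d _ => hW d)
  refine ⟨_, Filter.inter_mem hV0 hWall, fun z hz => ?_⟩
  obtain ⟨hz0, hzW⟩ := hz
  rw [Set.mem_compl_iff, Set.mem_setOf_eq, succ_le_iff_not_le, not_not] at hz0
  have hzW' : ∀ d, d ≤ n → z ∈ W d := by
    intro d hd
    have := Set.mem_iInter₂.mp hzW d (Finset.mem_range.mpr (by omega))
    exact this
  ext e
  constructor
  · intro he
    obtain ⟨d, rfl, hdn⟩ := exists_nat_of_mem_locDims f z n hz0 e he
    by_contra hne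
    have h1 := hzW' d hdn
    have : W d = (A d)ᶜ := if_neg hne
    rw [this] at h1
    exact h1 he
  · intro he
    obtain ⟨d, rfl, hdn⟩ := exists_nat_of_mem_locDims f y n hn e he
    have h1 := hzW' d hdn
    have : W d = A d := if_pos he
    rw [this] at h1
    exact h1

end Dims

end Groth.Agent.Lib.Helper12.FibreDimConstr
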