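import Mathlib
import Groth.Agent.Lib.Helper12.FibreDimsConstr
import Groth.Agent.Lib.Helper12.ConsPropBasic

/-!
# Closure commutes with passing to fibres over a neighbourhood of the generic point
(EGA IV 9.5.3)
-/

set_option autoImplicit false
universe u
open AlgebraicGeometry CategoryTheory TopologicalSpace Topology

namespace Groth.Agent.Lib.Helper12.GenClosure

open Groth.Agent.Lib.Helper12.ClosedSub Groth.Agent.Lib.Helper12.SchemeDimIneq
  Groth.Agent.Lib.Helper12.FibreDimConstr Groth.Agent.Lib.Helper12.FibreMax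
  Groth.Agent.Lib.Helper12.ConstrNhds

set_option backward.isDefEq.respectTransparency false

/-- Key lemma: for the closure `T` of a point `ξ` and an open `O ∋ ξ`, over a neighbourhood of
`f ξ` every point of `T` has a generization in the same fibre lying in `T ∩ O`. -/
theorem exists_open_forall_exists_generization {X S : Scheme.{u}} (f : X ⟶ S)
    [LocallyOfFiniteType f] [QuasiCompact f] [IsLocallyNoetherian S] (ξ : X) (O : Set X)
    (hO : IsOpen O) (hξ : ξ ∈ O) :
    ∃ U : Set S, IsOpen U ∧ f ξ ∈ U ∧ ∀ x : X, ξ ⤳ x → f x ∈ U →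
      ∃ z : X, ξ ⤳ z ∧ z ∈ O ∧ f z = f x ∧ z ⤳ x := by
  haveI : IsLocallyNoetherian X := LocallyOfFiniteType.isLocallyNoetherian f
  obtain ⟨d, hd⟩ := exists_trn_eq f ξ
  -- the closed subscheme `T`
  let ι := clSubι X ξ
  let g := ι ≫ f
  have hgen : ι (genericPoint (clSub X ξ)) = ξ := clSubι_genericPoint X ξ
  have h1 : ∀ t : clSub X ξ, ((d : ℕ) : WithBot ℕ∞) ≤ FlatMor.fibreDimAt g t := by
    have hcl := isClosed_setOf_le_fibreDimAt g d
    have hmem : genericPoint (clSub X ξ) ∈ {t | ((d : ℕ) : WithBot ℕ∞) ≤ FlatMor.fibreDimAt g t} := by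
      have h2 := trn_le_fibreDimAt_of_specializes g (genericPoint (clSub X ξ))
        (genericPoint (clSub X ξ)) rfl specializes_rfl
      have h3 : trn g (genericPoint (clSub X ξ)) = (d : ℕ∞) := by
        rw [trn_comp_preimmersion, hgen, hd]
      rw [h3] at h2
      exact h2
    intro t
    have : t ∈ closure {genericPoint (clSub X ξ)} := by
      rw [(genericPoint_spec (clSub X ξ)).def]; trivial
    exact hcl.closure_subset_iff.mpr (Set.singleton_subset_iff.mpr hmem) this
  -- the complement `W`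
  have hWcl : IsClosed (closure {ξ} ∩ Oᶜ) := isClosed_closure.inter hO.isClosed_compl
  let IW := Scheme.IdealSheafData.vanishingIdeal ⟨closure {ξ} ∩ Oᶜ, hWcl⟩
  let ιW := IW.subschemeι
  have hrange : Set.range ιW = closure {ξ} ∩ Oᶜ := by
    rw [Scheme.IdealSheafData.range_subschemeι]
    exact Scheme.IdealSheafData.coe_support_vanishingIdeal _
  let gW := ιW ≫ f
  haveI : IsLocallyNoetherian IW.subscheme := LocallyOfFiniteType.isLocallyNoetherian ιW
  have hBcl := isClosed_setOf_le_fibreDimAt gW d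
  have hBcons := gW.isLocallyConstructible_image
    (isLocallyConstructible_of_isClosed _ hBcl)
  have hclη : IsLocallyConstructible (closure ({f ξ} : Set S))ᶜ :=
    isLocallyConstructible_compl (isLocallyConstructible_of_isClosed _ isClosed_closure)
  have hE := (isLocallyConstructible_compl hBcons).union hclη
  have hnhds := mem_nhds_of_isLocallyConstructible _ hE (f ξ) (by
    intro z hz
    by_cases hzη : z = f ξ
    · left
      rintro ⟨w, hw, hwz⟩
      obtain ⟨ζ, hζ1, hζ2, hζ3⟩ := exists_generization_trn_eq_fibreDimAt gW w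
      have h4 : ((d : ℕ) : WithBot ℕ∞) ≤ ((trn gW ζ : ℕ∞) : WithBot ℕ∞) := le_trans hw hζ3
      rw [trn_comp_preimmersion] at h4
      have hmem : ιW ζ ∈ closure {ξ} ∩ Oᶜ := by rw [← hrange]; exact ⟨ζ, rfl⟩
      have hsp : ξ ⤳ ιW ζ := specializes_iff_mem_closure.mpr hmem.1
      have hne : ξ ≠ ιW ζ := fun h => hmem.2 (h ▸ hξ)
      have hfz : f ξ = f (ιW ζ) := by
        have : gW ζ = f ξ := by rw [hζ1, hwz, hzη]
        rw [← this]; rfl
      have h5 := trn_lt_of_specializes f (ιW ζ) ξ hfz hsp hne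
      rw [hd] at h5
      have h6 : (d : ℕ∞) ≤ trn f (ιW ζ) := by exact_mod_cast h4
      exact absurd h5 (not_lt.mpr h6)
    · right
      intro hmem
      have h2 : f ξ ⤳ z := specializes_iff_mem_closure.mpr hmem
      exact hzη (hz.antisymm h2).eq)
  refine ⟨interior _, isOpen_interior, mem_interior_iff_mem_nhds.mpr hnhds, ?_⟩
  intro x hx hxU
  obtain ⟨x', rfl⟩ := exists_clSubι_eq X ξ x hx
  obtain ⟨z', hz1, hz2, hz3⟩ := exists_generization_trn_eq_fibreDimAt g x'
  have h4 : ((d : ℕ) : WithBot ℕ∞) ≤ ((trn g z' : ℕ∞) : WithBot ℕ∞) := le_trans (h1 x') hz3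
  rw [trn_comp_preimmersion] at h4
  refine ⟨ι z', specializes_clSubι X ξ z', ?_, hz1, hz2.map ι.continuous⟩
  by_contra hzO
  have hmem : ι z' ∈ Set.range ιW := by
    rw [hrange]
    exact ⟨specializes_iff_mem_closure.mp (specializes_clSubι X ξ z'), hzO⟩
  obtain ⟨w, hw⟩ := hmem
  have h5 : ((d : ℕ) : WithBot ℕ∞) ≤ FlatMor.fibreDimAt gW w := by
    refine le_trans ?_ (trn_le_fibreDimAt_of_specializes gW w w rfl specializes_rfl)
    rw [trn_comp_preimmersion, hw]
    exact h4
  have h6 : f (ι x') ∈ (gW '' {w | ((d : ℕ) : WithBot ℕ∞) ≤ FlatMor.fibreDimAt gW w})ᶜ ∪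
      (closure ({f ξ} : Set S))ᶜ := interior_subset hxU
  rcases h6 with h6 | h6
  · apply h6
    refine ⟨w, h5, ?_⟩
    show f (ιW w) = f (ι x')
    rw [hw]
    exact hz1
  · apply h6
    exact specializes_iff_mem_closure.mp (hx.map f.continuous)

/-- The irreducible closed case. -/
theorem exists_open_closure_subset_of_irreducible {X S : Scheme.{u}} (f : X ⟶ S)
    [LocallyOfFiniteType f] [QuasiCompact f] [IsLocallyNoetherian S] [IrreducibleSpace S]
    (A t : Set X) (hA : IsOpen A) (htc : IsClosed t) (hti : IsIrreducible t) :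
    ∃ U : Set S, IsOpen U ∧ genericPoint S ∈ U ∧
      ∀ x ∈ closure (A ∩ t), f x ∈ U → x ∈ closure ((A ∩ t) ∩ f ⁻¹' {f x}) := by
  obtain ⟨ξ, hξ⟩ := QuasiSober.sober hti htc
  have hcl : closure {ξ} = t := hξ.def
  by_cases hξA : ξ ∈ A
  · obtain ⟨U, hU, hξU, H⟩ := exists_open_forall_exists_generization f ξ A hA hξA
    refine ⟨U, hU, (genericPoint_specializes (f ξ)).mem_open hU hξU, ?_⟩
    intro x hx hxU
    have hxt : x ∈ t := by
      have : closure (A ∩ t) ⊆ t := htc.closure_subset_iff.mpr Set.inter_subset_right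
      exact this hx
    have hsp : ξ ⤳ x := by rw [specializes_iff_mem_closure, hcl]; exact hxt
    obtain ⟨z, hz1, hz2, hz3, hz4⟩ := H x hsp hxU
    have hzt : z ∈ t := by rw [← hcl]; exact specializes_iff_mem_closure.mp hz1
    have hzmem : z ∈ (A ∩ t) ∩ f ⁻¹' {f x} := ⟨⟨hz2, hzt⟩, hz3⟩
    exact closure_mono (Set.singleton_subset_iff.mpr hzmem) (specializes_iff_mem_closure.mp hz4)
  · refine ⟨Set.univ, isOpen_univ, trivial, ?_⟩
    have hempty : A ∩ t = ∅ := by
      rw [Set.eq_empty_iff_forall_notMem]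
      rintro y ⟨hyA, hyt⟩
      have hsp : ξ ⤳ y := by rw [specializes_iff_mem_closure, hcl]; exact hyt
      exact hξA (hsp.mem_open hA hyA)
    intro x hx
    rw [hempty, closure_empty] at hx
    exact absurd hx (Set.notMem_empty x)

/-- **Closure commutes with fibres generically** (EGA IV 9.5.3): for a constructible subset `Z`
of a scheme of finite type over an irreducible Noetherian scheme `S`, over a neighbourhood of the
generic point, the trace on a fibre of the closure of `Z` is the closure of the trace of `Z`. -/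
theorem exists_open_closure_subset {X S : Scheme.{u}} (f : X ⟶ S)
    [LocallyOfFiniteType f] [QuasiCompact f] [IsLocallyNoetherian S] [IrreducibleSpace S]
    [NoetherianSpace X] (Z : Set X) (hZ : IsConstructible Z) :
    ∃ U : Set S, IsOpen U ∧ genericPoint S ∈ U ∧
      ∀ x ∈ closure Z, f x ∈ U → x ∈ closure (Z ∩ f ⁻¹' {f x}) := by
  induction Z, hZ using BooleanSubalgebra.closure_sdiff_sup_induction with
  | isSublattice =>
    exact ⟨fun s hs t ht ↦ ⟨hs.1.union ht.1, hs.2.union ht.2⟩,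
      fun s hs t ht ↦ ⟨hs.1.inter ht.1, hs.2.inter_isOpen ht.2 ht.1⟩⟩
  | bot_mem => exact ⟨isOpen_empty, .empty⟩
  | top_mem => exact ⟨isOpen_univ, .univ⟩
  | sdiff A hA B hB =>
    obtain ⟨𝒮, hfin, hcl, hirr, hU⟩ :=
      NoetherianSpace.exists_finite_set_isClosed_irreducible hB.1.isClosed_compl
    have key : ∀ t : 𝒮, ∃ U : Set S, IsOpen U ∧ genericPoint S ∈ U ∧
        ∀ x ∈ closure (A ∩ t.1), f x ∈ U → x ∈ closure ((A ∩ t.1) ∩ f ⁻¹' {f x}) := fun t =>
      exists_open_closure_subset_of_irreducible f A t.1 hA.1 (hcl t.1 t.2) (hirr t.1 t.2)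
    choose U hUo hUη hUx using key
    haveI : Finite 𝒮 := hfin
    have hZeq : A \ B = ⋃ t : 𝒮, A ∩ t.1 := by
      rw [Set.diff_eq, hU, Set.sUnion_eq_iUnion, Set.inter_iUnion]
    refine ⟨⋂ t : 𝒮, U t, isOpen_iInter_of_finite hUo, Set.mem_iInter.mpr hUη, ?_⟩
    intro x hx hxU
    rw [hZeq, closure_iUnion_of_finite] at hx
    obtain ⟨t, hxt⟩ := Set.mem_iUnion.mp hx
    have h1 := hUx t x hxt (Set.mem_iInter.mp hxU t)
    refine closure_mono ?_ h1
    rw [hZeq]
    exact Set.inter_subset_inter_left _ (Set.subset_iUnion (fun t : 𝒮 => A ∩ t.1) t)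
  | sup s _ t _ hs' ht' =>
    obtain ⟨U₁, h1, h2, h3⟩ := hs'
    obtain ⟨U₂, h4, h5, h6⟩ := ht'
    refine ⟨U₁ ∩ U₂, h1.inter h4, ⟨h2, h5⟩, ?_⟩
    intro x hx hxU
    change x ∈ closure (s ∪ t) at hx
    rw [closure_union] at hx
    rcases hx with hx | hx
    · exact closure_mono (Set.inter_subset_inter_left _ Set.subset_union_left) (h3 x hx hxU.1)
    · exact closure_mono (Set.inter_subset_inter_left _ Set.subset_union_right) (h6 x hx hxU.2)

end Groth.Agent.Lib.Helper12.GenClosure
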