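import Mathlib
import Groth.Agent.Lib.Helper12.FibreTop
import Groth.Agent.Lib.Helper12.GenClosure
import Groth.Agent.Lib.Helper12.ConsPropGen
import Groth.Agent.Lib.Helper12.FpDesc
import Groth.Agent.Lib.Helper12.PbDiag
import Groth.Agent.Lib.Helper27.LimConstr

/-!
# Local constructibility of loci defined by the traces of constructible subsets on the fibres
(EGA IV 9.5)
-/

set_option autoImplicit false
universe u
open AlgebraicGeometry CategoryTheory CategoryTheory.Limits TopologicalSpace Topology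

namespace Groth.Agent.Lib.Helper12.SubsetLocus

open Groth.Agent.Lib.Helper12.ClosedSub Groth.Agent.Lib.Helper12.ConsPropNoeth
  Groth.Agent.Lib.Helper12.ConsPropGen Groth.Agent.Lib.Helper12.FpDesc
  Groth.Agent.Lib.Helper12.PbDiag Groth.Agent.Lib.Helper12.ConstrNhds

set_option backward.isDefEq.respectTransparency false
set_option linter.style.haveILetI false

/-- Compatibility of a relation with base change. -/
def BCStable (R : ∀ ⦃X S : Scheme.{u}⦄ (_ : X ⟶ S), Set X → Set X → S → Prop) : Prop :=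
  ∀ ⦃X X' S S' : Scheme.{u}⦄ ⦃f : X ⟶ S⦄ ⦃f' : X' ⟶ S'⦄ ⦃eX : X' ⟶ X⦄ ⦃h : S' ⟶ S⦄,
    IsPullback eX f' f h → ∀ (Z Z' : Set X) (s' : S'),
      (R f' (eX ⁻¹' Z) (eX ⁻¹' Z') s' ↔ R f Z Z' (h s'))

/-- Generic constructibility of a relation over integral Noetherian bases. -/
def GenCons (R : ∀ ⦃X S : Scheme.{u}⦄ (_ : X ⟶ S), Set X → Set X → S → Prop) : Prop :=
  ∀ ⦃X S : Scheme.{u}⦄ (f : X ⟶ S) [IsIntegral S] [IsNoetherian S]
    [LocallyOfFiniteType f] [QuasiCompact f] (Z Z' : Set X), IsConstructible Z →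
    IsConstructible Z' → ∃ (U C : Set S), IsOpen U ∧ genericPoint S ∈ U ∧ IsConstructible C ∧
      ∀ s ∈ U, (R f Z Z' s ↔ s ∈ C)

variable {R : ∀ ⦃X S : Scheme.{u}⦄ (_ : X ⟶ S), Set X → Set X → S → Prop}

/-- Noetherian case. -/
theorem isConstructible_of_noetherian (hbc : BCStable R) (hgen : GenCons R)
    {X S : Scheme.{u}} (f : X ⟶ S) [IsNoetherian S] [LocallyOfFiniteType f] [QuasiCompact f]
    (Z Z' : Set X) (hZ : IsConstructible Z) (hZ' : IsConstructible Z') :
    IsConstructible {s : S | R f Z Z' s} := by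
  refine isConstructible_of_forall_clSub _ fun ξ => ?_
  have sq : IsPullback (pullback.fst f (clSubι S ξ)) (pullback.snd f (clSubι S ξ)) f
      (clSubι S ξ) := IsPullback.of_hasPullback _ _
  have hpre : (clSubι S ξ) ⁻¹' {s : S | R f Z Z' s} =
      {t | R (pullback.snd f (clSubι S ξ)) ((pullback.fst f (clSubι S ξ)) ⁻¹' Z)
        ((pullback.fst f (clSubι S ξ)) ⁻¹' Z') t} := by
    ext t
    exact (hbc sq Z Z' t).symm
  rw [hpre]
  obtain ⟨U, C, hU, hηU, hC, hUC⟩ := hgen (pullback.snd f (clSubι S ξ))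
    ((pullback.fst f (clSubι S ξ)) ⁻¹' Z) ((pullback.fst f (clSubι S ξ)) ⁻¹' Z')
    ((pullback.fst f (clSubι S ξ)).isConstructible_preimage hZ)
    ((pullback.fst f (clSubι S ξ)).isConstructible_preimage hZ')
  have hgenz : ∀ z : clSub S ξ, z ⤳ genericPoint (clSub S ξ) → z = genericPoint (clSub S ξ) :=
    fun z hz => (hz.antisymm (genericPoint_specializes z)).eq
  by_cases hη : genericPoint (clSub S ξ) ∈ C
  · left
    have h1 := mem_nhds_of_isLocallyConstructible C hC.isLocallyConstructible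
      (genericPoint (clSub S ξ)) (fun z hz => (hgenz z hz) ▸ hη)
    refine ⟨genericPoint (clSub S ξ), mem_interior_iff_mem_nhds.mpr ?_⟩
    refine Filter.mem_of_superset (Filter.inter_mem h1 (hU.mem_nhds hηU)) ?_
    rintro s ⟨hsC, hsU⟩
    exact (hUC s hsU).mpr hsC
  · right
    have h1 := mem_nhds_of_isLocallyConstructible Cᶜ hC.compl.isLocallyConstructible
      (genericPoint (clSub S ξ)) (fun z hz => (hgenz z hz) ▸ hη)
    refine ⟨genericPoint (clSub S ξ), mem_interior_iff_mem_nhds.mpr ?_⟩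
    refine Filter.mem_of_superset (Filter.inter_mem h1 (hU.mem_nhds hηU)) ?_
    rintro s ⟨hsC, hsU⟩ hs
    exact hsC ((hUC s hsU).mp hs)

/-- General case. -/
theorem isLocallyConstructible_of_rel (hbc : BCStable R) (hgen : GenCons R)
    {X S : Scheme.{u}} (f : X ⟶ S) [LocallyOfFinitePresentation f] [QuasiCompact f]
    [QuasiSeparated f] (Z Z' : Set X) (hZ : IsLocallyConstructible Z)
    (hZ' : IsLocallyConstructible Z') :
    IsLocallyConstructible {s : S | R f Z Z' s} := by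
  refine isLocallyConstructible_of_affine_charts _ fun V hV => ?_
  obtain ⟨J, _, _, 𝔇, π, hπ, haff, hnoeth⟩ := exists_noetherian_limit V hV
  haveI : ∀ {i j : J} (a : i ⟶ j), IsAffineHom (𝔇.map a) := fun a => inferInstance
  haveI : ∀ (i j : J) (a : i ⟶ j), IsAffineHom (𝔇.map a) := fun _ _ a => inferInstance
  have sqV : IsPullback (pullback.fst f V.ι) (pullback.snd f V.ι) f V.ι :=
    IsPullback.of_hasPullback _ _
  haveI : IsAffine (V : Scheme.{u}) := hV
  haveI : CompactSpace ↥(pullback f V.ι) :=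
    QuasiCompact.compactSpace_of_compactSpace (pullback.snd f V.ι)
  haveI : QuasiSeparatedSpace ↥(pullback f V.ι) :=
    quasiSeparatedSpace_of_quasiSeparated (pullback.snd f V.ι)
  have hZV : IsConstructible ((pullback.fst f V.ι) ⁻¹' Z) :=
    (hZ.preimage_of_isOpenEmbedding (pullback.fst f V.ι).isOpenEmbedding).isConstructible
  have hZV' : IsConstructible ((pullback.fst f V.ι) ⁻¹' Z') :=
    (hZ'.preimage_of_isOpenEmbedding (pullback.fst f V.ι).isOpenEmbedding).isConstructible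
  obtain ⟨i₁, X₁, x₁, q₁, _, _, _, sq₁⟩ := descends_of_fp (D := 𝔇) (c := Cone.mk _ π) hπ
    (pullback.snd f V.ι)
  let DX := pbDiagram 𝔇 i₁ x₁
  let cX := pbCone (Cone.mk _ π) q₁ (pullback.snd f V.ι) sq₁
  have hcX : IsLimit cX := isLimitPbCone (Cone.mk _ π) hπ q₁ (pullback.snd f V.ι) sq₁
  haveI hDX : ∀ (i j : Over i₁) (a : i ⟶ j), IsAffineHom (DX.map a) := fun _ _ a => inferInstance
  haveI := haff i₁
  haveI hcp : ∀ l : Over i₁, CompactSpace (DX.obj l) := fun l =>
    compactSpace_pbDiagram_obj 𝔇 i₁ x₁ l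
  haveI hqs : ∀ l : Over i₁, QuasiSeparatedSpace (DX.obj l) := fun l =>
    quasiSeparatedSpace_pbDiagram_obj 𝔇 i₁ x₁ l
  obtain ⟨l, a, Zl, hZl, hZleq⟩ :=
    Groth.Agent.Lib.Helper27.LimConstr.exists_isConstructible_preimage_eq DX cX hcX
      (Over.mk (𝟙 i₁)) _ hZV
  obtain ⟨l', a', Zl', hZl', hZleq'⟩ :=
    Groth.Agent.Lib.Helper27.LimConstr.exists_isConstructible_preimage_eq DX cX hcX
      (Over.mk (𝟙 i₁)) _ hZV'
  obtain ⟨m, b, b', -⟩ : ∃ (m : Over i₁) (b : m ⟶ l) (b' : m ⟶ l'), True :=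
    ⟨IsCofiltered.min l l', IsCofiltered.minToLeft _ _, IsCofiltered.minToRight _ _, trivial⟩
  have sqm : IsPullback (cX.π.app m) (pullback.snd f V.ι) (pullback.snd x₁ (𝔇.map m.hom))
      (π.app m.left) := isPullback_pbCone_π (Cone.mk _ π) q₁ (pullback.snd f V.ι) sq₁ m
  have e1 : (cX.π.app m) ⁻¹' ((DX.map b) ⁻¹' Zl) = (pullback.fst f V.ι) ⁻¹' Z := by
    rw [← hZleq, ← cX.w b]
    rfl
  have e2 : (cX.π.app m) ⁻¹' ((DX.map b') ⁻¹' Zl') = (pullback.fst f V.ι) ⁻¹' Z' := by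
    rw [← hZleq', ← cX.w b']
    rfl
  haveI := hnoeth m.left
  refine ⟨𝔇.obj m.left, π.app m.left,
    {n | R (pullback.snd x₁ (𝔇.map m.hom)) ((DX.map b) ⁻¹' Zl) ((DX.map b') ⁻¹' Zl') n},
    isConstructible_of_noetherian hbc hgen _ _ _ ((DX.map b).isConstructible_preimage hZl)
      ((DX.map b').isConstructible_preimage hZl'), ?_⟩
  ext v
  show R f Z Z' (V.ι v) ↔ R (pullback.snd x₁ (𝔇.map m.hom)) _ _ (π.app m.left v)
  have h1 := hbc sqV Z Z' v
  have h2 := hbc sqm ((DX.map b) ⁻¹' Zl) ((DX.map b') ⁻¹' Zl') v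
  rw [e1, e2] at h2
  exact h1.symm.trans h2

end Groth.Agent.Lib.Helper12.SubsetLocus
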