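import Mathlib
import Groth.Agent.Lib.Helper12.SubsetLocus

/-!
# EGA IV 9.5: the four relations (dense, closed, open, locally closed in the fibre) are
generically constructible, hence define locally constructible loci.
-/

set_option autoImplicit false
universe u
open AlgebraicGeometry CategoryTheory CategoryTheory.Limits TopologicalSpace Topology

namespace Groth.Agent.Lib.Helper12.FibreTopGen

open Groth.Agent.Lib.Helper12.FibreTop Groth.Agent.Lib.Helper12.GenClosure
  Groth.Agent.Lib.Helper12.SubsetLocus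

set_option backward.isDefEq.respectTransparency false
set_option linter.style.haveILetI false

theorem noetherianSpace_of_finiteType {X S : Scheme.{u}} (f : X ⟶ S) [IsNoetherian S]
    [LocallyOfFiniteType f] [QuasiCompact f] : NoetherianSpace X := by
  haveI : IsLocallyNoetherian X := LocallyOfFiniteType.isLocallyNoetherian f
  haveI : CompactSpace X := QuasiCompact.compactSpace_of_compactSpace f
  haveI : IsNoetherian X := ⟨⟩
  infer_instance

section Gen

variable {X S : Scheme.{u}} (f : X ⟶ S) [IsIntegral S] [IsNoetherian S]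
  [LocallyOfFiniteType f] [QuasiCompact f]

theorem isConstructible_of_isClosed' {X : Scheme.{u}} [NoetherianSpace X] {A : Set X}
    (hA : IsClosed A) :
    IsConstructible A := by
  have h1 : IsConstructible Aᶜ :=
    (NoetherianSpace.isCompact Aᶜ).isConstructible hA.isOpen_compl
  simpa using h1.compl

/-- Over a neighbourhood of the generic point, the closure in the fibre is the trace of the
closure. -/
theorem exists_open_fcl_eq (Z : Set X) (hZ : IsConstructible Z) :
    ∃ U : Set S, IsOpen U ∧ genericPoint S ∈ U ∧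
      ∀ s ∈ U, fcl f s Z = closure Z ∩ f ⁻¹' {s} := by
  haveI := noetherianSpace_of_finiteType f
  obtain ⟨U, hU, hη, H⟩ := exists_open_closure_subset f Z hZ
  refine ⟨U, hU, hη, fun s hs => ?_⟩
  apply Set.Subset.antisymm
  · rintro x ⟨hx1, hx2⟩
    exact ⟨closure_mono Set.inter_subset_left hx1, hx2⟩
  · rintro x ⟨hx1, hx2⟩
    have hfx : f x = s := hx2
    have := H x hx1 (hfx ▸ hs)
    rw [hfx] at this
    exact ⟨this, hx2⟩

theorem isConstructible_compl_image [NoetherianSpace X] (A : Set X) (hA : IsConstructible A) :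
    IsConstructible (f '' A)ᶜ := by
  haveI : LocallyOfFinitePresentation f := inferInstance
  exact (f.isConstructible_image hA).compl

theorem genCons_closed_aux (Z : Set X) (hZ : IsConstructible Z) :
    ∃ (U C : Set S), IsOpen U ∧ genericPoint S ∈ U ∧ IsConstructible C ∧
      ∀ s ∈ U, (RClosed f Z s ↔ s ∈ C) := by
  haveI := noetherianSpace_of_finiteType f
  obtain ⟨U, hU, hη, H⟩ := exists_open_fcl_eq f Z hZ
  refine ⟨U, (f '' (closure Z \ Z))ᶜ, hU, hη,
    isConstructible_compl_image f _ ((isConstructible_of_isClosed' isClosed_closure).sdiff hZ),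
    fun s hs => ?_⟩
  rw [rClosed_iff, H s hs]
  constructor
  · rintro h ⟨x, ⟨hx1, hx2⟩, rfl⟩
    exact hx2 (h ⟨hx1, rfl⟩)
  · rintro h x ⟨hx1, hx2⟩
    by_contra hxZ
    exact h ⟨x, ⟨hx1, hxZ⟩, hx2⟩

theorem genCons_dense_aux (Z Z' : Set X) (hZ : IsConstructible Z) (hZ' : IsConstructible Z') :
    ∃ (U C : Set S), IsOpen U ∧ genericPoint S ∈ U ∧ IsConstructible C ∧
      ∀ s ∈ U, (RDense f Z Z' s ↔ s ∈ C) := by
  haveI := noetherianSpace_of_finiteType f
  obtain ⟨U, hU, hη, H⟩ := exists_open_fcl_eq f Z hZ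
  refine ⟨U, (f '' (Z' \ closure Z))ᶜ, hU, hη,
    isConstructible_compl_image f _ (hZ'.sdiff (isConstructible_of_isClosed' isClosed_closure)),
    fun s hs => ?_⟩
  rw [rDense_iff, H s hs]
  constructor
  · rintro h ⟨x, ⟨hx1, hx2⟩, rfl⟩
    exact hx2 (h ⟨hx1, rfl⟩).1
  · rintro h x ⟨hx1, hx2⟩
    refine ⟨?_, hx2⟩
    by_contra hxZ
    exact h ⟨x, ⟨hx1, hxZ⟩, hx2⟩

theorem genCons_lc_aux (Z : Set X) (hZ : IsConstructible Z) :
    ∃ (U C : Set S), IsOpen U ∧ genericPoint S ∈ U ∧ IsConstructible C ∧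
      ∀ s ∈ U, (RLC f Z s ↔ s ∈ C) := by
  haveI := noetherianSpace_of_finiteType f
  obtain ⟨U, hU, hη, H⟩ := exists_open_fcl_eq f Z hZ
  have hB : IsConstructible (closure Z \ Z) :=
    (isConstructible_of_isClosed' isClosed_closure).sdiff hZ
  obtain ⟨U', C, hU', hη', hC, H'⟩ := genCons_closed_aux f (closure Z \ Z) hB
  refine ⟨U ∩ U', C, hU.inter hU', ⟨hη, hη'⟩, hC, fun s hs => ?_⟩
  rw [rLC_iff, H s hs.1, ← H' s hs.2]
  have : (closure Z ∩ f ⁻¹' {s}) \ Z = (closure Z \ Z) ∩ f ⁻¹' {s} := by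
    ext x
    simp only [Set.mem_diff, Set.mem_inter_iff]
    tauto
  rw [this, rClosed_inter_fibre]

end Gen

theorem bcStable_closed : BCStable (fun _ _ f Z _ s => RClosed f Z s) :=
  fun _ _ _ _ _ _ _ _ hX Z _ s' => rClosed_preimage hX Z s'

theorem bcStable_open : BCStable (fun _ _ f Z _ s => ROpen f Z s) :=
  fun _ _ _ _ _ _ _ _ hX Z _ s' => rOpen_preimage hX Z s'

theorem bcStable_lc : BCStable (fun _ _ f Z _ s => RLC f Z s) :=
  fun _ _ _ _ _ _ _ _ hX Z _ s' => rLC_preimage hX Z s'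

theorem bcStable_dense : BCStable (fun _ _ f Z Z' s => RDense f Z Z' s) :=
  fun _ _ _ _ _ _ _ _ hX Z Z' s' => rDense_preimage hX Z Z' s'

theorem genCons_closed : GenCons (fun _ _ f Z _ s => RClosed f Z s) :=
  fun _ _ f _ _ _ _ Z _ hZ _ => genCons_closed_aux f Z hZ

theorem genCons_open : GenCons (fun _ _ f Z _ s => ROpen f Z s) := by
  intro X S f _ _ _ _ Z _ hZ _
  obtain ⟨U, C, h1, h2, h3, h4⟩ := genCons_closed_aux f Zᶜ hZ.compl
  exact ⟨U, C, h1, h2, h3, fun s hs => (rOpen_iff f Z s).trans (h4 s hs)⟩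

theorem genCons_lc : GenCons (fun _ _ f Z _ s => RLC f Z s) :=
  fun _ _ f _ _ _ _ Z _ hZ _ => genCons_lc_aux f Z hZ

theorem genCons_dense : GenCons (fun _ _ f Z Z' s => RDense f Z Z' s) :=
  fun _ _ f _ _ _ _ Z Z' hZ hZ' => genCons_dense_aux f Z Z' hZ hZ'

end Groth.Agent.Lib.Helper12.FibreTopGen
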