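import Mathlib
import Groth.Prelude.Def_MoreMor
import Groth.Agent.Lib.Helper12.FibreTopGen

/-!
# Dominance of the morphism of fibres in terms of the trace of the image
-/

set_option autoImplicit false
universe u
open AlgebraicGeometry CategoryTheory CategoryTheory.Limits TopologicalSpace Topology

namespace Groth.Agent.Lib.Helper12.FibreDominant

open Groth.Agent.Lib.Helper12.FibreTop

set_option backward.isDefEq.respectTransparency false

variable {X Y S : Scheme.{u}} (f : X ⟶ Y) (g : Y ⟶ S)

/-- If `f ≫ g` is locally of finite presentation and `g` is locally of finite type then `f` is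
locally of finite presentation (same proof as in helper14's `LCF.FibreRing`). -/
theorem locallyOfFinitePresentation_of_comp [LocallyOfFinitePresentation (f ≫ g)]
    [LocallyOfFiniteType g] : LocallyOfFinitePresentation f := by
  rw [HasRingHomProperty.iff_exists_appLE (P := @LocallyOfFinitePresentation)
    (RingHom.finitePresentation_stableUnderComposition.stableUnderCompositionWithLocalizationAway
      RingHom.finitePresentation_holdsForLocalizationAway).left]
  intro x
  obtain ⟨_, ⟨T, hT, rfl⟩, hsT, -⟩ :=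
    S.isBasis_affineOpens.exists_subset_of_mem_open (Set.mem_univ (g (f x))) isOpen_univ
  obtain ⟨_, ⟨V, hV, rfl⟩, hyV, hVT⟩ :=
    Y.isBasis_affineOpens.exists_subset_of_mem_open hsT (T.2.preimage g.continuous)
  obtain ⟨_, ⟨U, hU, rfl⟩, hxU, hUV⟩ :=
    X.isBasis_affineOpens.exists_subset_of_mem_open hyV (V.2.preimage f.continuous)
  have hUT : U ≤ (f ≫ g) ⁻¹ᵁ T := fun z hz => hVT (hUV hz)
  refine ⟨⟨V, hV⟩, ⟨U, hU⟩, hxU, hUV, ?_⟩
  have hc : g.appLE T V hVT ≫ f.appLE V U hUV = (f ≫ g).appLE T U hUT :=
    Scheme.Hom.appLE_comp_appLE _ _ _ _ _ _ _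
  have hfp : ((f ≫ g).appLE T U hUT).hom.FinitePresentation :=
    (f ≫ g).finitePresentation_appLE hT hU hUT
  have hft : (g.appLE T V hVT).hom.FiniteType := g.finiteType_appLE hT hV hVT
  rw [← hc, CommRingCat.hom_comp] at hfp
  exact RingHom.FinitePresentation.of_comp_finiteType (g.appLE T V hVT).hom hfp hft

theorem fiberMap_fiberι (s : S) :
    MoreMor.fiberMap f g s ≫ g.fiberι s = (f ≫ g).fiberι s ≫ f :=
  pullback.lift_fst _ _ _

/-- The preimage in the fibre of `g` of the image of `f` is the image of the morphism of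
fibres. -/
theorem preimage_range_eq (s : S) :
    (g.fiberι s) ⁻¹' Set.range f = Set.range (MoreMor.fiberMap f g s) := by
  apply Set.Subset.antisymm
  · rintro w' ⟨x, hx⟩
    have hxs : x ∈ (f ≫ g) ⁻¹' {s} := by
      show (f ≫ g) x = s
      rw [Scheme.Hom.comp_apply, hx]
      have : g.fiberι s w' ∈ Set.range (g.fiberι s) := ⟨w', rfl⟩
      rw [g.range_fiberι s] at this
      exact this
    rw [← (f ≫ g).range_fiberι s] at hxs
    obtain ⟨w, rfl⟩ := hxs
    refine ⟨w, ?_⟩
    apply (g.fiberι s).isEmbedding.injective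
    rw [← Scheme.Hom.comp_apply, fiberMap_fiberι, Scheme.Hom.comp_apply, hx]
  · rintro _ ⟨w, rfl⟩
    refine ⟨(f ≫ g).fiberι s w, ?_⟩
    rw [← Scheme.Hom.comp_apply, ← fiberMap_fiberι, Scheme.Hom.comp_apply]

theorem isDominant_fiberMap_iff (s : S) :
    IsDominant (MoreMor.fiberMap f g s) ↔ RDense g (Set.range f) Set.univ s := by
  rw [isDominant_iff, DenseRange, dense_iff_closure_eq, ← preimage_range_eq,
    ← preimage_closure_fiberι]
  unfold RDense
  constructor
  · rintro h y ⟨-, hy⟩
    rw [← g.range_fiberι s] at hy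
    obtain ⟨w, rfl⟩ := hy
    have : w ∈ (g.fiberι s) ⁻¹' closure (Set.range f ∩ g ⁻¹' {s}) := by rw [h]; trivial
    exact this
  · intro h
    rw [Set.eq_univ_iff_forall]
    intro w
    apply h
    refine ⟨trivial, ?_⟩
    rw [← g.range_fiberι s]
    exact ⟨w, rfl⟩

end Groth.Agent.Lib.Helper12.FibreDominant
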