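import Mathlib
import Groth.Agent.Lib.Helper12.LimGlue

universe u
open CategoryTheory Limits AlgebraicGeometry

namespace Groth.Agent.Lib.Helper12.AffLim

set_option backward.isDefEq.respectTransparency false
set_option linter.style.haveILetI false
set_option linter.unusedSectionVars false

/-- A diagram of affine schemes has a limit in `Scheme`. -/
lemma hasLimit_of_isAffine {J : Type u} [SmallCategory J] (E : J ⥤ Scheme.{u})
    [∀ j, IsAffine (E.obj j)] : HasLimit E := by
  let R : J ⥤ CommRingCatᵒᵖ := E ⋙ Scheme.Γ.rightOp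
  have e : E ≅ R ⋙ Scheme.Spec :=
    NatIso.ofComponents (fun j => (E.obj j).isoSpec) (fun f => by
      simp [R, Scheme.isoSpec_hom_naturality])
  haveI : HasLimit (R ⋙ Scheme.Spec) := ⟨⟨⟨_, isLimitOfPreserves Scheme.Spec (limit.isLimit R)⟩⟩⟩
  exact hasLimit_of_iso e.symm

section

variable {I : Type u} [SmallCategory I] [IsCofiltered I] (D : I ⥤ Scheme.{u})
  [∀ {i j : I} (f : i ⟶ j), IsAffineHom (D.map f)] (i₀ : I)

open Scheme.AffineZariskiSite

instance isAffine_opensDiagram_obj (U : (D.obj i₀).AffineZariskiSite) (j : Over i₀) :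
    IsAffine ((opensDiagram D i₀ U.1).obj j) := U.2.preimage (D.map j.hom)

instance hasLimit_opensDiagram (U : (D.obj i₀).AffineZariskiSite) :
    HasLimit (opensDiagram D i₀ U.1) := hasLimit_of_isAffine _

/-- The transition maps between the restricted diagrams. -/
noncomputable def opensDiagramMap {U V : (D.obj i₀).Opens} (h : U ≤ V) :
    opensDiagram D i₀ U ⟶ opensDiagram D i₀ V where
  app j := (D.obj j.left).homOfLE ((D.map j.hom).preimage_mono h)
  naturality j k f := by
    rw [← cancel_mono (Scheme.Opens.ι _)]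
    simp [opensDiagram]

@[reassoc (attr := simp)]
lemma opensDiagramMap_app_ι {U V : (D.obj i₀).Opens} (h : U ≤ V) (j : Over i₀) :
    (opensDiagramMap D i₀ h).app j ≫ (D.map j.hom ⁻¹ᵁ V).ι = (D.map j.hom ⁻¹ᵁ U).ι := by
  simp [opensDiagramMap]

/-- The functor sending an affine open of `D.obj i₀` to the limit of the restricted diagram. -/
noncomputable def limF : (D.obj i₀).AffineZariskiSite ⥤ Scheme.{u} where
  obj U := limit (opensDiagram D i₀ U.1)
  map {U V} h := limMap (opensDiagramMap D i₀ (toOpens_mono h.le))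
  map_id U := by
    apply limit.hom_ext
    intro j
    rw [← cancel_mono (Scheme.Opens.ι _)]
    simp
  map_comp {U V W} f g := by
    apply limit.hom_ext
    intro j
    rw [← cancel_mono (Scheme.Opens.ι _)]
    simp

/-- The structure map of the `j`-th piece. -/
noncomputable def toU (U : (D.obj i₀).AffineZariskiSite) (j : Over i₀) :
    limit (opensDiagram D i₀ U.1) ⟶ (U.1 : Scheme.{u}) :=
  limit.π _ j ≫ (D.map j.hom ∣_ U.1)

lemma toU_eq (U : (D.obj i₀).AffineZariskiSite) {j k : Over i₀} (f : j ⟶ k) :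
    toU D i₀ U j = toU D i₀ U k := by
  rw [toU, toU, ← limit.w _ f, Category.assoc]
  congr 1
  rw [← cancel_mono (Scheme.Opens.ι _)]
  simp [opensDiagram, ← Functor.map_comp]

lemma toU_eq' (U : (D.obj i₀).AffineZariskiSite) (j k : Over i₀) :
    toU D i₀ U j = toU D i₀ U k := by
  have h1 := toU_eq D i₀ U (Over.homMk j.hom : j ⟶ Over.mk (𝟙 i₀))
  have h2 := toU_eq D i₀ U (Over.homMk k.hom : k ⟶ Over.mk (𝟙 i₀))
  rw [h1, h2]

/-- The natural transformation to the cover. -/
noncomputable def limFη : limF D i₀ ⟶ (directedCover (D.obj i₀)).functorOfLocallyDirected where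
  app U := toU D i₀ U (Over.mk (𝟙 i₀))
  naturality U V h := by
    have h1 : (directedCover (D.obj i₀)).trans h ≫ V.1.ι = U.1.ι :=
      Scheme.Cover.trans_map (𝒰 := directedCover (D.obj i₀)) h
    have h2 := opensDiagramMap_app_ι D i₀ (toOpens_mono h.le) (Over.mk (𝟙 i₀))
    dsimp [limF, toU] at h2 ⊢
    rw [← cancel_mono (Scheme.Opens.ι _)]
    simp only [Category.assoc, limMap_π_assoc, morphismRestrict_ι, reassoc_of% h2]
    erw [h1]
    rw [morphismRestrict_ι]

lemma isPullback_opensDiagramMap {U V : (D.obj i₀).Opens} (h : U ≤ V) (j : Over i₀) :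
    IsPullback ((opensDiagramMap D i₀ h).app j) (D.map j.hom ∣_ U) (D.map j.hom ∣_ V)
      ((D.obj i₀).homOfLE h) := by
  refine IsPullback.of_right ?_ ?_ (isPullback_morphismRestrict (D.map j.hom) V).flip
  · have := (isPullback_morphismRestrict (D.map j.hom) U).flip
    simpa using this
  · rw [← cancel_mono (Scheme.Opens.ι _)]
    simp

lemma map_morphismRestrict (U : (D.obj i₀).Opens) {j k : Over i₀} (f : j ⟶ k) :
    (opensDiagram D i₀ U).map f ≫ (D.map k.hom ∣_ U) = D.map j.hom ∣_ U := by
  rw [← cancel_mono (Scheme.Opens.ι _)]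
  simp [opensDiagram, ← Functor.map_comp]

lemma equifibered_limFη : (limFη D i₀).Equifibered := by
  intro U V h
  have hUV : U.1 ≤ V.1 := toOpens_mono h.le
  have htr : (directedCover (D.obj i₀)).functorOfLocallyDirected.map h =
      (D.obj i₀).homOfLE hUV := rfl
  rw [htr]
  have hsq := isPullback_opensDiagramMap D i₀ hUV
  refine ⟨⟨(limFη D i₀).naturality h⟩, ⟨PullbackCone.IsLimit.mk _ (fun s => ?_) (fun s => ?_)
    (fun s => ?_) (fun s m h1 h2 => ?_)⟩⟩
  all_goals
    have hs : ∀ j, (s.fst ≫ limit.π _ j) ≫ (D.map j.hom ∣_ V.1) =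
        s.snd ≫ (D.obj i₀).homOfLE hUV := by
      intro j
      have := s.condition
      rw [Category.assoc]
      change s.fst ≫ toU D i₀ V j = _
      rw [toU_eq' D i₀ V j (Over.mk (𝟙 i₀))]
      exact this
  · refine limit.lift _ ⟨s.pt, ⟨fun j => (hsq j).lift (s.fst ≫ limit.π _ j) s.snd (hs j), ?_⟩⟩
    intro j k m
    apply (hsq k).hom_ext
    · simp only [Functor.const_obj_obj, Functor.const_obj_map, Category.id_comp, Category.assoc,
        IsPullback.lift_fst]
      rw [(opensDiagramMap D i₀ hUV).naturality m, IsPullback.lift_fst_assoc, Category.assoc,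
        limit.w]
    · simp only [Functor.const_obj_obj, Functor.const_obj_map, Category.id_comp, Category.assoc,
        IsPullback.lift_snd]
      rw [map_morphismRestrict, IsPullback.lift_snd]
  · apply limit.hom_ext
    intro j
    dsimp [limF]
    simp
  · dsimp [limFη, toU]
    simp
  · apply limit.hom_ext
    intro j
    apply (hsq j).hom_ext
    · simp only [limit.lift_π, IsPullback.lift_fst]
      rw [← h1]
      dsimp [limF]
      simp
    · simp only [limit.lift_π, IsPullback.lift_snd]
      rw [← h2, Category.assoc]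
      congr 1
      exact toU_eq' D i₀ U j (Over.mk (𝟙 i₀))

/-- The relative gluing datum. -/
noncomputable def gd : (directedCover (D.obj i₀)).RelativeGluingData where
  functor := limF D i₀
  natTrans := limFη D i₀
  equifibered := equifibered_limFη D i₀

instance : ((gd D i₀).functor ⋙ Scheme.forget).IsLocallyDirected :=
  Scheme.Cover.RelativeGluingData.instIsLocallyDirectedI₀CompFunctorForgetOfIsThin ..

/-- The cocone used to define the projections from the glued scheme. -/
noncomputable def projCocone (j : Over i₀) : Cocone (gd D i₀).functor where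
  pt := D.obj j.left
  ι :=
    { app U := limit.π (opensDiagram D i₀ U.1) j ≫ (D.map j.hom ⁻¹ᵁ U.1).ι
      naturality U V h := by
        dsimp [gd, limF]
        simp }

/-- The cone over `Over.forget i₀ ⋙ D` with vertex the glued scheme. -/
noncomputable def gluedCone : Cone (Over.forget i₀ ⋙ D) where
  pt := (gd D i₀).glued
  π :=
    { app j := colimit.desc (gd D i₀).functor (projCocone D i₀ j)
      naturality j k m := by
        apply colimit.hom_ext
        intro U
        dsimp
        simp only [Category.id_comp, colimit.ι_desc_assoc, colimit.ι_desc]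
        dsimp [projCocone]
        rw [Category.assoc, ← limit.w _ m, Category.assoc]
        congr 1
        exact ((opensDiagramι D i₀ U.1).naturality m) }

@[reassoc]
lemma ι_gluedCone_π (U : (D.obj i₀).AffineZariskiSite) (j : Over i₀) :
    colimit.ι (gd D i₀).functor U ≫ (gluedCone D i₀).π.app j =
      limit.π (opensDiagram D i₀ U.1) j ≫ (D.map j.hom ⁻¹ᵁ U.1).ι := by
  dsimp [gluedCone]
  rw [colimit.ι_desc]
  rfl

lemma gluedCone_π_map (j : Over i₀) :
    (gluedCone D i₀).π.app j ≫ D.map j.hom = (gd D i₀).toBase := by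
  apply colimit.hom_ext
  intro U
  rw [ι_gluedCone_π_assoc]
  have h1 := (gd D i₀).ι_toBase U
  change colimit.ι (gd D i₀).functor U ≫ (gd D i₀).toBase = _ at h1
  rw [h1, ← morphismRestrict_ι, ← Category.assoc]
  congr 1
  exact toU_eq' D i₀ U j (Over.mk (𝟙 i₀))

lemma isPullback_gluedCone (U : (D.obj i₀).AffineZariskiSite) (j : Over i₀) :
    IsPullback (limit.π (opensDiagram D i₀ U.1) j) (colimit.ι (gd D i₀).functor U)
      ((opensDiagramι D i₀ U.1).app j) ((gluedCone D i₀).π.app j) := by
  refine IsPullback.of_right (h₁₂ := D.map j.hom ∣_ U.1) (h₂₂ := D.map j.hom) (v₁₃ := U.1.ι) ?_ ?_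
    (isPullback_morphismRestrict (D.map j.hom) U.1)
  · rw [gluedCone_π_map]
    have := (gd D i₀).isPullback_natTrans_ι_toBase U
    have e : limit.π (opensDiagram D i₀ U.1) j ≫ (D.map j.hom ∣_ U.1) =
      (gd D i₀).natTrans.app U := toU_eq' D i₀ U j (Over.mk (𝟙 i₀))
    rw [e]
    exact this
  · exact (ι_gluedCone_π D i₀ U j).symm

theorem nonempty_isLimit_gluedCone : Nonempty (IsLimit (gluedCone D i₀)) := by
  refine LimGlue.nonempty_isLimit (Over.forget i₀ ⋙ D) (gluedCone D i₀)
    (K := (D.obj i₀).AffineZariskiSite)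
    (fun U => opensDiagram D i₀ U.1) (fun U => opensDiagramι D i₀ U.1) ?_
    (fun U => limit.cone _) (fun U => limit.isLimit _)
    (fun U => colimit.ι (gd D i₀).functor U) ?_ ?_
  · intro U j k m
    refine IsOpenImmersion.isPullback _ _ _ _ ((opensDiagramι D i₀ U.1).naturality m).symm ?_
    change D.map m.left ⁻¹ᵁ (D.map k.hom ⁻¹ᵁ U.1).ι.opensRange = (D.map j.hom ⁻¹ᵁ U.1).ι.opensRange
    rw [Scheme.Opens.opensRange_ι, Scheme.Opens.opensRange_ι, ← Scheme.Hom.comp_preimage,
      ← D.map_comp, Over.w m]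
  · intro U j
    exact isPullback_gluedCone D i₀ U j
  · intro j z
    obtain ⟨U, hU⟩ := TopologicalSpace.Opens.mem_iSup.mp
      ((iSup_affineOpens_eq_top (D.obj i₀)).ge (Set.mem_univ (D.map j.hom z)))
    refine ⟨U, ?_⟩
    change z ∈ Set.range (D.map j.hom ⁻¹ᵁ U.1).ι
    rw [Scheme.Opens.range_ι]
    exact hU

end

/-- **Existence of limits with affine transition maps**, with affine projections. -/
theorem exists_limit {I : Type u} [SmallCategory I] [IsCofiltered I] (D : I ⥤ Scheme.{u})
    [∀ {i j : I} (f : i ⟶ j), IsAffineHom (D.map f)] :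
    ∃ (c : Cone D) (_ : IsLimit c), ∀ i, IsAffineHom (c.π.app i) := by
  obtain ⟨i₀⟩ := IsCofiltered.nonempty (C := I)
  obtain ⟨h⟩ := nonempty_isLimit_gluedCone D i₀
  let c := (Functor.Initial.extendCone (F := Over.forget i₀) (G := D)).obj (gluedCone D i₀)
  have hc : IsLimit c := (Functor.Initial.isLimitExtendConeEquiv (Over.forget i₀) _).symm h
  exact ⟨c, hc, fun i => isAffineHom_π_app D c hc i⟩

lemma hasLimit {I : Type u} [SmallCategory I] [IsCofiltered I] (D : I ⥤ Scheme.{u})
    [∀ {i j : I} (f : i ⟶ j), IsAffineHom (D.map f)] : HasLimit D := by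
  obtain ⟨c, hc, -⟩ := exists_limit D
  exact ⟨⟨⟨c, hc⟩⟩⟩

end Groth.Agent.Lib.Helper12.AffLim
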