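import Mathlib
import Groth.Agent.S3439
import Groth.Agent.S4784
import Groth.Agent.Lib.Helper26.ProConsTop
import Groth.Agent.Lib.Helper26.ProConsSch

/-!
# The underlying space of a cofiltered limit of schemes with affine transition maps

Points of the limit are compatible families of points, and the topology is the limit topology.
-/

universe u

set_option backward.isDefEq.respectTransparency false

open CategoryTheory Limits AlgebraicGeometry Topology

namespace Groth.Agent.Lib.Helper12.LimTop

section Top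

variable {Y : Type*} [TopologicalSpace Y]

/-- In a T0 space with a basis of quasi-compact opens, points are closed for the constructible
topology. -/
lemma isClosed_cons_singleton [T0Space Y] [PrespectralSpace Y] (y : Y) :
    IsClosed[constructibleTopology Y] ({y} : Set Y) := by
  rw [← @isOpen_compl_iff _ _ (constructibleTopology Y),
    @isOpen_iff_forall_mem_open _ (constructibleTopology Y)]
  intro z hz
  have hzy : z ≠ y := hz
  have hins : ¬ Inseparable z y := fun h => hzy h.eq
  rw [PrespectralSpace.isTopologicalBasis.inseparable_iff] at hins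
  push_neg at hins
  obtain ⟨U, ⟨hUo, hUc⟩, hU⟩ := hins
  rcases hU with ⟨hzU, hyU⟩ | ⟨hzU, hyU⟩
  · exact ⟨U, fun w hw hwy => hyU (hwy ▸ hw), hUc.isOpen_constructibleTopology_of_isOpen hUo, hzU⟩
  · refine ⟨Uᶜ, fun w hw hwy => hw (hwy ▸ hyU), ?_, hzU⟩
    exact IsCompact.isOpen_constructibleTopology_of_isClosed (by simpa using hUc)
      hUo.isClosed_compl

/-- A continuous map under which preimages of quasi-compact opens are quasi-compact is continuous
for the constructible topologies. -/
lemma continuous_cons {X : Type*} [TopologicalSpace X] {f : X → Y} (hf : Continuous f)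
    (hqc : ∀ U : Set Y, IsOpen U → IsCompact U → IsCompact (f ⁻¹' U)) :
    Continuous[constructibleTopology X, constructibleTopology Y] f := by
  rw [continuous_generateFrom_iff]
  rintro s (⟨hso, hsc⟩ | ⟨hscl, hsc⟩)
  · exact (hqc s hso hsc).isOpen_constructibleTopology_of_isOpen (hso.preimage hf)
  · refine IsCompact.isOpen_constructibleTopology_of_isClosed ?_ (hscl.preimage hf)
    rw [← Set.preimage_compl]
    exact hqc _ hscl.isOpen_compl hsc

end Top

/-- The preimage of a point under a morphism of affine schemes is closed for the constructible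
topology. -/
lemma isClosed_cons_preimage_singleton {X Y : Scheme.{u}} [IsAffine X] [IsAffine Y] (g : X ⟶ Y)
    (y : Y) : IsClosed[constructibleTopology X] (⇑g ⁻¹' {y}) := by
  have hcont : Continuous[constructibleTopology X, constructibleTopology Y] ⇑g :=
    continuous_cons g.continuous (fun U hUo hUc => by
      haveI : QuasiCompact g := inferInstance
      exact QuasiCompact.isCompact_preimage (f := g) U hUo hUc)
  exact @IsClosed.preimage _ _ (constructibleTopology X) (constructibleTopology Y) _ hcont _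
    (isClosed_cons_singleton y)

variable {I : Type u} [SmallCategory I] [IsCofiltered I] (D : I ⥤ Scheme.{u}) (c : Cone D)
  (hc : IsLimit c)

omit [IsCofiltered I] in
lemma map_π_apply {i j : I} (φ : i ⟶ j) (s : c.pt) :
    D.map φ (c.π.app i s) = c.π.app j s := by
  have := congr($(c.w φ) s)
  exact this

include hc in
/-- Two points of the limit with the same image in every stage are equal. -/
lemma eq_of_forall_π_eq [∀ (i j : I) (f : i ⟶ j), IsAffineHom (D.map f)] {s s' : c.pt}
    (h : ∀ i, c.π.app i s = c.π.app i s') : s = s' := by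
  haveI : ∀ {i j : I} (f : i ⟶ j), IsAffineHom (D.map f) := fun f => inferInstance
  apply Inseparable.eq
  rw [(isBasis_preimage_isAffineOpen D c hc).inseparable_iff]
  rintro _ ⟨_, ⟨i, O, -, rfl⟩, rfl⟩
  show c.π.app i s ∈ O ↔ c.π.app i s' ∈ O
  rw [h i]

include hc in
/-- Every open subset of the limit is, locally, the preimage of an open of a stage. -/
lemma exists_preimage_subset_of_isOpen [∀ (i j : I) (f : i ⟶ j), IsAffineHom (D.map f)]
    {U : Set c.pt} (hU : IsOpen U) {s : c.pt} (hs : s ∈ U) :
    ∃ (i : I) (O : (D.obj i).Opens), c.π.app i s ∈ O ∧ ⇑(c.π.app i) ⁻¹' (O : Set (D.obj i)) ⊆ U := by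
  haveI : ∀ {i j : I} (f : i ⟶ j), IsAffineHom (D.map f) := fun f => inferInstance
  obtain ⟨_, ⟨_, ⟨i, O, -, rfl⟩, rfl⟩, hsO, hsub⟩ :=
    (isBasis_preimage_isAffineOpen D c hc).exists_subset_of_mem_open hs hU
  exact ⟨i, O, hsO, hsub⟩

include hc in
/-- A compatible family of points of the stages comes from a point of the limit. -/
theorem exists_point_of_compatible [∀ (i j : I) (f : i ⟶ j), IsAffineHom (D.map f)]
    (x : ∀ i, D.obj i) (hx : ∀ {i j : I} (f : i ⟶ j), D.map f (x i) = x j) :
    ∃ s : c.pt, ∀ i, c.π.app i s = x i := by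
  classical
  haveI hAff : ∀ {i j : I} (f : i ⟶ j), IsAffineHom (D.map f) := fun f => inferInstance
  obtain ⟨i₀⟩ : Nonempty I := IsCofiltered.nonempty
  obtain ⟨U₀, hU₀, hxU₀, -⟩ :=
    Groth.Agent.Lib.Helper26.ProConsTop.exists_isAffineOpen_mem_le (D.obj i₀) (x i₀) ⊤ trivial
  haveI : IsAffineHom (c.π.app i₀) := isAffineHom_π_app D c hc i₀
  let W : c.pt.Opens := (c.π.app i₀) ⁻¹ᵁ U₀
  have hW : IsAffineOpen W := hU₀.preimage (c.π.app i₀)
  haveI : IsAffine (W : Scheme.{u}) := hW
  let V : ∀ k : Over i₀, (D.obj k.left).Opens := fun k => (D.map k.hom) ⁻¹ᵁ U₀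
  have hV : ∀ k, IsAffineOpen (V k) := fun k => hU₀.preimage (D.map k.hom)
  haveI : ∀ k, IsAffine (V k : Scheme.{u}) := fun k => hV k
  have hWV : ∀ k : Over i₀, W ≤ (c.π.app k.left) ⁻¹ᵁ (V k) := by
    intro k s hs
    show D.map k.hom (c.π.app k.left s) ∈ U₀
    rw [map_π_apply D c k.hom s]; exact hs
  have hxV : ∀ k : Over i₀, x k.left ∈ V k := by
    intro k
    show D.map k.hom (x k.left) ∈ U₀
    rw [hx]; exact hxU₀
  let g : ∀ k : Over i₀, (W : Scheme.{u}) ⟶ (V k : Scheme.{u}) :=
    fun k => (c.π.app k.left).resLE (V k) W (hWV k)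
  let F : Over i₀ → Set (W : Scheme.{u}) := fun k => ⇑(g k) ⁻¹' {⟨x k.left, hxV k⟩}
  have hg : ∀ (k : Over i₀) (w : (W : Scheme.{u})), ((g k) w).1 = c.π.app k.left w.1 := by
    intro k w
    exact Groth.Agent.Lib.Helper26.ProConsSch.resLE_apply (c.π.app k.left) (hWV k) w
  have hFmem : ∀ (k : Over i₀) (w : (W : Scheme.{u})), w ∈ F k ↔ c.π.app k.left w.1 = x k.left := by
    intro k w
    show (g k) w = ⟨x k.left, hxV k⟩ ↔ _
    rw [Subtype.ext_iff, hg]
  have hFcl : ∀ k, IsClosed[constructibleTopology (W : Scheme.{u})] (F k) :=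
    fun k => isClosed_cons_preimage_singleton (g k) _
  have hFne : ∀ k, (F k).Nonempty := by
    intro k
    have hmem : x k.left ∈ Set.range ⇑(c.π.app k.left) := by
      rw [Groth.Agent.S4784.result D c hc k.left]
      simp only [Set.mem_iInter]
      intro j φ
      exact ⟨x j, hx φ⟩
    obtain ⟨s, hs⟩ := hmem
    have hsW : s ∈ W := by
      show c.π.app i₀ s ∈ U₀
      rw [← map_π_apply D c k.hom s, hs, hx]; exact hxU₀
    exact ⟨⟨s, hsW⟩, (hFmem k _).mpr hs⟩
  have hFdir : Directed (· ⊇ ·) F := by
    intro k k'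
    refine ⟨IsCofiltered.min k k', ?_, ?_⟩
    · intro w hw
      rw [hFmem] at hw ⊢
      rw [← map_π_apply D c (IsCofiltered.minToLeft k k').left w.1, hw, hx]
    · intro w hw
      rw [hFmem] at hw ⊢
      rw [← map_π_apply D c (IsCofiltered.minToRight k k').left w.1, hw, hx]
  haveI : Nonempty (Over i₀) := ⟨Over.mk (𝟙 i₀)⟩
  haveI hcpt : @CompactSpace (W : Scheme.{u}) (constructibleTopology (W : Scheme.{u})) :=
    Groth.Agent.S3439.compactSpace_constructibleTopology
  obtain ⟨w, hw⟩ := @IsCompact.nonempty_iInter_of_directed_nonempty_isCompact_isClosed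
    (W : Scheme.{u}) (constructibleTopology (W : Scheme.{u})) (Over i₀) _ F hFdir hFne
    (fun k => @IsClosed.isCompact _ (constructibleTopology (W : Scheme.{u})) _ hcpt (hFcl k)) hFcl
  rw [Set.mem_iInter] at hw
  refine ⟨w.1, fun i => ?_⟩
  have h1 : c.π.app (IsCofiltered.min i i₀) w.1 = x (IsCofiltered.min i i₀) :=
    (hFmem (Over.mk (IsCofiltered.minToRight i i₀)) w).mp (hw _)
  rw [← map_π_apply D c (IsCofiltered.minToLeft i i₀) w.1, h1, hx]

end Groth.Agent.Lib.Helper12.LimTop
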