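import Mathlib
import Groth.Agent.Lib.Helper12.LimTop

/-!
# Cofiltered limits of schemes whose transition maps are open immersions
-/

universe u

set_option backward.isDefEq.respectTransparency false

open CategoryTheory Limits AlgebraicGeometry Topology

namespace Groth.Agent.Lib.Helper12.LimOpenTrans

/-- If `f` is a monomorphism and `σ : Spec R ⟶ X` (with `R` local) is such that `σ ≫ f`
identifies `R` with the local ring of `Y` at the image of the closed point, then the stalk map
of `f` at the image of the closed point under `σ` is an isomorphism. -/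
lemma isIso_stalkMap_of_section {X Y : Scheme.{u}} (f : X ⟶ Y) [Mono f] {R : CommRingCat.{u}}
    [IsLocalRing R] (σ : Spec R ⟶ X) (h : IsIso (Scheme.stalkClosedPointTo (σ ≫ f))) :
    IsIso (f.stalkMap (σ (IsLocalRing.closedPoint R))) := by
  have h1 : f.stalkMap (σ (IsLocalRing.closedPoint R)) ≫ Scheme.stalkClosedPointTo σ =
      Scheme.stalkClosedPointTo (σ ≫ f) := (Scheme.stalkClosedPointTo_comp σ f).symm
  have hσ : Spec.map (Scheme.stalkClosedPointTo σ) ≫ X.fromSpecStalk _ = σ :=
    Scheme.Spec_stalkClosedPointTo_fromSpecStalk σ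
  have hσf : Spec.map (Scheme.stalkClosedPointTo (σ ≫ f)) ≫ Y.fromSpecStalk _ = σ ≫ f :=
    Scheme.Spec_stalkClosedPointTo_fromSpecStalk (σ ≫ f)
  have hψ : Spec.map (f.stalkMap (σ (IsLocalRing.closedPoint R))) ≫ Y.fromSpecStalk _ =
      X.fromSpecStalk _ ≫ f := Scheme.SpecMap_stalkMap_fromSpecStalk f
  refine ⟨⟨Scheme.stalkClosedPointTo σ ≫ inv (Scheme.stalkClosedPointTo (σ ≫ f)), ?_, ?_⟩⟩
  · rw [← Category.assoc, h1, IsIso.hom_inv_id]
  · apply Spec.map_injective
    rw [← cancel_mono (X.fromSpecStalk (σ (IsLocalRing.closedPoint R))), ← cancel_mono f]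
    rw [Spec.map_id, Category.id_comp, Spec.map_comp, Spec.map_comp, Category.assoc,
      Category.assoc, Category.assoc]
    rw [reassoc_of% hσ]
    have h3 : Spec.map (inv (Scheme.stalkClosedPointTo (σ ≫ f))) ≫ σ ≫ f =
        Y.fromSpecStalk ((σ ≫ f) (IsLocalRing.closedPoint R)) :=
      calc Spec.map (inv (Scheme.stalkClosedPointTo (σ ≫ f))) ≫ σ ≫ f
          = Spec.map (inv (Scheme.stalkClosedPointTo (σ ≫ f))) ≫
              (Spec.map (Scheme.stalkClosedPointTo (σ ≫ f)) ≫ Y.fromSpecStalk _) :=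
            congrArg _ hσf.symm
        _ = Y.fromSpecStalk _ := by
            rw [← Category.assoc, ← Spec.map_comp, IsIso.hom_inv_id, Spec.map_id, Category.id_comp]
    rw [h3]
    exact hψ

lemma isIso_stalkClosedPointTo_of_eq {X : Scheme.{u}} {x : X}
    (f : Spec (X.presheaf.stalk x) ⟶ X) (h : f = X.fromSpecStalk x) :
    IsIso (Scheme.stalkClosedPointTo f) := by
  subst h
  rw [Scheme.stalkClosedPointTo_fromSpecStalk]
  infer_instance

variable {I : Type u} [SmallCategory I] [IsCofiltered I] (D : I ⥤ Scheme.{u}) (c : Cone D)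
  (hc : IsLimit c)

include hc in
/-- If all transition maps are monomorphisms, so are the projections from the limit. -/
lemma mono_π (hm : ∀ (i j : I) (φ : i ⟶ j), Mono (D.map φ)) (i : I) : Mono (c.π.app i) := by
  constructor
  intro Z f g h
  refine hc.hom_ext (fun k => ?_)
  have h1 : f ≫ c.π.app (IsCofiltered.min i k) = g ≫ c.π.app (IsCofiltered.min i k) := by
    haveI := hm _ _ (IsCofiltered.minToLeft i k)
    rw [← cancel_mono (D.map (IsCofiltered.minToLeft i k)), Category.assoc, Category.assoc, c.w]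
    exact h
  rw [← c.w (IsCofiltered.minToRight i k), ← Category.assoc, h1, Category.assoc]

/-- The lift of `Spec 𝒪_{S_i, x} ⟶ S_i` to `S_j` for a point `x` in the image of all transition
maps. -/
noncomputable def sectionLift (hoi : ∀ (i j : I) (φ : i ⟶ j), IsOpenImmersion (D.map φ)) (i : I)
    (x : D.obj i) (hx : ∀ (j : I) (φ : j ⟶ i), x ∈ Set.range ⇑(D.map φ)) (j : I) (φ : j ⟶ i) :
    Spec ((D.obj i).presheaf.stalk x) ⟶ D.obj j :=
  haveI := hoi _ _ φ
  IsOpenImmersion.lift (D.map φ) ((D.obj i).fromSpecStalk x) (by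
    intro y hy
    have hy' : y ⤳ x := (Set.ext_iff.mp Scheme.range_fromSpecStalk y).mp hy
    exact Specializes.mem_open hy' (D.map φ).isOpenEmbedding.isOpen_range (hx _ φ))

omit [IsCofiltered I] in
@[reassoc]
lemma sectionLift_fac (hoi : ∀ (i j : I) (φ : i ⟶ j), IsOpenImmersion (D.map φ)) (i : I)
    (x : D.obj i) (hx : ∀ (j : I) (φ : j ⟶ i), x ∈ Set.range ⇑(D.map φ)) (j : I) (φ : j ⟶ i) :
    sectionLift D hoi i x hx j φ ≫ D.map φ = (D.obj i).fromSpecStalk x := by
  haveI := hoi _ _ φ
  exact IsOpenImmersion.lift_fac _ _ _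

/-- The cone with point `Spec 𝒪_{S_i, x}` for a point `x` in the image of all transition maps. -/
noncomputable def sectionCone (hoi : ∀ (i j : I) (φ : i ⟶ j), IsOpenImmersion (D.map φ)) (i : I)
    (x : D.obj i) (hx : ∀ (j : I) (φ : j ⟶ i), x ∈ Set.range ⇑(D.map φ)) :
    Cone (Over.forget i ⋙ D) where
  pt := Spec ((D.obj i).presheaf.stalk x)
  π :=
    { app := fun j => sectionLift D hoi i x hx j.left j.hom
      naturality := fun j k a => by
        haveI := hoi _ _ k.hom
        have h1 : sectionLift D hoi i x hx j.left j.hom ≫ D.map a.left ≫ D.map k.hom =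
            (D.obj i).fromSpecStalk x := by
          rw [← D.map_comp, Over.w a, sectionLift_fac]
        have h2 : 𝟙 (Spec ((D.obj i).presheaf.stalk x)) ≫ sectionLift D hoi i x hx k.left k.hom =
            sectionLift D hoi i x hx j.left j.hom ≫ D.map a.left := by
          rw [Category.id_comp, ← cancel_mono (D.map k.hom), sectionLift_fac, Category.assoc, h1]
        exact h2 }

include hc in
lemma exists_section (hoi : ∀ (i j : I) (φ : i ⟶ j), IsOpenImmersion (D.map φ)) (i : I)
    (x : D.obj i) (hx : ∀ (j : I) (φ : j ⟶ i), x ∈ Set.range ⇑(D.map φ)) :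
    ∃ σ : Spec ((D.obj i).presheaf.stalk x) ⟶ c.pt, σ ≫ c.π.app i = (D.obj i).fromSpecStalk x := by
  let hc' := (Functor.Initial.isLimitWhiskerEquiv (Over.forget i) c).symm hc
  refine ⟨hc'.lift (sectionCone D hoi i x hx), ?_⟩
  have h1 : hc'.lift (sectionCone D hoi i x hx) ≫ c.π.app i =
      sectionLift D hoi i x hx i (𝟙 i) := hc'.fac (sectionCone D hoi i x hx) (Over.mk (𝟙 i))
  have h2 := sectionLift_fac D hoi i x hx i (𝟙 i)
  rw [D.map_id, Category.comp_id] at h2
  rw [h1, h2]

include hc in
/-- The stalk maps of the projections of a limit with open-immersion transitions are isos. -/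
theorem isIso_stalkMap_π [∀ (i j : I) (f : i ⟶ j), IsAffineHom (D.map f)]
    (hoi : ∀ (i j : I) (φ : i ⟶ j), IsOpenImmersion (D.map φ)) (i : I) (s : c.pt) :
    IsIso ((c.π.app i).stalkMap s) := by
  haveI hmono : Mono (c.π.app i) := mono_π D c hc (fun i j φ => by
    haveI := hoi i j φ; infer_instance) i
  obtain ⟨σ, hσ⟩ := exists_section D c hc hoi i (c.π.app i s) (fun j φ =>
    ⟨c.π.app j s, LimTop.map_π_apply D c φ s⟩)
  have h1 := isIso_stalkMap_of_section (c.π.app i) σ (isIso_stalkClosedPointTo_of_eq _ hσ)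
  have h2 : σ (IsLocalRing.closedPoint _) = s := by
    apply (c.π.app i).injective
    exact (congr($hσ (IsLocalRing.closedPoint _))).trans Scheme.fromSpecStalk_closedPoint
  rw [← h2]
  exact h1

include hc in
/-- The projections of a limit with open-immersion transitions are topological embeddings. -/
theorem isEmbedding_π [∀ (i j : I) (f : i ⟶ j), IsAffineHom (D.map f)]
    (hoi : ∀ (i j : I) (φ : i ⟶ j), IsOpenImmersion (D.map φ)) (i : I) :
    IsEmbedding ⇑(c.π.app i) := by
  haveI hmono : Mono (c.π.app i) := mono_π D c hc (fun i j φ => by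
    haveI := hoi i j φ; infer_instance) i
  refine ⟨⟨le_antisymm (continuous_iff_le_induced.mp (c.π.app i).continuous) ?_⟩,
    (c.π.app i).injective⟩
  intro U hU
  rw [@isOpen_iff_forall_mem_open _ (TopologicalSpace.induced _ _)]
  intro s hs
  obtain ⟨j, O, hsO, hsub⟩ := LimTop.exists_preimage_subset_of_isOpen D c hc hU hs
  let k := IsCofiltered.min i j
  let a : k ⟶ i := IsCofiltered.minToLeft i j
  let b : k ⟶ j := IsCofiltered.minToRight i j
  haveI := hoi _ _ a
  have hVopen : IsOpen (⇑(D.map a) '' (⇑(D.map b) ⁻¹' (O : Set (D.obj j)))) :=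
    (D.map a).isOpenEmbedding.isOpenMap _ (O.2.preimage (D.map b).continuous)
  have hpre : ⇑(c.π.app i) ⁻¹' (⇑(D.map a) '' (⇑(D.map b) ⁻¹' (O : Set (D.obj j)))) =
      ⇑(c.π.app j) ⁻¹' (O : Set (D.obj j)) := by
    ext w
    simp only [Set.mem_preimage]
    rw [← LimTop.map_π_apply D c a w, (D.map a).isOpenEmbedding.injective.mem_set_image,
      Set.mem_preimage, LimTop.map_π_apply D c b w]
  refine ⟨_, ?_, isOpen_induced hVopen, ?_⟩
  · rw [hpre]; exact hsub
  · rw [hpre]; exact hsO

end Groth.Agent.Lib.Helper12.LimOpenTrans
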