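import Mathlib
import Groth.Agent.Lib.Helper12.LimOpenTrans

/-!
# Reducedness for cofiltered limits with open-immersion transitions
-/

universe u

set_option backward.isDefEq.respectTransparency false

open CategoryTheory Limits AlgebraicGeometry Topology

namespace Groth.Agent.Lib.Helper12.LimReduced

/-- Finitely many eventually-true, refinement-stable conditions hold simultaneously at some
index of a cofiltered category. -/
lemma exists_forall_of_finset {J : Type*} [Category J] [IsCofiltered J] {ι : Type*}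
    (T : Finset ι) (P : ι → J → Prop)
    (hstab : ∀ (a : ι) {k k' : J} (_ : k' ⟶ k), P a k → P a k')
    (h : ∀ a ∈ T, ∃ k, P a k) : ∃ k, ∀ a ∈ T, P a k := by
  classical
  induction T using Finset.induction_on with
  | empty => exact ⟨IsCofiltered.nonempty.some, fun a ha => absurd ha (Finset.notMem_empty a)⟩
  | insert a T ha ih =>
    obtain ⟨k₁, hk₁⟩ := ih (fun b hb => h b (Finset.mem_insert_of_mem hb))
    obtain ⟨k₂, hk₂⟩ := h a (Finset.mem_insert_self a T)
    refine ⟨IsCofiltered.min k₁ k₂, fun b hb => ?_⟩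
    rcases Finset.mem_insert.mp hb with rfl | hb
    · exact hstab _ (IsCofiltered.minToRight k₁ k₂) hk₂
    · exact hstab _ (IsCofiltered.minToLeft k₁ k₂) (hk₁ b hb)

/-- A localization of `A` whose structure map kills the nilradical of `A` is reduced. -/
lemma isReduced_of_isLocalization {A L : Type*} [CommRing A] [CommRing L] [Algebra A L]
    (M : Submonoid A) [IsLocalization M L] (h : ∀ n ∈ nilradical A, algebraMap A L n = 0) :
    IsReduced L := by
  constructor
  intro l hl
  obtain ⟨a, s, rfl⟩ := IsLocalization.exists_mk'_eq M l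
  obtain ⟨m, hm⟩ := hl
  rw [← IsLocalization.mk'_pow, IsLocalization.mk'_eq_zero_iff] at hm
  obtain ⟨t, ht⟩ := hm
  have hnil : (t : A) * a ∈ nilradical A := by
    rw [mem_nilradical]
    refine ⟨m + 1, ?_⟩
    rw [mul_pow, pow_succ (t : A), pow_succ a]
    calc (t : A) ^ m * t * (a ^ m * a) = (t : A) ^ m * a * ((t : A) * a ^ m) := by ring
      _ = 0 := by rw [ht, mul_zero]
  have h0 := h _ hnil
  rw [map_mul] at h0
  have hunit : IsUnit (algebraMap A L (t : A)) := IsLocalization.map_units L t
  have ha0 : algebraMap A L a = 0 := (hunit.mul_right_eq_zero).mp h0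
  rw [IsLocalization.mk'_eq_zero_iff]
  exact (IsLocalization.map_eq_zero_iff M L a).mp ha0

/-- If the germ map at `x` kills the nilradical of the sections over an affine open
neighbourhood, the stalk at `x` is reduced. -/
lemma isReduced_stalk_of_germ_eq_zero {Y : Scheme.{u}} {U : Y.Opens} (hU : IsAffineOpen U) (x : Y)
    (hx : x ∈ U) (h : ∀ n ∈ nilradical Γ(Y, U), Y.presheaf.germ U x hx n = 0) :
    _root_.IsReduced (Y.presheaf.stalk x) := by
  letI := Y.presheaf.algebra_section_stalk ⟨x, hx⟩
  haveI := hU.isLocalization_stalk ⟨x, hx⟩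
  exact isReduced_of_isLocalization (hU.primeIdealOf ⟨x, hx⟩).asIdeal.primeCompl h

/-- For an open immersion `f : X ⟶ Y` killing the nilradical of an affine open `U` of `Y`,
the stalks of `X` at points over `U` are reduced. -/
lemma isReduced_stalk_of_isOpenImmersion {X Y : Scheme.{u}} (f : X ⟶ Y) [IsOpenImmersion f]
    {U : Y.Opens} (hU : IsAffineOpen U) (h : ∀ n ∈ nilradical Γ(Y, U), f.app U n = 0) (y : X)
    (hy : f y ∈ U) : _root_.IsReduced (X.presheaf.stalk y) := by
  haveI : IsIso (f.stalkMap y) := inferInstance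
  have h1 : _root_.IsReduced (Y.presheaf.stalk (f y)) := by
    refine isReduced_stalk_of_germ_eq_zero hU (f y) hy (fun n hn => ?_)
    have hinj : Function.Injective (f.stalkMap y) :=
      (ConcreteCategory.bijective_of_isIso (f.stalkMap y)).1
    apply hinj
    rw [Scheme.Hom.germ_stalkMap_apply, h n hn, map_zero, map_zero]
  exact isReduced_of_injective (inv (f.stalkMap y)).hom
    (ConcreteCategory.bijective_of_isIso (inv (f.stalkMap y))).1

lemma app_eq_zero_of_comp {X Y Z : Scheme.{u}} (g : X ⟶ Y) (h : Y ⟶ Z) (f : X ⟶ Z)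
    (e : f = g ≫ h) (U : Z.Opens) (n : Γ(Z, U)) (hn : h.app U n = 0) : f.app U n = 0 := by
  subst e
  rw [Scheme.Hom.comp_app, CommRingCat.comp_apply, hn, map_zero]

variable {I : Type u} [SmallCategory I] [IsCofiltered I] (D : I ⥤ Scheme.{u}) (c : Cone D)
  (hc : IsLimit c)

include hc in
/-- With open-immersion transitions, the limit is reduced as soon as one stage is. -/
theorem isReduced_pt_of_isReduced_stage [∀ (i j : I) (f : i ⟶ j), IsAffineHom (D.map f)]
    (hoi : ∀ (i j : I) (φ : i ⟶ j), IsOpenImmersion (D.map φ)) (i : I) [IsReduced (D.obj i)] :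
    IsReduced c.pt := by
  haveI : ∀ s : c.pt, _root_.IsReduced (c.pt.presheaf.stalk s) := fun s => by
    haveI := LimOpenTrans.isIso_stalkMap_π D c hc hoi i s
    exact isReduced_of_injective (inv ((c.π.app i).stalkMap s)).hom
      (ConcreteCategory.bijective_of_isIso (inv ((c.π.app i).stalkMap s))).1
  exact isReduced_of_isReduced_stalk c.pt

include hc in
/-- The nilradical of an affine open of a stage (finitely generated) dies at a later stage
when the limit is reduced. -/
lemma exists_forall_nilradical_app_eq_zero [∀ (i j : I) (f : i ⟶ j), IsAffineHom (D.map f)]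
    (i₀ : I) [IsReduced c.pt] (U : (D.obj i₀).Opens) (hU : IsAffineOpen U)
    (hN : (nilradical Γ(D.obj i₀, U)).FG) :
    ∃ k : Over i₀, ∀ n ∈ nilradical Γ(D.obj i₀, U), (D.map k.hom).app U n = 0 := by
  haveI : ∀ {i j : I} (f : i ⟶ j), IsAffineHom (D.map f) := fun f => inferInstance
  obtain ⟨G, hG⟩ := hN
  obtain ⟨k, hk⟩ := exists_forall_of_finset G
    (fun (n : Γ(D.obj i₀, U)) (k : Over i₀) => (D.map k.hom).app U n = 0)
    (fun n k k' (a : k' ⟶ k) hn =>
      app_eq_zero_of_comp (D.map (CommaMorphism.left a)) (D.map k.hom) (D.map k'.hom)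
      (by rw [← D.map_comp, Over.w a]) U n hn)
    (fun n hnG => by
      have hnil : IsNilpotent n := by
        rw [← mem_nilradical, ← hG]
        exact Ideal.subset_span hnG
      have h0 : (c.π.app i₀).app U n = 0 :=
        @IsNilpotent.eq_zero _ _ _ _
          (inferInstanceAs (_root_.IsReduced Γ(c.pt, (c.π.app i₀) ⁻¹ᵁ U)))
          (hnil.map ((c.π.app i₀).app U).hom)
      obtain ⟨j, f, hf⟩ := exists_app_map_eq_zero_of_isLimit D c hc hU.isCompact n h0
      exact ⟨Over.mk f, hf⟩)
  refine ⟨k, fun n hn => ?_⟩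
  have hle : Ideal.span (G : Set Γ(D.obj i₀, U)) ≤ RingHom.ker ((D.map k.hom).app U).hom :=
    Ideal.span_le.mpr (fun n hn => (RingHom.mem_ker).mpr (hk n hn))
  rw [← hG] at hn
  exact (RingHom.mem_ker).mp (hle hn)

include hc in
/-- With open-immersion transitions and a quasi-compact stage whose nilradical is of finite
type, if the limit is reduced then so are all sufficiently small stages. -/
theorem exists_isReduced_stage [∀ (i j : I) (f : i ⟶ j), IsAffineHom (D.map f)] (i₀ : I)
    [CompactSpace (D.obj i₀)] (hoi : ∀ (i j : I) (φ : i ⟶ j), IsOpenImmersion (D.map φ))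
    (hN : ∀ U : (D.obj i₀).affineOpens, (nilradical Γ(D.obj i₀, U)).FG) [IsReduced c.pt] :
    ∃ (i : I) (_ : i ⟶ i₀), ∀ (j : I) (_ : j ⟶ i), IsReduced (D.obj j) := by
  classical
  choose W hW hxW _ using fun x : D.obj i₀ =>
    Groth.Agent.Lib.Helper26.ProConsTop.exists_isAffineOpen_mem_le (D.obj i₀) x ⊤ trivial
  obtain ⟨t, ht⟩ := isCompact_univ.elim_finite_subcover (fun x : D.obj i₀ => (W x : Set (D.obj i₀)))
    (fun x => (W x).2) (fun x _ => Set.mem_iUnion.mpr ⟨x, hxW x⟩)
  obtain ⟨k, hk⟩ := exists_forall_of_finset t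
    (fun (x : D.obj i₀) (k : Over i₀) =>
      ∀ n ∈ nilradical Γ(D.obj i₀, W x), (D.map k.hom).app (W x) n = 0)
    (fun x k k' (a : k' ⟶ k) h n hn =>
      app_eq_zero_of_comp (D.map (CommaMorphism.left a)) (D.map k.hom) (D.map k'.hom)
      (by rw [← D.map_comp, Over.w a]) (W x) n (h n hn))
    (fun x _ => exists_forall_nilradical_app_eq_zero D c hc i₀ (W x) (hW x) (hN ⟨W x, hW x⟩))
  refine ⟨k.left, k.hom, fun j g => ?_⟩
  haveI := hoi _ _ (g ≫ k.hom)
  haveI : ∀ y : D.obj j, _root_.IsReduced ((D.obj j).presheaf.stalk y) := fun y => by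
    obtain ⟨x, hxt, hyx⟩ : ∃ x ∈ t, D.map (g ≫ k.hom) y ∈ W x := by
      have := ht (Set.mem_univ (D.map (g ≫ k.hom) y))
      simpa using this
    refine isReduced_stalk_of_isOpenImmersion (D.map (g ≫ k.hom)) (hW x) (fun n hn => ?_) y hyx
    exact app_eq_zero_of_comp (D.map g) (D.map k.hom) _ (D.map_comp _ _) (W x) n (hk x hxt n hn)
  exact isReduced_of_isReduced_stalk _

end Groth.Agent.Lib.Helper12.LimReduced
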