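import Mathlib

/-! Constructible sets and cofiltered limits of schemes with affine transition maps:
a constructible subset of a stage whose preimage in the limit is empty already has empty
preimage at some later stage (EGA IV 8.3.4). -/

set_option autoImplicit false
universe u
open AlgebraicGeometry CategoryTheory TopologicalSpace Limits Topology

namespace Groth.Agent.Lib.Helper12.LimConstr

variable {I : Type u} [SmallCategory I] [IsCofiltered I] (D : I ⥤ Scheme.{u}) (c : Cone D)
  (hc : IsLimit c)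

include hc in
theorem exists_preimage_eq_empty [∀ {i j : I} (f : i ⟶ j), IsAffineHom (D.map f)] (i₀ : I)
    [CompactSpace (D.obj i₀)] [QuasiSeparatedSpace (D.obj i₀)]
    (C : Set (D.obj i₀)) (hC : IsConstructible C) (hempty : (c.π.app i₀).base ⁻¹' C = ∅) :
    ∃ (j : I) (φ : j ⟶ i₀), (D.map φ).base ⁻¹' C = ∅ := by
  haveI : Nonempty ((D.obj i₀).affineOpens) := ⟨⟨⊥, isAffineOpen_bot _⟩⟩
  have hbasis : IsTopologicalBasis
      (Set.range fun U : (D.obj i₀).affineOpens => ((U.1 : (D.obj i₀).Opens) : Set (D.obj i₀))) := by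
    have := (D.obj i₀).isBasis_affineOpens
    rw [Opens.IsBasis, Set.image_eq_range] at this
    exact this
  revert hempty
  induction C, hC using IsConstructible.induction_of_isTopologicalBasis
    (fun U : (D.obj i₀).affineOpens => ((U.1 : (D.obj i₀).Opens) : Set (D.obj i₀))) hbasis
    (fun U => U.2.isCompact) with
  | sdiff U s hs =>
    intro hempty
    let V : (D.obj i₀).Opens := ⨆ j ∈ s, (j.1 : (D.obj i₀).Opens)
    have hV : (V : Set (D.obj i₀)) = ⋃ j ∈ s, ((j.1 : (D.obj i₀).Opens) : Set (D.obj i₀)) := by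
      simp [V]
    have hle : c.π.app i₀ ⁻¹ᵁ U.1 ≤ c.π.app i₀ ⁻¹ᵁ V := by
      intro x hx
      by_contra hxV
      have : x ∈ (c.π.app i₀).base ⁻¹' (((U.1 : (D.obj i₀).Opens) : Set (D.obj i₀)) \
          ⋃ j ∈ s, ((j.1 : (D.obj i₀).Opens) : Set (D.obj i₀))) := by
        refine ⟨hx, ?_⟩
        rw [← hV]
        exact hxV
      rw [hempty] at this
      exact this
    obtain ⟨j, φ, hj⟩ := exists_map_preimage_le_map_preimage D c hc U.2.isCompact hle
    refine ⟨j, φ, ?_⟩
    rw [Set.eq_empty_iff_forall_notMem]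
    rintro x ⟨hxU, hxV⟩
    apply hxV
    rw [← hV]
    exact hj hxU
  | union s hs t ht ihs iht =>
    intro hempty
    rw [Set.preimage_union, Set.union_empty_iff] at hempty
    obtain ⟨j₁, φ₁, h₁⟩ := ihs hempty.1
    obtain ⟨j₂, φ₂, h₂⟩ := iht hempty.2
    obtain ⟨k, ψ₁, ψ₂, e⟩ := IsCofiltered.cospan φ₁ φ₂
    refine ⟨k, ψ₁ ≫ φ₁, ?_⟩
    rw [Set.preimage_union, Set.union_empty_iff]
    constructor
    · rw [Functor.map_comp, Scheme.Hom.comp_base, TopCat.coe_comp, Set.preimage_comp, h₁,
        Set.preimage_empty]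
    · rw [e, Functor.map_comp, Scheme.Hom.comp_base, TopCat.coe_comp, Set.preimage_comp, h₂,
        Set.preimage_empty]

end Groth.Agent.Lib.Helper12.LimConstr
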