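import Mathlib
import Groth.Agent.Lib.Helper12.LimData

/-!
# The diagonal of limit data
-/

universe u

open CategoryTheory Limits AlgebraicGeometry

namespace Groth.Agent.Lib.Helper12

set_option backward.isDefEq.respectTransparency false

namespace LimData

variable {J : Type u} [SmallCategory J] (A : LimData J)

/-- The diagram of self fibre products `DX j ×_{DY j} DX j`. -/
noncomputable def diagObj : J ⥤ Scheme.{u} where
  obj j := pullback (A.F.app j) (A.F.app j)
  map {j k} a := pullback.lift (pullback.fst _ _ ≫ A.DX.map a) (pullback.snd _ _ ≫ A.DX.map a)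
    (by rw [Category.assoc, Category.assoc, A.F.naturality, pullback.condition_assoc])
  map_id j := by apply pullback.hom_ext <;> simp
  map_comp a b := by apply pullback.hom_ext <;> simp

@[reassoc (attr := simp)] lemma diagObj_map_fst {j k : J} (a : j ⟶ k) :
    A.diagObj.map a ≫ pullback.fst (A.F.app k) (A.F.app k) =
      pullback.fst (A.F.app j) (A.F.app j) ≫ A.DX.map a := by
  simp [diagObj]

@[reassoc (attr := simp)] lemma diagObj_map_snd {j k : J} (a : j ⟶ k) :
    A.diagObj.map a ≫ pullback.snd (A.F.app k) (A.F.app k) =
      pullback.snd (A.F.app j) (A.F.app j) ≫ A.DX.map a := by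
  simp [diagObj]

/-- The diagonal natural transformation. -/
noncomputable def diagHom : A.DX ⟶ A.diagObj where
  app j := pullback.diagonal (A.F.app j)
  naturality j k a := by
    apply pullback.hom_ext
    · rw [Category.assoc, Category.assoc, diagObj_map_fst, pullback.diagonal_fst,
        pullback.diagonal_fst_assoc, Category.comp_id]
    · rw [Category.assoc, Category.assoc, diagObj_map_snd, pullback.diagonal_snd,
        pullback.diagonal_snd_assoc, Category.comp_id]

/-- The cone over `diagObj` with point `X ×_Y X`. -/
noncomputable def diagCone : Cone A.diagObj where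
  pt := pullback A.f A.f
  π :=
    { app := fun j => pullback.lift (pullback.fst _ _ ≫ A.cX.π.app j)
        (pullback.snd _ _ ≫ A.cX.π.app j)
        (by rw [Category.assoc, Category.assoc, A.hf, pullback.condition_assoc])
      naturality := fun j k a => by
        apply pullback.hom_ext
        · simp [diagObj_map_fst]
        · simp [diagObj_map_snd] }

@[reassoc (attr := simp)] lemma diagCone_π_fst (j : J) :
    A.diagCone.π.app j ≫ pullback.fst (A.F.app j) (A.F.app j) =
      pullback.fst A.f A.f ≫ A.cX.π.app j := by
  simp [diagCone]

@[reassoc (attr := simp)] lemma diagCone_π_snd (j : J) :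
    A.diagCone.π.app j ≫ pullback.snd (A.F.app j) (A.F.app j) =
      pullback.snd A.f A.f ≫ A.cX.π.app j := by
  simp [diagCone]

/-- The first projection cone of a cone over `diagObj`. -/
noncomputable def fstCone (s : Cone A.diagObj) : Cone A.DX where
  pt := s.pt
  π :=
    { app := fun j => s.π.app j ≫ pullback.fst _ _
      naturality := fun j k a => by
        have := s.w a
        simp only [Functor.const_obj_obj, Functor.const_obj_map, Category.id_comp,
          Category.assoc]
        rw [← this, Category.assoc, diagObj_map_fst] }

/-- The second projection cone of a cone over `diagObj`. -/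
noncomputable def sndCone (s : Cone A.diagObj) : Cone A.DX where
  pt := s.pt
  π :=
    { app := fun j => s.π.app j ≫ pullback.snd _ _
      naturality := fun j k a => by
        have := s.w a
        simp only [Functor.const_obj_obj, Functor.const_obj_map, Category.id_comp,
          Category.assoc]
        rw [← this, Category.assoc, diagObj_map_snd] }

/-- `diagCone` is a limit cone. -/
noncomputable def isLimitDiagCone : IsLimit A.diagCone where
  lift s := pullback.lift (A.hcX.lift (A.fstCone s)) (A.hcX.lift (A.sndCone s)) (by
    apply A.hcY.hom_ext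
    intro j
    rw [Category.assoc, Category.assoc, ← A.hf, A.hcX.fac_assoc, A.hcX.fac_assoc]
    simp [fstCone, sndCone, pullback.condition])
  fac s j := by
    apply pullback.hom_ext
    · rw [Category.assoc, diagCone_π_fst, pullback.lift_fst_assoc, A.hcX.fac]
      rfl
    · rw [Category.assoc, diagCone_π_snd, pullback.lift_snd_assoc, A.hcX.fac]
      rfl
  uniq s m hm := by
    apply pullback.hom_ext
    · rw [pullback.lift_fst]
      apply A.hcX.hom_ext
      intro j
      rw [A.hcX.fac, Category.assoc, ← diagCone_π_fst, ← Category.assoc, hm]
      rfl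
    · rw [pullback.lift_snd]
      apply A.hcX.hom_ext
      intro j
      rw [A.hcX.fac, Category.assoc, ← diagCone_π_snd, ← Category.assoc, hm]
      rfl

lemma isPullback_diagObj_map_fst {j k : J} (a : j ⟶ k) :
    IsPullback (A.diagObj.map a) (pullback.fst (A.F.app j) (A.F.app j))
      (pullback.fst (A.F.app k) (A.F.app k)) (A.DX.map a) := by
  refine IsPullback.of_right ?_ (A.diagObj_map_fst a)
    (IsPullback.of_hasPullback (A.F.app k) (A.F.app k)).flip
  rw [diagObj_map_snd, A.F.naturality]
  exact (IsPullback.of_hasPullback (A.F.app j) (A.F.app j)).flip.paste_horiz (A.hF a)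

lemma isPullback_diagHom {j k : J} (a : j ⟶ k) :
    IsPullback (A.DX.map a) (A.diagHom.app j) (A.diagHom.app k) (A.diagObj.map a) := by
  refine IsPullback.of_bot ?_ (A.diagHom.naturality a) (A.isPullback_diagObj_map_fst a)
  have h1 : A.diagHom.app j ≫ pullback.fst (A.F.app j) (A.F.app j) = 𝟙 _ :=
    pullback.diagonal_fst _
  have h2 : A.diagHom.app k ≫ pullback.fst (A.F.app k) (A.F.app k) = 𝟙 _ :=
    pullback.diagonal_fst _
  rw [h1, h2]
  exact IsPullback.of_vert_isIso ⟨by simp⟩

/-- The diagonal limit data. -/
noncomputable def diag : LimData J where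
  DX := A.DX
  DY := A.diagObj
  F := A.diagHom
  cX := A.cX
  cY := A.diagCone
  hcX := A.hcX
  hcY := A.isLimitDiagCone
  f := pullback.diagonal A.f
  hf := fun j => by
    apply pullback.hom_ext
    · rw [Category.assoc, Category.assoc, diagCone_π_fst, pullback.diagonal_fst_assoc]
      exact (Category.assoc _ _ _).symm.trans (by
        rw [show A.diagHom.app j = pullback.diagonal (A.F.app j) from rfl,
          Category.assoc, pullback.diagonal_fst, Category.comp_id])
    · rw [Category.assoc, Category.assoc, diagCone_π_snd, pullback.diagonal_snd_assoc]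
      exact (Category.assoc _ _ _).symm.trans (by
        rw [show A.diagHom.app j = pullback.diagonal (A.F.app j) from rfl,
          Category.assoc, pullback.diagonal_snd, Category.comp_id])
  hF := fun a => A.isPullback_diagHom a
  affY := fun a => MorphismProperty.of_isPullback (P := @IsAffineHom)
    (A.isPullback_diagObj_map_fst a).flip inferInstance
  cptX := A.cptX
  qsX := A.qsX
  cptY := fun j => by
    haveI : QuasiCompact (pullback.fst (A.F.app j) (A.F.app j)) :=
      MorphismProperty.pullback_fst (P := @QuasiCompact) _ _ inferInstance
    exact QuasiCompact.compactSpace_of_compactSpace (pullback.fst (A.F.app j) (A.F.app j))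
  qsY := fun j => by
    haveI : QuasiSeparated (A.F.app j) :=
      (inferInstance : QuasiSeparated (show A.DX.obj j ⟶ A.DY.obj j from A.F.app j))
    haveI : QuasiSeparated (pullback.fst (A.F.app j) (A.F.app j)) :=
      MorphismProperty.pullback_fst (P := @QuasiSeparated) _ _ inferInstance
    exact quasiSeparatedSpace_of_quasiSeparated (pullback.fst (A.F.app j) (A.F.app j))

lemma diag_F_app (j : J) : A.diag.F.app j = pullback.diagonal (A.F.app j) := rfl

lemma diag_f : A.diag.f = pullback.diagonal A.f := rfl

end LimData

end Groth.Agent.Lib.Helper12
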