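import Mathlib
import Groth.Agent.Lib.Helper12.LimDiag
import Groth.Agent.Lib.Helper12.LimCI
import Groth.Agent.S12442

/-!
# Separatedness and unramifiedness descend along cofiltered limits
-/

universe u

open CategoryTheory Limits AlgebraicGeometry

namespace Groth.Agent.Lib.Helper12

set_option backward.isDefEq.respectTransparency false

/-- The diagonal of a morphism locally of finite type is locally of finite presentation. -/
theorem locallyOfFinitePresentation_diagonal {X Y : Scheme.{u}} (f : X ⟶ Y)
    [LocallyOfFiniteType f] : LocallyOfFinitePresentation (pullback.diagonal f) := by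
  refine Groth.Agent.S12442.aux (pullback.diagonal f) (pullback.fst f f) ?_
    (MorphismProperty.pullback_fst (P := @LocallyOfFiniteType) _ _ inferInstance)
  rw [pullback.diagonal_fst]
  infer_instance

namespace LimData

variable {J : Type u} [SmallCategory J] [IsCofiltered J] (A : LimData J)

/-- Separatedness descends. -/
theorem exists_isSeparated (hf : IsSeparated A.f) : ∃ j, IsSeparated (A.F.app j) := by
  haveI := hf
  haveI : ∀ j, LocallyOfFiniteType (A.diag.F.app j) := fun j => by
    rw [diag_F_app]; infer_instance
  have h1 : IsClosedImmersion A.diag.f := by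
    rw [diag_f]; infer_instance
  obtain ⟨j, hj⟩ := A.diag.exists_isClosedImmersion h1
  rw [diag_F_app] at hj
  exact ⟨j, ⟨hj⟩⟩

/-- Formal unramifiedness descends for morphisms locally of finite type. -/
theorem exists_formallyUnramified [∀ j, LocallyOfFiniteType (A.F.app j)]
    [LocallyOfFiniteType A.f]
    (hf : FormallyUnramified A.f) : ∃ j, FormallyUnramified (A.F.app j) := by
  haveI := hf
  haveI : ∀ j, LocallyOfFinitePresentation (A.diag.F.app j) := fun j => by
    rw [diag_F_app]; exact locallyOfFinitePresentation_diagonal _
  have h1 : IsOpenImmersion A.diag.f := by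
    rw [diag_f]; infer_instance
  obtain ⟨j, hj⟩ := LimOpenImm.exists_isOpenImmersion_app A.diag.DX A.diag.DY A.diag.F A.diag.cX
    A.diag.hcX A.diag.cY A.diag.hcY A.diag.f (fun a => A.diag.hF a) A.diag.hf h1
  rw [diag_F_app] at hj
  exact ⟨j, inferInstance⟩

end LimData

end Groth.Agent.Lib.Helper12
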