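import Mathlib
import Groth.Agent.Lib.Helper12.LimData

/-!
# The projections of limit data are cartesian
-/

universe u

open CategoryTheory Limits AlgebraicGeometry

namespace Groth.Agent.Lib.Helper12

set_option backward.isDefEq.respectTransparency false

namespace LimData

variable {J : Type u} [SmallCategory J] [IsCofiltered J] (A : LimData J)

section lift

variable (j : J) {T : Scheme.{u}} (a : T ⟶ A.DX.obj j) (b : T ⟶ A.cY.pt)
  (hab : a ≫ A.F.app j = b ≫ A.cY.π.app j)

/-- Components of the cone used to lift into the limit. -/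
noncomputable def liftApp (k : Over j) : T ⟶ A.DX.obj k.left :=
  (A.hF k.hom).lift a (b ≫ A.cY.π.app k.left) (by rw [Category.assoc, A.cY.w, hab])

@[reassoc] lemma liftApp_map (k : Over j) :
    A.liftApp j a b hab k ≫ A.DX.map k.hom = a := (A.hF k.hom).lift_fst _ _ _

@[reassoc] lemma liftApp_F (k : Over j) :
    A.liftApp j a b hab k ≫ A.F.app k.left = b ≫ A.cY.π.app k.left := (A.hF k.hom).lift_snd _ _ _

/-- The cone over the diagram restricted to `Over j`. -/
noncomputable def liftCone : Cone (Over.forget j ⋙ A.DX) where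
  pt := T
  π :=
    { app := fun k => A.liftApp j a b hab k
      naturality := fun k l m => by
        dsimp
        rw [Category.id_comp]
        apply (A.hF l.hom).hom_ext
        · rw [Category.assoc, ← A.DX.map_comp, Over.w m, liftApp_map, liftApp_map]
        · rw [Category.assoc, A.F.naturality, liftApp_F_assoc, A.cY.w, liftApp_F] }

/-- The induced map to the limit. -/
noncomputable def lift : T ⟶ A.cX.pt :=
  ((Functor.Initial.isLimitWhiskerEquiv (Over.forget j) A.cX).symm A.hcX).lift
    (A.liftCone j a b hab)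

lemma lift_π (k : Over j) :
    A.lift j a b hab ≫ A.cX.π.app k.left = A.liftApp j a b hab k :=
  ((Functor.Initial.isLimitWhiskerEquiv (Over.forget j) A.cX).symm A.hcX).fac
    (A.liftCone j a b hab) k

lemma lift_fst : A.lift j a b hab ≫ A.cX.π.app j = a := by
  have h1 := A.lift_π j a b hab (Over.mk (𝟙 j))
  have h2 := A.liftApp_map j a b hab (Over.mk (𝟙 j))
  simp only [Over.mk_left, Over.mk_hom, A.DX.map_id, Category.comp_id] at h1 h2
  rw [h1, h2]

lemma lift_snd : A.lift j a b hab ≫ A.f = b := by
  apply ((Functor.Initial.isLimitWhiskerEquiv (Over.forget j) A.cY).symm A.hcY).hom_ext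
  intro k
  show (A.lift j a b hab ≫ A.f) ≫ A.cY.π.app k.left = b ≫ A.cY.π.app k.left
  rw [Category.assoc, ← A.hf, ← Category.assoc, lift_π, liftApp_F]

end lift

lemma hom_ext_of_π {T : Scheme.{u}} (j : J) (w w' : T ⟶ A.cX.pt)
    (h1 : w ≫ A.cX.π.app j = w' ≫ A.cX.π.app j) (h2 : w ≫ A.f = w' ≫ A.f) : w = w' := by
  apply ((Functor.Initial.isLimitWhiskerEquiv (Over.forget j) A.cX).symm A.hcX).hom_ext
  intro k
  show w ≫ A.cX.π.app k.left = w' ≫ A.cX.π.app k.left
  apply (A.hF k.hom).hom_ext
  · rw [Category.assoc, Category.assoc, A.cX.w, h1]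
  · rw [Category.assoc, Category.assoc, A.hf, ← Category.assoc, ← Category.assoc, h2]

/-- The projections from the limits form cartesian squares with the stage maps. -/
theorem isPullback_π (j : J) :
    IsPullback (A.cX.π.app j) A.f (A.F.app j) (A.cY.π.app j) :=
  ⟨⟨A.hf j⟩, ⟨PullbackCone.IsLimit.mk (A.hf j)
    (fun s => A.lift j s.fst s.snd s.condition)
    (fun s => A.lift_fst j s.fst s.snd s.condition)
    (fun s => A.lift_snd j s.fst s.snd s.condition)
    (fun s m h1 h2 => A.hom_ext_of_π j m _
      (h1.trans (A.lift_fst j s.fst s.snd s.condition).symm)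
      (h2.trans (A.lift_snd j s.fst s.snd s.condition).symm))⟩⟩

/-- Whiskering limit data to `Over j₀`. -/
noncomputable def overData (j₀ : J) : LimData (Over j₀) where
  DX := Over.forget j₀ ⋙ A.DX
  DY := Over.forget j₀ ⋙ A.DY
  F := Functor.whiskerLeft (Over.forget j₀) A.F
  cX := A.cX.whisker (Over.forget j₀)
  cY := A.cY.whisker (Over.forget j₀)
  hcX := (Functor.Initial.isLimitWhiskerEquiv (Over.forget j₀) A.cX).symm A.hcX
  hcY := (Functor.Initial.isLimitWhiskerEquiv (Over.forget j₀) A.cY).symm A.hcY
  f := A.f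
  hf := fun k => A.hf k.left
  hF := fun a => A.hF a.left
  affY := fun a => A.affY a.left
  cptX := fun k => A.cptX k.left
  qsX := fun k => A.qsX k.left
  cptY := fun k => A.cptY k.left
  qsY := fun k => A.qsY k.left

end LimData

end Groth.Agent.Lib.Helper12
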