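import Mathlib
import Groth.Agent.Lib.Helper12.LimRing
import Groth.Agent.Lib.Helper12.LimOver

/-!
# Ring-level descent along limits of affine schemes: finite type variant, and finite morphisms
-/

universe u

open CategoryTheory Limits AlgebraicGeometry TensorProduct
open Groth.Agent.Lib.Helper8.WeakColim

namespace Groth.Agent.Lib.Helper12

set_option backward.isDefEq.respectTransparency false

/-- Variant of `DescendsWeakColim` for finite type algebras. -/
def DescendsWeakColimFT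
    (Q : ∀ {R S : Type u} [CommRing R] [CommRing S], (R →+* S) → Prop) : Prop :=
  ∀ {ι : Type u} (S : WSys.{u, u} ι) {R : Type u} [CommRing R] {B : ι → Type u}
    [∀ i, CommRing (B i)] [∀ i, Algebra R (B i)] {B' : Type u} [CommRing B'] [Algebra R B']
    {β : ∀ i, B i →ₐ[R] B'} {μ : ∀ {i j}, S.H i j → (B i →ₐ[R] B j)},
    IsWeakColim S B B' (fun i => β i) (fun h => μ h) →
    ∀ (C : Type u) [CommRing C] [Algebra R C] [Algebra.FiniteType R C],
      Q (algebraMap B' (B' ⊗[R] C)) → ∀ i₀, ∃ j, ∃ _ : S.H i₀ j, Q (algebraMap (B j) (B j ⊗[R] C))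

theorem descendsWeakColimFT_finite : DescendsWeakColimFT @RingHom.Finite := by
  intro ι S R _ B _ _ B' _ _ β μ hW C _ _ _ h i₀
  rw [RingHom.finite_algebraMap] at h
  haveI := h
  obtain ⟨j, hj, hj'⟩ := hW.exists_finite C i₀
  exact ⟨j, hj, RingHom.finite_algebraMap.mpr hj'⟩

/-- Abstract descent along a weak colimit, finite type variant. -/
theorem exists_of_descendsWeakColimFT
    {Q : ∀ {R S : Type u} [CommRing R] [CommRing S], (R →+* S) → Prop}
    (hQi : RingHom.RespectsIso @Q) (hQ : DescendsWeakColimFT @Q)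
    {ι : Type u} (S : WSys.{u, u} ι) {R C : CommRingCat.{u}} (φ : R ⟶ C)
    (hφ : φ.hom.FiniteType)
    (B : ι → CommRingCat.{u}) (ψ : ∀ i, R ⟶ B i) (B' : CommRingCat.{u}) (ψ' : R ⟶ B')
    (μ : ∀ {i j}, S.H i j → (B i ⟶ B j)) (hμ : ∀ {i j} (h : S.H i j), ψ i ≫ μ h = ψ j)
    (β : ∀ i, B i ⟶ B') (hβ : ∀ i, ψ i ≫ β i = ψ')
    (hW : IsWeakColim S (fun i => B i) B' (fun i => (β i).hom) (fun h => (μ h).hom))
    (X : ι → CommRingCat.{u}) (q : ∀ i, B i ⟶ X i) (p : ∀ i, C ⟶ X i)
    (H : ∀ i, IsPushout (ψ i) φ (q i) (p i))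
    (X' : CommRingCat.{u}) (q' : B' ⟶ X') (p' : C ⟶ X') (H' : IsPushout ψ' φ q' p')
    (hq' : Q q'.hom) (i₀ : ι) : ∃ j, ∃ _ : S.H i₀ j, Q (q j).hom := by
  letI algC : Algebra R C := φ.hom.toAlgebra
  letI algB : ∀ i, Algebra R (B i) := fun i => (ψ i).hom.toAlgebra
  letI algB' : Algebra R B' := ψ'.hom.toAlgebra
  haveI : Algebra.FiniteType R C := hφ
  let μ' : ∀ {i j}, S.H i j → (B i →ₐ[R] B j) := fun {i j} h =>
    { (μ h).hom with commutes' := fun r => congrArg (fun k => k.hom r) (hμ h) }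
  let β' : ∀ i, B i →ₐ[R] B' := fun i =>
    { (β i).hom with commutes' := fun r => congrArg (fun k => k.hom r) (hβ i) }
  have hW' : IsWeakColim S (fun i => B i) B' (fun i => β' i) (fun h => μ' h) := hW
  have h1 := (iff_of_isPushout hQi H').mp hq'
  obtain ⟨j, hj, hj'⟩ := hQ S hW' C h1 i₀
  exact ⟨j, hj, (iff_of_isPushout hQi (H j)).mpr hj'⟩

namespace LimData

variable {J : Type u} [SmallCategory J] [IsCofiltered J] (A : LimData J)

/-- **Descent of ring-theoretic properties to a stage**, finite type variant. -/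
theorem exists_of_descendsWeakColimFT
    {Q : ∀ {R S : Type u} [CommRing R] [CommRing S], (R →+* S) → Prop}
    (hQi : RingHom.RespectsIso @Q) (hQ : DescendsWeakColimFT @Q)
    {j₀ : J} (hT : IsTerminal j₀)
    (hXaff : ∀ j, IsAffine (A.DX.obj j)) (hYaff : ∀ j, IsAffine (A.DY.obj j))
    [LocallyOfFiniteType (A.F.app j₀)]
    (h : Q A.f.appTop.hom) : ∃ j, Q (A.F.app j).appTop.hom := by
  haveI : IsAffine A.cY.pt := Scheme.isAffine_of_isLimit _ A.hcY
  have hfp : (A.F.app j₀).appTop.hom.FiniteType :=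
    (HasRingHomProperty.iff_of_isAffine (P := @LocallyOfFiniteType)).mp inferInstance
  obtain ⟨j, -, hj⟩ := Groth.Agent.Lib.Helper12.exists_of_descendsWeakColimFT hQi hQ (wsys J)
    (A.F.app j₀).appTop hfp
    (fun j => Γ(A.DY.obj j, ⊤)) (fun j => (A.DY.map (hT.from j)).appTop) Γ(A.cY.pt, ⊤)
    (A.cY.π.app j₀).appTop
    (fun {i j} (h : j ⟶ i) => (A.DY.map h).appTop)
    (fun {i j} (h : j ⟶ i) => by
      rw [← Scheme.Hom.comp_appTop, ← A.DY.map_comp, hT.hom_ext (h ≫ hT.from i) (hT.from j)])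
    (fun j => (A.cY.π.app j).appTop)
    (fun j => by rw [← Scheme.Hom.comp_appTop, A.cY.w])
    A.isWeakColim_appTop
    (fun j => Γ(A.DX.obj j, ⊤)) (fun j => (A.F.app j).appTop)
    (fun j => (A.DX.map (hT.from j)).appTop)
    (fun j => (isPushout_appTop_of_isPullback (A.hF (hT.from j))).flip)
    Γ(A.cX.pt, ⊤) A.f.appTop (A.cX.π.app j₀).appTop
    (isPushout_appTop_of_isPullback (A.isPullback_π j₀)).flip h j₀
  exact ⟨j, hj⟩

/-- Finite morphisms descend when all stages are affine. -/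
theorem exists_isFinite_of_isAffine
    (hX : ∀ j, IsAffine (A.DX.obj j)) (hY : ∀ j, IsAffine (A.DY.obj j))
    [∀ j, LocallyOfFiniteType (A.F.app j)] (hf : IsFinite A.f) :
    ∃ j, IsFinite (A.F.app j) := by
  obtain ⟨j₀⟩ := IsCofiltered.nonempty (C := J)
  haveI : IsAffine A.cX.pt := Scheme.isAffine_of_isLimit _ A.hcX
  haveI : IsAffine A.cY.pt := Scheme.isAffine_of_isLimit _ A.hcY
  haveI : LocallyOfFiniteType ((A.overData j₀).F.app (Over.mk (𝟙 j₀))) :=
    inferInstanceAs (LocallyOfFiniteType (A.F.app j₀))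
  have h1 : RingHom.Finite (A.overData j₀).f.appTop.hom :=
    ((HasAffineProperty.iff_of_isAffine (P := @IsFinite)).mp hf).2
  obtain ⟨k, hk⟩ := (A.overData j₀).exists_of_descendsWeakColimFT RingHom.finite_respectsIso
    descendsWeakColimFT_finite Over.mkIdTerminal (fun k => hX k.left) (fun k => hY k.left) h1
  exact ⟨k.left, (HasAffineProperty.iff_of_isAffine (P := @IsFinite)).mpr ⟨hX _, hk⟩⟩

/-- Finite morphisms descend. -/
theorem exists_isFinite [∀ j, LocallyOfFiniteType (A.F.app j)]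
    (hf : IsFinite A.f) : ∃ j, IsFinite (A.F.app j) := by
  classical
  haveI := hf
  obtain ⟨j₀, hj₀⟩ := A.exists_isAffineHom inferInstance
  haveI : IsAffineHom (A.F.app j₀) := hj₀ j₀ (𝟙 _)
  let 𝒰 := (A.DY.obj j₀).affineCover.finiteSubcover
  have hW : ∀ α : 𝒰.I₀, IsAffineOpen (𝒰.f α).opensRange :=
    fun α => isAffineOpen_opensRange (𝒰.f α)
  have key : ∀ α : 𝒰.I₀, ∃ k : Over j₀, IsFinite
      ((A.restrict j₀ (𝒰.f α).opensRange (hW α).isCompact).F.app k) := by
    intro α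
    have hBX : ∀ k, IsAffine ((A.restrict j₀ (𝒰.f α).opensRange (hW α).isCompact).DX.obj k) :=
      fun k => ((hW α).preimage (A.F.app j₀)).preimage (A.DX.map k.hom)
    have hBY : ∀ k, IsAffine ((A.restrict j₀ (𝒰.f α).opensRange (hW α).isCompact).DY.obj k) :=
      fun k => (hW α).preimage (A.DY.map k.hom)
    haveI : ∀ k, LocallyOfFiniteType
        ((A.restrict j₀ (𝒰.f α).opensRange (hW α).isCompact).F.app k) := fun k =>
      IsZariskiLocalAtTarget.of_isPullback (P := @LocallyOfFiniteType)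
        (isPullback_resLE_ι _ _ _ (A.preimage_eq k.hom _)) inferInstance
    have hBf : IsFinite (A.restrict j₀ (𝒰.f α).opensRange (hW α).isCompact).f :=
      IsZariskiLocalAtTarget.of_isPullback (P := @IsFinite)
        (isPullback_resLE_ι _ _ _ (A.preimage_eq' j₀ _)) inferInstance
    exact (A.restrict j₀ (𝒰.f α).opensRange (hW α).isCompact).exists_isFinite_of_isAffine
      hBX hBY hBf
  choose k hk using key
  obtain ⟨j, g, a, ha⟩ := IsCofiltered.wideCospan (fun α => (k α).hom)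
  refine ⟨j, ?_⟩
  refine IsZariskiLocalAtTarget.of_iSup_eq_top (P := @IsFinite)
    (fun α => A.DY.map g ⁻¹ᵁ (𝒰.f α).opensRange) ?_ fun α => ?_
  · rw [← Scheme.Hom.preimage_iSup, 𝒰.iSup_opensRange]
    rfl
  · have h1 : IsFinite ((A.restrict j₀ (𝒰.f α).opensRange (hW α).isCompact).F.app
        (Over.mk g)) :=
      MorphismProperty.of_isPullback (P := @IsFinite)
        ((A.restrict j₀ (𝒰.f α).opensRange (hW α).isCompact).hF
          (Over.homMk (a α) (ha α) : Over.mk g ⟶ k α)) (hk α)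
    exact morphismRestrict_of_resLE _ _ _ _ (A.preimage_eq g _) h1

end LimData

end Groth.Agent.Lib.Helper12
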