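import Mathlib
import Groth.Agent.Lib.Helper12.ProductDim

/-!
# Helper library (helper12): arithmetic in `WithBot ℕ∞`
-/

set_option autoImplicit false

namespace Groth.Agent.Lib.Helper12.WithBotENat

open Groth.Agent.Lib.Helper12

theorem le_of_add_nat_le_add_nat (a b : WithBot ℕ∞) (n : ℕ)
    (h : a + (n : WithBot ℕ∞) ≤ b + (n : WithBot ℕ∞)) : a ≤ b := by
  rcases ProductDim.withBot_enat_cases a with rfl | rfl | ⟨k, rfl⟩
  · exact bot_le
  · rcases ProductDim.withBot_enat_cases b with rfl | rfl | ⟨m, rfl⟩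
    · rw [WithBot.bot_add] at h
      exact absurd h (by
        have : ((⊤ : ℕ∞) : WithBot ℕ∞) + ((n : ℕ∞) : WithBot ℕ∞) ≠ ⊥ := by
          rw [← WithBot.coe_add]; exact WithBot.coe_ne_bot
        intro h'; exact this (le_bot_iff.mp h'))
    · exact le_rfl
    · exfalso
      have h1 : ((⊤ : ℕ∞) : WithBot ℕ∞) + ((n : ℕ∞) : WithBot ℕ∞) = ((⊤ : ℕ∞) : WithBot ℕ∞) := by
        rw [← WithBot.coe_add, top_add]
      have h2 : ((m : ℕ) : WithBot ℕ∞) + (n : WithBot ℕ∞) = (((m + n : ℕ) : ℕ∞) : WithBot ℕ∞) := by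
        push_cast; rfl
      have h' : ((⊤ : ℕ∞) : WithBot ℕ∞) ≤ (((m + n : ℕ) : ℕ∞) : WithBot ℕ∞) := by
        rw [← h1, ← h2]; exact h
      have := WithBot.coe_le_coe.mp h'
      exact absurd this (by simp)
  · rcases ProductDim.withBot_enat_cases b with rfl | rfl | ⟨m, rfl⟩
    · rw [WithBot.bot_add] at h
      exfalso
      have h2 : ((k : ℕ) : WithBot ℕ∞) + (n : WithBot ℕ∞) = (((k + n : ℕ) : ℕ∞) : WithBot ℕ∞) := by
        push_cast; rfl
      rw [h2] at h
      exact WithBot.coe_ne_bot (le_bot_iff.mp h)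
    · exact le_top
    · have h3 : k + n ≤ m + n := by exact_mod_cast h
      have : k ≤ m := by omega
      exact_mod_cast this

theorem iSup_add_nat_le {ι : Sort*} (a : ι → WithBot ℕ∞) (n : ℕ) (D : WithBot ℕ∞)
    (h : ∀ i, a i + (n : WithBot ℕ∞) ≤ D) : (⨆ i, a i) + (n : WithBot ℕ∞) ≤ D := by
  rcases ProductDim.withBot_enat_cases D with rfl | rfl | ⟨m, rfl⟩
  · have : ∀ i, a i = ⊥ := by
      intro i
      have h1 := le_bot_iff.mp (h i)
      rcases ProductDim.withBot_enat_cases (a i) with h2 | h2 | ⟨k, h2⟩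
      · exact h2
      · rw [h2] at h1
        exact absurd h1 (by rw [show ((n : ℕ) : WithBot ℕ∞) = ((n : ℕ∞) : WithBot ℕ∞) from rfl, show (⊤ : WithBot ℕ∞) = ((⊤ : ℕ∞) : WithBot ℕ∞) from rfl, ← WithBot.coe_add]; exact WithBot.coe_ne_bot)
      · rw [h2] at h1
        exact absurd h1 (by rw [show ((n : ℕ) : WithBot ℕ∞) = ((n : ℕ∞) : WithBot ℕ∞) from rfl, show ((k : ℕ) : WithBot ℕ∞) = ((k : ℕ∞) : WithBot ℕ∞) from rfl, ← WithBot.coe_add]; exact WithBot.coe_ne_bot)
    have h2 : (⨆ i, a i) = ⊥ := by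
      apply le_bot_iff.mp
      exact iSup_le fun i => (this i).le
    rw [h2, WithBot.bot_add]
  · exact le_top
  · by_cases hn : n ≤ m
    · have h1 : ∀ i, a i ≤ ((m - n : ℕ) : WithBot ℕ∞) := by
        intro i
        apply le_of_add_nat_le_add_nat _ _ n
        refine (h i).trans (le_of_eq ?_)
        have : m = (m - n) + n := by omega
        conv_lhs => rw [this]
        push_cast; rfl
      refine (add_le_add_left (iSup_le h1) _).trans (le_of_eq ?_)
      have : m = (m - n) + n := by omega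
      conv_rhs => rw [this]
      push_cast; rfl
    · have : ∀ i, a i = ⊥ := by
        intro i
        rcases ProductDim.withBot_enat_cases (a i) with h2 | h2 | ⟨k, h2⟩
        · exact h2
        · exfalso
          have h1 := h i
          rw [h2] at h1
          have h3 : (⊤ : WithBot ℕ∞) + (n : WithBot ℕ∞) = ⊤ := by
            rw [show ((n : ℕ) : WithBot ℕ∞) = ((n : ℕ∞) : WithBot ℕ∞) from rfl, show (⊤ : WithBot ℕ∞) = ((⊤ : ℕ∞) : WithBot ℕ∞) from rfl, ← WithBot.coe_add, top_add]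
          rw [h3] at h1
          have h4 : ((⊤ : ℕ∞) : WithBot ℕ∞) ≤ ((m : ℕ∞) : WithBot ℕ∞) := h1
          exact absurd (WithBot.coe_le_coe.mp h4) (by simp)
        · exfalso
          have h1 := h i
          rw [h2] at h1
          have h3 : k + n ≤ m := by exact_mod_cast h1
          omega
      have h2 : (⨆ i, a i) = ⊥ := by
        apply le_bot_iff.mp
        exact iSup_le fun i => (this i).le
      rw [h2, WithBot.bot_add]
      exact bot_le

end Groth.Agent.Lib.Helper12.WithBotENat
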