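import Mathlib

/-! A finite type algebra which is an isomorphism on local rings at a prime is a principal
localization near that prime (base reduced with finitely many minimal primes). -/

set_option autoImplicit false

namespace Groth.Agent.Lib.Helper12

universe u

section Away
variable {A : Type*} [CommRing A]

/-- The `A`-algebra map out of `A_g` into an `A`-algebra where `g` is a unit. -/
noncomputable def awayLift (g : A) (T : Type*) [CommRing T] [Algebra A T]
    (hg : IsUnit (algebraMap A T g)) : Localization.Away g →ₐ[A] T :=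
  { IsLocalization.Away.lift (S := Localization.Away g) g (g := algebraMap A T) hg with
    commutes' := fun a => IsLocalization.Away.lift_eq g hg a }

theorem away_algHom_ext {g : A} {T : Type*} [CommRing T] [Algebra A T]
    (φ₁ φ₂ : Localization.Away g →ₐ[A] T) : φ₁ = φ₂ := by
  apply AlgHom.coe_ringHom_injective
  apply IsLocalization.ringHom_ext (Submonoid.powers g)
  ext a
  simp

theorem exists_germ_injective_element [IsReduced A] (hfin : (minimalPrimes A).Finite)
    (p : Ideal A) [hp : p.IsPrime] :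
    ∃ g0 : A, g0 ∉ p ∧ ∀ a t : A, t ∉ p → t * a = 0 → g0 * a = 0 := by
  classical
  have hex : ∀ P : Ideal A, ¬ P ≤ p → ∃ x ∈ P, x ∉ p :=
    fun P hP => SetLike.not_le_iff_exists.1 hP
  let x : Ideal A → A := fun P => if h : P ≤ p then 1 else (hex P h).choose
  have hx1 : ∀ P, x P ∉ p := by
    intro P
    by_cases h : P ≤ p
    · simp only [x, dif_pos h]
      exact fun h1 => hp.ne_top ((Ideal.eq_top_iff_one _).2 h1)
    · simp only [x, dif_neg h]
      exact (hex P h).choose_spec.2
  have hx2 : ∀ P, ¬ P ≤ p → x P ∈ P := by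
    intro P h
    simp only [x, dif_neg h]
    exact (hex P h).choose_spec.1
  refine ⟨∏ P ∈ hfin.toFinset, x P, ?_, ?_⟩
  · intro h
    obtain ⟨P, -, hP⟩ := (hp.prod_mem_iff).1 h
    exact hx1 P hP
  · intro a t ht hta
    have hnil : (∏ P ∈ hfin.toFinset, x P) * a ∈ (⊥ : Ideal A).radical := by
      rw [← Ideal.sInf_minimalPrimes, Ideal.mem_sInf]
      intro P hP
      by_cases h : P ≤ p
      · have : t * a ∈ P := by rw [hta]; exact P.zero_mem
        have ha : a ∈ P := (hP.1.1.mem_or_mem this).resolve_left (fun htP => ht (h htP))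
        exact P.mul_mem_left _ ha
      · have hdvd : x P ∣ ∏ P ∈ hfin.toFinset, x P :=
          Finset.dvd_prod_of_mem x (hfin.mem_toFinset.2 hP)
        obtain ⟨c, hc⟩ := hdvd
        rw [hc, mul_assoc]
        exact P.mul_mem_right _ (hx2 P h)
    obtain ⟨n, hn⟩ := hnil
    exact IsNilpotent.eq_zero ⟨n, Ideal.mem_bot.1 hn⟩

theorem awayLift_injective_of_germ (p : Ideal A) [p.IsPrime] (Ap : Type*) [CommRing Ap]
    [Algebra A Ap] [IsLocalization.AtPrime Ap p]
    {g0 g : A} (hg0 : ∀ a t : A, t ∉ p → t * a = 0 → g0 * a = 0) (hdvd : g0 ∣ g)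
    (hg : IsUnit (algebraMap A Ap g)) :
    Function.Injective (awayLift g Ap hg) := by
  rw [injective_iff_map_eq_zero]
  intro z hz
  obtain ⟨n, a, ha⟩ := IsLocalization.Away.surj g z
  have h1 : algebraMap A Ap a = 0 := by
    have := congrArg (awayLift g Ap hg) ha
    rw [map_mul, hz, zero_mul, AlgHom.commutes] at this
    exact this.symm
  obtain ⟨t, ht⟩ := (IsLocalization.map_eq_zero_iff p.primeCompl Ap a).1 h1
  have h2 : g0 * a = 0 := hg0 a t t.2 ht
  have h3 : g * a = 0 := by
    obtain ⟨c, rfl⟩ := hdvd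
    rw [mul_right_comm, h2, zero_mul]
  have h4 : algebraMap A (Localization.Away g) a = 0 :=
    (IsLocalization.map_eq_zero_iff (Submonoid.powers g) _ a).2
      ⟨⟨g, Submonoid.mem_powers g⟩, h3⟩
  rw [h4] at ha
  exact (((IsLocalization.Away.algebraMap_isUnit g).pow n).mul_left_eq_zero).1 ha

end Away

section Retraction
variable {A B : Type*} [CommRing A] [CommRing B] [Algebra A B]

theorem exists_retraction [Algebra.FiniteType A B]
    (p : Ideal A) [hp : p.IsPrime] (Ap : Type*) [CommRing Ap] [Algebra A Ap]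
    [IsLocalization.AtPrime Ap p]
    (g0 : A) (hg0p : g0 ∉ p) (hg0 : ∀ a t : A, t ∉ p → t * a = 0 → g0 * a = 0)
    (ψ0 : B →ₐ[A] Ap) :
    ∃ (g : A) (hg : IsUnit (algebraMap A Ap g)) (ψ : B →ₐ[A] Localization.Away g),
      ∀ b, awayLift g Ap hg (ψ b) = ψ0 b := by
  classical
  obtain ⟨s, hs⟩ := (Algebra.FiniteType.out : (⊤ : Subalgebra A B).FG)
  have hex : ∀ b : B, ∃ (a : A) (c : A), c ∉ p ∧
      ψ0 b * algebraMap A Ap c = algebraMap A Ap a := by
    intro b
    obtain ⟨⟨a, c⟩, h⟩ := IsLocalization.surj p.primeCompl (ψ0 b)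
    exact ⟨a, c.1, c.2, h⟩
  choose af cf hcf hacf using hex
  set g := g0 * ∏ b ∈ s, cf b with hgdef
  have hgp : g ∉ p := by
    intro h
    rcases hp.mem_or_mem h with h | h
    · exact hg0p h
    · obtain ⟨b, -, hb⟩ := (hp.prod_mem_iff).1 h
      exact hcf b hb
  have hg : IsUnit (algebraMap A Ap g) :=
    (IsLocalization.AtPrime.isUnit_to_map_iff Ap p g).2 hgp
  have hinj := awayLift_injective_of_germ p Ap hg0 (Dvd.intro _ rfl) hg
  have hle : ψ0.range ≤ (awayLift g Ap hg).range := by
    rw [← Algebra.map_top, ← hs, AlgHom.map_adjoin, Algebra.adjoin_le_iff]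
    rintro _ ⟨b, hb, rfl⟩
    have hdvd : cf b ∣ g := Dvd.dvd.mul_left (Finset.dvd_prod_of_mem cf hb) g0
    have hu : IsUnit (algebraMap A (Localization.Away g) (cf b)) := by
      rw [IsLocalization.Away.algebraMap_isUnit_iff (x := g)]
      exact ⟨1, by simpa using hdvd⟩
    obtain ⟨u, hu'⟩ := hu
    refine ⟨algebraMap A _ (af b) * ↑u⁻¹, ?_⟩
    have hcu : IsUnit (algebraMap A Ap (cf b)) :=
      (IsLocalization.AtPrime.isUnit_to_map_iff Ap p _).2 (hcf b)
    apply hcu.mul_left_injective
    show awayLift g Ap hg (algebraMap A _ (af b) * ↑u⁻¹) * algebraMap A Ap (cf b) =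
      ψ0 b * algebraMap A Ap (cf b)
    rw [hacf b, ← AlgHom.commutes (awayLift g Ap hg) (cf b), ← map_mul, ← hu', mul_assoc,
      Units.inv_mul, mul_one, AlgHom.commutes]
  have hmem : ∀ b : B, ψ0 b ∈ (awayLift g Ap hg).range := fun b => hle ⟨b, rfl⟩
  refine ⟨g, hg, ((AlgEquiv.ofInjective (awayLift g Ap hg) hinj).symm.toAlgHom).comp
    (ψ0.codRestrict _ hmem), ?_⟩
  intro b
  have := (AlgEquiv.ofInjective (awayLift g Ap hg) hinj).apply_symm_apply
    (ψ0.codRestrict _ hmem b)
  exact congrArg Subtype.val this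

end Retraction

section Main

theorem exists_away_isLocalization {A B : Type u} [CommRing A] [CommRing B] [Algebra A B]
    [Algebra.FiniteType A B] [IsReduced A] (hfin : (minimalPrimes A).Finite)
    (p : Ideal A) [hp : p.IsPrime] (q : Ideal B) [hq : q.IsPrime]
    (Ap : Type*) [CommRing Ap] [Algebra A Ap] [IsLocalization.AtPrime Ap p]
    (Bq : Type*) [CommRing Bq] [Algebra B Bq] [IsLocalization.AtPrime Bq q]
    (σ : Ap →+* Bq) (hσ : ∀ a, σ (algebraMap A Ap a) = algebraMap B Bq (algebraMap A B a))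
    (hbij : Function.Bijective σ) :
    ∃ h : B, h ∉ q ∧ ∃ gf : A, ∀ (C : Type u) [CommRing C] [Algebra B C] [Algebra A C]
      [IsScalarTower A B C] [IsLocalization.Away h C], IsLocalization.Away gf C := by
  classical
  let σe : Ap ≃+* Bq := RingEquiv.ofBijective σ hbij
  have hσe : ∀ z, σe z = σ z := fun _ => rfl
  let ψ0 : B →ₐ[A] Ap :=
    { toRingHom := (σe.symm : Bq →+* Ap).comp (algebraMap B Bq)
      commutes' := fun a => by
        show σe.symm (algebraMap B Bq (algebraMap A B a)) = algebraMap A Ap a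
        rw [← hσ, ← hσe]; exact σe.symm_apply_apply _ }
  have hψ0 : ∀ b, σ (ψ0 b) = algebraMap B Bq b := fun b => σe.apply_symm_apply _
  obtain ⟨g0, hg0p, hg0⟩ := exists_germ_injective_element hfin p
  obtain ⟨g, hg, ψ, hψ⟩ := exists_retraction p Ap g0 hg0p hg0 ψ0
  have hgq : algebraMap A B g ∉ q := by
    have h1 : IsUnit (algebraMap B Bq (algebraMap A B g)) := by
      rw [← hσ]; exact hg.map σ
    exact (IsLocalization.AtPrime.isUnit_to_map_iff Bq q _).1 h1
  -- the key vanishing
  have hK : ∀ (b : B) (c : A) (N : ℕ),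
      ψ b * algebraMap A (Localization.Away g) g ^ N = algebraMap A _ c →
      ∃ t : B, t ∉ q ∧ t * (algebraMap A B g ^ N * b - algebraMap A B c) = 0 := by
    intro b c N hbc
    have h1 := congrArg (awayLift g Ap hg) hbc
    rw [map_mul, map_pow, AlgHom.commutes, AlgHom.commutes, hψ] at h1
    have h2 := congrArg σ h1
    rw [map_mul, map_pow, hσ, hσ, hψ0] at h2
    have h3 : algebraMap B Bq (algebraMap A B g ^ N * b - algebraMap A B c) = 0 := by
      rw [map_sub, map_mul, map_pow, mul_comm, h2, sub_self]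
    obtain ⟨t, ht⟩ := (IsLocalization.map_eq_zero_iff q.primeCompl Bq _).1 h3
    exact ⟨t.1, t.2, ht⟩
  obtain ⟨s, hs⟩ := (Algebra.FiniteType.out : (⊤ : Subalgebra A B).FG)
  have hex : ∀ b : B, ∃ (N : ℕ) (c : A) (t : B),
      ψ b * algebraMap A (Localization.Away g) g ^ N = algebraMap A _ c ∧ t ∉ q ∧
      t * (algebraMap A B g ^ N * b - algebraMap A B c) = 0 := by
    intro b
    obtain ⟨N, c, hNc⟩ := IsLocalization.Away.surj g (ψ b)
    obtain ⟨t, ht, ht'⟩ := hK b c N hNc
    exact ⟨N, c, t, hNc, ht, ht'⟩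
  choose Nf cf tf hNc htq ht0 using hex
  set h0 := ∏ b ∈ s, tf b with hh0
  have hh0q : h0 ∉ q := by
    intro h
    obtain ⟨b, -, hb⟩ := (hq.prod_mem_iff).1 h
    exact htq b hb
  obtain ⟨M, g', hMg'⟩ := IsLocalization.Away.surj g (ψ h0)
  refine ⟨algebraMap A B g * h0, ?_, g * g', ?_⟩
  · intro h
    rcases hq.mem_or_mem h with h | h
    · exact hgq h
    · exact hh0q h
  intro C _ _ _ _ _
  have hhC : IsUnit (algebraMap B C (algebraMap A B g * h0)) :=
    IsLocalization.Away.algebraMap_isUnit _
  rw [map_mul] at hhC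
  have hgC : IsUnit (algebraMap A C g) := by
    rw [IsScalarTower.algebraMap_apply A B C]
    exact isUnit_of_mul_isUnit_left hhC
  have hh0C : IsUnit (algebraMap B C h0) := isUnit_of_mul_isUnit_right hhC
  have htC : ∀ b ∈ s, IsUnit (algebraMap B C (tf b)) := fun b hb =>
    isUnit_of_dvd_unit (map_dvd (algebraMap B C) (Finset.dvd_prod_of_mem tf hb)) hh0C
  let θ := awayLift g C hgC
  have key : IsScalarTower.toAlgHom A B C = θ.comp ψ := by
    refine AlgHom.ext_of_adjoin_eq_top hs ?_
    intro b hb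
    show algebraMap B C b = θ (ψ b)
    apply (hgC.pow (Nf b)).mul_left_injective
    show algebraMap B C b * algebraMap A C g ^ Nf b = θ (ψ b) * algebraMap A C g ^ Nf b
    have h1 : θ (ψ b) * algebraMap A C g ^ Nf b = algebraMap A C (cf b) := by
      have := congrArg θ (hNc b)
      rwa [map_mul, map_pow, AlgHom.commutes, AlgHom.commutes] at this
    have h2 : algebraMap B C (algebraMap A B g ^ Nf b * b - algebraMap A B (cf b)) = 0 := by
      have := congrArg (algebraMap B C) (ht0 b)
      rw [map_mul, map_zero] at this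
      exact ((htC b hb).mul_right_eq_zero).1 this
    rw [h1, IsScalarTower.algebraMap_apply A B C (cf b), IsScalarTower.algebraMap_apply A B C g,
      ← map_pow, ← map_mul, mul_comm]
    exact sub_eq_zero.1 (by rw [← map_sub]; exact h2)
  have hkey : ∀ b, algebraMap B C b = θ (ψ b) := fun b => AlgHom.congr_fun key b
  have hg'C : IsUnit (algebraMap A C g') := by
    have := congrArg θ hMg'
    rw [map_mul, map_pow, AlgHom.commutes, AlgHom.commutes, ← hkey] at this
    rw [← this]
    exact hh0C.mul (hgC.pow M)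
  have hgfC : IsUnit (algebraMap A C (g * g')) := by
    rw [map_mul]; exact hgC.mul hg'C
  let Θ := awayLift (g * g') C hgfC
  have hgD : IsUnit (algebraMap A (Localization.Away (g * g')) g) := by
    rw [IsLocalization.Away.algebraMap_isUnit_iff (x := g * g')]
    exact ⟨1, by simp⟩
  have hg'D : IsUnit (algebraMap A (Localization.Away (g * g')) g') := by
    rw [IsLocalization.Away.algebraMap_isUnit_iff (x := g * g')]
    exact ⟨1, by simp⟩
  let ρ := awayLift g (Localization.Away (g * g')) hgD
  let ψD : B →ₐ[A] Localization.Away (g * g') := ρ.comp ψ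
  have hψDh0 : IsUnit (ψD h0) := by
    have := congrArg ρ hMg'
    rw [map_mul, map_pow, AlgHom.commutes, AlgHom.commutes] at this
    have h1 : IsUnit (ρ (ψ h0) * algebraMap A (Localization.Away (g * g')) g ^ M) := by
      rw [this]; exact hg'D
    exact isUnit_of_mul_isUnit_left h1
  have hψDh : IsUnit ((ψD : B →+* Localization.Away (g * g')) (algebraMap A B g * h0)) := by
    show IsUnit (ψD (algebraMap A B g * h0))
    rw [map_mul, AlgHom.commutes]
    exact hgD.mul hψDh0
  let Ψr : C →+* Localization.Away (g * g') :=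
    IsLocalization.Away.lift (algebraMap A B g * h0) hψDh
  have hΨr : ∀ b, Ψr (algebraMap B C b) = ψD b := fun b => IsLocalization.Away.lift_eq _ hψDh b
  let ΨA : C →ₐ[A] Localization.Away (g * g') :=
    { Ψr with
      commutes' := fun a => by
        show Ψr (algebraMap A C a) = _
        rw [IsScalarTower.algebraMap_apply A B C, hΨr, AlgHom.commutes] }
  have h2 : ΨA.comp Θ = AlgHom.id A _ := away_algHom_ext _ _
  have h1 : Θ.comp ΨA = AlgHom.id A C := by
    apply AlgHom.coe_ringHom_injective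
    apply IsLocalization.ringHom_ext (Submonoid.powers (algebraMap A B g * h0))
    ext b
    show Θ (Ψr (algebraMap B C b)) = algebraMap B C b
    rw [hΨr, hkey b]
    exact AlgHom.congr_fun (away_algHom_ext (Θ.comp ρ) θ) (ψ b)
  exact IsLocalization.isLocalization_of_algEquiv (Submonoid.powers (g * g'))
    (AlgEquiv.ofAlgHom Θ ΨA h1 h2)

end Main

end Groth.Agent.Lib.Helper12
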