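import Mathlib
import Groth.Prelude.Def_Pi1
import Groth.Agent.Lib.Helper25.RegPerfectSmooth
import Groth.Agent.Lib.Helper23.SmoothCurve
import Groth.Agent.Lib.Helper12.SecCompBC

/-!
# Helper library (helper12): normal curves over a perfect field are smooth
-/

universe u

open CategoryTheory CategoryTheory.Limits AlgebraicGeometry

set_option linter.style.haveILetI false

namespace Groth.Agent.Lib.Helper12.CurveNormSm

/-- A scheme locally of finite presentation over a perfect field all of whose local rings are
regular is smooth. -/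
theorem smooth_of_regular_of_perfect (Ω : Type u) [Field Ω] [PerfectField Ω] {W : Scheme.{u}}
    (g : W ⟶ Spec (CommRingCat.of Ω)) [LocallyOfFinitePresentation g]
    (hreg : ∀ w : W, IsRegularLocalRing (W.presheaf.stalk w)) : Smooth g := by
  rw [← Scheme.Hom.smoothLocus_eq_top_iff, ← top_le_iff]
  rintro w -
  rw [Scheme.Hom.mem_smoothLocus]
  have hgw : g w = IsLocalRing.closedPoint Ω := Subsingleton.elim _ _
  let e : (Spec (CommRingCat.of Ω)).presheaf.stalk (g w) ≅ CommRingCat.of Ω :=
    (Spec (CommRingCat.of Ω)).presheaf.stalkCongr (.of_eq hgw) ≪≫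
      AlgebraicGeometry.stalkClosedPointIso (CommRingCat.of Ω)
  obtain ⟨φ, hφ⟩ : ∃ φ : CommRingCat.of Ω ⟶ W.presheaf.stalk w, φ = e.inv ≫ g.stalkMap w :=
    ⟨_, rfl⟩
  have hfac : g.stalkMap w = e.hom ≫ φ := by rw [hφ, e.hom_inv_id_assoc]
  have he : e.hom.hom.FormallySmooth :=
    RingHom.FormallySmooth.of_bijective (ConcreteCategory.bijective_of_isIso e.hom)
  have hφs : φ.hom.FormallySmooth := by
    letI := φ.hom.toAlgebra
    show Algebra.FormallySmooth Ω (W.presheaf.stalk w)
    haveI : Algebra.EssFiniteType Ω (W.presheaf.stalk w) := by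
      show φ.hom.EssFiniteType
      rw [hφ, CommRingCat.hom_comp]
      refine RingHom.EssFiniteType.comp ?_ (LocallyOfFiniteType.stalkMap g w)
      exact RingHom.FiniteType.essFiniteType
        (RingHom.FiniteType.of_surjective _ (ConcreteCategory.bijective_of_isIso e.inv).2)
    exact Groth.Agent.Lib.Helper25.RegPerfectSmooth.formallySmooth_of_isRegularLocalRing_of_perfectField
      _ _ (hreg w)
  rw [hfac, CommRingCat.hom_comp]
  exact he.comp hφs

/-- A normal integral scheme of dimension at most one, locally of finite type over a perfect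
field, is smooth. -/
theorem smooth_of_normal_curve (Ω : Type u) [Field Ω] [PerfectField Ω] {W : Scheme.{u}}
    [IsIntegral W] (g : W ⟶ Spec (CommRingCat.of Ω)) [LocallyOfFiniteType g]
    (hdim : topologicalKrullDim W ≤ 1) (hN : Pi1.IsNormalScheme W) : Smooth g := by
  haveI : IsLocallyNoetherian W := LocallyOfFiniteType.isLocallyNoetherian g
  haveI : LocallyOfFinitePresentation g :=
    Groth.Agent.Lib.Helper12.SecCompBC.locallyOfFinitePresentation_of_isLocallyNoetherian g
  apply smooth_of_regular_of_perfect
  intro w
  haveI := (hN w).2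
  haveI := Groth.Agent.Lib.Helper23.SmoothCurve.isPrincipalIdealRing_stalk hdim w
  infer_instance

end Groth.Agent.Lib.Helper12.CurveNormSm
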