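import Mathlib

/-!
# Spreading out absolute irreducibility of a polynomial (helper12)

If `P ∈ A[T_σ]` (`A` a domain) stays irreducible over every field into which `A` embeds, then
there is a nonzero `a ∈ A` such that `P` stays irreducible over every field `κ` with a map
`A → κ` not killing `a`.  The proof is a compactness argument through a prime of a product of
fields (no Chevalley, no universal factorisation schemes).
-/

set_option autoImplicit false
universe u v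
open MvPolynomial

namespace Groth.Agent.Lib.Helper12.AbsIrred

variable {σ : Type v}

theorem totalDegree_map_le' {R S : Type*} [CommSemiring R] [CommSemiring S] (φ : R →+* S)
    (P : MvPolynomial σ R) : (map φ P).totalDegree ≤ P.totalDegree := by
  unfold totalDegree
  exact Finset.sup_mono (MvPolynomial.support_map_subset φ P)

theorem exists_coeff_ne_zero_of_not_isUnit {κ : Type*} [Field κ] (p : MvPolynomial σ κ)
    (h0 : p ≠ 0) (hu : ¬IsUnit p) : ∃ m : σ →₀ ℕ, m ≠ 0 ∧ coeff m p ≠ 0 := by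
  by_contra hcon
  push_neg at hcon
  have h1 : p = C (coeff 0 p) := by
    ext m
    classical
    rw [coeff_C]
    split_ifs with hm
    · rw [← hm]
    · exact hcon m (Ne.symm hm)
  have h2 : coeff 0 p ≠ 0 := by
    intro h; apply h0; rw [h1, h, C_0]
  apply hu
  rw [h1]
  exact (isUnit_iff_ne_zero.mpr h2).map C

theorem not_isUnit_of_coeff_ne_zero {κ : Type*} [Field κ] (p : MvPolynomial σ κ) (m : σ →₀ ℕ)
    (hm : m ≠ 0) (hc : coeff m p ≠ 0) : ¬IsUnit p := by
  classical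
  intro hu
  obtain ⟨r, -, rfl⟩ := (isUnit_iff_eq_C_of_isReduced).mp hu
  apply hc
  rw [coeff_C, if_neg (Ne.symm hm)]

/-- polynomial with prescribed coefficients on a finite set of exponents -/
noncomputable def ofCoeffs {R : Type*} [CommSemiring R] (J : Finset (σ →₀ ℕ))
    (c : (σ →₀ ℕ) → R) : MvPolynomial σ R := ∑ m ∈ J, monomial m (c m)

open Classical in
theorem coeff_ofCoeffs {R : Type*} [CommSemiring R] (J : Finset (σ →₀ ℕ))
    (c : (σ →₀ ℕ) → R) (m : σ →₀ ℕ) :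
    coeff m (ofCoeffs J c) = if m ∈ J then c m else 0 := by
  classical
  unfold ofCoeffs
  rw [coeff_sum]
  simp only [coeff_monomial]
  rw [Finset.sum_ite_eq' J m]

theorem exists_coeff_not_mem {ι : Type*} {κ : ι → Type*} [∀ i, Field (κ i)]
    (𝔓 : Ideal (∀ i, κ i)) [h𝔓 : 𝔓.IsPrime] (F : MvPolynomial σ (∀ i, κ i))
    (J : Finset (σ →₀ ℕ)) (hJ : ∀ i, ∃ m ∈ J, m ≠ 0 ∧ (coeff m F) i ≠ 0) :
    ∃ m : σ →₀ ℕ, m ≠ 0 ∧ coeff m F ∉ 𝔓 := by
  classical
  choose mm hmJ hm0 hmc using hJ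
  let e : (σ →₀ ℕ) → (∀ i, κ i) := fun m i => if mm i = m then 1 else 0
  have hsum : ∑ m ∈ J, e m = 1 := by
    funext i
    rw [Finset.sum_apply]
    simp only [e]
    rw [Finset.sum_ite_eq J (mm i)]
    simp [hmJ i]
  have hex : ∃ m ∈ J, e m ∉ 𝔓 := by
    by_contra hcon
    push_neg at hcon
    have : (1 : ∀ i, κ i) ∈ 𝔓 := by
      rw [← hsum]; exact Ideal.sum_mem _ hcon
    exact h𝔓.ne_top ((Ideal.eq_top_iff_one _).mpr this)
  obtain ⟨m, -, hem⟩ := hex
  let v : ∀ i, κ i := fun i => ((coeff (mm i) F) i)⁻¹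
  have hid : e m = e m * v * coeff m F := by
    funext i
    simp only [Pi.mul_apply, e, v]
    by_cases h : mm i = m
    · rw [if_pos h, h, one_mul, inv_mul_cancel₀]
      rw [← h]; exact hmc i
    · rw [if_neg h, zero_mul, zero_mul]
  refine ⟨m, ?_, fun hmem => hem ?_⟩
  · have hne : e m ≠ 0 := fun h => hem (h ▸ 𝔓.zero_mem)
    obtain ⟨i, hi⟩ := Function.ne_iff.mp hne
    simp only [e, Pi.zero_apply] at hi
    have : mm i = m := by by_contra h; exact hi (if_neg h)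
    rw [← this]; exact hm0 i
  · rw [hid]; exact 𝔓.mul_mem_left _ hmem

set_option maxHeartbeats 1000000 in
/-- **Spreading out absolute irreducibility.** -/
theorem exists_ne_zero_forall_irreducible {A : Type u} [CommRing A] [IsDomain A] [Finite σ]
    (P : MvPolynomial σ A)
    (hP : ∀ (κ : Type u) [Field κ] (ψ : A →+* κ), Function.Injective ψ →
      Irreducible (map ψ P)) :
    ∃ a : A, a ≠ 0 ∧ ∀ (κ : Type u) [Field κ] (φ : A →+* κ), φ a ≠ 0 →
      Irreducible (map φ P) := by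
  classical
  obtain ⟨m₀, hm₀, hc₀⟩ : ∃ m₀ : σ →₀ ℕ, m₀ ≠ 0 ∧ coeff m₀ P ≠ 0 := by
    have h1 := hP (FractionRing A) (algebraMap A (FractionRing A)) (IsFractionRing.injective A _)
    obtain ⟨m, hm, hc⟩ := exists_coeff_ne_zero_of_not_isUnit _ h1.ne_zero h1.not_isUnit
    refine ⟨m, hm, fun h => hc ?_⟩
    rw [coeff_map, h, map_zero]
  by_contra hcon
  push_neg at hcon
  have hbad : ∀ i : {a : A // a ≠ 0}, ∃ (κ : Type u) (_ : Field κ) (φ : A →+* κ),
      φ (i.1 * coeff m₀ P) ≠ 0 ∧ ¬Irreducible (map φ P) :=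
    fun i => hcon _ (mul_ne_zero i.2 hc₀)
  choose κ instκ φ hφ hirr using hbad
  letI : ∀ i, Field (κ i) := instκ
  have hφa : ∀ i : {a : A // a ≠ 0}, φ i i.1 ≠ 0 := by
    intro i h; apply hφ i; rw [map_mul, h, zero_mul]
  have hφc : ∀ i, φ i (coeff m₀ P) ≠ 0 := by
    intro i h; apply hφ i; rw [map_mul, h, mul_zero]
  have hcoeff : ∀ i, coeff m₀ (map (φ i) P) ≠ 0 := by
    intro i; rw [coeff_map]; exact hφc i
  have hne0 : ∀ i, map (φ i) P ≠ 0 := by
    intro i h; apply hcoeff i; rw [h, coeff_zero]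
  have hnu : ∀ i, ¬IsUnit (map (φ i) P) := fun i =>
    not_isUnit_of_coeff_ne_zero _ m₀ hm₀ (hcoeff i)
  have hfac : ∀ i, ∃ p q : MvPolynomial σ (κ i), map (φ i) P = p * q ∧ ¬IsUnit p ∧ ¬IsUnit q := by
    intro i
    have h1 := hirr i
    rw [irreducible_iff] at h1
    push_neg at h1
    obtain ⟨p, q, h2, h3, h4⟩ := h1 (hnu i)
    exact ⟨p, q, h2, h3, h4⟩
  choose p q hpq hpu hqu using hfac
  have hp0 : ∀ i, p i ≠ 0 := by
    intro i h; apply hne0 i; rw [hpq i, h, zero_mul]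
  have hq0 : ∀ i, q i ≠ 0 := by
    intro i h; apply hne0 i; rw [hpq i, h, mul_zero]
  set D := P.totalDegree with hD
  have hdeg : ∀ i, (p i).totalDegree + (q i).totalDegree ≤ D := by
    intro i
    rw [← totalDegree_mul_of_isDomain (hp0 i) (hq0 i), ← hpq i]
    exact totalDegree_map_le' _ _
  let J : Finset (σ →₀ ℕ) := (Finsupp.finite_of_degree_le (σ := σ) D).toFinset
  have hJ : ∀ m : σ →₀ ℕ, m ∈ J ↔ Finsupp.degree m ≤ D := by
    intro m; simp [J]
  have hpJ : ∀ i (m : σ →₀ ℕ), coeff m (p i) ≠ 0 → m ∈ J := by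
    intro i m hm
    rw [hJ]
    have h1 : m ∈ (p i).support := mem_support_iff.mpr hm
    have h2 := le_totalDegree h1
    have h3 := hdeg i
    show (m.sum fun _ e => e) ≤ D
    omega
  have hqJ : ∀ i (m : σ →₀ ℕ), coeff m (q i) ≠ 0 → m ∈ J := by
    intro i m hm
    rw [hJ]
    have h1 : m ∈ (q i).support := mem_support_iff.mpr hm
    have h2 := le_totalDegree h1
    have h3 := hdeg i
    show (m.sum fun _ e => e) ≤ D
    omega
  let pP : MvPolynomial σ (∀ i, κ i) := ofCoeffs J (fun m i => coeff m (p i))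
  let qP : MvPolynomial σ (∀ i, κ i) := ofCoeffs J (fun m i => coeff m (q i))
  have hpP : ∀ i, map (Pi.evalRingHom κ i) pP = p i := by
    intro i
    ext m
    rw [coeff_map, coeff_ofCoeffs]
    by_cases hm : m ∈ J
    · rw [if_pos hm]; rfl
    · rw [if_neg hm]
      by_contra h
      exact hm (hpJ i m (fun h' => h (by rw [h']; rfl)))
  have hqP : ∀ i, map (Pi.evalRingHom κ i) qP = q i := by
    intro i
    ext m
    rw [coeff_map, coeff_ofCoeffs]
    by_cases hm : m ∈ J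
    · rw [if_pos hm]; rfl
    · rw [if_neg hm]
      by_contra h
      exact hm (hqJ i m (fun h' => h (by rw [h']; rfl)))
  let Φ : A →+* (∀ i, κ i) := Pi.ringHom φ
  have hΦ : map Φ P = pP * qP := by
    ext m i
    have h1 : ∀ F : MvPolynomial σ (∀ i, κ i), (coeff m F) i =
        coeff m (map (Pi.evalRingHom κ i) F) := by
      intro F; rw [coeff_map]; rfl
    rw [h1, h1, map_map, map_mul, hpP, hqP, ← hpq i]
    rfl
  -- the prime
  let M : Submonoid (∀ i, κ i) := Submonoid.map Φ (nonZeroDivisors A)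
  have hdisj : Disjoint ((⊥ : Ideal (∀ i, κ i)) : Set (∀ i, κ i)) (M : Set (∀ i, κ i)) := by
    rw [Set.disjoint_left]
    rintro x hx ⟨a, ha, rfl⟩
    have ha0 : a ≠ 0 := nonZeroDivisors.ne_zero ha
    have hx0 : Φ a = 0 := by simpa using hx
    have := congrFun hx0 ⟨a, ha0⟩
    exact hφa ⟨a, ha0⟩ this
  obtain ⟨𝔓, h𝔓, -, h𝔓M⟩ := Ideal.exists_le_prime_disjoint (⊥ : Ideal (∀ i, κ i)) M hdisj
  haveI := h𝔓
  let κ' := FractionRing ((∀ i, κ i) ⧸ 𝔓)
  let ρ : (∀ i, κ i) →+* κ' := (algebraMap ((∀ i, κ i) ⧸ 𝔓) κ').comp (Ideal.Quotient.mk 𝔓)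
  have hρ : ∀ x, ρ x = 0 ↔ x ∈ 𝔓 := by
    intro x
    show algebraMap ((∀ i, κ i) ⧸ 𝔓) κ' (Ideal.Quotient.mk 𝔓 x) = 0 ↔ _
    rw [map_eq_zero_iff _ (IsFractionRing.injective _ κ'), Ideal.Quotient.eq_zero_iff_mem]
  let ψ : A →+* κ' := ρ.comp Φ
  have hψ : Function.Injective ψ := by
    rw [injective_iff_map_eq_zero]
    intro a ha
    by_contra ha0
    have h1 : Φ a ∈ 𝔓 := (hρ _).mp ha
    have h2 : Φ a ∈ M := ⟨a, mem_nonZeroDivisors_of_ne_zero ha0, rfl⟩
    exact Set.disjoint_left.mp h𝔓M h1 h2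
  have hirrψ := hP κ' ψ hψ
  have hfacψ : map ψ P = map ρ pP * map ρ qP := by
    rw [← map_mul, ← hΦ, map_map]
  obtain ⟨m₁, hm₁, hc₁⟩ := exists_coeff_not_mem 𝔓 pP J (by
    intro i
    obtain ⟨m, hm, hc⟩ := exists_coeff_ne_zero_of_not_isUnit (p i) (hp0 i) (hpu i)
    refine ⟨m, hpJ i m hc, hm, ?_⟩
    rw [coeff_ofCoeffs, if_pos (hpJ i m hc)]
    exact hc)
  obtain ⟨m₂, hm₂, hc₂⟩ := exists_coeff_not_mem 𝔓 qP J (by
    intro i
    obtain ⟨m, hm, hc⟩ := exists_coeff_ne_zero_of_not_isUnit (q i) (hq0 i) (hqu i)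
    refine ⟨m, hqJ i m hc, hm, ?_⟩
    rw [coeff_ofCoeffs, if_pos (hqJ i m hc)]
    exact hc)
  have hu1 : ¬IsUnit (map ρ pP) := by
    apply not_isUnit_of_coeff_ne_zero _ m₁ hm₁
    rw [coeff_map]
    exact fun h => hc₁ ((hρ _).mp h)
  have hu2 : ¬IsUnit (map ρ qP) := by
    apply not_isUnit_of_coeff_ne_zero _ m₂ hm₂
    rw [coeff_map]
    exact fun h => hc₂ ((hρ _).mp h)
  rcases hirrψ.isUnit_or_isUnit hfacψ with h | h
  · exact hu1 h
  · exact hu2 h

end Groth.Agent.Lib.Helper12.AbsIrred
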