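import Mathlib
import Groth.Agent.Lib.Helper12.AbsIrred

/-!
# Absolute irreducibility: irreducible over an algebraically closed field is irreducible over every
extension (helper12)
-/

set_option autoImplicit false
universe u v
open MvPolynomial

namespace Groth.Agent.Lib.Helper12.AbsIrred

variable {σ : Type v}

/-- Irreducibility descends along a field extension. -/
theorem irreducible_of_map {k Ω : Type*} [Field k] [Field Ω] (i : k →+* Ω)
    (p : MvPolynomial σ k) (h : Irreducible (map i p)) : Irreducible p := by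
  have hne : p ≠ 0 := by
    intro h0; apply h.ne_zero; rw [h0, map_zero]
  rw [irreducible_iff]
  have key : ∀ a : MvPolynomial σ k, a ≠ 0 → IsUnit (map i a) → IsUnit a := by
    intro a ha hu
    by_contra hna
    obtain ⟨m, hm, hc⟩ := exists_coeff_ne_zero_of_not_isUnit a ha hna
    refine not_isUnit_of_coeff_ne_zero (map i a) m hm ?_ hu
    rw [coeff_map]
    exact (map_ne_zero i).mpr hc
  refine ⟨fun hu => h.not_isUnit (hu.map (map i)), fun a b hab => ?_⟩
  have ha : a ≠ 0 := by rintro rfl; exact hne (by rw [hab, zero_mul])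
  have hb : b ≠ 0 := by rintro rfl; exact hne (by rw [hab, mul_zero])
  have := h.isUnit_or_isUnit (a := map i a) (b := map i b) (by rw [hab, map_mul])
  rcases this with h1 | h1
  · exact Or.inl (key a ha h1)
  · exact Or.inr (key b hb h1)

/-- A finitely generated nontrivial algebra over an algebraically closed field has a rational
point. -/
theorem exists_algHom_of_finiteType {k B : Type*} [Field k] [IsAlgClosed k] [CommRing B]
    [Algebra k B] [Algebra.FiniteType k B] [Nontrivial B] : Nonempty (B →ₐ[k] k) := by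
  obtain ⟨m, hm⟩ := Ideal.exists_maximal B
  letI : Field (B ⧸ m) := Ideal.Quotient.field m
  haveI : Algebra.FiniteType k (B ⧸ m) :=
    Algebra.FiniteType.of_surjective (Ideal.Quotient.mkₐ k m) (Ideal.Quotient.mkₐ_surjective k m)
  haveI : Module.Finite k (B ⧸ m) := finite_of_finite_type_of_isJacobsonRing k (B ⧸ m)
  haveI : Algebra.IsIntegral k (B ⧸ m) := Algebra.IsIntegral.of_finite k (B ⧸ m)
  have hbij : Function.Bijective (algebraMap k (B ⧸ m)) :=
    IsAlgClosed.algebraMap_bijective_of_isIntegral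
  let e : k ≃ₐ[k] (B ⧸ m) := AlgEquiv.ofBijective (Algebra.ofId k (B ⧸ m)) hbij
  exact ⟨(e.symm : (B ⧸ m) →ₐ[k] k).comp (Ideal.Quotient.mkₐ k m)⟩

/-- Irreducibility over an algebraically closed field persists over any extension field. -/
theorem irreducible_map_of_isAlgClosed {k Ω : Type*} [Field k] [IsAlgClosed k] [Field Ω]
    [Algebra k Ω] (p : MvPolynomial σ k) (h : Irreducible p) :
    Irreducible (map (algebraMap k Ω) p) := by
  classical
  have hinj : Function.Injective (algebraMap k Ω) := (algebraMap k Ω).injective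
  obtain ⟨m₀, hm₀, hc₀⟩ := exists_coeff_ne_zero_of_not_isUnit p h.ne_zero h.not_isUnit
  have hnu : ¬IsUnit (map (algebraMap k Ω) p) := by
    refine not_isUnit_of_coeff_ne_zero _ m₀ hm₀ ?_
    rw [coeff_map]; exact (map_ne_zero _).mpr hc₀
  have hne : map (algebraMap k Ω) p ≠ 0 := by
    intro h0
    have := congrArg (coeff m₀) h0
    rw [coeff_map, coeff_zero] at this
    exact hc₀ ((map_eq_zero _).mp this)
  rw [irreducible_iff]
  refine ⟨hnu, fun Q R hQR => ?_⟩
  by_contra hcon
  push_neg at hcon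
  obtain ⟨hQu, hRu⟩ := hcon
  have hQ0 : Q ≠ 0 := by rintro rfl; exact hne (by rw [hQR, zero_mul])
  have hR0 : R ≠ 0 := by rintro rfl; exact hne (by rw [hQR, mul_zero])
  obtain ⟨mQ, hmQ, hcQ⟩ := exists_coeff_ne_zero_of_not_isUnit Q hQ0 hQu
  obtain ⟨mR, hmR, hcR⟩ := exists_coeff_ne_zero_of_not_isUnit R hR0 hRu
  -- the finitely generated subalgebra
  let gens : Finset Ω := Q.coeffs ∪ R.coeffs ∪ {(coeff mQ Q)⁻¹, (coeff mR R)⁻¹}
  let B : Subalgebra k Ω := Algebra.adjoin k (gens : Set Ω)
  haveI : Algebra.FiniteType k B := (Subalgebra.fg_iff_finiteType B).mp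
    (Subalgebra.fg_adjoin_finset gens)
  have hsub : (gens : Set Ω) ⊆ B := Algebra.subset_adjoin
  have hQB : (Q.coeffs : Set Ω) ⊆ Set.range (B.val : B →+* Ω) := by
    intro c hc
    have : c ∈ B := hsub (Finset.mem_coe.mpr
      (Finset.mem_union_left _ (Finset.mem_union_left _ (Finset.mem_coe.mp hc))))
    exact ⟨⟨c, this⟩, rfl⟩
  have hRB : (R.coeffs : Set Ω) ⊆ Set.range (B.val : B →+* Ω) := by
    intro c hc
    have : c ∈ B := hsub (Finset.mem_coe.mpr
      (Finset.mem_union_left _ (Finset.mem_union_right _ (Finset.mem_coe.mp hc))))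
    exact ⟨⟨c, this⟩, rfl⟩
  obtain ⟨Q', hQ'⟩ := mem_range_map_iff_coeffs_subset.mpr hQB
  obtain ⟨R', hR'⟩ := mem_range_map_iff_coeffs_subset.mpr hRB
  have hvinj : Function.Injective (map (σ := σ) (B.val : B →+* Ω)) :=
    map_injective _ Subtype.val_injective
  have hprod : Q' * R' = map (algebraMap k B) p := by
    apply hvinj
    rw [map_mul, hQ', hR', ← hQR, map_map]
    rfl
  obtain ⟨χ⟩ := exists_algHom_of_finiteType (k := k) (B := B)
  have hχ : (χ : B →+* k).comp (algebraMap k B) = RingHom.id k := by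
    ext x; simp
  have hfin : map (χ : B →+* k) Q' * map (χ : B →+* k) R' = p := by
    rw [← map_mul, hprod, map_map, hχ, map_id]
  -- units
  have hunitQ : IsUnit (coeff mQ Q') := by
    have hinv : (coeff mQ Q)⁻¹ ∈ B := hsub (by simp [gens])
    have hval : (B.val : B →+* Ω) (coeff mQ Q') = coeff mQ Q := by
      rw [← coeff_map, hQ']
    refine IsUnit.of_mul_eq_one ⟨_, hinv⟩ ?_
    apply Subtype.val_injective
    change (B.val : B →+* Ω) (coeff mQ Q') * (coeff mQ Q)⁻¹ = 1
    rw [hval]; exact mul_inv_cancel₀ hcQ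
  have hunitR : IsUnit (coeff mR R') := by
    have hinv : (coeff mR R)⁻¹ ∈ B := hsub (by simp [gens])
    have hval : (B.val : B →+* Ω) (coeff mR R') = coeff mR R := by
      rw [← coeff_map, hR']
    refine IsUnit.of_mul_eq_one ⟨_, hinv⟩ ?_
    apply Subtype.val_injective
    change (B.val : B →+* Ω) (coeff mR R') * (coeff mR R)⁻¹ = 1
    rw [hval]; exact mul_inv_cancel₀ hcR
  have h1 : ¬IsUnit (map (χ : B →+* k) Q') := by
    refine not_isUnit_of_coeff_ne_zero _ mQ hmQ ?_
    rw [coeff_map]; exact (hunitQ.map (χ : B →+* k)).ne_zero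
  have h2 : ¬IsUnit (map (χ : B →+* k) R') := by
    refine not_isUnit_of_coeff_ne_zero _ mR hmR ?_
    rw [coeff_map]; exact (hunitR.map (χ : B →+* k)).ne_zero
  rcases h.isUnit_or_isUnit hfin.symm with h3 | h3
  · exact h1 h3
  · exact h2 h3

end Groth.Agent.Lib.Helper12.AbsIrred
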