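import Mathlib
import Groth.Prelude.Def_Found
import Groth.Prelude.Def_EGA43
import Groth.Agent.Lib.Helper12.OpenFibre3

/-!
# Helper library (helper12): the structure morphism of an affine space
-/

set_option autoImplicit false
universe u
open AlgebraicGeometry CategoryTheory Opposite Limits

namespace Groth.Agent.Lib.Helper12.AffSpace

open Groth.Agent.Lib.Helper12 Groth.Agent.Lib.Helper12.SchemeDimFT
open Groth.Agent.Lib.Helper12.SchemeDimIneq Groth.Agent.Lib.Helper12.ChevalleyCor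
open Groth.Agent.Lib.Helper12.FibreMax Groth.Agent.Lib.Helper12.OpenFibre

variable (e : ℕ) (Y : Scheme.{u})

/-- The fibres of an affine space of relative dimension `e` have dimension `e`. -/
theorem dim_fiber_affineSpace (y : Y) :
    topologicalKrullDim ((𝔸(ULift.{u} (Fin e); Y) ↘ Y).fiber y) = (e : WithBot ℕ∞) := by
  have hP := AffineSpace.isPullback_map (n := ULift.{u} (Fin e)) (Y.fromSpecResidueField y)
  let i1 : 𝔸(ULift.{u} (Fin e); Spec (Y.residueField y)) ≅
      (𝔸(ULift.{u} (Fin e); Y) ↘ Y).fiber y := hP.isoPullback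
  let i2 := AffineSpace.SpecIso (ULift.{u} (Fin e)) (Y.residueField y)
  have h1 := IsHomeomorph.topologicalKrullDim_eq _ (Scheme.homeoOfIso i1).isHomeomorph
  have h2 := IsHomeomorph.topologicalKrullDim_eq _ (Scheme.homeoOfIso i2).isHomeomorph
  rw [← h1, h2]
  have h3 := PrimeSpectrum.topologicalKrullDim_eq_ringKrullDim
    (R := MvPolynomial (ULift.{u} (Fin e)) (Y.residueField y))
  refine h3.trans ?_
  rw [MvPolynomial.ringKrullDim_of_isNoetherianRing, ringKrullDim_eq_zero_of_field, zero_add]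
  simp

instance : LocallyOfFiniteType (𝔸(ULift.{u} (Fin e); Y) ↘ Y) := by
  haveI : LocallyOfFinitePresentation (𝔸(ULift.{u} (Fin e); Y) ↘ Y) := inferInstance
  infer_instance

/-- The transcendence degree of a point of an affine space of relative dimension `e` is at most
`e`. -/
theorem trn_le (w : 𝔸(ULift.{u} (Fin e); Y)) :
    trn (𝔸(ULift.{u} (Fin e); Y) ↘ Y) w ≤ (e : ℕ∞) := by
  have h1 := trn_le_fibreDimAt_of_specializes (𝔸(ULift.{u} (Fin e); Y) ↘ Y) w w rfl specializes_rfl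
  have h2 := (dim_fiber_le_iff (𝔸(ULift.{u} (Fin e); Y) ↘ Y) _ (e : WithBot ℕ∞)).mp
    (le_of_eq (dim_fiber_affineSpace e Y _)) w rfl
  have h3 := h1.trans h2
  exact_mod_cast h3

/-- The fibres of an affine space are irreducible. -/
theorem irreducibleSpace_fiber (y : Y) :
    IrreducibleSpace ((𝔸(ULift.{u} (Fin e); Y) ↘ Y).fiber y) := by
  have hP := AffineSpace.isPullback_map (n := ULift.{u} (Fin e)) (Y.fromSpecResidueField y)
  let i1 : 𝔸(ULift.{u} (Fin e); Spec (Y.residueField y)) ≅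
      (𝔸(ULift.{u} (Fin e); Y) ↘ Y).fiber y := hP.isoPullback
  haveI : IrreducibleSpace (Spec (Y.residueField y)) := by
    have : IsDomain (Y.residueField y) := inferInstance
    infer_instance
  haveI : IrreducibleSpace 𝔸(ULift.{u} (Fin e); Spec (Y.residueField y)) := inferInstance
  exact (Scheme.homeoOfIso i1).irreducibleSpace_iff.mp inferInstance

/-- A point of an affine space which is maximal in its fibre has transcendence degree `e`. -/
theorem trn_eq_of_max (w : 𝔸(ULift.{u} (Fin e); Y))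
    (hmax : ∀ w' : 𝔸(ULift.{u} (Fin e); Y), (𝔸(ULift.{u} (Fin e); Y) ↘ Y) w' =
      (𝔸(ULift.{u} (Fin e); Y) ↘ Y) w → w' ⤳ w → w' = w) :
    trn (𝔸(ULift.{u} (Fin e); Y) ↘ Y) w = (e : ℕ∞) := by
  obtain ⟨C, hC, hdim⟩ := exists_component_fiber_of_max (𝔸(ULift.{u} (Fin e); Y) ↘ Y) w _ rfl hmax
  haveI := irreducibleSpace_fiber e Y ((𝔸(ULift.{u} (Fin e); Y) ↘ Y) w)
  have hCu : C = Set.univ := by
    have h1 : (Set.univ : Set ((𝔸(ULift.{u} (Fin e); Y) ↘ Y).fiber
        ((𝔸(ULift.{u} (Fin e); Y) ↘ Y) w))) ∈ irreducibleComponents _ := by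
      refine ⟨IrreducibleSpace.isIrreducible_univ _, fun _ _ _ => Set.subset_univ _⟩
    exact (hC.2 h1.1 (Set.subset_univ _)).antisymm (Set.subset_univ _) |>.symm ▸ rfl
  rw [hCu] at hdim
  have h2 : topologicalKrullDim ↥(Set.univ : Set ((𝔸(ULift.{u} (Fin e); Y) ↘ Y).fiber
      ((𝔸(ULift.{u} (Fin e); Y) ↘ Y) w))) = (e : WithBot ℕ∞) := by
    rw [← dim_fiber_affineSpace e Y ((𝔸(ULift.{u} (Fin e); Y) ↘ Y) w)]
    exact IsHomeomorph.topologicalKrullDim_eq _ (Homeomorph.Set.univ _).isHomeomorph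
  rw [h2] at hdim
  exact_mod_cast hdim.symm

/-- A point of an affine space over a maximal point of the base, of transcendence degree `e`,
is a maximal point. -/
theorem isMaxPt_of_trn_eq (w : 𝔸(ULift.{u} (Fin e); Y))
    (h1 : IsMaxPt ((𝔸(ULift.{u} (Fin e); Y) ↘ Y) w))
    (h2 : trn (𝔸(ULift.{u} (Fin e); Y) ↘ Y) w = (e : ℕ∞)) : IsMaxPt w := by
  intro w' hw'
  by_contra hne
  have h3 : (𝔸(ULift.{u} (Fin e); Y) ↘ Y) w' = (𝔸(ULift.{u} (Fin e); Y) ↘ Y) w :=
    h1 _ (hw'.map (𝔸(ULift.{u} (Fin e); Y) ↘ Y).continuous)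
  have h4 := trn_lt_of_specializes (𝔸(ULift.{u} (Fin e); Y) ↘ Y) w w' h3 hw' hne
  rw [h2] at h4
  exact absurd (trn_le e Y w') (not_le.mpr h4)

instance flat_over : Flat (𝔸(ULift.{u} (Fin e); Y) ↘ Y) := by
  refine MorphismProperty.pullback_fst (P := @Flat) _ _ ?_
  have := isIso_of_isTerminal specULiftZIsTerminal.{u} terminalIsTerminal (terminal.from _)
  rw [← terminal.comp_from (Spec.map (CommRingCat.ofHom MvPolynomial.C)),
    MorphismProperty.cancel_right_of_respectsIso (P := @Flat),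
    HasRingHomProperty.Spec_iff (P := @Flat)]
  simp only [CommRingCat.hom_ofHom]
  have h : (algebraMap (ULift.{u} ℤ) (MvPolynomial (ULift.{u} (Fin e)) (ULift.{u} ℤ))).Flat :=
    RingHom.flat_algebraMap_iff.mpr inferInstance
  rwa [MvPolynomial.algebraMap_eq] at h

/-- The structure morphism of an affine space maps maximal points to maximal points. -/
theorem isMaxPt_over (w : 𝔸(ULift.{u} (Fin e); Y)) (h : IsMaxPt w) :
    IsMaxPt ((𝔸(ULift.{u} (Fin e); Y) ↘ Y) w) := by
  have hgen : GeneralizingMap (𝔸(ULift.{u} (Fin e); Y) ↘ Y) := Flat.generalizingMap _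
  intro t ht
  obtain ⟨t', ht', rfl⟩ := hgen ht
  rw [h t' ht']

theorem trn_eq_of_isMaxPt (w : 𝔸(ULift.{u} (Fin e); Y)) (h : IsMaxPt w) :
    trn (𝔸(ULift.{u} (Fin e); Y) ↘ Y) w = (e : ℕ∞) :=
  trn_eq_of_max e Y w (fun w' _ hsp => h w' hsp)

end Groth.Agent.Lib.Helper12.AffSpace
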