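import Mathlib
import Groth.Prelude.Def_CurvBase
import Groth.Agent.Lib.Helper12.DimDenseOpen
import Groth.Agent.Lib.Helper12.SchemeDimFT2

/-!
# Dimension bounds from morphisms to affine space (helper12)
-/

set_option autoImplicit false
set_option linter.style.haveILetI false
universe u
open AlgebraicGeometry CategoryTheory MvPolynomial

namespace Groth.Agent.Lib.Helper12.AffSpaceConv

open Groth.Agent.Lib.Helper12.SchemeDimFT Groth.Agent.Lib.Helper12

attribute [local instance] Curv2.resAlgebra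

/-- the dimension of an affine scheme is the Krull dimension of its ring of global sections -/
theorem topologicalKrullDim_of_isAffine (Z : Scheme.{u}) [IsAffine Z] :
    topologicalKrullDim Z = ringKrullDim Γ(Z, ⊤) := by
  rw [← PrimeSpectrum.topologicalKrullDim_eq_ringKrullDim]
  exact IsHomeomorph.topologicalKrullDim_eq _ Z.isoSpec.hom.homeomorph.isHomeomorph

variable (k : Type u) [Field k] (n : ℕ)

theorem topologicalKrullDim_affineSpace :
    topologicalKrullDim 𝔸(ULift.{u} (Fin n); Spec (CommRingCat.of k)) = n := by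
  have h1 := IsHomeomorph.topologicalKrullDim_eq _
    (AffineSpace.SpecIso (ULift.{u} (Fin n)) (CommRingCat.of k)).hom.homeomorph.isHomeomorph
  rw [h1]
  show topologicalKrullDim (PrimeSpectrum (MvPolynomial (ULift.{u} (Fin n)) k)) = n
  rw [PrimeSpectrum.topologicalKrullDim_eq_ringKrullDim,
    MvPolynomial.ringKrullDim_of_isNoetherianRing, ringKrullDim_eq_zero_of_field]
  simp

theorem ringKrullDim_affineSpace :
    ringKrullDim Γ(𝔸(ULift.{u} (Fin n); Spec (CommRingCat.of k)), ⊤) = n := by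
  rw [← topologicalKrullDim_of_isAffine, topologicalKrullDim_affineSpace]

variable {k n} {X : Scheme.{u}} (f : X ⟶ Spec (CommRingCat.of k)) [LocallyOfFiniteType f]

include f in
theorem dim_le_of_finite (U : X.Opens) (hU : Dense (U : Set X))
    (g : (U : Scheme.{u}) ⟶ 𝔸(ULift.{u} (Fin n); Spec (CommRingCat.of k))) [IsFinite g] :
    topologicalKrullDim X ≤ n := by
  letI : X.Over (Spec (CommRingCat.of k)) := ⟨f⟩
  haveI : LocallyOfFiniteType (X ↘ Spec (CommRingCat.of k)) := ‹_›
  rw [← topologicalKrullDim_dense_open k X U hU]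
  haveI : IsAffine (U : Scheme.{u}) := isAffine_of_isAffineHom g
  have h1 : topologicalKrullDim (U : Scheme.{u}) = ringKrullDim Γ((U : Scheme.{u}), ⊤) :=
    topologicalKrullDim_of_isAffine _
  have h2 : g.appTop.hom.Finite := g.finite_appTop
  letI : Algebra Γ(𝔸(ULift.{u} (Fin n); Spec (CommRingCat.of k)), ⊤) Γ((U : Scheme.{u}), ⊤) :=
    g.appTop.hom.toAlgebra
  haveI : Module.Finite Γ(𝔸(ULift.{u} (Fin n); Spec (CommRingCat.of k)), ⊤)
      Γ((U : Scheme.{u}), ⊤) := h2
  haveI : Algebra.IsIntegral Γ(𝔸(ULift.{u} (Fin n); Spec (CommRingCat.of k)), ⊤)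
      Γ((U : Scheme.{u}), ⊤) := Algebra.IsIntegral.of_finite _ _
  have h3 := ringKrullDim_le_of_isIntegral
    (R := Γ(𝔸(ULift.{u} (Fin n); Spec (CommRingCat.of k)), ⊤)) (S := Γ((U : Scheme.{u}), ⊤))
  rw [ringKrullDim_affineSpace] at h3
  calc topologicalKrullDim (U : Set X) = topologicalKrullDim (U : Scheme.{u}) := rfl
    _ = ringKrullDim Γ((U : Scheme.{u}), ⊤) := h1
    _ ≤ n := h3

include f in
theorem le_dim_of_surjective (U : X.Opens)
    (g : (U : Scheme.{u}) ⟶ 𝔸(ULift.{u} (Fin n); Spec (CommRingCat.of k)))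
    (hg : g ≫ (𝔸(ULift.{u} (Fin n); Spec (CommRingCat.of k)) ↘ Spec (CommRingCat.of k)) =
      U.ι ≫ f)
    (hsurj : Function.Surjective g) :
    ((n : ℕ) : WithBot ℕ∞) ≤ topologicalKrullDim X := by
  haveI : IrreducibleSpace 𝔸(ULift.{u} (Fin n); Spec (CommRingCat.of k)) := inferInstance
  obtain ⟨u, hu⟩ := hsurj (genericPoint 𝔸(ULift.{u} (Fin n); Spec (CommRingCat.of k)))
  letI oU : (U : Scheme.{u}).Over (Spec (CommRingCat.of k)) := ⟨U.ι ≫ f⟩
  haveI : LocallyOfFiniteType ((U : Scheme.{u}) ↘ Spec (CommRingCat.of k)) :=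
    (inferInstance : LocallyOfFiniteType (U.ι ≫ f))
  haveI : LocallyOfFiniteType
      (𝔸(ULift.{u} (Fin n); Spec (CommRingCat.of k)) ↘ Spec (CommRingCat.of k)) := inferInstance
  have h1 := trdeg_le_of_hom k
    (𝔸(ULift.{u} (Fin n); Spec (CommRingCat.of k)) ↘ Spec (CommRingCat.of k)) (U.ι ≫ f) g hg u
  rw [hu] at h1
  have h1' : tr k 𝔸(ULift.{u} (Fin n); Spec (CommRingCat.of k))
      (genericPoint 𝔸(ULift.{u} (Fin n); Spec (CommRingCat.of k))) ≤ tr k (U : Scheme.{u}) u := by
    have e1 := tr_spec k 𝔸(ULift.{u} (Fin n); Spec (CommRingCat.of k))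
      (genericPoint 𝔸(ULift.{u} (Fin n); Spec (CommRingCat.of k)))
    have e2 := tr_spec k (U : Scheme.{u}) u
    have h7 := e1.symm.le.trans (h1.trans e2.le)
    exact_mod_cast h7
  have h2 := topologicalKrullDim_closure_singleton k
    𝔸(ULift.{u} (Fin n); Spec (CommRingCat.of k))
    (genericPoint 𝔸(ULift.{u} (Fin n); Spec (CommRingCat.of k)))
  have hcl : closure ({genericPoint 𝔸(ULift.{u} (Fin n); Spec (CommRingCat.of k))} :
      Set 𝔸(ULift.{u} (Fin n); Spec (CommRingCat.of k))) = Set.univ :=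
    (genericPoint_spec _).def
  rw [hcl] at h2
  have h3 : topologicalKrullDim (Set.univ :
      Set 𝔸(ULift.{u} (Fin n); Spec (CommRingCat.of k))) = n := by
    rw [← topologicalKrullDim_affineSpace k n]
    exact IsHomeomorph.topologicalKrullDim_eq _
      (Homeomorph.Set.univ 𝔸(ULift.{u} (Fin n); Spec (CommRingCat.of k))).isHomeomorph
  rw [h3] at h2
  have h4 := trdeg_le_topologicalKrullDim k (U : Scheme.{u}) u (tr k (U : Scheme.{u}) u)
    (tr_spec k (U : Scheme.{u}) u)
  have h5 : topologicalKrullDim (U : Scheme.{u}) ≤ topologicalKrullDim X :=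
    topologicalKrullDim_subspace_le X (U : Set X)
  have h6 : ((n : ℕ) : WithBot ℕ∞) ≤ ((tr k (U : Scheme.{u}) u : ℕ) : WithBot ℕ∞) := by
    have : n = tr k 𝔸(ULift.{u} (Fin n); Spec (CommRingCat.of k))
        (genericPoint 𝔸(ULift.{u} (Fin n); Spec (CommRingCat.of k))) := by
      exact_mod_cast h2
    rw [this]
    exact_mod_cast h1'
  exact h6.trans (h4.trans h5)

end Groth.Agent.Lib.Helper12.AffSpaceConv
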