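import Mathlib
import Groth.Agent.Lib.Helper14.SmoothInsepSch

/-!
# Morphisms from affine opens of a `k`-scheme to affine space given by ring maps (helper12)
-/

set_option autoImplicit false
set_option linter.style.haveILetI false
universe u
open AlgebraicGeometry CategoryTheory MvPolynomial

namespace Groth.Agent.Lib.Helper12.AffSpaceMap

open Groth.Agent.Lib.Helper14.SmoothInsepSch

variable {k : Type u} [Field k] {X : Scheme.{u}} (f : X ⟶ Spec (CommRingCat.of k))

/-- the morphism from an affine open to affine space given by a ring hom -/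
noncomputable def toAff {U : X.Opens} (hU : IsAffineOpen U) (n : ℕ)
    (ψ : MvPolynomial (ULift.{u} (Fin n)) k →+* Γ(X, U)) :
    (U : Scheme.{u}) ⟶ 𝔸(ULift.{u} (Fin n); Spec (CommRingCat.of k)) :=
  hU.isoSpec.hom ≫ Spec.map (CommRingCat.ofHom ψ) ≫
    (AffineSpace.SpecIso (ULift.{u} (Fin n)) (CommRingCat.of k)).inv

variable {U : X.Opens} (hU : IsAffineOpen U) (n : ℕ)
  (ψ : MvPolynomial (ULift.{u} (Fin n)) k →+* Γ(X, U))

theorem toAff_over (hψ : ψ.comp MvPolynomial.C = (secMap f hU).hom) :
    toAff hU n ψ ≫ (𝔸(ULift.{u} (Fin n); Spec (CommRingCat.of k)) ↘ Spec (CommRingCat.of k)) =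
      U.ι ≫ f := by
  unfold toAff
  rw [Category.assoc, Category.assoc, AffineSpace.SpecIso_inv_over, ← Spec.map_comp]
  have : CommRingCat.ofHom (MvPolynomial.C : k →+* MvPolynomial (ULift.{u} (Fin n)) k) ≫
      CommRingCat.ofHom ψ = secMap f hU := by
    ext c
    exact DFunLike.congr_fun hψ c
  rw [this, Spec_map_secMap, ← Category.assoc, hU.isoSpec_hom_fromSpec]

theorem isFinite_toAff (hψ : ψ.Finite) : IsFinite (toAff hU n ψ) := by
  haveI : IsFinite (Spec.map (CommRingCat.ofHom ψ)) := by
    rw [IsFinite.SpecMap_iff]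
    exact hψ
  unfold toAff
  infer_instance

theorem surjective_toAff (hψ : Function.Surjective (PrimeSpectrum.comap ψ)) :
    Surjective (toAff hU n ψ) := by
  haveI : Surjective (Spec.map (CommRingCat.ofHom ψ)) := ⟨hψ⟩
  unfold toAff
  infer_instance

end Groth.Agent.Lib.Helper12.AffSpaceMap
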