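import Mathlib
import Groth.Agent.Lib.Helper12.IntegralDim

/-!
# Noether normalisation and maps from polynomial rings in a prescribed number of variables
(helper12)
-/

set_option autoImplicit false
set_option linter.style.haveILetI false
universe u
open MvPolynomial

namespace Groth.Agent.Lib.Helper12.NNDim

variable (k : Type u) [Field k] (B : Type u) [CommRing B] [Algebra k B]

/-- dimension from a finite injective map from a polynomial ring -/
theorem ringKrullDim_eq_of_finite_injective {s : ℕ} (φ : MvPolynomial (Fin s) k →ₐ[k] B)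
    (hinj : Function.Injective φ) (hfin : φ.Finite) : ringKrullDim B = s := by
  letI : Algebra (MvPolynomial (Fin s) k) B := φ.toRingHom.toAlgebra
  haveI : Module.Finite (MvPolynomial (Fin s) k) B := hfin
  haveI : Algebra.IsIntegral (MvPolynomial (Fin s) k) B := Algebra.IsIntegral.of_finite _ _
  have h1 := ringKrullDim_le_of_isIntegral_of_injective (R := MvPolynomial (Fin s) k) (S := B) hinj
  have h2 := ringKrullDim_le_of_isIntegral (R := MvPolynomial (Fin s) k) (S := B)
  rw [ringKrullDim_mvPolynomial_field] at h1 h2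
  exact le_antisymm h2 h1

/-- the truncation `k[T_1..T_n] → k[T_1..T_s]`, killing the variables of index `≥ s` -/
noncomputable def trunc (n s : ℕ) : MvPolynomial (Fin n) k →ₐ[k] MvPolynomial (Fin s) k :=
  aeval (fun i : Fin n => if h : i.1 < s then X ⟨i.1, h⟩ else 0)

theorem trunc_surjective {n s : ℕ} (h : s ≤ n) : Function.Surjective (trunc k n s) := by
  intro p
  refine ⟨rename (Fin.castLE h) p, ?_⟩
  have : (trunc k n s).comp (rename (Fin.castLE h)) = AlgHom.id k _ := by
    apply MvPolynomial.algHom_ext
    intro i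
    simp [trunc]
  exact DFunLike.congr_fun this p

theorem trunc_comp_rename {n s : ℕ} (h : n ≤ s) :
    (trunc k s n).comp (rename (Fin.castLE h)) = AlgHom.id k _ := by
  apply MvPolynomial.algHom_ext
  intro i
  simp [trunc]

variable {k B}

theorem exists_finite_of_le [Nontrivial B] [Algebra.FiniteType k B] (n : ℕ)
    (h : ringKrullDim B ≤ n) : ∃ ψ : MvPolynomial (Fin n) k →ₐ[k] B, ψ.Finite := by
  obtain ⟨s, φ, hinj, hfin⟩ := exists_finite_inj_algHom_of_fg k B
  have hs := ringKrullDim_eq_of_finite_injective k B φ hinj hfin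
  have hsn : s ≤ n := by
    rw [hs] at h
    exact_mod_cast h
  refine ⟨φ.comp (trunc k n s), ?_⟩
  exact RingHom.Finite.comp hfin (RingHom.Finite.of_surjective _ (trunc_surjective k hsn))

theorem exists_comap_surjective_of_le [Nontrivial B] [Algebra.FiniteType k B] (n : ℕ)
    (h : (n : WithBot ℕ∞) ≤ ringKrullDim B) :
    ∃ ψ : MvPolynomial (Fin n) k →ₐ[k] B,
      Function.Surjective (PrimeSpectrum.comap ψ.toRingHom) := by
  obtain ⟨s, φ, hinj, hfin⟩ := exists_finite_inj_algHom_of_fg k B
  have hs := ringKrullDim_eq_of_finite_injective k B φ hinj hfin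
  have hns : n ≤ s := by
    rw [hs] at h
    exact_mod_cast h
  refine ⟨φ.comp (rename (Fin.castLE hns)), ?_⟩
  have h1 : Function.Surjective (PrimeSpectrum.comap φ.toRingHom) :=
    RingHom.IsIntegral.comap_surjective (RingHom.Finite.to_isIntegral hfin) hinj
  have h2 : Function.Surjective (PrimeSpectrum.comap
      (rename (Fin.castLE hns) : MvPolynomial (Fin n) k →ₐ[k] _).toRingHom) := by
    intro p
    refine ⟨PrimeSpectrum.comap (trunc k s n).toRingHom p, ?_⟩
    rw [← PrimeSpectrum.comap_comp_apply]
    have : ((trunc k s n).toRingHom.comp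
        (rename (Fin.castLE hns) : MvPolynomial (Fin n) k →ₐ[k] _).toRingHom) = RingHom.id _ := by
      have := trunc_comp_rename k hns
      exact congrArg AlgHom.toRingHom this
    rw [this]
    rfl
  intro p
  obtain ⟨q, rfl⟩ := h2 p
  obtain ⟨r, rfl⟩ := h1 q
  exact ⟨r, rfl⟩

theorem exists_finite_comap_surjective_of_eq [Nontrivial B] [Algebra.FiniteType k B] (n : ℕ)
    (h : ringKrullDim B = n) :
    ∃ ψ : MvPolynomial (Fin n) k →ₐ[k] B, ψ.Finite ∧
      Function.Surjective (PrimeSpectrum.comap ψ.toRingHom) := by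
  obtain ⟨s, φ, hinj, hfin⟩ := exists_finite_inj_algHom_of_fg k B
  have hs := ringKrullDim_eq_of_finite_injective k B φ hinj hfin
  obtain rfl : s = n := by
    rw [hs] at h
    exact_mod_cast h
  exact ⟨φ, hfin, RingHom.IsIntegral.comap_surjective (RingHom.Finite.to_isIntegral hfin) hinj⟩

end Groth.Agent.Lib.Helper12.NNDim
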