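import Mathlib
import Groth.Agent.Lib.Helper12.AffSpaceMap
import Groth.Agent.Lib.Helper12.AffSpaceConv
import Groth.Agent.Lib.Helper12.NNDim

/-!
# Dimension of a scheme of finite type over a field via maps of dense opens to affine space
(helper12)
-/

set_option autoImplicit false
set_option linter.style.haveILetI false
universe u
open AlgebraicGeometry CategoryTheory MvPolynomial

namespace Groth.Agent.Lib.Helper12.AffSpaceMain

open Groth.Agent.Lib.Helper14.SmoothInsepSch Groth.Agent.Lib.Helper12.AffSpaceMap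
  Groth.Agent.Lib.Helper12.AffSpaceConv Groth.Agent.Lib.Helper12.NNDim
  Groth.Agent.Lib.Helper12.SchemeDimFT

variable (k : Type u) [Field k] {X : Scheme.{u}} (f : X ⟶ Spec (CommRingCat.of k))
  [LocallyOfFiniteType f] [QuasiCompact f]

/-- a dense affine open computing the dimension -/
theorem exists_dense_affine :
    ∃ (U : X.Opens) (hU : IsAffineOpen U), Dense (U : Set X) ∧
      topologicalKrullDim X = ringKrullDim Γ(X, U) ∧
      letI := (secMap f hU).hom.toAlgebra
      Algebra.FiniteType k Γ(X, U) := by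
  haveI : IsNoetherian X := isNoetherian_of_lft_qc k f
  obtain ⟨U, hU, hd⟩ := exists_dense_isAffineOpen X
  refine ⟨U, hU, hd, ?_, ?_⟩
  · letI : X.Over (Spec (CommRingCat.of k)) := ⟨f⟩
    haveI : LocallyOfFiniteType (X ↘ Spec (CommRingCat.of k)) := ‹_›
    rw [← topologicalKrullDim_dense_open k X U hd,
      ← PrimeSpectrum.topologicalKrullDim_eq_ringKrullDim]
    exact IsHomeomorph.topologicalKrullDim_eq _ hU.isoSpec.hom.homeomorph.isHomeomorph
  · have : LocallyOfFiniteType (hU.fromSpec ≫ f) := inferInstance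
    rw [← Spec_map_secMap, HasRingHomProperty.Spec_iff (P := @LocallyOfFiniteType)] at this
    exact this

variable {k}

/-- the ring map on `ULift`-indexed polynomials -/
noncomputable def liftHom {B : Type u} [CommRing B] [Algebra k B] {n : ℕ}
    (ψ : MvPolynomial (Fin n) k →ₐ[k] B) : MvPolynomial (ULift.{u} (Fin n)) k →+* B :=
  ψ.toRingHom.comp (renameEquiv k (Equiv.ulift.{u} (α := Fin n))).toRingEquiv.toRingHom

theorem liftHom_C {B : Type u} [CommRing B] [Algebra k B] {n : ℕ}
    (ψ : MvPolynomial (Fin n) k →ₐ[k] B) (c : k) : liftHom ψ (C c) = algebraMap k B c := by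
  simp [liftHom]

theorem liftHom_finite {B : Type u} [CommRing B] [Algebra k B] {n : ℕ}
    (ψ : MvPolynomial (Fin n) k →ₐ[k] B) (h : ψ.Finite) : (liftHom ψ).Finite :=
  RingHom.Finite.comp h (RingHom.Finite.of_surjective _
    (renameEquiv k (Equiv.ulift.{u} (α := Fin n))).surjective)

theorem liftHom_comap_surjective {B : Type u} [CommRing B] [Algebra k B] {n : ℕ}
    (ψ : MvPolynomial (Fin n) k →ₐ[k] B)
    (h : Function.Surjective (PrimeSpectrum.comap ψ.toRingHom)) :
    Function.Surjective (PrimeSpectrum.comap (liftHom ψ)) := by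
  intro p
  set e := (renameEquiv k (Equiv.ulift.{u} (α := Fin n))).toRingEquiv with he
  obtain ⟨q, hq⟩ := h (PrimeSpectrum.comap e.symm.toRingHom p)
  refine ⟨q, ?_⟩
  show PrimeSpectrum.comap (ψ.toRingHom.comp e.toRingHom) q = p
  rw [PrimeSpectrum.comap_comp_apply, hq, ← PrimeSpectrum.comap_comp_apply]
  have : e.symm.toRingHom.comp e.toRingHom = RingHom.id _ := by
    ext x <;> simp
  rw [this]
  rfl

end Groth.Agent.Lib.Helper12.AffSpaceMain
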