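import Mathlib
import Groth.Agent.Lib.Helper12.ClosedDim
import Groth.Agent.Lib.Helper12.JacDim
import Groth.Prelude.Def_MoreMor

/-!
# Helper library (helper12): dense affine opens affine over a Noetherian scheme
-/

universe u
open CategoryTheory AlgebraicGeometry TopologicalSpace

set_option backward.isDefEq.respectTransparency false
set_option linter.style.haveILetI false

namespace Groth.Agent.Lib.Helper12.AffStrat

/-- In a Noetherian scheme there is an affine open `U`, affine over `X`, such that every point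
is a specialization of a point of `U`. -/
theorem exists_affine_dense_open (X : Scheme.{u}) [IsNoetherian X] :
    ∃ U : X.Opens, IsAffineOpen U ∧ IsAffineHom U.ι ∧ ∀ x : X, ∃ η ∈ U, η ⤳ x := by
  classical
  have hcov : ∀ x : X, ∃ V : X.Opens, IsAffineOpen V ∧ x ∈ V := fun x => by
    obtain ⟨_, ⟨V, hV, rfl⟩, hxV, -⟩ :=
      X.isBasis_affineOpens.exists_subset_of_mem_open (Set.mem_univ x) isOpen_univ
    exact ⟨V, hV, hxV⟩
  choose V hVaff hxV using hcov
  obtain ⟨t, ht⟩ := CompactSpace.elim_nhds_subcover (fun x => (V x : Set X))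
    (fun x => (V x).isOpen.mem_nhds (hxV x))
  have hfin : (irreducibleComponents X).Finite := NoetherianSpace.finite_irreducibleComponents
  haveI : Finite (irreducibleComponents X) := hfin.to_subtype
  have hclosed : ∀ Z : irreducibleComponents X, IsClosed (Z : Set X) := fun Z =>
    isClosed_of_mem_irreducibleComponents _ Z.2
  have hgen : ∀ Z : irreducibleComponents X, ∃ η : X, IsGenericPoint η (Z : Set X) := fun Z =>
    QuasiSober.sober Z.2.1 (hclosed Z)
  choose η hη using hgen
  let W : irreducibleComponents X → Set X := fun Z =>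
    (⋃ Z' ∈ {Z' : irreducibleComponents X | Z' ≠ Z}, (Z' : Set X))ᶜ
  have hWopen : ∀ Z, IsOpen (W Z) := fun Z =>
    (Set.Finite.isClosed_biUnion (Set.toFinite _) (fun Z' _ => hclosed Z')).isOpen_compl
  have hηW : ∀ Z, η Z ∈ W Z := by
    intro Z h
    simp only [Set.mem_iUnion, Set.mem_setOf_eq, exists_prop] at h
    obtain ⟨Z', hne, hmem⟩ := h
    apply hne
    have hsub : (Z : Set X) ⊆ Z' := by
      rw [← (hη Z).def]
      exact closure_minimal (Set.singleton_subset_iff.mpr hmem) (hclosed Z')
    exact Subtype.ext (Set.Subset.antisymm (Z.2.2 Z'.2.1 hsub) hsub)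
  have hWZ : ∀ Z, W Z ⊆ (Z : Set X) := by
    intro Z x hx
    by_contra hxZ
    apply hx
    simp only [Set.mem_iUnion, Set.mem_setOf_eq, exists_prop]
    refine ⟨⟨irreducibleComponent x, irreducibleComponent_mem_irreducibleComponents x⟩, ?_,
      mem_irreducibleComponent⟩
    intro h
    apply hxZ
    rw [← h]
    exact mem_irreducibleComponent
  have hspec : ∀ (Z : irreducibleComponents X) (y : X), y ∈ (Z : Set X) → η Z ⤳ y := fun Z y hy => (hη Z).specializes hy
  have hWdisj : ∀ Z Z', Z ≠ Z' → ∀ y, y ∈ W Z → y ∉ W Z' := by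
    intro Z Z' hne y hy hy'
    apply hy'
    simp only [Set.mem_iUnion, Set.mem_setOf_eq, exists_prop]
    exact ⟨Z, hne, hWZ Z hy⟩
  let O : irreducibleComponents X → X.Opens := fun Z =>
    ⟨W Z ∩ ⋂ x ∈ t.filter (fun x => η Z ∈ V x), (V x : Set X),
      (hWopen Z).inter (isOpen_biInter_finset fun x _ => (V x).isOpen)⟩
  have hηO : ∀ Z, η Z ∈ O Z := by
    intro Z
    refine ⟨hηW Z, ?_⟩
    simp only [Set.mem_iInter, Finset.mem_filter]
    exact fun x hx => hx.2
  have hf : ∀ Z, ∃ f : Γ(X, V (η Z)), X.basicOpen f ≤ O Z ∧ η Z ∈ X.basicOpen f := fun Z =>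
    (hVaff (η Z)).exists_basicOpen_le ⟨η Z, hηO Z⟩ (hxV (η Z))
  choose f hfle hfmem using hf
  let UZ : irreducibleComponents X → X.Opens := fun Z => X.basicOpen (f Z)
  have hUZaff : ∀ Z, IsAffineOpen (UZ Z) := fun Z => (hVaff (η Z)).basicOpen (f Z)
  have hUZW : ∀ Z (y : X), y ∈ UZ Z → y ∈ W Z := fun Z y hy => (hfle Z hy).1
  have hUZV : ∀ Z, ∀ x ∈ t, η Z ∈ V x → UZ Z ≤ V x := by
    intro Z x hx hmem y hy
    have := (hfle Z hy).2
    simp only [Set.mem_iInter, Finset.mem_filter] at this
    exact this x ⟨hx, hmem⟩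
  have hUZV' : ∀ Z, ∀ x, η Z ∉ V x → UZ Z ⊓ V x = ⊥ := by
    intro Z x hmem
    rw [eq_bot_iff]
    rintro y ⟨hy1, hy2⟩
    exact (hmem ((hspec Z y (hWZ Z (hUZW Z y hy1))).mem_open (V x).isOpen hy2)).elim
  have hdisj : Pairwise (Function.onFun Disjoint UZ) := by
    intro Z Z' hne
    show Disjoint (UZ Z) (UZ Z')
    rw [← Opens.coe_disjoint, Set.disjoint_left]
    intro y hy hy'
    exact hWdisj Z Z' hne y (hUZW Z y hy) (hUZW Z' y hy')
  refine ⟨⨆ Z, UZ Z, IsAffineOpen.iSup_of_disjoint hUZaff hdisj, ?_, ?_⟩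
  · apply isAffineHom_of_forall_exists_isAffineOpen
    intro y
    have hy : y ∈ ⋃ x ∈ t, (V x : Set X) := by rw [ht]; trivial
    simp only [Set.mem_iUnion, exists_prop] at hy
    obtain ⟨x, hxt, hyx⟩ := hy
    refine ⟨V x, hyx, hVaff x, ?_⟩
    rw [← Scheme.Hom.isAffineOpen_iff_of_isOpenImmersion (⨆ Z, UZ Z).ι,
      Scheme.Hom.image_preimage_eq_opensRange_inf, Scheme.Opens.opensRange_ι, iSup_inf_eq]
    refine IsAffineOpen.iSup_of_disjoint (fun Z => ?_) ?_
    · by_cases hmem : η Z ∈ V x
      · rw [inf_eq_left.mpr (hUZV Z x hxt hmem)]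
        exact hUZaff Z
      · rw [hUZV' Z x hmem]
        exact isAffineOpen_bot X
    · intro Z Z' hne
      exact (hdisj hne).mono inf_le_left inf_le_left
  · intro x
    let Z : irreducibleComponents X :=
      ⟨irreducibleComponent x, irreducibleComponent_mem_irreducibleComponents x⟩
    exact ⟨η Z, Opens.mem_iSup.mpr ⟨Z, hfmem Z⟩, hspec Z x mem_irreducibleComponent⟩


/-- If every point is a specialization of a point of the open `U`, no chain of points outside
`U` can be of maximal length. -/
theorem length_add_one_le (X : Scheme.{u}) (U : X.Opens) (hU : ∀ x : X, ∃ η ∈ U, η ⤳ x)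
    (l : LTSeries X) (hl : ∀ i, l i ∉ U) :
    ((l.length + 1 : ℕ) : WithBot ℕ∞) ≤ topologicalKrullDim X := by
  obtain ⟨η, hηU, hη⟩ := hU l.last
  have hlt : l.last < η :=
    lt_of_le_not_ge hη (fun h => hl (Fin.last _) (Specializes.mem_open h U.isOpen hηU))
  have h1 := Order.LTSeries.length_le_krullDim (l.snoc η hlt)
  have h2 : Order.krullDim X = topologicalKrullDim X :=
    (JacDim.topologicalKrullDim_eq_krullDim' X).symm
  rw [h2] at h1
  exact h1

theorem dim_compl_le (X : Scheme.{u}) (U : X.Opens) (hU : ∀ x : X, ∃ η ∈ U, η ⤳ x) (d : ℕ)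
    (hd : topologicalKrullDim X ≤ ((d + 1 : ℕ) : WithBot ℕ∞)) :
    topologicalKrullDim ↥((U : Set X)ᶜ) ≤ (d : WithBot ℕ∞) := by
  refine ClosedDim.topologicalKrullDim_le_of_forall_series _
    U.isOpen.isClosed_compl.isLocallyClosed _ (fun l hl => ?_)
  have h := (length_add_one_le X U hU l hl).trans hd
  have h' : l.length + 1 ≤ d + 1 := by exact_mod_cast h
  exact_mod_cast Nat.le_of_succ_le_succ h'

theorem eq_top_of_dim_le_zero (X : Scheme.{u}) (U : X.Opens) (hU : ∀ x : X, ∃ η ∈ U, η ⤳ x)
    (hd : topologicalKrullDim X ≤ ((0 : ℕ) : WithBot ℕ∞)) : U = ⊤ := by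
  rw [eq_top_iff]
  intro x _
  by_contra hx
  have h := (length_add_one_le X U hU (RelSeries.singleton _ x) (fun _ => hx)).trans hd
  have h0 : ((0 + 1 : ℕ) : WithBot ℕ∞) ≤ ((0 : ℕ) : WithBot ℕ∞) := h
  have h' : 0 + 1 ≤ 0 := by exact_mod_cast h0
  omega

/-- A Noetherian scheme of dimension at most `d` has an affine stratification indexed by
`0, …, d`. -/
theorem hasAffineStratification_of_dim_le : ∀ (d : ℕ) (X : Scheme.{u}) [IsNoetherian X],
    topologicalKrullDim X ≤ (d : WithBot ℕ∞) → MoreMor.HasAffineStratification X d := by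
  intro d
  induction d with
  | zero =>
    intro X _ hd
    obtain ⟨U, hUaff, hUι, hU⟩ := exists_affine_dense_open X
    have hUtop : U = ⊤ := eq_top_of_dim_le_zero X U hU hd
    refine ⟨fun _ => 0, fun i => ?_, fun i => ⟨U, U.ι, inferInstance, hUaff, hUι, ?_⟩⟩
    · have : {x : X | (0 : Fin (0 + 1)) ≤ i} = Set.univ := by
        ext x; simp
      rw [this]; exact isClosed_univ
    · rw [Scheme.Opens.range_ι, hUtop]
      ext x
      simp only [Opens.coe_top, Set.mem_univ, Set.mem_setOf_eq, true_iff]
      exact (Fin.fin_one_eq_zero i).symm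
  | succ d ih =>
    intro X _ hd
    classical
    obtain ⟨U, hUaff, hUι, hU⟩ := exists_affine_dense_open X
    let T : Closeds X := ⟨(U : Set X)ᶜ, U.isOpen.isClosed_compl⟩
    let I := Scheme.IdealSheafData.vanishingIdeal T
    let ι' : I.subscheme ⟶ X := I.subschemeι
    have hrange : Set.range ι' = (U : Set X)ᶜ := by
      rw [Scheme.IdealSheafData.range_subschemeι,
        Scheme.IdealSheafData.coe_support_vanishingIdeal]
      rfl
    haveI : IsLocallyNoetherian I.subscheme := LocallyOfFiniteType.isLocallyNoetherian ι'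
    haveI : CompactSpace I.subscheme := QuasiCompact.compactSpace_of_compactSpace ι'
    haveI : IsNoetherian I.subscheme := {}
    have hdim : topologicalKrullDim I.subscheme ≤ (d : WithBot ℕ∞) := by
      have h1 : topologicalKrullDim I.subscheme = topologicalKrullDim ↥(Set.range ι') :=
        IsHomeomorph.topologicalKrullDim_eq _ ι'.isEmbedding.toHomeomorph.isHomeomorph
      rw [h1, hrange]
      exact dim_compl_le X U hU d hd
    obtain ⟨s', hs'cl, hs'str⟩ := ih I.subscheme hdim
    have hinj : Function.Injective ι' := ι'.isEmbedding.injective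
    let s : X → Fin (d + 1 + 1) := fun x =>
      if h : x ∈ Set.range ι' then Fin.castSucc (s' h.choose) else Fin.last (d + 1)
    have hs1 : ∀ x' : I.subscheme, s (ι' x') = Fin.castSucc (s' x') := by
      intro x'
      have h : ι' x' ∈ Set.range ι' := ⟨x', rfl⟩
      simp only [s, dif_pos h]
      rw [hinj h.choose_spec]
    have hs2 : ∀ x : X, x ∉ Set.range ι' → s x = Fin.last (d + 1) := fun x hx => by
      simp only [s, dif_neg hx]
    have hlev : ∀ i' : Fin (d + 1), {x : X | s x = Fin.castSucc i'} = ι' '' {x' | s' x' = i'} := by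
      intro i'
      ext x
      constructor
      · intro hx
        by_cases hxr : x ∈ Set.range ι'
        · obtain ⟨x', rfl⟩ := hxr
          refine ⟨x', ?_, rfl⟩
          have := hx
          simp only [Set.mem_setOf_eq, hs1] at this
          exact Fin.castSucc_injective _ this
        · exfalso
          have := hx
          simp only [Set.mem_setOf_eq, hs2 x hxr] at this
          exact (Fin.castSucc_lt_last i').ne this.symm
      · rintro ⟨x', hx', rfl⟩
        simp only [Set.mem_setOf_eq, hs1]
        exact congrArg _ hx'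
    have hsub : ∀ i' : Fin (d + 1), {x : X | s x ≤ Fin.castSucc i'} = ι' '' {x' | s' x' ≤ i'} := by
      intro i'
      ext x
      constructor
      · intro hx
        by_cases hxr : x ∈ Set.range ι'
        · obtain ⟨x', rfl⟩ := hxr
          refine ⟨x', ?_, rfl⟩
          have := hx
          simp only [Set.mem_setOf_eq, hs1] at this
          exact Fin.castSucc_le_castSucc_iff.mp this
        · exfalso
          have := hx
          simp only [Set.mem_setOf_eq, hs2 x hxr] at this
          exact absurd (Fin.castSucc_lt_last i') (not_lt.mpr this)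
      · rintro ⟨x', hx', rfl⟩
        simp only [Set.mem_setOf_eq, hs1]
        exact Fin.castSucc_le_castSucc_iff.mpr hx'
    refine ⟨s, fun i => ?_, fun i => ?_⟩
    · induction i using Fin.lastCases with
      | last =>
        have : {x : X | s x ≤ Fin.last (d + 1)} = Set.univ := by
          ext x; simp [Fin.le_last]
        rw [this]; exact isClosed_univ
      | cast i' =>
        rw [hsub i']
        exact ι'.isClosedEmbedding.isClosedMap _ (hs'cl i')
    · induction i using Fin.lastCases with
      | last =>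
        refine ⟨U, U.ι, inferInstance, hUaff, hUι, ?_⟩
        rw [Scheme.Opens.range_ι]
        ext x
        constructor
        · intro hx
          exact hs2 x (by rw [hrange]; exact fun h => h hx)
        · intro hx
          by_contra hxU
          have hxr : x ∈ Set.range ι' := by rw [hrange]; exact hxU
          obtain ⟨x', rfl⟩ := hxr
          have := hx
          simp only [Set.mem_setOf_eq, hs1] at this
          exact (Fin.castSucc_lt_last _).ne this
      | cast i' =>
        obtain ⟨Z, ι, hι1, hι2, hι3, hι4⟩ := hs'str i'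
        refine ⟨Z, ι ≫ ι', inferInstance, hι2, inferInstance, ?_⟩
        rw [hlev i', ← hι4, ← Set.range_comp]
        rfl

end Groth.Agent.Lib.Helper12.AffStrat
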