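import Mathlib
import Groth.Agent.Lib.Helper12.AffStrat
import Groth.Prelude.Def_MoreMor

/-!
# Helper library (helper12): affine stratifications, general facts
-/

universe u
open CategoryTheory AlgebraicGeometry TopologicalSpace Limits

set_option backward.isDefEq.respectTransparency false
set_option linter.style.haveILetI false

namespace Groth.Agent.Lib.Helper12.AffStrat2

/-- Affine stratifications pull back along affine morphisms. -/
theorem hasAffineStratification_of_isAffineHom {X Y : Scheme.{u}} (g : X ⟶ Y) [IsAffineHom g]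
    (n : ℕ) (h : MoreMor.HasAffineStratification Y n) : MoreMor.HasAffineStratification X n := by
  obtain ⟨s, hs, hstr⟩ := h
  refine ⟨fun x => s (g x), fun i => (hs i).preimage g.continuous, fun i => ?_⟩
  obtain ⟨Z, ι, hι1, hι2, hι3, hι4⟩ := hstr i
  haveI := hι1
  haveI := hι3
  haveI := hι2
  haveI : IsAffineHom (pullback.snd ι g) := MorphismProperty.pullback_snd _ _ hι3
  refine ⟨pullback ι g, pullback.snd ι g, inferInstance, ?_, inferInstance, ?_⟩
  · exact isAffine_of_isAffineHom (pullback.fst ι g)
  · rw [Scheme.Pullback.range_snd, hι4]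
    rfl

/-- Adding an open affine stratum on top of a stratification of the closed complement. -/
theorem step {X W : Scheme.{u}} (U : X.Opens) (hUaff : IsAffineOpen U) (hUι : IsAffineHom U.ι)
    (ι' : W ⟶ X) [IsClosedImmersion ι'] (hrange : Set.range ι' = (U : Set X)ᶜ) (d : ℕ)
    (h : MoreMor.HasAffineStratification W d) : MoreMor.HasAffineStratification X (d + 1) := by
  classical
  obtain ⟨s', hs'cl, hs'str⟩ := h
  have hinj : Function.Injective ι' := ι'.isEmbedding.injective
  let s : X → Fin (d + 1 + 1) := fun x =>
    if h : x ∈ Set.range ι' then Fin.castSucc (s' h.choose) else Fin.last (d + 1)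
  have hs1 : ∀ x' : W, s (ι' x') = Fin.castSucc (s' x') := by
    intro x'
    have h : ι' x' ∈ Set.range ι' := ⟨x', rfl⟩
    simp only [s, dif_pos h]
    rw [hinj h.choose_spec]
  have hs2 : ∀ x : X, x ∉ Set.range ι' → s x = Fin.last (d + 1) := fun x hx => by
    simp only [s, dif_neg hx]
  have hlev : ∀ i' : Fin (d + 1), {x : X | s x = Fin.castSucc i'} = ι' '' {x' | s' x' = i'} := by
    intro i'
    ext x
    constructor
    · intro hx
      by_cases hxr : x ∈ Set.range ι'
      · obtain ⟨x', rfl⟩ := hxr
        refine ⟨x', ?_, rfl⟩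
        have := hx
        simp only [Set.mem_setOf_eq, hs1] at this
        exact Fin.castSucc_injective _ this
      · exfalso
        have := hx
        simp only [Set.mem_setOf_eq, hs2 x hxr] at this
        exact (Fin.castSucc_lt_last i').ne this.symm
    · rintro ⟨x', hx', rfl⟩
      simp only [Set.mem_setOf_eq, hs1]
      exact congrArg _ hx'
  have hsub : ∀ i' : Fin (d + 1), {x : X | s x ≤ Fin.castSucc i'} = ι' '' {x' | s' x' ≤ i'} := by
    intro i'
    ext x
    constructor
    · intro hx
      by_cases hxr : x ∈ Set.range ι'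
      · obtain ⟨x', rfl⟩ := hxr
        refine ⟨x', ?_, rfl⟩
        have := hx
        simp only [Set.mem_setOf_eq, hs1] at this
        exact Fin.castSucc_le_castSucc_iff.mp this
      · exfalso
        have := hx
        simp only [Set.mem_setOf_eq, hs2 x hxr] at this
        exact absurd (Fin.castSucc_lt_last i') (not_lt.mpr this)
    · rintro ⟨x', hx', rfl⟩
      simp only [Set.mem_setOf_eq, hs1]
      exact Fin.castSucc_le_castSucc_iff.mpr hx'
  refine ⟨s, fun i => ?_, fun i => ?_⟩
  · induction i using Fin.lastCases with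
    | last =>
      have : {x : X | s x ≤ Fin.last (d + 1)} = Set.univ := by
        ext x; simp [Fin.le_last]
      rw [this]; exact isClosed_univ
    | cast i' =>
      rw [hsub i']
      exact ι'.isClosedEmbedding.isClosedMap _ (hs'cl i')
  · induction i using Fin.lastCases with
    | last =>
      refine ⟨U, U.ι, inferInstance, hUaff, hUι, ?_⟩
      rw [Scheme.Opens.range_ι]
      ext x
      constructor
      · intro hx
        exact hs2 x (by rw [hrange]; exact fun h => h hx)
      · intro hx
        by_contra hxU
        have hxr : x ∈ Set.range ι' := by rw [hrange]; exact hxU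
        obtain ⟨x', rfl⟩ := hxr
        have := hx
        simp only [Set.mem_setOf_eq, hs1] at this
        exact (Fin.castSucc_lt_last _).ne this
    | cast i' =>
      obtain ⟨Z, ι, hι1, hι2, hι3, hι4⟩ := hs'str i'
      refine ⟨Z, ι ≫ ι', inferInstance, hι2, inferInstance, ?_⟩
      rw [hlev i', ← hι4, ← Set.range_comp]
      rfl

/-- An affine scheme has an affine stratification with one stratum. -/
theorem hasAffineStratification_of_isAffine (X : Scheme.{u}) [IsAffine X] :
    MoreMor.HasAffineStratification X 0 := by
  refine ⟨fun _ => 0, fun i => ?_, fun i => ⟨X, 𝟙 X, inferInstance, inferInstance, inferInstance, ?_⟩⟩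
  · have : {x : X | (0 : Fin (0 + 1)) ≤ i} = Set.univ := by
      ext x; simp
    rw [this]; exact isClosed_univ
  · ext x
    simp only [Set.mem_setOf_eq]
    constructor
    · intro _; exact (Fin.fin_one_eq_zero i).symm
    · intro _; exact ⟨x, rfl⟩

/-- Every Noetherian scheme has a finite affine stratification. -/
theorem exists_hasAffineStratification_of_isNoetherian (X : Scheme.{u}) [IsNoetherian X] :
    ∃ n : ℕ, MoreMor.HasAffineStratification X n := by
  suffices H : ∀ T : Closeds X, ∀ (Y : Scheme.{u}) (j : Y ⟶ X), IsClosedImmersion j →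
      Set.range j = (T : Set X) → ∃ n : ℕ, MoreMor.HasAffineStratification Y n by
    exact H ⊤ X (𝟙 X) inferInstance (by simp)
  intro T
  induction T using WellFoundedLT.induction with
  | ind T ih =>
    intro Y j hj hT
    haveI : IsLocallyNoetherian Y := LocallyOfFiniteType.isLocallyNoetherian j
    haveI : CompactSpace Y := QuasiCompact.compactSpace_of_compactSpace j
    haveI : IsNoetherian Y := {}
    obtain ⟨U, hUaff, hUι, hU⟩ := AffStrat.exists_affine_dense_open Y
    by_cases hUtop : U = ⊤
    · haveI : IsAffine Y := by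
        have := hUaff
        rw [hUtop] at this
        haveI : IsAffine (⊤ : Y.Opens).toScheme := this
        exact IsAffine.of_isIso (Scheme.topIso Y).inv
      exact ⟨0, hasAffineStratification_of_isAffine Y⟩
    · let T0 : Closeds Y := ⟨(U : Set Y)ᶜ, U.isOpen.isClosed_compl⟩
      let I := Scheme.IdealSheafData.vanishingIdeal T0
      let ι' : I.subscheme ⟶ Y := I.subschemeι
      have hrange : Set.range ι' = (U : Set Y)ᶜ := by
        rw [Scheme.IdealSheafData.range_subschemeι,
          Scheme.IdealSheafData.coe_support_vanishingIdeal]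
        rfl
      let T' : Closeds X := ⟨j '' (U : Set Y)ᶜ, j.isClosedEmbedding.isClosedMap _ U.isOpen.isClosed_compl⟩
      have hlt : T' < T := by
        have hne : ∃ y : Y, y ∈ U := by
          by_contra hcon
          have hcon : ∀ y : Y, y ∉ U := fun y hy => hcon ⟨y, hy⟩
          apply hUtop
          rw [eq_top_iff]
          intro y _
          obtain ⟨η, hη, -⟩ := hU y
          exact (hcon η hη).elim
        obtain ⟨y, hy⟩ := hne
        refine lt_of_le_of_ne ?_ ?_
        · intro x hx
          obtain ⟨y', -, rfl⟩ := hx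
          show j y' ∈ (T : Set X)
          rw [← hT]; exact ⟨y', rfl⟩
        · intro heq
          have hjy : j y ∈ (T : Set X) := by rw [← hT]; exact ⟨y, rfl⟩
          rw [← heq] at hjy
          obtain ⟨y', hy', hyy'⟩ := hjy
          have := j.isEmbedding.injective hyy'
          exact hy' (this ▸ hy)
      obtain ⟨n, hn⟩ := ih T' hlt I.subscheme (ι' ≫ j) inferInstance (by
        rw [Scheme.Hom.comp_base, TopCat.coe_comp, Set.range_comp, hrange]; rfl)
      exact ⟨n + 1, step U hUaff hUι ι' hrange n hn⟩

/-- A scheme with a finite affine stratification is quasi-compact. -/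
theorem compactSpace_of_hasAffineStratification (X : Scheme.{u}) (n : ℕ)
    (h : MoreMor.HasAffineStratification X n) : CompactSpace X := by
  obtain ⟨s, hs, hstr⟩ := h
  choose Z ι hι1 hι2 hι3 hι4 using hstr
  rw [← isCompact_univ_iff]
  have : (Set.univ : Set X) = ⋃ i, Set.range (ι i) := by
    ext x
    simp only [Set.mem_univ, Set.mem_iUnion, true_iff]
    exact ⟨s x, by rw [hι4]; rfl⟩
  rw [this]
  exact isCompact_iUnion fun i => isCompact_range (ι i).continuous

/-- A scheme with a finite affine stratification is quasi-separated. -/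
theorem quasiSeparatedSpace_of_hasAffineStratification (X : Scheme.{u}) (n : ℕ)
    (h : MoreMor.HasAffineStratification X n) : QuasiSeparatedSpace X := by
  obtain ⟨s, hs, hstr⟩ := h
  choose Z ι hι1 hι2 hι3 hι4 using hstr
  rw [quasiSeparatedSpace_iff_forall_affineOpens]
  intro U V
  have : (U ∩ V : Set X) = ⋃ i, (ι i) '' (((ι i) ⁻¹ᵁ U.1 : (Z i).Opens) ∩ ((ι i) ⁻¹ᵁ V.1 : (Z i).Opens) : Set (Z i)) := by
    ext x
    simp only [Set.mem_inter_iff, Set.mem_iUnion, Set.mem_image]
    constructor
    · rintro ⟨hxU, hxV⟩
      have hx : x ∈ Set.range (ι (s x)) := by rw [hι4]; rfl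
      obtain ⟨z, hz⟩ := hx
      refine ⟨_, z, ⟨?_, ?_⟩, hz⟩
      · show (ι (s x)) z ∈ (U.1 : Set X)
        rw [hz]; exact hxU
      · show (ι (s x)) z ∈ (V.1 : Set X)
        rw [hz]; exact hxV
    · rintro ⟨i, z, ⟨hzU, hzV⟩, rfl⟩
      exact ⟨hzU, hzV⟩
  rw [this]
  refine isCompact_iUnion fun i => IsCompact.image ?_ (ι i).continuous
  haveI := hι2 i
  haveI := hι3 i
  have h1 : IsAffineOpen ((ι i) ⁻¹ᵁ U.1) := U.2.preimage (ι i)
  have h2 : IsAffineOpen ((ι i) ⁻¹ᵁ V.1) := V.2.preimage (ι i)
  exact (quasiSeparatedSpace_iff_forall_affineOpens.mp inferInstance) ⟨_, h1⟩ ⟨_, h2⟩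

end Groth.Agent.Lib.Helper12.AffStrat2
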