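import Mathlib
import Groth.Agent.Lib.Helper1.NilSurj

set_option autoImplicit false
set_option linter.style.haveILetI false
universe u
open TensorProduct CategoryTheory Limits AlgebraicGeometry

/-!
# Lifting properties from the closed fibre of a nilpotent thickening of an affine base (helper12)

`i : T' ⟶ T` is a surjective closed immersion of affine schemes whose ideal is nilpotent.
-/

namespace Groth.Agent.Lib.Helper12.ArtThick

open Groth.Agent.Lib.Helper1.NilSurj

section alg

/-- In a pushout square with `ψ` surjective, `ker π ≤ (ker ψ).map φ`. -/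
lemma ker_le_map_of_isPushout {B A B' P : CommRingCat.{u}} {φ : B ⟶ A} {ψ : B ⟶ B'}
    {π : A ⟶ P} {γ : B' ⟶ P} (h : IsPushout φ ψ π γ) (hψ : Function.Surjective ψ) :
    RingHom.ker π.hom ≤ (RingHom.ker ψ.hom).map φ.hom := by
  set J := RingHom.ker ψ.hom with hJ
  let q : A →+* A ⧸ J.map φ.hom := Ideal.Quotient.mk _
  have hle : RingHom.ker ψ.hom ≤ RingHom.ker (q.comp φ.hom) := by
    intro b hb
    rw [RingHom.mem_ker, RingHom.comp_apply, Ideal.Quotient.eq_zero_iff_mem]
    exact Ideal.mem_map_of_mem _ hb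
  let ρ : B' →+* A ⧸ J.map φ.hom := RingHom.liftOfSurjective ψ.hom hψ ⟨q.comp φ.hom, hle⟩
  have hρ : ρ.comp ψ.hom = q.comp φ.hom :=
    RingHom.liftOfRightInverse_comp _ _ _ _
  let d : P ⟶ CommRingCat.of (A ⧸ J.map φ.hom) :=
    h.desc (CommRingCat.ofHom q) (CommRingCat.ofHom ρ) (by
      ext x
      exact (RingHom.congr_fun hρ x).symm)
  have hd : π ≫ d = CommRingCat.ofHom q := h.inl_desc _ _ _
  intro a ha
  have h1 : q a = 0 := by
    have h2 := congrArg (fun f ↦ f.hom a) hd
    have h3 : d.hom (π.hom a) = q a := h2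
    rw [← h3, (RingHom.mem_ker).mp ha, map_zero]
  exact Ideal.Quotient.eq_zero_iff_mem.mp h1

lemma isNilpotent_of_le_map {B A : Type u} [CommRing B] [CommRing A] (φ : B →+* A) (J : Ideal B)
    (hJ : IsNilpotent J) (K : Ideal A) (hK : K ≤ J.map φ) : IsNilpotent K := by
  obtain ⟨n, hn⟩ := hJ
  refine ⟨n, ?_⟩
  rw [Ideal.zero_eq_bot, eq_bot_iff]
  calc K ^ n ≤ (J.map φ) ^ n := Ideal.pow_right_mono hK n
    _ = (J ^ n).map φ := (Ideal.map_pow φ J n).symm
    _ = ⊥ := by rw [hn, Ideal.zero_eq_bot, Ideal.map_bot]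

lemma surjective_of_nilp {B A : Type u} [CommRing B] [CommRing A] (φ : B →+* A) (J : Ideal B)
    (hJ : IsNilpotent J) (h : ∀ a : A, ∃ b : B, a - φ b ∈ J.map φ) : Function.Surjective φ := by
  letI : Algebra B A := φ.toAlgebra
  have hN : LinearMap.range (Algebra.linearMap B A) = ⊤ := by
    apply eq_top_of_top_le_sup_smul_of_isNilpotent _ J hJ
    intro a _
    obtain ⟨b, hb⟩ := h a
    have hab : a = φ b + (a - φ b) := by ring
    rw [hab]
    refine Submodule.add_mem_sup ⟨b, rfl⟩ ?_
    rw [Ideal.smul_top_eq_map]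
    exact hb
  intro a
  have ha : a ∈ LinearMap.range (Algebra.linearMap B A) := hN ▸ Submodule.mem_top
  obtain ⟨b, hb⟩ := ha
  exact ⟨b, hb⟩

lemma finiteType_of_nilp {B A P : Type u} [CommRing B] [CommRing A] [CommRing P] (φ : B →+* A)
    (π : A →+* P) (hπ : Function.Surjective π) (J : Ideal B) (hJ : IsNilpotent J)
    (hker : RingHom.ker π ≤ J.map φ) (hft : (π.comp φ).FiniteType) : φ.FiniteType := by
  classical
  letI : Algebra B A := φ.toAlgebra
  letI : Algebra B P := (π.comp φ).toAlgebra
  let πa : A →ₐ[B] P := { π with commutes' := fun b => rfl }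
  have hft' : Algebra.FiniteType B P := hft
  obtain ⟨s, hs⟩ := hft'.out
  let t : Finset A := s.image (Function.surjInv hπ)
  have hts : πa '' (t : Set A) = (s : Set P) := by
    ext x
    constructor
    · rintro ⟨y, hy, rfl⟩
      have hy' : y ∈ s.image (Function.surjInv hπ) := hy
      obtain ⟨z, hz, rfl⟩ := Finset.mem_image.mp hy'
      have : πa (Function.surjInv hπ z) = z := Function.surjInv_eq hπ z
      rw [this]
      exact hz
    · intro hx
      refine ⟨Function.surjInv hπ x, ?_, Function.surjInv_eq hπ x⟩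
      exact Finset.mem_coe.mpr (Finset.mem_image_of_mem _ hx)
  have hmap : (Algebra.adjoin B (t : Set A)).map πa = ⊤ := by
    rw [AlgHom.map_adjoin, hts, hs]
  have hN : Subalgebra.toSubmodule (Algebra.adjoin B (t : Set A)) = ⊤ := by
    apply eq_top_of_top_le_sup_smul_of_isNilpotent _ J hJ
    intro a _
    have h1 : πa a ∈ (Algebra.adjoin B (t : Set A)).map πa := by rw [hmap]; trivial
    obtain ⟨a', ha', haa'⟩ := h1
    have hk : a - a' ∈ RingHom.ker π := by
      rw [RingHom.mem_ker, map_sub, sub_eq_zero]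
      exact haa'.symm
    have hab : a = a' + (a - a') := by ring
    rw [hab]
    refine Submodule.add_mem_sup ha' ?_
    rw [Ideal.smul_top_eq_map]
    exact hker hk
  refine ⟨⟨t, ?_⟩⟩
  exact Subalgebra.toSubmodule_injective (hN.trans Algebra.top_toSubmodule.symm)

end alg

section scheme

variable {T T' : Scheme.{u}} (i : T' ⟶ T)

lemma isNilpotent_ker_fst [IsAffine T] [IsAffine T'] [IsClosedImmersion i]
    (hnil : IsNilpotent (RingHom.ker i.appTop.hom))
    {W P : Scheme.{u}} [IsAffine W] {w : W ⟶ T} {fst : P ⟶ W} {snd : P ⟶ T'}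
    (h : IsPullback fst snd w i) :
    RingHom.ker fst.appTop.hom ≤ (RingHom.ker i.appTop.hom).map w.appTop.hom ∧
      IsNilpotent (RingHom.ker fst.appTop.hom) := by
  have hpo := isPushout_appTop_of_isPullback h
  have hψ : Function.Surjective i.appTop := (IsClosedImmersion.isAffine_surjective_of_isAffine i).2
  have h1 := ker_le_map_of_isPushout hpo hψ
  exact ⟨h1, isNilpotent_of_le_map _ _ hnil _ h1⟩

theorem locallyOfFiniteType_of_pullback [IsAffine T] [IsAffine T'] [IsClosedImmersion i]
    (hnil : IsNilpotent (RingHom.ker i.appTop.hom)) {X : Scheme.{u}} (p : X ⟶ T)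
    [LocallyOfFiniteType (pullback.snd p i)] : LocallyOfFiniteType p := by
  rw [IsZariskiLocalAtSource.iff_of_openCover (P := @LocallyOfFiniteType) X.affineCover]
  intro j
  have h1 : LocallyOfFiniteType (pullback.snd (X.affineCover.f j ≫ p) i) := by
    have h2 : pullback.snd (X.affineCover.f j ≫ p) i =
        pullback.map (X.affineCover.f j ≫ p) i p i (X.affineCover.f j) (𝟙 _) (𝟙 _)
          (by simp) (by simp) ≫ pullback.snd p i :=
      ((pullback.lift_snd _ _ _).trans (Category.comp_id _)).symm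
    rw [h2]
    infer_instance
  have hpo := isPushout_appTop_of_isPullback (IsPullback.of_hasPullback (X.affineCover.f j ≫ p) i)
  have hψ : Function.Surjective i.appTop := (IsClosedImmersion.isAffine_surjective_of_isAffine i).2
  have hπ : Function.Surjective (pullback.fst (X.affineCover.f j ≫ p) i).appTop :=
    (IsClosedImmersion.isAffine_surjective_of_isAffine _).2
  have hft2 : (pullback.snd (X.affineCover.f j ≫ p) i).appTop.hom.FiniteType :=
    (HasRingHomProperty.iff_of_isAffine (P := @LocallyOfFiniteType)).mp h1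
  rw [HasRingHomProperty.iff_of_isAffine (P := @LocallyOfFiniteType)]
  refine finiteType_of_nilp (X.affineCover.f j ≫ p).appTop.hom
    (pullback.fst (X.affineCover.f j ≫ p) i).appTop.hom hπ (RingHom.ker i.appTop.hom) hnil
    (ker_le_map_of_isPushout hpo hψ) ?_
  have hw : (pullback.fst (X.affineCover.f j ≫ p) i).appTop.hom.comp
      (X.affineCover.f j ≫ p).appTop.hom =
      (pullback.snd (X.affineCover.f j ≫ p) i).appTop.hom.comp i.appTop.hom :=
    congrArg CommRingCat.Hom.hom hpo.w
  rw [hw]
  exact hft2.comp (RingHom.FiniteType.of_surjective _ hψ)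

theorem quasiCompact_of_pullback [IsAffine T] [IsAffine T'] [Surjective i] {X : Scheme.{u}}
    (p : X ⟶ T) [QuasiCompact (pullback.snd p i)] : QuasiCompact p := by
  haveI : CompactSpace ↥(pullback p i) :=
    (HasAffineProperty.iff_of_isAffine (P := @QuasiCompact) (f := pullback.snd p i)).mp
      inferInstance
  rw [HasAffineProperty.iff_of_isAffine (P := @QuasiCompact)]
  exact Function.Surjective.compactSpace (pullback.fst p i).continuous
    (pullback.fst p i).surjective

lemma isClosedImmersion_of_isAffine_nilp {X S S' : Scheme.{u}} [IsAffine S] (f : X ⟶ S)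
    (j : S' ⟶ S) [IsClosedImmersion j] (hnil : IsNilpotent (RingHom.ker j.appTop.hom))
    [IsAffineHom f] [IsClosedImmersion (pullback.snd f j)] : IsClosedImmersion f := by
  have : IsAffine X := isAffine_of_isAffineHom f
  have : IsAffine S' := isAffine_of_isAffineHom j
  refine IsClosedImmersion.of_surjective_of_isAffine f ?_
  have hpo := isPushout_appTop_of_isPullback (IsPullback.of_hasPullback f j)
  have hψ : Function.Surjective j.appTop := (IsClosedImmersion.isAffine_surjective_of_isAffine j).2
  have hγ : Function.Surjective (pullback.snd f j).appTop :=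
    (IsClosedImmersion.isAffine_surjective_of_isAffine _).2
  exact surjective_of_nilp f.appTop.hom (RingHom.ker j.appTop.hom) hnil
    (fun a ↦ exists_sub_mem_map_of_isPushout hpo hψ hγ a)

theorem isClosedImmersion_of_isPullback [IsAffine T] [IsAffine T'] [IsClosedImmersion i]
    [Surjective i] (hnil : IsNilpotent (RingHom.ker i.appTop.hom))
    {X Y X' Y' : Scheme.{u}} (f : X ⟶ Y) (p : Y ⟶ T) {iY : Y' ⟶ Y} {pY : Y' ⟶ T'}
    (hY : IsPullback iY pY p i) {iX : X' ⟶ X} {f' : X' ⟶ Y'} (hX : IsPullback iX f' f iY)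
    [IsClosedImmersion f'] : IsClosedImmersion f := by
  haveI : IsClosedImmersion iY :=
    MorphismProperty.of_isPullback (P := @IsClosedImmersion) hY.flip inferInstance
  haveI : Surjective iY :=
    MorphismProperty.of_isPullback (P := @Surjective) hY.flip inferInstance
  haveI : IsClosedImmersion (pullback.snd f iY) := by
    rw [← hX.isoPullback_inv_snd]
    infer_instance
  have hce := isClosedEmbedding_of_pullback f iY
  have : IsAffineHom f := isAffineHom_of_isInducing f hce.isInducing hce.isClosed_range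
  rw [IsZariskiLocalAtTarget.iff_of_openCover (P := @IsClosedImmersion) Y.affineCover]
  intro k
  have h3 : IsClosedImmersion (pullback.snd (pullback.snd f (Y.affineCover.f k))
      (pullback.snd iY (Y.affineCover.f k))) := by
    rw [← pullbackLeftPullbackSndIso_hom_snd f (Y.affineCover.f k)
      (pullback.snd iY (Y.affineCover.f k))]
    have := isClosedImmersion_pullback_snd_of_eq f iY (pullback.fst iY (Y.affineCover.f k))
      (pullback.snd iY (Y.affineCover.f k) ≫ Y.affineCover.f k) pullback.condition.symm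
    infer_instance
  have hpb : IsPullback (pullback.snd iY (Y.affineCover.f k))
      (pullback.fst iY (Y.affineCover.f k) ≫ pY) (Y.affineCover.f k ≫ p) i :=
    (IsPullback.of_hasPullback iY (Y.affineCover.f k)).flip.paste_vert hY
  have hnil' := (isNilpotent_ker_fst i hnil hpb).2
  exact isClosedImmersion_of_isAffine_nilp (pullback.snd f (Y.affineCover.f k))
    (pullback.snd iY (Y.affineCover.f k)) hnil'

theorem isImmersion_of_isPullback [IsAffine T] [IsAffine T'] [IsClosedImmersion i]
    [Surjective i] (hnil : IsNilpotent (RingHom.ker i.appTop.hom))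
    {X Y X' Y' : Scheme.{u}} (f : X ⟶ Y) (p : Y ⟶ T) {iY : Y' ⟶ Y} {pY : Y' ⟶ T'}
    (hY : IsPullback iY pY p i) {iX : X' ⟶ X} {f' : X' ⟶ Y'} (hX : IsPullback iX f' f iY)
    [IsImmersion f'] : IsImmersion f := by
  haveI : IsClosedImmersion iY :=
    MorphismProperty.of_isPullback (P := @IsClosedImmersion) hY.flip inferInstance
  haveI : Surjective iY :=
    MorphismProperty.of_isPullback (P := @Surjective) hY.flip inferInstance
  haveI : Surjective iX :=
    MorphismProperty.of_isPullback (P := @Surjective) hX.flip inferInstance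
  have hpt : ∀ x' : X', iY (f' x') = f (iX x') := by
    intro x'
    have hc := congrArg (fun φ : X' ⟶ Y => φ x') hX.w
    exact ((Scheme.Hom.comp_apply _ _ _).symm.trans hc.symm).trans (Scheme.Hom.comp_apply _ _ _)
  have hrange : Set.range f = iY '' Set.range f' := by
    ext y
    constructor
    · rintro ⟨x, rfl⟩
      obtain ⟨x', rfl⟩ := iX.surjective x
      exact ⟨f' x', ⟨x', rfl⟩, hpt x'⟩
    · rintro ⟨_, ⟨x', rfl⟩, rfl⟩
      exact ⟨iX x', (hpt x').symm⟩
  have hlc : IsLocallyClosed (Set.range f) := by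
    rw [hrange]
    exact f'.isLocallyClosed_range.image iY.isClosedEmbedding.isInducing
      iY.isClosedEmbedding.isClosed_range.isLocallyClosed
  obtain ⟨V, hV⟩ : ∃ V : Y.Opens, (V : Set Y) = coborder (Set.range f) :=
    ⟨⟨coborder (Set.range f), hlc.isOpen_coborder⟩, rfl⟩
  have hfV : Set.range f ⊆ Set.range V.ι := by
    rw [Scheme.Opens.range_ι, hV]
    exact subset_coborder
  have hu' : IsOpenImmersion.lift V.ι f hfV ≫ V.ι = f := IsOpenImmersion.lift_fac _ _ _
  have hYV : IsPullback (iY ∣_ V) ((iY ⁻¹ᵁ V).ι ≫ pY) (V.ι ≫ p) i :=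
    (isPullback_morphismRestrict iY V).paste_vert hY
  have hf'V : Set.range f' ⊆ Set.range (iY ⁻¹ᵁ V).ι := by
    rw [Scheme.Opens.range_ι]
    rintro _ ⟨x', rfl⟩
    show iY (f' x') ∈ (V : Set Y)
    rw [hV, hpt]
    exact subset_coborder ⟨iX x', rfl⟩
  have hf'V' : IsOpenImmersion.lift (iY ⁻¹ᵁ V).ι f' hf'V ≫ (iY ⁻¹ᵁ V).ι = f' :=
    IsOpenImmersion.lift_fac _ _ _
  have hcomm : IsOpenImmersion.lift (iY ⁻¹ᵁ V).ι f' hf'V ≫ (iY ∣_ V) =
      iX ≫ IsOpenImmersion.lift V.ι f hfV := by
    rw [← cancel_mono V.ι, Category.assoc, Category.assoc, hu', morphismRestrict_ι,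
      ← Category.assoc, hf'V', hX.w]
  have hXV : IsPullback (IsOpenImmersion.lift (iY ⁻¹ᵁ V).ι f' hf'V) iX (iY ∣_ V)
      (IsOpenImmersion.lift V.ι f hfV) := by
    refine IsPullback.of_right ?_ hcomm (isPullback_morphismRestrict iY V).flip
    rw [hf'V', hu']
    exact hX.flip
  haveI : IsImmersion (IsOpenImmersion.lift (iY ⁻¹ᵁ V).ι f' hf'V ≫ (iY ⁻¹ᵁ V).ι) := by
    rw [hf'V']
    infer_instance
  haveI : IsImmersion (IsOpenImmersion.lift (iY ⁻¹ᵁ V).ι f' hf'V) :=
    IsImmersion.of_comp _ (iY ⁻¹ᵁ V).ι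
  have hcl : IsClosed (V.ι ⁻¹' Set.range f) := by
    have h1 : V.ι ⁻¹' Set.range f = V.ι ⁻¹' closure (Set.range f) := by
      ext y
      constructor
      · intro hy
        exact subset_closure hy
      · intro hy
        have hyV : V.ι y ∈ Set.range V.ι := ⟨y, rfl⟩
        rw [Scheme.Opens.range_ι, hV] at hyV
        have h2 : V.ι y ∈ coborder (Set.range f) ∩ closure (Set.range f) := ⟨hyV, hy⟩
        rwa [coborder_inter_closure] at h2
    rw [h1]
    exact isClosed_closure.preimage V.ι.continuous
  have hptV : ∀ y : ↥(iY ⁻¹ᵁ V).toScheme, V.ι ((iY ∣_ V) y) = iY ((iY ⁻¹ᵁ V).ι y) := by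
    intro y
    have hc := congrArg (fun φ : (iY ⁻¹ᵁ V).toScheme ⟶ Y => φ y) (morphismRestrict_ι iY V)
    exact ((Scheme.Hom.comp_apply _ _ _).symm.trans hc).trans (Scheme.Hom.comp_apply _ _ _)
  have hptl : ∀ x' : X', (iY ⁻¹ᵁ V).ι ((IsOpenImmersion.lift (iY ⁻¹ᵁ V).ι f' hf'V) x') = f' x' := by
    intro x'
    have hc := congrArg (fun φ : X' ⟶ Y' => φ x') hf'V'
    exact (Scheme.Hom.comp_apply _ _ _).symm.trans hc
  haveI : IsClosedImmersion (IsOpenImmersion.lift (iY ⁻¹ᵁ V).ι f' hf'V) := by
    refine IsClosedImmersion.of_isPreimmersion _ ?_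
    have hr : Set.range (IsOpenImmersion.lift (iY ⁻¹ᵁ V).ι f' hf'V) =
        (iY ∣_ V) ⁻¹' (V.ι ⁻¹' Set.range f) := by
      ext y
      constructor
      · rintro ⟨x', rfl⟩
        show V.ι ((iY ∣_ V) _) ∈ Set.range f
        rw [hptV, hptl, hpt]
        exact ⟨iX x', rfl⟩
      · intro hy
        have hy' : V.ι ((iY ∣_ V) y) ∈ Set.range f := hy
        rw [hptV, hrange] at hy'
        obtain ⟨_, ⟨x', rfl⟩, hx'⟩ := hy'
        have h3 : f' x' = (iY ⁻¹ᵁ V).ι y := iY.isClosedEmbedding.injective hx'
        refine ⟨x', (iY ⁻¹ᵁ V).ι.isOpenEmbedding.injective ?_⟩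
        rw [hptl, h3]
    rw [hr]
    exact hcl.preimage (iY ∣_ V).continuous
  haveI : IsClosedImmersion (IsOpenImmersion.lift V.ι f hfV) :=
    isClosedImmersion_of_isPullback i hnil _ (V.ι ≫ p) hYV hXV.flip
  rw [← hu']
  infer_instance

theorem isPullback_overPullback {S S' : Scheme.{u}} (j : S' ⟶ S) {X Y : Over S} (u : X ⟶ Y) :
    IsPullback (pullback.fst X.hom j) ((Over.pullback j).map u).left u.left
      (pullback.fst Y.hom j) := by
  have hfst : ((Over.pullback j).map u).left ≫ pullback.fst Y.hom j =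
      pullback.fst X.hom j ≫ u.left := by
    simp [Over.pullback]
    exact pullback.lift_fst _ _ _
  have hsnd : ((Over.pullback j).map u).left ≫ pullback.snd Y.hom j = pullback.snd X.hom j := by
    simp [Over.pullback]
    exact pullback.lift_snd _ _ _
  refine (IsPullback.of_right ?_ hfst (IsPullback.of_hasPullback Y.hom j).flip).flip
  rw [hsnd, Over.w u]
  exact (IsPullback.of_hasPullback X.hom j).flip

end scheme

section final

variable (A : Type u) [CommRing A] [IsArtinianRing A] [IsLocalRing A]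

instance : IsClosedImmersion (Spec.map (CommRingCat.ofHom (IsLocalRing.residue A))) :=
  IsClosedImmersion.spec_of_surjective _ Ideal.Quotient.mk_surjective

instance : Surjective (Spec.map (CommRingCat.ofHom (IsLocalRing.residue A))) := by
  refine ⟨fun x => ?_⟩
  haveI : x.asIdeal.IsMaximal := IsArtinianRing.isMaximal_of_isPrime x.asIdeal
  have hx2 : x.asIdeal = IsLocalRing.maximalIdeal A := IsLocalRing.eq_maximalIdeal inferInstance
  refine ⟨IsLocalRing.closedPoint _, ?_⟩
  have h1 : (Spec.map (CommRingCat.ofHom (IsLocalRing.residue A)))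
      (IsLocalRing.closedPoint (IsLocalRing.ResidueField A)) = IsLocalRing.closedPoint A :=
    IsLocalRing.PrimeSpectrum.comap_residue A _
  rw [h1]
  exact PrimeSpectrum.ext hx2.symm

theorem isNilpotent_ker_residue :
    IsNilpotent (RingHom.ker
      (Spec.map (CommRingCat.ofHom (IsLocalRing.residue A))).appTop.hom) := by
  have hm : IsNilpotent (IsLocalRing.maximalIdeal A) := by
    have h := IsArtinianRing.isNilpotent_jacobson_bot (R := A)
    rwa [IsLocalRing.jacobson_eq_maximalIdeal ⊥ bot_ne_top] at h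
  obtain ⟨n, hn⟩ := hm
  let e : Γ(Spec (CommRingCat.of A), ⊤) →+* A := (Scheme.ΓSpecIso (CommRingCat.of A)).hom.hom
  have he : Function.Injective e :=
    (ConcreteCategory.bijective_of_isIso (Scheme.ΓSpecIso (CommRingCat.of A)).hom).injective
  have hle : RingHom.ker (Spec.map (CommRingCat.ofHom (IsLocalRing.residue A))).appTop.hom ≤
      Ideal.comap e (IsLocalRing.maximalIdeal A) := by
    intro x hx
    have hnat := Scheme.ΓSpecIso_naturality (CommRingCat.ofHom (IsLocalRing.residue A))
    have h2 := congrArg (fun φ => φ.hom x) hnat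
    have h3 : (Scheme.ΓSpecIso _).hom.hom
        ((Spec.map (CommRingCat.ofHom (IsLocalRing.residue A))).appTop.hom x) =
        IsLocalRing.residue A (e x) := h2
    rw [(RingHom.mem_ker).mp hx, map_zero] at h3
    show e x ∈ IsLocalRing.maximalIdeal A
    rw [← IsLocalRing.ker_residue, RingHom.mem_ker]  
    exact h3.symm
  refine ⟨n, ?_⟩
  rw [Ideal.zero_eq_bot, eq_bot_iff]
  intro x hx
  have h4 : x ∈ Ideal.comap e (IsLocalRing.maximalIdeal A ^ n) :=
    Ideal.le_comap_pow e n (Ideal.pow_right_mono hle n hx)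
  rw [hn, Ideal.zero_eq_bot, Ideal.mem_comap, Ideal.mem_bot] at h4
  exact (Ideal.mem_bot).mpr (he (h4.trans (map_zero e).symm))

theorem main (X Y : Over (Spec (CommRingCat.of A))) (u : X ⟶ Y) :
    (LocallyOfFiniteType (pullback.snd X.hom
        (Spec.map (CommRingCat.ofHom (IsLocalRing.residue A)))) → LocallyOfFiniteType X.hom) ∧
    (LocallyOfFiniteType (pullback.snd X.hom
        (Spec.map (CommRingCat.ofHom (IsLocalRing.residue A)))) →
      QuasiCompact (pullback.snd X.hom (Spec.map (CommRingCat.ofHom (IsLocalRing.residue A)))) →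
        QuasiCompact X.hom) ∧
    (IsImmersion ((Over.pullback (Spec.map (CommRingCat.ofHom (IsLocalRing.residue A)))).map u).left →
      IsImmersion u.left) ∧
    (IsClosedImmersion
        ((Over.pullback (Spec.map (CommRingCat.ofHom (IsLocalRing.residue A)))).map u).left →
      IsClosedImmersion u.left) := by
  have hnil := isNilpotent_ker_residue A
  refine ⟨fun h => ?_, fun _ h => ?_, fun h => ?_, fun h => ?_⟩
  · haveI := h
    exact locallyOfFiniteType_of_pullback _ hnil X.hom
  · haveI := h
    exact quasiCompact_of_pullback (Spec.map (CommRingCat.ofHom (IsLocalRing.residue A))) X.hom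
  · haveI := h
    exact isImmersion_of_isPullback _ hnil u.left Y.hom (IsPullback.of_hasPullback Y.hom _)
      (isPullback_overPullback _ u)
  · haveI := h
    exact isClosedImmersion_of_isPullback _ hnil u.left Y.hom (IsPullback.of_hasPullback Y.hom _)
      (isPullback_overPullback _ u)

end final

end Groth.Agent.Lib.Helper12.ArtThick
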