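import Mathlib
import Groth.Prelude.Def_Found

/-!
# Helper library (helper12): valuation rings realizing a specialization in a scheme
-/

set_option autoImplicit false
universe u v
open AlgebraicGeometry CategoryTheory CategoryTheory.Limits IsLocalRing

namespace Groth.Agent.Lib.Helper12.ValBase

/-- The residue field map of a preimmersion is bijective. -/
theorem bijective_residueFieldMap_of_isPreimmersion {U X : Scheme.{u}} (j : U ⟶ X)
    [IsPreimmersion j] (z : U) : Function.Bijective (j.residueFieldMap z).hom := by
  refine ⟨RingHom.injective _, ?_⟩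
  exact Ideal.Quotient.lift_surjective_of_surjective _ _
    (Ideal.Quotient.mk_surjective.comp (j.stalkMap_surjective z))

/-- Given a specialization `s' ⤳ s` in a scheme there is a valuation ring `A` and a morphism
`Spec A ⟶ S` sending the closed point to `s` and a generic point `η` to `s'`, inducing an
isomorphism of residue fields at `η`. -/
theorem exists_valuationRing_spec (S : Scheme.{u}) (s s' : S) (h : s' ⤳ s) :
    ∃ (A : Type u) (_ : CommRing A) (_ : IsDomain A) (_ : ValuationRing A)
      (φ : Spec (CommRingCat.of A) ⟶ S) (η : Spec (CommRingCat.of A)),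
      φ (closedPoint A) = s ∧ φ η = s' ∧ (∀ t : Spec (CommRingCat.of A), η ⤳ t) ∧
        Function.Bijective (φ.residueFieldMap η).hom := by
  let stalk_to_res : S.presheaf.stalk s ⟶ S.residueField s' :=
    S.presheaf.stalkSpecializes h ≫ S.residue s'
  obtain ⟨A, hA, hA_local⟩ := exists_factor_valuationRing stalk_to_res.hom
  let ψ : S.presheaf.stalk s ⟶ CommRingCat.of A :=
    CommRingCat.ofHom (stalk_to_res.hom.codRestrict _ hA)
  let ι : CommRingCat.of A ⟶ S.residueField s' :=
    CommRingCat.ofHom (algebraMap A (S.residueField s'))
  let φ : Spec (CommRingCat.of A) ⟶ S := Spec.map ψ ≫ S.fromSpecStalk s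
  have w : S.fromSpecResidueField s' = Spec.map ι ≫ φ := by
    rw [Scheme.fromSpecResidueField, ← Scheme.SpecMap_stalkSpecializes_fromSpecStalk h]
    simp only [φ]
    simp_rw [← Spec.map_comp_assoc]
    rfl
  let pt : Spec (S.residueField s') := closedPoint (S.residueField s')
  let η : Spec (CommRingCat.of A) := Spec.map ι pt
  refine ⟨A, inferInstance, inferInstance, inferInstance, φ, η, ?_, ?_, ?_, ?_⟩
  · simp only [φ, Scheme.Hom.comp_base, TopCat.coe_comp, Function.comp_apply]
    have : Spec.map ψ (closedPoint A) = closedPoint (S.presheaf.stalk s) :=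
      comap_closedPoint (S := A) (stalk_to_res.hom.codRestrict A.toSubring hA)
    rw [this, S.fromSpecStalk_closedPoint]
  · have h1 : φ η = (Spec.map ι ≫ φ) pt := rfl
    rw [h1, ← w, Scheme.fromSpecResidueField_apply]
  · intro t
    refine (PrimeSpectrum.le_iff_specializes (R := A) η t).mp ?_
    intro a ha
    have ha' : a ∈ (PrimeSpectrum.comap ι.hom pt).asIdeal := ha
    rw [PrimeSpectrum.comap_asIdeal, Ideal.mem_comap] at ha'
    have h2 : ι.hom a = 0 := by
      have h3 : (pt.asIdeal : Ideal (S.residueField s')) = ⊥ := by
        have := (closedPoint (S.residueField s')).asIdeal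
        exact (Ideal.eq_bot_of_prime _)
      rw [h3] at ha'
      exact ha'
    have h4 : a = 0 := by
      have hinj : Function.Injective (algebraMap A (S.residueField s')) :=
        Subtype.val_injective
      exact hinj (h2.trans (map_zero _).symm)
    rw [h4]
    exact zero_mem _
  · -- bijectivity of the residue field map at the generic point
    have hb1 : Function.Bijective ((S.fromSpecResidueField s').residueFieldMap pt).hom :=
      bijective_residueFieldMap_of_isPreimmersion _ pt
    have hb2 : Function.Bijective ((Spec.map ι ≫ φ).residueFieldMap pt).hom := by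
      have key : ∀ (m₁ m₂ : Spec (S.residueField s') ⟶ S) (e : m₁ = m₂),
          Function.Bijective (m₁.residueFieldMap pt).hom →
          Function.Bijective (m₂.residueFieldMap pt).hom := by
        intro m₁ m₂ e hm
        subst e
        exact hm
      exact key _ _ w hb1
    rw [Scheme.residueFieldMap_comp] at hb2
    have hb3 : Function.Bijective ((Spec.map ι).residueFieldMap pt).hom := by
      refine ⟨RingHom.injective _, ?_⟩
      intro c
      obtain ⟨d, hd⟩ := hb2.2 c
      exact ⟨(φ.residueFieldMap ((Spec.map ι) pt)).hom d, hd⟩
    refine ⟨RingHom.injective _, ?_⟩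
    intro c
    obtain ⟨d, hd⟩ := hb2.2 (((Spec.map ι).residueFieldMap pt).hom c)
    refine ⟨d, hb3.1 ?_⟩
    exact hd

end Groth.Agent.Lib.Helper12.ValBase
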