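import Mathlib
import Groth.Agent.Lib.Helper12.GenericPts
import Groth.Agent.Lib.Helper12.ValBase

/-!
# Fibres of a base change over a point with trivial residue field extension
-/

universe u

open CategoryTheory Limits AlgebraicGeometry TopologicalSpace Opposite Topology

set_option backward.isDefEq.respectTransparency false
set_option linter.style.haveILetI false

namespace Groth.Agent.Lib.Helper12.BiratBC

/-- In a commutative square of schemes, bijectivity of residue field maps along three sides gives
it along the fourth. -/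
lemma bijective_residueFieldMap_of_comm {P A C Q : Scheme.{u}} {a : P ⟶ A} {b : A ⟶ Q}
    {c : P ⟶ C} {d : C ⟶ Q} (h : a ≫ b = c ≫ d) (z : P)
    (ha : Function.Bijective (a.residueFieldMap z).hom)
    (hb : Function.Bijective (b.residueFieldMap (a z)).hom)
    (hc : Function.Bijective (c.residueFieldMap z).hom) :
    Function.Bijective (d.residueFieldMap (c z)).hom := by
  have h1 : Function.Bijective ((a ≫ b).residueFieldMap z).hom := by
    rw [Scheme.residueFieldMap_comp]
    exact ha.comp hb
  have h2 : Function.Bijective ((c ≫ d).residueFieldMap z).hom := by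
    rw [Scheme.Hom.residueFieldMap_congr h z] at h1
    have hiso : Function.Bijective (Q.residueFieldCongr
        (show (a ≫ b) z = (c ≫ d) z by rw [h])).hom.hom :=
      (ConcreteCategory.isIso_iff_bijective _).mp inferInstance
    have h3 : ((Q.residueFieldCongr (show (a ≫ b) z = (c ≫ d) z by rw [h])).hom ≫
        (c ≫ d).residueFieldMap z).hom =
        ((c ≫ d).residueFieldMap z).hom.comp (Q.residueFieldCongr
          (show (a ≫ b) z = (c ≫ d) z by rw [h])).hom.hom := rfl
    rw [h3] at h1
    exact (Function.Bijective.of_comp_iff _ hiso).mp h1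
  rw [Scheme.residueFieldMap_comp] at h2
  have h4 : (d.residueFieldMap (c z) ≫ c.residueFieldMap z).hom =
      (c.residueFieldMap z).hom.comp (d.residueFieldMap (c z)).hom := rfl
  rw [h4] at h2
  exact (Function.Bijective.of_comp_iff' hc _).mp h2

variable {X Y X' Y' : Scheme.{u}} {f : X ⟶ Y} {g : Y' ⟶ Y} {f' : X' ⟶ Y'} {g' : X' ⟶ X}

/-- Over a point `x` with trivial residue field extension, the fibre of `g'` over `x` is
identified with the fibre of `g` over `f x`. -/
lemma exists_fiber_iso (sq : IsPullback g' f' f g) (x : X)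
    (hbij : Function.Bijective (f.residueFieldMap x).hom) :
    ∃ e : g'.fiber x ≅ g.fiber (f x), e.hom ≫ g.fiberι (f x) = g'.fiberι x ≫ f' := by
  let A : g'.fiber x ⟶ g.fiber (f x) :=
    pullback.map g' (X.fromSpecResidueField x) g (Y.fromSpecResidueField (f x)) f'
      (Spec.map (f.residueFieldMap x)) f sq.flip.w.symm (by simp)
  have hP : IsPullback A (g'.fiberToSpecResidueField x) (g.fiberToSpecResidueField (f x))
      (Spec.map (f.residueFieldMap x)) :=
    isPullback_fiberToSpecResidueField_of_isPullback sq.flip x
  haveI : IsIso (f.residueFieldMap x) := (ConcreteCategory.isIso_iff_bijective _).mpr hbij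
  haveI : IsIso (Spec.map (f.residueFieldMap x)) := inferInstance
  haveI hAiso : IsIso A :=
    MorphismProperty.of_isPullback (P := MorphismProperty.isomorphisms Scheme.{u}) hP.flip
      (MorphismProperty.isomorphisms.infer_property _)
  exact ⟨asIso A, pullback.lift_fst _ _ _⟩

/-- Injectivity of `f'` on the fibre of `g'` over `x`. -/
lemma eq_of_apply_eq (sq : IsPullback g' f' f g) (x : X)
    (hbij : Function.Bijective (f.residueFieldMap x).hom) {a b : X'} (ha : g' a = x)
    (hb : g' b = x) (hab : f' a = f' b) : a = b := by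
  obtain ⟨e, he⟩ := exists_fiber_iso sq x hbij
  have hra : a ∈ Set.range (g'.fiberι x) := by rw [Scheme.Hom.range_fiberι]; exact ha
  have hrb : b ∈ Set.range (g'.fiberι x) := by rw [Scheme.Hom.range_fiberι]; exact hb
  obtain ⟨za, rfl⟩ := hra
  obtain ⟨zb, rfl⟩ := hrb
  have h1 : ∀ z : g'.fiber x, f' (g'.fiberι x z) = g.fiberι (f x) (e.hom z) := by
    intro z
    have := congr($he z)
    simp only [Scheme.Hom.comp_apply] at this
    exact this.symm
  rw [h1, h1] at hab
  have h2 : e.hom za = e.hom zb := (g.fiberι (f x)).isEmbedding.injective hab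
  have h3 : za = zb := e.hom.homeomorph.injective h2
  rw [h3]

/-- Generizations inside the fibre of `g` lift along `f'`. -/
lemma exists_specializes (sq : IsPullback g' f' f g) (x : X)
    (hbij : Function.Bijective (f.residueFieldMap x).hom) {a : X'} (ha : g' a = x)
    {y'' : Y'} (hy'' : g y'' = f x) (hs : y'' ⤳ f' a) :
    ∃ b : X', b ⤳ a ∧ f' b = y'' := by
  obtain ⟨e, he⟩ := exists_fiber_iso sq x hbij
  have hra : a ∈ Set.range (g'.fiberι x) := by rw [Scheme.Hom.range_fiberι]; exact ha
  obtain ⟨za, rfl⟩ := hra
  have h1 : ∀ z : g'.fiber x, f' (g'.fiberι x z) = g.fiberι (f x) (e.hom z) := by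
    intro z
    have := congr($he z)
    simp only [Scheme.Hom.comp_apply] at this
    exact this.symm
  have hry : y'' ∈ Set.range (g.fiberι (f x)) := by rw [Scheme.Hom.range_fiberι]; exact hy''
  obtain ⟨w, rfl⟩ := hry
  rw [h1] at hs
  have h2 : w ⤳ e.hom za := (g.fiberι (f x)).isEmbedding.isInducing.specializes_iff.mp hs
  have h3 : e.inv w ⤳ e.inv (e.hom za) := h2.map e.inv.continuous
  have h4 : e.inv (e.hom za) = za := by
    rw [← Scheme.Hom.comp_apply, e.hom_inv_id]; rfl
  rw [h4] at h3
  refine ⟨g'.fiberι x (e.inv w), h3.map (g'.fiberι x).continuous, ?_⟩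
  rw [h1]
  have h5 : e.hom (e.inv w) = w := by
    rw [← Scheme.Hom.comp_apply, e.inv_hom_id]; rfl
  rw [h5]

/-- The residue field extension of `f'` at a point over `x` is trivial. -/
lemma bijective_residueFieldMap (sq : IsPullback g' f' f g) (x : X)
    (hbij : Function.Bijective (f.residueFieldMap x).hom) {a : X'} (ha : g' a = x) :
    Function.Bijective (f'.residueFieldMap a).hom := by
  obtain ⟨e, he⟩ := exists_fiber_iso sq x hbij
  have hra : a ∈ Set.range (g'.fiberι x) := by rw [Scheme.Hom.range_fiberι]; exact ha
  obtain ⟨za, rfl⟩ := hra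
  refine bijective_residueFieldMap_of_comm he za ?_ ?_ ?_
  · exact (ConcreteCategory.isIso_iff_bijective _).mp inferInstance
  · exact Groth.Agent.Lib.Helper12.ValBase.bijective_residueFieldMap_of_isPreimmersion _ _
  · exact Groth.Agent.Lib.Helper12.ValBase.bijective_residueFieldMap_of_isPreimmersion _ _

end Groth.Agent.Lib.Helper12.BiratBC
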