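import Mathlib
import Groth.Agent.Lib.Helper12.LimTop

/-!
# Maximal points of a cofiltered limit of schemes
-/

universe u

set_option backward.isDefEq.respectTransparency false

open CategoryTheory Limits AlgebraicGeometry Topology

namespace Groth.Agent.Lib.Helper12.LimMaxPts

section Top

variable {X : Type*} [TopologicalSpace X]

/-- In a quasi-sober T0 space every point has a generization which is a maximal point. -/
lemma exists_maximal_generization [QuasiSober X] [T0Space X] (x : X) :
    ∃ m : X, m ⤳ x ∧ ∀ z : X, z ⤳ m → z = m := by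
  obtain ⟨η, hη⟩ := QuasiSober.sober (isIrreducible_irreducibleComponent (x := x))
    (isClosed_irreducibleComponent (x := x))
  refine ⟨η, ?_, ?_⟩
  · rw [specializes_iff_mem_closure, hη.def]
    exact mem_irreducibleComponent
  · intro z hz
    have h1 : closure {η} ⊆ closure {z} := specializes_iff_closure_subset.mp hz
    have h2 : IsIrreducible (closure ({z} : Set X)) := isIrreducible_singleton.closure
    have hmax := irreducibleComponent_mem_irreducibleComponents x
    have h3 : irreducibleComponent x ⊆ closure {z} := by rw [← hη.def]; exact h1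
    have h4 : closure {z} = irreducibleComponent x :=
      (hmax.eq_of_ge h2 h3).symm ▸ rfl
    have h5 : closure ({z} : Set X) = closure {η} := by rw [h4, hη.def]
    exact ((inseparable_iff_closure_eq).mpr h5).eq

/-- An open subset containing all maximal points is dense. -/
lemma dense_of_maximal_subset [QuasiSober X] [T0Space X] {V : Set X} (hV : IsOpen V)
    (h : ∀ m : X, (∀ z : X, z ⤳ m → z = m) → m ∈ V) : Dense V := by
  intro x
  obtain ⟨m, hmx, hm⟩ := exists_maximal_generization x
  rw [mem_closure_iff]
  intro O hO hxO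
  exact ⟨m, hmx.mem_open hO hxO, h m hm⟩

/-- If there are finitely many maximal points, a dense open subset contains all of them. -/
lemma maximal_mem_of_dense [QuasiSober X] [T0Space X] {V : Set X} (hV : IsOpen V) (hd : Dense V)
    (hfin : {m : X | ∀ z : X, z ⤳ m → z = m}.Finite) (m : X) (hm : ∀ z : X, z ⤳ m → z = m) :
    m ∈ V := by
  classical
  let M : Set X := {m' : X | (∀ z : X, z ⤳ m' → z = m') ∧ m' ≠ m}
  have hMfin : M.Finite := hfin.subset (fun m' h => h.1)
  let C : Set X := ⋃ m' ∈ M, closure {m'}
  have hC : IsClosed C := hMfin.isClosed_biUnion (fun _ _ => isClosed_closure)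
  have hmC : m ∉ C := by
    intro h
    simp only [C, Set.mem_iUnion] at h
    obtain ⟨m', hm'M, hm'⟩ := h
    have : m' ⤳ m := specializes_iff_mem_closure.mpr hm'
    exact hm'M.2 (hm m' this)
  obtain ⟨y, hyC, hyV⟩ := hd.inter_open_nonempty Cᶜ hC.isOpen_compl ⟨m, hmC⟩
  obtain ⟨m'', hm''y, hm''⟩ := exists_maximal_generization y
  have h1 : m'' ∈ V := hm''y.mem_open hV hyV
  have h2 : m'' ∈ Cᶜ := hm''y.mem_open hC.isOpen_compl hyC
  have h3 : m'' = m := by
    by_contra hne
    apply h2
    simp only [C, Set.mem_iUnion]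
    exact ⟨m'', ⟨hm'', hne⟩, subset_closure rfl⟩
  exact h3 ▸ h1

end Top

variable {I : Type u} [SmallCategory I] [IsCofiltered I] (D : I ⥤ Scheme.{u}) (c : Cone D)
  (hc : IsLimit c)

include hc in
/-- Specialization in the limit is detected on the stages. -/
lemma specializes_of_forall_π [∀ (i j : I) (f : i ⟶ j), IsAffineHom (D.map f)] {z s : c.pt}
    (h : ∀ i, c.π.app i z ⤳ c.π.app i s) : z ⤳ s := by
  rw [specializes_iff_forall_open]
  intro U hU hsU
  obtain ⟨i, O, hsO, hsub⟩ := LimTop.exists_preimage_subset_of_isOpen D c hc hU hsU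
  exact hsub ((h i).mem_open O.2 hsO)

include hc in
/-- A point of the limit all of whose images are maximal points is a maximal point. -/
lemma isMax_of_forall_π [∀ (i j : I) (f : i ⟶ j), IsAffineHom (D.map f)] {s : c.pt}
    (h : ∀ (i : I) (z : D.obj i), z ⤳ c.π.app i s → z = c.π.app i s) :
    ∀ z : c.pt, z ⤳ s → z = s := by
  intro z hz
  exact LimTop.eq_of_forall_π_eq D c hc (fun i => h i _ (hz.map (c.π.app i).continuous))

include hc in
/-- A compatible system of nonempty finite subsets of the stages contains the images of a point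
of the limit. -/
theorem exists_point_mem_of_finite [∀ (i j : I) (f : i ⟶ j), IsAffineHom (D.map f)]
    (A : ∀ i, Set (D.obj i)) (hfin : ∀ i, (A i).Finite) (hne : ∀ i, (A i).Nonempty)
    (hmap : ∀ {i j : I} (g : i ⟶ j), Set.MapsTo ⇑(D.map g) (A i) (A j)) :
    ∃ s : c.pt, ∀ i, c.π.app i s ∈ A i := by
  let G : I ⥤ Type u :=
    { obj := fun i => ↥(A i)
      map := fun {i j} g => TypeCat.ofHom (fun m => ⟨D.map g m.1, hmap g m.2⟩)
      map_id := fun i => by
        ext m
        simp
      map_comp := fun {i j k} f g => by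
        ext m
        simp }
  haveI : ∀ i, Finite (G.obj i) := fun i => (hfin i).to_subtype
  haveI : ∀ i, Nonempty (G.obj i) := fun i => (hne i).to_subtype
  obtain ⟨u, hu⟩ := nonempty_sections_of_finite_cofiltered_system G
  obtain ⟨s, hs⟩ := LimTop.exists_point_of_compatible D c hc (fun i => (u i).1)
    (fun {i j} f => congrArg Subtype.val (hu f))
  exact ⟨s, fun i => by rw [hs i]; exact (u i).2⟩

include hc in
/-- If every stage has finitely many maximal points and the transition maps preserve maximal
points, the image of a maximal point of the limit in every stage is a maximal point. -/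
theorem isMax_π_of_isMax [∀ (i j : I) (f : i ⟶ j), IsAffineHom (D.map f)]
    (hfin : ∀ i : I, {s : ↥(D.obj i) | ∀ z : ↥(D.obj i), z ⤳ s → z = s}.Finite)
    (hsys : ∀ (i j : I) (g : i ⟶ j) (s : ↥(D.obj i)), (∀ z : ↥(D.obj i), z ⤳ s → z = s) →
      ∀ z : ↥(D.obj j), z ⤳ D.map g s → z = D.map g s)
    {s : c.pt} (hs : ∀ z : c.pt, z ⤳ s → z = s) (i : I) (z : D.obj i)
    (hz : z ⤳ c.π.app i s) : z = c.π.app i s := by
  obtain ⟨t, ht⟩ := exists_point_mem_of_finite D c hc
    (fun i => {m : D.obj i | (∀ z : D.obj i, z ⤳ m → z = m) ∧ m ⤳ c.π.app i s})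
    (fun i => (hfin i).subset (fun m h => h.1))
    (fun i => by
      obtain ⟨m, hm1, hm2⟩ := exists_maximal_generization (c.π.app i s)
      exact ⟨m, hm2, hm1⟩)
    (fun {i j} g m hm => ⟨hsys i j g m hm.1, by
      have := hm.2.map (D.map g).continuous
      rwa [LimTop.map_π_apply D c g s] at this⟩)
  have hts : t = s := hs t (specializes_of_forall_π D c hc (fun i => (ht i).2))
  subst hts
  exact (ht i).1 z hz

end Groth.Agent.Lib.Helper12.LimMaxPts
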