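import Mathlib
import Groth.Agent.Lib.Helper12.SchemeDimIneq3
import Groth.Agent.Lib.Helper12.OpenFibre
import Groth.Agent.Lib.Helper12.LimMaxPts
import Groth.Agent.Lib.Helper12.ClosedSub
import Groth.Agent.Lib.Helper12.FibreTopGen

/-!
# Birational morphisms of finite type have finite fibres over points of codimension `≤ 1`
(helper12)
-/

set_option autoImplicit false
set_option linter.style.haveILetI false
universe u
open AlgebraicGeometry CategoryTheory Topology TopologicalSpace

namespace Groth.Agent.Lib.Helper12.BiratFinFibre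

open Groth.Agent.Lib.Helper12 Groth.Agent.Lib.Helper12.SchemeDimFT
  Groth.Agent.Lib.Helper12.SchemeDimIneq Groth.Agent.Lib.Helper12.ClosedSub

/-- In a locally Noetherian scheme, a dense open subset contains every maximal point. -/
theorem isMax_mem_of_dense {Y : Scheme.{u}} [IsLocallyNoetherian Y] (W : Y.Opens)
    (hW : Dense (W : Set Y)) (ξ : Y) (hξ : ∀ z : Y, z ⤳ ξ → z = ξ) : ξ ∈ W := by
  classical
  obtain ⟨_, ⟨N, hN, rfl⟩, hξN, -⟩ := Y.isBasis_affineOpens.exists_subset_of_mem_open
    (Set.mem_univ ξ) isOpen_univ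
  haveI : NoetherianSpace ↥(N : Set Y) := by
    haveI : IsNoetherianRing Γ(Y, N) := IsLocallyNoetherian.component_noetherian ⟨N, hN⟩
    have := noetherianSpace_of_isAffineOpen N hN
    exact this
  haveI : QuasiSober ↥(N : Set Y) := N.isOpen.isOpenEmbedding_subtypeVal.quasiSober
  let V : Set ↥(N : Set Y) := Subtype.val ⁻¹' (W : Set Y)
  have hVo : IsOpen V := W.isOpen.preimage continuous_subtype_val
  have hVd : Dense V := hW.preimage N.isOpen.isOpenMap_subtype_val
  have hemb : IsEmbedding (Subtype.val : ↥(N : Set Y) → Y) := IsEmbedding.subtypeVal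
  have hmaxN : ∀ m : ↥(N : Set Y), (∀ z : ↥(N : Set Y), z ⤳ m → z = m) ↔
      ∀ z : Y, z ⤳ m.1 → z = m.1 := by
    intro m
    constructor
    · intro h z hz
      have hzN : z ∈ (N : Set Y) := hz.mem_open N.isOpen m.2
      have := h ⟨z, hzN⟩ (hemb.isInducing.specializes_iff.mp hz)
      exact congrArg Subtype.val this
    · intro h z hz
      exact Subtype.ext (h z.1 (hz.map continuous_subtype_val))
  have hfin : {m : ↥(N : Set Y) | ∀ z : ↥(N : Set Y), z ⤳ m → z = m}.Finite := by
    have hfc := NoetherianSpace.finite_irreducibleComponents (α := ↥(N : Set Y))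
    refine Set.Finite.of_injOn (f := fun m => closure ({m} : Set ↥(N : Set Y))) ?_ ?_ hfc
    · intro m hm
      exact (closure_singleton_mem_irreducibleComponents_iff m).mpr hm
    · intro m _ m' _ h
      exact ((inseparable_iff_closure_eq).mpr h).eq
  have := LimMaxPts.maximal_mem_of_dense hVo hVd hfin ⟨ξ, hξN⟩ ((hmaxN ⟨ξ, hξN⟩).mpr hξ)
  exact this

section Trn

variable {X Y : Scheme.{u}} (f : Y ⟶ X) [LocallyOfFiniteType f]

/-- the residue transcendence degree vanishes at a point which is alone in its fibre -/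
theorem trn_eq_zero_of_subsingleton (y : Y) (h : (f ⁻¹' {f y}).Subsingleton) : trn f y = 0 := by
  letI ovF : (f.fiber (f y)).Over (Spec (CommRingCat.of (X.residueField (f y)))) :=
    ⟨f.fiberToSpecResidueField (f y)⟩
  haveI : LocallyOfFiniteType ((f.fiber (f y)) ↘ Spec (CommRingCat.of (X.residueField (f y)))) :=
    FibreRes.locallyOfFiniteType_fiberToSpecResidueField f (f y)
  rw [trn_eq_tr f y]
  have hsub : Subsingleton ↥(f.fiber (f y)) := by
    refine ⟨fun a b => ?_⟩
    apply (f.fiberι (f y)).isEmbedding.injective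
    apply h
    · have h3 : f.fiberι (f y) a ∈ Set.range (f.fiberι (f y)) := ⟨a, rfl⟩
      rw [Scheme.Hom.range_fiberι] at h3
      exact h3
    · have h3 : f.fiberι (f y) b ∈ Set.range (f.fiberι (f y)) := ⟨b, rfl⟩
      rw [Scheme.Hom.range_fiberι] at h3
      exact h3
  have hcl : IsClosed ({f.asFiber y} : Set ↥(f.fiber (f y))) := by
    have : ({f.asFiber y} : Set ↥(f.fiber (f y))) = Set.univ := by
      ext z; simp [Subsingleton.elim z (f.asFiber y)]
    rw [this]; exact isClosed_univ
  rw [tr_eq_zero_of_isClosed _ _ _ hcl]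
  rfl

end Trn

/-- **S13532**. -/
theorem finite_fibre {X Y : Scheme.{u}} [IsLocallyNoetherian X] [IsLocallyNoetherian Y]
    (f : Y ⟶ X) [LocallyOfFiniteType f] [QuasiCompact f]
    (U : X.Opens) (hU : Dense (U : Set X)) (hU' : Dense ((f ⁻¹ᵁ U : Y.Opens) : Set Y))
    (hiso : IsIso (f ∣_ U)) (x : X) (hx : ringKrullDim (X.presheaf.stalk x) ≤ 1) :
    (f.base ⁻¹' {x}).Finite := by
  classical
  -- injectivity over `U`
  have hinj : ∀ y : Y, y ∈ f ⁻¹ᵁ U → (f ⁻¹' {f y}).Subsingleton := by
    intro y hy a ha b hb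
    have haU : a ∈ f ⁻¹ᵁ U := by
      show f a ∈ U
      rw [show f a = f y from ha]; exact hy
    have hbU : b ∈ f ⁻¹ᵁ U := by
      show f b ∈ U
      rw [show f b = f y from hb]; exact hy
    have hbij : Function.Bijective (f ∣_ U) :=
      (ConcreteCategory.bijective_of_isIso (f ∣_ U).base)
    have h1 : (f ∣_ U) ⟨a, haU⟩ = (f ∣_ U) ⟨b, hbU⟩ := by
      apply Subtype.ext
      rw [morphismRestrict_base_coe, morphismRestrict_base_coe]
      exact (show f a = f y from ha).trans (show f b = f y from hb).symm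
    exact congrArg Subtype.val (hbij.1 h1)
  -- all points of the fibre have residue transcendence degree zero
  have key : ∀ y : Y, f y = x → trn f y = 0 := by
    intro y hyx
    subst hyx
    obtain ⟨dY, hdY⟩ := FibreMax.exists_nat_ringKrullDim_stalk Y y
    have hco : Order.coheight y = (dY : ℕ∞) := by
      have := ringKrullDim_stalk_eq_coheight y
      rw [hdY] at this
      exact_mod_cast this.symm
    obtain ⟨ξ, hyξ, hξmax, hIcc⟩ := OpenFibre.exists_isMax_krullDim_Icc_eq y dY hco
    have hξy : ξ ⤳ y := hyξ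
    have hξ : ∀ z : Y, z ⤳ ξ → z = ξ := by
      intro z hz
      have h2 : ξ ≤ z := hz
      have h3 : z ≤ ξ := hξmax h2
      have h4 : ξ ⤳ z := h3
      exact (hz.antisymm h4).eq
    have hξU : ξ ∈ f ⁻¹ᵁ U := isMax_mem_of_dense _ hU' ξ hξ
    have hξ0 : trn f ξ = 0 := trn_eq_zero_of_subsingleton f ξ (hinj ξ hξU)
    rcases Nat.eq_zero_or_pos dY with h0 | hpos
    · -- `y` itself is maximal
      subst h0
      have hymax : IsMax y := by
        rw [← Order.coheight_eq_zero]; exact_mod_cast hco
      have hy : ∀ z : Y, z ⤳ y → z = y := by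
        intro z hz
        have h2 : y ≤ z := hz
        have h3 : z ≤ y := hymax h2
        have h4 : y ⤳ z := h3
        exact (hz.antisymm h4).eq
      have hyU : y ∈ f ⁻¹ᵁ U := isMax_mem_of_dense _ hU' y hy
      exact trn_eq_zero_of_subsingleton f y (hinj y hyU)
    · have h2 := scheme_dimIneq f y ξ hξy
      rw [hIcc, hξ0] at h2
      have h3 := SchemeDimIneq.krullDim_Icc_le_coheight (f y) (f ξ)
      have h4 : ((Order.coheight (f y) : ℕ∞) : WithBot ℕ∞) ≤ 1 := by
        rw [← ringKrullDim_stalk_eq_coheight]; exact hx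
      have h5 : (dY : WithBot ℕ∞) + ((trn f y : ℕ∞) : WithBot ℕ∞) ≤ 1 := by
        refine h2.trans ?_
        simp only [Nat.cast_zero, WithBot.coe_zero, add_zero]
        exact h3.trans h4
      have h6 : ((dY : ℕ∞) + trn f y : ℕ∞) ≤ 1 := by
        have : (((dY : ℕ∞) + trn f y : ℕ∞) : WithBot ℕ∞) ≤ ((1 : ℕ∞) : WithBot ℕ∞) := by
          rw [WithBot.coe_add]; exact_mod_cast h5
        exact WithBot.coe_le_coe.mp this
      by_contra hne
      have h7 : (1 : ℕ∞) ≤ trn f y := ENat.one_le_iff_ne_zero.mpr hne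
      have h8 : (1 : ℕ∞) ≤ (dY : ℕ∞) := by exact_mod_cast hpos
      have h9 : (2 : ℕ∞) ≤ (dY : ℕ∞) + trn f y := by
        calc (2 : ℕ∞) = 1 + 1 := by norm_num
          _ ≤ _ := add_le_add h8 h7
      have : (2 : ℕ∞) ≤ 1 := h9.trans h6
      exact absurd this (by norm_num)
  -- the fibre is a Noetherian space whose points all have `tr = 0`
  letI ovF : (f.fiber x).Over (Spec (CommRingCat.of (X.residueField x))) :=
    ⟨f.fiberToSpecResidueField x⟩
  haveI : LocallyOfFiniteType ((f.fiber x) ↘ Spec (CommRingCat.of (X.residueField x))) :=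
    FibreRes.locallyOfFiniteType_fiberToSpecResidueField f x
  haveI : LocallyOfFiniteType (f.fiberToSpecResidueField x) :=
    FibreRes.locallyOfFiniteType_fiberToSpecResidueField f x
  haveI : QuasiCompact (f.fiberToSpecResidueField x) :=
    MorphismProperty.pullback_snd (P := @QuasiCompact) _ _ inferInstance
  haveI : IsNoetherian (Spec (X.residueField x)) := inferInstance
  haveI : NoetherianSpace ↥(f.fiber x) :=
    FibreTopGen.noetherianSpace_of_finiteType (f.fiberToSpecResidueField x)
  have htr : ∀ z : ↥(f.fiber x), tr (X.residueField x) (f.fiber x) z = 0 := by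
    intro z
    have hy : f (f.fiberι x z) = x := by
      have h3 : f.fiberι x z ∈ Set.range (f.fiberι x) := ⟨z, rfl⟩
      rw [Scheme.Hom.range_fiberι] at h3
      exact h3
    have h1 := trn_eq_tr_of_fiber f (f.fiberι x z) x hy z rfl
    rw [key _ hy] at h1
    exact_mod_cast h1.symm
  have hcomp : ∀ Z ∈ irreducibleComponents ↥(f.fiber x), Z.Finite := by
    intro Z hZ
    obtain ⟨z, hz, rfl⟩ := (SchemeDimFT.mem_irreducibleComponents_iff Z).mp hZ
    have : closure ({z} : Set ↥(f.fiber x)) = {z} := by
      apply Set.Subset.antisymm _ subset_closure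
      intro w hw
      have hsp : z ⤳ w := specializes_iff_mem_closure.mpr hw
      by_contra hne
      have hne' : z ≠ w := fun h => hne (by rw [Set.mem_singleton_iff]; exact h.symm)
      have := tr_lt_of_specializes (X.residueField x) (f.fiber x) z w hsp hne'
      rw [htr z] at this
      omega
    rw [this]
    exact Set.finite_singleton z
  have hfinF : (Set.univ : Set ↥(f.fiber x)).Finite := by
    rw [← sUnion_irreducibleComponents]
    exact Set.Finite.sUnion NoetherianSpace.finite_irreducibleComponents hcomp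
  have : (f.base ⁻¹' {x}) = Set.range (f.fiberι x) := (f.range_fiberι x).symm
  rw [this, ← Set.image_univ]
  exact hfinF.image _

end Groth.Agent.Lib.Helper12.BiratFinFibre
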