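import Mathlib
import Groth.Agent.S3439

/-!
# Helper library (helper12): spreading out a rational point of a fibre to a section over a
finitely presented locally closed subscheme
-/

universe u
open CategoryTheory AlgebraicGeometry TopologicalSpace Limits Topology

set_option backward.isDefEq.respectTransparency false
set_option linter.style.haveILetI false

namespace Groth.Agent.Lib.Helper12.CDSpread

/-- Ring-level spreading: an `A`-algebra map from a finitely presented `A`-algebra `B` to a field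
`K` "generated by fractions of `A`" factors through `(A_b)/J` with `J` finitely generated. -/
theorem exists_away_quotient_lift {A B K : Type u} [CommRing A] [CommRing B] [Field K]
    (φ : A →+* B) (hφ : φ.FinitePresentation) (ψ : A →+* K) (χ : B →+* K) (hχ : χ.comp φ = ψ)
    (hfrac : ∀ k : K, ∃ a b : A, ψ b ≠ 0 ∧ k * ψ b = ψ a) :
    ∃ (b₀ : A) (J : Ideal (Localization.Away b₀)) (ρ : B →+* Localization.Away b₀ ⧸ J)
      (ψ'' : Localization.Away b₀ ⧸ J →+* K),
      J.FG ∧ ρ.comp φ = (Ideal.Quotient.mk J).comp (algebraMap A (Localization.Away b₀)) ∧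
      ψ''.comp ((Ideal.Quotient.mk J).comp (algebraMap A (Localization.Away b₀))) = ψ := by
  classical
  letI := φ.toAlgebra
  haveI : Algebra.FinitePresentation A B := hφ
  obtain ⟨n, π, hπsurj, hker⟩ := Algebra.FinitePresentation.out (R := A) (A := B)
  have hπC : ∀ a : A, π (MvPolynomial.C a) = φ a := fun a => by
    rw [← MvPolynomial.algebraMap_eq, AlgHom.commutes]; rfl
  choose a b hb hab using fun k : Fin n => hfrac (χ (π (MvPolynomial.X k)))
  let b₀ : A := ∏ k, b k
  have hb₀ : ψ b₀ ≠ 0 := by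
    rw [map_prod]
    exact Finset.prod_ne_zero_iff.mpr fun k _ => hb k
  let L := Localization.Away b₀
  have hu₀ : IsUnit (algebraMap A L b₀) := IsLocalization.Away.algebraMap_isUnit b₀
  have hu : ∀ k, IsUnit (algebraMap A L (b k)) := fun k => by
    refine isUnit_of_dvd_unit ?_ hu₀
    exact map_dvd _ (Finset.dvd_prod_of_mem b (Finset.mem_univ k))
  let ψ' : L →+* K := IsLocalization.Away.lift b₀ (g := ψ) (isUnit_iff_ne_zero.mpr hb₀)
  have hψ' : ∀ x : A, ψ' (algebraMap A L x) = ψ x := fun x => IsLocalization.Away.lift_eq _ _ _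
  let v : Fin n → L := fun k => algebraMap A L (a k) * ↑(hu k).unit⁻¹
  let ev : MvPolynomial (Fin n) A →+* L := MvPolynomial.eval₂Hom (algebraMap A L) v
  have hev : ψ'.comp ev = χ.comp π.toRingHom := by
    apply MvPolynomial.ringHom_ext
    · intro x
      simp only [RingHom.comp_apply, ev, MvPolynomial.coe_eval₂Hom, MvPolynomial.eval₂_C]
      rw [hψ', ← hχ]
      simp only [RingHom.comp_apply, AlgHom.toRingHom_eq_coe, RingHom.coe_coe, hπC]
    · intro k
      simp only [RingHom.comp_apply, ev, MvPolynomial.coe_eval₂Hom, MvPolynomial.eval₂_X,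
        AlgHom.toRingHom_eq_coe, RingHom.coe_coe]
      have h1 : ψ' (v k) * ψ (b k) = ψ (a k) := by
        rw [← hψ' (b k), ← map_mul]
        simp only [v]
        rw [mul_assoc, IsUnit.val_inv_mul, mul_one, hψ']
      have h2 := hab k
      exact mul_right_cancel₀ (hb k) (h1.trans h2.symm)
  let J : Ideal L := Ideal.map ev (RingHom.ker π.toRingHom)
  have hJ : J.FG := hker.map ev
  have hJψ : J ≤ RingHom.ker ψ' := by
    rw [Ideal.map_le_iff_le_comap]
    intro g hg
    rw [Ideal.mem_comap, RingHom.mem_ker, ← RingHom.comp_apply, hev, RingHom.comp_apply]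
    rw [RingHom.mem_ker] at hg
    rw [hg, map_zero]
  have hkerle : RingHom.ker π.toRingHom ≤ RingHom.ker ((Ideal.Quotient.mk J).comp ev) := by
    intro g hg
    rw [RingHom.mem_ker, RingHom.comp_apply, Ideal.Quotient.eq_zero_iff_mem]
    exact Ideal.mem_map_of_mem ev hg
  let ρ : B →+* L ⧸ J := RingHom.liftOfSurjective π.toRingHom hπsurj ⟨_, hkerle⟩
  have hρ : ∀ g, ρ (π g) = Ideal.Quotient.mk J (ev g) := fun g =>
    RingHom.liftOfRightInverse_comp_apply _ _ _ ⟨_, hkerle⟩ g
  refine ⟨b₀, J, ρ, Ideal.Quotient.lift J ψ' (fun x hx => hJψ hx), hJ, ?_, ?_⟩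
  · ext x
    simp only [RingHom.comp_apply]
    rw [← hπC, hρ]
    simp only [ev, MvPolynomial.coe_eval₂Hom, MvPolynomial.eval₂_C]
    rfl
  · ext x
    simp only [RingHom.comp_apply]
    exact (Ideal.Quotient.lift_mk J ψ' _).trans (hψ' x)

/-- Spreading out a point with trivial residue field extension to a section over a finitely
presented locally closed subscheme. -/
theorem exists_fp_immersion_section {X Y : Scheme.{u}} (f : X ⟶ Y)
    [LocallyOfFinitePresentation f] [QuasiSeparatedSpace Y] (x : X)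
    (hb : Function.Bijective (f.residueFieldMap x)) :
    ∃ (Z : Scheme.{u}) (z : Z ⟶ Y) (t : Z ⟶ X), IsAffine Z ∧ IsImmersion z ∧
      LocallyOfFinitePresentation z ∧ QuasiCompact z ∧ t ≫ f = z ∧ f x ∈ Set.range z := by
  obtain ⟨_, ⟨V, hV, rfl⟩, hyV, -⟩ :=
    Y.isBasis_affineOpens.exists_subset_of_mem_open (Set.mem_univ (f x)) isOpen_univ
  obtain ⟨_, ⟨U, hU, rfl⟩, hxU, hUV : U ≤ f ⁻¹ᵁ V⟩ :=
    X.isBasis_affineOpens.exists_subset_of_mem_open (show x ∈ ((f ⁻¹ᵁ V : X.Opens) : Set X) from hyV)
      (f ⁻¹ᵁ V).2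
  have hφ : (f.appLE V U hUV).hom.FinitePresentation :=
    HasRingHomProperty.appLE (P := @LocallyOfFinitePresentation) f inferInstance ⟨V, hV⟩ ⟨U, hU⟩ hUV
  let ι : X.residueField x ≃+* Y.residueField (f x) :=
    (RingEquiv.ofBijective (f.residueFieldMap x).hom hb).symm
  let ψ : Γ(Y, V) →+* Y.residueField (f x) := (Y.evaluation V (f x) hyV).hom
  let χ : Γ(X, U) →+* Y.residueField (f x) :=
    (ι : X.residueField x →+* Y.residueField (f x)).comp (X.evaluation U x hxU).hom
  have hχ : χ.comp (f.appLE V U hUV).hom = ψ := by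
    ext a
    simp only [RingHom.comp_apply, χ, ψ]
    show ι ((X.evaluation U x hxU).hom ((f.appLE V U hUV).hom a)) = _
    rw [RingEquiv.symm_apply_eq]
    show (X.evaluation U x hxU).hom ((f.appLE V U hUV).hom a) =
      (f.residueFieldMap x).hom ((Y.evaluation V (f x) hyV).hom a)
    have h1 := Scheme.evaluation_naturality_apply f x hyV a
    rw [show (f.residueFieldMap x).hom ((Y.evaluation V (f x) hyV).hom a) =
      f.residueFieldMap x (Y.evaluation V (f x) hyV a) from rfl, h1]
    simp only [Scheme.Hom.appLE, Scheme.evaluation]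
    simp
  have hfrac : ∀ k : Y.residueField (f x), ∃ a b : Γ(Y, V), ψ b ≠ 0 ∧ k * ψ b = ψ a := by
    intro k
    letI := Y.presheaf.algebra_section_stalk ⟨f x, hyV⟩
    haveI hloc := hV.isLocalization_stalk ⟨f x, hyV⟩
    obtain ⟨s, rfl⟩ := Y.residue_surjective (f x) k
    obtain ⟨a, b, rfl⟩ := IsLocalization.exists_mk'_eq
      (hV.primeIdealOf ⟨f x, hyV⟩).asIdeal.primeCompl s
    have hbu : IsUnit (algebraMap Γ(Y, V) (Y.presheaf.stalk (f x)) b) :=
      IsLocalization.map_units _ b
    have halg : ∀ c : Γ(Y, V), ψ c = Y.residue (f x) (algebraMap Γ(Y, V) (Y.presheaf.stalk (f x)) c) :=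
      fun c => rfl
    refine ⟨a, b, ?_, ?_⟩
    · rw [halg]
      exact (hbu.map (Y.residue (f x)).hom).ne_zero
    · rw [halg, halg, ← map_mul, IsLocalization.mk'_spec]
  obtain ⟨b₀, J, ρ, ψ'', hJ, hρ, hψ''⟩ :=
    exists_away_quotient_lift (f.appLE V U hUV).hom hφ ψ χ hχ hfrac
  let α : Γ(Y, V) →+* Localization.Away b₀ ⧸ J :=
    (Ideal.Quotient.mk J).comp (algebraMap Γ(Y, V) (Localization.Away b₀))
  have hαfp : α.FinitePresentation := by
    refine RingHom.FinitePresentation.comp ?_ ?_
    · exact RingHom.FinitePresentation.of_surjective _ Ideal.Quotient.mk_surjective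
        (by rw [Ideal.mk_ker]; exact hJ)
    · rw [RingHom.finitePresentation_algebraMap]
      exact IsLocalization.Away.finitePresentation b₀
  let Z : Scheme.{u} := Spec (CommRingCat.of (Localization.Away b₀ ⧸ J))
  let z₀ : Z ⟶ Spec Γ(Y, V) := Spec.map (CommRingCat.ofHom α)
  have hz₀ : z₀ = Spec.map (CommRingCat.ofHom (Ideal.Quotient.mk J)) ≫
      Spec.map (CommRingCat.ofHom (algebraMap Γ(Y, V) (Localization.Away b₀))) := by
    rw [← Spec.map_comp]; rfl
  haveI h1 : IsClosedImmersion (Spec.map (CommRingCat.ofHom (Ideal.Quotient.mk J))) :=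
    IsClosedImmersion.spec_of_surjective _ Ideal.Quotient.mk_surjective
  haveI h2 : IsOpenImmersion
      (Spec.map (CommRingCat.ofHom (algebraMap Γ(Y, V) (Localization.Away b₀)))) :=
    Scheme.isOpenImmersion_SpecMap_localizationAway (R := Γ(Y, V)) b₀
  haveI : IsImmersion z₀ := by rw [hz₀]; infer_instance
  haveI : LocallyOfFinitePresentation z₀ :=
    (HasRingHomProperty.Spec_iff (P := @LocallyOfFinitePresentation)).mpr hαfp
  refine ⟨Z, z₀ ≫ hV.fromSpec, Spec.map (CommRingCat.ofHom ρ) ≫ hU.fromSpec, inferInstance,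
    inferInstance, inferInstance, inferInstance, ?_, ?_⟩
  · rw [Category.assoc, ← IsAffineOpen.SpecMap_appLE_fromSpec f hV hU hUV, ← Category.assoc,
      ← Spec.map_comp]
    congr 2
    ext a
    exact congr($hρ a)
  · let pt : Spec (Y.residueField (f x)) ⟶ Z := Spec.map (CommRingCat.ofHom ψ'')
    have h1 : pt ≫ z₀ ≫ hV.fromSpec = Y.fromSpecResidueField (f x) := by
      rw [← Category.assoc, ← Spec.map_comp]
      have : CommRingCat.ofHom α ≫ CommRingCat.ofHom ψ'' = Y.evaluation V (f x) hyV := by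
        ext a
        exact congr($hψ'' a)
      rw [this, Scheme.evaluation, Spec.map_comp, Category.assoc]
      show _ ≫ hV.fromSpecStalk hyV = _
      rw [IsAffineOpen.fromSpecStalk_eq_fromSpecStalk]
      rfl
    refine ⟨pt default, ?_⟩
    rw [← Scheme.Hom.comp_apply, h1, Scheme.fromSpecResidueField_apply]

/-- A cover of a quasi-compact quasi-separated scheme by constructible sets has a finite
subcover. -/
theorem exists_finite_subcover_of_isConstructible {Y : Scheme.{u}} [CompactSpace Y]
    [QuasiSeparatedSpace Y] {ι : Type*} (E : ι → Set Y) (hE : ∀ i, IsConstructible (E i))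
    (hcov : ∀ y : Y, ∃ i, y ∈ E i) : ∃ t : Finset ι, ∀ y : Y, ∃ i ∈ t, y ∈ E i := by
  have h2 : @CompactSpace Y (constructibleTopology Y) :=
    Groth.Agent.S3439.compactSpace_constructibleTopology
  have hopen : ∀ i, IsOpen[constructibleTopology Y] (E i) := fun i =>
    (Groth.Agent.S3439.isOpen_constructibleTopology_of_isConstructible (hE i)).1
  obtain ⟨t, ht⟩ := @IsCompact.elim_finite_subcover Y (constructibleTopology Y) _ ι
    (@isCompact_univ _ (constructibleTopology Y) h2) E hopen
    (fun y _ => by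
      obtain ⟨i, hi⟩ := hcov y
      exact Set.mem_iUnion.mpr ⟨i, hi⟩)
  refine ⟨t, fun y => ?_⟩
  have := ht (Set.mem_univ y)
  simp only [Set.mem_iUnion, exists_prop] at this
  exact this

end Groth.Agent.Lib.Helper12.CDSpread
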