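import Mathlib
import Groth.Agent.Lib.Helper12.PbDiag
import Groth.Agent.Lib.Helper12.FpDesc

/-!
# Descending finitely presented covering families of a limit to a stage
-/

universe u
set_option backward.isDefEq.respectTransparency false
set_option linter.style.haveILetI false
open CategoryTheory Limits AlgebraicGeometry TopologicalSpace

namespace Groth.Agent.Lib.Helper12.CoverDesc

open Groth.Agent.Lib.Helper12.PbDiag

variable {I : Type u} [SmallCategory I] (D : I ⥤ Scheme.{u}) (c : Cone D)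

/-- A finitely presented model with property `P` over the stage `i` of a morphism to the limit. -/
structure Stage (P : MorphismProperty Scheme.{u}) {U : Scheme.{u}} (h : U ⟶ c.pt) (i : I) where
  V : Scheme.{u}
  v : V ⟶ D.obj i
  e : U ⟶ V
  sq : IsPullback e h v (c.π.app i)
  hP : P v
  lfp : LocallyOfFinitePresentation v
  qc : QuasiCompact v
  qs : QuasiSeparated v

variable {D c}

namespace Stage

variable {P : MorphismProperty Scheme.{u}} {U : Scheme.{u}} {h : U ⟶ c.pt} {i : I}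

/-- Base change of a stage model to a later stage. -/
noncomputable def restage [P.IsStableUnderBaseChange] (s : Stage D c P h i) {k : I} (t : k ⟶ i) :
    Stage D c P h k where
  V := pullback s.v (D.map t)
  v := pullback.snd s.v (D.map t)
  e := pullback.lift s.e (h ≫ c.π.app k) (by rw [Category.assoc, c.w]; exact s.sq.w)
  sq := by
    refine IsPullback.of_right ?_ (pullback.lift_snd _ _ _)
      (IsPullback.of_hasPullback s.v (D.map t))
    rw [pullback.lift_fst, c.w]
    exact s.sq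
  hP := P.pullback_snd _ _ s.hP
  lfp := by haveI := s.lfp; infer_instance
  qc := by haveI := s.qc; infer_instance
  qs := by haveI := s.qs; infer_instance

lemma range_eq (s : Stage D c P h i) : Set.range h = c.π.app i ⁻¹' Set.range s.v := by
  have h1 : h = s.sq.isoPullback.hom ≫ pullback.snd s.v (c.π.app i) :=
    (IsPullback.isoPullback_hom_snd s.sq).symm
  rw [← Scheme.Pullback.range_snd s.v (c.π.app i)]
  conv_lhs => rw [h1]
  rw [Scheme.Hom.comp_base, TopCat.coe_comp, Set.range_comp]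
  have : Set.range s.sq.isoPullback.hom = Set.univ :=
    Set.range_eq_univ.mpr (s.sq.isoPullback.hom.homeomorph.surjective)
  rw [this, Set.image_univ]
  rfl

lemma range_restage [P.IsStableUnderBaseChange] (s : Stage D c P h i) {k : I} (t : k ⟶ i) :
    Set.range (s.restage t).v = D.map t ⁻¹' Set.range s.v :=
  Scheme.Pullback.range_snd s.v (D.map t)

end Stage

/-- A jointly surjective family of morphisms to the limit all of which have stage models admits a
finite subfamily with models over a common stage which are jointly surjective. -/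
theorem exists_cover_stage [IsCofiltered I] [∀ {i j : I} (f : i ⟶ j), IsAffineHom (D.map f)]
    [∀ i, CompactSpace (D.obj i)] (hc : IsLimit c)
    (P : MorphismProperty Scheme.{u}) [P.IsStableUnderBaseChange]
    (hPo : ∀ {X Y : Scheme.{u}} (f : X ⟶ Y), P f → LocallyOfFinitePresentation f → IsOpenMap f)
    {ι : Type u} (U : ι → Scheme.{u}) (u : ∀ a, U a ⟶ c.pt)
    (hst : ∀ a, ∃ i, Nonempty (Stage D c P (u a) i))
    (hcov : ∀ x : c.pt, ∃ (a : ι) (y : U a), u a y = x) :
    ∃ (i : I) (n : ℕ) (a : Fin n → ι) (s : ∀ j, Stage D c P (u (a j)) i),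
      ∀ x : D.obj i, ∃ (j : Fin n) (y : (s j).V), (s j).v y = x := by
  classical
  choose i_ hs_ using hst
  let s_ : ∀ a, Stage D c P (u a) (i_ a) := fun a => (hs_ a).some
  have hopenv : ∀ {U' : Scheme.{u}} {h : U' ⟶ c.pt} {i : I} (s : Stage D c P h i),
      IsOpen (Set.range s.v) := fun s => (hPo s.v s.hP s.lfp).isOpen_range
  have hopen : ∀ a, IsOpen (Set.range (u a)) := by
    intro a
    rw [(s_ a).range_eq]
    exact (hopenv (s_ a)).preimage (c.π.app (i_ a)).continuous
  haveI : CompactSpace c.pt := Scheme.compactSpace_of_isLimit D c hc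
  obtain ⟨t, ht⟩ := isCompact_univ.elim_finite_subcover (fun a => Set.range (u a)) hopen
    (by
      intro x _
      obtain ⟨a, y, hy⟩ := hcov x
      exact Set.mem_iUnion.mpr ⟨a, y, hy⟩)
  obtain ⟨k, hk⟩ := IsCofiltered.inf_objs_exists (t.image i_)
  let a_ : Fin t.card → ι := fun j => (t.equivFin.symm j).1
  have ha_ : ∀ j, a_ j ∈ t := fun j => (t.equivFin.symm j).2
  let tm : ∀ j, k ⟶ i_ (a_ j) := fun j => (hk (Finset.mem_image_of_mem i_ (ha_ j))).some
  let s' : ∀ j, Stage D c P (u (a_ j)) k := fun j => (s_ (a_ j)).restage (tm j)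
  let W : (D.obj k).Opens := ⨆ j, ⟨Set.range (s' j).v, hopenv (s' j)⟩
  have hW : c.π.app k ⁻¹ᵁ W = ⊤ := by
    rw [eq_top_iff]
    intro x _
    have hx := ht (Set.mem_univ x)
    simp only [Set.mem_iUnion] at hx
    obtain ⟨a, ha, hxa⟩ := hx
    let j : Fin t.card := t.equivFin ⟨a, ha⟩
    have hj : a_ j = a := by simp [a_, j]
    have hxa' : x ∈ Set.range (u (a_ j)) := by rw [hj]; exact hxa
    rw [(s' j).range_eq] at hxa'
    show c.π.app k x ∈ W
    exact Opens.mem_iSup.mpr ⟨j, hxa'⟩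
  obtain ⟨l, t', hl⟩ := exists_map_eq_top D c hc W hW
  refine ⟨l, t.card, a_, fun j => (s' j).restage t', fun x => ?_⟩
  have hx : x ∈ D.map t' ⁻¹ᵁ W := by rw [hl]; trivial
  obtain ⟨j, hj⟩ := Opens.mem_iSup.mp (show D.map t' x ∈ W from hx)
  have : x ∈ Set.range ((s' j).restage t').v := by
    rw [(s' j).range_restage t']
    exact hj
  obtain ⟨y, hy⟩ := this
  exact ⟨j, y, hy⟩

/-- A stage tuple gives the property on the canonical stage. -/
lemma pbMap_of_tuple (D : I ⥤ Scheme.{u}) (i₀ : I)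
    {X₀ Y₀ : Scheme.{u}} (f₀ : X₀ ⟶ Y₀) (g₀ : Y₀ ⟶ D.obj i₀)
    (P : MorphismProperty Scheme.{u}) [P.IsStableUnderBaseChange]
    (h : ∃ (i : I) (φ : i ⟶ i₀) (Xi Yi : Scheme.{u}) (fi : Xi ⟶ Yi) (gi : Yi ⟶ D.obj i)
      (pY : Yi ⟶ Y₀) (pX : Xi ⟶ X₀), IsPullback pY gi g₀ (D.map φ) ∧ IsPullback pX fi f₀ pY ∧
        P fi) : ∃ j : Over i₀, P ((pbMap D i₀ g₀ f₀).app j) := by
  obtain ⟨i, φ, Xi, Yi, fi, gi, pY, pX, hpY, hpX, hP⟩ := h
  refine ⟨Over.mk φ, ?_⟩
  have sq := isPullback_pbMap_app D i₀ g₀ f₀ (Over.mk φ)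
  have e1 : hpY.isoPullback.inv ≫ pY = pullback.fst g₀ (D.map φ) :=
    IsPullback.isoPullback_inv_fst hpY
  have hw : pullback.fst (f₀ ≫ g₀) (D.map φ) ≫ f₀ =
      ((pbMap D i₀ g₀ f₀).app (Over.mk φ) ≫ hpY.isoPullback.inv) ≫ pY := by
    rw [Category.assoc, e1]
    exact sq.w
  have sq' : IsPullback (hpX.lift _ _ hw) ((pbMap D i₀ g₀ f₀).app (Over.mk φ)) fi
      hpY.isoPullback.inv := by
    refine IsPullback.of_right ?_ (hpX.lift_snd _ _ _) hpX
    rw [hpX.lift_fst, e1]
    exact sq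
  exact MorphismProperty.of_isPullback (P := P) sq' hP

/-- Existence of stage models from a descent theorem in tuple form. -/
theorem exists_stage [IsCofiltered I] [∀ {i j : I} (f : i ⟶ j), IsAffineHom (D.map f)]
    [∀ i, CompactSpace (D.obj i)] [∀ i, QuasiSeparatedSpace (D.obj i)] (hc : IsLimit c)
    (P : MorphismProperty Scheme.{u}) [P.IsStableUnderBaseChange]
    (hdesc : ∀ (i₀ : I) {X₀ Y₀ : Scheme.{u}} (f₀ : X₀ ⟶ Y₀) (g₀ : Y₀ ⟶ D.obj i₀)
      [CompactSpace X₀] [QuasiSeparatedSpace X₀] [CompactSpace Y₀] [QuasiSeparatedSpace Y₀]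
      [LocallyOfFinitePresentation f₀] {X Y : Scheme.{u}} (f : X ⟶ Y) (g : Y ⟶ c.pt)
      (qY : Y ⟶ Y₀) (qX : X ⟶ X₀) (_ : IsPullback qY g g₀ (c.π.app i₀))
      (_ : IsPullback qX f f₀ qY), P f →
      ∃ (i : I) (φ : i ⟶ i₀) (Xi Yi : Scheme.{u}) (fi : Xi ⟶ Yi) (gi : Yi ⟶ D.obj i)
        (pY : Yi ⟶ Y₀) (pX : Xi ⟶ X₀), IsPullback pY gi g₀ (D.map φ) ∧ IsPullback pX fi f₀ pY ∧
          P fi)
    {U : Scheme.{u}} (h : U ⟶ c.pt) [LocallyOfFinitePresentation h] [QuasiCompact h]
    [QuasiSeparated h] (hP : P h) : ∃ i, Nonempty (Stage D c P h i) := by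
  obtain ⟨i, Zi, hi, g, hlfp, hqc, hqs, hpb⟩ := FpDesc.descends_of_fp (D := D) hc h
  haveI := hlfp
  haveI := hqc
  haveI := hqs
  haveI : CompactSpace Zi := QuasiCompact.compactSpace_of_compactSpace hi
  haveI : QuasiSeparatedSpace Zi := quasiSeparatedSpace_of_quasiSeparated hi
  have hY := IsPullback.id_vert (c.π.app i)
  obtain ⟨j, hj⟩ := pbMap_of_tuple D i hi (𝟙 _) P
    (hdesc i hi (𝟙 _) h (𝟙 _) (c.π.app i) g hY hpb hP)
  have hj' : P (pullback.snd hi (D.map j.hom)) :=
    MorphismProperty.of_isPullback (P := P) (isPullback_snd_pbMap_id D i hi j) hj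
  exact ⟨j.left, ⟨{
    V := pullback hi (D.map j.hom)
    v := pullback.snd hi (D.map j.hom)
    e := (pbCone c g h hpb).π.app j
    sq := isPullback_pbCone_π c g h hpb j
    hP := hj'
    lfp := inferInstance
    qc := inferInstance
    qs := inferInstance }⟩⟩

end Groth.Agent.Lib.Helper12.CoverDesc
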