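import Mathlib
import Groth.Agent.Lib.Helper12.CDSpread
import Groth.Agent.Lib.Helper12.PbDiag
import Groth.Agent.Lib.Helper12.LimConstr
import Groth.Agent.S4815

/-!
# Helper library (helper12): completely decomposed morphisms and limits
-/

universe u
open CategoryTheory AlgebraicGeometry TopologicalSpace Limits Topology

set_option backward.isDefEq.respectTransparency false
set_option linter.style.haveILetI false

namespace Groth.Agent.Lib.Helper12.CDLimit

/-- `y` is the image of a point with trivial residue field extension. -/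
def CDAt {X Y : Scheme.{u}} (f : X ⟶ Y) (y : Y) : Prop :=
  ∃ x : X, f x = y ∧ Function.Bijective (f.residueFieldMap x)

lemma residueFieldMap_surjective {Z Y : Scheme.{u}} (z : Z ⟶ Y) [SurjectiveOnStalks z] (w : Z) :
    Function.Surjective (z.residueFieldMap w) := by
  intro k
  obtain ⟨s, rfl⟩ := Z.residue_surjective w k
  obtain ⟨s', rfl⟩ := z.stalkMap_surjective w s
  refine ⟨Y.residue (z w) s', ?_⟩
  exact congr($(Scheme.residue_residueFieldMap z w) s')

/-- If a preimmersion `z : Z ⟶ Y` lifts to `X`, every point of its image is the image of a point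
with trivial residue field extension. -/
theorem cdAt_of_section {X Y Z : Scheme.{u}} (g : X ⟶ Y) (z : Z ⟶ Y) [SurjectiveOnStalks z]
    (t : Z ⟶ X) (ht : t ≫ g = z) (w : Z) : CDAt g (z w) := by
  subst ht
  refine ⟨t w, rfl, ?_⟩
  have h1 : Function.Surjective ((t ≫ g).residueFieldMap w) := residueFieldMap_surjective _ w
  rw [Scheme.residueFieldMap_comp] at h1
  have h2 : Function.Surjective (t.residueFieldMap w) := by
    intro k
    obtain ⟨k', hk'⟩ := h1 k
    exact ⟨g.residueFieldMap (t w) k', hk'⟩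
  have h3 : Function.Injective (t.residueFieldMap w) := (t.residueFieldMap w).hom.injective
  refine ⟨(g.residueFieldMap (t w)).hom.injective, ?_⟩
  intro k
  obtain ⟨k', hk'⟩ := h1 (t.residueFieldMap w k)
  exact ⟨k', h3 hk'⟩

/-- Complete decomposition at a point is stable under base change. -/
theorem cdAt_of_isPullback {X Y X' Y' : Scheme.{u}} {f : X ⟶ Y} {f' : X' ⟶ Y'} {gX : X' ⟶ X}
    {gY : Y' ⟶ Y} (sq : IsPullback gX f' f gY) (y' : Y') (h : CDAt f (gY y')) : CDAt f' y' := by
  obtain ⟨x, hx, hb⟩ := h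
  let e : Y.residueField (f x) ≅ X.residueField x :=
    (RingEquiv.ofBijective (f.residueFieldMap x).hom hb).toCommRingCatIso
  have he : e.hom = f.residueFieldMap x := rfl
  let β : Spec (Y'.residueField y') ⟶ X :=
    Spec.map (gY.residueFieldMap y') ≫ Spec.map (Y.residueFieldCongr hx).hom ≫
      Spec.map e.inv ≫ X.fromSpecResidueField x
  have hβ : β ≫ f = Y'.fromSpecResidueField y' ≫ gY := by
    simp only [β, Category.assoc]
    rw [← Scheme.Hom.SpecMap_residueFieldMap_fromSpecResidueField, ← he,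
      ← Spec.map_comp_assoc e.hom e.inv, e.hom_inv_id, Spec.map_id, Category.id_comp,
      Scheme.residueFieldCongr_fromSpecResidueField,
      Scheme.Hom.SpecMap_residueFieldMap_fromSpecResidueField]
  let τ : Spec (Y'.residueField y') ⟶ X' := sq.lift β (Y'.fromSpecResidueField y') hβ
  have hτ : τ ≫ f' = Y'.fromSpecResidueField y' := sq.lift_snd _ _ _
  have := cdAt_of_section f' (Y'.fromSpecResidueField y') τ hτ default
  rwa [Scheme.fromSpecResidueField_apply] at this

open Groth.Agent.Lib.Helper12.PbDiag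

section Main

variable {I : Type u} [SmallCategory I] [IsCofiltered I]
  (D : I ⥤ Scheme.{u}) (c : Cone D) (hc : IsLimit c)
  [hD : ∀ {i j : I} (a : i ⟶ j), IsAffineHom (D.map a)]
  (i0 : I) {X0 Y0 X Y : Scheme.{u}} (f0 : X0 ⟶ Y0) (q0 : Y0 ⟶ D.obj i0)
  [CompactSpace Y0] [QuasiSeparatedSpace Y0] [LocallyOfFinitePresentation f0]
  (f : X ⟶ Y) (q : Y ⟶ c.pt) (pY : Y ⟶ Y0) (pX : X ⟶ X0)
  (hY : IsPullback pY q q0 (c.π.app i0)) (hX : IsPullback pX f f0 pY)

include hc hX in
/-- Per-point descent: a point of `Y` which is completely decomposed has a constructible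
neighbourhood at a finite stage consisting of completely decomposed points. -/
theorem exists_stage_constructible (y : Y) (hy : CDAt f y) :
    ∃ (l : Over i0) (C : Set ((pbDiagram D i0 q0).obj l)), IsConstructible C ∧
      (∀ y' ∈ C, CDAt (pullback.snd f0 (pullback.fst q0 (D.map l.hom))) y') ∧
      (pbCone c pY q hY).π.app l y ∈ C := by
  classical
  let DY := pbDiagram D i0 q0
  let cY := pbCone c pY q hY
  have hcY : IsLimit cY := isLimitPbCone c hc pY q hY
  haveI hDY : ∀ (i j : Over i0) (a : i ⟶ j), IsAffineHom (DY.map a) := fun _ _ a => inferInstance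
  haveI hcp : ∀ l : Over i0, CompactSpace (DY.obj l) := fun l =>
    compactSpace_pbDiagram_obj' D i0 q0 l
  haveI hqs : ∀ l : Over i0, QuasiSeparatedSpace (DY.obj l) := fun l =>
    quasiSeparatedSpace_pbDiagram_obj' D i0 q0 l
  haveI : LocallyOfFinitePresentation f :=
    MorphismProperty.of_isPullback (P := @LocallyOfFinitePresentation) hX inferInstance
  haveI : IsAffineHom (c.π.app i0) := isAffineHom_π_app D c hc i0
  haveI : IsAffineHom pY := MorphismProperty.of_isPullback (P := @IsAffineHom) hY.flip inferInstance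
  haveI : QuasiSeparatedSpace Y := quasiSeparatedSpace_of_quasiSeparated pY
  obtain ⟨x, rfl, hb⟩ := hy
  obtain ⟨Z, z, t, hZaff, hzimm, hzfp, hzqc, hzt, w, hw⟩ :=
    CDSpread.exists_fp_immersion_section f x hb
  obtain ⟨j, _, Zj, ιj, qz, himm, hfp, hqc, sq⟩ :=
    Groth.Agent.S4815.result DY cY hcY (Over.mk (𝟙 i0)) z
  haveI : CompactSpace Zj := QuasiCompact.compactSpace_of_compactSpace ιj
  haveI : QuasiSeparatedSpace Zj := quasiSeparatedSpace_of_quasiSeparated ιj
  let DZ := pbDiagram DY j ιj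
  let cZ := pbCone cY qz z sq
  have hcZ : IsLimit cZ := isLimitPbCone cY hcY qz z sq
  haveI hcpZ : ∀ k : Over j, CompactSpace (DZ.obj k) := fun k =>
    compactSpace_pbDiagram_obj' DY j ιj k
  haveI hqsZ : ∀ k : Over j, QuasiSeparatedSpace (DZ.obj k) := fun k =>
    quasiSeparatedSpace_pbDiagram_obj' DY j ιj k
  let tY0 : DZ ⟶ (Functor.const _).obj Y0 :=
    pbDiagramFst DY j ιj ≫ (Functor.const _).map (ιj ≫ pullback.fst q0 (D.map j.hom))
  have ha : cZ.π ≫ tY0 = (Functor.const _).map ((t ≫ pX) ≫ f0) := by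
    ext k : 2
    show cZ.π.app k ≫ pullback.fst ιj (DY.map k.hom) ≫ ιj ≫ pullback.fst q0 (D.map j.hom) =
      (t ≫ pX) ≫ f0
    rw [pbCone_π_fst_assoc, ← Category.assoc, sq.w, Category.assoc, pbCone_π_fst, Category.assoc,
      hX.w, ← Category.assoc, hzt]
  obtain ⟨k, g, hg1, hg2⟩ := Scheme.exists_π_app_comp_eq_of_locallyOfFinitePresentation DZ tY0 f0
    cZ hcZ (t ≫ pX) ha
  let l : Over i0 := k.left
  let ιk : DZ.obj k ⟶ DY.obj l := pullback.snd ιj (DY.map k.hom)
  have hg3 : g ≫ f0 = ιk ≫ pullback.fst q0 (D.map l.hom) := by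
    rw [hg2]
    show pullback.fst ιj (DY.map k.hom) ≫ ιj ≫ pullback.fst q0 (D.map j.hom) = _
    rw [← Category.assoc, pullback.condition, Category.assoc, pbDiagram_map_fst]
  let tk : DZ.obj k ⟶ pullback f0 (pullback.fst q0 (D.map l.hom)) := pullback.lift g ιk hg3
  have htk : tk ≫ pullback.snd f0 (pullback.fst q0 (D.map l.hom)) = ιk := pullback.lift_snd _ _ _
  haveI : IsImmersion ιk := inferInstanceAs (IsImmersion (pullback.snd ιj (DY.map k.hom)))
  haveI : LocallyOfFinitePresentation ιk :=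
    inferInstanceAs (LocallyOfFinitePresentation (pullback.snd ιj (DY.map k.hom)))
  haveI : QuasiCompact ιk := inferInstanceAs (QuasiCompact (pullback.snd ιj (DY.map k.hom)))
  refine ⟨l, Set.range ιk, ?_, ?_, ?_⟩
  · rw [← Set.image_univ]
    exact ιk.isConstructible_image IsConstructible.univ
  · rintro _ ⟨w', rfl⟩
    exact cdAt_of_section _ ιk tk htk w'
  · refine ⟨cZ.π.app k w, ?_⟩
    rw [← hw]
    have h1 : cZ.π.app k ≫ ιk = z ≫ cY.π.app l := (isPullback_pbCone_π cY qz z sq k).w
    have h2 := congr($h1 w)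
    simp only [Scheme.Hom.comp_apply] at h2
    exact h2

omit [IsCofiltered I] hD [CompactSpace Y0] [QuasiSeparatedSpace Y0]
  [LocallyOfFinitePresentation f0] in
lemma isPullback_stage {l' l : Over i0} (φ : l' ⟶ l) :
    IsPullback
      (pullback.lift (pullback.fst f0 (pullback.fst q0 (D.map l'.hom)))
        (pullback.snd f0 (pullback.fst q0 (D.map l'.hom)) ≫ (pbDiagram D i0 q0).map φ)
        (by rw [Category.assoc, pbDiagram_map_fst, pullback.condition]))
      (pullback.snd f0 (pullback.fst q0 (D.map l'.hom)))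
      (pullback.snd f0 (pullback.fst q0 (D.map l.hom))) ((pbDiagram D i0 q0).map φ) := by
  refine IsPullback.of_right ?_ (pullback.lift_snd _ _ _)
    (IsPullback.of_hasPullback f0 (pullback.fst q0 (D.map l.hom)))
  rw [pullback.lift_fst, pbDiagram_map_fst]
  exact IsPullback.of_hasPullback f0 (pullback.fst q0 (D.map l'.hom))

include hc hX hY in
/-- Complete decomposition descends to a finite stage. -/
theorem exists_stage_cd (hcd : ∀ y : Y, CDAt f y) :
    ∃ l : Over i0, ∀ y' : (pbDiagram D i0 q0).obj l,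
      CDAt (pullback.snd f0 (pullback.fst q0 (D.map l.hom))) y' := by
  classical
  let DY := pbDiagram D i0 q0
  let cY := pbCone c pY q hY
  have hcY : IsLimit cY := isLimitPbCone c hc pY q hY
  haveI hcp : ∀ l : Over i0, CompactSpace (DY.obj l) := fun l =>
    compactSpace_pbDiagram_obj' D i0 q0 l
  haveI hqs : ∀ l : Over i0, QuasiSeparatedSpace (DY.obj l) := fun l =>
    quasiSeparatedSpace_pbDiagram_obj' D i0 q0 l
  haveI : IsAffineHom (c.π.app i0) := isAffineHom_π_app D c hc i0
  haveI : IsAffineHom pY := MorphismProperty.of_isPullback (P := @IsAffineHom) hY.flip inferInstance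
  haveI : QuasiSeparatedSpace Y := quasiSeparatedSpace_of_quasiSeparated pY
  haveI : CompactSpace Y := QuasiCompact.compactSpace_of_compactSpace pY
  choose l C hC hCD hmem using fun y : Y =>
    exists_stage_constructible D c hc i0 f0 q0 f q pY pX hY hX y (hcd y)
  have hR : ∀ y : Y, IsConstructible (cY.π.app (l y) ⁻¹' C y) := fun y =>
    (cY.π.app (l y)).isConstructible_preimage (hC y)
  obtain ⟨s, hs⟩ := CDSpread.exists_finite_subcover_of_isConstructible
    (fun y : Y => cY.π.app (l y) ⁻¹' C y) hR (fun y => ⟨y, hmem y⟩)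
  obtain ⟨m, hm⟩ := IsCofiltered.inf_objs_exists (s.image l)
  let a : ∀ y : s, m ⟶ l y.1 := fun y => (hm (Finset.mem_image_of_mem l y.2)).some
  let Cm : Set (DY.obj m) := ⋃ y : s, DY.map (a y) ⁻¹' C y.1
  have hCm : IsConstructible Cm :=
    IsConstructible.iUnion fun y : s => (DY.map (a y)).isConstructible_preimage (hC y.1)
  have hCmCD : ∀ y' ∈ Cm, CDAt (pullback.snd f0 (pullback.fst q0 (D.map m.hom))) y' := by
    intro y' hy'
    obtain ⟨y0, hy0⟩ := Set.mem_iUnion.mp hy'
    have sq := isPullback_stage D i0 f0 q0 (a y0)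
    exact cdAt_of_isPullback sq y' (hCD y0.1 _ hy0)
  have hempty : (cY.π.app m).base ⁻¹' Cmᶜ = ∅ := by
    rw [Set.eq_empty_iff_forall_notMem]
    intro y hy
    apply hy
    obtain ⟨y0, hy0s, hy0⟩ := hs y
    refine Set.mem_iUnion.mpr ⟨⟨y0, hy0s⟩, ?_⟩
    show DY.map (a ⟨y0, hy0s⟩) (cY.π.app m y) ∈ C y0
    have h1 : cY.π.app m ≫ DY.map (a ⟨y0, hy0s⟩) = cY.π.app (l y0) := cY.w _
    have h2 := congr($h1 y)
    simp only [Scheme.Hom.comp_apply] at h2
    rw [h2]
    exact hy0
  obtain ⟨m', φ, hφ⟩ := LimConstr.exists_preimage_eq_empty DY cY hcY m Cmᶜ hCm.compl hempty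
  refine ⟨m', fun y' => ?_⟩
  have hy' : DY.map φ y' ∈ Cm := by
    by_contra hcon
    have : y' ∈ (DY.map φ).base ⁻¹' Cmᶜ := hcon
    rw [hφ] at this
    exact this
  have sq := isPullback_stage D i0 f0 q0 φ
  exact cdAt_of_isPullback sq y' (hCmCD _ hy')

end Main

end Groth.Agent.Lib.Helper12.CDLimit
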