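import Mathlib
import Groth.Prelude.Def_CohB1
import Groth.Prelude.Def_FGA

universe u

open CategoryTheory Limits AlgebraicGeometry TopologicalSpace Opposite

set_option backward.isDefEq.respectTransparency false
set_option linter.style.haveILetI false

namespace Groth.Agent.Lib.Helper12.ChowQcqs

open CohB1

/-- Projective space is compatible with base change. -/
lemma isPullback_projMap (n : ℕ) {T S : Scheme.{u}} (φ : T ⟶ S) :
    IsPullback (FGA.projMap n φ) (ProjSpaceOver.toBase n T) (ProjSpaceOver.toBase n S) φ := by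
  have hbig : IsPullback (FGA.projMap n φ ≫ pullback.fst (ProjSpace.toSpec n (ULift.{u} ℤ))
      (specULiftZIsTerminal.from S)) (ProjSpaceOver.toBase n T)
      (ProjSpace.toSpec n (ULift.{u} ℤ)) (φ ≫ specULiftZIsTerminal.from S) := by
    have e1 : FGA.projMap n φ ≫ pullback.fst (ProjSpace.toSpec n (ULift.{u} ℤ))
        (specULiftZIsTerminal.from S) = pullback.fst (ProjSpace.toSpec n (ULift.{u} ℤ))
        (specULiftZIsTerminal.from T) := by
      simp [FGA.projMap]
    have e2 : φ ≫ specULiftZIsTerminal.from S = specULiftZIsTerminal.from T :=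
      specULiftZIsTerminal.hom_ext _ _
    rw [e1, e2]
    exact IsPullback.of_hasPullback _ _
  refine IsPullback.of_right hbig ?_ (IsPullback.of_hasPullback _ _)
  simp [FGA.projMap, ProjSpaceOver.toBase]

/-- Base change of Chow data along a cartesian square, followed by restriction to a closed
subscheme. -/
theorem chow_baseChange {n : ℕ} {X X' Xi S Si Y : Scheme.{u}} (j : X ⟶ X') [IsClosedImmersion j]
    (q : X' ⟶ Xi) (f' : X' ⟶ S) (h : Xi ⟶ Si) (σ : S ⟶ Si) (sq : IsPullback q f' h σ)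
    (π₀ : Y ⟶ Xi) [IsProper π₀] [Surjective π₀] (imm : Y ⟶ ProjSpaceOver n Si) [IsImmersion imm]
    (himm : imm ≫ ProjSpaceOver.toBase n Si = π₀ ≫ h) :
    ∃ (X'' : Scheme.{u}) (π : X'' ⟶ X) (k : X'' ⟶ ProjSpaceOver n S),
      IsImmersion k ∧ k ≫ ProjSpaceOver.toBase n S = π ≫ j ≫ f' ∧ IsProper π ∧ Surjective π := by
  -- `Z = Y ×_{P^n_{S_i}} P^n_S`
  let Z := pullback imm (FGA.projMap n σ)
  have sqZ : IsPullback (pullback.fst imm (FGA.projMap n σ)) (pullback.snd imm (FGA.projMap n σ))
      imm (FGA.projMap n σ) := IsPullback.of_hasPullback _ _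
  have sqZS : IsPullback (pullback.fst imm (FGA.projMap n σ))
      (pullback.snd imm (FGA.projMap n σ) ≫ ProjSpaceOver.toBase n S) (π₀ ≫ h) σ := by
    have := sqZ.paste_vert (isPullback_projMap n σ)
    rwa [himm] at this
  -- the map `Z ⟶ X'`
  let zX' : Z ⟶ X' := sq.lift (pullback.fst imm (FGA.projMap n σ) ≫ π₀)
    (pullback.snd imm (FGA.projMap n σ) ≫ ProjSpaceOver.toBase n S) (by
      rw [Category.assoc]; exact sqZS.w)
  have hz1 : zX' ≫ q = pullback.fst imm (FGA.projMap n σ) ≫ π₀ := sq.lift_fst _ _ _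
  have hz2 : zX' ≫ f' = pullback.snd imm (FGA.projMap n σ) ≫ ProjSpaceOver.toBase n S :=
    sq.lift_snd _ _ _
  have sqC : IsPullback (pullback.fst imm (FGA.projMap n σ)) zX' π₀ q := by
    refine IsPullback.of_bot ?_ hz1.symm sq
    rw [hz2]
    exact sqZS
  -- `X'' = Y ×_{X_i} X`
  let X'' := pullback π₀ (j ≫ q)
  let xZ : X'' ⟶ Z := sqC.lift (pullback.fst π₀ (j ≫ q)) (pullback.snd π₀ (j ≫ q) ≫ j) (by
    rw [Category.assoc]; exact pullback.condition)
  have hx1 : xZ ≫ pullback.fst imm (FGA.projMap n σ) = pullback.fst π₀ (j ≫ q) :=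
    sqC.lift_fst _ _ _
  have hx2 : xZ ≫ zX' = pullback.snd π₀ (j ≫ q) ≫ j := sqC.lift_snd _ _ _
  have sqE : IsPullback xZ (pullback.snd π₀ (j ≫ q)) zX' j := by
    refine IsPullback.of_right ?_ hx2 sqC
    rw [hx1]
    exact IsPullback.of_hasPullback _ _
  haveI : IsClosedImmersion xZ :=
    MorphismProperty.of_isPullback (P := @IsClosedImmersion) sqE.flip inferInstance
  haveI : IsImmersion (pullback.snd imm (FGA.projMap n σ)) :=
    MorphismProperty.of_isPullback (P := @IsImmersion) sqZ inferInstance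
  refine ⟨X'', pullback.snd π₀ (j ≫ q), xZ ≫ pullback.snd imm (FGA.projMap n σ), inferInstance, ?_,
    inferInstance, inferInstance⟩
  rw [Category.assoc, ← hz2, ← Category.assoc, hx2, Category.assoc]

end Groth.Agent.Lib.Helper12.ChowQcqs
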