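import Mathlib

universe u

open CategoryTheory Limits AlgebraicGeometry TopologicalSpace Opposite

set_option backward.isDefEq.respectTransparency false
set_option linter.style.haveILetI false

namespace Groth.Agent.Lib.Helper12.ClosedApprox

open Scheme IdealSheafData

section Limit

variable {Y : Scheme.{u}} {A : Type u} [Preorder A] (J : A →o Y.IdealSheafData)

/-- The system of closed subschemes `V(J a)`. -/
noncomputable def subSys : Aᵒᵖ ⥤ Over Y :=
  J.monotone.functor.op ⋙ subschemeFunctor Y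

lemma subSys_obj (a : Aᵒᵖ) : (subSys J).obj a = Over.mk (J a.unop).subschemeι := rfl

lemma subSys_map_left {a b : Aᵒᵖ} (m : a ⟶ b) :
    ((subSys J).map m).left = inclusion (J.monotone (leOfHom m.unop)) := rfl

instance {a b : Aᵒᵖ} (m : a ⟶ b) : IsClosedImmersion ((subSys J).map m).left := by
  rw [subSys_map_left]; infer_instance

instance (a : Aᵒᵖ) : IsClosedImmersion ((subSys J).obj a).hom := by
  rw [subSys_obj]; exact inferInstanceAs (IsClosedImmersion (J a.unop).subschemeι)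

variable {T : Scheme.{u}} (g : T ⟶ Y) (hJ : ∀ a, J a ≤ g.ker)

/-- The cone over `V(J a)` with vertex any `g : T ⟶ Y` whose kernel contains all `J a`. -/
noncomputable def subCone : Cone (subSys J) where
  pt := Over.mk g
  π :=
    { app := fun a => Over.homMk (g.toImage ≫ inclusion (hJ a.unop)) (by
        show (g.toImage ≫ inclusion (hJ a.unop)) ≫ (J a.unop).subschemeι = g
        rw [Category.assoc, inclusion_subschemeι, Hom.toImage_imageι])
      naturality := fun a b m => by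
        ext
        show 𝟙 T ≫ g.toImage ≫ inclusion (hJ b.unop) =
          (g.toImage ≫ inclusion (hJ a.unop)) ≫ inclusion (J.monotone (leOfHom m.unop))
        rw [Category.id_comp, Category.assoc, inclusion_comp] }

/-- `V(I) = lim V(J a)` whenever `J a ≤ I ≤ ⨆ J a`. -/
theorem nonempty_isLimit_subCone [IsClosedImmersion g] (hsup : g.ker ≤ ⨆ a, J a) :
    Nonempty (IsLimit (subCone J g hJ)) := by
  have hker : ∀ s : Cone (subSys J), g.ker ≤ s.pt.hom.ker := fun s => by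
    refine hsup.trans (iSup_le fun a => ?_)
    have h1 : (s.π.app (op a)).left ≫ (J a).subschemeι = s.pt.hom := Over.w (s.π.app (op a))
    rw [← h1]
    conv_lhs => rw [← (J a).ker_subschemeι]
    exact Hom.le_ker_comp _ _
  refine ⟨
    { lift := fun s => Over.homMk (s.pt.hom.toImage ≫ inclusion (hker s) ≫ inv g.toImage) ?_
      fac := fun s a => ?_
      uniq := fun s m hm => ?_ }⟩
  · show (s.pt.hom.toImage ≫ inclusion (hker s) ≫ inv g.toImage) ≫ g = s.pt.hom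
    have : inv g.toImage ≫ g = g.imageι := by
      rw [IsIso.inv_comp_eq, Hom.toImage_imageι]
    rw [Category.assoc, Category.assoc, this, inclusion_subschemeι, Hom.toImage_imageι]
  · ext
    show (s.pt.hom.toImage ≫ inclusion (hker s) ≫ inv g.toImage) ≫
      (g.toImage ≫ inclusion (hJ a.unop)) = (s.π.app a).left
    rw [← cancel_mono (J a.unop).subschemeι]
    simp only [Category.assoc, IsIso.inv_hom_id_assoc, inclusion_subschemeι,
      Hom.toImage_imageι]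
    exact (Over.w (s.π.app a)).symm
  · ext
    show m.left = s.pt.hom.toImage ≫ inclusion (hker s) ≫ inv g.toImage
    rw [← cancel_mono g]
    have h1 : m.left ≫ g = s.pt.hom := Over.w m
    have : inv g.toImage ≫ g = g.imageι := by
      rw [IsIso.inv_comp_eq, Hom.toImage_imageι]
    rw [h1, Category.assoc, Category.assoc, this, inclusion_subschemeι, Hom.toImage_imageι]

end Limit

section Comap

variable {X Y : Scheme.{u}}

/-- The pullback ideal sheaf contains the pullbacks of sections. -/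
lemma appLE_mem_comap (K : Y.IdealSheafData) (f : X ⟶ Y) (V : Y.affineOpens) (U : X.affineOpens)
    (e : U.1 ≤ f ⁻¹ᵁ V.1) (t : Γ(Y, V.1)) (ht : t ∈ K.ideal V) :
    (f.appLE V.1 U.1 e).hom t ∈ (K.comap f).ideal U := by
  let p := pullback.fst f K.subschemeι
  let q := pullback.snd f K.subschemeι
  haveI : IsClosedImmersion p := inferInstance
  show _ ∈ (p.ker).ideal U
  rw [Hom.ker_apply, RingHom.mem_ker]
  have e1 : p ⁻¹ᵁ U.1 ≤ (p ≫ f) ⁻¹ᵁ V.1 := by
    rw [Scheme.Hom.comp_preimage]; exact p.preimage_mono e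
  have h1 : (f.appLE V.1 U.1 e ≫ p.app U.1) = (p ≫ f).appLE V.1 (p ⁻¹ᵁ U.1) e1 := by
    rw [p.app_eq_appLE, Scheme.Hom.appLE_comp_appLE]
  have h2 : (p.app U.1).hom ((f.appLE V.1 U.1 e).hom t) =
      ((p ≫ f).appLE V.1 (p ⁻¹ᵁ U.1) e1).hom t := by
    rw [← h1]; rfl
  rw [h2]
  have e2 : p ⁻¹ᵁ U.1 ≤ (q ≫ K.subschemeι) ⁻¹ᵁ V.1 := by
    rw [← pullback.condition]; exact e1
  have h3 : (p ≫ f).appLE V.1 (p ⁻¹ᵁ U.1) e1 = (q ≫ K.subschemeι).appLE V.1 (p ⁻¹ᵁ U.1) e2 := by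
    congr 1
    exact pullback.condition
  rw [h3, Scheme.Hom.comp_appLE]
  have h4 : (K.subschemeι.app V.1).hom t = 0 := by
    have := K.ker_subschemeι_app V
    rw [← RingHom.mem_ker, this]
    exact ht
  show (q.appLE _ _ _).hom ((K.subschemeι.app V.1).hom t) = 0
  rw [h4, map_zero]

end Comap

section Sections

variable {K : Type u} [SmallCategory K] [IsCofiltered K] (D : K ⥤ Scheme.{u})
  [∀ {i j : K} (f : i ⟶ j), IsAffineHom (D.map f)] (c : Cone D) (hc : IsLimit c)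

lemma topIso_resLE {X Y : Scheme.{u}} (f : X ⟶ Y) (U : Y.Opens) (V : X.Opens) (e : V ≤ f ⁻¹ᵁ U) :
    U.topIso.inv ≫ (f.resLE U V e).appTop ≫ V.topIso.hom = f.appLE U V e := by
  simp [Scheme.Hom.app_eq_appLE, Scheme.Hom.resLE_appLE]

include hc in
/-- Sections of the limit over the preimage of an affine open come from a finite stage. -/
lemma exists_appLE_eq (k₀ : K) (U₀ : (D.obj k₀).Opens) (hU₀ : IsAffineOpen U₀)
    (s : Γ(c.pt, c.π.app k₀ ⁻¹ᵁ U₀)) :
    ∃ (j : Over k₀) (t : Γ(D.obj j.left, D.map j.hom ⁻¹ᵁ U₀)),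
      s = ((c.π.app j.left).appLE (D.map j.hom ⁻¹ᵁ U₀) (c.π.app k₀ ⁻¹ᵁ U₀)
        (by rw [← Scheme.Hom.comp_preimage, c.w])).hom t := by
  haveI : ∀ j, IsAffine ((opensDiagram D k₀ U₀).obj j) := fun j => hU₀.preimage _
  obtain ⟨j, t', ht'⟩ := exists_appTop_π_eq_of_isLimit (opensDiagram D k₀ U₀)
    (opensCone D c k₀ U₀) (isLimitOpensCone D c hc k₀ U₀)
    ((c.π.app k₀ ⁻¹ᵁ U₀).topIso.inv s)
  refine ⟨j, (D.map j.hom ⁻¹ᵁ U₀).topIso.hom t', ?_⟩
  have e : c.π.app k₀ ⁻¹ᵁ U₀ ≤ c.π.app j.left ⁻¹ᵁ D.map j.hom ⁻¹ᵁ U₀ := by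
    rw [← Scheme.Hom.comp_preimage, c.w]
  have key := topIso_resLE (c.π.app j.left) (D.map j.hom ⁻¹ᵁ U₀) (c.π.app k₀ ⁻¹ᵁ U₀) e
  have h2 : (c.π.app k₀ ⁻¹ᵁ U₀).topIso.hom ((c.π.app k₀ ⁻¹ᵁ U₀).topIso.inv s) = s := by
    rw [← CommRingCat.comp_apply, Iso.inv_hom_id]; rfl
  rw [← h2, ht', ← key]
  simp only [CommRingCat.comp_apply]
  rw [← CommRingCat.comp_apply (D.map j.hom ⁻¹ᵁ U₀).topIso.hom, Iso.hom_inv_id]
  rfl

variable {X : Scheme.{u}} (ι : X ⟶ c.pt)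

/-- The ideal sheaf on the limit pulled back from the scheme-theoretic image in the stage `k`. -/
noncomputable def Jk (k : K) : c.pt.IdealSheafData := ((ι ≫ c.π.app k).ker).comap (c.π.app k)

lemma Jk_le (k : K) : Jk D c ι k ≤ ι.ker := by
  unfold Jk
  rw [← map_ker]
  exact comap_map_le _ _

lemma Jk_mono {k k' : K} (m : k' ⟶ k) : Jk D c ι k ≤ Jk D c ι k' := by
  unfold Jk
  have h1 : ι ≫ c.π.app k = (ι ≫ c.π.app k') ≫ D.map m := by rw [Category.assoc, c.w]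
  have h2 : c.π.app k = c.π.app k' ≫ D.map m := (c.w m).symm
  rw [h1, ← map_ker, h2, comap_comp]
  exact comap_mono _ (comap_map_le _ _)

include hc in
/-- The ideal of a closed subscheme of the limit is the union of the ideals pulled back from the
scheme-theoretic images in the stages. -/
theorem ker_le_iSup_Jk [IsClosedImmersion ι] : ι.ker ≤ ⨆ k, Jk D c ι k := by
  obtain ⟨k₀⟩ := IsCofiltered.nonempty (C := K)
  haveI hπ : ∀ k, IsAffineHom (c.π.app k) := fun k => isAffineHom_π_app D c hc k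
  refine le_of_iSup_eq_top
    (fun U₀ : (D.obj k₀).affineOpens => (⟨c.π.app k₀ ⁻¹ᵁ U₀.1, U₀.2.preimage (c.π.app k₀)⟩ :
      c.pt.affineOpens)) ?_ ?_
  · show ⨆ U₀ : (D.obj k₀).affineOpens, c.π.app k₀ ⁻¹ᵁ U₀.1 = ⊤
    rw [← Scheme.Hom.preimage_iSup, iSup_affineOpens_eq_top]
    rfl
  · intro U₀ s hs
    obtain ⟨j, t, rfl⟩ := exists_appLE_eq D c hc k₀ U₀.1 U₀.2 s
    have e : c.π.app k₀ ⁻¹ᵁ U₀.1 ≤ c.π.app j.left ⁻¹ᵁ D.map j.hom ⁻¹ᵁ U₀.1 := by
      rw [← Scheme.Hom.comp_preimage, c.w]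
    have hU₁ : IsAffineOpen (D.map j.hom ⁻¹ᵁ U₀.1) := U₀.2.preimage (D.map j.hom)
    -- `t` lies in the ideal of the scheme-theoretic image
    have ht : t ∈ ((ι ≫ c.π.app j.left).ker).ideal ⟨D.map j.hom ⁻¹ᵁ U₀.1, hU₁⟩ := by
      rw [Hom.ker_apply, RingHom.mem_ker]
      rw [Hom.ker_apply, RingHom.mem_ker] at hs
      have e2 : ι ⁻¹ᵁ (c.π.app k₀ ⁻¹ᵁ U₀.1) ≤ (ι ≫ c.π.app j.left) ⁻¹ᵁ (D.map j.hom ⁻¹ᵁ U₀.1) := by
        rw [Scheme.Hom.comp_preimage]; exact ι.preimage_mono e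
      have e3 : (ι ≫ c.π.app j.left) ⁻¹ᵁ (D.map j.hom ⁻¹ᵁ U₀.1) ≤
          ι ⁻¹ᵁ (c.π.app k₀ ⁻¹ᵁ U₀.1) := by
        rw [Scheme.Hom.comp_preimage, ← Scheme.Hom.comp_preimage (c.π.app j.left), c.w]
      have h1 : (ι ≫ c.π.app j.left).appLE (D.map j.hom ⁻¹ᵁ U₀.1)
          (ι ⁻¹ᵁ (c.π.app k₀ ⁻¹ᵁ U₀.1)) e2 =
          (c.π.app j.left).appLE (D.map j.hom ⁻¹ᵁ U₀.1) (c.π.app k₀ ⁻¹ᵁ U₀.1) e ≫
            ι.app (c.π.app k₀ ⁻¹ᵁ U₀.1) := by
        rw [ι.app_eq_appLE, Scheme.Hom.appLE_comp_appLE]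
      have h2 : (ι ≫ c.π.app j.left).app (D.map j.hom ⁻¹ᵁ U₀.1) =
          (ι ≫ c.π.app j.left).appLE (D.map j.hom ⁻¹ᵁ U₀.1)
            (ι ⁻¹ᵁ (c.π.app k₀ ⁻¹ᵁ U₀.1)) e2 ≫ X.presheaf.map (homOfLE e3).op := by
        rw [Scheme.Hom.appLE_map, Scheme.Hom.app_eq_appLE]
      rw [h2, h1]
      simp only [CommRingCat.comp_apply]
      erw [hs]
      rw [map_zero]
    exact (le_iSup (Jk D c ι) j.left) _
      (appLE_mem_comap _ (c.π.app j.left) ⟨D.map j.hom ⁻¹ᵁ U₀.1, hU₁⟩ _ e t ht)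

end Sections

end Groth.Agent.Lib.Helper12.ClosedApprox
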