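import Mathlib
import Groth.Agent.Lib.Helper12.ClosedApprox
import Groth.Agent.Lib.Helper12.ApproxWrap
import Groth.Agent.S0590

universe u

open CategoryTheory Limits AlgebraicGeometry TopologicalSpace Opposite

set_option backward.isDefEq.respectTransparency false
set_option linter.style.haveILetI false

namespace Groth.Agent.Lib.Helper12.ClosedApprox

open Scheme IdealSheafData

/-- A closed subscheme of a qcqs scheme is a directed intersection of closed subschemes of finite
presentation (Stacks 09ZP-type statement). -/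
theorem exists_closed_approx {X Y : Scheme.{u}} (ι : X ⟶ Y) [IsClosedImmersion ι]
    [CompactSpace Y] [QuasiSeparatedSpace Y] :
    ∃ (A : Type u) (_ : Preorder A) (_ : IsDirected A (· ≤ ·)) (_ : Nonempty A)
      (J : A →o Y.IdealSheafData) (hJ : ∀ a, J a ≤ ι.ker),
      Nonempty (IsLimit (subCone J ι hJ)) ∧
        ∀ a, LocallyOfFinitePresentation (J a).subschemeι := by
  classical
  obtain ⟨A, iA1, iA2, iA3, D, c₀, hc₀, haff, hft, ⟨eY⟩⟩ := Groth.Agent.S0590.result Y
  let c : Cone D := c₀.extend eY.inv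
  have hc : IsLimit c := IsLimit.extendIso eY.inv hc₀
  haveI : ∀ {i j : Aᵒᵖ} (a : i ⟶ j), IsAffineHom (D.map a) := fun a => haff _ _ a
  let J : A →o Y.IdealSheafData :=
    ⟨fun a => Jk D c (ι : X ⟶ c.pt) (op a), fun a a' h => Jk_mono D c (ι : X ⟶ c.pt) (homOfLE h).op⟩
  have hJ : ∀ a, J a ≤ ι.ker := fun a => Jk_le D c (ι : X ⟶ c.pt) (op a)
  have hsup : ι.ker ≤ ⨆ a, J a := by
    refine (ker_le_iSup_Jk D c hc (ι : X ⟶ c.pt)).trans (iSup_le fun k => ?_)
    exact le_iSup (fun a => J a) k.unop
  refine ⟨A, iA1, iA2, iA3, J, hJ, nonempty_isLimit_subCone J ι hJ hsup, fun a => ?_⟩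
  let Ki : (D.obj (op a)).IdealSheafData := ((ι : X ⟶ c.pt) ≫ c.π.app (op a)).ker
  have h1 : (J a).subschemeι =
      (Ki.comapIso (c.π.app (op a))).hom ≫ pullback.fst (c.π.app (op a)) Ki.subschemeι :=
    (comapIso_hom_fst Ki (c.π.app (op a))).symm
  haveI : LocallyOfFinitePresentation Ki.subschemeι := by
    haveI := (hft (op a)).2
    haveI : IsLocallyNoetherian (D.obj (op a)) :=
      LocallyOfFiniteType.isLocallyNoetherian (specULiftZIsTerminal.from (D.obj (op a)))
    rw [LocallyOfFinitePresentation.iff_locallyOfFiniteType]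
    infer_instance
  rw [h1]
  infer_instance

/-- Pushing the system of closed subschemes forward along a morphism of the ambient scheme. -/
theorem nonempty_isLimit_mapCone_subCone {X Y S : Scheme.{u}} (ι : X ⟶ Y) (p : Y ⟶ S)
    {A : Type u} [Preorder A] [IsDirected A (· ≤ ·)] [Nonempty A]
    (J : A →o Y.IdealSheafData) (hJ : ∀ a, J a ≤ ι.ker) (h : IsLimit (subCone J ι hJ)) :
    Nonempty (IsLimit ((Over.map p).mapCone (subCone J ι hJ))) := by
  haveI : IsConnected Aᵒᵖ := IsCofiltered.isConnected _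
  have h1 : IsLimit ((Over.forget Y).mapCone (subCone J ι hJ)) := isLimitOfPreserves _ h
  have h2 : IsLimit ((Over.forget S).mapCone ((Over.map p).mapCone (subCone J ι hJ))) := h1
  exact ⟨isLimitOfReflects (Over.forget S) h2⟩

end Groth.Agent.Lib.Helper12.ClosedApprox
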