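import Mathlib

/-!
# Lifting integrality from a principal quotient, maximal points (helper12)
-/

set_option autoImplicit false
set_option linter.style.haveILetI false
set_option linter.deprecated false
universe u
open TensorProduct

namespace Groth.Agent.Lib.Helper12.IrrDVR

/-- In a Noetherian local ring, if `ϖ` is a nonzerodivisor in the maximal ideal and `A/ϖ` is a
domain, then `A` is a domain. -/
theorem isDomain_of_isDomain_quotient {A : Type*} [CommRing A] [IsNoetherianRing A] [IsLocalRing A]
    (ϖ : A) (hnzd : ϖ ∈ nonZeroDivisors A)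
    (hP : (Ideal.span {ϖ}).IsPrime) : IsDomain A := by
  have hne : Ideal.span {ϖ} ≠ ⊤ := hP.ne_top
  have hkrull : ⨅ i : ℕ, Ideal.span {ϖ} ^ i = ⊥ := Ideal.iInf_pow_eq_bot_of_isLocalRing _ hne
  -- factor out the maximal power of `ϖ`
  have hfac : ∀ a : A, a ≠ 0 → ∃ (k : ℕ) (a' : A), a = ϖ ^ k * a' ∧ a' ∉ Ideal.span {ϖ} := by
    intro a ha
    have hex : ∃ n : ℕ, a ∉ Ideal.span {ϖ} ^ n := by
      by_contra hcon
      push_neg at hcon
      apply ha
      have : a ∈ ⨅ i : ℕ, Ideal.span {ϖ} ^ i := by
        rw [Ideal.mem_iInf]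
        exact hcon
      rw [hkrull] at this
      exact this
    classical
    let n := Nat.find hex
    have hn : a ∉ Ideal.span {ϖ} ^ n := Nat.find_spec hex
    have hn0 : n ≠ 0 := by
      intro h0
      apply hn
      rw [h0, pow_zero, Ideal.one_eq_top]
      trivial
    obtain ⟨k, hk⟩ := Nat.exists_eq_succ_of_ne_zero hn0
    have hk' : a ∈ Ideal.span {ϖ} ^ k := by
      by_contra hcon
      have := Nat.find_min' hex hcon
      omega
    rw [Ideal.span_singleton_pow, Ideal.mem_span_singleton'] at hk'
    obtain ⟨a', ha'⟩ := hk'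
    refine ⟨k, a', by rw [← ha', mul_comm], ?_⟩
    intro hmem
    apply hn
    rw [hk, pow_succ, Ideal.span_singleton_pow]
    rw [Ideal.mem_span_singleton'] at hmem
    obtain ⟨c, hc⟩ := hmem
    rw [← ha', ← hc]
    rw [Ideal.span_singleton_mul_span_singleton, Ideal.mem_span_singleton']
    exact ⟨c, by ring⟩
  haveI : Nontrivial A := inferInstance
  haveI : NoZeroDivisors A := by
    constructor
    intro a b hab
    by_contra hcon
    push_neg at hcon
    obtain ⟨k, a', rfl, ha'⟩ := hfac a hcon.1
    obtain ⟨l, b', rfl, hb'⟩ := hfac b hcon.2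
    have h1 : ϖ ^ (k + l) * (a' * b') = 0 := by
      rw [← hab]; ring
    have h2 : a' * b' = 0 := by
      have hpow : ϖ ^ (k + l) ∈ nonZeroDivisors A := pow_mem hnzd _
      exact (mul_left_mem_nonZeroDivisors_eq_zero_iff hpow).mp h1
    have h3 : a' * b' ∈ Ideal.span {ϖ} := by rw [h2]; exact Ideal.zero_mem _
    rcases hP.mem_or_mem h3 with h | h
    · exact ha' h
    · exact hb' h
  exact NoZeroDivisors.to_isDomain A

/-- Localizations of a flat Noetherian algebra `B` over a domain at primes containing a nonzero
element `ϖ` with `B/ϖB` a domain are domains. -/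
theorem isDomain_atPrime {R B : Type*} [CommRing R] [IsDomain R] [CommRing B] [IsNoetherianRing B]
    [Algebra R B] [Module.Flat R B] (ϖ : R) (hϖ0 : ϖ ≠ 0)
    (hP : (Ideal.span {algebraMap R B ϖ}).IsPrime) (q : Ideal B) [q.IsPrime]
    (hq : algebraMap R B ϖ ∈ q) : IsDomain (Localization.AtPrime q) := by
  haveI : IsNoetherianRing (Localization.AtPrime q) :=
    IsLocalization.isNoetherianRing q.primeCompl _ inferInstance
  haveI : Module.Flat R (Localization.AtPrime q) := Module.Flat.trans R B _
  refine isDomain_of_isDomain_quotient (algebraMap B (Localization.AtPrime q) (algebraMap R B ϖ))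
    ?_ ?_
  · have h1 : IsSMulRegular (Localization.AtPrime q) ϖ :=
      Module.Flat.isSMulRegular_of_nonZeroDivisors (mem_nonZeroDivisors_of_ne_zero hϖ0)
    rw [← IsScalarTower.algebraMap_apply]
    rw [mem_nonZeroDivisors_iff_right]
    intro x hx
    apply h1
    show ϖ • x = ϖ • 0
    rw [smul_zero, Algebra.smul_def, mul_comm]
    exact hx
  · have hdisj : Disjoint (q.primeCompl : Set B) (Ideal.span {algebraMap R B ϖ} : Set B) := by
      rw [Set.disjoint_left]
      intro b hb hb'
      exact hb ((Ideal.span_le.mpr (Set.singleton_subset_iff.mpr hq)) hb')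
    have := IsLocalization.isPrime_of_isPrime_disjoint q.primeCompl (Localization.AtPrime q) _
      hP hdisj
    rwa [Ideal.map_span, Set.image_singleton] at this

section top
open Topology

/-- a point with no proper generization -/
def IsMaxPt {X : Type*} [TopologicalSpace X] (ξ : X) : Prop := ∀ t : X, t ⤳ ξ → t = ξ

theorem exists_isMaxPt_specializes {X : Type*} [TopologicalSpace X] [QuasiSober X] [T0Space X]
    (x : X) : ∃ ξ, IsMaxPt ξ ∧ ξ ⤳ x := by
  obtain ⟨ξ, hξ⟩ := QuasiSober.sober (isIrreducible_irreducibleComponent (x := x))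
    isClosed_irreducibleComponent
  refine ⟨ξ, ?_, ?_⟩
  · intro t ht
    have h1 : irreducibleComponent x ⊆ closure {t} := by
      rw [← hξ.def]
      exact (specializes_iff_closure_subset.mp ht)
    have hirr : IsIrreducible (closure ({t} : Set X)) := isIrreducible_singleton.closure
    have hmem := irreducibleComponent_mem_irreducibleComponents x
    have h2 : closure {t} = irreducibleComponent x :=
      le_antisymm (hmem.2 hirr h1) h1
    have h3 : IsGenericPoint t (irreducibleComponent x) := h2
    exact h3.eq hξ
  · rw [specializes_iff_mem_closure, hξ.def]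
    exact mem_irreducibleComponent

/-- if all points have the same maximal generization, the space is irreducible -/
theorem irreducibleSpace_of_forall_specializes {X : Type*} [TopologicalSpace X] (ξ : X)
    (h : ∀ x : X, ξ ⤳ x) : IrreducibleSpace X := by
  have h1 : (Set.univ : Set X) = closure {ξ} := by
    symm
    rw [Set.eq_univ_iff_forall]
    intro x
    exact specializes_iff_mem_closure.mp (h x)
  have h2 : IsIrreducible (Set.univ : Set X) := by
    rw [h1]
    exact isIrreducible_singleton.closure
  exact (irreducibleSpace_def X).mpr h2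


end top

end Groth.Agent.Lib.Helper12.IrrDVR
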