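import Mathlib
import Groth.Agent.Lib.Helper28.GenFreeFT

/-!
# Scheme-theoretic density spreads out: algebra (helper12)

`NoAnn g`: the family `g` of elements of a commutative ring has no common annihilator. For a finite
family this says that the open `⋃ D(g j)` is scheme-theoretically dense in the spectrum.
-/

set_option autoImplicit false
universe u v
open TensorProduct nonZeroDivisors

namespace Groth.Agent.Lib.Helper12.SchDenseAlg

open Groth.Agent.Lib.Helper28.GenFree

/-- The family `g` has no nonzero common annihilator. -/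
def NoAnn {C : Type*} [CommRing C] {ι : Type*} (g : ι → C) : Prop :=
  ∀ c : C, (∀ j, g j * c = 0) → c = 0

section pow

variable {C : Type*} [CommRing C] {ι : Type*} [Finite ι] {g : ι → C}

theorem NoAnn.eq_zero_of_pow_mul (hg : NoAnn g) (e : ι → ℕ) :
    ∀ c : C, (∀ j, g j ^ e j * c = 0) → c = 0 := by
  classical
  induction e using WellFoundedLT.induction with
  | ind e ih =>
    intro c hc
    by_cases h2 : ∃ j₀, 2 ≤ e j₀
    · obtain ⟨j₀, hj₀⟩ := h2
      have hd : g j₀ ^ (e j₀ - 1) * c = 0 := by
        apply ih (Function.update e j₀ 1) (update_lt_self_iff.2 (by omega))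
        intro j
        by_cases hj : j = j₀
        · subst hj
          rw [Function.update_self, pow_one, ← mul_assoc, ← pow_succ']
          have : e j - 1 + 1 = e j := by omega
          rw [this]
          exact hc j
        · rw [Function.update_of_ne hj, mul_left_comm, hc j, mul_zero]
      apply ih (Function.update e j₀ (e j₀ - 1)) (update_lt_self_iff.2 (by omega))
      intro j
      by_cases hj : j = j₀
      · subst hj
        rw [Function.update_self]
        exact hd
      · rw [Function.update_of_ne hj]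
        exact hc j
    · push Not at h2
      apply hg
      intro j
      have h1 := hc j
      have h3 := h2 j
      interval_cases h : e j
      · rw [pow_zero, one_mul] at h1
        rw [h1, mul_zero]
      · rwa [pow_one] at h1

end pow

section transfer

variable {C D : Type*} [CommRing C] [CommRing D] {ι : Type*}

theorem NoAnn.of_ringEquiv (e : C ≃+* D) {g : ι → C} {g' : ι → D} (h : ∀ j, e (g j) = g' j)
    (hg : NoAnn g) : NoAnn g' := by
  intro d hd
  have h1 : e.symm d = 0 := by
    apply hg
    intro j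
    apply e.injective
    rw [map_mul, h, e.apply_symm_apply, hd, map_zero]
  simpa using congrArg e h1

end transfer

section domain

variable {A : Type u} [CommRing A] [IsDomain A] {B : Type u} [CommRing B] [Algebra A B]
  [Algebra.FiniteType A B]

/-- the multiplication map `b ↦ (g j * b)_j` -/
noncomputable def mulMap {ι : Type} (g : ι → B) : B →ₗ[B] (ι → B) :=
  LinearMap.pi (fun j => LinearMap.mulLeft B (g j))

@[simp] lemma mulMap_apply {ι : Type} (g : ι → B) (b : B) (j : ι) : mulMap g b j = g j * b := rfl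

theorem noAnn_tensor_of_injective {ι : Type} [Fintype ι] (g : ι → B)
    (L : Type u) [CommRing L] [Algebra A L]
    (h : Function.Injective (((mulMap g).restrictScalars A).lTensor L)) :
    NoAnn (fun j => (1 : L) ⊗ₜ[A] g j) := by
  classical
  have key : ∀ (c : L ⊗[A] B) (j : ι),
      (TensorProduct.piRight A A L (fun _ : ι => B))
        ((((mulMap g).restrictScalars A).lTensor L) c) j = ((1 : L) ⊗ₜ[A] g j) * c := by
    intro c j
    induction c using TensorProduct.induction_on with
    | zero => simp
    | tmul l b =>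
      simp [LinearMap.lTensor_tmul, TensorProduct.piRight_apply, TensorProduct.piRightHom_tmul,
        Algebra.TensorProduct.tmul_mul_tmul]
    | add x y hx hy =>
      simp only [map_add, Pi.add_apply, mul_add, hx, hy]
  intro c hc
  apply h
  rw [map_zero]
  apply (TensorProduct.piRight A A L (fun _ : ι => B)).injective
  rw [map_zero]
  funext j
  rw [Pi.zero_apply, key, hc j]

end domain

section general_lemmas

variable {A : Type u} [CommRing A]

/-- base change to an algebra in which `s` is invertible, through `Localization.Away s` -/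
theorem lTensor_injective_of_away {P Q M : Type u} [AddCommGroup P] [AddCommGroup Q]
    [AddCommGroup M] [Module A P] [Module A Q] [Module A M] (s : A)
    (φ : P →ₗ[A] Q) (π : Q →ₗ[A] M) (hex : Function.Exact φ π) (hπ : Function.Surjective π)
    (hinj : Function.Injective (φ.lTensor (Localization.Away s)))
    [Module.Flat (Localization.Away s) (Localization.Away s ⊗[A] M)]
    (L : Type u) [CommRing L] [Algebra A L] (hu : IsUnit (algebraMap A L s)) :
    Function.Injective (φ.lTensor L) := by
  let φ' : Localization.Away s ⊗[A] P →ₗ[Localization.Away s] Localization.Away s ⊗[A] Q :=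
    φ.baseChange _
  let π' : Localization.Away s ⊗[A] Q →ₗ[Localization.Away s] Localization.Away s ⊗[A] M :=
    π.baseChange _
  have hex2 : Function.Exact φ' π' := lTensor_exact (Localization.Away s) hex hπ
  have hπ' : Function.Surjective π' := LinearMap.lTensor_surjective _ hπ
  have hinj' : Function.Injective φ' := hinj
  let ψ : Localization.Away s →+* L := IsLocalization.Away.lift s hu
  letI : Algebra (Localization.Away s) L := ψ.toAlgebra
  haveI : IsScalarTower A (Localization.Away s) L :=
    IsScalarTower.of_algebraMap_eq (fun r => (IsLocalization.Away.lift_eq s hu r).symm)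
  have hinjL : Function.Injective (φ'.lTensor L) :=
    LinearMap.lTensor_injective_of_exact_of_flat π' hπ' φ' hinj' hex2 L
  let eB := TensorProduct.AlgebraTensorModule.cancelBaseChange A (Localization.Away s) L L P
  let eN := TensorProduct.AlgebraTensorModule.cancelBaseChange A (Localization.Away s) L L Q
  have hnat : ∀ x, eN ((φ'.lTensor L) x) = (φ.lTensor L) (eB x) := by
    intro x
    induction x using TensorProduct.induction_on with
    | zero => simp
    | tmul l y =>
      induction y using TensorProduct.induction_on with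
      | zero => simp
      | tmul a b =>
        simp [eB, eN, φ', LinearMap.lTensor_tmul, LinearMap.baseChange_tmul,
          TensorProduct.AlgebraTensorModule.cancelBaseChange_tmul]
      | add y₁ y₂ h₁ h₂ =>
        simp only [TensorProduct.tmul_add, map_add, h₁, h₂]
    | add x₁ x₂ h₁ h₂ => simp only [map_add, h₁, h₂]
  intro x y hxy
  obtain ⟨x', rfl⟩ := eB.surjective x
  obtain ⟨y', rfl⟩ := eB.surjective y
  rw [← hnat, ← hnat] at hxy
  exact congrArg eB (hinjL (eN.injective hxy))

variable [IsDomain A]

/-- a map with torsion kernel out of a generically free module becomes injective after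
localization -/
theorem lTensor_injective_of_torsion_ker {P Q : Type u} [AddCommGroup P] [AddCommGroup Q]
    [Module A P] [Module A Q] {s : A} (hs : s ≠ 0) (φ : P →ₗ[A] Q)
    (htors : ∀ b ∈ LinearMap.ker φ, ∃ r ∈ A⁰, r • b = 0) (hfree : FreeAt s P) :
    Function.Injective (φ.lTensor (Localization.Away s)) := by
  unfold FreeAt at hfree
  haveI := away_isDomain hs
  rw [injective_iff_map_eq_zero]
  intro z hz
  have hex' := Module.Flat.lTensor_exact (Localization.Away s)
    (LinearMap.exact_subtype_ker_map φ)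
  obtain ⟨w, rfl⟩ := (hex' z).1 hz
  obtain ⟨r, hr, hrw⟩ := exists_smul_tmul_eq_zero (Localization.Away s) _ htors w
  have hr0 : r ≠ 0 := nonZeroDivisors.ne_zero hr
  have h1 : (algebraMap A (Localization.Away s) r) •
      ((LinearMap.ker φ).subtype.lTensor (Localization.Away s)) w = 0 := by
    rw [algebraMap_smul, ← map_smul, hrw, map_zero]
  exact (smul_eq_zero_iff_right (away_algebraMap_ne_zero hs hr0)).1 h1

end general_lemmas

section domain2

variable {A : Type u} [CommRing A] [IsDomain A] {B : Type u} [CommRing B] [Algebra A B]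
  [Algebra.FiniteType A B]

theorem ker_mulMap_torsion {ι : Type} (g : ι → B) (K : Type u) [Field K] [Algebra A K]
    [IsFractionRing A K] (h : NoAnn (fun j => (1 : K) ⊗ₜ[A] g j)) :
    ∀ b ∈ LinearMap.ker ((mulMap g).restrictScalars A), ∃ r ∈ A⁰, r • b = 0 := by
  haveI hloc : IsLocalizedModule A⁰ (TensorProduct.mk A K B 1) :=
    (isLocalizedModule_iff_isBaseChange A⁰ K _).2 (TensorProduct.isBaseChange A B K)
  intro b hb
  have hb' : ∀ j, g j * b = 0 := fun j => congrFun (LinearMap.mem_ker.1 hb) j
  have h1 : (1 : K) ⊗ₜ[A] b = 0 := by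
    apply h
    intro j
    rw [Algebra.TensorProduct.tmul_mul_tmul, one_mul, hb' j, tmul_zero]
  have h2 : TensorProduct.mk A K B 1 b = 0 := h1
  obtain ⟨r, hr⟩ := (IsLocalizedModule.eq_zero_iff A⁰ _).1 h2
  exact ⟨r, r.2, hr⟩

/-- **Scheme-theoretic density spreads out (domain case).** If the `g j` have no common
annihilator on the generic fibre `K ⊗ B`, then the same holds on `L ⊗ B` for every field `L` over
`A` in which a certain nonzero `s` stays nonzero. -/
theorem noAnn_spread {ι : Type} [Fintype ι] (g : ι → B) (K : Type u) [Field K] [Algebra A K]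
    [IsFractionRing A K] (h : NoAnn (fun j => (1 : K) ⊗ₜ[A] g j)) :
    ∃ s : A, s ≠ 0 ∧ ∀ (L : Type u) [Field L] [Algebra A L], algebraMap A L s ≠ 0 →
      NoAnn (fun j => (1 : L) ⊗ₜ[A] g j) := by
  classical
  have htors := ker_mulMap_torsion g K h
  obtain ⟨s₁, hs₁, hfree₁⟩ := genFree_finiteType (R := A) (S := B)
    ((ι → B) ⧸ LinearMap.range (mulMap g))
  obtain ⟨s₂, hs₂, hfree₂⟩ := genFree_finiteType (R := A) (S := B) B
  have hs : s₁ * s₂ ≠ 0 := mul_ne_zero hs₁ hs₂
  refine ⟨s₁ * s₂, hs, fun L _ _ hsL => ?_⟩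
  have hfM : FreeAt (s₁ * s₂) ((ι → B) ⧸ LinearMap.range (mulMap g)) :=
    hfree₁.of_dvd (Dvd.intro _ rfl)
  have hfB : FreeAt (s₁ * s₂) B := hfree₂.of_dvd (Dvd.intro_left _ rfl)
  have hinj := lTensor_injective_of_torsion_ker hs _ htors hfB
  unfold FreeAt at hfM
  haveI : Module.Free (Localization.Away (s₁ * s₂))
    (Localization.Away (s₁ * s₂) ⊗[A] ((ι → B) ⧸ LinearMap.range (mulMap g))) := hfM
  apply noAnn_tensor_of_injective g L
  exact lTensor_injective_of_away (s₁ * s₂) ((mulMap g).restrictScalars A)
    ((LinearMap.range (mulMap g)).mkQ.restrictScalars A)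
    (LinearMap.exact_map_mkQ_range (mulMap g)) (Submodule.mkQ_surjective _) hinj L
    (IsUnit.mk0 _ hsL)

end domain2




section general

variable {R : Type u} [CommRing R] {B : Type u} [CommRing B] [Algebra R B]
  [Algebra.FiniteType R B]

theorem noAnn_quot_tensor_iff (p₀ : Ideal R) (hp₀ : p₀ ≤ nilradical R)
    (L : Type u) [Field L] [Algebra R L] {ι : Type} (g : ι → B) :
    ∃ (_ : Algebra (R ⧸ p₀) L) (_ : IsScalarTower R (R ⧸ p₀) L),
      (NoAnn (fun j => (1 : L) ⊗ₜ[R ⧸ p₀] ((1 : R ⧸ p₀) ⊗ₜ[R] g j)) ↔
        NoAnn (fun j => (1 : L) ⊗ₜ[R] g j)) := by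
  have hker : ∀ a ∈ p₀, algebraMap R L a = 0 := by
    intro a ha
    obtain ⟨n, hn⟩ := hp₀ ha
    have : (algebraMap R L a) ^ n = 0 := by rw [← map_pow, hn, map_zero]
    exact pow_eq_zero_iff (by rintro rfl; simp at this) |>.1 this
  letI alg : Algebra (R ⧸ p₀) L := (Ideal.Quotient.lift p₀ (algebraMap R L) hker).toAlgebra
  haveI tower : IsScalarTower R (R ⧸ p₀) L := IsScalarTower.of_algebraMap_eq (fun r => rfl)
  refine ⟨alg, tower, ?_⟩
  let e := Algebra.TensorProduct.cancelBaseChange R (R ⧸ p₀) L L B
  have he : ∀ j, e ((1 : L) ⊗ₜ[R ⧸ p₀] ((1 : R ⧸ p₀) ⊗ₜ[R] g j)) = (1 : L) ⊗ₜ[R] g j := by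
    intro j
    simp [e, Algebra.TensorProduct.cancelBaseChange_tmul]
  constructor
  · intro h
    exact h.of_ringEquiv e.toRingEquiv he
  · intro h
    refine h.of_ringEquiv e.symm.toRingEquiv (fun j => ?_)
    rw [← he j]
    exact e.symm_apply_apply _

/-- **Scheme-theoretic density spreads out**, general base: `p₀` a prime contained in the
nilradical of `R`, `K` the fraction field of `R ⧸ p₀` (expressed via kernel and fractions). -/
theorem noAnn_spread' (p₀ : Ideal R) [p₀.IsPrime] (hp₀ : p₀ ≤ nilradical R)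
    (K : Type u) [Field K] [Algebra R K] (hker : RingHom.ker (algebraMap R K) = p₀)
    (hfrac : ∀ x : K, ∃ a s : R, s ∉ p₀ ∧ x * algebraMap R K s = algebraMap R K a)
    {ι : Type} [Fintype ι] (g : ι → B) (h : NoAnn (fun j => (1 : K) ⊗ₜ[R] g j)) :
    ∃ s : R, s ∉ p₀ ∧ ∀ (L : Type u) [Field L] [Algebra R L], algebraMap R L s ≠ 0 →
      NoAnn (fun j => (1 : L) ⊗ₜ[R] g j) := by
  obtain ⟨algK, towerK, hK⟩ := noAnn_quot_tensor_iff (B := B) p₀ hp₀ K g
  haveI : IsFractionRing (R ⧸ p₀) K := by
    haveI : FaithfulSMul (R ⧸ p₀) K := by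
      rw [faithfulSMul_iff_algebraMap_injective]
      rw [injective_iff_map_eq_zero]
      intro a ha
      obtain ⟨r, rfl⟩ := Ideal.Quotient.mk_surjective a
      have h1 : algebraMap R K r = 0 := by
        rw [IsScalarTower.algebraMap_apply R (R ⧸ p₀) K]; exact ha
      have h2 : r ∈ p₀ := by rw [← hker]; exact h1
      exact Ideal.Quotient.eq_zero_iff_mem.2 h2
    refine IsFractionRing.of_field (R ⧸ p₀) K (fun x => ?_)
    obtain ⟨a, s, hs, hx⟩ := hfrac x
    refine ⟨Ideal.Quotient.mk p₀ a, Ideal.Quotient.mk p₀ s, ?_⟩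
    have hs0 : algebraMap R K s ≠ 0 := by
      intro h0
      exact hs (by rw [← hker]; exact h0)
    have e1 : algebraMap (R ⧸ p₀) K (Ideal.Quotient.mk p₀ a) = algebraMap R K a :=
      (IsScalarTower.algebraMap_apply R (R ⧸ p₀) K a).symm
    have e2 : algebraMap (R ⧸ p₀) K (Ideal.Quotient.mk p₀ s) = algebraMap R K s :=
      (IsScalarTower.algebraMap_apply R (R ⧸ p₀) K s).symm
    rw [e1, e2, eq_div_iff hs0, hx]
  obtain ⟨s', hs'0, hs'⟩ := noAnn_spread (A := R ⧸ p₀) (B := (R ⧸ p₀) ⊗[R] B)
    (fun j => (1 : R ⧸ p₀) ⊗ₜ[R] g j) K (hK.2 h)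
  obtain ⟨s, rfl⟩ := Ideal.Quotient.mk_surjective s'
  refine ⟨s, fun hs => hs'0 (Ideal.Quotient.eq_zero_iff_mem.2 hs), fun L _ _ hsL => ?_⟩
  obtain ⟨algL, towerL, hL⟩ := noAnn_quot_tensor_iff (B := B) p₀ hp₀ L g
  refine hL.1 (hs' L ?_)
  have e1 : algebraMap (R ⧸ p₀) L (Ideal.Quotient.mk p₀ s) = algebraMap R L s :=
    (IsScalarTower.algebraMap_apply R (R ⧸ p₀) L s).symm
  rw [e1]
  exact hsL

end general


end Groth.Agent.Lib.Helper12.SchDenseAlg
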