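import Mathlib
import Groth.Agent.Lib.Helper12.SchDenseAlg
import Groth.Agent.Lib.Helper28.FibreChart
import Groth.Agent.Lib.Helper28.GenFibreTop

/-!
# Scheme-theoretic density spreads out: schemes (helper12)
-/

set_option autoImplicit false
set_option linter.style.haveILetI false
universe u
open AlgebraicGeometry CategoryTheory Limits TensorProduct

namespace Groth.Agent.Lib.Helper12.SchDenseSch

open Groth.Agent.Lib.Helper12.SchDenseAlg Groth.Agent.Lib.Helper28.FibreChart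
  Groth.Agent.Lib.Helper28.GenFibreTop Groth.Agent.Lib.Helper3

section affineLemmas

variable {Z : Scheme.{u}}

lemma res_res {U₁ U₂ U₃ : Z.Opens} (h1 : U₁ ≤ U₂) (h2 : U₂ ≤ U₃) (s : Γ(Z, U₃)) :
    (Z.presheaf.map (homOfLE h1).op).hom ((Z.presheaf.map (homOfLE h2).op).hom s) =
      (Z.presheaf.map (homOfLE (h1.trans h2)).op).hom s := by
  rw [← CommRingCat.comp_apply, ← Functor.map_comp]
  rfl

/-- If `f * c = 0` then `c` vanishes on `D(f)`. -/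
lemma res_basicOpen_eq_zero_of_mul_eq_zero {V : Z.Opens} (f c : Γ(Z, V)) (h : f * c = 0) :
    (Z.presheaf.map (homOfLE (Z.basicOpen_le f)).op).hom c = 0 := by
  have hu : IsUnit ((Z.presheaf.map (homOfLE (Z.basicOpen_le f)).op).hom f) :=
    RingedSpace.isUnit_res_basicOpen Z.toRingedSpace f
  have h1 := congrArg (Z.presheaf.map (homOfLE (Z.basicOpen_le f)).op).hom h
  rw [map_mul, map_zero] at h1
  exact hu.mul_right_eq_zero.1 h1

lemma le_image_preimage (O V D : Z.Opens) (hDV : D ≤ V) (hDO : D ≤ O) :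
    D ≤ O.ι ''ᵁ O.ι ⁻¹ᵁ V := by
  intro x hx
  exact ⟨⟨x, hDO hx⟩, hDV hx, rfl⟩

lemma image_preimage_le_inf (O V : Z.Opens) : O.ι ''ᵁ O.ι ⁻¹ᵁ V ≤ V ⊓ O := by
  rintro _ ⟨x, hx, rfl⟩
  exact ⟨hx, x.2⟩

/-- restriction of sections over `V` to the trace of `O` on `V` -/
noncomputable def resTrace (O V : Z.Opens) : Γ(Z, V) →+* Γ(Z, O.ι ''ᵁ O.ι ⁻¹ᵁ V) :=
  (Z.presheaf.map (homOfLE (x := O.ι ''ᵁ O.ι ⁻¹ᵁ V) (Set.image_preimage_subset _ _)).op).hom

lemma resTrace_def (O V : Z.Opens) (s : Γ(Z, V)) : resTrace O V s =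
    (Z.presheaf.map (homOfLE (x := O.ι ''ᵁ O.ι ⁻¹ᵁ V) (Set.image_preimage_subset _ _)).op).hom s :=
  rfl

lemma eq_zero_of_res_eq_zero (O : Z.Opens) [QuasiCompact O.ι]
    [IsSchemeTheoreticallyDominant O.ι] (V : Z.Opens)
    (hV : IsAffineOpen V) (s : Γ(Z, V))
    (hs : (Z.presheaf.map (homOfLE (x := O.ι ''ᵁ O.ι ⁻¹ᵁ V)
      (Set.image_preimage_subset _ _)).op).hom s = 0) : s = 0 := by
  have h1 : s ∈ O.ι.ker.ideal ⟨V, hV⟩ := by
    rw [Scheme.Hom.ker_apply, RingHom.mem_ker]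
    exact hs
  rw [O.ι.ker_eq_bot] at h1
  simpa using h1

lemma isSchemeTheoreticallyDominant_ι_of_cover (O : Z.Opens) [QuasiCompact O.ι] {ι : Type*}
    (V : ι → Z.affineOpens) (hV : ⨆ i, (V i).1 = ⊤)
    (H : ∀ i (s : Γ(Z, (V i).1)), (Z.presheaf.map (homOfLE (x := O.ι ''ᵁ O.ι ⁻¹ᵁ (V i).1)
      (Set.image_preimage_subset _ _)).op).hom s = 0 → s = 0) :
    IsSchemeTheoreticallyDominant O.ι := by
  rw [isSchemeTheoreticallyDominant_iff]
  refine Scheme.IdealSheafData.ext_of_iSup_eq_top V hV (fun i => ?_)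
  rw [Scheme.Hom.ker_apply]
  simp only [Scheme.IdealSheafData.ideal_bot, Pi.bot_apply]
  rw [← le_bot_iff]
  intro s hs
  rw [RingHom.mem_ker] at hs
  rw [Ideal.mem_bot]
  exact H i s hs

lemma eq_zero_of_noAnn {V : Z.Opens} (hV : IsAffineOpen V) (O : Z.Opens) {ι : Type*} [Finite ι]
    (c : ι → Γ(Z, V)) (hc : NoAnn c) (hcO : ∀ j, Z.basicOpen (c j) ≤ O) (s : Γ(Z, V))
    (hs : (Z.presheaf.map (homOfLE (x := O.ι ''ᵁ O.ι ⁻¹ᵁ V)
      (Set.image_preimage_subset _ _)).op).hom s = 0) : s = 0 := by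
  have h1 : ∀ j, ∃ n, c j ^ n * s = 0 := by
    intro j
    apply exists_pow_mul_eq_zero_of_res_basicOpen_eq_zero_of_isAffineOpen Z hV s (c j)
    have h2 := res_res (le_image_preimage O V _ (Z.basicOpen_le (c j)) (hcO j))
      (Set.image_preimage_subset _ _) s
    rw [hs, map_zero] at h2
    exact h2.symm
  choose e he using h1
  exact hc.eq_zero_of_pow_mul e s he

lemma noAnn_of_isSchemeTheoreticallyDominant {V : Z.Opens} (hV : IsAffineOpen V) (O : Z.Opens)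
    [QuasiCompact O.ι] [IsSchemeTheoreticallyDominant O.ι] {ι : Type*} (c : ι → Γ(Z, V))
    (hcov : ∀ x, x ∈ V → x ∈ O → ∃ j, x ∈ Z.basicOpen (c j)) : NoAnn c := by
  intro s hs
  apply eq_zero_of_res_eq_zero O V hV s
  refine Z.IsSheaf.section_ext fun x hx => ?_
  obtain ⟨hxV, hxO⟩ := image_preimage_le_inf O V hx
  obtain ⟨j, hj⟩ := hcov x hxV hxO
  refine ⟨Z.basicOpen (c j) ⊓ (O.ι ''ᵁ O.ι ⁻¹ᵁ V), inf_le_right, ⟨hj, hx⟩, ?_⟩
  have h1 := res_basicOpen_eq_zero_of_mul_eq_zero (c j) s (hs j)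
  have h2 := res_res (inf_le_left : Z.basicOpen (c j) ⊓ (O.ι ''ᵁ O.ι ⁻¹ᵁ V) ≤ _)
    (Z.basicOpen_le (c j)) s
  rw [h1, map_zero] at h2
  rw [map_zero]
  have h3 := res_res (inf_le_right : Z.basicOpen (c j) ⊓ (O.ι ''ᵁ O.ι ⁻¹ᵁ V) ≤ _)
    (Set.image_preimage_subset _ _ : O.ι ''ᵁ O.ι ⁻¹ᵁ V ≤ V) s
  exact h3.trans h2.symm

lemma isCompact_inf_of_isAffineOpen [IsLocallyNoetherian Z] {V : Z.Opens} (hV : IsAffineOpen V)
    (O : Z.Opens) : IsCompact ((V ⊓ O : Z.Opens) : Set Z) := by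
  have h1 : IsCompact ((O.ι ⁻¹ᵁ V : O.toScheme.Opens) : Set O.toScheme) :=
    O.ι.isCompact_preimage hV.isCompact
  have h2 := h1.image O.ι.continuous
  convert h2 using 1
  ext x
  constructor
  · rintro ⟨hxV, hxO⟩
    exact ⟨⟨x, hxO⟩, hxV, rfl⟩
  · rintro ⟨x, hx, rfl⟩
    exact ⟨hx, x.2⟩

end affineLemmas

section chart

/-- Affine chart of the fibre, with the compatibility of the identification. -/
theorem chart' {X Y : Scheme.{u}} (f : X ⟶ Y) (y : Y) (W : Y.Opens) (hW : IsAffineOpen W)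
    (hy : y ∈ W) (U : X.Opens) (hU : IsAffineOpen U) (hUW : U ≤ f ⁻¹ᵁ W) :
    letI := (f.appLE W U hUW).hom.toAlgebra
    letI := (Y.evaluation W y hy).hom.toAlgebra
    IsAffineOpen ((f.fiberι y) ⁻¹ᵁ U) ∧
      ∃ ε : Y.residueField y ⊗[Γ(Y, W)] Γ(X, U) ≃+* Γ(f.fiber y, (f.fiberι y) ⁻¹ᵁ U),
        ∀ b : Γ(X, U), ε ((1 : Y.residueField y) ⊗ₜ[Γ(Y, W)] b) =
          ((f.fiberι y).appLE U ((f.fiberι y) ⁻¹ᵁ U) le_rfl).hom b := by
  letI algRB : Algebra Γ(Y, W) Γ(X, U) := (f.appLE W U hUW).hom.toAlgebra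
  letI algRK : Algebra Γ(Y, W) (Y.residueField y) := (Y.evaluation W y hy).hom.toAlgebra
  have h : IsPullback (f.fiberι y) (f.fiberToSpecResidueField y) f (Y.fromSpecResidueField y) :=
    IsPullback.of_hasPullback f (Y.fromSpecResidueField y)
  have hW' : IsAffineOpen (⊤ : (Spec (Y.residueField y)).Opens) := isAffineOpen_top _
  have hW'W : (⊤ : (Spec (Y.residueField y)).Opens) ≤ (Y.fromSpecResidueField y) ⁻¹ᵁ W := by
    intro s _
    show (Y.fromSpecResidueField y) s ∈ W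
    rw [Scheme.fromSpecResidueField_apply]; exact hy
  have hUY : (f.fiberι y) ⁻¹ᵁ U = (f.fiberι y) ⁻¹ᵁ U ⊓ (f.fiberToSpecResidueField y) ⁻¹ᵁ ⊤ := by
    simp
  have : IsAffine (W : Scheme) := hW
  have : IsAffine (U : Scheme) := hU
  have : IsAffine ((⊤ : (Spec (Y.residueField y)).Opens) : Scheme) := hW'
  have hV' : IsAffineOpen ((f.fiberι y) ⁻¹ᵁ U) :=
    .of_isIso (Scheme.Hom.isPullback_resLE h hW'W hUW hUY).isoPullback.hom
  have hiso := isIso_pushoutSection_of_isAffineOpen h hW'W hUW hUY hW hW' hU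
  have hpo := (isIso_pushoutSection_iff h hW'W hUW hUY).mp hiso
  refine ⟨hV', ?_⟩
  have H2 : IsPushout (f.appLE W U hUW) (Y.evaluation W y hy)
      ((f.fiberι y).appLE U _ le_rfl)
      ((Scheme.ΓSpecIso (Y.residueField y)).inv ≫
        (f.fiberToSpecResidueField y).appLE ⊤ ((f.fiberι y) ⁻¹ᵁ U) le_top) :=
    hpo.of_iso (Iso.refl _) (Iso.refl _) (Scheme.ΓSpecIso _) (Iso.refl _) (by simp)
      (by simp [fromSpecResidueField_appLE y W hy]) (by simp) (by simp)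
  have H3 := CommRingCat.isPushout_tensorProduct Γ(Y, W) (Y.residueField y) Γ(X, U)
  refine ⟨(H3.isoIsPushout _ _ H2.flip).commRingCatIsoToRingEquiv, fun b => ?_⟩
  have h4 := H3.inr_isoIsPushout_hom _ _ H2.flip
  exact congr($(h4).hom b)

end chart

section main

variable {X Y : Scheme.{u}} (f : X ⟶ Y)

instance isLocallyNoetherian_fiber (y : Y) [LocallyOfFiniteType f] :
    IsLocallyNoetherian (f.fiber y) := by
  haveI : LocallyOfFiniteType (f.fiberToSpecResidueField y) :=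
    MorphismProperty.pullback_snd (P := @LocallyOfFiniteType) _ _ inferInstance
  exact LocallyOfFiniteType.isLocallyNoetherian (f.fiberToSpecResidueField y)

set_option maxHeartbeats 1000000 in
theorem chart_spread [IrreducibleSpace Y] [LocallyOfFiniteType f] (U : X.Opens)
    (h : IsSchemeTheoreticallyDominant (f.fiberι (genericPoint Y) ⁻¹ᵁ U).ι)
    (W : Y.Opens) (hW : IsAffineOpen W) (hηW : genericPoint Y ∈ W)
    (U₀ : X.Opens) (hU₀ : IsAffineOpen U₀) (hU₀W : U₀ ≤ f ⁻¹ᵁ W) :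
    ∃ g : Γ(Y, W), g ∉ (hW.primeIdealOf ⟨genericPoint Y, hηW⟩).asIdeal ∧
      ∀ y (_ : y ∈ Y.basicOpen g) (s : Γ(f.fiber y, (f.fiberι y) ⁻¹ᵁ U₀)),
        resTrace ((f.fiberι y) ⁻¹ᵁ U) ((f.fiberι y) ⁻¹ᵁ U₀) s = 0 → s = 0 := by
  classical
  set η := genericPoint Y with hη
  letI algRB : Algebra Γ(Y, W) Γ(X, U₀) := (f.appLE W U₀ hU₀W).hom.toAlgebra
  haveI : Algebra.FiniteType Γ(Y, W) Γ(X, U₀) := f.finiteType_appLE hW hU₀ hU₀W
  letI algRK : Algebra Γ(Y, W) (Y.residueField η) := (Y.evaluation W η hηW).hom.toAlgebra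
  obtain ⟨hVη, ε, hε⟩ := chart' f η W hW hηW U₀ hU₀ hU₀W
  have hcompact : IsCompact ((((f.fiberι η) ⁻¹ᵁ U₀) ⊓ ((f.fiberι η) ⁻¹ᵁ U) :
      (f.fiber η).Opens) : Set (f.fiber η)) := isCompact_inf_of_isAffineOpen hVη _
  -- cover by basic opens
  have hcov : ((((f.fiberι η) ⁻¹ᵁ U₀) ⊓ ((f.fiberι η) ⁻¹ᵁ U) : (f.fiber η).Opens) :
      Set (f.fiber η)) ⊆ ⋃ b : {b : Γ(X, U₀) // X.basicOpen b ≤ U},
        (((f.fiberι η) ⁻¹ᵁ (X.basicOpen b.1) : (f.fiber η).Opens) : Set (f.fiber η)) := by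
    rintro x ⟨hx1, hx2⟩
    obtain ⟨b, hbU, hxb⟩ := hU₀.exists_basicOpen_le (V := U) ⟨f.fiberι η x, hx2⟩ hx1
    exact Set.mem_iUnion.2 ⟨⟨b, hbU⟩, hxb⟩
  obtain ⟨t, ht⟩ := hcompact.elim_finite_subcover
    (fun b : {b : Γ(X, U₀) // X.basicOpen b ≤ U} =>
      (((f.fiberι η) ⁻¹ᵁ (X.basicOpen b.1) : (f.fiber η).Opens) : Set (f.fiber η)))
    (fun b => ((f.fiberι η) ⁻¹ᵁ (X.basicOpen b.1)).isOpen) hcov
  let g : Fin t.card → Γ(X, U₀) := fun k => (t.equivFin.symm k).1.1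
  have hgU : ∀ k, X.basicOpen (g k) ≤ U := fun k => (t.equivFin.symm k).1.2
  haveI := h
  have hnoann : NoAnn (fun k => ((f.fiberι η).appLE U₀ ((f.fiberι η) ⁻¹ᵁ U₀) le_rfl).hom (g k)) := by
    apply noAnn_of_isSchemeTheoreticallyDominant hVη ((f.fiberι η) ⁻¹ᵁ U)
    intro x hxV hxO
    have h1 := ht ⟨hxV, hxO⟩
    simp only [Set.mem_iUnion] at h1
    obtain ⟨b, hbt, hxb⟩ := h1
    refine ⟨t.equivFin ⟨b, hbt⟩, ?_⟩
    rw [Scheme.basicOpen_appLE]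
    refine ⟨hxV, ?_⟩
    simpa [g] using hxb
  have hnoannK : NoAnn (fun k => (1 : Y.residueField η) ⊗ₜ[Γ(Y, W)] g k) :=
    hnoann.of_ringEquiv ε.symm (fun k => by rw [← hε]; exact ε.symm_apply_apply _)
  have hp₀ := primeIdealOf_genericPoint_le_nilradical hW hηW
  obtain ⟨s, hs, hsL⟩ := noAnn_spread' (R := Γ(Y, W)) (B := Γ(X, U₀))
    (hW.primeIdealOf ⟨η, hηW⟩).asIdeal hp₀ (Y.residueField η)
    (ker_evaluation W hW η hηW) (evaluation_frac W hW η hηW) g hnoannK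
  refine ⟨s, hs, ?_⟩
  intro y hy σ hσ
  have hyW : y ∈ W := Y.basicOpen_le s hy
  letI algRL : Algebra Γ(Y, W) (Y.residueField y) := (Y.evaluation W y hyW).hom.toAlgebra
  have hne : algebraMap Γ(Y, W) (Y.residueField y) s ≠ 0 :=
    (Y.evaluation_ne_zero_iff_mem_basicOpen y hyW s).2 hy
  obtain ⟨hVy, εy, hεy⟩ := chart' f y W hW hyW U₀ hU₀ hU₀W
  have hnoanny : NoAnn (fun k => ((f.fiberι y).appLE U₀ ((f.fiberι y) ⁻¹ᵁ U₀) le_rfl).hom (g k)) :=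
    (hsL (Y.residueField y) hne).of_ringEquiv εy (fun k => hεy (g k))
  refine eq_zero_of_noAnn hVy _ _ hnoanny (fun k => ?_) σ hσ
  rw [Scheme.basicOpen_appLE]
  exact inf_le_right.trans (fun x hx => hgU k hx)

/-- **EGA IV 9.7-type spreading out of scheme-theoretic density.** -/
theorem schemeTheoreticallyDense_fibres_near_generic_point [IrreducibleSpace Y]
    [LocallyOfFiniteType f] [QuasiCompact f] (U : X.Opens)
    (h : IsSchemeTheoreticallyDominant (f.fiberι (genericPoint Y) ⁻¹ᵁ U).ι) :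
    ∃ V : Y.Opens, (V : Set Y).Nonempty ∧
      ∀ y ∈ V, IsSchemeTheoreticallyDominant (f.fiberι y ⁻¹ᵁ U).ι := by
  classical
  set η := genericPoint Y with hη
  obtain ⟨_, ⟨W, hW, rfl⟩, hηW, -⟩ :=
    Y.isBasis_affineOpens.exists_subset_of_mem_open (Set.mem_univ η) isOpen_univ
  have hcomp : IsCompact (f ⁻¹ᵁ W : Set X) := f.isCompact_preimage hW.isCompact
  obtain ⟨S, hS, hcover⟩ := isCompact_iff_finite_and_eq_biUnion_affineOpens.mp hcomp
  have hle : ∀ i ∈ S, i.1 ≤ f ⁻¹ᵁ W := fun i hi =>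
    (le_iSup₂ (f := fun (i : X.affineOpens) (_ : i ∈ S) => (i : X.Opens)) i hi).trans_eq
      hcover.symm
  have hch : ∀ i : S, ∃ g : Γ(Y, W), g ∉ (hW.primeIdealOf ⟨η, hηW⟩).asIdeal ∧
      ∀ y (_ : y ∈ Y.basicOpen g) (s : Γ(f.fiber y, (f.fiberι y) ⁻¹ᵁ i.1.1)),
        resTrace ((f.fiberι y) ⁻¹ᵁ U) ((f.fiberι y) ⁻¹ᵁ i.1.1) s = 0 → s = 0 :=
    fun i => chart_spread f U h W hW hηW i.1.1 i.1.2 (hle i.1 i.2)
  choose gi hgi hgi' using hch
  haveI : Fintype S := hS.fintype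
  have hg : (∏ i : S, gi i) ∉ (hW.primeIdealOf ⟨η, hηW⟩).asIdeal := by
    intro hmem
    obtain ⟨i, -, hi⟩ := ((hW.primeIdealOf ⟨η, hηW⟩).isPrime.prod_mem_iff).1 hmem
    exact hgi i hi
  refine ⟨Y.basicOpen (∏ i : S, gi i),
    ⟨η, (mem_basicOpen_iff_notMem_primeIdealOf hW η hηW _).2 hg⟩, fun y hy => ?_⟩
  have hyW : y ∈ W := Y.basicOpen_le _ hy
  have hyi : ∀ i : S, y ∈ Y.basicOpen (gi i) := by
    intro i
    rw [← Y.evaluation_ne_zero_iff_mem_basicOpen y hyW] at hy ⊢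
    rw [map_prod] at hy
    exact (Finset.prod_ne_zero_iff.1 hy) i (Finset.mem_univ i)
  refine isSchemeTheoreticallyDominant_ι_of_cover _
    (fun i : S => ⟨(f.fiberι y) ⁻¹ᵁ i.1.1, (chart' f y W hW hyW i.1.1 i.1.2 (hle i.1 i.2)).1⟩) ?_ ?_
  · rw [eq_top_iff]
    intro x _
    have hx : f.fiberι y x ∈ f ⁻¹ᵁ W := by
      have h1 : f.fiberι y x ∈ Set.range (f.fiberι y) := ⟨x, rfl⟩
      rw [Scheme.Hom.range_fiberι] at h1
      show f (f.fiberι y x) ∈ W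
      rw [h1]; exact hyW
    rw [hcover] at hx
    obtain ⟨i, hx⟩ := TopologicalSpace.Opens.mem_iSup.1 hx
    obtain ⟨hi, hxi⟩ := TopologicalSpace.Opens.mem_iSup.1 hx
    exact TopologicalSpace.Opens.mem_iSup.2 ⟨⟨i, hi⟩, hxi⟩
  · intro i s hs
    exact hgi' i y (hyi i) s hs

end main

end Groth.Agent.Lib.Helper12.SchDenseSch
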