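import Mathlib
import Groth.Agent.Lib.Helper12.SchDenseSch
import Groth.Agent.Lib.Helper15.GeomFibre
import Groth.Agent.Lib.Helper28.GenFlatScheme
import Groth.Agent.Lib.Helper29.GenSmooth
import Groth.Agent.Lib.Helper22.SmoothRed
import Groth.Agent.Lib.Helper7.RedLib

/-!
# Geometric reducedness of the generic fibre spreads out (helper12)
-/

set_option autoImplicit false
set_option linter.style.haveILetI false
universe u
open AlgebraicGeometry CategoryTheory Limits

namespace Groth.Agent.Lib.Helper12.GeomRedGen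

/-- the locus of points with geometrically reduced fibre -/
def E {X Y : Scheme.{u}} (f : X ⟶ Y) : Set Y :=
  {y | GeometricallyReduced (f.fiberToSpecResidueField y)}

lemma mem_E {X Y : Scheme.{u}} (f : X ⟶ Y) (y : Y) :
    y ∈ E f ↔ GeometricallyReduced (f.fiberToSpecResidueField y) := Iff.rfl

lemma mem_E_pullback {X Y X' Y' : Scheme.{u}} {f : X ⟶ Y} {g : Y' ⟶ Y} {f' : X' ⟶ Y'}
    {g' : X' ⟶ X} (hc : IsPullback g' f' f g) (y' : Y') : y' ∈ E f' ↔ g y' ∈ E f := by
  simp only [mem_E, geometricallyReduced_iff]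
  exact Groth.Agent.Lib.Helper15.geometrically_fiber_iff_of_isPullback _
    Groth.Agent.Lib.Helper15.isReduced_descends f g f' g' hc y'

section lfp

variable {X Y : Scheme.{u}} (f : X ⟶ Y)

set_option maxHeartbeats 1000000 in
theorem step_lfp [IsIntegral Y] [LocallyOfFinitePresentation f] [QuasiCompact f]
    (h : genericPoint Y ∈ E f) :
    ∃ V : Y.Opens, (V : Set Y).Nonempty ∧ ∀ y ∈ V, y ∈ E f := by
  set η := genericPoint Y with hη
  have hbij : Function.Bijective (Y.residue η).hom :=
    ⟨(Y.residue η).hom.injective, Y.residue_surjective η⟩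
  haveI : Flat (Spec.map (Y.residue η)) := by
    rw [HasRingHomProperty.Spec_iff (P := @Flat)]
    exact RingHom.Flat.of_bijective hbij
  haveI : Flat (Y.fromSpecResidueField η) := by
    unfold Scheme.fromSpecResidueField
    infer_instance
  haveI hgr : GeometricallyReduced (f.fiberToSpecResidueField η) := h
  haveI : LocallyOfFinitePresentation (f.fiberToSpecResidueField η) :=
    MorphismProperty.pullback_snd (P := @LocallyOfFinitePresentation) _ _ inferInstance
  have hd := Groth.Agent.Lib.Helper29.GenSmooth.dense_smoothLocus_field (Y.residueField η)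
    (f.fiberToSpecResidueField η)
  have hsq : IsPullback (f.fiberι η) (f.fiberToSpecResidueField η) f (Y.fromSpecResidueField η) :=
    IsPullback.of_hasPullback _ _
  have heq : (f.fiberι η) ⁻¹ᵁ f.smoothLocus = (f.fiberToSpecResidueField η).smoothLocus := by
    ext x
    exact (Groth.Agent.Lib.Helper8.SmoothLocusBC.mem_smoothLocus_iff_of_isPullback f
      (Y.fromSpecResidueField η) (f.fiberToSpecResidueField η) (f.fiberι η) hsq
      (Or.inr inferInstance) x).symm
  haveI : IsReduced (f.fiber η) :=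
    Groth.Agent.Lib.Helper11.KPts.isReduced_of_geometricallyReduced (Y.residueField η)
      (f.fiberToSpecResidueField η)
  have hstd : IsSchemeTheoreticallyDominant ((f.fiberι η) ⁻¹ᵁ f.smoothLocus).ι := by
    haveI : IsDominant ((f.fiberι η) ⁻¹ᵁ f.smoothLocus).ι := by
      rw [isDominant_iff, DenseRange, Scheme.Opens.range_ι, heq]
      exact hd
    exact IsSchemeTheoreticallyDominant.of_isDominant _
  obtain ⟨V, hV, hVd⟩ :=
    SchDenseSch.schemeTheoreticallyDense_fibres_near_generic_point f f.smoothLocus hstd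
  refine ⟨V, hV, fun y hy => ?_⟩
  haveI := hVd y hy
  have hsm : Smooth (((f.fiberι y) ⁻¹ᵁ f.smoothLocus).ι ≫ f.fiberToSpecResidueField y) := by
    have h1 := isPullback_morphismRestrict (f.fiberι y) f.smoothLocus
    have h2 : IsPullback (f.fiberι y) (f.fiberToSpecResidueField y) f
      (Y.fromSpecResidueField y) := IsPullback.of_hasPullback _ _
    have h3 := h1.paste_vert h2
    exact MorphismProperty.of_isPullback (P := @Smooth) h3
      (Groth.Agent.Lib.Helper14.DenseSmooth.smooth_smoothLocus_ι f)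
  haveI := hsm
  haveI : IsReduced (((f.fiberι y) ⁻¹ᵁ f.smoothLocus).toScheme) :=
    Groth.Agent.Lib.Helper22.SmoothRed.isReduced_of_smooth
      (((f.fiberι y) ⁻¹ᵁ f.smoothLocus).ι ≫ f.fiberToSpecResidueField y)
  haveI : IsLocallyNoetherian (f.fiber y) := SchDenseSch.isLocallyNoetherian_fiber f y
  haveI : IsReduced (f.fiber y) :=
    IsSchemeTheoreticallyDominant.isReduced ((f.fiberι y) ⁻¹ᵁ f.smoothLocus).ι
  haveI : LocallyOfFiniteType (f.fiberToSpecResidueField y) :=
    MorphismProperty.pullback_snd (P := @LocallyOfFiniteType) _ _ inferInstance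
  rw [mem_E]
  refine (Groth.Agent.Lib.Helper14.DenseSmooth.geomReduced_iff_dense_smooth (Y.residueField y)
    (f.fiberToSpecResidueField y)).mpr ⟨(f.fiberι y) ⁻¹ᵁ f.smoothLocus, ?_, hsm⟩
  have h4 := ((f.fiberι y) ⁻¹ᵁ f.smoothLocus).ι.denseRange
  rwa [DenseRange, Scheme.Opens.range_ι] at h4

end lfp

section integral

variable {X Y : Scheme.{u}} (f : X ⟶ Y)

theorem step_integral [IsIntegral Y] [LocallyOfFiniteType f] [QuasiCompact f]
    (h : genericPoint Y ∈ E f) :
    ∃ V : Y.Opens, (V : Set Y).Nonempty ∧ ∀ y ∈ V, y ∈ E f := by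
  obtain ⟨U₁, hU₁d, -, hfp⟩ := Groth.Agent.Lib.Helper28.GenFlat.generic_flat f
  haveI : Nonempty U₁ := by
    obtain ⟨x, hx⟩ := hU₁d.nonempty
    exact ⟨⟨x, hx⟩⟩
  haveI := hfp
  have hc : IsPullback (f ⁻¹ᵁ U₁).ι (f ∣_ U₁) f U₁.ι := (isPullback_morphismRestrict f U₁).flip
  have hη : U₁.ι (genericPoint U₁) = genericPoint Y := genericPoint_eq_of_isOpenImmersion U₁.ι
  have h1 : genericPoint U₁ ∈ E (f ∣_ U₁) := by
    rw [mem_E_pullback hc, hη]
    exact h
  obtain ⟨V₁, hV₁, hV₁E⟩ := step_lfp (f ∣_ U₁) h1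
  refine ⟨U₁.ι ''ᵁ V₁, ?_, ?_⟩
  · obtain ⟨y, hy⟩ := hV₁
    exact ⟨U₁.ι y, y, hy, rfl⟩
  · rintro _ ⟨y, hy, rfl⟩
    exact (mem_E_pullback hc y).1 (hV₁E y hy)

end integral

section general

variable {X Y : Scheme.{u}} (f : X ⟶ Y)

open Groth.Agent.Lib.Helper7 in
/-- **Geometric reducedness of the generic fibre spreads out** (pointwise form). -/
theorem geomRed_near_generic [IrreducibleSpace Y] [LocallyOfFiniteType f] [QuasiCompact f]
    (h : genericPoint Y ∈ E f) :
    ∃ V : Y.Opens, (V : Set Y).Nonempty ∧ ∀ y ∈ V, y ∈ E f := by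
  set η := genericPoint Y with hη
  obtain ⟨_, ⟨W, hW, rfl⟩, hηW, -⟩ :=
    Y.isBasis_affineOpens.exists_subset_of_mem_open (Set.mem_univ η) isOpen_univ
  obtain ⟨W, rfl⟩ : ∃ W' : Y.Opens, W' = W := ⟨W, rfl⟩
  -- the reduced subscheme of `W`
  let r : W.toScheme.nilradical.subscheme ⟶ W.toScheme := W.toScheme.nilradical.subschemeι
  let i : W.toScheme.nilradical.subscheme ⟶ Y := r ≫ W.ι
  have hrsurj : Function.Surjective r := subschemeι_nilradical_surjective W.toScheme
  have hiemb : Topology.IsEmbedding i :=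
    W.ι.isOpenEmbedding.isEmbedding.comp r.isClosedEmbedding.isEmbedding
  have hirange : Set.range i = (W : Set Y) := by
    show Set.range (W.ι ∘ r) = _
    rw [Set.range_comp, hrsurj.range_eq, Set.image_univ, Scheme.Opens.range_ι]
  haveI : IsReduced W.toScheme.nilradical.subscheme := isReduced_nilradical_subscheme _
  -- the point over `η`
  obtain ⟨y₀, hy₀⟩ : ∃ y₀, i y₀ = η := by
    have : η ∈ Set.range i := by rw [hirange]; exact hηW
    exact this
  have hgen : IsGenericPoint y₀ (Set.univ : Set W.toScheme.nilradical.subscheme) := by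
    show closure {y₀} = Set.univ
    rw [hiemb.isInducing.closure_eq_preimage_closure_image, Set.image_singleton, hy₀,
      (genericPoint_spec Y).def]
    rfl
  haveI : IrreducibleSpace W.toScheme.nilradical.subscheme := by
    have h1 : IsIrreducible (closure ({y₀} : Set W.toScheme.nilradical.subscheme)) :=
      isIrreducible_singleton.closure
    rw [hgen.def] at h1
    exact (irreducibleSpace_def _).mpr h1
  haveI : IsIntegral W.toScheme.nilradical.subscheme :=
    isIntegral_of_irreducibleSpace_of_isReduced _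
  have hy₀' : genericPoint W.toScheme.nilradical.subscheme = y₀ :=
    ((genericPoint_spec _).eq hgen)
  have hc : IsPullback (pullback.fst f i) (pullback.snd f i) f i := IsPullback.of_hasPullback f i
  have h1 : genericPoint W.toScheme.nilradical.subscheme ∈ E (pullback.snd f i) := by
    rw [mem_E_pullback hc, hy₀', hy₀]
    exact h
  obtain ⟨Vr, hVr, hVrE⟩ := step_integral (pullback.snd f i) h1
  obtain ⟨V₀, hV₀, hV₀eq⟩ := hiemb.isInducing.isOpen_iff.1 Vr.isOpen
  refine ⟨⟨V₀, hV₀⟩ ⊓ W, ?_, ?_⟩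
  · obtain ⟨y, hy⟩ := hVr
    refine ⟨i y, ?_, ?_⟩
    · have : y ∈ i ⁻¹' V₀ := by rw [hV₀eq]; exact hy
      exact this
    · have : i y ∈ Set.range i := ⟨y, rfl⟩
      rw [hirange] at this
      exact this
  · rintro y ⟨hyV₀, hyW⟩
    have : y ∈ Set.range i := by rw [hirange]; exact hyW
    obtain ⟨yr, rfl⟩ := this
    have hyr : yr ∈ Vr := by
      have : yr ∈ i ⁻¹' V₀ := hyV₀
      rw [hV₀eq] at this
      exact this
    exact (mem_E_pullback hc yr).1 (hVrE yr hyr)

end general

end Groth.Agent.Lib.Helper12.GeomRedGen
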