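import Mathlib
import Groth.Prelude
import Groth.Agent.Lib.Helper15.GeomFibre
import Groth.Agent.Lib.Helper12.GeomRedGen

/-!
# Schemes all of whose local rings are domains; the locus of geometrically pointwise integral fibres
-/

set_option autoImplicit false
universe u
open CategoryTheory CategoryTheory.Limits AlgebraicGeometry Opposite TopologicalSpace

namespace Groth.Agent.Lib.Helper12.PtInt

/-- all local rings are domains -/
def PtInt : ObjectProperty Scheme.{u} := fun X => ∀ x : X, IsDomain (X.presheaf.stalk x)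

theorem isDomain_stalk_of_injective {W X : Scheme.{u}} (f : W ⟶ X) (w : W)
    (hinj : Function.Injective (f.stalkMap w).hom) [IsDomain (W.presheaf.stalk w)] :
    IsDomain (X.presheaf.stalk (f w)) :=
  Function.Injective.isDomain (f.stalkMap w).hom hinj

theorem stalkMap_injective_of_flat {W X : Scheme.{u}} (f : W ⟶ X) [Flat f] (w : W) :
    Function.Injective (f.stalkMap w).hom := by
  have hflat := Flat.stalkMap f w
  algebraize [(f.stalkMap w).hom]
  have : IsLocalHom (algebraMap (X.presheaf.stalk (f w)) (W.presheaf.stalk w)) := by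
    simpa [RingHom.algebraMap_toAlgebra] using (inferInstance : IsLocalHom (f.stalkMap w).hom)
  have : Module.FaithfullyFlat (X.presheaf.stalk (f w)) (W.presheaf.stalk w) :=
    Module.FaithfullyFlat.of_flat_of_isLocalHom
  exact FaithfulSMul.algebraMap_injective _ _

theorem PtInt.descends : ∀ {W X : Scheme.{u}} (f : W ⟶ X) [Flat f] [Surjective f],
    PtInt W → PtInt X := by
  intro W X f _ _ hW x
  obtain ⟨w, rfl⟩ := f.surjective x
  haveI := hW w
  exact isDomain_stalk_of_injective f w (stalkMap_injective_of_flat f w)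

theorem isDomain_stalk_of_isOpenImmersion {U X : Scheme.{u}} (j : U ⟶ X) [IsOpenImmersion j]
    (u : U) : IsDomain (U.presheaf.stalk u) ↔ IsDomain (X.presheaf.stalk (j u)) := by
  have hbij := ConcreteCategory.bijective_of_isIso (j.stalkMap u)
  constructor
  · intro h
    exact Function.Injective.isDomain (j.stalkMap u).hom hbij.1
  · intro h
    let e := (asIso (j.stalkMap u)).commRingCatIsoToRingEquiv
    exact Function.Injective.isDomain e.symm.toRingHom e.symm.injective

theorem PtInt.of_isOpenImmersion {U X : Scheme.{u}} (j : U ⟶ X) [IsOpenImmersion j]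
    (h : PtInt X) : PtInt U := fun u => (isDomain_stalk_of_isOpenImmersion j u).mpr (h (j u))

instance : (PtInt.{u}).IsClosedUnderIsomorphisms where
  of_iso e h := PtInt.of_isOpenImmersion e.inv h

theorem PtInt.isReduced {X : Scheme.{u}} (h : PtInt X) : IsReduced X := by
  have : ∀ x : X, _root_.IsReduced (X.presheaf.stalk x) := fun x => by
    haveI := h x
    infer_instance
  exact isReduced_of_isReduced_stalk X

/-- the locus of points with geometrically pointwise integral fibre -/
def G {X Y : Scheme.{u}} (f : X ⟶ Y) : Set Y :=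
  {y | geometrically PtInt (f.fiberToSpecResidueField y)}

theorem mem_G_pullback {X Y X' Y' : Scheme.{u}} {f : X ⟶ Y} {g : Y' ⟶ Y} {f' : X' ⟶ Y'}
    {g' : X' ⟶ X} (hc : IsPullback g' f' f g) (y' : Y') : y' ∈ G f' ↔ g y' ∈ G f :=
  Groth.Agent.Lib.Helper15.geometrically_fiber_iff_of_isPullback PtInt PtInt.descends f g f' g' hc y'

theorem mem_G_iff {X Y : Scheme.{u}} (f : X ⟶ Y) (y : Y) :
    y ∈ G f ↔ ∀ x : ↥(f.fiber y), FBase.IsGeomPtIntegralAt (f.fiberToSpecResidueField y) x := by
  show geometrically PtInt (f.fiberToSpecResidueField y) ↔ _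
  rw [geometrically_iff_of_commRing_of_isClosedUnderIsomorphisms (R := ↑(Y.residueField y))]
  constructor
  · intro h x K iF iA x' _
    exact @h K iF iA x'
  · intro h K iF iA x'
    exact @h (@FBase.bcπ _ _ _ (f.fiberToSpecResidueField y) K iF iA x') K iF iA x' rfl

theorem G_subset_E {X Y : Scheme.{u}} (f : X ⟶ Y) :
    G f ⊆ Groth.Agent.Lib.Helper12.GeomRedGen.E f := by
  intro y hy
  refine ⟨fun K _ w Z fst snd h => ?_⟩
  exact (hy w fst snd h).isReduced

set_option backward.isDefEq.respectTransparency false in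
theorem of_fiber {P : ObjectProperty Scheme.{u}} {X Y : Scheme.{u}} (f : X ⟶ Y) (y : Y)
    (H : geometrically P (f.fiberToSpecResidueField y)) {K : Type u} [Field K]
    (w : Spec (.of K) ⟶ Y) (hw : w (IsLocalRing.closedPoint K) = y) {Z : Scheme.{u}}
    (fst : Z ⟶ X) (snd : Z ⟶ Spec (.of K)) (h : IsPullback fst snd f w) : P Z := by
  obtain ⟨⟨y', φ⟩, rfl⟩ := (Scheme.SpecToEquivOfField _ _).symm.surjective w
  have hy : y' = y := by
    rw [← hw]
    simp [Scheme.SpecToEquivOfField]
  subst hy
  let p : Z ⟶ f.fiber y' :=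
    pullback.lift fst (snd ≫ Spec.map φ) (by simp [h.w, Scheme.SpecToEquivOfField])
  apply H (Spec.map φ) p snd
  simp only [Scheme.SpecToEquivOfField, Equiv.coe_fn_symm_mk] at h
  refine .flip (.of_bot (.flip ?_) ?_ (IsPullback.of_hasPullback f (Y.fromSpecResidueField y')).flip)
  · convert! h
    simp [p]
  · simp [p, Scheme.Hom.fiberToSpecResidueField]

end Groth.Agent.Lib.Helper12.PtInt
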