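import Mathlib
import Groth.Prelude
import Groth.Agent.Lib.Helper12.IrrDVRa
import Groth.Agent.Lib.Helper12.PtInt

/-!
# A connected Noetherian scheme all of whose local rings are domains is integral
-/

set_option autoImplicit false
universe u
open CategoryTheory CategoryTheory.Limits AlgebraicGeometry Opposite TopologicalSpace

namespace Groth.Agent.Lib.Helper12.ConnInt

open Groth.Agent.Lib.Helper12.IrrDVR Groth.Agent.Lib.Helper12.PtInt

/-- if the local ring at `x` is a domain, `x` has a unique maximal generization. -/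
theorem isMaxPt_unique_of_isDomain_stalk {X : Scheme.{u}} (x : X)
    [IsDomain (X.presheaf.stalk x)] (ξ ξ' : X) (hξ : IsMaxPt ξ) (hξ' : IsMaxPt ξ')
    (h : ξ ⤳ x) (h' : ξ' ⤳ x) : ξ = ξ' := by
  obtain ⟨_, ⟨U, hU0, rfl⟩, hxU, -⟩ := X.isBasis_affineOpens.exists_subset_of_mem_open
    (Set.mem_univ x) isOpen_univ
  obtain ⟨U, rfl⟩ : ∃ U' : X.Opens, U' = U := ⟨U, rfl⟩
  have hU : IsAffineOpen U := hU0
  have hemb : Topology.IsOpenEmbedding hU.fromSpec := hU.fromSpec.isOpenEmbedding
  have hrange : Set.range hU.fromSpec = (U : Set X) := hU.range_fromSpec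
  obtain ⟨q, hq⟩ : ∃ q : PrimeSpectrum Γ(X, U), q = hU.primeIdealOf ⟨x, hxU⟩ := ⟨_, rfl⟩
  have hqx : hU.fromSpec q = x := by rw [hq]; exact hU.fromSpec_primeIdealOf ⟨x, hxU⟩
  obtain ⟨p, hp⟩ : ξ ∈ Set.range hU.fromSpec := by rw [hrange]; exact h.mem_open U.2 hxU
  obtain ⟨p', hp'⟩ : ξ' ∈ Set.range hU.fromSpec := by rw [hrange]; exact h'.mem_open U.2 hxU
  have hpq : p ⤳ q := by
    rw [← hemb.isInducing.specializes_iff, hp, hqx]
    exact h
  have hp'q : p' ⤳ q := by
    rw [← hemb.isInducing.specializes_iff, hp', hqx]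
    exact h'
  letI := X.presheaf.algebra_section_stalk ⟨x, hxU⟩
  haveI hloc : IsLocalization.AtPrime (X.presheaf.stalk x) q.asIdeal := by
    rw [hq]; exact hU.isLocalization_stalk ⟨x, hxU⟩
  have hker_prime : (RingHom.ker (algebraMap Γ(X, U) (X.presheaf.stalk x))).IsPrime :=
    RingHom.ker_isPrime _
  let p₀ : PrimeSpectrum Γ(X, U) :=
    ⟨RingHom.ker (algebraMap Γ(X, U) (X.presheaf.stalk x)), hker_prime⟩
  have key : ∀ (r : PrimeSpectrum Γ(X, U)), r ⤳ q → IsMaxPt (hU.fromSpec r) → r = p₀ := by
    intro r hrq hmax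
    have hrq' : r.asIdeal ≤ q.asIdeal := (PrimeSpectrum.le_iff_specializes r q).mpr hrq
    have hle : p₀.asIdeal ≤ r.asIdeal := by
      intro b hb
      have hb' : algebraMap Γ(X, U) (X.presheaf.stalk x) b = 0 := hb
      obtain ⟨⟨s, hs⟩, hsb⟩ :=
        (IsLocalization.map_eq_zero_iff q.asIdeal.primeCompl (X.presheaf.stalk x) b).mp hb'
      have h1 : s * b ∈ r.asIdeal := by
        rw [hsb]
        exact zero_mem _
      rcases r.isPrime.mem_or_mem h1 with h2 | h2
      · exact absurd (hrq' h2) hs
      · exact h2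
    have hsp : p₀ ⤳ r := (PrimeSpectrum.le_iff_specializes p₀ r).mp hle
    have h3 := hmax _ (hsp.map hU.fromSpec.continuous)
    exact (hemb.injective h3).symm
  rw [← hp, ← hp', key p hpq (hp ▸ hξ), key p' hp'q (hp' ▸ hξ')]

/-- the generic point of an irreducible component is a maximal point. -/
theorem isMaxPt_of_isGenericPoint {X : Type*} [TopologicalSpace X] [T0Space X] (Z : Set X)
    (hZ : Z ∈ irreducibleComponents X) (ξ : X) (hξ : IsGenericPoint ξ Z) : IsMaxPt ξ := by
  intro t ht
  have h1 : Z ⊆ closure {t} := by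
    rw [← hξ.def]
    exact closure_minimal (Set.singleton_subset_iff.mpr (specializes_iff_mem_closure.mp ht))
      isClosed_closure
  have h2 : IsIrreducible (closure ({t} : Set X)) := isIrreducible_singleton.closure
  have h3 : closure {t} = Z := le_antisymm (hZ.2 h2 h1) h1
  have h4 : IsGenericPoint t Z := h3
  exact h4.eq hξ

/-- **A connected Noetherian scheme all of whose local rings are domains is irreducible.** -/
theorem irreducibleSpace_of_connected {X : Scheme.{u}} [NoetherianSpace X] [ConnectedSpace X]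
    (hX : PtInt X) : IrreducibleSpace X := by
  have hfin : (irreducibleComponents X).Finite := NoetherianSpace.finite_irreducibleComponents
  -- irreducible components are pairwise disjoint
  have hdisj : ∀ Z ∈ irreducibleComponents X, ∀ Z' ∈ irreducibleComponents X,
      (Z ∩ Z').Nonempty → Z = Z' := by
    intro Z hZ Z' hZ' ⟨x, hxZ, hxZ'⟩
    obtain ⟨ξ, hξ⟩ := QuasiSober.sober hZ.1 (isClosed_of_mem_irreducibleComponents Z hZ)
    obtain ⟨ξ', hξ'⟩ := QuasiSober.sober hZ'.1 (isClosed_of_mem_irreducibleComponents Z' hZ')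
    haveI := hX x
    have e : ξ = ξ' := isMaxPt_unique_of_isDomain_stalk x ξ ξ'
      (isMaxPt_of_isGenericPoint Z hZ ξ hξ) (isMaxPt_of_isGenericPoint Z' hZ' ξ' hξ')
      (specializes_iff_mem_closure.mpr (by rw [hξ.def]; exact hxZ))
      (specializes_iff_mem_closure.mpr (by rw [hξ'.def]; exact hxZ'))
    rw [← hξ.def, ← hξ'.def, e]
  obtain ⟨x₀⟩ : Nonempty X := inferInstance
  have hZ₀ : irreducibleComponent x₀ ∈ irreducibleComponents X :=
    irreducibleComponent_mem_irreducibleComponents x₀
  -- the complement of a component is the union of the others, hence closed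
  have hcompl : (irreducibleComponent x₀)ᶜ =
      ⋃₀ (irreducibleComponents X \ {irreducibleComponent x₀}) := by
    ext x
    constructor
    · intro hx
      refine ⟨irreducibleComponent x, ⟨irreducibleComponent_mem_irreducibleComponents x, ?_⟩,
        mem_irreducibleComponent⟩
      intro he
      rw [Set.mem_singleton_iff] at he
      exact hx (he ▸ mem_irreducibleComponent)
    · rintro ⟨Z, ⟨hZ, hne⟩, hxZ⟩ hx
      exact hne (Set.mem_singleton_iff.mpr (hdisj Z hZ _ hZ₀ ⟨x, hxZ, hx⟩))
  have hclosed : IsClosed (irreducibleComponent x₀)ᶜ := by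
    rw [hcompl, Set.sUnion_eq_biUnion]
    exact hfin.sdiff.isClosed_biUnion fun W hW => isClosed_of_mem_irreducibleComponents W hW.1
  have hclopen : IsClopen (irreducibleComponent x₀) :=
    ⟨isClosed_irreducibleComponent, isClosed_compl_iff.mp hclosed⟩
  have huniv : irreducibleComponent x₀ = Set.univ :=
    hclopen.eq_univ ⟨x₀, mem_irreducibleComponent⟩
  have hirr : IsIrreducible (Set.univ : Set X) := by
    rw [← huniv]; exact isIrreducible_irreducibleComponent
  exact (irreducibleSpace_def X).mpr hirr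

/-- **A connected Noetherian scheme all of whose local rings are domains is integral.** -/
theorem isIntegral_of_connected {X : Scheme.{u}} [NoetherianSpace X] [ConnectedSpace X]
    (hX : PtInt X) : IsIntegral X := by
  haveI := irreducibleSpace_of_connected hX
  haveI := hX.isReduced
  exact isIntegral_of_irreducibleSpace_of_isReduced X

end Groth.Agent.Lib.Helper12.ConnInt
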