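import Mathlib
import Groth.Prelude
import Groth.Agent.Lib.Helper12.ConnInt

/-!
# Irreducible components versus connected components of a Noetherian scheme all of whose local
rings are domains
-/

set_option autoImplicit false
set_option linter.style.haveILetI false
universe u
open CategoryTheory CategoryTheory.Limits AlgebraicGeometry Opposite TopologicalSpace

namespace Groth.Agent.Lib.Helper12.CompCard

open Groth.Agent.Lib.Helper12.IrrDVR Groth.Agent.Lib.Helper12.PtInt
  Groth.Agent.Lib.Helper12.ConnInt

section Top

variable {Z : Type*} [TopologicalSpace Z]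

/-- the irreducible components are pairwise disjoint -/
def DisjIrr (Z : Type*) [TopologicalSpace Z] : Prop :=
  ∀ A ∈ irreducibleComponents Z, ∀ B ∈ irreducibleComponents Z, (A ∩ B).Nonempty → A = B

/-- the connected component containing an irreducible component -/
noncomputable def φ (A : irreducibleComponents Z) : ConnectedComponents Z :=
  ConnectedComponents.mk A.2.1.nonempty.some

theorem φ_eq (A : irreducibleComponents Z) (x : Z) (hx : x ∈ A.1) :
    φ A = ConnectedComponents.mk x := by
  unfold φ
  rw [ConnectedComponents.coe_eq_coe']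
  exact A.2.1.isConnected.isPreconnected.subset_connectedComponent hx A.2.1.nonempty.some_mem

theorem φ_surjective : Function.Surjective (φ (Z := Z)) := by
  intro c
  obtain ⟨x, rfl⟩ := ConnectedComponents.surjective_coe c
  exact ⟨⟨irreducibleComponent x, irreducibleComponent_mem_irreducibleComponents x⟩,
    φ_eq _ x mem_irreducibleComponent⟩

theorem isClopen_of_disjIrr [NoetherianSpace Z] (hd : DisjIrr Z) (A : Set Z)
    (hA : A ∈ irreducibleComponents Z) : IsClopen A := by
  have hfin : (irreducibleComponents Z).Finite := NoetherianSpace.finite_irreducibleComponents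
  have hcompl : Aᶜ = ⋃₀ (irreducibleComponents Z \ {A}) := by
    ext x
    constructor
    · intro hx
      refine ⟨irreducibleComponent x, ⟨irreducibleComponent_mem_irreducibleComponents x, ?_⟩,
        mem_irreducibleComponent⟩
      intro he
      rw [Set.mem_singleton_iff] at he
      exact hx (he ▸ mem_irreducibleComponent)
    · rintro ⟨B, ⟨hB, hne⟩, hxB⟩ hx
      exact hne (Set.mem_singleton_iff.mpr (hd B hB _ hA ⟨x, hxB, hx⟩))
  have hclosed : IsClosed Aᶜ := by
    rw [hcompl, Set.sUnion_eq_biUnion]
    exact hfin.sdiff.isClosed_biUnion fun W hW => isClosed_of_mem_irreducibleComponents W hW.1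
  exact ⟨isClosed_of_mem_irreducibleComponents A hA, isClosed_compl_iff.mp hclosed⟩

theorem φ_injective_of_disjIrr [NoetherianSpace Z] (hd : DisjIrr Z) :
    Function.Injective (φ (Z := Z)) := by
  intro A B hAB
  obtain ⟨x, hx⟩ := A.2.1.nonempty
  obtain ⟨y, hy⟩ := B.2.1.nonempty
  rw [φ_eq A x hx, φ_eq B y hy, ConnectedComponents.coe_eq_coe'] at hAB
  have hsub : connectedComponent y ⊆ B.1 :=
    (isClopen_of_disjIrr hd B.1 B.2).connectedComponent_subset hy
  exact Subtype.ext (hd A.1 A.2 B.1 B.2 ⟨x, hx, hsub hAB⟩)

theorem encard_eq_of_disjIrr [NoetherianSpace Z] (hd : DisjIrr Z) :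
    (irreducibleComponents Z).encard = ENat.card (ConnectedComponents Z) := by
  rw [← ENat.card_coe_set_eq]
  exact ENat.card_congr (Equiv.ofBijective φ ⟨φ_injective_of_disjIrr hd, φ_surjective⟩)

theorem disjIrr_of_encard_eq [NoetherianSpace Z]
    (h : (irreducibleComponents Z).encard = ENat.card (ConnectedComponents Z)) : DisjIrr Z := by
  have hfin : (irreducibleComponents Z).Finite := NoetherianSpace.finite_irreducibleComponents
  haveI : Finite (irreducibleComponents Z) := hfin.to_subtype
  haveI : Finite (ConnectedComponents Z) := Finite.of_surjective φ φ_surjective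
  have hcard : Nat.card (irreducibleComponents Z) = Nat.card (ConnectedComponents Z) := by
    rw [Nat.card_coe_set_eq, Set.ncard_def, h, ENat.card_eq_coe_natCard, ENat.toNat_coe]
  have hbij : Function.Bijective (φ (Z := Z)) :=
    φ_surjective.bijective_of_nat_card_le hcard.le
  intro A hA B hB ⟨x, hxA, hxB⟩
  have := hbij.1 ((φ_eq ⟨A, hA⟩ x hxA).trans (φ_eq ⟨B, hB⟩ x hxB).symm)
  exact congrArg Subtype.val this

end Top

/-- in a scheme all of whose local rings are domains, irreducible components are disjoint. -/
theorem disjIrr_of_ptInt {X : Scheme.{u}} (hX : PtInt X) : DisjIrr X := by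
  intro Z hZ Z' hZ' ⟨x, hxZ, hxZ'⟩
  obtain ⟨ξ, hξ⟩ := QuasiSober.sober hZ.1 (isClosed_of_mem_irreducibleComponents Z hZ)
  obtain ⟨ξ', hξ'⟩ := QuasiSober.sober hZ'.1 (isClosed_of_mem_irreducibleComponents Z' hZ')
  haveI := hX x
  have e : ξ = ξ' := isMaxPt_unique_of_isDomain_stalk x ξ ξ'
    (isMaxPt_of_isGenericPoint Z hZ ξ hξ) (isMaxPt_of_isGenericPoint Z' hZ' ξ' hξ')
    (specializes_iff_mem_closure.mpr (by rw [hξ.def]; exact hxZ))
    (specializes_iff_mem_closure.mpr (by rw [hξ'.def]; exact hxZ'))
  rw [← hξ.def, ← hξ'.def, e]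

/-- a reduced Noetherian scheme with pairwise disjoint irreducible components has integral local
rings. -/
theorem ptInt_of_disjIrr {X : Scheme.{u}} [NoetherianSpace X] [IsReduced X] (hd : DisjIrr X) :
    PtInt X := by
  intro x
  have hA := irreducibleComponent_mem_irreducibleComponents x
  have hclopen := isClopen_of_disjIrr hd _ hA
  obtain ⟨U, hU⟩ : ∃ U : X.Opens, (U : Set X) = irreducibleComponent x :=
    ⟨⟨irreducibleComponent x, hclopen.isOpen⟩, rfl⟩
  have hxU : x ∈ U := by
    show x ∈ (U : Set X)
    rw [hU]; exact mem_irreducibleComponent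
  haveI : IrreducibleSpace ↥U.toScheme := by
    have h1 : IsIrreducible (U : Set X) := by rw [hU]; exact isIrreducible_irreducibleComponent
    exact isIrreducible_iff_irreducibleSpace.mp h1
  haveI : IsIntegral U.toScheme := isIntegral_of_irreducibleSpace_of_isReduced _
  have hdom : IsDomain (U.toScheme.presheaf.stalk ⟨x, hxU⟩) := inferInstance
  exact (isDomain_stalk_of_isOpenImmersion U.ι ⟨x, hxU⟩).mp hdom

end Groth.Agent.Lib.Helper12.CompCard
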