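import Mathlib

/-!
# Counting irreducible and connected components of a finite union (helper12)
-/

set_option autoImplicit false
universe u

namespace Groth.Agent.Lib.Helper12.CompCount

open Set

section irr

variable {G : Type*} [TopologicalSpace G] {ι : Type*} [Finite ι] (Z : ι → Set G)

/-- a finite irredundant cover by irreducible closed subsets is the set of irreducible
components -/
theorem irreducibleComponents_eq_range (hcl : ∀ i, IsClosed (Z i))
    (hirr : ∀ i, IsIrreducible (Z i)) (hcov : ⋃ i, Z i = univ)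
    (hne : ∀ i, ∃ x ∈ Z i, ∀ j, j ≠ i → x ∉ Z j) :
    irreducibleComponents G = Set.range Z ∧ Function.Injective Z := by
  classical
  haveI := Fintype.ofFinite ι
  -- an irreducible set lies in one of the `Z i`
  have hsub : ∀ W : Set G, IsIrreducible W → ∃ i, W ⊆ Z i := by
    intro W hW
    have h1 := (isIrreducible_iff_sUnion_isClosed.mp hW) (Finset.univ.image Z)
      (fun z hz => by
        obtain ⟨i, -, rfl⟩ := Finset.mem_image.mp hz
        exact hcl i)
      (by
        intro x _
        have hx : x ∈ ⋃ i, Z i := by rw [hcov]; trivial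
        obtain ⟨i, hi⟩ := mem_iUnion.mp hx
        exact ⟨Z i, Finset.mem_coe.mpr (Finset.mem_image_of_mem Z (Finset.mem_univ i)), hi⟩)
    obtain ⟨z, hz, hWz⟩ := h1
    obtain ⟨i, -, rfl⟩ := Finset.mem_image.mp hz
    exact ⟨i, hWz⟩
  have hinj' : ∀ i j, Z i ⊆ Z j → i = j := by
    intro i j hij
    by_contra hne'
    obtain ⟨x, hx, hxn⟩ := hne i
    exact hxn j (fun h => hne' h.symm) (hij hx)
  have hmax : ∀ i, Z i ∈ irreducibleComponents G := by
    intro i
    refine ⟨hirr i, fun W hW hle => ?_⟩
    obtain ⟨j, hj⟩ := hsub W hW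
    have := hinj' i j (hle.trans hj)
    subst this
    exact hj
  refine ⟨?_, fun i j hij => hinj' i j hij.le⟩
  ext W
  constructor
  · intro hW
    obtain ⟨i, hi⟩ := hsub W hW.1
    exact ⟨i, (hW.2 (hirr i) hi).antisymm hi |>.symm ▸ rfl⟩
  · rintro ⟨i, rfl⟩
    exact hmax i

theorem encard_irreducibleComponents_eq (hcl : ∀ i, IsClosed (Z i))
    (hirr : ∀ i, IsIrreducible (Z i)) (hcov : ⋃ i, Z i = univ)
    (hne : ∀ i, ∃ x ∈ Z i, ∀ j, j ≠ i → x ∉ Z j) :
    (irreducibleComponents G).encard = ENat.card ι := by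
  obtain ⟨h1, h2⟩ := irreducibleComponents_eq_range Z hcl hirr hcov hne
  rw [h1, ← image_univ, h2.encard_image, encard_univ]

end irr

end Groth.Agent.Lib.Helper12.CompCount
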