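import Mathlib

/-!
# Counting connected components of a finite union of connected closed subsets (helper12)
-/

set_option autoImplicit false
universe u

namespace Groth.Agent.Lib.Helper12.CompCountConn

open Set

variable {G : Type*} [TopologicalSpace G] {ι : Type*} [Finite ι] (A : ι → Set G)

/-- The connected components of a finite union of connected closed subsets correspond to the
connected components of the intersection graph. -/
theorem card_connectedComponents_eq (hcl : ∀ i, IsClosed (A i)) (hconn : ∀ i, IsConnected (A i))
    (hcov : ⋃ i, A i = univ) :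
    ENat.card (ConnectedComponents G) =
      ENat.card (Quot (fun i j : ι => (A i ∩ A j).Nonempty)) := by
  classical
  let r : ι → ι → Prop := fun i j => (A i ∩ A j).Nonempty
  have hne : ∀ i, ∃ x, x ∈ A i := fun i => (hconn i).nonempty
  choose p hp using hne
  have F1 : ∀ i, ∀ x ∈ A i, (x : ConnectedComponents G) = (p i : ConnectedComponents G) := by
    intro i x hx
    rw [ConnectedComponents.coe_eq_coe']
    exact (hconn i).isPreconnected.subset_connectedComponent (hp i) hx
  have F2 : ∀ i j, r i j → (p i : ConnectedComponents G) = (p j : ConnectedComponents G) := by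
    rintro i j ⟨x, hxi, hxj⟩
    rw [← F1 i x hxi, F1 j x hxj]
  let Φ : Quot r → ConnectedComponents G :=
    Quot.lift (fun i => (p i : ConnectedComponents G)) F2
  have hsurj : Function.Surjective Φ := by
    intro c
    obtain ⟨x, rfl⟩ := ConnectedComponents.surjective_coe c
    have hx : x ∈ ⋃ i, A i := by rw [hcov]; trivial
    obtain ⟨i, hi⟩ := mem_iUnion.mp hx
    exact ⟨Quot.mk r i, (F1 i x hi).symm⟩
  have hinj : Function.Injective Φ := by
    intro a b
    induction a using Quot.ind with | _ i => ?_
    induction b using Quot.ind with | _ j => ?_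
    intro hij
    have hij' : (p i : ConnectedComponents G) = (p j : ConnectedComponents G) := hij
    let B : Set G := ⋃ k ∈ {k : ι | Quot.mk r k = Quot.mk r i}, A k
    let B' : Set G := ⋃ k ∈ {k : ι | Quot.mk r k ≠ Quot.mk r i}, A k
    have hBcl : IsClosed B :=
      Set.Finite.isClosed_biUnion (Set.toFinite _) (fun k _ => hcl k)
    have hB'cl : IsClosed B' :=
      Set.Finite.isClosed_biUnion (Set.toFinite _) (fun k _ => hcl k)
    have hcompl : Bᶜ = B' := by
      ext x
      simp only [B, B', mem_compl_iff, mem_iUnion, mem_setOf_eq, exists_prop, not_exists, not_and]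
      constructor
      · intro hx
        have hx' : x ∈ ⋃ i, A i := by rw [hcov]; trivial
        obtain ⟨k, hk⟩ := mem_iUnion.mp hx'
        exact ⟨k, fun h => hx k h hk, hk⟩
      · rintro ⟨k, hk, hxk⟩ k' hk' hxk'
        exact hk ((Quot.sound (⟨x, hxk, hxk'⟩ : r k k')).trans hk')
    have hBopen : IsOpen B := by
      rw [← isClosed_compl_iff, hcompl]
      exact hB'cl
    have hpi : p i ∈ B := mem_iUnion₂.mpr ⟨i, rfl, hp i⟩
    have hsub := (IsClopen.connectedComponent_subset ⟨hBcl, hBopen⟩ hpi)
    have hpj : p j ∈ connectedComponent (p i) := by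
      rw [ConnectedComponents.coe_eq_coe'] at hij'
      rw [← connectedComponent_eq hij']
      exact mem_connectedComponent
    obtain ⟨k, hk, hpjk⟩ := mem_iUnion₂.mp (hsub hpj)
    have h1 : Quot.mk r j = Quot.mk r k := Quot.sound ⟨p j, hp j, hpjk⟩
    exact (h1.trans hk).symm
  exact (ENat.card_congr (Equiv.ofBijective Φ ⟨hinj, hsurj⟩)).symm

/-- two finite unions of connected closed subsets with the same intersection pattern have the same
number of connected components -/
theorem card_connectedComponents_eq_of_iff {G' : Type*} [TopologicalSpace G'] (A' : ι → Set G')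
    (hcl : ∀ i, IsClosed (A i)) (hconn : ∀ i, IsConnected (A i)) (hcov : ⋃ i, A i = univ)
    (hcl' : ∀ i, IsClosed (A' i)) (hconn' : ∀ i, IsConnected (A' i)) (hcov' : ⋃ i, A' i = univ)
    (h : ∀ i j, (A i ∩ A j).Nonempty ↔ (A' i ∩ A' j).Nonempty) :
    ENat.card (ConnectedComponents G) = ENat.card (ConnectedComponents G') := by
  rw [card_connectedComponents_eq A hcl hconn hcov, card_connectedComponents_eq A' hcl' hconn' hcov']
  have : (fun i j : ι => (A i ∩ A j).Nonempty) = (fun i j : ι => (A' i ∩ A' j).Nonempty) := by
    funext i j
    exact propext (h i j)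
  rw [this]

end Groth.Agent.Lib.Helper12.CompCountConn
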