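import Mathlib

/-!
# The support of a finitely presented module is constructible (helper12)

For a finitely presented module `M` over a commutative ring `B`, the complement of the support is
a finite union of basic opens (the nonvanishing loci of the maximal minors of a presentation
matrix).  Consequently the support is constructible, and so is its image under a finitely
presented ring map (Chevalley).
-/

set_option autoImplicit false
set_option linter.style.haveILetI false
universe u

open PrimeSpectrum Topology

namespace Groth.Agent.Lib.Helper12.SuppCons

section Minors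

variable {B : Type*} [CommRing B] {M : Type*} [AddCommGroup M] [Module B M]

/-- Cramer: a maximal minor of the relation matrix kills the module. -/
theorem det_smul_mem_ker {n r : ℕ} (π : (Fin n → B) →ₗ[B] M)
    (k : Fin r → (Fin n → B)) (hk : Submodule.span B (Set.range k) = LinearMap.ker π)
    (σ : Fin n → Fin r) (v : Fin n → B) :
    (Matrix.det (Matrix.of fun i j => k (σ i) j)) • v ∈ LinearMap.ker π := by
  set N : Matrix (Fin n) (Fin n) B := Matrix.of fun i j => k (σ i) j with hN
  have h1 : N.det • v = Matrix.vecMul (Matrix.vecMul v N.adjugate) N := by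
    rw [Matrix.vecMul_vecMul, Matrix.adjugate_mul, Matrix.vecMul_smul, Matrix.vecMul_one]
  rw [h1, Matrix.vecMul_eq_sum, ← hk]
  refine Submodule.sum_mem _ fun i _ => Submodule.smul_mem _ _ ?_
  have : N i = k (σ i) := by
    funext j
    rfl
  rw [this]
  exact Submodule.subset_span ⟨σ i, rfl⟩

theorem compl_support_eq_iUnion {n r : ℕ} (π : (Fin n → B) →ₗ[B] M) (hπ : Function.Surjective π)
    (k : Fin r → (Fin n → B)) (hk : Submodule.span B (Set.range k) = LinearMap.ker π) :
    (Module.support B M)ᶜ =
      ⋃ σ : Fin n → Fin r,
        (basicOpen (Matrix.det (Matrix.of fun i j => k (σ i) j)) : Set (PrimeSpectrum B)) := by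
  classical
  ext p
  simp only [Set.mem_compl_iff, Set.mem_iUnion, SetLike.mem_coe, PrimeSpectrum.mem_basicOpen]
  constructor
  · intro hp
    rw [Module.notMem_support_iff'] at hp
    -- the residue field
    let κ := p.asIdeal.ResidueField
    let φ : B →+* κ := algebraMap B κ
    have hφ : ∀ b : B, φ b = 0 ↔ b ∈ p.asIdeal := fun b =>
      Ideal.algebraMap_residueField_eq_zero
    let Φ : (Fin n → B) →ₗ[B] (Fin n → κ) := (Algebra.linearMap B κ).compLeft (Fin n)
    let kb : Fin r → (Fin n → κ) := fun j => Φ (k j)
    have hspan : Submodule.span κ (Set.range kb) = ⊤ := by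
      rw [eq_top_iff, ← (Pi.basisFun κ (Fin n)).span_eq, Submodule.span_le]
      rintro _ ⟨i, rfl⟩
      obtain ⟨s, hs, hsm⟩ := hp (π (Pi.single i 1))
      have hker : s • (Pi.single i (1 : B) : Fin n → B) ∈ LinearMap.ker π := by
        rw [LinearMap.mem_ker, map_smul, hsm]
      rw [← hk] at hker
      have hmap : Φ (s • (Pi.single i (1 : B) : Fin n → B)) ∈
          (Submodule.span κ (Set.range kb)).restrictScalars B := by
        have hle : Submodule.span B (Set.range k) ≤
            ((Submodule.span κ (Set.range kb)).restrictScalars B).comap Φ := by
          rw [Submodule.span_le]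
          rintro _ ⟨j, rfl⟩
          exact Submodule.subset_span ⟨j, rfl⟩
        exact hle hker
      have hΦ : Φ (s • (Pi.single i (1 : B) : Fin n → B)) =
          φ s • (Pi.basisFun κ (Fin n) i) := by
        funext j
        simp only [Φ, LinearMap.compLeft_apply, Function.comp_apply, Pi.smul_apply,
          Algebra.linearMap_apply, Pi.basisFun_apply, smul_eq_mul]
        by_cases hij : j = i
        · subst hij
          simp [φ]
        · simp [Pi.single_eq_of_ne hij, φ]
      rw [hΦ] at hmap
      have hne : φ s ≠ 0 := fun h => hs ((hφ s).mp h)
      have := (Submodule.span κ (Set.range kb)).smul_mem (φ s)⁻¹ hmap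
      rwa [smul_smul, inv_mul_cancel₀ hne, one_smul] at this
    obtain ⟨g, hg, -, hli⟩ := Submodule.exists_fun_fin_finrank_span_eq κ (Set.range kb)
    have hcard : Module.finrank κ (Submodule.span κ (Set.range kb)) = n := by
      rw [hspan, finrank_top, Module.finrank_fin_fun]
    choose τ hτ using hg
    let e : Fin n ≃ Fin (Module.finrank κ (Submodule.span κ (Set.range kb))) := finCongr hcard.symm
    refine ⟨fun i => τ (e i), ?_⟩
    set N : Matrix (Fin n) (Fin n) B := Matrix.of fun i j => k (τ (e i)) j with hN
    have hrows : LinearIndependent κ (N.map φ).row := by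
      have h2 : (N.map φ).row = g ∘ e := by
        funext i
        rw [Function.comp_apply, ← hτ (e i)]
        funext j
        simp [Matrix.row, N, kb, Φ, φ]
      rw [h2]
      exact hli.comp _ e.injective
    have hunit := Matrix.linearIndependent_rows_iff_isUnit.mp hrows
    rw [Matrix.isUnit_iff_isUnit_det] at hunit
    intro hmem
    have hdet : (N.map φ).det = φ N.det := by
      rw [← RingHom.mapMatrix_apply, ← RingHom.map_det]
    rw [hdet, (hφ _).mpr hmem] at hunit
    exact not_isUnit_zero hunit
  · rintro ⟨σ, hσ⟩
    rw [Module.notMem_support_iff']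
    intro m
    obtain ⟨v, rfl⟩ := hπ m
    refine ⟨_, hσ, ?_⟩
    rw [← map_smul]
    exact det_smul_mem_ker π k hk σ v

end Minors

section Main

variable {B : Type u} [CommRing B] {M : Type u} [AddCommGroup M] [Module B M]

theorem isCompact_compl_support [Module.FinitePresentation B M] :
    IsCompact (Module.support B M)ᶜ := by
  obtain ⟨n, m, f, g, hf, hfg⟩ := Module.FinitePresentation.exists_fin' B M
  let k : Fin m → (Fin n → B) := fun j => g (Pi.basisFun B (Fin m) j)
  have hk : Submodule.span B (Set.range k) = LinearMap.ker f := by
    rw [(LinearMap.exact_iff.mp hfg), LinearMap.range_eq_map, ← (Pi.basisFun B (Fin m)).span_eq,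
      Submodule.map_span, ← Set.range_comp]
    rfl
  rw [compl_support_eq_iUnion f hf k hk]
  exact isCompact_iUnion fun σ => isCompact_basicOpen _

theorem isConstructible_support [Module.FinitePresentation B M] :
    IsConstructible (Module.support B M) := by
  have hcl : IsClosed (Module.support B M) := Module.isClosed_support
  exact (isCompact_compl_support.isConstructible hcl.isOpen_compl).of_compl

theorem isConstructible_comap_image_support {A : Type u} [CommRing A] [Algebra A B]
    [Algebra.FinitePresentation A B] [Module.FinitePresentation B M] :
    IsConstructible (PrimeSpectrum.comap (algebraMap A B) '' Module.support B M) :=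
  PrimeSpectrum.isConstructible_comap_image
    (RingHom.finitePresentation_algebraMap.mpr inferInstance) isConstructible_support

/-- ring-hom form. -/
theorem isConstructible_comap_image_support' {A : Type u} [CommRing A] (φ : A →+* B)
    (hφ : φ.FinitePresentation) [Module.FinitePresentation B M] :
    IsConstructible (PrimeSpectrum.comap φ '' Module.support B M) :=
  PrimeSpectrum.isConstructible_comap_image hφ isConstructible_support

end Main

end Groth.Agent.Lib.Helper12.SuppCons
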