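import Mathlib
import Groth.Prelude
import Groth.Agent.Lib.Helper12.SuppCons
import Groth.Agent.Lib.Helper1.FlatGD2
import Groth.Agent.Lib.Helper17.SuppTensor
import Groth.Agent.Lib.Helper3.QCProps

/-!
# A morphism locally of finite presentation is open on the support of a flat finitely presented
module (EGA IV 2.4.6 for modules) (helper12)
-/

set_option autoImplicit false
set_option linter.style.haveILetI false
universe u
open CategoryTheory CategoryTheory.Limits AlgebraicGeometry TopologicalSpace Opposite Topology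

namespace Groth.Agent.Lib.Helper12.SuppOpen

open Groth.Agent.Lib.Helper3 Groth.Agent.Lib.Helper17 Groth.Agent.Lib.Helper1

variable {X Y : Scheme.{u}}

/-- `f (G ∩ Supp F)` is open for `G` open, `f` locally of finite presentation and `F` a finitely
presented `f`-flat module. -/
theorem isOpen_image_inter_support (f : X ⟶ Y) [LocallyOfFinitePresentation f]
    (F : X.Modules) [SheafOfModules.IsFinitePresentation (R := X.ringCatSheaf) F]
    (hflat : FlatMod.IsFlatOver f F) (G : Set X) (hG : IsOpen G) :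
    IsOpen (f.base '' (G ∩ CohB1.support F)) := by
  haveI : F.IsQuasicoherent := inferInstance
  haveI : F.IsFiniteType := inferInstance
  have hcoh : Coh.IsCoh F := ⟨inferInstance, inferInstance⟩
  rw [isOpen_iff_forall_mem_open]
  rintro _ ⟨x, ⟨hxG, hxF⟩, rfl⟩
  obtain ⟨_, ⟨W, hW, rfl⟩, hxW, -⟩ := Y.isBasis_affineOpens.exists_subset_of_mem_open
    (Set.mem_univ (f x)) isOpen_univ
  obtain ⟨_, ⟨V, hV, rfl⟩, hxV, hVW⟩ := X.isBasis_affineOpens.exists_subset_of_mem_open
    (show x ∈ ((f ⁻¹ᵁ W : X.Opens) : Set X) ∩ G from ⟨hxW, hxG⟩) ((f ⁻¹ᵁ W).2.inter hG)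
  have e : V ≤ f ⁻¹ᵁ W := fun z hz => (hVW hz).1
  have hVG : (V : Set X) ⊆ G := fun z hz => (hVW hz).2
  have hφ : (f.appLE W V e).hom.FinitePresentation := f.finitePresentation_appLE hW hV e
  haveI : Module.FinitePresentation Γ(X, V) Γ(F, V) := QCProps.finitePresentation_sections F hV
  have hsq : Spec.map (f.appLE W V e) ≫ hW.fromSpec = hV.fromSpec ≫ f :=
    hW.SpecMap_appLE_fromSpec f hV e
  have hsq' : ∀ q : Spec Γ(X, V), f (hV.fromSpec q) =
      hW.fromSpec (PrimeSpectrum.comap (f.appLE W V e).hom q) := by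
    intro q
    have := congrArg (fun g => g.base q) hsq
    exact this.symm
  have hmemV : ∀ q : Spec Γ(X, V), hV.fromSpec q ∈ V := fun q => by
    have : hV.fromSpec q ∈ Set.range hV.fromSpec := ⟨q, rfl⟩
    rwa [hV.range_fromSpec] at this
  have hsupp : ∀ q : Spec Γ(X, V), hV.fromSpec q ∈ CohB1.support F ↔
      q ∈ Module.support Γ(X, V) Γ(F, V) := by
    intro q
    rw [SuppTensor.mem_support_iff_affine F hV _ (hmemV q)]
    have : hV.primeIdealOf ⟨hV.fromSpec q, hmemV q⟩ = q := by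
      apply hV.fromSpec.isOpenEmbedding.injective
      rw [hV.fromSpec_primeIdealOf]
    rw [this]
    exact Iff.rfl
  set T₀ : Set (PrimeSpectrum Γ(Y, W)) :=
    PrimeSpectrum.comap (f.appLE W V e).hom '' Module.support Γ(X, V) Γ(F, V) with hT₀
  have hT₀c : IsConstructible T₀ := SuppCons.isConstructible_comap_image_support' _ hφ
  have hT₀g : StableUnderGeneralization T₀ := by
    rintro p p' hp'p ⟨q, hq, rfl⟩
    have hx'F : hV.fromSpec q ∈ CohB1.support F := (hsupp q).mpr hq
    have hw : hW.fromSpec p' ⤳ f (hV.fromSpec q) := by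
      rw [hsq' q]
      exact hp'p.map hW.fromSpec.continuous
    obtain ⟨z, hzx, hzF, hzw⟩ := FlatGD.exists_generization_support f F hcoh (hV.fromSpec q)
      (hflat _) hx'F _ hw
    have hzV : z ∈ V := hzx.mem_open V.2 (hmemV q)
    refine ⟨hV.primeIdealOf ⟨z, hzV⟩, ?_, ?_⟩
    · refine (hsupp (hV.primeIdealOf ⟨z, hzV⟩)).mp ?_
      rw [hV.fromSpec_primeIdealOf]
      exact hzF
    · apply hW.fromSpec.isOpenEmbedding.injective
      rw [← hsq', hV.fromSpec_primeIdealOf]
      exact hzw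
  have hT₀o : IsOpen T₀ :=
    PrimeSpectrum.isOpen_of_stableUnderGeneralization_of_isConstructible hT₀g hT₀c
  refine ⟨hW.fromSpec.base '' T₀, ?_, hW.fromSpec.isOpenEmbedding.isOpenMap _ hT₀o, ?_⟩
  · rintro _ ⟨_, ⟨q, hq, rfl⟩, rfl⟩
    refine ⟨hV.fromSpec q, ⟨hVG (hmemV q), (hsupp q).mpr hq⟩, hsq' q⟩
  · refine ⟨PrimeSpectrum.comap (f.appLE W V e).hom (hV.primeIdealOf ⟨x, hxV⟩),
      ⟨hV.primeIdealOf ⟨x, hxV⟩, ?_, rfl⟩, ?_⟩
    · refine (hsupp (hV.primeIdealOf ⟨x, hxV⟩)).mp ?_
      rw [hV.fromSpec_primeIdealOf]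
      exact hxF
    · rw [← hsq', hV.fromSpec_primeIdealOf]

end Groth.Agent.Lib.Helper12.SuppOpen
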