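import Mathlib
import Groth.Prelude
import Groth.Agent.Lib.Helper12.SuppOpen
import Groth.Agent.Lib.Helper20.AssDim2
import Groth.Agent.Lib.Helper20.SkFib5
import Groth.Agent.Lib.Helper17.AssPt
import Groth.Agent.Lib.Helper1.MaxAnnInt

/-!
# Dimensions of the irreducible components of the supports of the fibres of a flat module
(EGA IV 12.2.1 (iii)) (helper12)
-/

set_option autoImplicit false
set_option linter.style.haveILetI false
set_option linter.unusedSectionVars false
universe u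
open CategoryTheory CategoryTheory.Limits AlgebraicGeometry TopologicalSpace Opposite Topology

namespace Groth.Agent.Lib.Helper12.CompDims

open Groth.Agent.Lib.Helper3 Groth.Agent.Lib.Helper17 Groth.Agent.Lib.Helper1
  Groth.Agent.Lib.Helper20.AssDim Groth.Agent.Lib.Helper20.RD Groth.Agent.Lib.Helper20.SkFib
  Groth.Agent.Lib.Helper12.SchemeDimIneq

section Top

/-- an irreducible component of a closed subset of a sober space has a generic point, which is a
minimal point of the subset, and its dimension is the dimension of the closure of that point in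
the ambient space. -/
theorem exists_generic_of_mem_irreducibleComponents {T : Type*} [TopologicalSpace T] [QuasiSober T]
    [T0Space T] {S : Set T} (hS : IsClosed S) {Z : Set ↥S} (hZ : Z ∈ irreducibleComponents ↥S) :
    ∃ ζ : T, ∃ hζ : ζ ∈ S, (∀ z ∈ S, z ⤳ ζ → z = ζ) ∧ Z = closure {(⟨ζ, hζ⟩ : ↥S)} ∧
      topologicalKrullDim ↥Z = topologicalKrullDim ↥(closure ({ζ} : Set T)) := by
  haveI : QuasiSober ↥S := hS.isClosedEmbedding_subtypeVal.quasiSober
  have hZirr : IsIrreducible Z := hZ.1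
  have hZcl : IsClosed Z := isClosed_of_mem_irreducibleComponents Z hZ
  obtain ⟨⟨ζ, hζ⟩, hgen⟩ := QuasiSober.sober hZirr hZcl
  have hgen' : closure {(⟨ζ, hζ⟩ : ↥S)} = Z := hgen
  refine ⟨ζ, hζ, ?_, hgen'.symm, ?_⟩
  · intro z hz hzζ
    have h1 : (⟨z, hz⟩ : ↥S) ⤳ ⟨ζ, hζ⟩ :=
      Topology.IsInducing.subtypeVal.specializes_iff.mp hzζ
    have h2 : closure {(⟨ζ, hζ⟩ : ↥S)} ⊆ closure {(⟨z, hz⟩ : ↥S)} :=
      specializes_iff_closure_subset.mp h1
    have h3 : IsIrreducible (closure {(⟨z, hz⟩ : ↥S)}) := isIrreducible_singleton.closure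
    have h4 : closure {(⟨z, hz⟩ : ↥S)} ≤ Z := hZ.2 h3 (hgen' ▸ h2)
    have h5 : (⟨z, hz⟩ : ↥S) ∈ closure {(⟨ζ, hζ⟩ : ↥S)} := hgen' ▸ h4 (subset_closure rfl)
    have h6 : (⟨ζ, hζ⟩ : ↥S) ⤳ ⟨z, hz⟩ := specializes_iff_mem_closure.mpr h5
    have h7 : ζ ⤳ z := h6.map continuous_subtype_val
    exact (hzζ.antisymm h7).eq
  · have himg : Subtype.val '' Z = closure ({ζ} : Set T) := by
      rw [← hgen', ← hS.isClosedEmbedding_subtypeVal.closure_image_eq, Set.image_singleton]
    have h1 := IsHomeomorph.topologicalKrullDim_eq _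
      (Topology.IsEmbedding.subtypeVal.homeomorphImage Z).isHomeomorph
    rw [h1, himg]

end Top

section Fibre

variable {X Y : Scheme.{u}} (f : X ⟶ Y) (F : X.Modules)

/-- the support of the fibre module, in the form used in the statements. -/
abbrev Sy (y : Y) : Set ↥(f.fiber y) :=
  {z : ↥(f.fiber y) |
    Nontrivial (((Scheme.Modules.pullback (f.fiberι y)).obj F).presheaf.stalk z)}

theorem sy_eq_support (y : Y) :
    Sy f F y = CohB1.support ((Scheme.Modules.pullback (f.fiberι y)).obj F) := by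
  ext z
  exact not_subsingleton_iff_nontrivial.symm

theorem mem_sy_iff [F.IsQuasicoherent] [F.IsFiniteType] (y : Y) (z : f.fiber y) :
    z ∈ Sy f F y ↔ (f.fiberι y).base z ∈ CohB1.support F := by
  rw [sy_eq_support, SuppTensor.support_pullback (f.fiberι y) F]
  rfl

theorem isClosed_sy [F.IsQuasicoherent] [F.IsFiniteType] (y : Y) : IsClosed (Sy f F y) := by
  have h1 : Sy f F y = (f.fiberι y).base ⁻¹' CohB1.support F := by
    ext z
    exact mem_sy_iff f F y z
  rw [h1]
  exact (MaxAnnInt.isClosed_support F).preimage (f.fiberι y).continuous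

/-- minimal points of the support of the fibre module are associated points. -/
theorem mem_ass_of_minimal [F.IsQuasicoherent] [F.IsFiniteType] [LocallyOfFiniteType f] (y : Y)
    (ζ : f.fiber y) (hζ : ζ ∈ Sy f F y) (hmin : ∀ z ∈ Sy f F y, z ⤳ ζ → z = ζ) :
    ζ ∈ AssSch.Ass ((Scheme.Modules.pullback (f.fiberι y)).obj F) := by
  haveI : LocallyOfFiniteType (f.fiberToSpecResidueField y) := by
    change LocallyOfFiniteType (pullback.snd f (Y.fromSpecResidueField y))
    infer_instance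
  haveI : IsLocallyNoetherian (f.fiber y) :=
    LocallyOfFiniteType.isLocallyNoetherian (f.fiberToSpecResidueField y)
  haveI : ((Scheme.Modules.pullback (f.fiberι y)).obj F).IsQuasicoherent :=
    PbStalk.isQuasicoherent_pullback (f.fiberι y) F
  obtain ⟨z, hzass, hzζ⟩ := AssPt.exists_assPoint_specializes_of_nontrivial
    ((Scheme.Modules.pullback (f.fiberι y)).obj F) ζ hζ
  have hzS : z ∈ Sy f F y := AssPt.nontrivial_stalk_of_isAssPoint _ z hzass
  have := hmin z hzS hzζ
  subst this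
  exact hzass

/-- the data attached to an irreducible component of the support of the fibre module. -/
theorem comp_data [F.IsQuasicoherent] [F.IsFiniteType] [LocallyOfFiniteType f] (y : Y)
    {Z : Set ↥(Sy f F y)} (hZ : Z ∈ irreducibleComponents ↥(Sy f F y)) :
    ∃ ζ : f.fiber y, ∃ hζ : ζ ∈ Sy f F y, (∀ z ∈ Sy f F y, z ⤳ ζ → z = ζ) ∧
      Z = closure {(⟨ζ, hζ⟩ : ↥(Sy f F y))} ∧
      topologicalKrullDim ↥Z = ((trn f ((f.fiberι y).base ζ) : ℕ∞) : WithBot ℕ∞) ∧
      ζ ∈ AssSch.Ass ((Scheme.Modules.pullback (f.fiberι y)).obj F) := by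
  obtain ⟨ζ, hζ, hmin, hZeq, hdim⟩ :=
    exists_generic_of_mem_irreducibleComponents (isClosed_sy f F y) hZ
  refine ⟨ζ, hζ, hmin, hZeq, ?_, mem_ass_of_minimal f F y ζ hζ hmin⟩
  rw [hdim, dim_closure_eq_trn f y ζ]

end Fibre

section Main

variable {X Y : Scheme.{u}} (f : X ⟶ Y) (F : X.Modules)

/-- the set of points of the base over which the support of the fibre module has an irreducible
component of dimension `n` is open. -/
theorem isOpen_setOf_exists_comp_dim [LocallyOfFinitePresentation f]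
    [SheafOfModules.IsFinitePresentation (R := X.ringCatSheaf) F]
    (hflat : FlatMod.IsFlatOver f F) (n : ℕ) :
    IsOpen {y : Y | ∃ Z ∈ irreducibleComponents ↥(Sy f F y),
      topologicalKrullDim ↥Z = (n : WithBot ℕ∞)} := by
  haveI : F.IsQuasicoherent := inferInstance
  haveI : F.IsFiniteType := inferInstance
  rw [isOpen_iff_forall_mem_open]
  rintro y₀ ⟨Z₀, hZ₀, hdim₀⟩
  obtain ⟨ζ₀, hζ₀, hmin₀, -, hd₀, -⟩ := comp_data f F y₀ hZ₀
  have hfx₀ : f ((f.fiberι y₀).base ζ₀) = y₀ := apply_fiberι' f y₀ ζ₀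
  have htr₀ : trn f ((f.fiberι y₀).base ζ₀) = (n : ℕ∞) := by
    rw [hd₀] at hdim₀
    exact_mod_cast hdim₀
  have hx₀G : (f.fiberι y₀).base ζ₀ ∈ GSet f F {n} := by
    intro z hfz hzx hd
    have hfz' : f z = y₀ := hfz.trans hfx₀
    set z' := (f.fiberHomeo y₀).symm ⟨z, hfz'⟩ with hz'
    have hιz : (f.fiberι y₀).base z' = z := f.fiberι_fiberHomeo_symm y₀ ⟨z, hfz'⟩
    have hass : z' ∈ AssSch.Ass ((Scheme.Modules.pullback (f.fiberι y₀)).obj F) := by
      rw [mem_ass_fibre_iff f F y₀ z', hιz]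
      exact hd
    have hz'S : z' ∈ Sy f F y₀ := AssPt.nontrivial_stalk_of_isAssPoint _ z' hass
    have hz'ζ : z' ⤳ ζ₀ := by
      apply (f.fiberι y₀).isEmbedding.isInducing.specializes_iff.mp
      rw [hιz]
      exact hzx
    have hz'eq := hmin₀ z' hz'S hz'ζ
    refine ⟨n, Finset.mem_singleton_self n, ?_⟩
    rw [← hιz, hz'eq]
    exact htr₀
  have hx₀F : (f.fiberι y₀).base ζ₀ ∈ CohB1.support F := (mem_sy_iff f F y₀ ζ₀).mp hζ₀
  have hopen := SuppOpen.isOpen_image_inter_support f F hflat (GSet f F {n})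
    (isOpen_gSet f F hflat {n})
  refine ⟨_, ?_, hopen, ⟨_, ⟨hx₀G, hx₀F⟩, hfx₀⟩⟩
  rintro _ ⟨x, ⟨hxG, hxF⟩, rfl⟩
  have hξS : f.asFiber x ∈ Sy f F (f.base x) := by
    rw [mem_sy_iff, f.fiberι_asFiber]
    exact hxF
  have hZ := irreducibleComponent_mem_irreducibleComponents
    (⟨f.asFiber x, hξS⟩ : ↥(Sy f F (f.base x)))
  obtain ⟨ζ, hζ, hmin, hZeq, hd, hass⟩ := comp_data f F (f.base x) hZ
  refine ⟨_, hZ, ?_⟩
  rw [hd]
  have hζξ : ζ ⤳ f.asFiber x := by
    have h1 : (⟨f.asFiber x, hξS⟩ : ↥(Sy f F (f.base x))) ∈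
        closure {(⟨ζ, hζ⟩ : ↥(Sy f F (f.base x)))} := hZeq ▸ mem_irreducibleComponent
    exact (specializes_iff_mem_closure.mpr h1).map continuous_subtype_val
  have hd0 : xdepth f F ((f.fiberι (f.base x)).base ζ) = 0 :=
    (mem_ass_fibre_iff f F (f.base x) ζ).mp hass
  have hsp : (f.fiberι (f.base x)).base ζ ⤳ x := by
    have h1 := hζξ.map (f.fiberι (f.base x)).continuous
    rwa [f.fiberι_asFiber x] at h1
  obtain ⟨m, hm, hmeq⟩ := hxG _ (apply_fiberι' f (f.base x) ζ) hsp hd0
  rw [Finset.mem_singleton] at hm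
  subst hm
  rw [hmeq]
  rfl

/-- **EGA IV 12.2.1**: the set of points of the base over which the set of dimensions of the
irreducible components of the support of the fibre module contains `Φ` is open. -/
theorem isOpen_setOf_comp_dims_supset [LocallyOfFinitePresentation f]
    [SheafOfModules.IsFinitePresentation (R := X.ringCatSheaf) F]
    (hflat : FlatMod.IsFlatOver f F) (Φ : Finset ℕ) :
    IsOpen {y : Y | ∀ n ∈ Φ, ∃ Z ∈ irreducibleComponents ↥(Sy f F y),
      topologicalKrullDim ↥Z = (n : WithBot ℕ∞)} := by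
  have : {y : Y | ∀ n ∈ Φ, ∃ Z ∈ irreducibleComponents ↥(Sy f F y),
      topologicalKrullDim ↥Z = (n : WithBot ℕ∞)} =
      ⋂ n ∈ Φ, {y : Y | ∃ Z ∈ irreducibleComponents ↥(Sy f F y),
        topologicalKrullDim ↥Z = (n : WithBot ℕ∞)} := by
    ext y
    simp only [Set.mem_setOf_eq, Set.mem_iInter]
  rw [this]
  exact isOpen_biInter_finset fun n _ => isOpen_setOf_exists_comp_dim f F hflat n

end Main

end Groth.Agent.Lib.Helper12.CompDims
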