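import Mathlib
import Groth.Prelude
import Groth.Agent.Lib.Helper12.CompDims

/-!
# No embedded components and prescribed component dimensions of the supports of the fibres
(EGA IV 12.2.1 (iii)) (helper12)
-/

set_option autoImplicit false
set_option linter.style.haveILetI false
set_option linter.unusedSectionVars false
universe u
open CategoryTheory CategoryTheory.Limits AlgebraicGeometry TopologicalSpace Opposite Topology

namespace Groth.Agent.Lib.Helper12.CompDims

open Groth.Agent.Lib.Helper3 Groth.Agent.Lib.Helper17 Groth.Agent.Lib.Helper1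
  Groth.Agent.Lib.Helper20.AssDim Groth.Agent.Lib.Helper20.RD Groth.Agent.Lib.Helper20.SkFib
  Groth.Agent.Lib.Helper12.SchemeDimIneq

variable {X Y : Scheme.{u}} (f : X ⟶ Y) (F : X.Modules)

/-- membership in `NESet` transported to the fibre over a point given up to equality. -/
theorem mem_neSet_iff_of_eq (y : Y) (x : X) (hxy : f.base x = y) :
    x ∈ NESet f F ↔
      ∀ z ∈ AssSch.Ass ((Scheme.Modules.pullback (f.fiberι y)).obj F),
        (f.fiberHomeo y).symm ⟨x, hxy⟩ ∈ closure {z} →
        ∀ z' ∈ AssSch.Ass ((Scheme.Modules.pullback (f.fiberι y)).obj F),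
          z ∈ closure {z'} → z' = z := by
  subst hxy
  rfl

theorem noEmbedded_iff_forall_mem_neSet (y : Y) :
    AssSch.NoEmbedded ((Scheme.Modules.pullback (f.fiberι y)).obj F) ↔
      ∀ x : X, f.base x = y → x ∈ NESet f F := by
  constructor
  · intro hne x hxy
    rw [mem_neSet_iff_of_eq f F y x hxy]
    intro z hz _ z' hz' hzz'
    exact (hne z hz z' hz' (specializes_iff_mem_closure.mpr hzz')).symm
  · intro hall z₁ hz₁ z₂ hz₂ h21
    have hxy : f.base ((f.fiberι y).base z₁) = y := apply_fiberι' f y z₁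
    have h := (mem_neSet_iff_of_eq f F y _ hxy).mp (hall _ hxy)
    have hpt : (f.fiberHomeo y).symm ⟨(f.fiberι y).base z₁, hxy⟩ = z₁ := by
      apply (f.fiberι y).isEmbedding.injective
      exact f.fiberι_fiberHomeo_symm y ⟨(f.fiberι y).base z₁, hxy⟩
    rw [hpt] at h
    exact (h z₁ hz₁ (subset_closure rfl) z₂ hz₂ (specializes_iff_mem_closure.mp h21)).symm

theorem isOpen_setOf_noEmbedded [LocallyOfFinitePresentation f]
    [SheafOfModules.IsFinitePresentation (R := X.ringCatSheaf) F]
    (hflat : FlatMod.IsFlatOver f F) (hcl : IsClosedMap f.base) :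
    IsOpen {y : Y | AssSch.NoEmbedded ((Scheme.Modules.pullback (f.fiberι y)).obj F)} := by
  haveI : F.IsQuasicoherent := inferInstance
  have h2 : IsClosed (f.base '' (NESet f F)ᶜ) := hcl _ (isOpen_neSet f F hflat).isClosed_compl
  convert h2.isOpen_compl using 1
  ext y
  rw [Set.mem_setOf_eq, noEmbedded_iff_forall_mem_neSet]
  simp only [Set.mem_compl_iff, Set.mem_image, not_exists, not_and, not_not]
  constructor
  · intro h x hx hxy
    exact hx (h x hxy)
  · intro h x hxy
    by_contra hx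
    exact h x hx hxy

/-- **EGA IV 12.2.1 (iii)**. -/
theorem isOpen_setOf_noEmbedded_and_comp_dims_eq [LocallyOfFinitePresentation f]
    [SheafOfModules.IsFinitePresentation (R := X.ringCatSheaf) F]
    (hflat : FlatMod.IsFlatOver f F) (hcl : IsClosedMap f.base) (Φ : Finset ℕ) :
    IsOpen {y : Y | AssSch.NoEmbedded ((Scheme.Modules.pullback (f.fiberι y)).obj F) ∧
      (fun Z : Set ↥(Sy f F y) => topologicalKrullDim ↥Z) '' irreducibleComponents ↥(Sy f F y) =
        (fun n : ℕ => (n : WithBot ℕ∞)) '' (Φ : Set ℕ)} := by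
  haveI : F.IsQuasicoherent := inferInstance
  haveI : F.IsFiniteType := inferInstance
  have hA := isOpen_setOf_noEmbedded f F hflat hcl
  have hB := isOpen_fibre_assDims_base f F hflat hcl Φ
  have hC := isOpen_setOf_comp_dims_supset f F hflat Φ
  convert (hA.inter hB).inter hC using 1
  ext y
  simp only [Set.mem_setOf_eq, Set.mem_inter_iff]
  constructor
  · rintro ⟨hne, hdims⟩
    refine ⟨⟨hne, ?_⟩, ?_⟩
    · intro z hz
      have hzS : z ∈ Sy f F y := AssPt.nontrivial_stalk_of_isAssPoint _ z hz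
      have hZ := irreducibleComponent_mem_irreducibleComponents (⟨z, hzS⟩ : ↥(Sy f F y))
      obtain ⟨ζ, hζ, hmin, hZeq, hd, hass⟩ := comp_data f F y hZ
      have hζz : ζ ⤳ z := by
        have h1 : (⟨z, hzS⟩ : ↥(Sy f F y)) ∈ closure {(⟨ζ, hζ⟩ : ↥(Sy f F y))} :=
          hZeq ▸ mem_irreducibleComponent
        exact (specializes_iff_mem_closure.mpr h1).map continuous_subtype_val
      have hzζ : z = ζ := hne z hz ζ hass hζz
      have hmem : topologicalKrullDim ↥(irreducibleComponent (⟨z, hzS⟩ : ↥(Sy f F y))) ∈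
          (fun n : ℕ => (n : WithBot ℕ∞)) '' (Φ : Set ℕ) := by
        rw [← hdims]
        exact ⟨_, hZ, rfl⟩
      obtain ⟨n, hn, hneq⟩ := hmem
      refine ⟨n, hn, ?_⟩
      rw [dim_closure_eq_trn f y z, hzζ, ← hd]
      exact hneq.symm
    · intro n hn
      have hmem : (n : WithBot ℕ∞) ∈
          (fun Z : Set ↥(Sy f F y) => topologicalKrullDim ↥Z) '' irreducibleComponents ↥(Sy f F y) := by
        rw [hdims]
        exact ⟨n, hn, rfl⟩
      obtain ⟨Z, hZ, hZd⟩ := hmem
      exact ⟨Z, hZ, hZd⟩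
  · rintro ⟨⟨hne, hB⟩, hC⟩
    refine ⟨hne, ?_⟩
    ext d
    constructor
    · rintro ⟨Z, hZ, rfl⟩
      obtain ⟨ζ, hζ, hmin, hZeq, hd, hass⟩ := comp_data f F y hZ
      obtain ⟨n, hn, hneq⟩ := hB ζ hass
      refine ⟨n, hn, ?_⟩
      show (n : WithBot ℕ∞) = topologicalKrullDim ↥Z
      rw [hd, ← dim_closure_eq_trn f y ζ, hneq]
    · rintro ⟨n, hn, rfl⟩
      obtain ⟨Z, hZ, hZd⟩ := hC n hn
      exact ⟨Z, hZ, hZd⟩

end Groth.Agent.Lib.Helper12.CompDims
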