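import Mathlib

/-!
# Flat closure of the generic fibre over a discrete valuation ring
-/

open CategoryTheory CategoryTheory.Limits AlgebraicGeometry TopologicalSpace

universe u

namespace Groth.Agent.Lib.Helper12.FlatClosureDVR

/-- Ring-level: a ring `B` over a DVR `R` which embeds into a ring where the uniformizer becomes
a unit is flat over `R`. -/
theorem flat_of_injective_of_isUnit {R B C : Type u} [CommRing R] [IsDomain R]
    [IsDiscreteValuationRing R] [CommRing B] [CommRing C] (ϖ : R) (hϖ : Irreducible ϖ)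
    (φ : R →+* B) (ρ : B →+* C) (hρ : Function.Injective ρ) (hu : IsUnit (ρ (φ ϖ))) :
    φ.Flat := by
  letI := φ.toAlgebra
  show Module.Flat R B
  rw [Module.Flat.flat_iff_torsion_eq_bot_of_isBezout, eq_bot_iff]
  rintro m ⟨⟨a, ha⟩, h⟩
  have ha0 : a ≠ 0 := nonZeroDivisors.ne_zero ha
  obtain ⟨n, v, rfl⟩ := IsDiscreteValuationRing.eq_unit_mul_pow_irreducible ha0 hϖ
  have h1 : φ ((v : R) * ϖ ^ n) * m = 0 := by
    have : ((v : R) * ϖ ^ n) • m = 0 := h
    rwa [Algebra.smul_def] at this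
  have h2 : ρ (φ ((v : R) * ϖ ^ n)) * ρ m = 0 := by rw [← map_mul, h1, map_zero]
  have h3 : IsUnit (ρ (φ ((v : R) * ϖ ^ n))) := by
    rw [map_mul, map_mul, map_pow, map_pow]
    exact ((v.isUnit.map φ).map ρ).mul (hu.pow n)
  have h4 : ρ m = 0 := (h3.mul_right_eq_zero).mp h2
  show m ∈ (⊥ : Submodule R B)
  rw [Submodule.mem_bot]
  exact hρ (by rw [h4, map_zero])

section

variable {R : Type u} [CommRing R] {W : Scheme.{u}} (g : W ⟶ Spec (CommRingCat.of R)) (ϖ : R)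

/-- the open subscheme `g⁻¹ D(ϖ)` of `W` -/
noncomputable abbrev genOpen : W.Opens :=
  g ⁻¹ᵁ ((Spec (CommRingCat.of R)).basicOpen ((Scheme.ΓSpecIso (CommRingCat.of R)).inv.hom ϖ))

theorem mem_genOpen_iff (w : W) : w ∈ genOpen g ϖ ↔ ϖ ∉ (g w : PrimeSpectrum R).asIdeal := by
  show g w ∈ ((Spec (CommRingCat.of R)).basicOpen
    ((Scheme.ΓSpecIso (CommRingCat.of R)).inv.hom ϖ)) ↔ _
  rw [basicOpen_eq_of_affine]
  exact Iff.rfl

end

/-- a section pulled back from a function whose nonvanishing locus pulls back to everything is a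
unit -/
theorem isUnit_appLE {Y Z : Scheme.{u}} (k : Z ⟶ Y) (r : Γ(Y, ⊤))
    (hk : k ⁻¹ᵁ (Y.basicOpen r) = ⊤) (V : Z.Opens) :
    IsUnit ((k.appLE ⊤ V le_top).hom r) := by
  have h1 : IsUnit ((k.app ⊤).hom r) := by
    apply RingedSpace.isUnit_of_isUnit_germ
    intro x hx
    have : x ∈ Z.basicOpen ((k.app ⊤).hom r) := by
      rw [← Scheme.preimage_basicOpen, hk]; trivial
    exact (Scheme.mem_basicOpen _ _ _ hx).mp this
  have : (k.appLE ⊤ V le_top).hom r =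
      (Z.presheaf.map (homOfLE le_top).op).hom ((k.app ⊤).hom r) := rfl
  rw [this]
  exact h1.map _

set_option backward.isDefEq.respectTransparency false in
/-- **Flat closure**: over a DVR, the scheme-theoretic closure of the generic fibre is flat. -/
theorem flat_image {R : Type u} [CommRing R] [IsDomain R] [IsDiscreteValuationRing R]
    {W : Scheme.{u}} [IsLocallyNoetherian W] (g : W ⟶ Spec (CommRingCat.of R)) (ϖ : R)
    (hϖ : Irreducible ϖ) :
    Flat ((genOpen g ϖ).ι.imageι ≫ g) := by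
  obtain ⟨j, hj⟩ : ∃ j : (genOpen g ϖ).toScheme ⟶ W, j = (genOpen g ϖ).ι := ⟨_, rfl⟩
  rw [← hj]
  have : QuasiCompact j := by rw [hj]; infer_instance
  let 𝒰 : W.affineOpens → j.image.affineOpens :=
    fun A => ⟨j.imageι ⁻¹ᵁ A.1, A.2.preimage j.imageι⟩
  have h𝒰 : ⨆ A, (𝒰 A : j.image.Opens) = ⊤ := by
    have h1 := iSup_affineOpens_eq_top W
    have h2 : (⨆ A, (𝒰 A : j.image.Opens)) =
        j.imageι ⁻¹ᵁ (⨆ A : W.affineOpens, (A : W.Opens)) := by
      rw [Scheme.Hom.preimage_iSup]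
    rw [h2, h1]
    rfl
  refine HasRingHomProperty.of_iSup_eq_top (P := @Flat) 𝒰 h𝒰 fun A => ?_
  show RingHom.Flat ((j.imageι ≫ g).appLE ⊤ (j.imageι ⁻¹ᵁ A.1) le_top).hom
  rw [← RingHom.Flat.respectsIso.cancel_left_isIso (Scheme.ΓSpecIso (CommRingCat.of R)).inv]
  rw [← CommRingCat.hom_comp]
  refine flat_of_injective_of_isUnit (R := R) ϖ hϖ _ (j.toImage.app (j.imageι ⁻¹ᵁ A.1)).hom
    (j.toImage_app_injective A) ?_
  have hk : (j.toImage ≫ j.imageι ≫ g) ⁻¹ᵁ ((Spec (CommRingCat.of R)).basicOpen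
      ((Scheme.ΓSpecIso (CommRingCat.of R)).inv.hom ϖ)) = ⊤ := by
    rw [← Category.assoc, j.toImage_imageι, hj]
    show (genOpen g ϖ).ι ⁻¹ᵁ (genOpen g ϖ) = ⊤
    exact Scheme.Opens.ι_preimage_self _
  have h3 := isUnit_appLE (j.toImage ≫ j.imageι ≫ g)
    ((Scheme.ΓSpecIso (CommRingCat.of R)).inv.hom ϖ) hk (j.toImage ⁻¹ᵁ (j.imageι ⁻¹ᵁ A.1))
  have h4 : (j.toImage ≫ j.imageι ≫ g).appLE ⊤ (j.toImage ⁻¹ᵁ j.imageι ⁻¹ᵁ A.1) le_top =
      (j.imageι ≫ g).appLE ⊤ (j.imageι ⁻¹ᵁ A.1) le_top ≫ j.toImage.app (j.imageι ⁻¹ᵁ A.1) := by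
    rw [Scheme.Hom.app_eq_appLE, Scheme.Hom.appLE_comp_appLE]
  rw [h4] at h3
  exact h3

end Groth.Agent.Lib.Helper12.FlatClosureDVR
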