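import Mathlib

/-!
# Helper library (helper12): the image of a dominant morphism of finite type contains a nonempty
open set (no Noetherian hypotheses): ring level.
-/

set_option autoImplicit false
universe u v
open TensorProduct

namespace Groth.Agent.Lib.Helper12.GenericImage

section Alg

variable {R S : Type*} [CommRing R] [CommRing S] [IsDomain R] [IsDomain S] [Algebra R S]

/-- Algebraic case: if `R ⊆ S` are domains with `S` algebraic and of finite type over `R`, then
the image of `Spec S → Spec R` contains a nonempty basic open. -/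
theorem exists_comap_eq_of_isAlgebraic [Algebra.FiniteType R S] [Algebra.IsAlgebraic R S]
    (hinj : Function.Injective (algebraMap R S)) :
    ∃ u : R, u ≠ 0 ∧ ∀ p : PrimeSpectrum R, u ∉ p.asIdeal →
      ∃ q : PrimeSpectrum S, PrimeSpectrum.comap (algebraMap R S) q = p := by
  classical
  obtain ⟨t, ht⟩ := (Algebra.FiniteType.out : (⊤ : Subalgebra R S).FG)
  obtain ⟨u, hu0, hu⟩ := Algebra.IsAlgebraic.exists_integral_multiples R t
  refine ⟨u, hu0, fun p hp => ?_⟩
  let Rₘ := Localization.Away u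
  have hunit : IsUnit (algebraMap R Rₘ u) := IsLocalization.Away.algebraMap_isUnit u
  obtain ⟨v, hv⟩ := hunit.exists_right_inv
  -- integrality of the base change
  have hint : Algebra.IsIntegral Rₘ (Rₘ ⊗[R] S) := by
    have hgen := Algebra.TensorProduct.adjoin_one_tmul_image_eq_top (A := Rₘ) (t : Set S) ht
    have hle : Algebra.adjoin Rₘ (((1 : Rₘ) ⊗ₜ[R] ·) '' (t : Set S)) ≤
        integralClosure Rₘ (Rₘ ⊗[R] S) := by
      apply Algebra.adjoin_le
      rintro _ ⟨x, hx, rfl⟩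
      have h1 : IsIntegral Rₘ (v ⊗ₜ[R] (u • x) : Rₘ ⊗[R] S) := IsIntegral.tmul v (hu x hx)
      have h2 : (v ⊗ₜ[R] (u • x) : Rₘ ⊗[R] S) = (1 : Rₘ) ⊗ₜ[R] x := by
        rw [TensorProduct.tmul_smul, TensorProduct.smul_tmul', Algebra.smul_def, hv]
      rw [h2] at h1
      exact h1
    rw [hgen] at hle
    exact ⟨fun z => hle (Algebra.mem_top)⟩
  have hinj' : Function.Injective (algebraMap Rₘ (Rₘ ⊗[R] S)) :=
    Algebra.TensorProduct.includeLeft_injective (S := Rₘ) hinj
  -- the prime of the localization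
  have hdisj : Disjoint (Submonoid.powers u : Set R) (p.asIdeal : Set R) := by
    rw [Set.disjoint_left]
    rintro _ ⟨k, rfl⟩ hk
    exact hp (p.isPrime.mem_of_pow_mem k hk)
  let P : Ideal Rₘ := Ideal.map (algebraMap R Rₘ) p.asIdeal
  haveI hPprime : P.IsPrime :=
    IsLocalization.isPrime_of_isPrime_disjoint (Submonoid.powers u) Rₘ p.asIdeal p.isPrime hdisj
  have hPcomap : Ideal.comap (algebraMap R Rₘ) P = p.asIdeal :=
    IsLocalization.comap_map_of_isPrime_disjoint (Submonoid.powers u) Rₘ p.isPrime hdisj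
  obtain ⟨Q, -, hQprime, hQ⟩ := Ideal.exists_ideal_over_prime_of_isIntegral (S := Rₘ ⊗[R] S) P
    (⊥ : Ideal (Rₘ ⊗[R] S)) (by
      rw [← RingHom.ker_eq_comap_bot, (RingHom.injective_iff_ker_eq_bot _).mp hinj']
      exact bot_le)
  refine ⟨⟨Ideal.comap (Algebra.TensorProduct.includeRight : S →ₐ[R] Rₘ ⊗[R] S) Q,
    Ideal.comap_isPrime _ _⟩, ?_⟩
  apply PrimeSpectrum.ext
  show Ideal.comap (algebraMap R S) (Ideal.comap
    (Algebra.TensorProduct.includeRight : S →ₐ[R] Rₘ ⊗[R] S) Q) = p.asIdeal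
  rw [← hPcomap, ← hQ]
  ext r
  simp only [Ideal.mem_comap]
  have : (Algebra.TensorProduct.includeRight : S →ₐ[R] Rₘ ⊗[R] S) (algebraMap R S r) =
      algebraMap Rₘ (Rₘ ⊗[R] S) (algebraMap R Rₘ r) := by
    rw [AlgHom.commutes, ← IsScalarTower.algebraMap_apply]
  rw [this]

/-- If `R ⊆ S` are domains with `S` of finite type over `R`, then the image of
`Spec S → Spec R` contains a nonempty basic open. -/
theorem exists_comap_eq_of_domain [Algebra.FiniteType R S]
    (hinj : Function.Injective (algebraMap R S)) :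
    ∃ a : R, a ≠ 0 ∧ ∀ p : PrimeSpectrum R, a ∉ p.asIdeal →
      ∃ q : PrimeSpectrum S, PrimeSpectrum.comap (algebraMap R S) q = p := by
  classical
  haveI : FaithfulSMul R S := (faithfulSMul_iff_algebraMap_injective R S).mpr hinj
  obtain ⟨s, hs⟩ := exists_isTranscendenceBasis R S
  haveI : Algebra.IsAlgebraic (Algebra.adjoin R (Set.range (Subtype.val : s → S))) S :=
    hs.isAlgebraic
  haveI : Algebra.FiniteType (Algebra.adjoin R (Set.range (Subtype.val : s → S))) S :=
    Algebra.FiniteType.of_restrictScalars_finiteType R _ S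
  have hinj' : Function.Injective
      (algebraMap (Algebra.adjoin R (Set.range (Subtype.val : s → S))) S) :=
    Subtype.val_injective
  obtain ⟨u, hu0, hu⟩ := exists_comap_eq_of_isAlgebraic
    (R := Algebra.adjoin R (Set.range (Subtype.val : s → S))) (S := S) hinj'
  let e : MvPolynomial s R ≃ₐ[R] Algebra.adjoin R (Set.range (Subtype.val : s → S)) :=
    hs.1.aevalEquiv
  have hw : e.symm u ≠ 0 := by
    intro h
    apply hu0
    have := congrArg e h
    rwa [AlgEquiv.apply_symm_apply, map_zero] at this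
  obtain ⟨m, hm⟩ := MvPolynomial.ne_zero_iff.mp hw
  refine ⟨(e.symm u).coeff m, hm, fun p hp => ?_⟩
  have hmem : p ∈ PrimeSpectrum.comap (MvPolynomial.C (σ := s) (R := R)) ''
      (PrimeSpectrum.basicOpen (e.symm u) : Set (PrimeSpectrum (MvPolynomial s R))) := by
    rw [MvPolynomial.image_comap_C_basicOpen]
    intro hp'
    exact hp (hp' ⟨m, rfl⟩)
  obtain ⟨P, hP, rfl⟩ := hmem
  let P' : PrimeSpectrum (Algebra.adjoin R (Set.range (Subtype.val : s → S))) :=
    PrimeSpectrum.comap (e.symm : _ →ₐ[R] MvPolynomial s R).toRingHom P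
  have hP' : u ∉ P'.asIdeal := hP
  obtain ⟨q, hq⟩ := hu P' hP'
  refine ⟨q, ?_⟩
  apply PrimeSpectrum.ext
  ext r
  have h1 : algebraMap R S r ∈ q.asIdeal ↔
      algebraMap R (Algebra.adjoin R (Set.range (Subtype.val : s → S))) r ∈ P'.asIdeal := by
    rw [← hq]
    rfl
  have h2 : algebraMap R (Algebra.adjoin R (Set.range (Subtype.val : s → S))) r ∈ P'.asIdeal ↔
      (e.symm : _ →ₐ[R] MvPolynomial s R)
        (algebraMap R (Algebra.adjoin R (Set.range (Subtype.val : s → S))) r) ∈ P.asIdeal :=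
    Iff.rfl
  show algebraMap R S r ∈ q.asIdeal ↔ MvPolynomial.C r ∈ P.asIdeal
  rw [h1, h2, AlgHom.commutes]
  rfl

end Alg

section Gen

variable {A B : Type*} [CommRing A] [CommRing B] [Algebra A B]

/-- For a ring map of finite type and a prime `q` of the target over `p`, the image of `V(q)`
contains a nonempty open subset `V(p) ∩ D(g)` of `V(p)`. -/
theorem exists_forall_exists_comap_eq [Algebra.FiniteType A B] (q : PrimeSpectrum B) :
    ∃ g : A, g ∉ (PrimeSpectrum.comap (algebraMap A B) q).asIdeal ∧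
      ∀ p' : PrimeSpectrum A, PrimeSpectrum.comap (algebraMap A B) q ≤ p' → g ∉ p'.asIdeal →
        ∃ q' : PrimeSpectrum B, q ≤ q' ∧ PrimeSpectrum.comap (algebraMap A B) q' = p' := by
  classical
  let 𝔭 : Ideal A := Ideal.comap (algebraMap A B) q.asIdeal
  haveI : 𝔭.IsPrime := Ideal.comap_isPrime _ _
  haveI : Algebra.FiniteType A (B ⧸ q.asIdeal) :=
    Algebra.FiniteType.of_surjective (Ideal.Quotient.mkₐ A q.asIdeal)
      (Ideal.Quotient.mkₐ_surjective A q.asIdeal)
  haveI : Algebra.FiniteType (A ⧸ 𝔭) (B ⧸ q.asIdeal) :=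
    Algebra.FiniteType.of_restrictScalars_finiteType A (A ⧸ 𝔭) (B ⧸ q.asIdeal)
  have hinj : Function.Injective (algebraMap (A ⧸ 𝔭) (B ⧸ q.asIdeal)) :=
    Ideal.algebraMap_quotient_injective
  obtain ⟨a, ha0, ha⟩ := exists_comap_eq_of_domain (R := A ⧸ 𝔭) (S := B ⧸ q.asIdeal) hinj
  obtain ⟨g, rfl⟩ := Ideal.Quotient.mk_surjective a
  refine ⟨g, fun hg => ha0 (Ideal.Quotient.eq_zero_iff_mem.mpr hg), fun p' hle hg => ?_⟩
  have hker : RingHom.ker (Ideal.Quotient.mk 𝔭) ≤ p'.asIdeal := by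
    rw [Ideal.mk_ker]
    exact hle
  haveI hp1 : (Ideal.map (Ideal.Quotient.mk 𝔭) p'.asIdeal).IsPrime :=
    Ideal.map_isPrime_of_surjective Ideal.Quotient.mk_surjective hker
  have hcm : Ideal.comap (Ideal.Quotient.mk 𝔭) (Ideal.map (Ideal.Quotient.mk 𝔭) p'.asIdeal) =
      p'.asIdeal := by
    rw [Ideal.comap_map_of_surjective _ Ideal.Quotient.mk_surjective, ← RingHom.ker_eq_comap_bot]
    exact sup_eq_left.mpr hker
  let p1 : PrimeSpectrum (A ⧸ 𝔭) := ⟨Ideal.map (Ideal.Quotient.mk 𝔭) p'.asIdeal, hp1⟩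
  have hg1 : Ideal.Quotient.mk 𝔭 g ∉ p1.asIdeal := by
    intro h
    apply hg
    rw [← hcm]
    exact h
  obtain ⟨q1, hq1⟩ := ha p1 hg1
  refine ⟨PrimeSpectrum.comap (Ideal.Quotient.mk q.asIdeal) q1, ?_, ?_⟩
  · intro b hb
    show Ideal.Quotient.mk q.asIdeal b ∈ q1.asIdeal
    rw [Ideal.Quotient.eq_zero_iff_mem.mpr hb]
    exact zero_mem _
  · apply PrimeSpectrum.ext
    ext r
    show Ideal.Quotient.mk q.asIdeal (algebraMap A B r) ∈ q1.asIdeal ↔ r ∈ p'.asIdeal
    have h1 : Ideal.Quotient.mk q.asIdeal (algebraMap A B r) =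
        algebraMap (A ⧸ 𝔭) (B ⧸ q.asIdeal) (Ideal.Quotient.mk 𝔭 r) := rfl
    rw [h1, ← hcm]
    have h2 : algebraMap (A ⧸ 𝔭) (B ⧸ q.asIdeal) (Ideal.Quotient.mk 𝔭 r) ∈ q1.asIdeal ↔
        Ideal.Quotient.mk 𝔭 r ∈ p1.asIdeal := by
      rw [← hq1]
      rfl
    rw [h2]
    rfl

end Gen

end Groth.Agent.Lib.Helper12.GenericImage
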