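import Mathlib
import Groth.Prelude.Def_Found
import Groth.Prelude.Def_EGA43
import Groth.Agent.Lib.Helper12.FibreDimsConstr
import Groth.Agent.Lib.Helper12.OpenGen

/-!
# Helper library (helper12): the dimension inequality when only the local ring of the base at
the image point is Noetherian (base change to the spectrum of the local ring)
-/

set_option autoImplicit false
universe u v
open Polynomial Cardinal AlgebraicGeometry CategoryTheory TopologicalSpace Limits

namespace Groth.Agent.Lib.Helper12.LocalBase

open Groth.Agent.Lib.Helper12.OrdTools Groth.Agent.Lib.Helper12.DimIneq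
open Groth.Agent.Lib.Helper12 Groth.Agent.Lib.Helper12.SchemeDimFT
open Groth.Agent.Lib.Helper12.ChevalleyCor Groth.Agent.Lib.Helper12.SchemeDimIneq
open Groth.Agent.Lib.Helper14 Order Groth.Agent.Lib.Helper12.Equidim
open Groth.Agent.Lib.Helper12.ClosedSub Groth.Agent.Lib.Helper12.JacDim
open Groth.Agent.Lib.Helper12.FibreMax Groth.Agent.Lib.Helper12.EquidimSub
open Groth.Agent.Lib.Helper12.OpenFibre Groth.Agent.Lib.Helper12.OpenGen

variable {X Y : Scheme.{u}}

/-- A preimmersion induces an order embedding for the specialization preorders. -/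
def orderEmbOfPreimmersion (i : X ⟶ Y) [IsPreimmersion i] : X ↪o Y where
  toFun := i
  inj' := i.isEmbedding.injective
  map_rel_iff' := by
    intro a b
    exact i.isEmbedding.isInducing.specializes_iff

@[simp]
theorem orderEmbOfPreimmersion_apply (i : X ⟶ Y) [IsPreimmersion i] (a : X) :
    orderEmbOfPreimmersion i a = i a := rfl

theorem ordConnected_range_of_stableUnderGeneralization (i : X ⟶ Y) [IsPreimmersion i]
    (h : StableUnderGeneralization (Set.range i)) :
    (Set.range (orderEmbOfPreimmersion i)).OrdConnected := by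
  refine ⟨?_⟩
  rintro _ ⟨a, rfl⟩ _ ⟨b, rfl⟩ w ⟨hw1, -⟩
  exact h hw1 ⟨a, rfl⟩

/-- **The dimension inequality for schemes, when only the local ring of the base at the image
point is Noetherian.** -/
theorem scheme_dimIneq_stalk (f : X ⟶ Y) [LocallyOfFiniteType f] (x ξ : X) (h : ξ ⤳ x)
    [IsNoetherianRing (Y.presheaf.stalk (f x))] :
    Order.krullDim (Set.Icc x ξ) + ((trn f x : ℕ∞) : WithBot ℕ∞) ≤
      Order.krullDim (Set.Icc (f x) (f ξ)) + ((trn f ξ : ℕ∞) : WithBot ℕ∞) := by
  have hrY : Set.range (Y.fromSpecStalk (f x)) = {t | t ⤳ f x} := Scheme.range_fromSpecStalk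
  have hrX : Set.range (pullback.fst f (Y.fromSpecStalk (f x))) = f ⁻¹' {t | t ⤳ f x} := by
    rw [Scheme.Pullback.range_fst, hrY]
  obtain ⟨x', hx'⟩ : x ∈ Set.range (pullback.fst f (Y.fromSpecStalk (f x))) := by
    rw [hrX]; exact specializes_rfl
  obtain ⟨ξ', hξ'⟩ : ξ ∈ Set.range (pullback.fst f (Y.fromSpecStalk (f x))) := by
    rw [hrX]; exact h.map f.continuous
  have h' : ξ' ⤳ x' := by
    rw [← (pullback.fst f (Y.fromSpecStalk (f x))).isEmbedding.isInducing.specializes_iff,
      hx', hξ']
    exact h
  haveI : IsLocallyNoetherian (Spec (Y.presheaf.stalk (f x))) := inferInstance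
  have key := scheme_dimIneq (pullback.snd f (Y.fromSpecStalk (f x))) x' ξ' h'
  have htrn : ∀ p : ↑(pullback f (Y.fromSpecStalk (f x))),
      trn (pullback.snd f (Y.fromSpecStalk (f x))) p =
        trn f (pullback.fst f (Y.fromSpecStalk (f x)) p) := by
    intro p
    rw [← trn_comp_preimmersion_right (pullback.snd f (Y.fromSpecStalk (f x)))
      (Y.fromSpecStalk (f x)) p, ← trn_comp_preimmersion (pullback.fst f (Y.fromSpecStalk (f x)))
      f p]
    congr 1
    exact pullback.condition.symm
  have hcond : ∀ p : ↑(pullback f (Y.fromSpecStalk (f x))),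
      (Y.fromSpecStalk (f x)) (pullback.snd f (Y.fromSpecStalk (f x)) p) =
        f (pullback.fst f (Y.fromSpecStalk (f x)) p) := by
    intro p
    rw [← Scheme.Hom.comp_apply, ← Scheme.Hom.comp_apply, pullback.condition]
  have hX : Order.krullDim (Set.Icc x' ξ') = Order.krullDim (Set.Icc x ξ) := by
    have := krullDim_Icc_eq (orderEmbOfPreimmersion (pullback.fst f (Y.fromSpecStalk (f x))))
      (ordConnected_range_of_stableUnderGeneralization _ (by
        rw [hrX]
        intro a b hab ha
        exact (hab.map f.continuous).trans ha)) x' ξ'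
    rw [orderEmbOfPreimmersion_apply, orderEmbOfPreimmersion_apply, hx', hξ'] at this
    exact this.symm
  have hY : Order.krullDim (Set.Icc (pullback.snd f (Y.fromSpecStalk (f x)) x')
      (pullback.snd f (Y.fromSpecStalk (f x)) ξ')) = Order.krullDim (Set.Icc (f x) (f ξ)) := by
    have := krullDim_Icc_eq (orderEmbOfPreimmersion (Y.fromSpecStalk (f x)))
      (ordConnected_range_of_stableUnderGeneralization _ (by
        rw [hrY]
        intro a b hab ha
        exact hab.trans ha)) (pullback.snd f (Y.fromSpecStalk (f x)) x')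
        (pullback.snd f (Y.fromSpecStalk (f x)) ξ')
    rw [orderEmbOfPreimmersion_apply, orderEmbOfPreimmersion_apply, hcond, hcond, hx', hξ'] at this
    exact this.symm
  rw [hX, hY, htrn, htrn, hx', hξ'] at key
  exact key

/-- A variant bounding by the dimension of the local ring. -/
theorem scheme_dimIneq_stalk_le (f : X ⟶ Y) [LocallyOfFiniteType f] (x ξ : X) (h : ξ ⤳ x)
    [IsNoetherianRing (Y.presheaf.stalk (f x))] :
    Order.krullDim (Set.Icc x ξ) + ((trn f x : ℕ∞) : WithBot ℕ∞) ≤
      ringKrullDim (Y.presheaf.stalk (f x)) + ((trn f ξ : ℕ∞) : WithBot ℕ∞) := by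
  refine (scheme_dimIneq_stalk f x ξ h).trans (add_le_add_left ?_ _)
  rw [AlgebraicGeometry.ringKrullDim_stalk_eq_coheight, Order.coheight_eq_krullDim_Ici]
  exact Order.krullDim_le_of_strictMono (fun w : Set.Icc (f x) (f ξ) =>
    (⟨w.1, w.2.1⟩ : Set.Ici (f x))) (fun a b hab => hab)

end Groth.Agent.Lib.Helper12.LocalBase
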