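import Mathlib
import Groth.Prelude.Def_Found
import Groth.Prelude.Def_EGA43
import Groth.Agent.Lib.Helper12.GenericImage
import Groth.Agent.Lib.Helper12.LocalBase

/-!
# Helper library (helper12): the image of the closure of a point under a morphism locally of
finite type contains a nonempty open subset of the closure of the image point (no Noetherian
hypotheses); generic constancy of fibre dimension.
-/

set_option autoImplicit false
universe u v
open AlgebraicGeometry CategoryTheory TopologicalSpace Limits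

namespace Groth.Agent.Lib.Helper12.GenericImage

open Groth.Agent.Lib.Helper12.SchemeDimFT Groth.Agent.Lib.Helper12.SchemeDimIneq

variable {X Y : Scheme.{u}}

theorem mem_basicOpen_iff_not_mem_primeIdealOf {Z : Scheme.{u}} {W : Z.Opens}
    (hW : IsAffineOpen W) (z : Z) (hz : z ∈ W) (r : Γ(Z, W)) :
    z ∈ Z.basicOpen r ↔ r ∉ (hW.primeIdealOf ⟨z, hz⟩).asIdeal := by
  have h : hW.fromSpec (hW.primeIdealOf ⟨z, hz⟩) ∈ Z.basicOpen r ↔
      hW.primeIdealOf ⟨z, hz⟩ ∈ hW.fromSpec ⁻¹ᵁ Z.basicOpen r := Iff.rfl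
  rw [hW.fromSpec_primeIdealOf] at h
  rw [h, hW.fromSpec_preimage_basicOpen]
  rfl

/-- For a morphism locally of finite type and a point `ξ` of the source, the image of the
closure of `ξ` contains a neighbourhood of `f ξ` in the closure of `f ξ`. -/
theorem exists_open_inter_closure_subset_image (f : X ⟶ Y) [LocallyOfFiniteType f] (ξ : X) :
    ∃ V : Y.Opens, f ξ ∈ V ∧ ∀ y ∈ V, f ξ ⤳ y → ∃ x : X, ξ ⤳ x ∧ f x = y := by
  obtain ⟨_, ⟨V₀, hV, rfl⟩, hxV, -⟩ := Y.isBasis_affineOpens.exists_subset_of_mem_open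
    (Set.mem_univ (f ξ)) isOpen_univ
  obtain ⟨_, ⟨U, hU, rfl⟩, hxU, hUV⟩ := X.isBasis_affineOpens.exists_subset_of_mem_open
    hxV (f ⁻¹ᵁ V₀).2
  have hUV' : U ≤ f ⁻¹ᵁ V₀ := hUV
  letI := (f.appLE V₀ U hUV').hom.toAlgebra
  haveI : Algebra.FiniteType Γ(Y, V₀) Γ(X, U) := Scheme.Hom.finiteType_appLE f hV hU hUV'
  obtain ⟨g, hg, hgen⟩ := exists_forall_exists_comap_eq (A := Γ(Y, V₀)) (B := Γ(X, U))
    (hU.primeIdealOf ⟨ξ, hxU⟩)
  have hcomap : ∀ (x : X) (hx : x ∈ U),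
      PrimeSpectrum.comap (algebraMap Γ(Y, V₀) Γ(X, U)) (hU.primeIdealOf ⟨x, hx⟩) =
        hV.primeIdealOf ⟨f x, hUV' hx⟩ := by
    intro x hx
    exact PrimeSpectrum.ext (primeIdealOf_comap f hU hV hUV' x hx).symm
  refine ⟨Y.basicOpen g, ?_, ?_⟩
  · rw [mem_basicOpen_iff_not_mem_primeIdealOf hV (f ξ) hxV, ← hcomap ξ hxU]
    exact hg
  · intro y hy hsp
    have hyV : y ∈ V₀ := Y.basicOpen_le g hy
    have h1 : PrimeSpectrum.comap (algebraMap Γ(Y, V₀) Γ(X, U)) (hU.primeIdealOf ⟨ξ, hxU⟩) ≤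
        hV.primeIdealOf ⟨y, hyV⟩ := by
      rw [hcomap ξ hxU]
      exact (primeIdealOf_le_iff hV ⟨f ξ, hxV⟩ ⟨y, hyV⟩).mpr hsp
    have h2 : g ∉ (hV.primeIdealOf ⟨y, hyV⟩).asIdeal :=
      (mem_basicOpen_iff_not_mem_primeIdealOf hV y hyV g).mp hy
    obtain ⟨q', hle, hq'⟩ := hgen _ h1 h2
    obtain ⟨x', hx'⟩ := exists_primeIdealOf_eq hU q'
    refine ⟨x'.1, ?_, ?_⟩
    · apply (primeIdealOf_le_iff hU ⟨ξ, hxU⟩ x').mp
      rw [hx']
      exact hle
    · have h3 := hcomap x'.1 x'.2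
      have h4 : hU.primeIdealOf ⟨x'.1, x'.2⟩ = q' := hx'
      rw [h4, hq'] at h3
      have h5 := congrArg hV.fromSpec h3
      rw [hV.fromSpec_primeIdealOf, hV.fromSpec_primeIdealOf] at h5
      exact h5.symm

end Groth.Agent.Lib.Helper12.GenericImage
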