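import Mathlib
import Groth.Prelude.Def_W4ega4s0809p4Pair
import Groth.Agent.S9218
import Groth.Agent.Lib.Helper12.FpLimit
import Groth.Agent.Lib.Helper12.GenericImageSch

/-!
# Geometric existence of a morphism with a given property between two algebraic schemes

Generic machinery for the relation `P(X, Y, k)`: "after some extension `k'` of `k` there is a
`k'`-morphism `X_{k'} ⟶ Y_{k'}` with property `Q`".
-/

set_option autoImplicit false
universe u
open CategoryTheory CategoryTheory.Limits AlgebraicGeometry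

namespace Groth.Agent.Lib.Helper12.ConsPairGen

/-- There is a morphism with property `Q` between the base changes of `X`, `Y` along `h`. -/
def HasQHom (Q : MorphismProperty Scheme.{u}) {X Y T T' : Scheme.{u}} (gX : X ⟶ T) (gY : Y ⟶ T)
    (h : T' ⟶ T) : Prop :=
  ∃ (X' Y' : Scheme.{u}) (gX' : X' ⟶ T') (gY' : Y' ⟶ T') (eX : X' ⟶ X) (eY : Y' ⟶ Y),
    IsPullback eX gX' gX h ∧ IsPullback eY gY' gY h ∧ ∃ g : X' ⟶ Y', g ≫ gY' = gX' ∧ Q g

/-- The relation between a field and two schemes over it. -/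
def PairProp (Q : MorphismProperty Scheme.{u}) : ∀ ⦃X Y T : Scheme.{u}⦄, (X ⟶ T) → (Y ⟶ T) → Prop :=
  fun X Y T gX gY => ∃ (T' X' Y' : Scheme.{u}) (h : T' ⟶ T) (gX' : X' ⟶ T') (gY' : Y' ⟶ T')
    (eX : X' ⟶ X) (eY : Y' ⟶ Y), IsIntegral T' ∧ Subsingleton ↥T' ∧
      IsPullback eX gX' gX h ∧ IsPullback eY gY' gY h ∧
        ∃ g : X' ⟶ Y', g ≫ gY' = gX' ∧ Q g

theorem pairProp_iff (Q : MorphismProperty Scheme.{u}) {X Y T : Scheme.{u}} (gX : X ⟶ T)
    (gY : Y ⟶ T) : PairProp Q gX gY ↔ ∃ (T' : Scheme.{u}) (h : T' ⟶ T),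
      IsIntegral T' ∧ Subsingleton ↥T' ∧ HasQHom Q gX gY h := by
  constructor
  · rintro ⟨T', X', Y', h, gX', gY', eX, eY, h1, h2, h3, h4, h5⟩
    exact ⟨T', h, h1, h2, X', Y', gX', gY', eX, eY, h3, h4, h5⟩
  · rintro ⟨T', h, h1, h2, X', Y', gX', gY', eX, eY, h3, h4, h5⟩
    exact ⟨T', X', Y', h, gX', gY', eX, eY, h1, h2, h3, h4, h5⟩

variable {Q : MorphismProperty Scheme.{u}}

/-- Further base change. -/
theorem HasQHom.comp [Q.IsStableUnderBaseChange] {X Y T W W' : Scheme.{u}} {gX : X ⟶ T}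
    {gY : Y ⟶ T} {a : W ⟶ T} (H : HasQHom Q gX gY a) (b : W' ⟶ W) : HasQHom Q gX gY (b ≫ a) := by
  obtain ⟨X', Y', gX', gY', eX, eY, hX, hY, g, hg, hQ⟩ := H
  refine ⟨pullback gX' b, pullback gY' b, pullback.snd gX' b, pullback.snd gY' b,
    pullback.fst gX' b ≫ eX, pullback.fst gY' b ≫ eY,
    (IsPullback.of_hasPullback gX' b).paste_horiz hX,
    (IsPullback.of_hasPullback gY' b).paste_horiz hY,
    pullback.lift (pullback.fst gX' b ≫ g) (pullback.snd gX' b)
      (by rw [Category.assoc, hg, pullback.condition]), pullback.lift_snd _ _ _, ?_⟩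
  have hsq : IsPullback (pullback.fst gX' b)
      (pullback.lift (pullback.fst gX' b ≫ g) (pullback.snd gX' b)
        (by rw [Category.assoc, hg, pullback.condition])) g (pullback.fst gY' b) := by
    refine IsPullback.of_bot ?_ (pullback.lift_fst _ _ _).symm (IsPullback.of_hasPullback gY' b)
    rw [pullback.lift_snd, hg]
    exact IsPullback.of_hasPullback gX' b
  exact MorphismProperty.of_isPullback hsq hQ

/-- Transitivity of base change, forward direction. -/
theorem HasQHom.of_isPullback {X Y T W W' X₁ Y₁ : Scheme.{u}} {gX : X ⟶ T}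
    {gY : Y ⟶ T} {a : W ⟶ T} {gX₁ : X₁ ⟶ W} {gY₁ : Y₁ ⟶ W} {pX : X₁ ⟶ X} {pY : Y₁ ⟶ Y}
    (hX₁ : IsPullback pX gX₁ gX a) (hY₁ : IsPullback pY gY₁ gY a) {b : W' ⟶ W}
    (H : HasQHom Q gX₁ gY₁ b) : HasQHom Q gX gY (b ≫ a) := by
  obtain ⟨X', Y', gX', gY', eX, eY, hX, hY, g, hg, hQ⟩ := H
  exact ⟨X', Y', gX', gY', eX ≫ pX, eY ≫ pY, hX.paste_horiz hX₁, hY.paste_horiz hY₁, g, hg, hQ⟩

/-- Transitivity of base change, backward direction. -/
theorem HasQHom.to_isPullback {X Y T W W' X₁ Y₁ : Scheme.{u}} {gX : X ⟶ T}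
    {gY : Y ⟶ T} {a : W ⟶ T} {gX₁ : X₁ ⟶ W} {gY₁ : Y₁ ⟶ W} {pX : X₁ ⟶ X} {pY : Y₁ ⟶ Y}
    (hX₁ : IsPullback pX gX₁ gX a) (hY₁ : IsPullback pY gY₁ gY a) {b : W' ⟶ W}
    (H : HasQHom Q gX gY (b ≫ a)) : HasQHom Q gX₁ gY₁ b := by
  obtain ⟨X', Y', gX', gY', eX, eY, hX, hY, g, hg, hQ⟩ := H
  have wX : eX ≫ gX = (gX' ≫ b) ≫ a := by rw [Category.assoc]; exact hX.w
  have wY : eY ≫ gY = (gY' ≫ b) ≫ a := by rw [Category.assoc]; exact hY.w
  refine ⟨X', Y', gX', gY', hX₁.lift eX (gX' ≫ b) wX, hY₁.lift eY (gY' ≫ b) wY, ?_, ?_, g, hg, hQ⟩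
  · refine IsPullback.of_right ?_ (hX₁.lift_snd _ _ _) hX₁
    rw [hX₁.lift_fst]
    exact hX
  · refine IsPullback.of_right ?_ (hY₁.lift_snd _ _ _) hY₁
    rw [hY₁.lift_fst]
    exact hY

theorem HasQHom.of_eq {X Y T W : Scheme.{u}} {gX : X ⟶ T} {gY : Y ⟶ T} {a a' : W ⟶ T}
    (H : HasQHom Q gX gY a) (h : a = a') : HasQHom Q gX gY a' := h ▸ H

/-- Invariance under extension of the base field. -/
theorem isFieldStablePair (Q : MorphismProperty Scheme.{u}) [Q.IsStableUnderBaseChange] :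
    ConsPropPair.IsFieldStablePair (PairProp Q) := by
  intro X X' Y Y' T T' gX gY gX' gY' eX eY h _ _ _ _ _ _ _ _ hX hY
  rw [pairProp_iff, pairProp_iff]
  constructor
  · rintro ⟨T₂, h₂, hint, hsub, H⟩
    obtain ⟨x⟩ : Nonempty T₂ := inferInstance
    obtain ⟨y⟩ : Nonempty T' := inferInstance
    obtain ⟨z, hz1, hz2⟩ := Scheme.Pullback.exists_preimage_pullback (f := h₂) (g := h) x y
      (Subsingleton.elim _ _)
    let b : Spec ((pullback h₂ h).residueField z) ⟶ T₂ :=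
      (pullback h₂ h).fromSpecResidueField z ≫ pullback.fst h₂ h
    let b' : Spec ((pullback h₂ h).residueField z) ⟶ T' :=
      (pullback h₂ h).fromSpecResidueField z ≫ pullback.snd h₂ h
    have hb : b ≫ h₂ = b' ≫ h := by
      simp only [b, b', Category.assoc, pullback.condition]
    refine ⟨Spec ((pullback h₂ h).residueField z), b', inferInstance, inferInstance, ?_⟩
    apply HasQHom.to_isPullback hX hY
    rw [← hb]
    exact H.comp b
  · rintro ⟨T₂, h₂, hint, hsub, H⟩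
    exact ⟨T₂, h₂ ≫ h, hint, hsub, H.of_isPullback hX hY⟩

/-- The form of descent of a property of morphisms through a cofiltered limit of schemes
with affine transition maps. -/
def DescendsLim (Q : MorphismProperty Scheme.{u}) : Prop :=
  ∀ {I : Type u} [SmallCategory I] [IsCofiltered I] (D : I ⥤ Scheme.{u}) (c : Cone D)
    (_ : IsLimit c) [∀ (i j : I) (f : i ⟶ j), IsAffineHom (D.map f)] (i₀ : I)
    [CompactSpace (D.obj i₀)] [QuasiSeparatedSpace (D.obj i₀)] {X₀ Y₀ : Scheme.{u}}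
    (f₀ : X₀ ⟶ Y₀) (g₀ : Y₀ ⟶ D.obj i₀)
    [LocallyOfFinitePresentation g₀] [QuasiCompact g₀] [QuasiSeparated g₀]
    [LocallyOfFinitePresentation (f₀ ≫ g₀)] [QuasiCompact (f₀ ≫ g₀)] [QuasiSeparated (f₀ ≫ g₀)]
    {X Y : Scheme.{u}} (f : X ⟶ Y) (g : Y ⟶ c.pt) (qY : Y ⟶ Y₀) (qX : X ⟶ X₀)
    (_ : IsPullback qY g g₀ (c.π.app i₀)) (_ : IsPullback qX f f₀ qY), Q f →
    ∃ (i : I) (φ : i ⟶ i₀) (Xi Yi : Scheme.{u}) (fi : Xi ⟶ Yi) (gi : Yi ⟶ D.obj i)
      (pY : Yi ⟶ Y₀) (pX : Xi ⟶ X₀),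
      IsPullback pY gi g₀ (D.map φ) ∧ IsPullback pX fi f₀ pY ∧ Q fi

/-- A `Q`-morphism between the base changes to the limit comes from a stage. -/
theorem HasQHom.exists_stage [Q.IsStableUnderBaseChange] (hQ : DescendsLim Q)
    {S X Y : Scheme.{u}} (u : X ⟶ S) (v : Y ⟶ S)
    [LocallyOfFinitePresentation u] [QuasiCompact u] [QuasiSeparated u]
    [LocallyOfFinitePresentation v] [QuasiCompact v] [QuasiSeparated v]
    {J : Type u} [SmallCategory J] [IsCofiltered J] (D : J ⥤ Scheme.{u})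
    (τ : D ⟶ (Functor.const J).obj S) (c : Cone D) (hc : IsLimit c) [∀ j, IsAffine (D.obj j)]
    (j₀ : J) (H : HasQHom Q u v (c.π.app j₀ ≫ τ.app j₀)) : ∃ j, HasQHom Q u v (τ.app j) := by
  haveI : ∀ (i j : J) (f : i ⟶ j), IsAffineHom (D.map f) := fun i j f => inferInstance
  have H0 : HasQHom Q (pullback.snd u (τ.app j₀)) (pullback.snd v (τ.app j₀)) (c.π.app j₀) :=
    H.to_isPullback (IsPullback.of_hasPullback u _) (IsPullback.of_hasPullback v _)
  obtain ⟨X', Y', gX', gY', eX, eY, hX, hY, g, hg, hQg⟩ := H0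
  haveI : CompactSpace ↥(pullback u (τ.app j₀)) :=
    QuasiCompact.compactSpace_of_compactSpace (pullback.snd u (τ.app j₀))
  haveI : QuasiSeparatedSpace ↥(pullback u (τ.app j₀)) :=
    quasiSeparatedSpace_of_quasiSeparated (pullback.snd u (τ.app j₀))
  haveI : CompactSpace ↥(pullback v (τ.app j₀)) :=
    QuasiCompact.compactSpace_of_compactSpace (pullback.snd v (τ.app j₀))
  haveI : QuasiSeparatedSpace ↥(pullback v (τ.app j₀)) :=
    quasiSeparatedSpace_of_quasiSeparated (pullback.snd v (τ.app j₀))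
  obtain ⟨j, φ, fj, sX, sY, h1, h2, h3, h4, h5, h6⟩ := Groth.Agent.S9218.result D c hc j₀
    (pullback.snd u (τ.app j₀)) (pullback.snd v (τ.app j₀)) eX gX' hX eY gY' hY g hg
  have hYj : IsPullback sY gY' (pullback.snd (pullback.snd v (τ.app j₀)) (D.map φ))
      (c.π.app j) := by
    refine IsPullback.of_right ?_ h5 (IsPullback.of_hasPullback _ (D.map φ))
    rw [h4, c.w]
    exact hY
  have hXj' : IsPullback sX gX' (pullback.snd (pullback.snd u (τ.app j₀)) (D.map φ))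
      (c.π.app j) := by
    refine IsPullback.of_right ?_ h3 (IsPullback.of_hasPullback _ (D.map φ))
    rw [h2, c.w]
    exact hX
  have hXj : IsPullback sX g fj sY := by
    refine IsPullback.of_bot ?_ h6 hYj
    rw [hg, h1]
    exact hXj'
  haveI : LocallyOfFinitePresentation
      (fj ≫ pullback.snd (pullback.snd v (τ.app j₀)) (D.map φ)) := by rw [h1]; infer_instance
  haveI : QuasiCompact
      (fj ≫ pullback.snd (pullback.snd v (τ.app j₀)) (D.map φ)) := by rw [h1]; infer_instance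
  haveI : QuasiSeparated
      (fj ≫ pullback.snd (pullback.snd v (τ.app j₀)) (D.map φ)) := by rw [h1]; infer_instance
  obtain ⟨i, φ', Xi, Yi, fi, gi, pY, pX, hpY, hpX, hQi⟩ := hQ D c hc j fj
    (pullback.snd (pullback.snd v (τ.app j₀)) (D.map φ)) g gY' sY sX hYj hXj hQg
  refine ⟨i, ?_⟩
  have hpX' : IsPullback pX (fi ≫ gi) (pullback.snd (pullback.snd u (τ.app j₀)) (D.map φ))
      (D.map φ') := by
    have := hpX.paste_vert hpY
    rwa [h1] at this
  have Hi : HasQHom Q (pullback.snd (pullback.snd u (τ.app j₀)) (D.map φ))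
      (pullback.snd (pullback.snd v (τ.app j₀)) (D.map φ)) (D.map φ') :=
    ⟨Xi, Yi, fi ≫ gi, gi, pX, pY, hpX', hpY, fi, rfl, hQi⟩
  have Hi2 : HasQHom Q (pullback.snd u (τ.app j₀)) (pullback.snd v (τ.app j₀))
      (D.map φ' ≫ D.map φ) :=
    Hi.of_isPullback (IsPullback.of_hasPullback _ _) (IsPullback.of_hasPullback _ _)
  have Hi3 : HasQHom Q u v ((D.map φ' ≫ D.map φ) ≫ τ.app j₀) :=
    Hi2.of_isPullback (IsPullback.of_hasPullback _ _) (IsPullback.of_hasPullback _ _)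
  refine Hi3.of_eq ?_
  rw [← D.map_comp]
  simpa using τ.naturality (φ' ≫ φ)

/-- Main theorem: geometric existence of a `Q`-morphism is an ind-constructible property of
pairs of algebraic schemes, provided `Q` is stable under base change and descends through
limits. -/
theorem isIndConsPair (Q : MorphismProperty Scheme.{u}) [Q.IsStableUnderBaseChange]
    (hQ : DescendsLim Q) : ConsPropPair.IsIndConsPair (PairProp Q) := by
  refine ⟨isFieldStablePair Q, ?_⟩
  intro X Y S u v _ _ _ _ _ _ hgen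
  haveI : IsLocallyNoetherian X := LocallyOfFiniteType.isLocallyNoetherian u
  haveI : IsLocallyNoetherian Y := LocallyOfFiniteType.isLocallyNoetherian v
  change PairProp Q (u.fiberToSpecResidueField (genericPoint S))
    (v.fiberToSpecResidueField (genericPoint S)) at hgen
  rw [pairProp_iff] at hgen
  obtain ⟨T', h, hint, hsub, H⟩ := hgen
  have H1 : HasQHom Q u v (h ≫ S.fromSpecResidueField (genericPoint S)) :=
    H.of_isPullback (IsPullback.of_hasPullback u _) (IsPullback.of_hasPullback v _)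
  obtain ⟨_, ⟨S₁, hS₁, rfl⟩, hηS₁, -⟩ := S.isBasis_affineOpens.exists_subset_of_mem_open
    (Set.mem_univ (genericPoint S)) isOpen_univ
  have ht : ∀ x : T', (h ≫ S.fromSpecResidueField (genericPoint S)) x = genericPoint S := by
    intro x
    rw [Scheme.Hom.comp_apply, Scheme.fromSpecResidueField_apply]
  have e : (⊤ : T'.Opens) ≤ (h ≫ S.fromSpecResidueField (genericPoint S)) ⁻¹ᵁ S₁ := by
    intro x _
    show (h ≫ S.fromSpecResidueField (genericPoint S)) x ∈ S₁
    rw [ht]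
    exact hηS₁
  obtain ⟨J, _, _, 𝔇, τ, π, hπ, h1, h2, h3⟩ := FpLimit.exists_limit_of_affineOpen
    (h ≫ S.fromSpecResidueField (genericPoint S)) S₁ hS₁ ⊤ (isAffineOpen_top T') e
  obtain ⟨j₀⟩ := IsCofiltered.nonempty (C := J)
  have H2 : HasQHom Q u v ((Cone.mk _ π).π.app j₀ ≫ τ.app j₀) := by
    have := H1.comp (⊤ : T'.Opens).ι
    rwa [← h3 j₀] at this
  haveI := h1
  obtain ⟨j, Hj⟩ := HasQHom.exists_stage hQ u v 𝔇 τ _ hπ j₀ H2
  obtain ⟨x⟩ : Nonempty T' := inferInstance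
  obtain ⟨a, ha⟩ : ∃ a : 𝔇.obj j ⟶ S, a = τ.app j := ⟨_, rfl⟩
  rw [← ha] at Hj
  have hξ : a ((π.app j) ⟨x, trivial⟩) = genericPoint S := by
    rw [ha, ← Scheme.Hom.comp_apply, h3 j, Scheme.Hom.comp_apply, ht]
  haveI : LocallyOfFinitePresentation a := ha ▸ h2 j
  obtain ⟨V, hV1, hV2⟩ := GenericImage.exists_open_inter_closure_subset_image a
    ((π.app j) ⟨x, trivial⟩)
  rw [hξ] at hV1 hV2
  refine ⟨genericPoint S, mem_interior.mpr ⟨(V : Set S), ?_, V.2, hV1⟩⟩
  intro s hs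
  obtain ⟨w, -, rfl⟩ := hV2 s hs (genericPoint_specializes s)
  show PairProp Q (u.fiberToSpecResidueField _) (v.fiberToSpecResidueField _)
  rw [pairProp_iff]
  refine ⟨Spec ((𝔇.obj j).residueField w), Spec.map (a.residueFieldMap w),
    inferInstance, inferInstance, ?_⟩
  apply HasQHom.to_isPullback (IsPullback.of_hasPullback u _) (IsPullback.of_hasPullback v _)
  rw [Scheme.Hom.SpecMap_residueFieldMap_fromSpecResidueField]
  exact Hj.comp _

end Groth.Agent.Lib.Helper12.ConsPairGen
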