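import Mathlib
import Groth.Prelude.Def_EGA4Misc
import Groth.Agent.Lib.Helper12.ConsPairGen

/-!
# Ind-constructibility of a property of the morphism of fibres

Generic machinery for the relation `P(f, X, Y, k) = Q f` on morphisms of algebraic schemes, where
`Q` is a morphism property that is stable under base change, descends along fpqc morphisms and
descends through cofiltered limits with affine transition maps.
-/

set_option autoImplicit false
universe u
open CategoryTheory CategoryTheory.Limits AlgebraicGeometry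

namespace Groth.Agent.Lib.Helper12.ConsMorGen

open Groth.Agent.Lib.Helper12.ConsPairGen

/-- `Q` holds for a base change of `f` (over `g`) along `h`. -/
def HasQBC (Q : MorphismProperty Scheme.{u}) {X Y T T' : Scheme.{u}} (f : X ⟶ Y) (g : Y ⟶ T)
    (h : T' ⟶ T) : Prop :=
  ∃ (X' Y' : Scheme.{u}) (f' : X' ⟶ Y') (g' : Y' ⟶ T') (eX : X' ⟶ X) (eY : Y' ⟶ Y),
    IsPullback eY g' g h ∧ IsPullback eX f' f eY ∧ Q f'

variable {Q : MorphismProperty Scheme.{u}}

/-- For a specific stacked base change, `HasQBC` is just `Q`. -/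
theorem HasQBC.iff_of_isPullback [Q.IsStableUnderBaseChange] {X Y T T' X' Y' : Scheme.{u}}
    {f : X ⟶ Y} {g : Y ⟶ T} {h : T' ⟶ T} {f' : X' ⟶ Y'} {g' : Y' ⟶ T'} {eX : X' ⟶ X}
    {eY : Y' ⟶ Y} (hY : IsPullback eY g' g h) (hX : IsPullback eX f' f eY) :
    HasQBC Q f g h ↔ Q f' := by
  constructor
  · rintro ⟨X₂, Y₂, f₂, g₂, eX₂, eY₂, hY₂, hX₂, hQ⟩
    -- `Y' ⟶ Y₂`
    have hφ1 : hY₂.lift eY g' hY.w ≫ eY₂ = eY := hY₂.lift_fst _ _ _
    have wX : eX ≫ f = (f' ≫ hY₂.lift eY g' hY.w) ≫ eY₂ := by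
      rw [Category.assoc, hφ1]; exact hX.w
    have hsq : IsPullback (hX₂.lift eX (f' ≫ hY₂.lift eY g' hY.w) wX) f' f₂
        (hY₂.lift eY g' hY.w) := by
      refine IsPullback.of_right ?_ (hX₂.lift_snd _ _ _) hX₂
      rw [hX₂.lift_fst, hφ1]
      exact hX
    exact MorphismProperty.of_isPullback hsq hQ
  · intro hQ
    exact ⟨X', Y', f', g', eX, eY, hY, hX, hQ⟩

/-- Further base change. -/
theorem HasQBC.comp [Q.IsStableUnderBaseChange] {X Y T W W' : Scheme.{u}} {f : X ⟶ Y}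
    {g : Y ⟶ T} {a : W ⟶ T} (H : HasQBC Q f g a) (b : W' ⟶ W) : HasQBC Q f g (b ≫ a) := by
  obtain ⟨X', Y', f', g', eX, eY, hY, hX, hQ⟩ := H
  refine ⟨pullback f' (pullback.fst g' b), pullback g' b, pullback.snd f' (pullback.fst g' b),
    pullback.snd g' b, pullback.fst f' (pullback.fst g' b) ≫ eX, pullback.fst g' b ≫ eY,
    (IsPullback.of_hasPullback g' b).paste_horiz hY,
    (IsPullback.of_hasPullback f' (pullback.fst g' b)).paste_horiz hX, ?_⟩
  exact MorphismProperty.pullback_snd _ _ hQ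

/-- Transitivity of base change, forward direction. -/
theorem HasQBC.of_isPullback {X Y T W W' X₁ Y₁ : Scheme.{u}} {f : X ⟶ Y}
    {g : Y ⟶ T} {a : W ⟶ T} {f₁ : X₁ ⟶ Y₁} {g₁ : Y₁ ⟶ W} {pX : X₁ ⟶ X} {pY : Y₁ ⟶ Y}
    (hY₁ : IsPullback pY g₁ g a) (hX₁ : IsPullback pX f₁ f pY) {b : W' ⟶ W}
    (H : HasQBC Q f₁ g₁ b) : HasQBC Q f g (b ≫ a) := by
  obtain ⟨X', Y', f', g', eX, eY, hY, hX, hQ⟩ := H
  exact ⟨X', Y', f', g', eX ≫ pX, eY ≫ pY, hY.paste_horiz hY₁, hX.paste_horiz hX₁, hQ⟩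

/-- Transitivity of base change, backward direction. -/
theorem HasQBC.to_isPullback {X Y T W W' X₁ Y₁ : Scheme.{u}} {f : X ⟶ Y}
    {g : Y ⟶ T} {a : W ⟶ T} {f₁ : X₁ ⟶ Y₁} {g₁ : Y₁ ⟶ W} {pX : X₁ ⟶ X} {pY : Y₁ ⟶ Y}
    (hY₁ : IsPullback pY g₁ g a) (hX₁ : IsPullback pX f₁ f pY) {b : W' ⟶ W}
    (H : HasQBC Q f g (b ≫ a)) : HasQBC Q f₁ g₁ b := by
  obtain ⟨X', Y', f', g', eX, eY, hY, hX, hQ⟩ := H
  have wY : eY ≫ g = (g' ≫ b) ≫ a := by rw [Category.assoc]; exact hY.w
  have hl1 : hY₁.lift eY (g' ≫ b) wY ≫ pY = eY := hY₁.lift_fst _ _ _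
  have wX : eX ≫ f = (f' ≫ hY₁.lift eY (g' ≫ b) wY) ≫ pY := by
    rw [Category.assoc, hl1]; exact hX.w
  refine ⟨X', Y', f', g', hX₁.lift eX (f' ≫ hY₁.lift eY (g' ≫ b) wY) wX,
    hY₁.lift eY (g' ≫ b) wY, ?_, ?_, hQ⟩
  · refine IsPullback.of_right ?_ (hY₁.lift_snd _ _ _) hY₁
    rw [hl1]
    exact hY
  · refine IsPullback.of_right ?_ (hX₁.lift_snd _ _ _) hX₁
    rw [hX₁.lift_fst, hl1]
    exact hX

theorem HasQBC.of_eq {X Y T W : Scheme.{u}} {f : X ⟶ Y} {g : Y ⟶ T} {a a' : W ⟶ T}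
    (H : HasQBC Q f g a) (h : a = a') : HasQBC Q f g a' := h ▸ H

/-- The two stacked cartesian squares of the morphism of fibres. -/
theorem isPullback_fiber {Y S : Scheme.{u}} (g : Y ⟶ S) (s : S) :
    IsPullback (g.fiberι s) (g.fiberToSpecResidueField s) g (S.fromSpecResidueField s) :=
  IsPullback.of_hasPullback _ _

theorem isPullback_fiberMap {X Y S : Scheme.{u}} (f : X ⟶ Y) (g : Y ⟶ S) (s : S) :
    IsPullback ((f ≫ g).fiberι s) (MoreMor.fiberMap f g s) f (g.fiberι s) := by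
  refine IsPullback.of_bot ?_ ?_ (isPullback_fiber g s)
  · have h1 : MoreMor.fiberMap f g s ≫ g.fiberToSpecResidueField s =
        (f ≫ g).fiberToSpecResidueField s := by
      unfold MoreMor.fiberMap
      exact pullback.lift_snd _ _ _
    rw [h1]
    exact isPullback_fiber (f ≫ g) s
  · unfold MoreMor.fiberMap
    exact (pullback.lift_fst _ _ _).symm

theorem hasQBC_fiber_iff [Q.IsStableUnderBaseChange] {X Y S : Scheme.{u}} (f : X ⟶ Y) (g : Y ⟶ S)
    (s : S) : HasQBC Q f g (S.fromSpecResidueField s) ↔ Q (MoreMor.fiberMap f g s) :=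
  HasQBC.iff_of_isPullback (isPullback_fiber g s) (isPullback_fiberMap f g s)

/-- Descent of `Q` along an extension of fields. -/
theorem HasQBC.of_field_ext [Q.IsStableUnderBaseChange]
    [Q.DescendsAlong (@Surjective ⊓ @Flat ⊓ @QuasiCompact : MorphismProperty Scheme.{u})]
    {X Y : Scheme.{u}} {K L : Type u} [Field K] [Field L] (φ : CommRingCat.of K ⟶ CommRingCat.of L)
    (f : X ⟶ Y) (g : Y ⟶ Spec (CommRingCat.of K)) (H : HasQBC Q f g (Spec.map φ)) : Q f := by
  obtain ⟨X', Y', f', g', eX, eY, hY, hX, hQ⟩ := H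
  haveI : Flat (Spec.map φ) := by
    rw [HasRingHomProperty.Spec_iff (P := @Flat)]
    letI := φ.hom.toAlgebra
    show (algebraMap K L).Flat
    rw [RingHom.flat_algebraMap_iff]
    infer_instance
  haveI : Surjective (Spec.map φ) := by
    constructor
    intro x
    refine ⟨⟨⊥, Ideal.isPrime_bot⟩, Subsingleton.elim _ _⟩
  have hh : (@Surjective ⊓ @Flat ⊓ @QuasiCompact : MorphismProperty Scheme) (Spec.map φ) :=
    ⟨⟨inferInstance, inferInstance⟩, inferInstance⟩
  have heY : (@Surjective ⊓ @Flat ⊓ @QuasiCompact : MorphismProperty Scheme) eY :=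
    MorphismProperty.of_isPullback hY.flip hh
  exact MorphismProperty.of_isPullback_of_descendsAlong hX.flip heY hQ

/-- A base change of `(f, g)` to the limit with property `Q` comes from a stage. -/
theorem HasQBC.exists_stage [Q.IsStableUnderBaseChange] (hQ : DescendsLim Q)
    {S X Y : Scheme.{u}} (f : X ⟶ Y) (g : Y ⟶ S)
    [LocallyOfFinitePresentation g] [QuasiCompact g] [QuasiSeparated g]
    [LocallyOfFinitePresentation (f ≫ g)] [QuasiCompact (f ≫ g)] [QuasiSeparated (f ≫ g)]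
    {J : Type u} [SmallCategory J] [IsCofiltered J] (D : J ⥤ Scheme.{u})
    (τ : D ⟶ (Functor.const J).obj S) (c : Cone D) (hc : IsLimit c) [∀ j, IsAffine (D.obj j)]
    (j₀ : J) (H : HasQBC Q f g (c.π.app j₀ ≫ τ.app j₀)) : ∃ j, HasQBC Q f g (τ.app j) := by
  haveI : ∀ (i j : J) (f : i ⟶ j), IsAffineHom (D.map f) := fun i j f => inferInstance
  have hY₀ : IsPullback (pullback.fst g (τ.app j₀)) (pullback.snd g (τ.app j₀)) g (τ.app j₀) :=
    IsPullback.of_hasPullback _ _
  have hX₀ : IsPullback (pullback.fst f (pullback.fst g (τ.app j₀)))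
      (pullback.snd f (pullback.fst g (τ.app j₀))) f (pullback.fst g (τ.app j₀)) :=
    IsPullback.of_hasPullback _ _
  have hXY₀ := hX₀.paste_vert hY₀
  have H0 : HasQBC Q (pullback.snd f (pullback.fst g (τ.app j₀))) (pullback.snd g (τ.app j₀))
      (c.π.app j₀) := H.to_isPullback hY₀ hX₀
  obtain ⟨X', Y', f', g', eX, eY, hY, hX, hQf⟩ := H0
  haveI : LocallyOfFinitePresentation (pullback.snd f (pullback.fst g (τ.app j₀)) ≫
      pullback.snd g (τ.app j₀)) :=
    MorphismProperty.of_isPullback (P := @LocallyOfFinitePresentation) hXY₀ inferInstance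
  haveI : QuasiCompact (pullback.snd f (pullback.fst g (τ.app j₀)) ≫
      pullback.snd g (τ.app j₀)) :=
    MorphismProperty.of_isPullback (P := @QuasiCompact) hXY₀ inferInstance
  haveI : QuasiSeparated (pullback.snd f (pullback.fst g (τ.app j₀)) ≫
      pullback.snd g (τ.app j₀)) :=
    MorphismProperty.of_isPullback (P := @QuasiSeparated) hXY₀ inferInstance
  obtain ⟨i, φ, Xi, Yi, fi, gi, pY, pX, hpY, hpX, hQi⟩ := hQ D c hc j₀
    (pullback.snd f (pullback.fst g (τ.app j₀))) (pullback.snd g (τ.app j₀)) f' g' eY eX hY hX hQf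
  refine ⟨i, ?_⟩
  have Hi : HasQBC Q (pullback.snd f (pullback.fst g (τ.app j₀))) (pullback.snd g (τ.app j₀))
      (D.map φ) := ⟨Xi, Yi, fi, gi, pX, pY, hpY, hpX, hQi⟩
  refine (Hi.of_isPullback hY₀ hX₀).of_eq ?_
  simpa using τ.naturality φ

/-- Main theorem: a morphism property stable under base change, descending along fpqc morphisms
and through limits gives an ind-constructible property of morphisms of algebraic schemes. -/
theorem isIndConsMor (Q : MorphismProperty Scheme.{u}) [Q.IsStableUnderBaseChange]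
    [Q.DescendsAlong (@Surjective ⊓ @Flat ⊓ @QuasiCompact : MorphismProperty Scheme.{u})]
    (hQ : DescendsLim Q) : ConsProp.IsIndConsMor (fun X Y T f g => Q f) := by
  refine ⟨?_, ?_⟩
  · intro X X' Y Y' T T' f g f' g' eX eY h _ _ _ _ _ _ _ _ hY hX
    have hh : (@Surjective ⊓ @Flat ⊓ @QuasiCompact : MorphismProperty Scheme) h :=
      ⟨⟨inferInstance, inferInstance⟩, inferInstance⟩
    have heY : (@Surjective ⊓ @Flat ⊓ @QuasiCompact : MorphismProperty Scheme) eY :=
      MorphismProperty.of_isPullback hY.flip hh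
    exact ⟨fun h1 => MorphismProperty.of_isPullback hX h1,
      fun h1 => MorphismProperty.of_isPullback_of_descendsAlong hX.flip heY h1⟩
  · intro X Y S f g _ _ _ _ _ _ hgen
    haveI : IsLocallyNoetherian Y := LocallyOfFiniteType.isLocallyNoetherian g
    haveI : IsLocallyNoetherian X := LocallyOfFiniteType.isLocallyNoetherian (f ≫ g)
    change Q (MoreMor.fiberMap f g (genericPoint S)) at hgen
    have H1 : HasQBC Q f g (S.fromSpecResidueField (genericPoint S)) :=
      (hasQBC_fiber_iff f g _).mpr hgen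
    obtain ⟨_, ⟨S₁, hS₁, rfl⟩, hηS₁, -⟩ := S.isBasis_affineOpens.exists_subset_of_mem_open
      (Set.mem_univ (genericPoint S)) isOpen_univ
    have ht : ∀ x : Spec (S.residueField (genericPoint S)),
        (S.fromSpecResidueField (genericPoint S)) x = genericPoint S := by
      intro x
      rw [Scheme.fromSpecResidueField_apply]
    have e : (⊤ : (Spec (S.residueField (genericPoint S))).Opens) ≤
        (S.fromSpecResidueField (genericPoint S)) ⁻¹ᵁ S₁ := by
      intro x _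
      show (S.fromSpecResidueField (genericPoint S)) x ∈ S₁
      rw [ht]
      exact hηS₁
    obtain ⟨J, _, _, 𝔇, τ, π, hπ, h1, h2, h3⟩ := FpLimit.exists_limit_of_affineOpen
      (S.fromSpecResidueField (genericPoint S)) S₁ hS₁ ⊤ (isAffineOpen_top _) e
    obtain ⟨j₀⟩ := IsCofiltered.nonempty (C := J)
    have H2 : HasQBC Q f g ((Cone.mk _ π).π.app j₀ ≫ τ.app j₀) := by
      have := H1.comp (⊤ : (Spec (S.residueField (genericPoint S))).Opens).ι
      rwa [← h3 j₀] at this
    haveI := h1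
    obtain ⟨j, Hj⟩ := HasQBC.exists_stage hQ f g 𝔇 τ _ hπ j₀ H2
    obtain ⟨x⟩ : Nonempty (Spec (S.residueField (genericPoint S))) := inferInstance
    obtain ⟨a, ha⟩ : ∃ a : 𝔇.obj j ⟶ S, a = τ.app j := ⟨_, rfl⟩
    rw [← ha] at Hj
    have hξ : a ((π.app j) ⟨x, trivial⟩) = genericPoint S := by
      rw [ha, ← Scheme.Hom.comp_apply, h3 j, Scheme.Hom.comp_apply, ht]
    haveI : LocallyOfFinitePresentation a := ha ▸ h2 j
    obtain ⟨V, hV1, hV2⟩ := GenericImage.exists_open_inter_closure_subset_image a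
      ((π.app j) ⟨x, trivial⟩)
    rw [hξ] at hV1 hV2
    refine ⟨genericPoint S, mem_interior.mpr ⟨(V : Set S), ?_, V.2, hV1⟩⟩
    intro s hs
    obtain ⟨w, -, rfl⟩ := hV2 s hs (genericPoint_specializes s)
    show Q (MoreMor.fiberMap f g (a w))
    apply HasQBC.of_field_ext (K := S.residueField (a w)) (L := (𝔇.obj j).residueField w)
      (a.residueFieldMap w) _ (g.fiberToSpecResidueField (a w))
    apply HasQBC.to_isPullback (isPullback_fiber g _) (isPullback_fiberMap f g _)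
    rw [Scheme.Hom.SpecMap_residueFieldMap_fromSpecResidueField]
    exact Hj.comp _

end Groth.Agent.Lib.Helper12.ConsMorGen
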