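import Mathlib
import Groth.Agent.Lib.Lead.Spectral

/-!
# Helper library (helper12): locally closed affine pieces `V(t) ∩ D(g)` of `Spec B`

For a finite set `t ⊆ B` and `g : B` the ring `R t g = (B / (t))[1/g]` represents the locally
closed piece `V(t) ∩ D(g)` of `Spec B`.  We prove its universal property, that finitely presented
algebras with a point in a residue field map to a piece, and that a family of pieces with a
monotone property which covers `Spec B` can be refined to a finite partition by pieces.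
-/

universe u

open CategoryTheory AlgebraicGeometry Topology

set_option backward.isDefEq.respectTransparency false
set_option linter.style.haveILetI false

namespace Groth.Agent.Lib.Helper12.StratPiece

variable {B : Type u} [CommRing B]

/-- The ring of the piece `V(t) ∩ D(g)` of `Spec B`. -/
abbrev R (t : Finset B) (g : B) : Type u :=
  Localization.Away (Ideal.Quotient.mk (Ideal.span (t : Set B)) g)

/-- Membership of a prime in the piece `V(t) ∩ D(g)`. -/
def Mem (t : Finset B) (g : B) (p : Ideal B) : Prop := (∀ a ∈ t, a ∈ p) ∧ g ∉ p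

theorem algebraMap_eq_zero {t : Finset B} (g : B) {a : B} (ha : a ∈ t) :
    algebraMap B (R t g) a = 0 := by
  rw [IsScalarTower.algebraMap_apply B (B ⧸ Ideal.span (t : Set B)) (R t g)]
  have : algebraMap B (B ⧸ Ideal.span (t : Set B)) a = 0 := by
    rw [Ideal.Quotient.algebraMap_eq, Ideal.Quotient.eq_zero_iff_mem]
    exact Ideal.subset_span ha
  rw [this, map_zero]

theorem isUnit_algebraMap (t : Finset B) (g : B) : IsUnit (algebraMap B (R t g) g) := by
  rw [IsScalarTower.algebraMap_apply B (B ⧸ Ideal.span (t : Set B)) (R t g)]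
  exact IsLocalization.Away.algebraMap_isUnit (S := R t g)
    (Ideal.Quotient.mk (Ideal.span (t : Set B)) g)

/-- Universal property of the piece. -/
theorem exists_lift {R' : Type*} [CommRing R'] (φ : B →+* R') (t : Finset B) (g : B)
    (h0 : ∀ a ∈ t, φ a = 0) (hg : IsUnit (φ g)) :
    ∃ ψ : R t g →+* R', ψ.comp (algebraMap B (R t g)) = φ := by
  have h1 : ∀ a ∈ Ideal.span (t : Set B), φ a = 0 := by
    intro a ha
    have : Ideal.span (t : Set B) ≤ RingHom.ker φ :=
      Ideal.span_le.mpr (fun a ha => by simpa using h0 a ha)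
    exact this ha
  let φ1 : B ⧸ Ideal.span (t : Set B) →+* R' := Ideal.Quotient.lift _ φ h1
  have hg1 : IsUnit (φ1 (Ideal.Quotient.mk _ g)) := by simpa [φ1] using hg
  refine ⟨IsLocalization.Away.lift (S := R t g) (Ideal.Quotient.mk _ g) hg1, ?_⟩
  ext b
  simp only [RingHom.coe_comp, Function.comp_apply]
  rw [IsScalarTower.algebraMap_apply B (B ⧸ Ideal.span (t : Set B)) (R t g),
    IsLocalization.Away.lift_eq]
  simp [φ1]

theorem exists_refine {t t' : Finset B} {g g' : B} (ht : t ⊆ t') (hg : g ∣ g') :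
    ∃ ψ : R t g →+* R t' g', ψ.comp (algebraMap B (R t g)) = algebraMap B (R t' g') := by
  apply exists_lift
  · intro a ha
    exact algebraMap_eq_zero g' (ht ha)
  · exact isUnit_of_dvd_unit (map_dvd _ hg) (isUnit_algebraMap t' g')

theorem range_comap (t : Finset B) (g : B) :
    Set.range (PrimeSpectrum.comap (algebraMap B (R t g))) = {p | Mem t g p.asIdeal} := by
  have hcomp : ∀ z : PrimeSpectrum (R t g), PrimeSpectrum.comap (algebraMap B (R t g)) z =
      PrimeSpectrum.comap (Ideal.Quotient.mk (Ideal.span (t : Set B)))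
        (PrimeSpectrum.comap (algebraMap (B ⧸ Ideal.span (t : Set B)) (R t g)) z) := by
    intro z
    ext b
    simp only [PrimeSpectrum.comap_asIdeal, Ideal.mem_comap]
    rw [IsScalarTower.algebraMap_apply B (B ⧸ Ideal.span (t : Set B)) (R t g)]
    rfl
  have h1 := PrimeSpectrum.localization_away_comap_range (R t g)
    (Ideal.Quotient.mk (Ideal.span (t : Set B)) g)
  have h2 := _root_.range_comap_of_surjective _
    (Ideal.Quotient.mk (Ideal.span (t : Set B))) Ideal.Quotient.mk_surjective
  rw [Ideal.mk_ker] at h2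
  ext x
  simp only [Set.mem_range, Set.mem_setOf_eq, Mem]
  constructor
  · rintro ⟨z, rfl⟩
    rw [hcomp]
    set y := PrimeSpectrum.comap (algebraMap (B ⧸ Ideal.span (t : Set B)) (R t g)) z with hy
    have hy1 : y ∈ (PrimeSpectrum.basicOpen (Ideal.Quotient.mk (Ideal.span (t : Set B)) g) :
        Set _) := by
      rw [← h1]; exact ⟨z, rfl⟩
    have hy2 : PrimeSpectrum.comap (Ideal.Quotient.mk (Ideal.span (t : Set B))) y ∈
        PrimeSpectrum.zeroLocus (Ideal.span (t : Set B) : Set B) := by
      rw [← h2]; exact ⟨y, rfl⟩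
    refine ⟨fun a ha => hy2 (Ideal.subset_span ha), ?_⟩
    exact hy1
  · rintro ⟨hx1, hx2⟩
    have hx : x ∈ PrimeSpectrum.zeroLocus (Ideal.span (t : Set B) : Set B) := by
      rw [PrimeSpectrum.zeroLocus_span]
      exact fun a ha => hx1 a ha
    rw [← h2] at hx
    obtain ⟨y, rfl⟩ := hx
    have hy1 : y ∈ (PrimeSpectrum.basicOpen (Ideal.Quotient.mk (Ideal.span (t : Set B)) g) :
        Set _) := hx2
    rw [← h1] at hy1
    obtain ⟨z, rfl⟩ := hy1
    exact ⟨z, hcomp z⟩

theorem finitePresentation (t : Finset B) (g : B) :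
    (algebraMap B (R t g)).FinitePresentation := by
  rw [IsScalarTower.algebraMap_eq B (B ⧸ Ideal.span (t : Set B)) (R t g)]
  refine RingHom.FinitePresentation.comp ?_ ?_
  · rw [RingHom.finitePresentation_algebraMap]
    exact IsLocalization.Away.finitePresentation
      (Ideal.Quotient.mk (Ideal.span (t : Set B)) g)
  · rw [Ideal.Quotient.algebraMap_eq]
    refine RingHom.FinitePresentation.of_surjective _ Ideal.Quotient.mk_surjective ?_
    rw [Ideal.mk_ker]
    exact ⟨t, rfl⟩

/-- Elements of the kernel of a map from a piece to a field: clear the denominator. -/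
theorem exists_clear (t : Finset B) (g : B) (z : R t g) :
    ∃ (c : B) (n : ℕ), z * algebraMap B (R t g) g ^ n = algebraMap B (R t g) c := by
  obtain ⟨n, a, ha⟩ := IsLocalization.Away.surj (S := R t g)
    (Ideal.Quotient.mk (Ideal.span (t : Set B)) g) z
  obtain ⟨c, rfl⟩ := Ideal.Quotient.mk_surjective a
  refine ⟨c, n, ?_⟩
  rw [IsScalarTower.algebraMap_apply B (B ⧸ Ideal.span (t : Set B)) (R t g),
    IsScalarTower.algebraMap_apply B (B ⧸ Ideal.span (t : Set B)) (R t g)]
  exact ha

/-- A finitely presented `B`-algebra `C` with a point in a field `K` whose elements are fractions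
of elements of `B` maps to a piece `V(t) ∩ D(g)` containing the kernel of `B → K`. -/
theorem exists_factor {C K : Type u} [CommRing C] [Field K] (ρ : B →+* C)
    (hρ : ρ.FinitePresentation) (κ : B →+* K)
    (hK : ∀ x : K, ∃ a s : B, κ s ≠ 0 ∧ x * κ s = κ a) (φ : C →+* K) (hφ : φ.comp ρ = κ) :
    ∃ (t : Finset B) (g : B), (∀ a ∈ t, κ a = 0) ∧ κ g ≠ 0 ∧
      ∃ ψ : C →+* R t g, ψ.comp ρ = algebraMap B (R t g) := by
  classical
  algebraize [ρ]
  obtain ⟨m, f, hf, hker⟩ := (inferInstance : Algebra.FinitePresentation B C).out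
  have hρa : ∀ b : B, ρ b = algebraMap B C b := fun b => rfl
  choose a s hs has using fun i => hK (φ (f (MvPolynomial.X i)))
  let g₀ : B := ∏ i, s i
  have hg₀ : κ g₀ ≠ 0 := by
    simp only [g₀, map_prod]
    exact Finset.prod_ne_zero_iff.mpr (fun i _ => hs i)
  let b : Fin m → B := fun i => a i * ∏ j ∈ Finset.univ.erase i, s j
  have hb : ∀ i, φ (f (MvPolynomial.X i)) * κ g₀ = κ (b i) := by
    intro i
    have : g₀ = s i * ∏ j ∈ Finset.univ.erase i, s j := by
      simp only [g₀]
      rw [Finset.mul_prod_erase _ _ (Finset.mem_univ i)]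
    rw [this, map_mul, ← mul_assoc, has i, ← map_mul]
  obtain ⟨π₀, hπ₀⟩ := exists_lift κ ∅ g₀ (by simp) hg₀.isUnit
  have hπ₀' : ∀ x : B, π₀ (algebraMap B (R ∅ g₀) x) = κ x := fun x => by
    rw [← hπ₀]; rfl
  obtain ⟨u, hu⟩ := (isUnit_algebraMap (∅ : Finset B) g₀).exists_right_inv
  have hπu : κ g₀ * π₀ u = 1 := by
    rw [← hπ₀', ← map_mul, hu, map_one]
  let ev₀ : MvPolynomial (Fin m) B →ₐ[B] R ∅ g₀ :=
    MvPolynomial.aeval (fun i => algebraMap B (R ∅ g₀) (b i) * u)
  have hcomp : π₀.comp (ev₀ : MvPolynomial (Fin m) B →+* R ∅ g₀) =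
      φ.comp (f : MvPolynomial (Fin m) B →+* C) := by
    apply MvPolynomial.ringHom_ext
    · intro x
      simp only [RingHom.coe_comp, RingHom.coe_coe, Function.comp_apply, MvPolynomial.algHom_C,
        ev₀]
      rw [hπ₀', ← hρa, ← hφ]
      rfl
    · intro i
      simp only [RingHom.coe_comp, RingHom.coe_coe, Function.comp_apply, ev₀,
        MvPolynomial.aeval_X]
      rw [map_mul, hπ₀', ← hb i, mul_assoc, hπu, mul_one]
  obtain ⟨rs, hrs⟩ := hker
  choose c n hcn using fun z : R ∅ g₀ => exists_clear ∅ g₀ z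
  let t : Finset B := rs.image (fun r => c (ev₀ r))
  have hrsker : ∀ r ∈ rs, f r = 0 := by
    intro r hr
    have : r ∈ RingHom.ker f.toRingHom := by
      rw [← hrs]; exact Ideal.subset_span hr
    exact this
  refine ⟨t, g₀, ?_, hg₀, ?_⟩
  · intro x hx
    obtain ⟨r, hr, rfl⟩ := Finset.mem_image.mp hx
    rw [← hπ₀', ← hcn, map_mul]
    have : π₀ (ev₀ r) = 0 := by
      have := congrArg (fun h => h r) hcomp
      simp only [RingHom.coe_comp, RingHom.coe_coe, Function.comp_apply] at this
      rw [this, hrsker r hr, map_zero]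
    rw [this, zero_mul]
  · obtain ⟨θ, hθ⟩ := exists_refine (B := B) (Finset.empty_subset t) (dvd_refl g₀)
    have hθ' : ∀ x : B, θ (algebraMap B (R ∅ g₀) x) = algebraMap B (R t g₀) x := fun x => by
      rw [← hθ]; rfl
    let ev : MvPolynomial (Fin m) B →+* R t g₀ := θ.comp (ev₀ : MvPolynomial (Fin m) B →+* R ∅ g₀)
    have hev : RingHom.ker f.toRingHom ≤ RingHom.ker ev := by
      rw [← hrs, Ideal.span_le]
      intro r hr
      simp only [SetLike.mem_coe, RingHom.mem_ker, ev, RingHom.coe_comp, RingHom.coe_coe,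
        Function.comp_apply]
      have h1 : θ (ev₀ r) * algebraMap B (R t g₀) g₀ ^ (n (ev₀ r)) = 0 := by
        rw [← hθ', ← map_pow, ← map_mul, hcn, hθ']
        exact algebraMap_eq_zero g₀ (Finset.mem_image_of_mem _ hr)
      exact (IsUnit.mul_left_eq_zero ((isUnit_algebraMap t g₀).pow _)).mp h1
    let ψ : C →+* R t g₀ := RingHom.liftOfSurjective f.toRingHom hf ⟨ev, hev⟩
    refine ⟨ψ, ?_⟩
    ext x
    simp only [RingHom.coe_comp, Function.comp_apply]
    have h1 : ρ x = f.toRingHom (MvPolynomial.C x) := by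
      rw [hρa]; simp
    rw [h1]
    simp only [ψ]
    rw [RingHom.liftOfRightInverse_comp_apply]
    simp only [ev, RingHom.coe_comp, RingHom.coe_coe, Function.comp_apply, MvPolynomial.algHom_C,
      ev₀]
    exact hθ' x

/-- The piece `V(t) ∩ D(g)` is open for the constructible topology. -/
theorem isOpen_constructibleTopology_piece (t : Finset B) (g : B) :
    IsOpen[constructibleTopology (PrimeSpectrum B)] {p : PrimeSpectrum B | Mem t g p.asIdeal} := by
  have : {p : PrimeSpectrum B | Mem t g p.asIdeal} =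
      PrimeSpectrum.zeroLocus (t : Set B) ∩ (PrimeSpectrum.basicOpen g : Set _) := by
    ext p
    simp only [Mem, Set.mem_setOf_eq, Set.mem_inter_iff, PrimeSpectrum.mem_zeroLocus,
      SetLike.mem_coe, PrimeSpectrum.mem_basicOpen]
    exact ⟨fun h => ⟨fun a ha => h.1 a ha, h.2⟩, fun h => ⟨fun a ha => h.1 ha, h.2⟩⟩
  rw [this]
  refine @IsOpen.inter _ (constructibleTopology (PrimeSpectrum B)) _ _ ?_ ?_
  · apply IsCompact.isOpen_constructibleTopology_of_isClosed
    · have h1 : IsCompact ((PrimeSpectrum.zeroLocus (t : Set B))ᶜ : Set (PrimeSpectrum B)) ∧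
          IsOpen ((PrimeSpectrum.zeroLocus (t : Set B))ᶜ : Set (PrimeSpectrum B)) :=
        PrimeSpectrum.isCompact_isOpen_iff.mpr ⟨t, rfl⟩
      exact h1.1
    · exact PrimeSpectrum.isClosed_zeroLocus _
  · exact (PrimeSpectrum.isCompact_basicOpen g).isOpen_constructibleTopology_of_isOpen
      (PrimeSpectrum.basicOpen g).2

/-- **Finite partition into pieces.**  If `Pr` is a monotone property of pieces and every prime lies
in a piece with `Pr`, then `Spec B` is the disjoint union of finitely many pieces with `Pr`. -/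
theorem exists_finite_partition (Pr : Finset B → B → Prop)
    (hmono : ∀ t t' g g', t ⊆ t' → g ∣ g' → Pr t g → Pr t' g')
    (hloc : ∀ p : PrimeSpectrum B, ∃ t g, Mem t g p.asIdeal ∧ Pr t g) :
    ∃ F : Finset (Finset B × B), (∀ k ∈ F, Pr k.1 k.2) ∧
      (∀ k ∈ F, ∀ l ∈ F, k ≠ l → ∀ p : PrimeSpectrum B,
        ¬ (Mem k.1 k.2 p.asIdeal ∧ Mem l.1 l.2 p.asIdeal)) ∧
      ∀ p : PrimeSpectrum B, ∃ k ∈ F, Mem k.1 k.2 p.asIdeal := by
  classical
  choose t g hmem hPr using hloc
  haveI := Groth.Agent.Lib.Lead.compactSpace_constructibleTopology (PrimeSpectrum B)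
  obtain ⟨I, hI⟩ := @IsCompact.elim_finite_subcover (PrimeSpectrum B)
    (constructibleTopology (PrimeSpectrum B)) Set.univ (PrimeSpectrum B)
    (@isCompact_univ _ (constructibleTopology (PrimeSpectrum B)) _)
    (fun p => {q : PrimeSpectrum B | Mem (t p) (g p) q.asIdeal})
    (fun p => isOpen_constructibleTopology_piece (t p) (g p))
    (fun q _ => Set.mem_iUnion.mpr ⟨q, hmem q⟩)
  let E : Finset B := I.biUnion (fun p => insert (g p) (t p))
  let 𝓓 : Finset (Finset B) := E.powerset.filter
    (fun D => ∃ p ∈ I, g p ∈ D ∧ Disjoint (t p) D)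
  let piece : Finset B → Finset B × B := fun D => (E \ D, ∏ a ∈ D, a)
  have hpiece : ∀ D, D ⊆ E → ∀ q : PrimeSpectrum B,
      Mem (piece D).1 (piece D).2 q.asIdeal ↔ ∀ a ∈ E, a ∈ D ↔ a ∉ q.asIdeal := by
    intro D hD q
    simp only [Mem, piece, Finset.mem_sdiff, and_imp]
    rw [Ideal.IsPrime.prod_mem_iff]
    constructor
    · rintro ⟨h1, h2⟩ a haE
      constructor
      · intro haD haq
        exact h2 ⟨a, haD, haq⟩
      · intro haq
        by_contra haD
        exact haq (h1 a haE haD)
    · intro h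
      refine ⟨fun a haE haD => ?_, ?_⟩
      · by_contra haq
        exact haD ((h a haE).mpr haq)
      · rintro ⟨a, haD, haq⟩
        exact (h a (hD haD)).mp haD haq
  refine ⟨𝓓.image piece, ?_, ?_, ?_⟩
  · intro k hk
    obtain ⟨D, hD, rfl⟩ := Finset.mem_image.mp hk
    simp only [𝓓, Finset.mem_filter, Finset.mem_powerset] at hD
    obtain ⟨hDE, p, hpI, hgD, hdisj⟩ := hD
    refine hmono (t p) _ (g p) _ ?_ (Finset.dvd_prod_of_mem _ hgD) (hPr p)
    intro a ha
    rw [Finset.mem_sdiff]
    refine ⟨?_, fun haD => (Finset.disjoint_left.mp hdisj) ha haD⟩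
    exact Finset.mem_biUnion.mpr ⟨p, hpI, Finset.mem_insert_of_mem ha⟩
  · intro k hk l hl hkl q ⟨hqk, hql⟩
    obtain ⟨D, hD, rfl⟩ := Finset.mem_image.mp hk
    obtain ⟨D', hD', rfl⟩ := Finset.mem_image.mp hl
    simp only [𝓓, Finset.mem_filter, Finset.mem_powerset] at hD hD'
    apply hkl
    have : D = D' := by
      ext a
      constructor
      · intro ha
        have h1 := ((hpiece D hD.1 q).mp hqk a (hD.1 ha)).mp ha
        exact ((hpiece D' hD'.1 q).mp hql a (hD.1 ha)).mpr h1
      · intro ha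
        have h1 := ((hpiece D' hD'.1 q).mp hql a (hD'.1 ha)).mp ha
        exact ((hpiece D hD.1 q).mp hqk a (hD'.1 ha)).mpr h1
    rw [this]
  · intro q
    let D : Finset B := E.filter (fun a => a ∉ q.asIdeal)
    have hDE : D ⊆ E := Finset.filter_subset _ _
    have hqI : q ∈ ⋃ p ∈ I, {q : PrimeSpectrum B | Mem (t p) (g p) q.asIdeal} :=
      hI (Set.mem_univ q)
    simp only [Set.mem_iUnion, Set.mem_setOf_eq] at hqI
    obtain ⟨p, hpI, hqp⟩ := hqI
    refine ⟨piece D, Finset.mem_image_of_mem _ ?_, ?_⟩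
    · simp only [𝓓, Finset.mem_filter, Finset.mem_powerset]
      refine ⟨hDE, p, hpI, ?_, ?_⟩
      · simp only [D, Finset.mem_filter]
        exact ⟨Finset.mem_biUnion.mpr ⟨p, hpI, Finset.mem_insert_self _ _⟩, hqp.2⟩
      · rw [Finset.disjoint_left]
        intro a hat haD
        simp only [D, Finset.mem_filter] at haD
        exact haD.2 (hqp.1 a hat)
    · rw [hpiece D hDE q]
      intro a haE
      simp only [D, Finset.mem_filter]
      exact ⟨fun h => h.2, fun h => ⟨haE, h⟩⟩

end Groth.Agent.Lib.Helper12.StratPiece
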