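import Mathlib
import Groth.Agent.Lib.Helper12.StratPiece

/-!
# Helper library (helper12): stratification of a qcqs scheme by affine pieces with a local property

`exists_strat`: let `S` be qcqs and `Pr` a property of morphisms `T ⟶ S` stable under
precomposition.  If every point `s` of `S` has a "neighbourhood of `Spec κ(s)`" `T ⟶ S`, locally of
finite presentation, with `Pr`, then `S` is a finite disjoint union of affine locally closed
pieces (immersions of finite presentation) with `Pr`.
-/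

universe u

open CategoryTheory CategoryTheory.Limits AlgebraicGeometry Topology

set_option backward.isDefEq.respectTransparency false
set_option linter.style.haveILetI false

namespace Groth.Agent.Lib.Helper12.StratSch

open Groth.Agent.Lib.Helper12.StratPiece

variable {B : Type u} [CommRing B]

/-- The piece `V(t) ∩ D(g)` as a scheme over `Spec B`. -/
noncomputable def pieceι (t : Finset B) (g : B) :
    Spec (CommRingCat.of (R t g)) ⟶ Spec (CommRingCat.of B) :=
  Spec.map (CommRingCat.ofHom (algebraMap B (R t g)))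

instance (t : Finset B) (g : B) : IsImmersion (pieceι t g) := by
  have : pieceι t g =
      Spec.map (CommRingCat.ofHom (algebraMap (B ⧸ Ideal.span (t : Set B)) (R t g))) ≫
        Spec.map (CommRingCat.ofHom (Ideal.Quotient.mk (Ideal.span (t : Set B)))) := by
    rw [← Spec.map_comp, ← CommRingCat.ofHom_comp]
    rfl
  rw [this]
  haveI : IsClosedImmersion
      (Spec.map (CommRingCat.ofHom (Ideal.Quotient.mk (Ideal.span (t : Set B))))) :=
    IsClosedImmersion.spec_of_surjective _ Ideal.Quotient.mk_surjective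
  infer_instance

instance (t : Finset B) (g : B) : LocallyOfFinitePresentation (pieceι t g) := by
  unfold pieceι
  rw [HasRingHomProperty.Spec_iff (P := @LocallyOfFinitePresentation)]
  exact finitePresentation t g

theorem mem_range_pieceι {t : Finset B} {g : B} {x : Spec (CommRingCat.of B)} :
    x ∈ Set.range (pieceι t g) ↔ Mem t g x.asIdeal := by
  have := range_comap t g
  rw [Set.ext_iff] at this
  exact this x

theorem pieceι_refine {t t' : Finset B} {g g' : B} (ht : t ⊆ t') (hg : g ∣ g') :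
    ∃ h : Spec (CommRingCat.of (R t' g')) ⟶ Spec (CommRingCat.of (R t g)),
      h ≫ pieceι t g = pieceι t' g' := by
  obtain ⟨ψ, hψ⟩ := exists_refine (B := B) ht hg
  refine ⟨Spec.map (CommRingCat.ofHom ψ), ?_⟩
  unfold pieceι
  rw [← Spec.map_comp, ← CommRingCat.ofHom_comp, hψ]

/-- Elements of the residue field of a prime are fractions of elements of the ring. -/
theorem residueField_fraction (p : Ideal B) [p.IsPrime] (x : p.ResidueField) :
    ∃ a s : B, algebraMap B p.ResidueField s ≠ 0 ∧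
      x * algebraMap B p.ResidueField s = algebraMap B p.ResidueField a := by
  obtain ⟨⟨a, s⟩, has⟩ := IsLocalization.surj (nonZeroDivisors (B ⧸ p)) x
  obtain ⟨a', rfl⟩ := Ideal.Quotient.mk_surjective a
  obtain ⟨s', hs'⟩ := Ideal.Quotient.mk_surjective s.1
  refine ⟨a', s', ?_, ?_⟩
  · rw [IsScalarTower.algebraMap_apply B (B ⧸ p) p.ResidueField, Ideal.Quotient.algebraMap_eq, hs']
    exact IsFractionRing.to_map_ne_zero_of_mem_nonZeroDivisors s.2
  · rw [IsScalarTower.algebraMap_apply B (B ⧸ p) p.ResidueField,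
      IsScalarTower.algebraMap_apply B (B ⧸ p) p.ResidueField, Ideal.Quotient.algebraMap_eq, hs']
    exact has

/-- **Local lemma.**  A neighbourhood `T ⟶ S` (locally of finite presentation) of `Spec κ(ι b)`
with a property `Pr` stable under precomposition yields a piece of `Spec B` through `b` with
`Pr`. -/
theorem exists_piece_of_local {S : Scheme.{u}} (Pr : ∀ {T : Scheme.{u}}, (T ⟶ S) → Prop)
    (hmono : ∀ {T T' : Scheme.{u}} (h : T' ⟶ T) (a : T ⟶ S), Pr a → Pr (h ≫ a))
    (ι : Spec (CommRingCat.of B) ⟶ S) (b : Spec (CommRingCat.of B))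
    {T : Scheme.{u}} (a : T ⟶ S) [LocallyOfFinitePresentation a] (ha : Pr a)
    (σ : Spec (S.residueField (ι b)) ⟶ T) (hσ : σ ≫ a = S.fromSpecResidueField (ι b)) :
    ∃ (t : Finset B) (g : B), Mem t g b.asIdeal ∧ Pr (pieceι t g ≫ ι) := by
  let K := b.asIdeal.ResidueField
  let κ : B →+* K := algebraMap B K
  -- the `K`-point of the pullback
  let σ₀ : Spec ((Spec (CommRingCat.of B)).residueField b) ⟶ pullback a ι :=
    pullback.lift (Spec.map (ι.residueFieldMap b) ≫ σ)
      ((Spec (CommRingCat.of B)).fromSpecResidueField b) (by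
        rw [Category.assoc, hσ, Scheme.Hom.SpecMap_residueFieldMap_fromSpecResidueField])
  let σ' : Spec (CommRingCat.of K) ⟶ pullback a ι :=
    Spec.map (Scheme.Spec.residueFieldIso (CommRingCat.of B) b).hom ≫ σ₀
  have hσ' : σ' ≫ pullback.snd a ι = Spec.map (CommRingCat.ofHom κ) := by
    simp only [σ', σ₀, Category.assoc, pullback.lift_snd]
    rw [← Scheme.Spec.map_residueFieldIso_inv_eq_fromSpecResidueField, ← Category.assoc,
      ← Spec.map_comp, Iso.inv_hom_id, Spec.map_id, Category.id_comp]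
  -- an affine open neighbourhood of the image point
  let pt : Spec (CommRingCat.of K) := Classical.arbitrary _
  obtain ⟨_, ⟨V, hV, rfl⟩, hxV, -⟩ :=
    (pullback a ι).isBasis_affineOpens.exists_subset_of_mem_open (Set.mem_univ (σ' pt))
      isOpen_univ
  have hrange : Set.range σ' ⊆ Set.range hV.fromSpec := by
    rw [hV.range_fromSpec]
    rintro _ ⟨y, rfl⟩
    rw [Subsingleton.elim y pt]
    exact hxV
  let φs : Spec (CommRingCat.of K) ⟶ Spec Γ(pullback a ι, V) :=
    IsOpenImmersion.lift hV.fromSpec σ' hrange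
  have hφs : φs ≫ hV.fromSpec = σ' := IsOpenImmersion.lift_fac _ _ _
  let ρ : CommRingCat.of B ⟶ Γ(pullback a ι, V) := Spec.preimage (hV.fromSpec ≫ pullback.snd a ι)
  have hρ : Spec.map ρ = hV.fromSpec ≫ pullback.snd a ι := Spec.map_preimage _
  let φ₀ : Γ(pullback a ι, V) ⟶ CommRingCat.of K := Spec.preimage φs
  have hφ₀ : Spec.map φ₀ = φs := Spec.map_preimage _
  have hρfp : ρ.hom.FinitePresentation := by
    rw [← HasRingHomProperty.Spec_iff (P := @LocallyOfFinitePresentation), hρ]
    infer_instance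
  have hcomp : φ₀.hom.comp ρ.hom = κ := by
    have : ρ ≫ φ₀ = CommRingCat.ofHom κ := by
      apply Spec.map_injective
      rw [Spec.map_comp, hφ₀, hρ, ← Category.assoc, hφs, hσ']
    have := congrArg CommRingCat.Hom.hom this
    simpa using this
  obtain ⟨t, g, ht, hg, ψ, hψ⟩ := exists_factor ρ.hom hρfp κ
    (residueField_fraction b.asIdeal) φ₀.hom hcomp
  refine ⟨t, g, ⟨fun x hx => ?_, fun hgb => hg ?_⟩, ?_⟩
  · exact (Ideal.algebraMap_residueField_eq_zero).mp (ht x hx)
  · exact (Ideal.algebraMap_residueField_eq_zero).mpr hgb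
  · have h1 : pieceι t g = Spec.map (CommRingCat.ofHom ψ) ≫ Spec.map ρ := by
      unfold pieceι
      rw [← Spec.map_comp]
      congr 1
      ext x
      have := congrArg (fun h => h x) hψ
      simpa using this.symm
    rw [h1, hρ]
    have h2 : (Spec.map (CommRingCat.ofHom ψ) ≫ hV.fromSpec ≫ pullback.snd a ι) ≫ ι =
        (Spec.map (CommRingCat.ofHom ψ) ≫ hV.fromSpec ≫ pullback.fst a ι) ≫ a := by
      simp only [Category.assoc, pullback.condition]
    rw [h2]
    exact hmono _ _ ha

/-- A closed subset of an affine open with quasi-compact open complement is the range of a closed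
immersion of finite presentation from an affine scheme. -/
theorem exists_closed_piece {S : Scheme.{u}} [QuasiSeparatedSpace S] (U : S.Opens)
    (hU : IsAffineOpen U) (W : S.Opens) (hW : IsCompact (W : Set S)) :
    ∃ (A : CommRingCat.{u}) (ι : Spec A ⟶ S), IsImmersion ι ∧ LocallyOfFinitePresentation ι ∧
      Set.range ι = (U : Set S) \ (W : Set S) := by
  have hcomp : IsCompact ((U : Set S) ∩ (W : Set S)) :=
    QuasiSeparatedSpace.inter_isCompact _ _ U.isOpen hU.isCompact W.isOpen hW
  have hemb : IsOpenEmbedding hU.fromSpec := hU.fromSpec.isOpenEmbedding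
  have hpre : hU.fromSpec ⁻¹' ((U : Set S) ∩ (W : Set S)) = hU.fromSpec ⁻¹' (W : Set S) := by
    ext x
    simp only [Set.mem_preimage, Set.mem_inter_iff, and_iff_right_iff_imp]
    intro _
    have : hU.fromSpec x ∈ Set.range hU.fromSpec := ⟨x, rfl⟩
    rw [hU.range_fromSpec] at this
    exact this
  have hc : IsCompact (hU.fromSpec ⁻¹' (W : Set S)) := by
    rw [← hpre]
    refine (hemb.isInducing.isCompact_preimage_iff ?_).mpr hcomp
    rw [hU.range_fromSpec]
    exact Set.inter_subset_left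
  have ho : IsOpen (hU.fromSpec ⁻¹' (W : Set S)) := W.isOpen.preimage hU.fromSpec.continuous
  obtain ⟨t, ht⟩ := (PrimeSpectrum.isCompact_isOpen_iff (R := Γ(S, U))
    (s := hU.fromSpec ⁻¹' (W : Set S))).mp ⟨hc, ho⟩
  let I : Ideal Γ(S, U) := Ideal.span (t : Set Γ(S, U))
  let q : Γ(S, U) ⟶ CommRingCat.of (Γ(S, U) ⧸ I) := CommRingCat.ofHom (Ideal.Quotient.mk I)
  haveI : IsClosedImmersion (Spec.map q) :=
    IsClosedImmersion.spec_of_surjective _ Ideal.Quotient.mk_surjective
  haveI : LocallyOfFinitePresentation (Spec.map q) := by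
    rw [HasRingHomProperty.Spec_iff (P := @LocallyOfFinitePresentation)]
    refine RingHom.FinitePresentation.of_surjective _ Ideal.Quotient.mk_surjective ?_
    show (RingHom.ker (Ideal.Quotient.mk I)).FG
    rw [Ideal.mk_ker]
    exact ⟨t, rfl⟩
  refine ⟨CommRingCat.of (Γ(S, U) ⧸ I), Spec.map q ≫ hU.fromSpec, inferInstance, inferInstance, ?_⟩
  have hrq : Set.range (Spec.map q) = (hU.fromSpec ⁻¹' (W : Set S))ᶜ := by
    have := _root_.range_comap_of_surjective _ (Ideal.Quotient.mk I) Ideal.Quotient.mk_surjective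
    rw [Ideal.mk_ker] at this
    rw [← ht, compl_compl, ← PrimeSpectrum.zeroLocus_span]
    exact this
  rw [Scheme.Hom.comp_base, TopCat.coe_comp, Set.range_comp, hrq, Set.image_compl_preimage,
    hU.range_fromSpec]

/-- A qcqs scheme is a finite disjoint union of affine locally closed subschemes of finite
presentation. -/
theorem exists_affine_partition (S : Scheme.{u}) [CompactSpace S] [QuasiSeparatedSpace S] :
    ∃ (n : ℕ) (A : Fin n → CommRingCat.{u}) (ι : ∀ j, Spec (A j) ⟶ S),
      (∀ j, IsImmersion (ι j) ∧ LocallyOfFinitePresentation (ι j)) ∧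
      Pairwise (fun i j => Disjoint (Set.range (ι i)) (Set.range (ι j))) ∧
      (⋃ j, Set.range (ι j)) = Set.univ := by
  classical
  have hcov : ∀ x : S, ∃ U : S.affineOpens, x ∈ U.1 := fun x => by
    obtain ⟨_, ⟨V, hV, rfl⟩, hxV, -⟩ :=
      S.isBasis_affineOpens.exists_subset_of_mem_open (Set.mem_univ x) isOpen_univ
    exact ⟨⟨V, hV⟩, hxV⟩
  obtain ⟨I, hI⟩ := isCompact_univ.elim_finite_subcover (fun U : S.affineOpens => (U.1 : Set S))
    (fun U => U.1.isOpen) (fun x _ => Set.mem_iUnion.mpr (hcov x))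
  let e := I.equivFin
  let n := I.card
  let U : Fin n → S.Opens := fun j => (e.symm j).1.1
  have hUaff : ∀ j, IsAffineOpen (U j) := fun j => (e.symm j).1.2
  have hUcov : ∀ x : S, ∃ j, x ∈ U j := by
    intro x
    have := hI (Set.mem_univ x)
    simp only [Set.mem_iUnion] at this
    obtain ⟨V, hVI, hxV⟩ := this
    refine ⟨e ⟨V, hVI⟩, ?_⟩
    simp only [U, Equiv.symm_apply_apply]
    exact hxV
  let W : Fin n → S.Opens := fun j => ⨆ i : {i : Fin n // i < j}, U i.1
  have hWc : ∀ j, IsCompact (W j : Set S) := by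
    intro j
    simp only [W, TopologicalSpace.Opens.coe_iSup]
    exact isCompact_iUnion (fun i => (hUaff i.1).isCompact)
  have hWmem : ∀ j x, x ∈ W j ↔ ∃ i, i < j ∧ x ∈ U i := by
    intro j x
    simp only [W, TopologicalSpace.Opens.mem_iSup, Subtype.exists, exists_prop]
  choose A ι hι using fun j => exists_closed_piece (U j) (hUaff j) (W j) (hWc j)
  have hr : ∀ j x, x ∈ Set.range (ι j) ↔ x ∈ U j ∧ ∀ i, i < j → x ∉ U i := by
    intro j x
    rw [(hι j).2.2]
    simp only [Set.mem_diff, SetLike.mem_coe, hWmem]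
    constructor
    · rintro ⟨h1, h2⟩
      exact ⟨h1, fun i hi hx => h2 ⟨i, hi, hx⟩⟩
    · rintro ⟨h1, h2⟩
      exact ⟨h1, fun ⟨i, hi, hx⟩ => h2 i hi hx⟩
  refine ⟨n, A, ι, fun j => ⟨(hι j).1, (hι j).2.1⟩, ?_, ?_⟩
  · intro i j hij
    rw [Set.disjoint_left]
    intro x hxi hxj
    rw [hr] at hxi hxj
    rcases lt_or_gt_of_ne hij with h | h
    · exact hxj.2 i h hxi.1
    · exact hxi.2 j h hxj.1
  · rw [Set.eq_univ_iff_forall]
    intro x
    let s : Finset (Fin n) := Finset.univ.filter (fun j => x ∈ U j)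
    have hs : s.Nonempty := by
      obtain ⟨j, hj⟩ := hUcov x
      exact ⟨j, by simp [s, hj]⟩
    refine Set.mem_iUnion.mpr ⟨s.min' hs, ?_⟩
    rw [hr]
    have hmem := s.min'_mem hs
    refine ⟨by simpa [s] using hmem, fun i hi hxi => ?_⟩
    have : s.min' hs ≤ i := s.min'_le i (by simp [s, hxi])
    exact absurd hi (not_lt.mpr this)

/-- **Stratification by affine pieces with a local property.** -/
theorem exists_strat {S : Scheme.{u}} [CompactSpace S] [QuasiSeparatedSpace S]
    (Pr : ∀ {T : Scheme.{u}}, (T ⟶ S) → Prop)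
    (hmono : ∀ {T T' : Scheme.{u}} (h : T' ⟶ T) (a : T ⟶ S), Pr a → Pr (h ≫ a))
    (hloc : ∀ s : S, ∃ (T : Scheme.{u}) (a : T ⟶ S), LocallyOfFinitePresentation a ∧ Pr a ∧
      ∃ σ : Spec (S.residueField s) ⟶ T, σ ≫ a = S.fromSpecResidueField s) :
    ∃ (n : ℕ) (T : Fin n → Scheme.{u}) (e : ∀ i, T i ⟶ S),
      (∀ i, IsAffine (T i) ∧ IsImmersion (e i) ∧ QuasiCompact (e i) ∧
        LocallyOfFinitePresentation (e i) ∧ Pr (e i)) ∧
      Pairwise (fun i j => Disjoint (Set.range (e i)) (Set.range (e j))) ∧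
      (⋃ i, Set.range (e i)) = Set.univ := by
  classical
  obtain ⟨n, A, ι, hι, hdisj, hcov⟩ := exists_affine_partition S
  -- the affine stratification of each piece
  have key : ∀ j, ∃ F : Finset (Finset (A j) × (A j)),
      (∀ k ∈ F, Pr (pieceι k.1 k.2 ≫ ι j)) ∧
      (∀ k ∈ F, ∀ l ∈ F, k ≠ l → ∀ p : PrimeSpectrum (A j),
        ¬ (Mem k.1 k.2 p.asIdeal ∧ Mem l.1 l.2 p.asIdeal)) ∧
      ∀ p : PrimeSpectrum (A j), ∃ k ∈ F, Mem k.1 k.2 p.asIdeal := by
    intro j
    apply exists_finite_partition (fun t g => Pr (pieceι t g ≫ ι j))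
    · intro t t' g g' ht hg h
      obtain ⟨θ, hθ⟩ := pieceι_refine (B := A j) ht hg
      rw [← hθ, Category.assoc]
      exact hmono _ _ h
    · intro p
      obtain ⟨T, a, ha, hPa, σ, hσ⟩ := hloc (ι j p)
      exact exists_piece_of_local Pr hmono (ι j) p a hPa σ hσ
  choose F hF1 hF2 hF3 using key
  let Idx := Σ j : Fin n, ↥(F j)
  let eq : Idx ≃ Fin (Fintype.card Idx) := Fintype.equivFin Idx
  let T' : Idx → Scheme.{u} := fun x => Spec (CommRingCat.of (R x.2.1.1 x.2.1.2))
  let e' : ∀ x : Idx, T' x ⟶ S := fun x => pieceι x.2.1.1 x.2.1.2 ≫ ι x.1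
  have hprop : ∀ x : Idx, IsAffine (T' x) ∧ IsImmersion (e' x) ∧ QuasiCompact (e' x) ∧
      LocallyOfFinitePresentation (e' x) ∧ Pr (e' x) := by
    intro x
    haveI := (hι x.1).1
    haveI := (hι x.1).2
    exact ⟨inferInstance, inferInstance, inferInstance, inferInstance, hF1 x.1 x.2.1 x.2.2⟩
  have hrange : ∀ x : Idx, Set.range (e' x) ⊆ Set.range (ι x.1) := by
    rintro x _ ⟨z, rfl⟩
    exact ⟨pieceι x.2.1.1 x.2.1.2 z, rfl⟩
  have hdisj' : ∀ x y : Idx, x ≠ y → Disjoint (Set.range (e' x)) (Set.range (e' y)) := by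
    intro x y hxy
    by_cases hj : x.1 = y.1
    · obtain ⟨j, k⟩ := x
      obtain ⟨j', l⟩ := y
      simp only at hj
      subst hj
      have hkl : k.1 ≠ l.1 := by
        intro h
        apply hxy
        rw [Subtype.ext h]
      rw [Set.disjoint_left]
      rintro _ ⟨z, rfl⟩ ⟨z', hz'⟩
      haveI := (hι j).1
      have hinj : Function.Injective (ι j) := (ι j).isEmbedding.injective
      have hzz' : pieceι l.1.1 l.1.2 z' = pieceι k.1.1 k.1.2 z := by
        apply hinj
        exact hz'
      refine hF2 j k.1 k.2 l.1 l.2 hkl (pieceι k.1.1 k.1.2 z) ⟨?_, ?_⟩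
      · exact mem_range_pieceι.mp ⟨z, rfl⟩
      · exact mem_range_pieceι.mp ⟨z', hzz'⟩
    · exact (hdisj hj).mono (hrange x) (hrange y)
  have hcov' : ∀ s : S, ∃ x : Idx, s ∈ Set.range (e' x) := by
    intro s
    have := Set.eq_univ_iff_forall.mp hcov s
    obtain ⟨j, p, rfl⟩ := Set.mem_iUnion.mp this
    obtain ⟨k, hk, hpk⟩ := hF3 j p
    obtain ⟨z, hz⟩ := mem_range_pieceι.mpr hpk
    refine ⟨⟨j, ⟨k, hk⟩⟩, z, ?_⟩
    show ι j (pieceι k.1 k.2 z) = ι j p
    rw [hz]
  refine ⟨Fintype.card Idx, fun i => T' (eq.symm i), fun i => e' (eq.symm i),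
    fun i => hprop _, ?_, ?_⟩
  · intro i j hij
    exact hdisj' _ _ (fun h => hij (eq.symm.injective h))
  · rw [Set.eq_univ_iff_forall]
    intro s
    obtain ⟨x, hx⟩ := hcov' s
    refine Set.mem_iUnion.mpr ⟨eq x, ?_⟩
    have hgen : ∀ y : Idx, y = x → s ∈ Set.range (e' y) := by
      rintro y rfl
      exact hx
    exact hgen _ (eq.symm_apply_apply x)

end Groth.Agent.Lib.Helper12.StratSch
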