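import Mathlib
import Groth.Agent.Lib.Helper12.ConsPairGen
import Groth.Agent.Lib.Helper12.LimPb
import Groth.Agent.Lib.Helper12.LimCI
import Groth.Agent.S12442
import Groth.Agent.S4804
import Groth.Agent.S0025
import Groth.Agent.Lib.Helper3.QProj

/-!
# Descent of properness through limits with Noetherian stages, and the pair property

Properness descends through a cofiltered limit whose stages are Noetherian (via Chow's lemma,
descent of separatedness and descent of closed immersions).  The generic theorem on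
ind-constructibility of pair properties is restated with descent only required along systems
with Noetherian stages.
-/

set_option autoImplicit false
universe u
open CategoryTheory CategoryTheory.Limits AlgebraicGeometry

namespace Groth.Agent.Lib.Helper12.ConsPairGen

open Groth.Agent.Lib.Helper12.PbDiag

/-- Closed immersions descend through limits. -/
theorem descendsLim_isClosedImmersion : DescendsLim @IsClosedImmersion := by
  intro I _ _ D c hc _ i₀ _ _ X₀ Y₀ f₀ g₀ _ _ _ _ _ _ X Y f g qY qX hY hX hf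
  haveI hD : ∀ {i j : I} (f : i ⟶ j), IsAffineHom (D.map f) := fun f => inferInstance
  haveI : LocallyOfFinitePresentation f₀ := Groth.Agent.S12442.result f₀ g₀
  haveI : ∀ j, LocallyOfFiniteType ((LimData.ofPb D c hc i₀ f₀ g₀ f g qY qX hY hX).F.app j) :=
    fun j => MorphismProperty.of_isPullback (P := @LocallyOfFiniteType)
      (isPullback_pbMap_app D i₀ g₀ f₀ j) inferInstance
  exact LimData.exists_stage D i₀ f₀ g₀ @IsClosedImmersion
    ((LimData.ofPb D c hc i₀ f₀ g₀ f g qY qX hY hX).exists_isClosedImmersion hf)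

/-- Descent of a property of morphisms through cofiltered limits with Noetherian stages. -/
def DescendsLimNoeth (Q : MorphismProperty Scheme.{u}) : Prop :=
  ∀ {I : Type u} [SmallCategory I] [IsCofiltered I] (D : I ⥤ Scheme.{u}) (c : Cone D)
    (_ : IsLimit c) [∀ (i j : I) (f : i ⟶ j), IsAffineHom (D.map f)]
    [∀ i, IsNoetherian (D.obj i)] (i₀ : I)
    [CompactSpace (D.obj i₀)] [QuasiSeparatedSpace (D.obj i₀)] {X₀ Y₀ : Scheme.{u}}
    (f₀ : X₀ ⟶ Y₀) (g₀ : Y₀ ⟶ D.obj i₀)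
    [LocallyOfFinitePresentation g₀] [QuasiCompact g₀] [QuasiSeparated g₀]
    [LocallyOfFinitePresentation (f₀ ≫ g₀)] [QuasiCompact (f₀ ≫ g₀)] [QuasiSeparated (f₀ ≫ g₀)]
    {X Y : Scheme.{u}} (f : X ⟶ Y) (g : Y ⟶ c.pt) (qY : Y ⟶ Y₀) (qX : X ⟶ X₀)
    (_ : IsPullback qY g g₀ (c.π.app i₀)) (_ : IsPullback qX f f₀ qY), Q f →
    ∃ (i : I) (φ : i ⟶ i₀) (Xi Yi : Scheme.{u}) (fi : Xi ⟶ Yi) (gi : Yi ⟶ D.obj i)
      (pY : Yi ⟶ Y₀) (pX : Xi ⟶ X₀),
      IsPullback pY gi g₀ (D.map φ) ∧ IsPullback pX fi f₀ pY ∧ Q fi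

theorem DescendsLim.noeth {Q : MorphismProperty Scheme.{u}} (h : DescendsLim Q) :
    DescendsLimNoeth Q := by
  intro I _ _ D c hc _ _ i₀ _ _ X₀ Y₀ f₀ g₀ _ _ _ _ _ _ X Y f g qY qX hY hX hf
  exact h D c hc i₀ f₀ g₀ f g qY qX hY hX hf

variable {Q : MorphismProperty Scheme.{u}}

/-- A `Q`-morphism between the base changes to the limit comes from a stage (Noetherian
stages). -/
theorem HasQHom.exists_stage' [Q.IsStableUnderBaseChange] (hQ : DescendsLimNoeth Q)
    {S X Y : Scheme.{u}} (u : X ⟶ S) (v : Y ⟶ S)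
    [LocallyOfFinitePresentation u] [QuasiCompact u] [QuasiSeparated u]
    [LocallyOfFinitePresentation v] [QuasiCompact v] [QuasiSeparated v]
    {J : Type u} [SmallCategory J] [IsCofiltered J] (D : J ⥤ Scheme.{u})
    (τ : D ⟶ (Functor.const J).obj S) (c : Cone D) (hc : IsLimit c) [∀ j, IsAffine (D.obj j)]
    [∀ j, IsNoetherian (D.obj j)]
    (j₀ : J) (H : HasQHom Q u v (c.π.app j₀ ≫ τ.app j₀)) : ∃ j, HasQHom Q u v (τ.app j) := by
  haveI : ∀ (i j : J) (f : i ⟶ j), IsAffineHom (D.map f) := fun i j f => inferInstance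
  have H0 : HasQHom Q (pullback.snd u (τ.app j₀)) (pullback.snd v (τ.app j₀)) (c.π.app j₀) :=
    H.to_isPullback (IsPullback.of_hasPullback u _) (IsPullback.of_hasPullback v _)
  obtain ⟨X', Y', gX', gY', eX, eY, hX, hY, g, hg, hQg⟩ := H0
  haveI : CompactSpace ↥(pullback u (τ.app j₀)) :=
    QuasiCompact.compactSpace_of_compactSpace (pullback.snd u (τ.app j₀))
  haveI : QuasiSeparatedSpace ↥(pullback u (τ.app j₀)) :=
    quasiSeparatedSpace_of_quasiSeparated (pullback.snd u (τ.app j₀))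
  haveI : CompactSpace ↥(pullback v (τ.app j₀)) :=
    QuasiCompact.compactSpace_of_compactSpace (pullback.snd v (τ.app j₀))
  haveI : QuasiSeparatedSpace ↥(pullback v (τ.app j₀)) :=
    quasiSeparatedSpace_of_quasiSeparated (pullback.snd v (τ.app j₀))
  obtain ⟨j, φ, fj, sX, sY, h1, h2, h3, h4, h5, h6⟩ := Groth.Agent.S9218.result D c hc j₀
    (pullback.snd u (τ.app j₀)) (pullback.snd v (τ.app j₀)) eX gX' hX eY gY' hY g hg
  have hYj : IsPullback sY gY' (pullback.snd (pullback.snd v (τ.app j₀)) (D.map φ))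
      (c.π.app j) := by
    refine IsPullback.of_right ?_ h5 (IsPullback.of_hasPullback _ (D.map φ))
    rw [h4, c.w]
    exact hY
  have hXj' : IsPullback sX gX' (pullback.snd (pullback.snd u (τ.app j₀)) (D.map φ))
      (c.π.app j) := by
    refine IsPullback.of_right ?_ h3 (IsPullback.of_hasPullback _ (D.map φ))
    rw [h2, c.w]
    exact hX
  have hXj : IsPullback sX g fj sY := by
    refine IsPullback.of_bot ?_ h6 hYj
    rw [hg, h1]
    exact hXj'
  haveI : LocallyOfFinitePresentation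
      (fj ≫ pullback.snd (pullback.snd v (τ.app j₀)) (D.map φ)) := by rw [h1]; infer_instance
  haveI : QuasiCompact
      (fj ≫ pullback.snd (pullback.snd v (τ.app j₀)) (D.map φ)) := by rw [h1]; infer_instance
  haveI : QuasiSeparated
      (fj ≫ pullback.snd (pullback.snd v (τ.app j₀)) (D.map φ)) := by rw [h1]; infer_instance
  obtain ⟨i, φ', Xi, Yi, fi, gi, pY, pX, hpY, hpX, hQi⟩ := hQ D c hc j fj
    (pullback.snd (pullback.snd v (τ.app j₀)) (D.map φ)) g gY' sY sX hYj hXj hQg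
  refine ⟨i, ?_⟩
  have hpX' : IsPullback pX (fi ≫ gi) (pullback.snd (pullback.snd u (τ.app j₀)) (D.map φ))
      (D.map φ') := by
    have := hpX.paste_vert hpY
    rwa [h1] at this
  have Hi : HasQHom Q (pullback.snd (pullback.snd u (τ.app j₀)) (D.map φ))
      (pullback.snd (pullback.snd v (τ.app j₀)) (D.map φ)) (D.map φ') :=
    ⟨Xi, Yi, fi ≫ gi, gi, pX, pY, hpX', hpY, fi, rfl, hQi⟩
  have Hi2 : HasQHom Q (pullback.snd u (τ.app j₀)) (pullback.snd v (τ.app j₀))
      (D.map φ' ≫ D.map φ) :=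
    Hi.of_isPullback (IsPullback.of_hasPullback _ _) (IsPullback.of_hasPullback _ _)
  have Hi3 : HasQHom Q u v ((D.map φ' ≫ D.map φ) ≫ τ.app j₀) :=
    Hi2.of_isPullback (IsPullback.of_hasPullback _ _) (IsPullback.of_hasPullback _ _)
  refine Hi3.of_eq ?_
  rw [← D.map_comp]
  simpa using τ.naturality (φ' ≫ φ)

/-- Main theorem with descent only required along systems with Noetherian stages. -/
theorem isIndConsPair' (Q : MorphismProperty Scheme.{u}) [Q.IsStableUnderBaseChange]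
    (hQ : DescendsLimNoeth Q) : ConsPropPair.IsIndConsPair (PairProp Q) := by
  refine ⟨isFieldStablePair Q, ?_⟩
  intro X Y S u v _ _ _ _ _ _ hgen
  haveI : IsLocallyNoetherian X := LocallyOfFiniteType.isLocallyNoetherian u
  haveI : IsLocallyNoetherian Y := LocallyOfFiniteType.isLocallyNoetherian v
  change PairProp Q (u.fiberToSpecResidueField (genericPoint S))
    (v.fiberToSpecResidueField (genericPoint S)) at hgen
  rw [pairProp_iff] at hgen
  obtain ⟨T', h, hint, hsub, H⟩ := hgen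
  have H1 : HasQHom Q u v (h ≫ S.fromSpecResidueField (genericPoint S)) :=
    H.of_isPullback (IsPullback.of_hasPullback u _) (IsPullback.of_hasPullback v _)
  obtain ⟨_, ⟨S₁, hS₁, rfl⟩, hηS₁, -⟩ := S.isBasis_affineOpens.exists_subset_of_mem_open
    (Set.mem_univ (genericPoint S)) isOpen_univ
  have ht : ∀ x : T', (h ≫ S.fromSpecResidueField (genericPoint S)) x = genericPoint S := by
    intro x
    rw [Scheme.Hom.comp_apply, Scheme.fromSpecResidueField_apply]
  have e : (⊤ : T'.Opens) ≤ (h ≫ S.fromSpecResidueField (genericPoint S)) ⁻¹ᵁ S₁ := by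
    intro x _
    show (h ≫ S.fromSpecResidueField (genericPoint S)) x ∈ S₁
    rw [ht]
    exact hηS₁
  obtain ⟨J, _, _, 𝔇, τ, π, hπ, h1, h2, h3⟩ := FpLimit.exists_limit_of_affineOpen
    (h ≫ S.fromSpecResidueField (genericPoint S)) S₁ hS₁ ⊤ (isAffineOpen_top T') e
  obtain ⟨j₀⟩ := IsCofiltered.nonempty (C := J)
  have H2 : HasQHom Q u v ((Cone.mk _ π).π.app j₀ ≫ τ.app j₀) := by
    have := H1.comp (⊤ : T'.Opens).ι
    rwa [← h3 j₀] at this
  haveI := h1
  haveI : ∀ j, IsNoetherian (𝔇.obj j) := fun j => by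
    haveI := h2 j
    haveI : IsLocallyNoetherian (𝔇.obj j) :=
      LocallyOfFiniteType.isLocallyNoetherian (show 𝔇.obj j ⟶ S from τ.app j)
    exact ⟨⟩
  obtain ⟨j, Hj⟩ := HasQHom.exists_stage' hQ u v 𝔇 τ _ hπ j₀ H2
  obtain ⟨x⟩ : Nonempty T' := inferInstance
  obtain ⟨a, ha⟩ : ∃ a : 𝔇.obj j ⟶ S, a = τ.app j := ⟨_, rfl⟩
  rw [← ha] at Hj
  have hξ : a ((π.app j) ⟨x, trivial⟩) = genericPoint S := by
    rw [ha, ← Scheme.Hom.comp_apply, h3 j, Scheme.Hom.comp_apply, ht]
  haveI : LocallyOfFinitePresentation a := ha ▸ h2 j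
  obtain ⟨V, hV1, hV2⟩ := GenericImage.exists_open_inter_closure_subset_image a
    ((π.app j) ⟨x, trivial⟩)
  rw [hξ] at hV1 hV2
  refine ⟨genericPoint S, mem_interior.mpr ⟨(V : Set S), ?_, V.2, hV1⟩⟩
  intro s hs
  obtain ⟨w, -, rfl⟩ := hV2 s hs (genericPoint_specializes s)
  show PairProp Q (u.fiberToSpecResidueField _) (v.fiberToSpecResidueField _)
  rw [pairProp_iff]
  refine ⟨Spec ((𝔇.obj j).residueField w), Spec.map (a.residueFieldMap w),
    inferInstance, inferInstance, ?_⟩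
  apply HasQHom.to_isPullback (IsPullback.of_hasPullback u _) (IsPullback.of_hasPullback v _)
  rw [Scheme.Hom.SpecMap_residueFieldMap_fromSpecResidueField]
  exact Hj.comp _

instance isProper_projSpaceOver_toBase (n : ℕ) (S : Scheme.{u}) :
    IsProper (CohB1.ProjSpaceOver.toBase n S) := by
  unfold CohB1.ProjSpaceOver.toBase
  exact MorphismProperty.pullback_snd (P := @IsProper) _ _
    (Groth.Agent.Lib.Helper3.QProj.isProper_toSpec _ n)

/-- Core of the descent of properness: the case where `f₀` is already separated. -/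
theorem descend_isProper_core {I : Type u} [SmallCategory I] [IsCofiltered I] (D : I ⥤ Scheme.{u})
    (c : Cone D) (hc : IsLimit c) [∀ (i j : I) (f : i ⟶ j), IsAffineHom (D.map f)]
    [∀ i, IsNoetherian (D.obj i)] (i₀ : I) {X₀ Y₀ : Scheme.{u}}
    (f₀ : X₀ ⟶ Y₀) (g₀ : Y₀ ⟶ D.obj i₀)
    [LocallyOfFinitePresentation g₀] [QuasiCompact g₀] [QuasiSeparated g₀]
    [LocallyOfFinitePresentation (f₀ ≫ g₀)] [QuasiCompact (f₀ ≫ g₀)] [QuasiSeparated (f₀ ≫ g₀)]
    [IsSeparated f₀]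
    {X Y : Scheme.{u}} (f : X ⟶ Y) (g : Y ⟶ c.pt) (qY : Y ⟶ Y₀) (qX : X ⟶ X₀)
    (hY : IsPullback qY g g₀ (c.π.app i₀)) (hX : IsPullback qX f f₀ qY) [IsProper f] :
    ∃ (i : I) (φ : i ⟶ i₀) (Xi Yi : Scheme.{u}) (fi : Xi ⟶ Yi) (gi : Yi ⟶ D.obj i)
      (pY : Yi ⟶ Y₀) (pX : Xi ⟶ X₀),
      IsPullback pY gi g₀ (D.map φ) ∧ IsPullback pX fi f₀ pY ∧ IsProper fi := by
  haveI : IsLocallyNoetherian Y₀ := LocallyOfFiniteType.isLocallyNoetherian g₀
  haveI : CompactSpace Y₀ := QuasiCompact.compactSpace_of_compactSpace g₀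
  haveI : IsNoetherian Y₀ := ⟨⟩
  haveI : IsLocallyNoetherian X₀ := LocallyOfFiniteType.isLocallyNoetherian (f₀ ≫ g₀)
  haveI : LocallyOfFiniteType f₀ := locallyOfFiniteType_of_comp f₀ g₀
  haveI : QuasiCompact f₀ := QuasiCompact.of_comp f₀ g₀
  obtain ⟨n, X', π, jm, hjm, hcomp, hπ, hsurj, -⟩ := Groth.Agent.S0025.result f₀
  haveI := hjm
  haveI := hπ
  haveI := hsurj
  obtain ⟨tb, htb⟩ : ∃ tb : CohB1.ProjSpaceOver n Y₀ ⟶ Y₀, tb = CohB1.ProjSpaceOver.toBase n Y₀ :=
    ⟨_, rfl⟩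
  rw [← htb] at hcomp
  haveI : IsProper tb := htb ▸ inferInstance
  -- the limit level
  have hw : (pullback.fst π qX ≫ jm) ≫ tb = (pullback.snd π qX ≫ f) ≫ qY := by
    rw [Category.assoc, hcomp, pullback.condition_assoc, hX.w, Category.assoc]
  have hY' : IsPullback (pullback.fst tb qY) (pullback.snd tb qY ≫ g) (tb ≫ g₀) (c.π.app i₀) :=
    (IsPullback.of_hasPullback tb qY).paste_vert hY
  have hX' : IsPullback (pullback.fst π qX)
      (pullback.lift (pullback.fst π qX ≫ jm) (pullback.snd π qX ≫ f) hw) jm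
      (pullback.fst tb qY) := by
    refine IsPullback.of_bot ?_ (pullback.lift_fst _ _ _).symm (IsPullback.of_hasPullback tb qY)
    rw [pullback.lift_snd, hcomp]
    exact (IsPullback.of_hasPullback π qX).paste_vert hX
  haveI : IsImmersion (pullback.lift (pullback.fst π qX ≫ jm) (pullback.snd π qX ≫ f) hw) :=
    MorphismProperty.of_isPullback hX' hjm
  haveI : IsProper (pullback.lift (pullback.fst π qX ≫ jm) (pullback.snd π qX ≫ f) hw ≫
      pullback.snd tb qY) := by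
    rw [pullback.lift_snd]
    infer_instance
  haveI : IsProper (pullback.lift (pullback.fst π qX ≫ jm) (pullback.snd π qX ≫ f) hw) :=
    IsProper.of_comp _ (pullback.snd tb qY)
  have hci : IsClosedImmersion
      (pullback.lift (pullback.fst π qX ≫ jm) (pullback.snd π qX ≫ f) hw) :=
    IsClosedImmersion.of_isPreimmersion _
      (Scheme.Hom.isClosedMap _).isClosed_range
  -- finite presentation instances
  haveI : LocallyOfFinitePresentation tb := inferInstance
  haveI : LocallyOfFinitePresentation π := inferInstance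
  haveI : LocallyOfFinitePresentation (jm ≫ tb ≫ g₀) := by
    rw [reassoc_of% hcomp]; infer_instance
  haveI : QuasiCompact (jm ≫ tb ≫ g₀) := by
    rw [reassoc_of% hcomp]; infer_instance
  haveI : QuasiSeparated (jm ≫ tb ≫ g₀) := by
    rw [reassoc_of% hcomp]; infer_instance
  obtain ⟨i, φ, Xi', Yi', fi', gi', pY', pX', hpY', hpX', hci'⟩ :=
    descendsLim_isClosedImmersion D c hc i₀ jm (tb ≫ g₀) _ (pullback.snd tb qY ≫ g)
      (pullback.fst tb qY) (pullback.fst π qX) hY' hX' hci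
  haveI := hci'
  -- the stage `i`
  have hwi : (pullback.fst (f₀ ≫ g₀) (D.map φ) ≫ f₀) ≫ g₀ =
      pullback.snd (f₀ ≫ g₀) (D.map φ) ≫ D.map φ := by
    rw [Category.assoc]; exact pullback.condition
  have hfi : IsPullback (pullback.fst (f₀ ≫ g₀) (D.map φ))
      (pullback.lift (pullback.fst (f₀ ≫ g₀) (D.map φ) ≫ f₀)
        (pullback.snd (f₀ ≫ g₀) (D.map φ)) hwi) f₀ (pullback.fst g₀ (D.map φ)) := by
    refine IsPullback.of_bot ?_ (pullback.lift_fst _ _ _).symm
      (IsPullback.of_hasPullback g₀ (D.map φ))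
    rw [pullback.lift_snd]
    exact IsPullback.of_hasPullback (f₀ ≫ g₀) (D.map φ)
  refine ⟨i, φ, pullback (f₀ ≫ g₀) (D.map φ), pullback g₀ (D.map φ), _,
    pullback.snd g₀ (D.map φ), pullback.fst g₀ (D.map φ), pullback.fst (f₀ ≫ g₀) (D.map φ),
    IsPullback.of_hasPullback _ _, hfi, ?_⟩
  -- `b : Yi' ⟶ Yi`
  have hwb : (pY' ≫ tb) ≫ g₀ = gi' ≫ D.map φ := by
    rw [Category.assoc]; exact hpY'.w
  have hb : IsPullback pY' (pullback.lift (pY' ≫ tb) gi' hwb) tb (pullback.fst g₀ (D.map φ)) := by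
    refine IsPullback.of_bot ?_ (pullback.lift_fst _ _ _).symm
      (IsPullback.of_hasPullback g₀ (D.map φ))
    rw [pullback.lift_snd]
    exact hpY'
  haveI : IsProper (pullback.lift (pY' ≫ tb) gi' hwb) :=
    MorphismProperty.of_isPullback hb inferInstance
  -- `πi : Xi' ⟶ Xi`
  have hwπ : (pX' ≫ π) ≫ f₀ ≫ g₀ = (fi' ≫ gi') ≫ D.map φ := by
    rw [Category.assoc, ← reassoc_of% hcomp, reassoc_of% hpX'.w, hpY'.w, Category.assoc]
  have hπi : IsPullback pX' (pullback.lift (pX' ≫ π) (fi' ≫ gi') hwπ) π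
      (pullback.fst (f₀ ≫ g₀) (D.map φ)) := by
    refine IsPullback.of_bot ?_ (pullback.lift_fst _ _ _).symm
      (IsPullback.of_hasPullback (f₀ ≫ g₀) (D.map φ))
    rw [pullback.lift_snd, ← reassoc_of% hcomp]
    exact hpX'.paste_vert hpY'
  haveI : Surjective (pullback.lift (pX' ≫ π) (fi' ≫ gi') hwπ) :=
    MorphismProperty.of_isPullback hπi hsurj
  have hcomm : pullback.lift (pX' ≫ π) (fi' ≫ gi') hwπ ≫
      pullback.lift (pullback.fst (f₀ ≫ g₀) (D.map φ) ≫ f₀)
        (pullback.snd (f₀ ≫ g₀) (D.map φ)) hwi = fi' ≫ pullback.lift (pY' ≫ tb) gi' hwb := by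
    apply pullback.hom_ext
    · simp only [Category.assoc, pullback.lift_fst, pullback.lift_fst_assoc]
      rw [← hcomp, reassoc_of% hpX'.w]
    · simp only [Category.assoc, pullback.lift_snd]
  haveI : IsProper (pullback.lift (pX' ≫ π) (fi' ≫ gi') hwπ ≫
      pullback.lift (pullback.fst (f₀ ≫ g₀) (D.map φ) ≫ f₀)
        (pullback.snd (f₀ ≫ g₀) (D.map φ)) hwi) := by
    rw [hcomm]; infer_instance
  haveI : UniversallyClosed (pullback.lift (pullback.fst (f₀ ≫ g₀) (D.map φ) ≫ f₀)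
        (pullback.snd (f₀ ≫ g₀) (D.map φ)) hwi) :=
    UniversallyClosed.of_comp_surjective (pullback.lift (pX' ≫ π) (fi' ≫ gi') hwπ) _
  haveI : IsSeparated (pullback.lift (pullback.fst (f₀ ≫ g₀) (D.map φ) ≫ f₀)
        (pullback.snd (f₀ ≫ g₀) (D.map φ)) hwi) :=
    MorphismProperty.of_isPullback hfi inferInstance
  haveI : LocallyOfFiniteType (pullback.lift (pullback.fst (f₀ ≫ g₀) (D.map φ) ≫ f₀)
        (pullback.snd (f₀ ≫ g₀) (D.map φ)) hwi) :=
    MorphismProperty.of_isPullback hfi inferInstance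
  exact ⟨⟩

/-- Properness descends through cofiltered limits with Noetherian stages. -/
theorem descendsLimNoeth_isProper : DescendsLimNoeth @IsProper := by
  intro I _ _ D c hc _ hN i₀ _ _ X₀ Y₀ f₀ g₀ _ _ _ _ _ _ X Y f g qY qX hY hX hf
  haveI : IsProper f := hf
  haveI : CompactSpace Y₀ := QuasiCompact.compactSpace_of_compactSpace g₀
  haveI : LocallyOfFiniteType f₀ := locallyOfFiniteType_of_comp f₀ g₀
  haveI : QuasiCompact f₀ := QuasiCompact.of_comp f₀ g₀
  haveI : QuasiSeparated f₀ := QuasiSeparated.of_comp f₀ g₀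
  obtain ⟨i₁, φ₁, X₁, Y₁, f₁, g₁, pY₁, pX₁, hpY₁, hpX₁, hsep⟩ :=
    (Groth.Agent.S4804.result D c hc i₀ f₀ g₀ f g qY qX hY hX).mp inferInstance
  haveI := hsep
  have hwY : qY ≫ g₀ = (g ≫ c.π.app i₁) ≫ D.map φ₁ := by
    rw [hY.w, Category.assoc, c.w]
  have hsY : IsPullback (hpY₁.lift qY (g ≫ c.π.app i₁) hwY) g g₁ (c.π.app i₁) := by
    refine IsPullback.of_right ?_ (hpY₁.lift_snd _ _ _) hpY₁
    rw [hpY₁.lift_fst, c.w]
    exact hY
  have hwX : qX ≫ f₀ = (f ≫ hpY₁.lift qY (g ≫ c.π.app i₁) hwY) ≫ pY₁ := by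
    rw [hX.w, Category.assoc, hpY₁.lift_fst]
  have hsX : IsPullback (hpX₁.lift qX (f ≫ hpY₁.lift qY (g ≫ c.π.app i₁) hwY) hwX) f f₁
      (hpY₁.lift qY (g ≫ c.π.app i₁) hwY) := by
    refine IsPullback.of_right ?_ (hpX₁.lift_snd _ _ _) hpX₁
    rw [hpX₁.lift_fst, hpY₁.lift_fst]
    exact hX
  haveI : LocallyOfFinitePresentation g₁ := MorphismProperty.of_isPullback hpY₁ inferInstance
  haveI : QuasiCompact g₁ := MorphismProperty.of_isPullback hpY₁ inferInstance
  haveI : QuasiSeparated g₁ := MorphismProperty.of_isPullback hpY₁ inferInstance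
  have hpXY := hpX₁.paste_vert hpY₁
  haveI : LocallyOfFinitePresentation (f₁ ≫ g₁) :=
    MorphismProperty.of_isPullback hpXY inferInstance
  haveI : QuasiCompact (f₁ ≫ g₁) := MorphismProperty.of_isPullback hpXY inferInstance
  haveI : QuasiSeparated (f₁ ≫ g₁) := MorphismProperty.of_isPullback hpXY inferInstance
  obtain ⟨i, φ, Xi, Yi, fi, gi, pY, pX, h1, h2, h3⟩ :=
    descend_isProper_core D c hc i₁ f₁ g₁ f g _ _ hsY hsX
  refine ⟨i, φ ≫ φ₁, Xi, Yi, fi, gi, pY ≫ pY₁, pX ≫ pX₁, ?_, h2.paste_horiz hpX₁, h3⟩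
  rw [D.map_comp]
  exact h1.paste_horiz hpY₁

end Groth.Agent.Lib.Helper12.ConsPairGen
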