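import Mathlib
import Groth.Agent.Lib.Helper12.LimCI

/-!
# Closed immersions into a limit are closed immersions into a stage
-/

universe u

open CategoryTheory Limits AlgebraicGeometry

namespace Groth.Agent.Lib.Helper12.LimCIStage

set_option backward.isDefEq.respectTransparency false

/-- Generators of a finite type algebra, phrased with subrings. -/
lemma exists_finset_subring {A B : Type u} [CommRing A] [CommRing B] (φ : A →+* B)
    (hφ : φ.FiniteType) :
    ∃ T : Finset B, ∀ R : Subring B, (∀ a, φ a ∈ R) → (T : Set B) ⊆ (R : Set B) → R = ⊤ := by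
  letI := φ.toAlgebra
  obtain ⟨T, hT⟩ := (Algebra.FiniteType.out (self := hφ) : (⊤ : Subalgebra A B).FG)
  refine ⟨T, ?_⟩
  intro R hR hTR
  let R' : Subalgebra A B := { R.toSubsemiring with algebraMap_mem' := hR }
  have h0 : (T : Set B) ⊆ (R' : Set B) := fun x hx => hTR hx
  have h1 : R' = ⊤ := top_le_iff.mp (hT ▸ Algebra.adjoin_le h0)
  refine top_le_iff.mp fun x _ => ?_
  have : x ∈ R' := h1 ▸ Algebra.mem_top
  exact this

variable {J : Type u} [SmallCategory J] [IsCofiltered J] (D : J ⥤ Scheme.{u}) (c : Cone D)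
  (hc : IsLimit c)

include hc in
/-- Affine core: a closed immersion into a limit of affine schemes over an affine base, of finite
type over the base, is a closed immersion into a stage. -/
theorem exists_isClosedImmersion_of_isAffine [∀ j, IsAffine (D.obj j)]
    (V : Scheme.{u}) [IsAffine V] (t : ∀ j, D.obj j ⟶ V)
    (ht : ∀ {j k : J} (a : j ⟶ k), D.map a ≫ t k = t j)
    {Y : Scheme.{u}} (h : Y ⟶ c.pt) [IsClosedImmersion h] (j₀ : J)
    [LocallyOfFiniteType (h ≫ c.π.app j₀ ≫ t j₀)] :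
    ∃ j, IsClosedImmersion (h ≫ c.π.app j) := by
  classical
  haveI : ∀ {i j : J} (f : i ⟶ j), IsAffineHom (D.map f) := fun f => isAffineHom_of_isAffine _
  haveI : IsAffine c.pt := Scheme.isAffine_of_isLimit _ hc
  obtain ⟨hYaff, hsurj⟩ := IsClosedImmersion.isAffine_surjective_of_isAffine h
  haveI := hYaff
  have hft : (h ≫ c.π.app j₀ ≫ t j₀).appTop.hom.FiniteType :=
    (HasRingHomProperty.iff_of_isAffine (P := @LocallyOfFiniteType)).mp inferInstance
  obtain ⟨T, hgen⟩ := exists_finset_subring _ hft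
  have h1 : ∀ x : T, ∃ (j : J) (z : Γ(D.obj j, ⊤)),
      h.appTop ((c.π.app j).appTop z) = x.1 := by
    intro x
    obtain ⟨z, hz⟩ := hsurj x.1
    obtain ⟨j, z', hz'⟩ := exists_appTop_π_eq_of_isLimit D c hc z
    exact ⟨j, z', by rw [← hz', hz]⟩
  choose jx z hz using h1
  obtain ⟨j₁, hj₁⟩ := IsCofiltered.inf_objs_exists (insert j₀ (Finset.univ.image jx))
  have a₀ : j₁ ⟶ j₀ := (hj₁ (Finset.mem_insert_self _ _)).some
  have ax : ∀ x : T, j₁ ⟶ jx x := fun x =>
    (hj₁ (Finset.mem_insert_of_mem (Finset.mem_image_of_mem _ (Finset.mem_univ x)))).some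
  refine ⟨j₁, ?_⟩
  haveI : IsAffine (D.obj j₁) := inferInstance
  refine IsClosedImmersion.of_surjective_of_isAffine _ ?_
  have hR : (h ≫ c.π.app j₁).appTop.hom.range = ⊤ := by
    refine hgen _ ?_ ?_
    · intro b
      refine ⟨(t j₁).appTop b, ?_⟩
      have e1 : c.π.app j₁ ≫ t j₁ = c.π.app j₀ ≫ t j₀ := by
        rw [← ht a₀, c.w_assoc]
      have e2 : (h ≫ c.π.app j₁) ≫ t j₁ = h ≫ c.π.app j₀ ≫ t j₀ := by
        rw [Category.assoc, e1]
      rw [← e2]
      exact appTop_appTop (h ≫ c.π.app j₁) (t j₁) b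
    · intro x hx
      refine ⟨(D.map (ax ⟨x, hx⟩)).appTop (z ⟨x, hx⟩), ?_⟩
      have e3 := hz ⟨x, hx⟩
      have e4 := cone_appTop c (ax ⟨x, hx⟩) (z ⟨x, hx⟩)
      rw [← e4] at e3
      refine Eq.trans ?_ e3
      exact (appTop_appTop h (c.π.app j₁) _).symm
  intro y
  have : y ∈ (h ≫ c.π.app j₁).appTop.hom.range := by rw [hR]; trivial
  exact this

include hc in
/-- Chart version: over an affine open `U` of a stage mapping into an affine open `V` of the
base, the restriction of `h` becomes a closed immersion at all sufficiently small stages. -/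
theorem exists_isClosedImmersion_chart [∀ {i j : J} (f : i ⟶ j), IsAffineHom (D.map f)]
    (S : Scheme.{u}) (t : ∀ j, D.obj j ⟶ S)
    (ht : ∀ {j k : J} (a : j ⟶ k), D.map a ≫ t k = t j)
    {Y : Scheme.{u}} (h : Y ⟶ c.pt) [IsClosedImmersion h] (j₀ : J)
    [LocallyOfFiniteType (h ≫ c.π.app j₀ ≫ t j₀)]
    (U : (D.obj j₀).Opens) (hU : IsAffineOpen U) (V : S.Opens) (hV : IsAffineOpen V)
    (hUV : U ≤ t j₀ ⁻¹ᵁ V) :
    ∃ k : Over j₀, ∀ (k' : Over j₀) (_ : k' ⟶ k),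
      IsClosedImmersion ((h ≫ c.π.app k'.left) ∣_ (D.map k'.hom ⁻¹ᵁ U)) := by
  haveI : IsAffine V := hV
  haveI : ∀ k : Over j₀, IsAffine ((opensDiagram D j₀ U).obj k) :=
    fun k => hU.preimage (D.map k.hom)
  have hle : ∀ k : Over j₀, D.map k.hom ⁻¹ᵁ U ≤ t k.left ⁻¹ᵁ V := by
    intro k
    rw [← ht k.hom, Scheme.Hom.comp_preimage]
    exact (Scheme.Hom.preimage_mono _ hUV)
  let t' : ∀ k : Over j₀, (opensDiagram D j₀ U).obj k ⟶ V :=
    fun k => (t k.left).resLE V (D.map k.hom ⁻¹ᵁ U) (hle k)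
  have ht' : ∀ {j k : Over j₀} (a : j ⟶ k), (opensDiagram D j₀ U).map a ≫ t' k = t' j := by
    intro j k a
    refine (Scheme.Hom.resLE_comp_resLE (D.map a.left) _ (t k.left) (hle k)).trans ?_
    congr 1
    exact ht a.left
  let W : c.pt.Opens := c.π.app j₀ ⁻¹ᵁ U
  let h' : (h ⁻¹ᵁ W).toScheme ⟶ (opensCone D c j₀ U).pt := h ∣_ W
  haveI : IsClosedImmersion h' :=
    IsZariskiLocalAtTarget.restrict (P := @IsClosedImmersion) (f := h) inferInstance W
  have e0 : h' ≫ (opensCone D c j₀ U).π.app (Over.mk (𝟙 j₀)) ≫ t' (Over.mk (𝟙 j₀)) =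
      (h ≫ c.π.app j₀ ≫ t j₀).resLE V (h ⁻¹ᵁ W) (by
        rw [Scheme.Hom.comp_preimage, Scheme.Hom.comp_preimage]
        exact Scheme.Hom.preimage_mono _ (Scheme.Hom.preimage_mono _ hUV)) := by
    have a1 : (opensCone D c j₀ U).π.app (Over.mk (𝟙 j₀)) ≫ t' (Over.mk (𝟙 j₀)) =
        (c.π.app j₀ ≫ t j₀).resLE V W (by
          rw [Scheme.Hom.comp_preimage]
          exact Scheme.Hom.preimage_mono _ hUV) :=
      Scheme.Hom.resLE_comp_resLE (c.π.app j₀) _ (t j₀) (hle (Over.mk (𝟙 j₀)))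
    have a2 : h' = h.resLE W (h ⁻¹ᵁ W) le_rfl := (Scheme.Hom.resLE_eq_morphismRestrict h).symm
    rw [a1, a2]
    exact Scheme.Hom.resLE_comp_resLE h _ (c.π.app j₀ ≫ t j₀) _
  haveI : LocallyOfFiniteType
      (h' ≫ (opensCone D c j₀ U).π.app (Over.mk (𝟙 j₀)) ≫ t' (Over.mk (𝟙 j₀))) := by
    rw [e0]
    exact IsZariskiLocalAtSource.resLE _ inferInstance
  obtain ⟨k, hk⟩ := exists_isClosedImmersion_of_isAffine (opensDiagram D j₀ U)
    (opensCone D c j₀ U) (isLimitOpensCone D c hc j₀ U) V t' ht' h' (Over.mk (𝟙 j₀))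
  refine ⟨k, fun k' a => ?_⟩
  have e1 : (h' ≫ (opensCone D c j₀ U).π.app k') ≫ (opensDiagram D j₀ U).map a =
      h' ≫ (opensCone D c j₀ U).π.app k := by
    rw [Category.assoc, (opensCone D c j₀ U).w a]
  haveI : IsClosedImmersion
      ((h' ≫ (opensCone D c j₀ U).π.app k') ≫ (opensDiagram D j₀ U).map a) := by
    rw [e1]; exact hk
  have h2 : IsClosedImmersion (h' ≫ (opensCone D c j₀ U).π.app k') :=
    IsClosedImmersion.of_comp _ ((opensDiagram D j₀ U).map a)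
  have hW : h ⁻¹ᵁ W = (h ≫ c.π.app k'.left) ⁻¹ᵁ (D.map k'.hom ⁻¹ᵁ U) := by
    dsimp only [W]
    rw [Scheme.Hom.comp_preimage, ← Scheme.Hom.comp_preimage (c.π.app k'.left), c.w]
  refine morphismRestrict_of_resLE @IsClosedImmersion (h ≫ c.π.app k'.left)
    (D.map k'.hom ⁻¹ᵁ U) (h ⁻¹ᵁ W) hW ?_
  have e2 : h' ≫ (opensCone D c j₀ U).π.app k' =
      (h ≫ c.π.app k'.left).resLE (D.map k'.hom ⁻¹ᵁ U) (h ⁻¹ᵁ W) hW.le := by
    have a2 : h' = h.resLE W (h ⁻¹ᵁ W) le_rfl := (Scheme.Hom.resLE_eq_morphismRestrict h).symm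
    rw [a2]
    exact Scheme.Hom.resLE_comp_resLE h _ (c.π.app k'.left) _
  rw [← e2]
  exact h2

include hc in
/-- A closed immersion `h : Y ⟶ lim Dⱼ` into a cofiltered limit of quasi-compact schemes over `S`
with affine transition maps, with `Y ⟶ S` locally of finite type, is a closed immersion into a
stage. -/
theorem exists_isClosedImmersion_stage [∀ {i j : J} (f : i ⟶ j), IsAffineHom (D.map f)]
    [∀ j, CompactSpace (D.obj j)]
    (S : Scheme.{u}) (t : ∀ j, D.obj j ⟶ S)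
    (ht : ∀ {j k : J} (a : j ⟶ k), D.map a ≫ t k = t j)
    {Y : Scheme.{u}} (h : Y ⟶ c.pt) [IsClosedImmersion h] (j₀ : J)
    [LocallyOfFiniteType (h ≫ c.π.app j₀ ≫ t j₀)] :
    ∃ j, IsClosedImmersion (h ≫ c.π.app j) := by
  classical
  have h1 : ∀ x : D.obj j₀, ∃ (U : (D.obj j₀).Opens) (V : S.Opens), x ∈ U ∧ IsAffineOpen U ∧
      IsAffineOpen V ∧ U ≤ t j₀ ⁻¹ᵁ V := by
    intro x
    obtain ⟨V, hV, hxV, -⟩ := exists_isAffineOpen_mem_and_subset
      (x := t j₀ x) (U := ⊤) trivial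
    obtain ⟨U, hU, hxU, hUV⟩ := exists_isAffineOpen_mem_and_subset
      (x := x) (U := t j₀ ⁻¹ᵁ V) hxV
    exact ⟨U, V, hxU, hU, hV, hUV⟩
  choose U V hxU hU hV hUV using h1
  have h2 := fun x => exists_isClosedImmersion_chart D c hc S t ht h j₀ (U x) (hU x) (V x) (hV x)
    (hUV x)
  choose k hk using h2
  obtain ⟨s, hs⟩ := CompactSpace.elim_nhds_subcover (fun x => ((U x : (D.obj j₀).Opens) : Set _))
    (fun x => (U x).2.mem_nhds (hxU x))
  obtain ⟨k₁, hk₁⟩ := IsCofiltered.inf_objs_exists (s.image k)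
  refine ⟨k₁.left, ?_⟩
  refine IsZariskiLocalAtTarget.of_iSup_eq_top (P := @IsClosedImmersion)
    (fun x : s => D.map k₁.hom ⁻¹ᵁ U x.1) ?_ ?_
  · rw [← Scheme.Hom.preimage_iSup]
    have : (⨆ x : s, U x.1) = ⊤ := by
      refine top_le_iff.mp fun y _ => ?_
      have hy : y ∈ ⋃ x ∈ s, ((U x : (D.obj j₀).Opens) : Set _) := by rw [hs]; trivial
      simp only [Set.mem_iUnion] at hy
      obtain ⟨x, hx, hy⟩ := hy
      exact TopologicalSpace.Opens.mem_iSup.mpr ⟨⟨x, hx⟩, hy⟩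
    rw [this]; rfl
  · intro x
    exact hk x.1 k₁ (hk₁ (Finset.mem_image_of_mem _ x.2)).some

end Groth.Agent.Lib.Helper12.LimCIStage
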