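import Mathlib
import Groth.Agent.Lib.Helper12.LimCIStage

/-!
# Limits along closed immersions: if the limit is closed in the base, so is a stage
-/

universe u

open CategoryTheory Limits AlgebraicGeometry

namespace Groth.Agent.Lib.Helper12.LimCITrans

open Groth.Agent.Lib.Helper12 Groth.Agent.Lib.Helper12.LimCIStage

set_option backward.isDefEq.respectTransparency false

variable {J : Type u} [SmallCategory J] [IsCofiltered J] (D : J ⥤ Scheme.{u}) (c : Cone D)
  (hc : IsLimit c)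

include hc in
/-- Affine core: closed immersion transitions, affine stage `j₀`, affine base. -/
theorem core_of_isAffine [∀ {i j : J} (f : i ⟶ j), IsClosedImmersion (D.map f)]
    (V : Scheme.{u}) [IsAffine V] (t : ∀ j, D.obj j ⟶ V)
    (ht : ∀ {j k : J} (a : j ⟶ k), D.map a ≫ t k = t j)
    (j₀ : J) [IsAffine (D.obj j₀)] [LocallyOfFiniteType (t j₀)]
    [IsClosedImmersion (c.π.app j₀ ≫ t j₀)] :
    ∃ (j : J) (_ : j ⟶ j₀), IsClosedImmersion (t j) := by
  classical
  haveI : ∀ {i j : J} (f : i ⟶ j), IsAffineHom (D.map f) := fun f => inferInstance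
  obtain ⟨hXaff, hsurj⟩ := IsClosedImmersion.isAffine_surjective_of_isAffine (c.π.app j₀ ≫ t j₀)
  have hft : (t j₀).appTop.hom.FiniteType :=
    (HasRingHomProperty.iff_of_isAffine (P := @LocallyOfFiniteType)).mp inferInstance
  obtain ⟨T, hgen⟩ := exists_finset_subring _ hft
  have h1 : ∀ x : T, ∃ (k : Over j₀) (a : Γ(V, ⊤)),
      (D.map k.hom).appTop x.1 = (t k.left).appTop a := by
    intro x
    obtain ⟨a, ha⟩ := hsurj ((c.π.app j₀).appTop x.1)
    have ha' : (c.π.app j₀).appTop ((t j₀).appTop a) = (c.π.app j₀).appTop x.1 :=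
      (appTop_appTop _ _ _).trans ha
    have hz : (c.π.app j₀).appTop (x.1 - (t j₀).appTop a) = 0 := by
      rw [map_sub, sub_eq_zero, ha']
    obtain ⟨j, f, hj⟩ := exists_appTop_map_eq_zero_of_isLimit D c hc _ hz
    refine ⟨Over.mk f, a, ?_⟩
    rw [map_sub, sub_eq_zero] at hj
    refine hj.trans ?_
    have e := appTop_appTop (D.map f) (t j₀) a
    rw [ht f] at e
    exact e
  choose k a hk using h1
  obtain ⟨k₁, hk₁⟩ := IsCofiltered.inf_objs_exists (Finset.univ.image k)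
  have b : ∀ x : T, k₁ ⟶ k x :=
    fun x => (hk₁ (Finset.mem_image_of_mem _ (Finset.mem_univ x))).some
  refine ⟨k₁.left, k₁.hom, ?_⟩
  obtain ⟨haff₁, hsurj₁⟩ := IsClosedImmersion.isAffine_surjective_of_isAffine (D.map k₁.hom)
  haveI := haff₁
  refine IsClosedImmersion.of_surjective_of_isAffine _ ?_
  have hR' : ((t k₁.left).appTop.hom.range).comap (D.map k₁.hom).appTop.hom = ⊤ := by
    refine hgen _ ?_ ?_
    · intro y
      refine ⟨y, ?_⟩
      have e := appTop_appTop (D.map k₁.hom) (t j₀) y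
      rw [ht k₁.hom] at e
      exact e.symm
    · intro x hx
      refine ⟨a ⟨x, hx⟩, ?_⟩
      have e1 : D.map (b ⟨x, hx⟩).left ≫ D.map (k ⟨x, hx⟩).hom = D.map k₁.hom := by
        rw [← D.map_comp, Over.w]
      have e2 := appTop_appTop (D.map (b ⟨x, hx⟩).left) (D.map (k ⟨x, hx⟩).hom) x
      rw [e1] at e2
      have e3 := appTop_appTop (D.map (b ⟨x, hx⟩).left) (t (k ⟨x, hx⟩).left) (a ⟨x, hx⟩)
      rw [ht] at e3
      refine Eq.trans ?_ (e2)
      rw [hk ⟨x, hx⟩]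
      exact e3.symm
  intro y
  obtain ⟨z, rfl⟩ := hsurj₁ y
  have hz : z ∈ ((t k₁.left).appTop.hom.range).comap (D.map k₁.hom).appTop.hom :=
    hR' ▸ Subring.mem_top z
  exact hz

include hc in
/-- Core with quasi-compact quasi-separated stages over an affine base. -/
theorem core [∀ {i j : J} (f : i ⟶ j), IsClosedImmersion (D.map f)]
    [∀ j, CompactSpace (D.obj j)] [∀ j, QuasiSeparatedSpace (D.obj j)]
    (V : Scheme.{u}) [IsAffine V] (t : ∀ j, D.obj j ⟶ V)
    (ht : ∀ {j k : J} (a : j ⟶ k), D.map a ≫ t k = t j)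
    (j₀ : J) [LocallyOfFiniteType (t j₀)]
    [IsClosedImmersion (c.π.app j₀ ≫ t j₀)] :
    ∃ (j : J) (_ : j ⟶ j₀), IsClosedImmersion (t j) := by
  haveI : ∀ {i j : J} (f : i ⟶ j), IsAffineHom (D.map f) := fun f => inferInstance
  obtain ⟨hXaff, -⟩ := IsClosedImmersion.isAffine_surjective_of_isAffine (c.π.app j₀ ≫ t j₀)
  haveI : IsAffine c.pt := hXaff
  obtain ⟨i, hi⟩ := Scheme.exists_isAffine_of_isLimit D c hc
  haveI := hi
  let j₁ := IsCofiltered.min i j₀
  haveI : IsAffine (D.obj j₁) :=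
    (IsClosedImmersion.isAffine_surjective_of_isAffine (D.map (IsCofiltered.minToLeft i j₀))).1
  haveI : LocallyOfFiniteType (t j₁) := by
    rw [← ht (IsCofiltered.minToRight i j₀)]; infer_instance
  haveI : IsClosedImmersion (c.π.app j₁ ≫ t j₁) := by
    have e : c.π.app j₁ ≫ t j₁ = c.π.app j₀ ≫ t j₀ := by
      rw [← ht (IsCofiltered.minToRight i j₀), c.w_assoc]
    rw [e]; infer_instance
  obtain ⟨j, a, hj⟩ := core_of_isAffine D c hc V t ht j₁
  exact ⟨j, a ≫ IsCofiltered.minToRight i j₀, hj⟩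

lemma resLE_of_eq (P : MorphismProperty Scheme.{u}) [IsZariskiLocalAtTarget P]
    {X Y : Scheme.{u}} (f : X ⟶ Y)
    (U : Y.Opens) (V : X.Opens) (hV : V = f ⁻¹ᵁ U) (h : P f) : P (f.resLE U V hV.le) := by
  subst hV
  rw [Scheme.Hom.resLE_eq_morphismRestrict]
  exact IsZariskiLocalAtTarget.restrict h U

include hc in
/-- Chart version over an affine open of the base. -/
theorem chart [∀ {i j : J} (f : i ⟶ j), IsClosedImmersion (D.map f)]
    [∀ j, CompactSpace (D.obj j)] [∀ j, QuasiSeparatedSpace (D.obj j)]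
    (S : Scheme.{u}) [QuasiSeparatedSpace S] (t : ∀ j, D.obj j ⟶ S)
    (ht : ∀ {j k : J} (a : j ⟶ k), D.map a ≫ t k = t j)
    (j₀ : J) [LocallyOfFiniteType (t j₀)] [IsClosedImmersion (c.π.app j₀ ≫ t j₀)]
    (V : S.Opens) (hV : IsAffineOpen V) :
    ∃ k : Over j₀, ∀ (k' : Over j₀) (_ : k' ⟶ k), IsClosedImmersion ((t k'.left) ∣_ V) := by
  haveI : IsAffine V := hV
  obtain ⟨U, hUdef⟩ : ∃ U : (D.obj j₀).Opens, U = t j₀ ⁻¹ᵁ V := ⟨_, rfl⟩
  have hUeq : ∀ k : Over j₀, D.map k.hom ⁻¹ᵁ U = t k.left ⁻¹ᵁ V := by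
    intro k
    rw [hUdef, ← ht k.hom, Scheme.Hom.comp_preimage]
  have hUc : IsCompact (U : Set (D.obj j₀)) := by
    rw [hUdef]; exact (t j₀).isCompact_preimage hV.isCompact
  haveI : ∀ k : Over j₀, CompactSpace ((opensDiagram D j₀ U).obj k) := fun k =>
    isCompact_iff_compactSpace.mp ((D.map k.hom).isCompact_preimage hUc)
  haveI : ∀ k : Over j₀, QuasiSeparatedSpace ((opensDiagram D j₀ U).obj k) := fun k =>
    (isQuasiSeparated_iff_quasiSeparatedSpace _ (D.map _ ⁻¹ᵁ _).2).mp (.of_quasiSeparatedSpace _)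
  haveI : ∀ {i j : Over j₀} (f : i ⟶ j), IsClosedImmersion ((opensDiagram D j₀ U).map f) := by
    intro i j f
    refine resLE_of_eq @IsClosedImmersion (D.map f.left) _ _ ?_ inferInstance
    rw [← Scheme.Hom.comp_preimage, ← D.map_comp, Over.w f]
  let t' : ∀ k : Over j₀, (opensDiagram D j₀ U).obj k ⟶ V :=
    fun k => (t k.left).resLE V (D.map k.hom ⁻¹ᵁ U) (hUeq k).le
  have ht' : ∀ {j k : Over j₀} (a : j ⟶ k), (opensDiagram D j₀ U).map a ≫ t' k = t' j := by
    intro j k a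
    refine (Scheme.Hom.resLE_comp_resLE (D.map a.left) _ (t k.left) (hUeq k).le).trans ?_
    congr 1
    exact ht a.left
  haveI : LocallyOfFiniteType (t' (Over.mk (𝟙 j₀))) :=
    IsZariskiLocalAtSource.resLE _ (inferInstance : LocallyOfFiniteType (t j₀))
  haveI : IsClosedImmersion
      ((opensCone D c j₀ U).π.app (Over.mk (𝟙 j₀)) ≫ t' (Over.mk (𝟙 j₀))) := by
    have e : (opensCone D c j₀ U).π.app (Over.mk (𝟙 j₀)) ≫ t' (Over.mk (𝟙 j₀)) =
        (c.π.app j₀ ≫ t j₀).resLE V (c.π.app j₀ ⁻¹ᵁ U) (by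
          rw [hUdef, Scheme.Hom.comp_preimage]) :=
      Scheme.Hom.resLE_comp_resLE (c.π.app j₀) _ (t j₀) (hUeq (Over.mk (𝟙 j₀))).le
    rw [e]
    refine resLE_of_eq @IsClosedImmersion (c.π.app j₀ ≫ t j₀) _ _ ?_ inferInstance
    rw [hUdef, Scheme.Hom.comp_preimage]
  obtain ⟨k, a, hk⟩ := core (opensDiagram D j₀ U) (opensCone D c j₀ U)
    (isLimitOpensCone D c hc j₀ U) V t' ht' (Over.mk (𝟙 j₀))
  refine ⟨k, fun k' b => ?_⟩
  have h1 : IsClosedImmersion (t' k') := by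
    rw [← ht' b]; infer_instance
  exact morphismRestrict_of_resLE @IsClosedImmersion (t k'.left) V (D.map k'.hom ⁻¹ᵁ U)
    (hUeq k') h1

include hc in
/-- Limit of a cofiltered system along closed immersions over a qcqs base: if the limit is closed
in the base then so are the stages from some index on. -/
theorem exists_isClosedImmersion [∀ {i j : J} (f : i ⟶ j), IsClosedImmersion (D.map f)]
    [∀ j, CompactSpace (D.obj j)] [∀ j, QuasiSeparatedSpace (D.obj j)]
    (S : Scheme.{u}) [CompactSpace S] [QuasiSeparatedSpace S] (t : ∀ j, D.obj j ⟶ S)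
    (ht : ∀ {j k : J} (a : j ⟶ k), D.map a ≫ t k = t j)
    (j₀ : J) [LocallyOfFiniteType (t j₀)] [IsClosedImmersion (c.π.app j₀ ≫ t j₀)] :
    ∃ k : Over j₀, ∀ (k' : Over j₀) (_ : k' ⟶ k), IsClosedImmersion (t k'.left) := by
  classical
  have h1 : ∀ x : S, ∃ V : S.Opens, x ∈ V ∧ IsAffineOpen V := by
    intro x
    obtain ⟨V, hV, hxV, -⟩ := exists_isAffineOpen_mem_and_subset (x := x) (U := ⊤) trivial
    exact ⟨V, hxV, hV⟩
  choose V hxV hV using h1
  have h2 := fun x => chart D c hc S t ht j₀ (V x) (hV x)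
  choose k hk using h2
  obtain ⟨s, hs⟩ := CompactSpace.elim_nhds_subcover (fun x => ((V x : S.Opens) : Set S))
    (fun x => (V x).2.mem_nhds (hxV x))
  obtain ⟨k₁, hk₁⟩ := IsCofiltered.inf_objs_exists (s.image k)
  refine ⟨k₁, fun k' b => ?_⟩
  refine IsZariskiLocalAtTarget.of_iSup_eq_top (P := @IsClosedImmersion)
    (fun x : s => V x.1) ?_ ?_
  · refine top_le_iff.mp fun y _ => ?_
    have hy : y ∈ ⋃ x ∈ s, ((V x : S.Opens) : Set S) := by rw [hs]; trivial
    simp only [Set.mem_iUnion] at hy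
    obtain ⟨x, hx, hy⟩ := hy
    exact TopologicalSpace.Opens.mem_iSup.mpr ⟨⟨x, hx⟩, hy⟩
  · intro x
    exact hk x.1 k' (b ≫ (hk₁ (Finset.mem_image_of_mem _ x.2)).some)

include hc in
/-- Variant of `exists_isClosedImmersion` without `Over`. -/
theorem exists_isClosedImmersion' [∀ {i j : J} (f : i ⟶ j), IsClosedImmersion (D.map f)]
    [∀ j, CompactSpace (D.obj j)] [∀ j, QuasiSeparatedSpace (D.obj j)]
    (S : Scheme.{u}) [CompactSpace S] [QuasiSeparatedSpace S] (t : ∀ j, D.obj j ⟶ S)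
    (ht : ∀ {j k : J} (a : j ⟶ k), D.map a ≫ t k = t j)
    (j₀ : J) [LocallyOfFiniteType (t j₀)] [IsClosedImmersion (c.π.app j₀ ≫ t j₀)] :
    ∃ (j : J) (_ : j ⟶ j₀), ∀ (j' : J) (_ : j' ⟶ j), IsClosedImmersion (t j') := by
  obtain ⟨k, hk⟩ := exists_isClosedImmersion D c hc S t ht j₀
  refine ⟨k.left, k.hom, fun j' b => ?_⟩
  exact hk (Over.mk (b ≫ k.hom)) (Over.homMk b)

include hc in
/-- Limit of a cofiltered system along closed immersions over a quasi-separated base: if the limit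
is immersed in the base then so are the stages from some index on. -/
theorem exists_isImmersion [∀ {i j : J} (f : i ⟶ j), IsClosedImmersion (D.map f)]
    [∀ j, CompactSpace (D.obj j)] [∀ j, QuasiSeparatedSpace (D.obj j)]
    (S : Scheme.{u}) [QuasiSeparatedSpace S] (t : ∀ j, D.obj j ⟶ S)
    (ht : ∀ {j k : J} (a : j ⟶ k), D.map a ≫ t k = t j)
    [∀ j, LocallyOfFiniteType (t j)]
    (j₀ : J) [IsImmersion (c.π.app j₀ ≫ t j₀)] :
    ∃ (j : J) (_ : j ⟶ j₀), ∀ (j' : J) (_ : j' ⟶ j), IsImmersion (t j') := by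
  classical
  haveI : ∀ {i j : J} (f : i ⟶ j), IsAffineHom (D.map f) := fun f => inferInstance
  haveI : CompactSpace c.pt := Scheme.compactSpace_of_isLimit D c hc
  obtain ⟨f, hfdef⟩ : ∃ f : c.pt ⟶ S, f = c.π.app j₀ ≫ t j₀ := ⟨_, rfl⟩
  haveI : IsImmersion f := hfdef ▸ inferInstance
  have hfj : ∀ j, c.π.app j ≫ t j = f := by
    intro j
    have e1 : c.π.app j ≫ t j = c.π.app (IsCofiltered.min j j₀) ≫ t (IsCofiltered.min j j₀) := by
      rw [← ht (IsCofiltered.minToLeft j j₀), c.w_assoc]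
    have e2 : c.π.app j₀ ≫ t j₀ =
        c.π.app (IsCofiltered.min j j₀) ≫ t (IsCofiltered.min j j₀) := by
      rw [← ht (IsCofiltered.minToRight j j₀), c.w_assoc]
    rw [hfdef, e1, e2]
  obtain ⟨W', hW'c, hW'o, hKW, hWU⟩ := PrespectralSpace.exists_isCompact_and_isOpen_between
    (isCompact_range f.continuous) f.coborderRange.2 subset_coborder
  obtain ⟨W, hWdef⟩ : ∃ W : S.Opens, W = ⟨W', hW'o⟩ := ⟨_, rfl⟩
  have hWc : IsCompact (W : Set S) := by rw [hWdef]; exact hW'c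
  have hfW : f ⁻¹ᵁ W = ⊤ := by
    refine top_le_iff.mp fun x _ => ?_
    rw [hWdef]
    exact hKW ⟨x, rfl⟩
  have h2 : c.π.app j₀ ⁻¹ᵁ (t j₀ ⁻¹ᵁ W) = ⊤ := by
    rw [← Scheme.Hom.comp_preimage, ← hfdef, hfW]
  obtain ⟨j₁, a₁, h2'⟩ := exists_map_eq_top D c hc _ h2
  have htW : ∀ k : Over j₁, Set.range (t k.left) ⊆ Set.range W.ι := by
    intro k
    rintro _ ⟨x, rfl⟩
    rw [Scheme.Opens.range_ι]
    have e1 : t k.left = D.map k.hom ≫ D.map a₁ ≫ t j₀ := by rw [ht, ht]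
    have hx : D.map k.hom x ∈ D.map a₁ ⁻¹ᵁ (t j₀ ⁻¹ᵁ W) := by rw [h2']; trivial
    rw [e1]
    exact hx
  haveI : CompactSpace W := isCompact_iff_compactSpace.mp hWc
  haveI : QuasiSeparatedSpace W :=
    (isQuasiSeparated_iff_quasiSeparatedSpace _ W.2).mp (.of_quasiSeparatedSpace _)
  let t' : ∀ k : Over j₁, (Over.forget j₁ ⋙ D).obj k ⟶ W.toScheme :=
    fun k => IsOpenImmersion.lift W.ι (t k.left) (htW k)
  have ht'ι : ∀ k : Over j₁, t' k ≫ W.ι = t k.left := fun k => IsOpenImmersion.lift_fac _ _ _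
  have ht' : ∀ {j k : Over j₁} (a : j ⟶ k), (Over.forget j₁ ⋙ D).map a ≫ t' k = t' j := by
    intro j k a
    rw [← cancel_mono W.ι, Category.assoc, ht'ι, ht'ι]
    exact ht a.left
  haveI : ∀ {i j : Over j₁} (a : i ⟶ j), IsClosedImmersion ((Over.forget j₁ ⋙ D).map a) :=
    fun a => by dsimp; infer_instance
  haveI : ∀ k : Over j₁, CompactSpace ((Over.forget j₁ ⋙ D).obj k) :=
    fun k => by dsimp; infer_instance
  haveI : ∀ k : Over j₁, QuasiSeparatedSpace ((Over.forget j₁ ⋙ D).obj k) :=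
    fun k => by dsimp; infer_instance
  haveI : LocallyOfFiniteType (t' (Over.mk (𝟙 j₁))) := by
    haveI : LocallyOfFiniteType (t' (Over.mk (𝟙 j₁)) ≫ W.ι) := by
      rw [ht'ι]; dsimp; infer_instance
    exact locallyOfFiniteType_of_comp _ W.ι
  obtain ⟨g, hgdef⟩ : ∃ g : c.pt ⟶ W.toScheme,
      g = (c.whisker (Over.forget j₁)).π.app (Over.mk (𝟙 j₁)) ≫ t' (Over.mk (𝟙 j₁)) := ⟨_, rfl⟩
  have hgι : g ≫ W.ι = f := by
    rw [hgdef, Category.assoc, ht'ι]
    exact hfj j₁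
  haveI : IsClosedImmersion g := by
    haveI : IsPreimmersion (g ≫ W.ι) := by rw [hgι]; infer_instance
    haveI : IsPreimmersion g := .of_comp _ W.ι
    refine .of_isPreimmersion _ ?_
    have hr : Set.range g = W.ι ⁻¹' closure (Set.range f) := by
      ext w
      constructor
      · rintro ⟨x, rfl⟩
        apply subset_closure
        refine ⟨x, ?_⟩
        exact congr($(hgι) x).symm
      · intro hw
        have hwW : w.1 ∈ W' := by
          have h5 : w.1 ∈ W := w.2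
          have h6 : w.1 ∈ (⟨W', hW'o⟩ : S.Opens) := hWdef ▸ h5
          exact h6
        have h3 : w.1 ∈ coborder (Set.range f) ∩ closure (Set.range f) := ⟨hWU hwW, hw⟩
        rw [coborder_inter_closure] at h3
        obtain ⟨x, hx⟩ := h3
        refine ⟨x, ?_⟩
        apply W.ι.isEmbedding.injective
        exact (congr($(hgι) x)).trans hx
    rw [hr]
    exact isClosed_closure.preimage W.ι.continuous
  haveI : IsClosedImmersion
      ((c.whisker (Over.forget j₁)).π.app (Over.mk (𝟙 j₁)) ≫ t' (Over.mk (𝟙 j₁))) :=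
    hgdef ▸ inferInstance
  obtain ⟨k, -, hk⟩ := exists_isClosedImmersion' (Over.forget j₁ ⋙ D) (c.whisker (Over.forget j₁))
    ((Functor.Initial.isLimitWhiskerEquiv (Over.forget j₁) c).symm hc) W.toScheme t' ht'
    (Over.mk (𝟙 j₁))
  refine ⟨k.left, k.hom ≫ a₁, fun j' b => ?_⟩
  haveI := hk (Over.mk (b ≫ k.hom)) (Over.homMk b)
  have e : t j' = t' (Over.mk (b ≫ k.hom)) ≫ W.ι := (ht'ι (Over.mk (b ≫ k.hom))).symm
  rw [e]
  infer_instance

end Groth.Agent.Lib.Helper12.LimCITrans
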