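import Mathlib
import Groth.Agent.Lib.Helper12.LimCITrans
import Groth.Agent.Lib.Helper12.LimConstr

/-!
# Separatedness of the limit over a base implies separatedness of a stage
-/

universe u

open CategoryTheory Limits AlgebraicGeometry

namespace Groth.Agent.Lib.Helper12.LimSepStage

set_option backward.isDefEq.respectTransparency false

section Diag

variable {X' X S : Scheme.{u}} (f : X' ⟶ X) (g : X ⟶ S)

/-- The comparison `X' ×_S X' ⟶ X ×_S X`. -/
noncomputable abbrev qmap (h : X' ⟶ S) (hh : f ≫ g = h) : pullback h h ⟶ pullback g g :=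
  pullback.map h h g g f f (𝟙 S) (by simp [hh]) (by simp [hh])

lemma diagonal_comp_qmap (h : X' ⟶ S) (hh : f ≫ g = h) :
    pullback.diagonal h ≫ qmap f g h hh = f ≫ pullback.diagonal g := by
  apply pullback.hom_ext <;> simp [qmap]

lemma mapsTo_qmap (h : X' ⟶ S) (hh : f ≫ g = h) :
    Set.MapsTo (qmap f g h hh) (Set.range (pullback.diagonal h))
      (Set.range (pullback.diagonal g)) := by
  rintro _ ⟨x, rfl⟩
  refine ⟨f x, ?_⟩
  have := congr($(diagonal_comp_qmap f g h hh) x)
  exact this.symm

lemma closure_inter_subset [IsSeparated f] (h : X' ⟶ S) (hh : f ≫ g = h) :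
    closure (Set.range (pullback.diagonal h)) ∩
      (qmap f g h hh) ⁻¹' (Set.range (pullback.diagonal g)) ⊆
      Set.range (pullback.diagonal h) := by
  subst hh
  let e : pullback f f ⟶ pullback (f ≫ g) (f ≫ g) :=
    pullback.map f f (f ≫ g) (f ≫ g) (𝟙 X') (𝟙 X') g (Category.id_comp _).symm
      (Category.id_comp _).symm
  have hpb : IsPullback (pullback.fst f f ≫ f) e (pullback.diagonal g)
      (pullback.map (f ≫ g) (f ≫ g) g g f f (𝟙 _) (Category.comp_id _) (Category.comp_id _)) :=
    pullback_map_diagonal_isPullback f f g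
  have hq : qmap f g (f ≫ g) rfl =
      pullback.map (f ≫ g) (f ≫ g) g g f f (𝟙 _) (Category.comp_id _) (Category.comp_id _) := rfl
  haveI : IsImmersion e :=
    MorphismProperty.of_isPullback (P := @IsImmersion) hpb inferInstance
  have hrange : Set.range e = (qmap f g (f ≫ g) rfl) ⁻¹' (Set.range (pullback.diagonal g)) := by
    have := Scheme.image_preimage_eq_of_isPullback hpb Set.univ
    simpa [hq] using this
  have hΔ : pullback.diagonal (f ≫ g) = pullback.diagonal f ≫ e := by
    apply pullback.hom_ext <;> simp [e]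
  rintro z ⟨hz1, hz2⟩
  rw [← hrange] at hz2
  obtain ⟨w, rfl⟩ := hz2
  have hcl : IsClosed (Set.range (pullback.diagonal f)) :=
    (pullback.diagonal f).isClosedEmbedding.isClosed_range
  have hrΔ : Set.range (pullback.diagonal (f ≫ g)) = e '' Set.range (pullback.diagonal f) := by
    rw [hΔ, Scheme.Hom.comp_base, TopCat.coe_comp, Set.range_comp]
  rw [hrΔ] at hz1 ⊢
  have hw : w ∈ closure (Set.range (pullback.diagonal f)) := by
    rw [e.isEmbedding.isInducing.closure_eq_preimage_closure_image]
    exact hz1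
  rw [hcl.closure_eq] at hw
  exact ⟨w, hw, rfl⟩

end Diag

section Lim

variable {J : Type u} [SmallCategory J] (D : J ⥤ Scheme.{u}) (c : Cone D)
  (S : Scheme.{u}) (t : ∀ j, D.obj j ⟶ S) (ht : ∀ {j k : J} (a : j ⟶ k), D.map a ≫ t k = t j)

/-- The diagram `j ↦ X_j ×_S X_j`. -/
noncomputable def PD : J ⥤ Scheme.{u} where
  obj j := pullback (t j) (t j)
  map {j k} a := qmap (D.map a) (t k) (t j) (ht a)
  map_id j := by apply pullback.hom_ext <;> simp [qmap]
  map_comp a b := by apply pullback.hom_ext <;> simp [qmap]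

/-- The cone over `PD` with point `X ×_S X`. -/
noncomputable def PC (s : c.pt ⟶ S) (hs : ∀ j, c.π.app j ≫ t j = s) : Cone (PD D S t ht) where
  pt := pullback s s
  π :=
    { app := fun j => qmap (c.π.app j) (t j) s (hs j)
      naturality := fun j k a => by
        apply pullback.hom_ext <;> simp [PD, qmap] }

variable [IsCofiltered J] (hc : IsLimit c)

/-- `X ×_S X` is the limit of the `X_j ×_S X_j`. -/
noncomputable def isLimitPC (s : c.pt ⟶ S) (hs : ∀ j, c.π.app j ≫ t j = s) :
    IsLimit (PC D c S t ht s hs) where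
  lift σ := pullback.lift
    (hc.lift ⟨σ.pt,
      { app := fun j => σ.π.app j ≫ pullback.fst _ _
        naturality := fun j k a => by
          have := σ.w a
          simp only [PD] at this
          simp [← this, qmap] }⟩)
    (hc.lift ⟨σ.pt,
      { app := fun j => σ.π.app j ≫ pullback.snd _ _
        naturality := fun j k a => by
          have := σ.w a
          simp only [PD] at this
          simp [← this, qmap] }⟩)
    (by
      obtain ⟨j₀⟩ := IsCofiltered.nonempty (C := J)
      rw [← hs j₀, hc.fac_assoc, hc.fac_assoc]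
      simp [pullback.condition])
  fac σ j := by
    apply pullback.hom_ext <;> simp [PC, qmap]
  uniq σ m hm := by
    apply pullback.hom_ext <;> apply hc.hom_ext <;> intro j <;> simp [← hm, PC, qmap]

lemma isAffineHom_qmap {X' X S : Scheme.{u}} (f : X' ⟶ X) (g : X ⟶ S) (h : X' ⟶ S)
    (hh : f ≫ g = h) [IsAffineHom f] : IsAffineHom (qmap f g h hh) :=
  MorphismProperty.pullbackMap (P := @IsAffineHom) (f := h) (g := h) (f' := g) (g' := g)
    (i₁ := f) (i₂ := f) inferInstance inferInstance hh.symm hh.symm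

open Groth.Agent.Lib.Helper12.LimConstr in
include hc ht in
/-- If the limit is separated over a quasi-separated base `S`, so is some stage. -/
theorem exists_isSeparated [∀ {i j : J} (f : i ⟶ j), IsAffineHom (D.map f)]
    [∀ j, CompactSpace (D.obj j)] [∀ j, QuasiSeparatedSpace (D.obj j)]
    [QuasiSeparatedSpace S] (s : c.pt ⟶ S) (hs : ∀ j, c.π.app j ≫ t j = s) [IsSeparated s] :
    ∃ j, IsSeparated (t j) := by
  classical
  by_contra! H
  haveI : ∀ {i j : J} (a : i ⟶ j), IsAffineHom ((PD D S t ht).map a) :=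
    fun {i j} a => isAffineHom_qmap (D.map a) (t j) (t i) (ht a)
  haveI : ∀ j, CompactSpace ((PD D S t ht).obj j) := fun j =>
    (inferInstance : CompactSpace (pullback (t j) (t j) : Scheme.{u}))
  let R : ∀ j, Set ((PD D S t ht).obj j) := fun j => Set.range (pullback.diagonal (t j))
  let Z : ∀ j, Set ((PD D S t ht).obj j) := fun j => (coborder (R j))ᶜ
  have hZmem : ∀ j z, z ∈ Z j ↔ z ∈ closure (R j) ∧ z ∉ R j := by
    intro j z
    simp [Z, coborder]
  have hZc : ∀ j, IsClosed (Z j) := fun j =>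
    ((pullback.diagonal (t j)).isLocallyClosed_range.isOpen_coborder).isClosed_compl
  have hZne : ∀ j, (Z j).Nonempty := by
    intro j
    by_contra hne
    rw [Set.not_nonempty_iff_eq_empty] at hne
    apply H j
    have hcl : IsClosed (R j) := by
      rw [← closure_subset_iff_isClosed]
      intro z hz
      by_contra hzR
      have : z ∈ Z j := (hZmem j z).mpr ⟨hz, hzR⟩
      rw [hne] at this
      exact this
    have : IsClosedImmersion (pullback.diagonal (t j)) := .of_isPreimmersion _ hcl
    exact ⟨this⟩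
  have hmaps : ∀ {i i' : J} (a : i ⟶ i'), Set.MapsTo ((PD D S t ht).map a) (Z i) (Z i') := by
    intro i i' a z hz
    rw [hZmem] at hz ⊢
    refine ⟨?_, fun h2 => hz.2 ?_⟩
    · exact map_mem_closure ((PD D S t ht).map a).continuous hz.1
        (mapsTo_qmap (D.map a) (t i') (t i) (ht a))
    · exact closure_inter_subset (D.map a) (t i') (t i) (ht a) ⟨hz.1, h2⟩
  obtain ⟨z, hz⟩ := exists_mem_of_isClosed_of_nonempty (PD D S t ht) (PC D c S t ht s hs)
    (isLimitPC D c S t ht hc s hs) Z hZc hZne (fun j => (hZc j).isCompact) hmaps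
  by_cases hzK : z ∈ Set.range (pullback.diagonal s)
  · obtain ⟨x, rfl⟩ := hzK
    obtain ⟨j₀⟩ := IsCofiltered.nonempty (C := J)
    have h1 := ((hZmem j₀ _).mp (hz j₀)).2
    exact h1 ⟨c.π.app j₀ x,
      (congr($(diagonal_comp_qmap (c.π.app j₀) (t j₀) s (hs j₀)) x)).symm⟩
  · have hK : IsClosed (Set.range (pullback.diagonal s)) :=
      (pullback.diagonal s).isClosedEmbedding.isClosed_range
    obtain ⟨_, ⟨_, ⟨j, O, hO, rfl⟩, rfl⟩, hzO, hOK⟩ :=
      (isBasis_preimage_isAffineOpen (PD D S t ht) (PC D c S t ht s hs)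
        (isLimitPC D c S t ht hc s hs)).exists_subset_of_mem_open hzK hK.isOpen_compl
    obtain ⟨W, hWdef⟩ : ∃ W : (D.obj j).Opens, W = pullback.diagonal (t j) ⁻¹ᵁ O := ⟨_, rfl⟩
    have hWc : IsCompact (W : Set (D.obj j)) := by
      rw [hWdef]; exact (pullback.diagonal (t j)).isCompact_preimage hO.isCompact
    have hWe : (c.π.app j).base ⁻¹' (W : Set (D.obj j)) = ∅ := by
      rw [Set.eq_empty_iff_forall_notMem]
      intro x hx
      rw [hWdef] at hx
      have h2 : (PC D c S t ht s hs).π.app j (pullback.diagonal s x) ∈ O := by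
        have := congr($(diagonal_comp_qmap (c.π.app j) (t j) s (hs j)) x)
        exact this ▸ hx
      exact hOK h2 ⟨x, rfl⟩
    obtain ⟨j', a, ha⟩ := exists_preimage_eq_empty D c hc j (W : Set (D.obj j))
      ((hWc.isRetrocompact W.2).isConstructible W.2) hWe
    have h3 := (hZmem j' _).mp (hz j')
    have h4 : (PC D c S t ht s hs).π.app j' z ∈ (PD D S t ht).map a ⁻¹ᵁ O := by
      show (PD D S t ht).map a ((PC D c S t ht s hs).π.app j' z) ∈ O
      have e : (PD D S t ht).map a ((PC D c S t ht s hs).π.app j' z) =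
          (PC D c S t ht s hs).π.app j z := congr($((PC D c S t ht s hs).w a) z)
      rw [e]; exact hzO
    have h5 : ((PD D S t ht).map a ⁻¹ᵁ O : Set ((PD D S t ht).obj j')) ∩ R j' = ∅ := by
      rw [Set.eq_empty_iff_forall_notMem]
      rintro _ ⟨hy1, ⟨x, rfl⟩⟩
      have hx : x ∈ (D.map a).base ⁻¹' (W : Set (D.obj j)) := by
        rw [hWdef]
        show pullback.diagonal (t j) (D.map a x) ∈ O
        have e : pullback.diagonal (t j) (D.map a x) =
            (PD D S t ht).map a (pullback.diagonal (t j') x) :=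
          (congr($(diagonal_comp_qmap (D.map a) (t j) (t j') (ht a)) x)).symm
        rw [e]; exact hy1
      rw [ha] at hx
      exact hx
    have h6 := ((PD D S t ht).map a ⁻¹ᵁ O).2.inter_closure.trans
      (closure_mono h5.le) ⟨h4, h3.1⟩
    simpa using h6

omit hc in
include ht in
lemma cone_comp_eq (j j₀ : J) : c.π.app j ≫ t j = c.π.app j₀ ≫ t j₀ := by
  have e1 : c.π.app j ≫ t j = c.π.app (IsCofiltered.min j j₀) ≫ t (IsCofiltered.min j j₀) := by
    rw [← ht (IsCofiltered.minToLeft j j₀), c.w_assoc]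
  have e2 : c.π.app j₀ ≫ t j₀ =
      c.π.app (IsCofiltered.min j j₀) ≫ t (IsCofiltered.min j j₀) := by
    rw [← ht (IsCofiltered.minToRight j j₀), c.w_assoc]
  rw [e1, e2]

include hc ht in
/-- Eventual version. -/
theorem eventually_isSeparated [∀ {i j : J} (f : i ⟶ j), IsAffineHom (D.map f)]
    [∀ j, CompactSpace (D.obj j)] [∀ j, QuasiSeparatedSpace (D.obj j)]
    [QuasiSeparatedSpace S] (j₀ : J) [IsSeparated (c.π.app j₀ ≫ t j₀)] :
    ∃ j₁ : J, ∀ (j : J) (_ : j ⟶ j₁), IsSeparated (t j) := by
  obtain ⟨j₁, hj₁⟩ := exists_isSeparated D c S t ht hc (c.π.app j₀ ≫ t j₀)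
    (fun j => cone_comp_eq D c S t ht j j₀)
  refine ⟨j₁, fun j a => ?_⟩
  rw [← ht a]
  infer_instance

end Lim

end Groth.Agent.Lib.Helper12.LimSepStage
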