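import Mathlib
import Groth.Agent.Lib.Helper12.ConsPairProper
import Groth.Agent.S7409
import Groth.Agent.S9189
import Groth.Agent.S9190

/-!
# Descent of properness through limits (Stacks 081F), general qcqs stages
-/

set_option autoImplicit false
universe u
open CategoryTheory CategoryTheory.Limits AlgebraicGeometry

namespace Groth.Agent.Lib.Helper12.ProperDesc

open Groth.Agent.Lib.Helper12.ConsPairGen

set_option backward.isDefEq.respectTransparency false
set_option linter.style.haveILetI false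

/-- Core of the descent of properness: the case where `f₀` is already separated. -/
theorem descend_isProper_core {I : Type u} [SmallCategory I] [IsCofiltered I] (D : I ⥤ Scheme.{u})
    (c : Cone D) (hc : IsLimit c) [∀ (i j : I) (f : i ⟶ j), IsAffineHom (D.map f)]
    (i₀ : I) [CompactSpace (D.obj i₀)] [QuasiSeparatedSpace (D.obj i₀)] {X₀ Y₀ : Scheme.{u}}
    (f₀ : X₀ ⟶ Y₀) (g₀ : Y₀ ⟶ D.obj i₀)
    [CompactSpace X₀] [QuasiSeparatedSpace X₀] [CompactSpace Y₀] [QuasiSeparatedSpace Y₀]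
    [LocallyOfFiniteType f₀] [IsSeparated f₀]
    {X Y : Scheme.{u}} (f : X ⟶ Y) (g : Y ⟶ c.pt) (qY : Y ⟶ Y₀) (qX : X ⟶ X₀)
    (hY : IsPullback qY g g₀ (c.π.app i₀)) (hX : IsPullback qX f f₀ qY) [IsProper f] :
    ∃ (i : I) (φ : i ⟶ i₀) (Xi Yi : Scheme.{u}) (fi : Xi ⟶ Yi) (gi : Yi ⟶ D.obj i)
      (pY : Yi ⟶ Y₀) (pX : Xi ⟶ X₀),
      IsPullback pY gi g₀ (D.map φ) ∧ IsPullback pX fi f₀ pY ∧ IsProper fi := by
  haveI : QuasiCompact f₀ := inferInstance
  obtain ⟨n, X', π, jm, hjm, hcomp, hπ, hsurj⟩ := Groth.Agent.S7409.result f₀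
  haveI := hjm
  haveI := hπ
  haveI := hsurj
  obtain ⟨tb, htb⟩ : ∃ tb : CohB1.ProjSpaceOver n Y₀ ⟶ Y₀, tb = CohB1.ProjSpaceOver.toBase n Y₀ :=
    ⟨_, rfl⟩
  rw [← htb] at hcomp
  haveI : IsProper tb := htb ▸ inferInstance
  -- the limit level
  have hw : (pullback.fst π qX ≫ jm) ≫ tb = (pullback.snd π qX ≫ f) ≫ qY := by
    rw [Category.assoc, hcomp, pullback.condition_assoc, hX.w, Category.assoc]
  have hY' : IsPullback (pullback.fst tb qY) (pullback.snd tb qY ≫ g) (tb ≫ g₀) (c.π.app i₀) :=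
    (IsPullback.of_hasPullback tb qY).paste_vert hY
  have hX' : IsPullback (pullback.fst π qX)
      (pullback.lift (pullback.fst π qX ≫ jm) (pullback.snd π qX ≫ f) hw) jm
      (pullback.fst tb qY) := by
    refine IsPullback.of_bot ?_ (pullback.lift_fst _ _ _).symm (IsPullback.of_hasPullback tb qY)
    rw [pullback.lift_snd, hcomp]
    exact (IsPullback.of_hasPullback π qX).paste_vert hX
  haveI : IsImmersion (pullback.lift (pullback.fst π qX ≫ jm) (pullback.snd π qX ≫ f) hw) :=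
    MorphismProperty.of_isPullback hX' hjm
  haveI : IsProper (pullback.lift (pullback.fst π qX ≫ jm) (pullback.snd π qX ≫ f) hw ≫
      pullback.snd tb qY) := by
    rw [pullback.lift_snd]
    infer_instance
  haveI : IsProper (pullback.lift (pullback.fst π qX ≫ jm) (pullback.snd π qX ≫ f) hw) :=
    IsProper.of_comp _ (pullback.snd tb qY)
  haveI hci : IsClosedImmersion
      (pullback.lift (pullback.fst π qX ≫ jm) (pullback.snd π qX ≫ f) hw) :=
    IsClosedImmersion.of_isPreimmersion _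
      (Scheme.Hom.isClosedMap _).isClosed_range
  -- finiteness instances
  haveI : CompactSpace X' := QuasiCompact.compactSpace_of_compactSpace π
  haveI : QuasiSeparatedSpace X' := quasiSeparatedSpace_of_quasiSeparated π
  haveI : CompactSpace (CohB1.ProjSpaceOver n Y₀) := QuasiCompact.compactSpace_of_compactSpace tb
  haveI : QuasiSeparatedSpace (CohB1.ProjSpaceOver n Y₀) :=
    quasiSeparatedSpace_of_quasiSeparated tb
  haveI : LocallyOfFiniteType (jm ≫ tb) := by rw [hcomp]; infer_instance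
  haveI : LocallyOfFiniteType jm := locallyOfFiniteType_of_comp jm tb
  obtain ⟨i, φ, Xi', Yi', fi', gi', pY', pX', hpY', hpX', hci'⟩ :=
    Groth.Agent.S9189.result D c hc i₀ jm (tb ≫ g₀)
      (pullback.lift (pullback.fst π qX ≫ jm) (pullback.snd π qX ≫ f) hw)
      (pullback.snd tb qY ≫ g) (pullback.fst tb qY) (pullback.fst π qX) hY' hX'
  haveI := hci'
  -- the stage `i`
  have hwi : (pullback.fst (f₀ ≫ g₀) (D.map φ) ≫ f₀) ≫ g₀ =
      pullback.snd (f₀ ≫ g₀) (D.map φ) ≫ D.map φ := by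
    rw [Category.assoc]; exact pullback.condition
  have hfi : IsPullback (pullback.fst (f₀ ≫ g₀) (D.map φ))
      (pullback.lift (pullback.fst (f₀ ≫ g₀) (D.map φ) ≫ f₀)
        (pullback.snd (f₀ ≫ g₀) (D.map φ)) hwi) f₀ (pullback.fst g₀ (D.map φ)) := by
    refine IsPullback.of_bot ?_ (pullback.lift_fst _ _ _).symm
      (IsPullback.of_hasPullback g₀ (D.map φ))
    rw [pullback.lift_snd]
    exact IsPullback.of_hasPullback (f₀ ≫ g₀) (D.map φ)
  refine ⟨i, φ, pullback (f₀ ≫ g₀) (D.map φ), pullback g₀ (D.map φ), _,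
    pullback.snd g₀ (D.map φ), pullback.fst g₀ (D.map φ), pullback.fst (f₀ ≫ g₀) (D.map φ),
    IsPullback.of_hasPullback _ _, hfi, ?_⟩
  -- `b : Yi' ⟶ Yi`
  have hwb : (pY' ≫ tb) ≫ g₀ = gi' ≫ D.map φ := by
    rw [Category.assoc]; exact hpY'.w
  have hb : IsPullback pY' (pullback.lift (pY' ≫ tb) gi' hwb) tb (pullback.fst g₀ (D.map φ)) := by
    refine IsPullback.of_bot ?_ (pullback.lift_fst _ _ _).symm
      (IsPullback.of_hasPullback g₀ (D.map φ))
    rw [pullback.lift_snd]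
    exact hpY'
  haveI : IsProper (pullback.lift (pY' ≫ tb) gi' hwb) :=
    MorphismProperty.of_isPullback hb inferInstance
  -- `πi : Xi' ⟶ Xi`
  have hwπ : (pX' ≫ π) ≫ f₀ ≫ g₀ = (fi' ≫ gi') ≫ D.map φ := by
    rw [Category.assoc, ← reassoc_of% hcomp, reassoc_of% hpX'.w, hpY'.w, Category.assoc]
  have hπi : IsPullback pX' (pullback.lift (pX' ≫ π) (fi' ≫ gi') hwπ) π
      (pullback.fst (f₀ ≫ g₀) (D.map φ)) := by
    refine IsPullback.of_bot ?_ (pullback.lift_fst _ _ _).symm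
      (IsPullback.of_hasPullback (f₀ ≫ g₀) (D.map φ))
    rw [pullback.lift_snd, ← reassoc_of% hcomp]
    exact hpX'.paste_vert hpY'
  haveI : Surjective (pullback.lift (pX' ≫ π) (fi' ≫ gi') hwπ) :=
    MorphismProperty.of_isPullback hπi hsurj
  have hcomm : pullback.lift (pX' ≫ π) (fi' ≫ gi') hwπ ≫
      pullback.lift (pullback.fst (f₀ ≫ g₀) (D.map φ) ≫ f₀)
        (pullback.snd (f₀ ≫ g₀) (D.map φ)) hwi = fi' ≫ pullback.lift (pY' ≫ tb) gi' hwb := by
    apply pullback.hom_ext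
    · simp only [Category.assoc, pullback.lift_fst, pullback.lift_fst_assoc]
      rw [← hcomp, reassoc_of% hpX'.w]
    · simp only [Category.assoc, pullback.lift_snd]
  haveI : IsProper (pullback.lift (pX' ≫ π) (fi' ≫ gi') hwπ ≫
      pullback.lift (pullback.fst (f₀ ≫ g₀) (D.map φ) ≫ f₀)
        (pullback.snd (f₀ ≫ g₀) (D.map φ)) hwi) := by
    rw [hcomm]; infer_instance
  haveI : UniversallyClosed (pullback.lift (pullback.fst (f₀ ≫ g₀) (D.map φ) ≫ f₀)
        (pullback.snd (f₀ ≫ g₀) (D.map φ)) hwi) :=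
    UniversallyClosed.of_comp_surjective (pullback.lift (pX' ≫ π) (fi' ≫ gi') hwπ) _
  haveI : IsSeparated (pullback.lift (pullback.fst (f₀ ≫ g₀) (D.map φ) ≫ f₀)
        (pullback.snd (f₀ ≫ g₀) (D.map φ)) hwi) :=
    MorphismProperty.of_isPullback hfi inferInstance
  haveI : LocallyOfFiniteType (pullback.lift (pullback.fst (f₀ ≫ g₀) (D.map φ) ≫ f₀)
        (pullback.snd (f₀ ≫ g₀) (D.map φ)) hwi) :=
    MorphismProperty.of_isPullback hfi inferInstance
  haveI : QuasiCompact (pullback.lift (pullback.fst (f₀ ≫ g₀) (D.map φ) ≫ f₀)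
        (pullback.snd (f₀ ≫ g₀) (D.map φ)) hwi) :=
    MorphismProperty.of_isPullback hfi inferInstance
  exact ⟨⟩

/-- **Properness descends through cofiltered limits** (Stacks 081F). -/
theorem descend_isProper {I : Type u} [SmallCategory I] [IsCofiltered I] (D : I ⥤ Scheme.{u})
    (c : Cone D) (hc : IsLimit c) [∀ (i j : I) (f : i ⟶ j), IsAffineHom (D.map f)]
    (i₀ : I) [CompactSpace (D.obj i₀)] [QuasiSeparatedSpace (D.obj i₀)] {X₀ Y₀ : Scheme.{u}}
    (f₀ : X₀ ⟶ Y₀) (g₀ : Y₀ ⟶ D.obj i₀)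
    [CompactSpace X₀] [QuasiSeparatedSpace X₀] [CompactSpace Y₀] [QuasiSeparatedSpace Y₀]
    [LocallyOfFiniteType f₀]
    {X Y : Scheme.{u}} (f : X ⟶ Y) (g : Y ⟶ c.pt) (qY : Y ⟶ Y₀) (qX : X ⟶ X₀)
    (hY : IsPullback qY g g₀ (c.π.app i₀)) (hX : IsPullback qX f f₀ qY) [IsProper f] :
    ∃ (i : I) (φ : i ⟶ i₀) (Xi Yi : Scheme.{u}) (fi : Xi ⟶ Yi) (gi : Yi ⟶ D.obj i)
      (pY : Yi ⟶ Y₀) (pX : Xi ⟶ X₀),
      IsPullback pY gi g₀ (D.map φ) ∧ IsPullback pX fi f₀ pY ∧ IsProper fi := by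
  obtain ⟨i₁, φ₁, X₁, Y₁, f₁, g₁, pY₁, pX₁, hpY₁, hpX₁, hsep⟩ :=
    Groth.Agent.S9190.result D c hc i₀ f₀ g₀ f g qY qX hY hX
  haveI := hsep
  have hwY : qY ≫ g₀ = (g ≫ c.π.app i₁) ≫ D.map φ₁ := by
    rw [hY.w, Category.assoc, c.w]
  have hsY : IsPullback (hpY₁.lift qY (g ≫ c.π.app i₁) hwY) g g₁ (c.π.app i₁) := by
    refine IsPullback.of_right ?_ (hpY₁.lift_snd _ _ _) hpY₁
    rw [hpY₁.lift_fst, c.w]
    exact hY
  have hwX : qX ≫ f₀ = (f ≫ hpY₁.lift qY (g ≫ c.π.app i₁) hwY) ≫ pY₁ := by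
    rw [hX.w, Category.assoc, hpY₁.lift_fst]
  have hsX : IsPullback (hpX₁.lift qX (f ≫ hpY₁.lift qY (g ≫ c.π.app i₁) hwY) hwX) f f₁
      (hpY₁.lift qY (g ≫ c.π.app i₁) hwY) := by
    refine IsPullback.of_right ?_ (hpX₁.lift_snd _ _ _) hpX₁
    rw [hpX₁.lift_fst, hpY₁.lift_fst]
    exact hX
  -- the new stage is again qcqs
  haveI : IsAffineHom (D.map φ₁) := inferInstance
  haveI : IsAffineHom pY₁ := MorphismProperty.of_isPullback (P := @IsAffineHom) hpY₁.flip
    inferInstance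
  haveI : IsAffineHom pX₁ := MorphismProperty.of_isPullback (P := @IsAffineHom) hpX₁.flip
    inferInstance
  haveI : CompactSpace (D.obj i₁) := QuasiCompact.compactSpace_of_compactSpace (D.map φ₁)
  haveI : QuasiSeparatedSpace (D.obj i₁) := quasiSeparatedSpace_of_quasiSeparated (D.map φ₁)
  haveI : CompactSpace Y₁ := QuasiCompact.compactSpace_of_compactSpace pY₁
  haveI : QuasiSeparatedSpace Y₁ := quasiSeparatedSpace_of_quasiSeparated pY₁
  haveI : CompactSpace X₁ := QuasiCompact.compactSpace_of_compactSpace pX₁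
  haveI : QuasiSeparatedSpace X₁ := quasiSeparatedSpace_of_quasiSeparated pX₁
  haveI : LocallyOfFiniteType f₁ := MorphismProperty.of_isPullback hpX₁ inferInstance
  obtain ⟨i, φ, Xi, Yi, fi, gi, pY, pX, h1, h2, h3⟩ :=
    descend_isProper_core D c hc i₁ f₁ g₁ f g _ _ hsY hsX
  refine ⟨i, φ ≫ φ₁, Xi, Yi, fi, gi, pY ≫ pY₁, pX ≫ pX₁, ?_, h2.paste_horiz hpX₁, h3⟩
  rw [D.map_comp]
  exact h1.paste_horiz hpY₁

end Groth.Agent.Lib.Helper12.ProperDesc
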