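import Mathlib
import Groth.Agent.Lib.Helper12.StratSch
import Groth.Agent.Lib.Helper12.ConsMorGen
import Groth.Agent.Lib.Helper12.FpLimit
import Groth.Agent.Lib.Helper12.FibreDominant
import Groth.Agent.S9187
import Groth.Agent.S2074
import Groth.Agent.S2075

/-!
# Helper library (helper12): stratifications over which a fibrewise property holds

If `Q` is a property of morphisms stable under base change which descends through cofiltered limits
and which holds on all fibres of `f : X ⟶ Y` over `S` (finitely presented data over a qcqs base),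
then `S` is a finite disjoint union of affine locally closed pieces of finite presentation over
which the base change of `f` has `Q`.
-/

universe u

open CategoryTheory CategoryTheory.Limits AlgebraicGeometry Topology

set_option backward.isDefEq.respectTransparency false
set_option linter.style.haveILetI false

namespace Groth.Agent.Lib.Helper12.StratQBC

open Groth.Agent.Lib.Helper12.StratSch Groth.Agent.Lib.Helper12.ConsMorGen
  Groth.Agent.Lib.Helper12.ConsPairGen

theorem descendsLim_isFinite : DescendsLim @IsFinite := by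
  intro I _ _ D c hc _ i₀ _ _ X₀ Y₀ f₀ g₀ _ _ _ _ _ _ X Y f g qY qX hY hX hf
  haveI : IsFinite f := hf
  haveI : CompactSpace Y₀ := QuasiCompact.compactSpace_of_compactSpace g₀
  haveI : QuasiSeparatedSpace Y₀ := quasiSeparatedSpace_of_quasiSeparated g₀
  haveI : CompactSpace X₀ := QuasiCompact.compactSpace_of_compactSpace (f₀ ≫ g₀)
  haveI : QuasiSeparatedSpace X₀ := quasiSeparatedSpace_of_quasiSeparated (f₀ ≫ g₀)
  haveI : LocallyOfFiniteType f₀ := locallyOfFiniteType_of_comp f₀ g₀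
  exact Groth.Agent.S9187.result D c hc i₀ f₀ g₀ f g qY qX hY hX

theorem descendsLim_isProper : DescendsLim @IsProper := by
  intro I _ _ D c hc _ i₀ _ _ X₀ Y₀ f₀ g₀ _ _ _ _ _ _ X Y f g qY qX hY hX hf
  haveI : IsProper f := hf
  haveI : CompactSpace Y₀ := QuasiCompact.compactSpace_of_compactSpace g₀
  haveI : QuasiSeparatedSpace Y₀ := quasiSeparatedSpace_of_quasiSeparated g₀
  haveI : CompactSpace X₀ := QuasiCompact.compactSpace_of_compactSpace (f₀ ≫ g₀)
  haveI : QuasiSeparatedSpace X₀ := quasiSeparatedSpace_of_quasiSeparated (f₀ ≫ g₀)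
  haveI : LocallyOfFiniteType f₀ := locallyOfFiniteType_of_comp f₀ g₀
  exact Groth.Agent.S2074.result D c hc i₀ f₀ g₀ f g qY qX hY hX

theorem descendsLim_flat : DescendsLim @Flat := by
  intro I _ _ D c hc _ i₀ _ _ X₀ Y₀ f₀ g₀ _ _ _ _ _ _ X Y f g qY qX hY hX hf
  haveI : Flat f := hf
  haveI : CompactSpace Y₀ := QuasiCompact.compactSpace_of_compactSpace g₀
  haveI : QuasiSeparatedSpace Y₀ := quasiSeparatedSpace_of_quasiSeparated g₀
  haveI : CompactSpace X₀ := QuasiCompact.compactSpace_of_compactSpace (f₀ ≫ g₀)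
  haveI : QuasiSeparatedSpace X₀ := quasiSeparatedSpace_of_quasiSeparated (f₀ ≫ g₀)
  haveI : LocallyOfFinitePresentation f₀ :=
    Groth.Agent.Lib.Helper12.FibreDominant.locallyOfFinitePresentation_of_comp f₀ g₀
  exact Groth.Agent.S2075.result D c hc i₀ f₀ g₀ f g qY qX hY hX

/-- `Spec κ(s)` is a cofiltered limit of affine schemes of finite presentation over `S`. -/
theorem exists_system {S : Scheme.{u}} (s : S) :
    ∃ (J : Type u) (_ : SmallCategory J) (_ : IsCofiltered J) (𝔇 : J ⥤ Scheme.{u})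
      (τ : 𝔇 ⟶ (Functor.const J).obj S)
      (π : (Functor.const J).obj (Spec (S.residueField s)) ⟶ 𝔇) (_ : IsLimit (Cone.mk _ π)),
      (∀ j, IsAffine (𝔇.obj j)) ∧ (∀ j, LocallyOfFinitePresentation (τ.app j)) ∧
      ∀ j, π.app j ≫ τ.app j = S.fromSpecResidueField s := by
  obtain ⟨_, ⟨S₁, hS₁, rfl⟩, hsS₁, -⟩ :=
    S.isBasis_affineOpens.exists_subset_of_mem_open (Set.mem_univ s) isOpen_univ
  have hle : (⊤ : (Spec (S.residueField s)).Opens) ≤ (S.fromSpecResidueField s) ⁻¹ᵁ S₁ := by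
    intro x _
    show S.fromSpecResidueField s x ∈ S₁
    have : S.fromSpecResidueField s x = s := by
      have h := S.range_fromSpecResidueField s
      have hx : S.fromSpecResidueField s x ∈ Set.range (S.fromSpecResidueField s) := ⟨x, rfl⟩
      rw [h] at hx
      exact hx
    rw [this]
    exact hsS₁
  obtain ⟨J, hJ1, hJ2, 𝔇, τ, π, hπ, h1, h2, h3⟩ :=
    Groth.Agent.Lib.Helper12.FpLimit.exists_limit_of_affineOpen (S.fromSpecResidueField s) S₁ hS₁
      ⊤ (isAffineOpen_top _) hle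
  let c : Cone 𝔇 := Cone.mk _ π
  let iso := Scheme.topIso (Spec (S.residueField s))
  refine ⟨J, hJ1, hJ2, 𝔇, τ, (c.extend iso.inv).π,
    (IsLimit.extendIso (s := c) iso.inv hπ : IsLimit (c.extend iso.inv)), h1, h2, fun j => ?_⟩
  show (iso.inv ≫ π.app j) ≫ τ.app j = _
  rw [Category.assoc, h3 j]
  simp [iso]

/-- **Stratification for two fibrewise properties.** -/
theorem exists_strat_hasQBC₂ (Q₁ Q₂ : MorphismProperty Scheme.{u}) [Q₁.IsStableUnderBaseChange]
    [Q₂.IsStableUnderBaseChange] (hQ₁ : DescendsLim Q₁) (hQ₂ : DescendsLim Q₂)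
    {S X Y : Scheme.{u}} [CompactSpace S] [QuasiSeparatedSpace S] (f : X ⟶ Y) (g : Y ⟶ S)
    [LocallyOfFinitePresentation g] [QuasiCompact g] [QuasiSeparated g]
    [LocallyOfFinitePresentation (f ≫ g)] [QuasiCompact (f ≫ g)] [QuasiSeparated (f ≫ g)]
    (hfib₁ : ∀ s : S, HasQBC Q₁ f g (S.fromSpecResidueField s))
    (hfib₂ : ∀ s : S, HasQBC Q₂ f g (S.fromSpecResidueField s)) :
    ∃ (n : ℕ) (T : Fin n → Scheme.{u}) (e : ∀ i, T i ⟶ S),
      (∀ i, IsAffine (T i) ∧ IsImmersion (e i) ∧ QuasiCompact (e i) ∧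
        LocallyOfFinitePresentation (e i) ∧ (HasQBC Q₁ f g (e i) ∧ HasQBC Q₂ f g (e i))) ∧
      Pairwise (fun i j => Disjoint (Set.range (e i)) (Set.range (e j))) ∧
      (⋃ i, Set.range (e i)) = Set.univ := by
  apply exists_strat (fun {T} e => HasQBC Q₁ f g e ∧ HasQBC Q₂ f g e)
  · intro T T' h a ⟨h1, h2⟩
    exact ⟨h1.comp h, h2.comp h⟩
  · intro s
    obtain ⟨J, _, _, 𝔇, τ, π, hπ, haff, hfp, hcomp⟩ := exists_system s
    haveI := haff
    let j₀ : J := (IsCofiltered.nonempty (C := J)).some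
    obtain ⟨j₁, hj₁⟩ := HasQBC.exists_stage hQ₁ f g 𝔇 τ (Cone.mk _ π) hπ j₀
      ((hfib₁ s).of_eq (hcomp j₀).symm)
    obtain ⟨j₂, hj₂⟩ := HasQBC.exists_stage hQ₂ f g 𝔇 τ (Cone.mk _ π) hπ j₀
      ((hfib₂ s).of_eq (hcomp j₀).symm)
    let j := IsCofiltered.min j₁ j₂
    have hτ : ∀ {i k : J} (a : i ⟶ k), 𝔇.map a ≫ τ.app k = τ.app i := by
      intro i k a
      have := τ.naturality a
      simpa using this
    refine ⟨𝔇.obj j, τ.app j, hfp j, ⟨?_, ?_⟩, π.app j, hcomp j⟩
    · exact (hj₁.comp (𝔇.map (IsCofiltered.minToLeft j₁ j₂))).of_eq (hτ _)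
    · exact (hj₂.comp (𝔇.map (IsCofiltered.minToRight j₁ j₂))).of_eq (hτ _)

/-- **Stratification for a fibrewise property.** -/
theorem exists_strat_hasQBC (Q : MorphismProperty Scheme.{u}) [Q.IsStableUnderBaseChange]
    (hQ : DescendsLim Q)
    {S X Y : Scheme.{u}} [CompactSpace S] [QuasiSeparatedSpace S] (f : X ⟶ Y) (g : Y ⟶ S)
    [LocallyOfFinitePresentation g] [QuasiCompact g] [QuasiSeparated g]
    [LocallyOfFinitePresentation (f ≫ g)] [QuasiCompact (f ≫ g)] [QuasiSeparated (f ≫ g)]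
    (hfib : ∀ s : S, HasQBC Q f g (S.fromSpecResidueField s)) :
    ∃ (n : ℕ) (T : Fin n → Scheme.{u}) (e : ∀ i, T i ⟶ S),
      (∀ i, IsAffine (T i) ∧ IsImmersion (e i) ∧ QuasiCompact (e i) ∧
        LocallyOfFinitePresentation (e i) ∧ HasQBC Q f g (e i)) ∧
      Pairwise (fun i j => Disjoint (Set.range (e i)) (Set.range (e j))) ∧
      (⋃ i, Set.range (e i)) = Set.univ := by
  obtain ⟨n, T, e, h1, h2, h3⟩ := exists_strat_hasQBC₂ Q Q hQ hQ f g hfib hfib
  exact ⟨n, T, e, fun i => ⟨(h1 i).1, (h1 i).2.1, (h1 i).2.2.1, (h1 i).2.2.2.1,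
    (h1 i).2.2.2.2.1⟩, h2, h3⟩

/-- `HasQBC` over the identity is the property of the base change. -/
theorem hasQBC_id_iff {Q : MorphismProperty Scheme.{u}} [Q.IsStableUnderBaseChange]
    {X S T : Scheme.{u}} (f : X ⟶ S) (e : T ⟶ S) :
    HasQBC Q f (𝟙 S) e ↔ Q (pullback.snd f e) :=
  HasQBC.iff_of_isPullback
    (IsPullback.of_vert_isIso (fst := e) (snd := 𝟙 T) (f := 𝟙 S) (g := e) ⟨by simp⟩)
    (IsPullback.of_hasPullback f e)

/-- `HasQBC` over the identity at a residue field is the property of the fibre. -/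
theorem hasQBC_id_fiber_iff {Q : MorphismProperty Scheme.{u}} [Q.IsStableUnderBaseChange]
    {X S : Scheme.{u}} (f : X ⟶ S) (s : S) :
    HasQBC Q f (𝟙 S) (S.fromSpecResidueField s) ↔ Q (f.fiberToSpecResidueField s) :=
  hasQBC_id_iff f _

end Groth.Agent.Lib.Helper12.StratQBC
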