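import Mathlib
import Groth.Agent.Lib.Helper12.ConsPropGen
import Groth.Agent.Lib.Helper12.FpDesc
import Groth.Agent.Lib.Helper12.StratQBC

/-!
# Noetherian approximation of flat proper morphisms of finite presentation (helper12)
-/

set_option autoImplicit false
set_option linter.style.haveILetI false
set_option backward.isDefEq.respectTransparency false
universe u
open AlgebraicGeometry CategoryTheory Limits Topology

namespace Groth.Agent.Lib.Helper12.FlatProperApprox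

open Groth.Agent.Lib.Helper12.ConsPropGen Groth.Agent.Lib.Helper12.FpDesc
  Groth.Agent.Lib.Helper12.ConsPairGen Groth.Agent.Lib.Helper12.StratQBC

variable {I : Type u} [SmallCategory I] [IsCofiltered I] {D : I ⥤ Scheme.{u}} {c : Cone D}

/-- a property descending through limits holds for the base change of a model to a later stage -/
theorem exists_stage_of_descendsLim {Q : MorphismProperty Scheme.{u}} [Q.RespectsIso]
    (hQ : DescendsLim Q) (hc : IsLimit c) [∀ i, IsAffine (D.obj i)]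
    {X : Scheme.{u}} (f : X ⟶ c.pt) (hf : Q f) {i₁ : I} {X₁ : Scheme.{u}} (x₁ : X₁ ⟶ D.obj i₁)
    (qX₁ : X ⟶ X₁) [LocallyOfFinitePresentation x₁] [QuasiCompact x₁] [QuasiSeparated x₁]
    (sq : IsPullback qX₁ f x₁ (c.π.app i₁)) :
    ∃ (i : I) (φ : i ⟶ i₁), Q (pullback.snd x₁ (D.map φ)) := by
  haveI : ∀ (i j : I) (a : i ⟶ j), IsAffineHom (D.map a) := fun _ _ a => inferInstance
  haveI : LocallyOfFinitePresentation (x₁ ≫ 𝟙 (D.obj i₁)) := by
    rw [Category.comp_id]; infer_instance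
  haveI : QuasiCompact (x₁ ≫ 𝟙 (D.obj i₁)) := by
    rw [Category.comp_id]; infer_instance
  haveI : QuasiSeparated (x₁ ≫ 𝟙 (D.obj i₁)) := by
    rw [Category.comp_id]; infer_instance
  have hY : IsPullback (c.π.app i₁) (𝟙 c.pt) (𝟙 (D.obj i₁)) (c.π.app i₁) :=
    IsPullback.id_vert (c.π.app i₁)
  obtain ⟨i, φ, Xi, Yi, fi, gi, pY, pX, h1, h2, h3⟩ :=
    hQ D c hc i₁ x₁ (𝟙 (D.obj i₁)) f (𝟙 c.pt) (c.π.app i₁) qX₁ hY sq hf
  refine ⟨i, φ, ?_⟩
  haveI : IsIso gi :=
    (MorphismProperty.isomorphisms Scheme.{u}).of_isPullback h1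
      (MorphismProperty.isomorphisms.infer_property (𝟙 (D.obj i₁)))
  have h4 : IsPullback pX (fi ≫ gi) (x₁ ≫ 𝟙 _) (D.map φ) := h2.paste_vert h1
  rw [Category.comp_id] at h4
  obtain ⟨e, he⟩ : ∃ e : Xi ≅ pullback x₁ (D.map φ),
      e.hom ≫ pullback.snd x₁ (D.map φ) = fi ≫ gi :=
    ⟨h4.isoPullback, h4.isoPullback_hom_snd⟩
  have h6 : pullback.snd x₁ (D.map φ) = e.inv ≫ fi ≫ gi := by
    rw [← he, Iso.inv_hom_id_assoc]
  rw [h6]
  exact (MorphismProperty.cancel_left_of_respectsIso Q _ _).2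
    ((MorphismProperty.cancel_right_of_respectsIso Q _ _).2 h3)

/-- **Noetherian approximation of a flat proper morphism of finite presentation** over an affine
open of a scheme. -/
theorem exists_model {Y : Scheme.{u}} (V : Y.Opens) (hV : IsAffineOpen V) {X : Scheme.{u}}
    (h : X ⟶ V.toScheme) [Flat h] [IsProper h] [LocallyOfFinitePresentation h] :
    ∃ (S₀ X₀ : Scheme.{u}) (f₀ : X₀ ⟶ S₀) (g : V.toScheme ⟶ S₀) (g' : X ⟶ X₀),
      IsAffine S₀ ∧ IsNoetherian S₀ ∧ IsPullback g' h f₀ g ∧ Flat f₀ ∧ IsProper f₀ ∧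
        LocallyOfFinitePresentation f₀ := by
  obtain ⟨J, _, _, 𝔇, π, hπ, haff, hnoeth⟩ := exists_noetherian_limit V hV
  haveI := haff
  haveI : ∀ {i j : J} (a : i ⟶ j), IsAffineHom (𝔇.map a) := fun a => inferInstance
  haveI : ∀ (i j : J) (a : i ⟶ j), IsAffineHom (𝔇.map a) := fun _ _ a => inferInstance
  obtain ⟨i₁, X₁, x₁, qX₁, _, _, _, sq₁⟩ := descends_of_fp (D := 𝔇) (c := Cone.mk _ π) hπ h
  -- properness
  obtain ⟨i₂, φ₂, hprop⟩ := exists_stage_of_descendsLim descendsLim_isProper hπ h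
    (inferInstance : IsProper h) x₁ qX₁ sq₁
  have sq₂ := isPullback_restage (c := Cone.mk _ π) φ₂ sq₁ (restage_w φ₂ sq₁)
  obtain ⟨x₂, hx₂⟩ : ∃ x₂ : pullback x₁ (𝔇.map φ₂) ⟶ 𝔇.obj i₂, x₂ = pullback.snd x₁ (𝔇.map φ₂) :=
    ⟨_, rfl⟩
  rw [← hx₂] at sq₂ hprop
  haveI : IsProper x₂ := hprop
  haveI : LocallyOfFinitePresentation x₂ := by rw [hx₂]; infer_instance
  -- flatness
  obtain ⟨i₃, φ₃, hflat⟩ := exists_stage_of_descendsLim descendsLim_flat hπ h
    (inferInstance : Flat h) x₂ _ sq₂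
  have sq₃ := isPullback_restage (c := Cone.mk _ π) φ₃ sq₂ (restage_w φ₃ sq₂)
  haveI := hnoeth i₃
  exact ⟨𝔇.obj i₃, _, pullback.snd x₂ (𝔇.map φ₃), π.app i₃, _, haff i₃, hnoeth i₃, sq₃, hflat,
    inferInstance, inferInstance⟩

end Groth.Agent.Lib.Helper12.FlatProperApprox
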