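import Mathlib
import Groth.Prelude.Def_EGA4Misc
import Groth.Agent.Lib.Helper12.GeomRedGen
import Groth.Agent.Lib.Helper12.ConsPropGen
import Groth.Agent.Lib.Helper12.FpDesc
import Groth.Agent.Lib.Helper28.GenFibreGeomRedSch

/-!
# Local constructibility of the locus of geometrically reduced fibres (helper12)
-/

set_option autoImplicit false
set_option linter.style.haveILetI false
universe u
open AlgebraicGeometry CategoryTheory Limits Topology

namespace Groth.Agent.Lib.Helper12.GeomRedCons

open ConsProp Groth.Agent.Lib.Helper12.GeomRedGen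

/-- geometric reducedness as a relation between a field and a scheme over it -/
def PGR : ∀ ⦃Y T : Scheme.{u}⦄, (Y ⟶ T) → Prop := fun _ _ g => GeometricallyReduced g

lemma locus_PGR {X S : Scheme.{u}} (u : X ⟶ S) : locus PGR u = E u := rfl

theorem isFieldStable_PGR : IsFieldStable PGR.{u} := by
  intro Y Y' T T' g g' e h _ _ _ _ _ _ hsq
  constructor
  · intro hg
    exact MorphismProperty.of_isPullback (P := @GeometricallyReduced) hsq hg
  · intro hg'
    show GeometricallyReduced g
    rw [geometricallyReduced_iff, geometrically_iff_forall_fiberToSpecResidueField]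
    intro t
    obtain ⟨t'⟩ : Nonempty T' := inferInstance
    have ht : h t' = t := Subsingleton.elim _ _
    haveI : GeometricallyReduced g' := hg'
    have h1 : t' ∈ E g' := by
      rw [mem_E]
      infer_instance
    have h2 := (mem_E_pullback hsq t').1 h1
    rw [ht] at h2
    exact (geometricallyReduced_iff _).1 h2

theorem isCons_PGR : IsCons PGR.{u} := by
  refine ⟨isFieldStable_PGR, fun X S u _ _ _ _ => ?_⟩
  rw [locus_PGR]
  by_cases hη : genericPoint S ∈ E u
  · left
    obtain ⟨V, ⟨y, hy⟩, hVE⟩ := geomRed_near_generic u hη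
    exact ⟨y, mem_interior.2 ⟨V, fun z hz => hVE z hz, V.isOpen, hy⟩⟩
  · right
    obtain ⟨V, ⟨y, hy⟩, hVE⟩ :=
      Groth.Agent.Lib.Helper28.GenFibreGeomRedSch.not_geometricallyReduced_fibre_near_generic_point
        u hη
    exact ⟨y, mem_interior.2 ⟨V, fun z hz => hVE z hz, V.isOpen, hy⟩⟩

/-- Noetherian base. -/
theorem isConstructible_E_noetherian {X S : Scheme.{u}} [IsNoetherian S] (u : X ⟶ S)
    [LocallyOfFiniteType u] [QuasiCompact u] : IsConstructible (E u) :=
  Groth.Agent.Lib.Helper12.ConsPropNoeth.isConstructible_locus isCons_PGR u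

section fp

open Groth.Agent.Lib.Helper12.ConsPropGen Groth.Agent.Lib.Helper12.FpDesc

/-- Finite presentation, over an affine open of the base. -/
theorem isConstructible_preimage_E_fp {X S : Scheme.{u}} (u : X ⟶ S)
    [LocallyOfFinitePresentation u] [QuasiCompact u] [QuasiSeparated u]
    (V : S.Opens) (hV : IsAffineOpen V) : IsConstructible (V.ι ⁻¹' E u) := by
  obtain ⟨J, _, _, 𝔇, π, hπ, haff, hnoeth⟩ := exists_noetherian_limit V hV
  haveI : ∀ {i j : J} (a : i ⟶ j), IsAffineHom (𝔇.map a) := fun a => inferInstance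
  haveI : ∀ (i j : J) (a : i ⟶ j), IsAffineHom (𝔇.map a) := fun _ _ a => inferInstance
  obtain ⟨i₁, X₁, x₁, qX₁, _, _, _, sq⟩ := descends_of_fp (D := 𝔇) (c := Cone.mk _ π) hπ
    (pullback.snd u V.ι)
  haveI := hnoeth i₁
  have h1 : V.ι ⁻¹' E u = E (pullback.snd u V.ι) := by
    ext y
    exact (mem_E_pullback (IsPullback.of_hasPullback u V.ι) y).symm
  have h2 : E (pullback.snd u V.ι) = (π.app i₁) ⁻¹' E x₁ := by
    ext y
    exact mem_E_pullback sq y
  rw [h1, h2]
  exact (π.app i₁).isConstructible_preimage (isConstructible_E_noetherian x₁)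

/-- Finite presentation over an affine base. -/
theorem isConstructible_E_fp_affine {X S : Scheme.{u}} [IsAffine S] (u : X ⟶ S)
    [LocallyOfFinitePresentation u] [QuasiCompact u] [QuasiSeparated u] :
    IsConstructible (E u) := by
  have h1 := isConstructible_preimage_E_fp u ⊤ (isAffineOpen_top S)
  have h2 := S.topIso.inv.isConstructible_preimage h1
  convert h2 using 1
  ext y
  show y ∈ E u ↔ (⊤ : S.Opens).ι (S.topIso.inv y) ∈ E u
  rw [← Scheme.Hom.comp_apply, Scheme.toIso_inv_ι]
  rfl

end fp

section local_source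

/-- geometric reducedness passes to open subschemes of the source -/
theorem geomRed_comp_of_isOpenImmersion {U Z T : Scheme.{u}} (j : U ⟶ Z) [IsOpenImmersion j]
    (g : Z ⟶ T) [GeometricallyReduced g] : GeometricallyReduced (j ≫ g) := by
  rw [geometricallyReduced_iff]
  intro K _ y Z' a b hsq
  haveI : IsReduced (pullback g y) :=
    GeometricallyReduced.geometrically_isReduced y _ _ (IsPullback.of_hasPullback g y)
  have hw : (a ≫ j) ≫ g = b ≫ y := by rw [Category.assoc]; exact hsq.w
  let l : Z' ⟶ pullback g y := pullback.lift (a ≫ j) b hw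
  have hl : IsPullback a l j (pullback.fst g y) := by
    refine IsPullback.of_bot ?_ (pullback.lift_fst _ _ _).symm (IsPullback.of_hasPullback g y)
    have : l ≫ pullback.snd g y = b := pullback.lift_snd _ _ _
    rw [this]
    exact hsq
  haveI : IsOpenImmersion l := MorphismProperty.of_isPullback (P := @IsOpenImmersion) hl inferInstance
  exact isReduced_of_isOpenImmersion l

/-- geometric reducedness is local on the source -/
theorem geomRed_of_cover {Z T : Scheme.{u}} (g : Z ⟶ T) {ι : Type*} (U : ι → Z.Opens)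
    (hU : TopologicalSpace.IsOpenCover U) (h : ∀ i, GeometricallyReduced ((U i).ι ≫ g)) :
    GeometricallyReduced g := by
  rw [geometricallyReduced_iff]
  intro K _ y Z' a b hsq
  let 𝒰 : Z'.OpenCover := (Z.openCoverOfIsOpenCover U hU).pullback₁ a
  haveI : ∀ i, IsReduced (𝒰.X i) := by
    intro i
    have h1 : IsPullback (pullback.snd a (U i).ι) (pullback.fst a (U i).ι) (U i).ι a :=
      (IsPullback.of_hasPullback a (U i).ι).flip
    have h2 := h1.paste_vert hsq
    exact (h i).geometrically_isReduced y _ _ h2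
  exact IsReduced.of_openCover Z' 𝒰

/-- any base change of `g` to the residue field at `y` computes membership in `E g` -/
theorem mem_E_iff_of_isPullback {X Y Z : Scheme.{u}} (g : X ⟶ Y) (y : Y) (a : Z ⟶ X)
    (g' : Z ⟶ Spec (Y.residueField y)) (hsq : IsPullback a g' g (Y.fromSpecResidueField y)) :
    y ∈ E g ↔ GeometricallyReduced g' := by
  rw [mem_E]
  have h1 : hsq.isoPullback.hom ≫ g.fiberToSpecResidueField y = g' := hsq.isoPullback_hom_snd
  rw [← h1]
  exact (MorphismProperty.cancel_left_of_respectsIso (P := @GeometricallyReduced)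
    hsq.isoPullback.hom _).symm

theorem mem_E_iff_of_cover {X Y : Scheme.{u}} (h : X ⟶ Y) {ι : Type*} (U : ι → X.Opens)
    (hU : TopologicalSpace.IsOpenCover U) (y : Y) : y ∈ E h ↔ ∀ i, y ∈ E ((U i).ι ≫ h) := by
  have hsq : ∀ i, IsPullback ((h.fiberι y) ∣_ (U i))
      (((h.fiberι y) ⁻¹ᵁ (U i)).ι ≫ h.fiberToSpecResidueField y) ((U i).ι ≫ h)
      (Y.fromSpecResidueField y) := fun i =>
    (isPullback_morphismRestrict (h.fiberι y) (U i)).paste_vert
      (IsPullback.of_hasPullback h (Y.fromSpecResidueField y))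
  constructor
  · intro hy i
    rw [mem_E_iff_of_isPullback _ y _ _ (hsq i)]
    haveI : GeometricallyReduced (h.fiberToSpecResidueField y) := hy
    exact geomRed_comp_of_isOpenImmersion _ _
  · intro hy
    rw [mem_E]
    refine geomRed_of_cover _ (fun i => (h.fiberι y) ⁻¹ᵁ (U i)) ?_ (fun i => ?_)
    · rw [TopologicalSpace.IsOpenCover, eq_top_iff]
      intro x _
      have hx : h.fiberι y x ∈ (⊤ : X.Opens) := trivial
      rw [← hU.iSup_eq_top] at hx
      obtain ⟨i, hi⟩ := TopologicalSpace.Opens.mem_iSup.1 hx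
      exact TopologicalSpace.Opens.mem_iSup.2 ⟨i, hi⟩
    · exact (mem_E_iff_of_isPullback _ y _ _ (hsq i)).1 (hy i)

end local_source

section main

/-- Over an affine open of the base, for a quasi-compact morphism locally of finite
presentation. -/
theorem isConstructible_preimage_E {X Y : Scheme.{u}} (f : X ⟶ Y) [QuasiCompact f]
    [LocallyOfFinitePresentation f] (V : Y.Opens) (hV : IsAffineOpen V) :
    IsConstructible (V.ι ⁻¹' E f) := by
  haveI : IsAffine V.toScheme := hV
  have h1 : V.ι ⁻¹' E f = E (f ∣_ V) := by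
    ext y
    exact (mem_E_pullback (isPullback_morphismRestrict f V).flip y).symm
  haveI : CompactSpace (f ⁻¹ᵁ V).toScheme :=
    isCompact_iff_compactSpace.mp (f.isCompact_preimage hV.isCompact)
  obtain ⟨s, hs, hcover⟩ := isCompact_iff_finite_and_eq_biUnion_affineOpens.mp
    (show IsCompact ((⊤ : (f ⁻¹ᵁ V).toScheme.Opens) : Set (f ⁻¹ᵁ V).toScheme) from isCompact_univ)
  have hE : E (f ∣_ V) = ⋂ i ∈ s, E ((i : (f ⁻¹ᵁ V).toScheme.affineOpens).1.ι ≫ (f ∣_ V)) := by
    ext y
    have hcov : TopologicalSpace.IsOpenCover (fun i : s => (i.1.1 : (f ⁻¹ᵁ V).toScheme.Opens)) := by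
      rw [TopologicalSpace.IsOpenCover, hcover, iSup_subtype]
    rw [mem_E_iff_of_cover (f ∣_ V) (fun i : s => (i.1.1 : (f ⁻¹ᵁ V).toScheme.Opens)) hcov y]
    simp only [Set.mem_iInter, Subtype.forall]
  rw [h1, hE]
  refine IsConstructible.biInter hs (fun i hi => ?_)
  haveI : IsAffine i.1.toScheme := i.2
  exact isConstructible_E_fp_affine _

/-- **Local constructibility of the locus of geometrically reduced fibres.** -/
theorem isLocallyConstructible_E {X Y : Scheme.{u}} (f : X ⟶ Y) [QuasiCompact f]
    [LocallyOfFinitePresentation f] : IsLocallyConstructible (E f) := by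
  refine IsLocallyConstructible.of_isOpenCover (U := fun V : Y.affineOpens => V.1)
    (TopologicalSpace.IsOpenCover.mk (iSup_affineOpens_eq_top Y)) fun V => ?_
  exact (isConstructible_preimage_E f V.1 V.2).isLocallyConstructible

end main

end Groth.Agent.Lib.Helper12.GeomRedCons
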