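import Mathlib
import Groth.Agent.Lib.Helper12.GeomRedCons
import Groth.Agent.Lib.Helper12.FlatProperApprox
import Groth.Agent.Lib.Helper1.DVRFib
import Groth.Agent.Lib.Helper7.KADvr2
import Groth.Agent.Lib.Helper14.GeomRedAt
import Groth.Agent.Lib.Helper11.KPts2

/-!
# Openness of the locus of geometrically reduced fibres of a flat proper morphism (helper12)
-/

set_option autoImplicit false
set_option linter.style.haveILetI false
universe u
open AlgebraicGeometry CategoryTheory Limits Topology

namespace Groth.Agent.Lib.Helper12.GeomRedOpen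

open Groth.Agent.Lib.Helper12.GeomRedGen Groth.Agent.Lib.Helper12.GeomRedCons

/-- the source of a morphism with geometrically reduced fibre is reduced along that fibre -/
theorem isReduced_fiber_of_mem_E {X Y : Scheme.{u}} (f : X ⟶ Y) (y : Y) (hy : y ∈ E f) :
    IsReduced (f.fiber y) := by
  rw [mem_E] at hy
  exact hy.geometrically_isReduced (𝟙 _) (𝟙 _) _ IsPullback.of_id_fst

/-- over a field, membership in `E` is geometric reducedness -/
theorem mem_E_field {K : Type u} [Field K] {Z : Scheme.{u}} (g : Z ⟶ Spec (CommRingCat.of K))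
    [GeometricallyReduced g] (t : Spec (CommRingCat.of K)) : t ∈ E g := by
  rw [mem_E]
  infer_instance

section dvr

variable {D : Type u} [CommRing D] [IsDomain D] [IsNoetherianRing D] [IsLocalRing D]

set_option backward.isDefEq.respectTransparency false in
/-- **Key step**: over a Noetherian local domain, if the closed fibre of a flat proper morphism is
geometrically reduced then so is the generic fibre. -/
theorem generic_mem_E {X : Scheme.{u}} (f : X ⟶ Spec (CommRingCat.of D)) [Flat f] [IsProper f]
    (hcl : (IsLocalRing.closedPoint D : PrimeSpectrum D) ∈ E f) :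
    (⟨⊥, Ideal.isPrime_bot⟩ : PrimeSpectrum D) ∈ E f := by
  by_cases hfield : IsLocalRing.maximalIdeal D = ⊥
  · have : (IsLocalRing.closedPoint D : PrimeSpectrum D) = ⟨⊥, Ideal.isPrime_bot⟩ :=
      PrimeSpectrum.ext hfield
    rw [← this]
    exact hcl
  let K := FractionRing D
  let hK : Spec (CommRingCat.of K) ⟶ Spec (CommRingCat.of D) :=
    Spec.map (CommRingCat.ofHom (algebraMap D K))
  let fK : pullback f hK ⟶ Spec (CommRingCat.of K) := pullback.snd f hK
  suffices hgr : GeometricallyReduced fK by
    let t : Spec (CommRingCat.of K) := IsLocalRing.closedPoint K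
    have h1 : t ∈ E fK := mem_E_field fK t
    have h2 := (mem_E_pullback (IsPullback.of_hasPullback f hK) t).1 h1
    have h3 : hK t = (⟨⊥, Ideal.isPrime_bot⟩ : PrimeSpectrum D) := by
      apply PrimeSpectrum.ext
      show Ideal.comap (algebraMap D K) (IsLocalRing.maximalIdeal K) = ⊥
      rw [IsLocalRing.maximalIdeal_eq_bot, ← RingHom.ker_eq_comap_bot,
        (RingHom.injective_iff_ker_eq_bot _).1 (IsFractionRing.injective D K)]
    rw [h3] at h2
    exact h2
  apply Groth.Agent.Lib.Helper14.GeomRedAt.geometricallyReduced_of_forall_finite_purelyInseparable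
  intro k' _ _ _ _
  letI : Algebra D k' := ((algebraMap K k').comp (algebraMap D K)).toAlgebra
  haveI : IsScalarTower D K k' := IsScalarTower.of_algebraMap_eq (fun _ => rfl)
  have hfg : (⊤ : IntermediateField K k').FG := IntermediateField.fg_of_noetherian ⊤
  obtain ⟨R', hdvr, hR', hlt⟩ := Groth.Agent.Lib.Helper7.exists_dvr_dominating D K k' hfg
    (IsLocalRing.maximalIdeal D) hfield
  haveI : IsDiscreteValuationRing R' := hdvr
  let ψ : D →+* R' := (algebraMap D k').codRestrict R'.toSubring hR'
  let u : Spec (CommRingCat.of R') ⟶ Spec (CommRingCat.of D) := Spec.map (CommRingCat.ofHom ψ)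
  have hu : u (IsLocalRing.closedPoint R' : PrimeSpectrum R') =
      (IsLocalRing.closedPoint D : PrimeSpectrum D) := by
    apply PrimeSpectrum.ext
    show Ideal.comap ψ (IsLocalRing.maximalIdeal R') = IsLocalRing.maximalIdeal D
    apply le_antisymm
    · apply IsLocalRing.le_maximalIdeal
      exact Ideal.comap_ne_top _ (Ideal.IsPrime.ne_top inferInstance)
    · intro a ha
      show ψ a ∈ IsLocalRing.maximalIdeal R'
      have h1 := hlt a ha
      rw [IsLocalRing.mem_maximalIdeal, mem_nonunits_iff]
      exact (R'.valuation_lt_one_iff ⟨algebraMap D k' a, hR' a⟩).mpr h1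
  let fR : pullback f u ⟶ Spec (CommRingCat.of R') := pullback.snd f u
  have hclR : (IsLocalRing.closedPoint R' : PrimeSpectrum R') ∈ E fR := by
    rw [mem_E_pullback (IsPullback.of_hasPullback f u), hu]
    exact hcl
  have hred : IsReduced (fR.fiber (IsLocalRing.closedPoint R')) :=
    isReduced_fiber_of_mem_E fR _ hclR
  haveI : IsReduced (pullback f u) :=
    (Groth.Agent.Lib.Helper1.DVRFib.isReduced_total_and_generic fR hred).1
  -- the generic point of `Spec R'` is open
  let j : Spec (CommRingCat.of k') ⟶ Spec (CommRingCat.of R') :=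
    Spec.map (CommRingCat.ofHom (algebraMap R' k'))
  haveI : IsOpenImmersion j := by
    obtain ⟨ϖ, hϖ⟩ := IsDiscreteValuationRing.exists_irreducible R'
    haveI : IsLocalization.Away ϖ k' :=
      Groth.Agent.Lib.Helper1.DVRFib.isLocalization_away_of_dvr R' k' ϖ hϖ
    exact IsOpenImmersion.of_isLocalization ϖ
  let jK : Spec (CommRingCat.of k') ⟶ Spec (CommRingCat.of K) :=
    Spec.map (CommRingCat.ofHom (algebraMap K k'))
  have hcomp : jK ≫ hK = j ≫ u := by
    simp only [jK, hK, j, u, ← Spec.map_comp, ← CommRingCat.ofHom_comp]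
    rfl
  show IsReduced (pullback fK jK)
  have big : IsPullback (pullback.fst fK jK ≫ pullback.fst f hK) (pullback.snd fK jK) f
      (jK ≫ hK) :=
    (IsPullback.of_hasPullback fK jK).paste_horiz (IsPullback.of_hasPullback f hK)
  rw [hcomp] at big
  have w : (pullback.fst fK jK ≫ pullback.fst f hK) ≫ f = (pullback.snd fK jK ≫ j) ≫ u := by
    have := big.w
    simpa only [Category.assoc] using this
  have sq : IsPullback (pullback.lift _ _ w) (pullback.snd fK jK) fR j := by
    refine IsPullback.of_right ?_ (pullback.lift_snd _ _ _) (IsPullback.of_hasPullback f u)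
    rw [pullback.lift_fst]
    exact big
  haveI : IsOpenImmersion (pullback.lift _ _ w) :=
    MorphismProperty.of_isPullback (P := @IsOpenImmersion) sq.flip inferInstance
  exact isReduced_of_isOpenImmersion (pullback.lift _ _ w)

end dvr

section noeth

variable {R : Type u} [CommRing R] [IsNoetherianRing R]

set_option backward.isDefEq.respectTransparency false in
/-- the locus of geometrically reduced fibres of a flat proper morphism over a Noetherian ring is
stable under generization -/
theorem mem_E_of_specializes {X : Scheme.{u}} (f : X ⟶ Spec (CommRingCat.of R)) [Flat f]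
    [IsProper f] (y y' : PrimeSpectrum R) (h : y' ⤳ y) (hy : y ∈ E f) : y' ∈ E f := by
  have hle : y'.asIdeal ≤ y.asIdeal := (PrimeSpectrum.le_iff_specializes y' y).2 h
  let A := Localization.AtPrime y.asIdeal
  have hdisj : Disjoint (y.asIdeal.primeCompl : Set R) (y'.asIdeal : Set R) := by
    rw [Set.disjoint_left]
    intro a ha ha'
    exact ha (hle ha')
  let q' : Ideal A := Ideal.map (algebraMap R A) y'.asIdeal
  haveI hq' : q'.IsPrime :=
    IsLocalization.isPrime_of_isPrime_disjoint y.asIdeal.primeCompl A y'.asIdeal inferInstance hdisj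
  have hq'c : Ideal.comap (algebraMap R A) q' = y'.asIdeal :=
    IsLocalization.comap_map_of_isPrime_disjoint y.asIdeal.primeCompl A inferInstance hdisj
  let D := A ⧸ q'
  haveI : IsNoetherianRing A := IsLocalization.isNoetherianRing y.asIdeal.primeCompl A inferInstance
  haveI : IsNoetherianRing D := inferInstance
  haveI : IsLocalRing D :=
    IsLocalRing.of_surjective' (Ideal.Quotient.mk q') Ideal.Quotient.mk_surjective
  let ψ : R →+* D := (Ideal.Quotient.mk q').comp (algebraMap R A)
  let g : Spec (CommRingCat.of D) ⟶ Spec (CommRingCat.of R) := Spec.map (CommRingCat.ofHom ψ)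
  have hg1 : g (IsLocalRing.closedPoint D : PrimeSpectrum D) = y := by
    apply PrimeSpectrum.ext
    show Ideal.comap ψ (IsLocalRing.maximalIdeal D) = y.asIdeal
    rw [← Ideal.comap_comap]
    have h1 : Ideal.comap (Ideal.Quotient.mk q') (IsLocalRing.maximalIdeal D) =
        IsLocalRing.maximalIdeal A := by
      apply IsLocalRing.eq_maximalIdeal
      exact Ideal.comap_isMaximal_of_surjective _ Ideal.Quotient.mk_surjective
    rw [h1]
    exact Localization.AtPrime.comap_maximalIdeal (I := y.asIdeal)
  have hg2 : g (⟨⊥, Ideal.isPrime_bot⟩ : PrimeSpectrum D) = y' := by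
    apply PrimeSpectrum.ext
    show Ideal.comap ψ ⊥ = y'.asIdeal
    rw [← Ideal.comap_comap, ← RingHom.ker_eq_comap_bot, Ideal.mk_ker, hq'c]
  have hsq := IsPullback.of_hasPullback f g
  have hcl : (IsLocalRing.closedPoint D : PrimeSpectrum D) ∈ E (pullback.snd f g) := by
    rw [mem_E_pullback hsq, hg1]
    exact hy
  have hgen := generic_mem_E (pullback.snd f g) hcl
  rw [mem_E_pullback hsq, hg2] at hgen
  exact hgen

/-- Noetherian affine base: the locus is open. -/
theorem isOpen_E_spec {X : Scheme.{u}} (f : X ⟶ Spec (CommRingCat.of R)) [Flat f] [IsProper f] :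
    IsOpen (E f) := by
  haveI : IsNoetherian (Spec (CommRingCat.of R)) := inferInstance
  have hc : IsConstructible (E f) := isConstructible_E_noetherian f
  refine PrimeSpectrum.isOpen_of_stableUnderGeneralization_of_isConstructible (R := R) ?_ hc
  intro y y' h hy
  exact mem_E_of_specializes f y y' h hy

end noeth

/-- Noetherian affine base scheme. -/
theorem isOpen_E_of_isNoetherian {X S : Scheme.{u}} [IsAffine S] [IsNoetherian S] (f : X ⟶ S)
    [Flat f] [IsProper f] : IsOpen (E f) := by
  haveI : IsNoetherianRing Γ(S, ⊤) :=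
    IsLocallyNoetherian.component_noetherian ⟨⊤, isAffineOpen_top S⟩
  have h1 : IsOpen (E (f ≫ S.isoSpec.hom)) := isOpen_E_spec (R := Γ(S, ⊤)) (f ≫ S.isoSpec.hom)
  have hsq : IsPullback (𝟙 X) f (f ≫ S.isoSpec.hom) S.isoSpec.hom :=
    IsPullback.of_horiz_isIso ⟨by simp⟩
  have h2 : E f = S.isoSpec.hom ⁻¹' E (f ≫ S.isoSpec.hom) := by
    ext y
    exact mem_E_pullback hsq y
  rw [h2]
  exact h1.preimage S.isoSpec.hom.continuous

/-- **Openness of the locus of geometrically reduced fibres** for a flat proper morphism of finite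
presentation. -/
theorem isOpen_E {X Y : Scheme.{u}} (f : X ⟶ Y) [Flat f] [IsProper f]
    [LocallyOfFinitePresentation f] : IsOpen (E f) := by
  rw [isOpen_iff_forall_mem_open]
  intro y hy
  obtain ⟨_, ⟨V, hV, rfl⟩, hyV, -⟩ :=
    Y.isBasis_affineOpens.exists_subset_of_mem_open (Set.mem_univ y) isOpen_univ
  obtain ⟨V, rfl⟩ : ∃ V' : Y.Opens, V' = V := ⟨V, rfl⟩
  let h : pullback f V.ι ⟶ V.toScheme := pullback.snd f V.ι
  obtain ⟨S₀, X₀, f₀, g, g', hS₀, hN, hsq, _, _, _⟩ :=
    Groth.Agent.Lib.Helper12.FlatProperApprox.exists_model V hV h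
  have h1 : IsOpen (E f₀) := isOpen_E_of_isNoetherian f₀
  have h2 : E h = g ⁻¹' E f₀ := by
    ext z
    exact mem_E_pullback hsq z
  have h3 : V.ι ⁻¹' E f = E h := by
    ext z
    exact (mem_E_pullback (IsPullback.of_hasPullback f V.ι) z).symm
  have h4 : IsOpen (V.ι ⁻¹' E f) := by
    rw [h3, h2]
    exact h1.preimage g.continuous
  refine ⟨V.ι '' (V.ι ⁻¹' E f), Set.image_preimage_subset _ _,
    V.ι.isOpenEmbedding.isOpenMap _ h4, ⟨⟨y, hyV⟩, hy, rfl⟩⟩

end Groth.Agent.Lib.Helper12.GeomRedOpen
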