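import Mathlib
import Groth.Prelude
import Groth.Agent.S1335
import Groth.Agent.S1364
import Groth.Agent.Lib.Helper12.GeomRedOpen
import Groth.Agent.Lib.Helper12.FlatClosureDVR

set_option autoImplicit false
set_option linter.style.haveILetI false
universe u
open CategoryTheory CategoryTheory.Limits AlgebraicGeometry TopologicalSpace Topology

namespace Groth.Agent.Lib.Helper12.ConnDVR

open Groth.Agent.Lib.Helper12.GeomRedGen Groth.Agent.Lib.Helper12.GeomRedOpen
open Groth.Agent.Lib.Helper12.FlatClosureDVR

section fibremap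

variable {W' W S : Scheme.{u}} (i : W' ⟶ W) (g : W ⟶ S) (p : S)

/-- the map induced on the fibres over `p` by a morphism over `S` -/
noncomputable def fibMap : pullback (i ≫ g) (S.fromSpecResidueField p) ⟶
    pullback g (S.fromSpecResidueField p) :=
  pullback.map (i ≫ g) (S.fromSpecResidueField p) g (S.fromSpecResidueField p) i (𝟙 _) (𝟙 _)
    (by simp) (by simp)

theorem fibMap_fst : fibMap i g p ≫ pullback.fst g (S.fromSpecResidueField p) =
    pullback.fst (i ≫ g) (S.fromSpecResidueField p) ≫ i := by
  unfold fibMap pullback.map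
  rw [pullback.lift_fst]

theorem fibMap_snd : fibMap i g p ≫ pullback.snd g (S.fromSpecResidueField p) =
    pullback.snd (i ≫ g) (S.fromSpecResidueField p) := by
  unfold fibMap pullback.map
  rw [pullback.lift_snd, Category.comp_id]

theorem isPullback_fibMap : IsPullback (pullback.fst (i ≫ g) (S.fromSpecResidueField p))
    (fibMap i g p) i (pullback.fst g (S.fromSpecResidueField p)) := by
  refine IsPullback.of_bot ?_ (fibMap_fst i g p).symm (IsPullback.of_hasPullback g _)
  rw [fibMap_snd]
  exact IsPullback.of_hasPullback (i ≫ g) _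

theorem nGeomConnComp_eq_of_isIso [IsIso (fibMap i g p)] :
    MoreMor.nGeomConnComp (i ≫ g) p = MoreMor.nGeomConnComp g p := by
  obtain ⟨pt⟩ : Nonempty (Spec (S.residueField p)) := inferInstance
  have hpt : (S.fromSpecResidueField p) pt = p := Scheme.fromSpecResidueField_apply _ _
  have h1 := Groth.Agent.S1335.result (i ≫ g) (pullback.snd (i ≫ g) (S.fromSpecResidueField p))
    (pullback.fst _ _) (S.fromSpecResidueField p) (IsPullback.of_hasPullback _ _) pt
  have h2 := Groth.Agent.S1335.result g (pullback.snd g (S.fromSpecResidueField p))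
    (pullback.fst _ _) (S.fromSpecResidueField p) (IsPullback.of_hasPullback _ _) pt
  have h3 := Groth.Agent.S1335.result (pullback.snd g (S.fromSpecResidueField p))
    (pullback.snd (i ≫ g) (S.fromSpecResidueField p)) (fibMap i g p) (𝟙 _)
    (IsPullback.of_horiz_isIso ⟨by rw [fibMap_snd, Category.comp_id]⟩) pt
  rw [hpt] at h1 h2
  rw [← h1, ← h2, h3]
  rfl

theorem mem_E_of_isIso [IsIso (fibMap i g p)] (h : p ∈ E g) : p ∈ E (i ≫ g) := by
  rw [mem_E] at h ⊢
  change GeometricallyReduced (pullback.snd g (S.fromSpecResidueField p)) at h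
  change GeometricallyReduced (pullback.snd (i ≫ g) (S.fromSpecResidueField p))
  rw [← fibMap_snd i g p]
  haveI : MorphismProperty.RespectsIso @GeometricallyReduced.{u} :=
    MorphismProperty.IsStableUnderBaseChange.respectsIso
  exact (MorphismProperty.cancel_left_of_respectsIso @GeometricallyReduced.{u} _ _).mpr h

theorem isIso_fibMap_of_surjective [IsClosedImmersion i] [Surjective i] (hred : p ∈ E g) :
    IsIso (fibMap i g p) := by
  have sq := isPullback_fibMap i g p
  haveI : IsClosedImmersion (fibMap i g p) :=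
    MorphismProperty.of_isPullback (P := @IsClosedImmersion) sq inferInstance
  haveI : Surjective (fibMap i g p) :=
    MorphismProperty.of_isPullback (P := @Surjective) sq inferInstance
  haveI : IsReduced (pullback g (S.fromSpecResidueField p)) := isReduced_fiber_of_mem_E g p hred
  exact isIso_of_isClosedImmersion_of_surjective _

end fibremap

section dvr

variable {R : Type u} [CommRing R] [IsDomain R] [IsDiscreteValuationRing R]
  {W : Scheme.{u}} (g : W ⟶ Spec (CommRingCat.of R))

omit [IsDomain R] [IsDiscreteValuationRing R] in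
theorem range_imageι (ϖ : R) [QuasiCompact (genOpen g ϖ).ι] :
    Set.range (genOpen g ϖ).ι.imageι = closure (genOpen g ϖ : Set W) := by
  rw [Scheme.IdealSheafData.range_subschemeι, Scheme.Hom.support_ker, Scheme.Opens.range_ι]

theorem surjective_imageι (ϖ : R) (hϖ : Irreducible ϖ) [QuasiCompact (genOpen g ϖ).ι]
    (hopen : ∀ w : W, g w = (IsLocalRing.closedPoint R : PrimeSpectrum R) →
      EGA43.IsOpenAt g.base w) :
    Surjective (genOpen g ϖ).ι.imageι := by
  constructor
  intro w
  show w ∈ Set.range _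
  rw [range_imageι]
  by_cases hw : w ∈ genOpen g ϖ
  · exact subset_closure hw
  · rw [mem_genOpen_iff, not_not] at hw
    have hgw : g w = (IsLocalRing.closedPoint R : PrimeSpectrum R) := by
      apply PrimeSpectrum.ext
      show (g w : PrimeSpectrum R).asIdeal = IsLocalRing.maximalIdeal R
      have hne : (g w : PrimeSpectrum R).asIdeal ≠ ⊥ := fun h =>
        hϖ.ne_zero (by rw [h] at hw; exact hw)
      exact IsLocalRing.eq_maximalIdeal ((g w : PrimeSpectrum R).isPrime.isMaximal hne)
    rw [mem_closure_iff_nhds]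
    intro N hN
    have h1 := hopen w hgw N hN
    have hspec : (⟨⊥, Ideal.isPrime_bot⟩ : PrimeSpectrum R) ⤳ (g w : PrimeSpectrum R) :=
      (PrimeSpectrum.le_iff_specializes (⟨⊥, Ideal.isPrime_bot⟩ : PrimeSpectrum R)
        (g w : PrimeSpectrum R)).mp (show (⊥ : Ideal R) ≤ _ from bot_le)
    have h2 : (⟨⊥, Ideal.isPrime_bot⟩ : PrimeSpectrum R) ∈ g.base '' N :=
      mem_of_mem_nhds ((Filter.le_def.mp hspec) _ h1)
    obtain ⟨n, hnN, hn⟩ := h2
    refine ⟨n, hnN, ?_⟩
    show n ∈ genOpen g ϖ
    rw [mem_genOpen_iff]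
    have : (g n : PrimeSpectrum R) = ⟨⊥, Ideal.isPrime_bot⟩ := hn
    rw [this]
    exact hϖ.ne_zero

theorem isIso_fibMap_generic (ϖ : R) (hϖ : Irreducible ϖ) [QuasiCompact (genOpen g ϖ).ι] :
    IsIso (fibMap (genOpen g ϖ).ι.imageι g (⟨⊥, Ideal.isPrime_bot⟩ : PrimeSpectrum R)) := by
  obtain ⟨η, hη⟩ : ∃ η : Spec (CommRingCat.of R), η = (⟨⊥, Ideal.isPrime_bot⟩ : PrimeSpectrum R) :=
    ⟨_, rfl⟩
  rw [← hη]
  obtain ⟨σ, hσ⟩ : ∃ σ, σ = (Spec (CommRingCat.of R)).fromSpecResidueField η := ⟨_, rfl⟩
  have hrange : Set.range (pullback.fst g σ) ⊆ Set.range (genOpen g ϖ).ι := by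
    rintro _ ⟨x, rfl⟩
    rw [Scheme.Opens.range_ι]
    show pullback.fst g σ x ∈ genOpen g ϖ
    rw [mem_genOpen_iff]
    have h1 : g (pullback.fst g σ x) = η := by
      rw [← Scheme.Hom.comp_apply, pullback.condition, Scheme.Hom.comp_apply]
      have h2 : ∀ z, σ z = η := fun z => by
        rw [hσ]
        exact Scheme.fromSpecResidueField_apply _ _
      exact h2 _
    rw [h1, hη]
    exact hϖ.ne_zero
  let a : pullback g σ ⟶ (genOpen g ϖ).toScheme :=
    IsOpenImmersion.lift (genOpen g ϖ).ι (pullback.fst g σ) hrange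
  have ha : a ≫ (genOpen g ϖ).ι = pullback.fst g σ := IsOpenImmersion.lift_fac _ _ _
  let sec : pullback g σ ⟶ pullback ((genOpen g ϖ).ι.imageι ≫ g) σ :=
    pullback.lift (a ≫ (genOpen g ϖ).ι.toImage) (pullback.snd g σ) (by
      rw [Category.assoc, ← Category.assoc _ _ g, Scheme.Hom.toImage_imageι, ← Category.assoc, ha,
        pullback.condition])
  subst hσ
  have hsec : sec ≫ fibMap _ g η = 𝟙 _ := by
    apply pullback.hom_ext
    · rw [Category.assoc, fibMap_fst, pullback.lift_fst_assoc, Category.assoc,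
        Scheme.Hom.toImage_imageι, ha, Category.id_comp]
    · rw [Category.assoc, fibMap_snd, pullback.lift_snd, Category.id_comp]
  haveI : IsClosedImmersion (fibMap (genOpen g ϖ).ι.imageι g η) :=
    MorphismProperty.of_isPullback (P := @IsClosedImmersion) (isPullback_fibMap _ g η) inferInstance
  haveI : IsSplitEpi (fibMap (genOpen g ϖ).ι.imageι g η) := IsSplitEpi.mk' ⟨sec, hsec⟩
  exact isIso_of_mono_of_isSplitEpi _

/-- **DVR case**: for a proper morphism to the spectrum of a discrete valuation ring which is open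
at the points of the closed fibre, and whose closed fibre is geometrically reduced, the generic and
closed fibres have the same geometric number of connected components. -/
theorem nGeomConnComp_generic_eq_closed [IsProper g]
    (hopen : ∀ w : W, g w = (IsLocalRing.closedPoint R : PrimeSpectrum R) →
      EGA43.IsOpenAt g.base w)
    (hred : (IsLocalRing.closedPoint R : PrimeSpectrum R) ∈ E g) :
    MoreMor.nGeomConnComp g (⟨⊥, Ideal.isPrime_bot⟩ : PrimeSpectrum R) =
      MoreMor.nGeomConnComp g (IsLocalRing.closedPoint R : PrimeSpectrum R) := by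
  obtain ⟨ϖ, hϖ⟩ := IsDiscreteValuationRing.exists_irreducible R
  haveI : IsLocallyNoetherian W := LocallyOfFiniteType.isLocallyNoetherian g
  haveI : QuasiCompact (genOpen g ϖ).ι := inferInstance
  have hsurj := surjective_imageι g ϖ hϖ hopen
  have hflat := flat_image g ϖ hϖ
  have hisoη := isIso_fibMap_generic g ϖ hϖ
  obtain ⟨W', i, hcl, hsurj, hflat, hisoη⟩ : ∃ (W' : Scheme.{u}) (i : W' ⟶ W),
      IsClosedImmersion i ∧ Surjective i ∧ Flat (i ≫ g) ∧
      IsIso (fibMap i g (⟨⊥, Ideal.isPrime_bot⟩ : PrimeSpectrum R)) :=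
    ⟨_, (genOpen g ϖ).ι.imageι, inferInstance, hsurj, hflat, hisoη⟩
  haveI : IsProper (i ≫ g) := inferInstance
  haveI : LocallyOfFinitePresentation (i ≫ g) := by
    rw [HasRingHomProperty.iff_appLE (P := @LocallyOfFinitePresentation)]
    intro V U e
    haveI : IsNoetherianRing Γ(Spec (CommRingCat.of R), V.1) :=
      IsLocallyNoetherian.component_noetherian V
    exact RingHom.FinitePresentation.of_finiteType.mp
      (HasRingHomProperty.appLE (P := @LocallyOfFiniteType) (i ≫ g) inferInstance V U e)
  haveI hisos : IsIso (fibMap i g (IsLocalRing.closedPoint R : PrimeSpectrum R)) :=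
    isIso_fibMap_of_surjective i g _ hred
  have hE : ∀ p : PrimeSpectrum R, p ∈ E (i ≫ g) := fun p =>
    mem_E_of_specializes (i ≫ g) (IsLocalRing.closedPoint R) p
      (IsLocalRing.specializes_closedPoint p) (mem_E_of_isIso i g _ hred)
  haveI : GeometricallyReduced (i ≫ g) := by
    rw [geometricallyReduced_iff, geometrically_iff_forall_fiberToSpecResidueField]
    intro u
    have h1 : GeometricallyReduced ((i ≫ g).fiberToSpecResidueField u) := hE u
    rw [geometricallyReduced_iff] at h1
    exact h1
  have hlc := Groth.Agent.S1364.result (i ≫ g)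
  have hopenset : IsOpen {u : Spec (CommRingCat.of R) | MoreMor.nGeomConnComp (i ≫ g) u =
      MoreMor.nGeomConnComp (i ≫ g) (IsLocalRing.closedPoint R : PrimeSpectrum R)} :=
    hlc.isOpen_fiber _
  have hmem := (IsLocalRing.specializes_closedPoint
    (⟨⊥, Ideal.isPrime_bot⟩ : PrimeSpectrum R)).mem_open hopenset rfl
  rw [← nGeomConnComp_eq_of_isIso i g (⟨⊥, Ideal.isPrime_bot⟩ : PrimeSpectrum R),
    ← nGeomConnComp_eq_of_isIso i g (IsLocalRing.closedPoint R : PrimeSpectrum R)]
  exact hmem

end dvr

end Groth.Agent.Lib.Helper12.ConnDVR
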