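import Mathlib
import Groth.Agent.Lib.Helper7.KADvr2

/-!
# Dominating a specialization in a locally Noetherian scheme by a discrete valuation ring (helper12)
-/

set_option autoImplicit false
set_option linter.style.haveILetI false
universe u
open CategoryTheory CategoryTheory.Limits AlgebraicGeometry TopologicalSpace Topology

namespace Groth.Agent.Lib.Helper12.DvrCurve

/-- A proper specialization `z ⤳ y` in the spectrum of a Noetherian ring is the image of the
(generic point ⤳ closed point) of a discrete valuation ring. -/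
theorem exists_dvr_spec {A : Type u} [CommRing A] [IsNoetherianRing A] (y z : PrimeSpectrum A)
    (h : z ⤳ y) (hne : z ≠ y) :
    ∃ (R : Type u) (_ : CommRing R) (_ : IsDomain R) (_ : IsDiscreteValuationRing R)
      (ψ : A →+* R),
      Ideal.comap ψ (IsLocalRing.maximalIdeal R) = y.asIdeal ∧ RingHom.ker ψ = z.asIdeal := by
  have hle : z.asIdeal ≤ y.asIdeal := (PrimeSpectrum.le_iff_specializes z y).2 h
  let A' := Localization.AtPrime y.asIdeal
  have hdisj : Disjoint (y.asIdeal.primeCompl : Set A) (z.asIdeal : Set A) := by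
    rw [Set.disjoint_left]
    intro a ha ha'
    exact ha (hle ha')
  let q' : Ideal A' := Ideal.map (algebraMap A A') z.asIdeal
  haveI hq' : q'.IsPrime :=
    IsLocalization.isPrime_of_isPrime_disjoint y.asIdeal.primeCompl A' z.asIdeal inferInstance hdisj
  have hq'c : Ideal.comap (algebraMap A A') q' = z.asIdeal :=
    IsLocalization.comap_map_of_isPrime_disjoint y.asIdeal.primeCompl A' inferInstance hdisj
  let D := A' ⧸ q'
  haveI : IsNoetherianRing A' :=
    IsLocalization.isNoetherianRing y.asIdeal.primeCompl A' inferInstance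
  haveI : IsNoetherianRing D := inferInstance
  haveI : IsDomain D := Ideal.Quotient.isDomain q'
  haveI : IsLocalRing D :=
    IsLocalRing.of_surjective' (Ideal.Quotient.mk q') Ideal.Quotient.mk_surjective
  let ψ₀ : A →+* D := (Ideal.Quotient.mk q').comp (algebraMap A A')
  have h1 : Ideal.comap ψ₀ (IsLocalRing.maximalIdeal D) = y.asIdeal := by
    rw [← Ideal.comap_comap]
    have h1 : Ideal.comap (Ideal.Quotient.mk q') (IsLocalRing.maximalIdeal D) =
        IsLocalRing.maximalIdeal A' := by
      apply IsLocalRing.eq_maximalIdeal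
      exact Ideal.comap_isMaximal_of_surjective _ Ideal.Quotient.mk_surjective
    rw [h1]
    exact Localization.AtPrime.comap_maximalIdeal (I := y.asIdeal)
  have h2 : Ideal.comap ψ₀ ⊥ = z.asIdeal := by
    rw [← Ideal.comap_comap, ← RingHom.ker_eq_comap_bot, Ideal.mk_ker, hq'c]
  have hfield : IsLocalRing.maximalIdeal D ≠ ⊥ := by
    intro hbot
    apply hne
    apply PrimeSpectrum.ext
    rw [← h1, ← h2, hbot]
  let K := FractionRing D
  have hfg : (⊤ : IntermediateField K K).FG := IntermediateField.fg_of_noetherian ⊤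
  obtain ⟨R', hdvr, hR', hlt⟩ := Groth.Agent.Lib.Helper7.exists_dvr_dominating D K K hfg
    (IsLocalRing.maximalIdeal D) hfield
  haveI : IsDiscreteValuationRing R' := hdvr
  let ψ₁ : D →+* R' := (algebraMap D K).codRestrict R'.toSubring hR'
  have hψ₁inj : Function.Injective ψ₁ := by
    intro a b hab
    apply IsFractionRing.injective D K
    exact congrArg Subtype.val hab
  have hc : Ideal.comap ψ₁ (IsLocalRing.maximalIdeal R') = IsLocalRing.maximalIdeal D := by
    apply le_antisymm
    · apply IsLocalRing.le_maximalIdeal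
      exact Ideal.comap_ne_top _ (Ideal.IsPrime.ne_top inferInstance)
    · intro a ha
      show ψ₁ a ∈ IsLocalRing.maximalIdeal R'
      have h1 := hlt a ha
      rw [IsLocalRing.mem_maximalIdeal, mem_nonunits_iff]
      exact (R'.valuation_lt_one_iff ⟨algebraMap D K a, hR' a⟩).mpr h1
  refine ⟨R', inferInstance, inferInstance, hdvr, ψ₁.comp ψ₀, ?_, ?_⟩
  · rw [← Ideal.comap_comap, hc, h1]
  · rw [RingHom.ker_eq_comap_bot, ← Ideal.comap_comap, ← RingHom.ker_eq_comap_bot ψ₁,
      (RingHom.injective_iff_ker_eq_bot ψ₁).mp hψ₁inj, h2]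

/-- A proper specialization `z ⤳ y` in a locally Noetherian scheme is the image of the
(generic point ⤳ closed point) of the spectrum of a discrete valuation ring. -/
theorem exists_dvr_scheme {Y : Scheme.{u}} [IsLocallyNoetherian Y] (y z : Y) (h : z ⤳ y)
    (hne : z ≠ y) :
    ∃ (R : Type u) (_ : CommRing R) (_ : IsDomain R) (_ : IsDiscreteValuationRing R)
      (γ : Spec (CommRingCat.of R) ⟶ Y),
      γ (IsLocalRing.closedPoint R : PrimeSpectrum R) = y ∧
        γ (⟨⊥, Ideal.isPrime_bot⟩ : PrimeSpectrum R) = z := by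
  obtain ⟨_, ⟨V, hV0, rfl⟩, hyV, -⟩ := Y.isBasis_affineOpens.exists_subset_of_mem_open
    (Set.mem_univ y) isOpen_univ
  obtain ⟨V, rfl⟩ : ∃ V' : Y.Opens, V' = V := ⟨V, rfl⟩
  have hV : IsAffineOpen V := hV0
  have hzV : z ∈ V := h.mem_open V.2 hyV
  have hemb : Topology.IsOpenEmbedding hV.fromSpec := hV.fromSpec.isOpenEmbedding
  have hrange : Set.range hV.fromSpec = (V : Set Y) := hV.range_fromSpec
  obtain ⟨py, hpy⟩ : y ∈ Set.range hV.fromSpec := by rw [hrange]; exact hyV
  obtain ⟨pz, hpz⟩ : z ∈ Set.range hV.fromSpec := by rw [hrange]; exact hzV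
  have hspec : pz ⤳ py := by
    rw [← hemb.isInducing.specializes_iff, hpy, hpz]
    exact h
  have hne' : pz ≠ py := fun e => hne (by rw [← hpy, ← hpz, e])
  haveI : IsNoetherianRing Γ(Y, V) := IsLocallyNoetherian.component_noetherian ⟨V, hV⟩
  obtain ⟨R, i1, i2, i3, ψ, h1, h2⟩ := exists_dvr_spec (A := Γ(Y, V)) py pz hspec hne'
  have key : ∀ p : Spec (CommRingCat.of R), (Spec.map (CommRingCat.ofHom ψ) ≫ hV.fromSpec) p =
      hV.fromSpec (Spec.map (CommRingCat.ofHom ψ) p) := fun p => Scheme.Hom.comp_apply _ _ _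
  refine ⟨R, i1, i2, i3, Spec.map (CommRingCat.ofHom ψ) ≫ hV.fromSpec, ?_, ?_⟩
  · refine (key _).trans ?_
    rw [← hpy]
    congr 1
    exact PrimeSpectrum.ext h1
  · refine (key _).trans ?_
    rw [← hpz]
    congr 1
    apply PrimeSpectrum.ext
    rw [← h2, RingHom.ker_eq_comap_bot]
    rfl

end Groth.Agent.Lib.Helper12.DvrCurve
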