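import Mathlib
import Groth.Agent.Lib.Helper28.GenFibreAlg

/-!
# Generic quasi-separatedness (helper12)

A quasi-compact morphism locally of finite type to an integral scheme is quasi-separated over a
nonempty open of the target.
-/

set_option autoImplicit false
universe u

open AlgebraicGeometry CategoryTheory Limits TopologicalSpace nonZeroDivisors

namespace Groth.Agent.Lib.Helper12.GenQS

open Groth.Agent.Lib.Helper28.GenFree Groth.Agent.Lib.Helper28.GenFibre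

/-- Over a domain `A`, any subset `S` of a finite type algebra `B` is, after inverting one nonzero
element of `A`, contained in the ideal spanned by a finite subset of `S`. -/
theorem exists_finset_away {A B : Type u} [CommRing A] [IsDomain A] [CommRing B] [Algebra A B]
    [Algebra.FiniteType A B] (S : Set B) :
    ∃ (T : Finset B) (f : A), (T : Set B) ⊆ S ∧ f ≠ 0 ∧
      ∀ x ∈ S, ∃ k : ℕ, f ^ k • x ∈ Ideal.span (T : Set B) := by
  classical
  haveI : IsNoetherianRing (Localization (pR A B)) := isNoetherianRing_pR_finiteType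
  obtain ⟨J', hJ'le, hJ'fg, hJ'tors⟩ :=
    exists_fg_le (R := A) (S' := B) (E := B) (Ideal.span S)
  obtain ⟨T', hT'⟩ := hJ'fg
  have h1 : ∀ t ∈ T', ∃ T : Finset B, (T : Set B) ⊆ S ∧ t ∈ Ideal.span (T : Set B) := by
    intro t ht
    have : t ∈ Ideal.span S := hJ'le (hT' ▸ Submodule.subset_span ht)
    exact Submodule.mem_span_finite_of_mem_span this
  choose! T hTS hT using h1
  let T₀ : Finset B := T'.biUnion T
  have hJ'T₀ : J' ≤ Ideal.span (T₀ : Set B) := by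
    rw [← hT', Submodule.span_le]
    intro t ht
    refine Ideal.span_mono ?_ (hT t ht)
    intro x hx
    exact Finset.mem_coe.2 (Finset.mem_biUnion.2 ⟨t, ht, hx⟩)
  obtain ⟨f, hf, hft⟩ := exists_torsionFree_away (A := A) (B := B) (B ⧸ Ideal.span (T₀ : Set B))
  refine ⟨T₀, f, ?_, hf, fun x hx => ?_⟩
  · intro x hx
    obtain ⟨t, ht, hxt⟩ := Finset.mem_biUnion.1 (Finset.mem_coe.1 hx)
    exact hTS t ht hxt
  · obtain ⟨r, hr, hrx⟩ := hJ'tors x (Ideal.subset_span hx)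
    have hmk : ∀ (c : A) (y : B), c • (Ideal.Quotient.mk (Ideal.span (T₀ : Set B)) y) =
        Ideal.Quotient.mk (Ideal.span (T₀ : Set B)) (c • y) := fun c y =>
      (map_smul (Ideal.Quotient.mkₐ A (Ideal.span (T₀ : Set B))) c y).symm
    have h0 : r • (Ideal.Quotient.mk (Ideal.span (T₀ : Set B)) x) = 0 := by
      rw [hmk, Ideal.Quotient.eq_zero_iff_mem]
      exact hJ'T₀ hrx
    obtain ⟨k, hk⟩ := hft r _ (nonZeroDivisors.ne_zero hr) h0
    refine ⟨k, ?_⟩
    rw [hmk, Ideal.Quotient.eq_zero_iff_mem] at hk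
    exact hk

section Scheme

variable {X S : Scheme.{u}} (h : X ⟶ S)

/-- if a section in the ideal spanned by `T` does not vanish at `x`, some element of `T` does not
vanish at `x` -/
lemma exists_mem_basicOpen_of_mem_span {W : X.Opens} (T : Set Γ(X, W)) (y : Γ(X, W))
    (hy : y ∈ Ideal.span T) (x : X) (hx : x ∈ X.basicOpen y) : ∃ t ∈ T, x ∈ X.basicOpen t := by
  by_contra hcon
  push Not at hcon
  have hxW : x ∈ W := X.basicOpen_le y hx
  let I : Ideal Γ(X, W) := Ideal.comap (X.presheaf.germ W x hxW).hom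
    (IsLocalRing.maximalIdeal (X.presheaf.stalk x))
  have hI : ∀ z : Γ(X, W), z ∈ I ↔ x ∉ X.basicOpen z := by
    intro z
    rw [Scheme.mem_basicOpen _ _ _ hxW]
    exact Iff.rfl
  have hT : T ⊆ I := fun t ht => (hI t).2 (hcon t ht)
  have : y ∈ I := Ideal.span_le.2 hT hy
  exact (hI y).1 this hx

theorem exists_isCompact_inter [LocallyOfFiniteType h] {W₀ : S.Opens} (hW₀ : IsAffineOpen W₀)
    [IsDomain Γ(S, W₀)] {W : X.Opens} (hW : IsAffineOpen W) (e : W ≤ h ⁻¹ᵁ W₀) (U : X.Opens)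
    (hU : U ≤ W) :
    ∃ r : Γ(S, W₀), r ≠ 0 ∧ ∀ r' : Γ(S, W₀), r ∣ r' →
      IsCompact ((U : Set X) ∩ (h ⁻¹ᵁ S.basicOpen r' : Set X)) := by
  classical
  let φ := h.appLE W₀ W e
  letI : Algebra Γ(S, W₀) Γ(X, W) := φ.hom.toAlgebra
  haveI : Algebra.FiniteType Γ(S, W₀) Γ(X, W) := h.finiteType_appLE hW₀ hW e
  obtain ⟨T, f, hTS, hf, hT⟩ := exists_finset_away (A := Γ(S, W₀)) (B := Γ(X, W))
    {b : Γ(X, W) | X.basicOpen b ≤ U}
  refine ⟨f, hf, fun r' hr' => ?_⟩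
  have hb : ∀ c : Γ(S, W₀), X.basicOpen (φ.hom c) = W ⊓ h ⁻¹ᵁ S.basicOpen c :=
    fun c => Scheme.basicOpen_appLE h W W₀ e c
  have heq : (U : Set X) ∩ (h ⁻¹ᵁ S.basicOpen r' : Set X) =
      ⋃ t ∈ T, (X.basicOpen (t * φ.hom r') : Set X) := by
    ext x
    simp only [Set.mem_inter_iff, Set.mem_iUnion, SetLike.mem_coe, exists_prop]
    constructor
    · rintro ⟨hxU, hxr'⟩
      obtain ⟨b, hbU, hxb⟩ := hW.exists_basicOpen_le (V := U) ⟨x, hxU⟩ (hU hxU)
      obtain ⟨k, hk⟩ := hT b hbU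
      have hxφr' : x ∈ X.basicOpen (φ.hom r') := by
        rw [hb]; exact ⟨hU hxU, hxr'⟩
      have hxφf : x ∈ X.basicOpen (φ.hom f) := by
        obtain ⟨c, rfl⟩ := hr'
        rw [map_mul, Scheme.basicOpen_mul] at hxφr'
        exact hxφr'.1
      have hxy : x ∈ X.basicOpen (f ^ k • b) := by
        rw [Algebra.smul_def, Scheme.basicOpen_mul]
        refine ⟨?_, hxb⟩
        show x ∈ X.basicOpen (φ.hom (f ^ k))
        rw [map_pow]
        rcases Nat.eq_zero_or_pos k with rfl | hk0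
        · rw [pow_zero, Scheme.basicOpen_of_isUnit _ isUnit_one]
          exact hU hxU
        · rw [Scheme.basicOpen_pow _ _ hk0]
          exact hxφf
      obtain ⟨t, ht, hxt⟩ := exists_mem_basicOpen_of_mem_span (T : Set Γ(X, W)) _ hk x hxy
      refine ⟨t, ht, ?_⟩
      rw [Scheme.basicOpen_mul]
      exact ⟨hxt, hxφr'⟩
    · rintro ⟨t, ht, hx⟩
      rw [Scheme.basicOpen_mul] at hx
      refine ⟨hTS ht hx.1, ?_⟩
      have := hx.2
      rw [hb] at this
      exact this.2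
  rw [heq]
  exact T.isCompact_biUnion fun t _ => (hW.basicOpen _).isCompact

/-- **Generic quasi-separatedness.** -/
theorem generic_quasiSeparated [IsIntegral S] [LocallyOfFiniteType h] [QuasiCompact h] :
    ∃ V : S.Opens, (V : Set S).Nonempty ∧ QuasiSeparated (h ∣_ V) := by
  classical
  obtain ⟨x₀⟩ : Nonempty S := inferInstance
  obtain ⟨_, ⟨W₀, hW₀, rfl⟩, hx₀W₀, -⟩ :=
    S.isBasis_affineOpens.exists_subset_of_mem_open (Set.mem_univ x₀) isOpen_univ
  obtain ⟨W₀, rfl⟩ : ∃ W' : S.Opens, W' = W₀ := ⟨W₀, rfl⟩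
  haveI : Nonempty W₀ := ⟨⟨x₀, hx₀W₀⟩⟩
  have hcomp : IsCompact (h ⁻¹ᵁ W₀ : Set X) := h.isCompact_preimage hW₀.isCompact
  obtain ⟨s, hs, hcover⟩ := isCompact_iff_finite_and_eq_biUnion_affineOpens.mp hcomp
  have hle : ∀ W ∈ s, (W : X.Opens) ≤ h ⁻¹ᵁ W₀ := by
    intro W hW
    rw [hcover]
    exact le_iSup₂ (f := fun (i : X.affineOpens) (_ : i ∈ s) => (i : X.Opens)) W hW
  have hex : ∀ p : X.affineOpens × X.affineOpens, ∃ r : Γ(S, W₀), r ≠ 0 ∧
      (p.1 ∈ s → p.2 ∈ s → ∀ r' : Γ(S, W₀), r ∣ r' →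
        IsCompact (((p.1 : X.Opens) ⊓ (p.2 : X.Opens) : X.Opens) ∩
          (h ⁻¹ᵁ S.basicOpen r' : Set X))) := by
    intro p
    by_cases hp : p.1 ∈ s
    · obtain ⟨r, hr, hrc⟩ := exists_isCompact_inter h hW₀ p.1.2 (hle p.1 hp)
        ((p.1 : X.Opens) ⊓ (p.2 : X.Opens)) inf_le_left
      exact ⟨r, hr, fun _ _ => hrc⟩
    · exact ⟨1, one_ne_zero, fun h1 => absurd h1 hp⟩
  choose r hr hrc using hex
  let F : Finset (X.affineOpens × X.affineOpens) := hs.toFinset ×ˢ hs.toFinset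
  let R : Γ(S, W₀) := ∏ p ∈ F, r p
  have hR : R ≠ 0 := Finset.prod_ne_zero_iff.2 fun p _ => hr p
  have hdvd : ∀ W ∈ s, ∀ W' ∈ s, r (W, W') ∣ R := by
    intro W hW W' hW'
    apply Finset.dvd_prod_of_mem
    exact Finset.mem_product.2 ⟨hs.mem_toFinset.2 hW, hs.mem_toFinset.2 hW'⟩
  refine ⟨S.basicOpen R, ?_, ?_⟩
  · rw [Set.nonempty_iff_ne_empty]
    intro hemp
    apply hR
    rw [← basicOpen_eq_bot_iff]
    exact Opens.ext hemp
  · haveI : IsAffine (S.basicOpen R).toScheme := hW₀.basicOpen R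
    rw [HasAffineProperty.iff_of_isAffine (P := @QuasiSeparated)]
    let V := S.basicOpen R
    let ι := (h ⁻¹ᵁ V).ι
    have hrange : ι.opensRange = h ⁻¹ᵁ V := Scheme.Opens.opensRange_ι _
    let φ : ∀ W : s, Γ(S, W₀) ⟶ Γ(X, (W.1 : X.Opens)) := fun W => h.appLE W₀ W.1 (hle W.1 W.2)
    have hb : ∀ W : s, X.basicOpen ((φ W).hom R) = (W.1 : X.Opens) ⊓ h ⁻¹ᵁ V :=
      fun W => Scheme.basicOpen_appLE h W.1 W₀ (hle W.1 W.2) R
    refine Scheme.quasiSeparatedSpace_of_isOpenCover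
      (fun W : s => ι ⁻¹ᵁ (X.basicOpen ((φ W).hom R))) ?_ ?_ ?_
    · rw [IsOpenCover, eq_top_iff]   -- cover
      intro z _
      have hz : ι z ∈ h ⁻¹ᵁ V := z.2
      have hz' : ι z ∈ h ⁻¹ᵁ W₀ := S.basicOpen_le R hz
      rw [hcover] at hz'
      simp only [Opens.mem_iSup] at hz'
      obtain ⟨W, hWs, hzW⟩ := hz'
      rw [Opens.mem_iSup]
      refine ⟨⟨W, hWs⟩, ?_⟩
      show ι z ∈ X.basicOpen ((φ ⟨W, hWs⟩).hom R)
      rw [hb]
      exact ⟨hzW, hz⟩
    · intro W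
      apply (W.1.2.basicOpen _).preimage_of_isOpenImmersion ι
      rw [hrange, hb]
      exact inf_le_right
    · intro W W'
      rw [ι.isOpenEmbedding.isCompact_iff]
      have : ι '' ((ι ⁻¹ᵁ (X.basicOpen ((φ W).hom R)) : Set _) ∩
          (ι ⁻¹ᵁ (X.basicOpen ((φ W').hom R)) : Set _)) =
          (((W.1 : X.Opens) ⊓ (W'.1 : X.Opens) : X.Opens) : Set X) ∩
            (h ⁻¹ᵁ S.basicOpen R : Set X) := by
        ext x
        constructor
        · rintro ⟨z, ⟨hz1, hz2⟩, rfl⟩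
          have h1 : ι z ∈ X.basicOpen ((φ W).hom R) := hz1
          have h2 : ι z ∈ X.basicOpen ((φ W').hom R) := hz2
          rw [hb] at h1 h2
          exact ⟨⟨h1.1, h2.1⟩, h1.2⟩
        · rintro ⟨⟨h1, h2⟩, h3⟩
          have hx : x ∈ ι.opensRange := by rw [hrange]; exact h3
          obtain ⟨z, rfl⟩ := hx
          refine ⟨z, ⟨?_, ?_⟩, rfl⟩
          · show ι z ∈ X.basicOpen ((φ W).hom R)
            rw [hb]; exact ⟨h1, h3⟩
          · show ι z ∈ X.basicOpen ((φ W').hom R)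
            rw [hb]; exact ⟨h2, h3⟩
      rw [this]
      exact hrc (W.1, W'.1) W.2 W'.2 R (hdvd W.1 W.2 W'.1 W'.2)

end Scheme

end Groth.Agent.Lib.Helper12.GenQS
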