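import Mathlib

/-!
# Spreading out a finite purely inseparable extension of a "fraction field" (helper12)
-/

set_option autoImplicit false
universe u

namespace Groth.Agent.Lib.Helper12.InsepModel

section

variable {R K K' : Type u} [CommRing R] [Field K] [Field K'] [Algebra R K] [Algebra K K']
  [Algebra R K'] [IsScalarTower R K K']

/-- common denominator for the `q`-power witnesses of finitely many elements -/
theorem exists_denominator [IsPurelyInseparable K K'] (q : ℕ) [ExpChar K q]
    (hfrac : ∀ x : K, ∃ u v : R, algebraMap R K v ≠ 0 ∧ x = algebraMap R K u / algebraMap R K v)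
    {ι : Type*} [Fintype ι] (b : ι → K') :
    ∃ s : R, algebraMap R K s ≠ 0 ∧
      ∀ j, ∃ (n : ℕ) (u : R), algebraMap R K' s * b j ^ (q ^ n) = algebraMap R K' u := by
  classical
  have h1 : ∀ j, ∃ (n : ℕ) (c : K), algebraMap K K' c = b j ^ (q ^ n) := fun j =>
    IsPurelyInseparable.pow_mem K q (b j)
  choose n c hc using h1
  have h2 := fun j => hfrac (c j)
  choose u v hv huv using h2
  refine ⟨∏ j, v j, ?_, fun j => ⟨n j, u j * ∏ i ∈ Finset.univ.erase j, v i, ?_⟩⟩
  · rw [map_prod]
    exact Finset.prod_ne_zero_iff.2 fun j _ => hv j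
  · rw [← hc j, IsScalarTower.algebraMap_apply R K K', IsScalarTower.algebraMap_apply R K K' (u j * _),
      ← map_mul]
    congr 1
    rw [← Finset.mul_prod_erase Finset.univ v (Finset.mem_univ j), map_mul, map_mul, huv j]
    have := hv j
    field_simp

variable (q : ℕ) [ExpChar K q] {ι : Type*} [Finite ι] (b : Module.Basis ι K K')

include q in
theorem finite_adjoin (hb : ∀ j, ∃ n : ℕ, b j ^ (q ^ n) ∈ (algebraMap R K').range) :
    Module.Finite R (Algebra.adjoin R (Set.range b)) := by
  apply Algebra.finite_adjoin_of_finite_of_isIntegral (Set.finite_range b)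
  rintro _ ⟨j, rfl⟩
  obtain ⟨n, r, hr⟩ := hb j
  have hq : 0 < q ^ n := pow_pos (expChar_pos K q) n
  apply IsIntegral.of_pow hq
  rw [← hr]
  exact isIntegral_algebraMap

include q in
theorem pow_mem_adjoin (hb : ∀ j, ∃ n : ℕ, b j ^ (q ^ n) ∈ (algebraMap R K').range)
    (x : K') (hx : x ∈ Algebra.adjoin R (Set.range b)) :
    ∃ n : ℕ, x ^ (q ^ n) ∈ (algebraMap R K').range := by
  haveI : ExpChar K' q := expChar_of_injective_algebraMap (algebraMap K K').injective q
  induction hx using Algebra.adjoin_induction with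
  | mem x hx =>
    obtain ⟨j, rfl⟩ := hx
    exact hb j
  | algebraMap r => exact ⟨0, r, by simp⟩
  | add x y _ _ hx hy =>
    obtain ⟨n, r₁, h₁⟩ := hx
    obtain ⟨m, r₂, h₂⟩ := hy
    refine ⟨n + m, r₁ ^ q ^ m + r₂ ^ q ^ n, ?_⟩
    rw [add_pow_expChar_pow, map_add, map_pow, map_pow, h₁, h₂, ← pow_mul, ← pow_mul, ← pow_add,
      ← pow_add, add_comm m n]
  | mul x y _ _ hx hy =>
    obtain ⟨n, r₁, h₁⟩ := hx
    obtain ⟨m, r₂, h₂⟩ := hy
    refine ⟨n + m, r₁ ^ q ^ m * r₂ ^ q ^ n, ?_⟩
    rw [mul_pow, map_mul, map_pow, map_pow, h₁, h₂, ← pow_mul, ← pow_mul, ← pow_add,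
      ← pow_add, add_comm m n]

theorem isFractionRing_adjoin
    (hfrac : ∀ x : K, ∃ u v : R, algebraMap R K v ≠ 0 ∧ x = algebraMap R K u / algebraMap R K v) :
    IsFractionRing (Algebra.adjoin R (Set.range b)) K' := by
  classical
  haveI := Fintype.ofFinite ι
  haveI : FaithfulSMul (Algebra.adjoin R (Set.range b)) K' :=
    (faithfulSMul_iff_algebraMap_injective _ _).2 Subtype.val_injective
  apply IsFractionRing.of_field
  intro z
  have h2 := fun j => hfrac (b.repr z j)
  choose u v hv huv using h2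
  let d : R := ∏ j, v j
  have hd : algebraMap R K d ≠ 0 := by
    rw [map_prod]
    exact Finset.prod_ne_zero_iff.2 fun j _ => hv j
  have hd' : algebraMap R K' d ≠ 0 := by
    rw [IsScalarTower.algebraMap_apply R K K']
    exact (map_ne_zero _).2 hd
  let x : K' := ∑ j, (u j * ∏ i ∈ Finset.univ.erase j, v i) • b j
  have hx : x ∈ Algebra.adjoin R (Set.range b) :=
    Subalgebra.sum_mem _ fun j _ => Subalgebra.smul_mem _ (Algebra.subset_adjoin (Set.mem_range_self j)) _
  refine ⟨⟨x, hx⟩, algebraMap R _ d, ?_⟩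
  have hy : algebraMap (Algebra.adjoin R (Set.range b)) K' (algebraMap R _ d) =
      algebraMap R K' d := rfl
  have hxx : algebraMap (Algebra.adjoin R (Set.range b)) K' ⟨x, hx⟩ = x := rfl
  rw [hy, hxx, eq_div_iff hd']
  conv_lhs => rw [← b.sum_repr z]
  rw [Finset.sum_mul]
  apply Finset.sum_congr rfl
  intro j _
  rw [← algebraMap_smul K (u j * ∏ i ∈ Finset.univ.erase j, v i) (b j), Algebra.smul_def,
    Algebra.smul_def, IsScalarTower.algebraMap_apply R K K' d, mul_right_comm, ← map_mul]
  congr 2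
  rw [huv j]
  show algebraMap R K (u j) / algebraMap R K (v j) * algebraMap R K (∏ j, v j) = _
  rw [← Finset.mul_prod_erase Finset.univ v (Finset.mem_univ j), map_mul, map_mul]
  have := hv j
  field_simp

end

end Groth.Agent.Lib.Helper12.InsepModel
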