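import Mathlib
import Groth.Prelude.Def_Flat
import Groth.Agent.Lib.Helper26.UnivHomeo
import Groth.Agent.Lib.Helper7.RedLib
import Groth.Agent.Lib.Helper14.GeomRedFinite
import Groth.Agent.Lib.Helper14.SmoothInsepSch
import Groth.Agent.Lib.Helper12.GeomRedGen
import Groth.Agent.Lib.Helper12.GeomRedOpen
import Groth.Agent.Lib.Helper12.InsepModel

/-!
# A finite purely inseparable model making the reduced generic fibre geometrically reduced
(helper12)
-/

set_option autoImplicit false
universe u

open AlgebraicGeometry CategoryTheory Limits TopologicalSpace TensorProduct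

namespace Groth.Agent.Lib.Helper12.GenRedModel

open Groth.Agent.Lib.Helper12.GeomRedGen Groth.Agent.Lib.Helper12.GeomRedOpen
open Groth.Agent.Lib.Helper7 Groth.Agent.Lib.Helper26.UnivHomeo

/-- Base change of a reduced scheme along a localization of an affine base is reduced. -/
theorem isReduced_pullback_of_isLocalization {A : Type u} [CommRing A] (M : Submonoid A)
    (L : Type u) [CommRing L] [Algebra A L] [IsLocalization M L] {X : Scheme.{u}} [IsReduced X]
    (h : X ⟶ Spec (CommRingCat.of A)) :
    IsReduced (pullback h (Spec.map (CommRingCat.ofHom (algebraMap A L)))) := by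
  apply +allowSynthFailures @IsReduced.of_openCover
    (𝒰 := Scheme.Pullback.openCoverOfLeft X.affineOpenCover.openCover h _)
  intro j
  let B : CommRingCat.{u} := X.affineOpenCover.X j
  let u : Spec B ⟶ X := X.affineOpenCover.openCover.f j
  haveI : IsOpenImmersion u := X.affineOpenCover.openCover.map_prop j
  show IsReduced (pullback (u ≫ h) (Spec.map (CommRingCat.ofHom (algebraMap A L))))
  obtain ⟨φ, hφ⟩ : ∃ φ : CommRingCat.of A ⟶ B, Spec.map φ = u ≫ h := ⟨_, Spec.map_preimage _⟩
  rw [← hφ]
  haveI : IsReduced (Spec B) := isReduced_of_isOpenImmersion u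
  haveI : _root_.IsReduced B := (affine_isReduced_iff B).mp inferInstance
  letI : Algebra A B := φ.hom.toAlgebra
  have hφ' : φ = CommRingCat.ofHom (algebraMap A B) := rfl
  haveI : IsLocalization (Algebra.algebraMapSubmonoid B M) (B ⊗[A] L) := inferInstance
  haveI : _root_.IsReduced (B ⊗[A] L) :=
    isReduced_localizationPreserves (Algebra.algebraMapSubmonoid B M) _ inferInstance
  haveI : IsReduced (Spec (.of (B ⊗[A] L))) := (affine_isReduced_iff _).mpr inferInstance
  rw [hφ']
  exact isReduced_of_isOpenImmersion (pullbackSpecIso A B L).hom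

theorem ringHom_ext_of_pow_mem' {R S K : Type*} [CommRing R] [CommRing S] [Field K]
    (φ : R →+* S) (q : ℕ) [hq : ExpChar S q]
    (hpow : ∀ s : S, ∃ n : ℕ, s ^ (q ^ n) ∈ φ.range)
    (ψ₁ ψ₂ : S →+* K) (h : ψ₁.comp φ = ψ₂.comp φ) : ψ₁ = ψ₂ := by
  ext s
  obtain ⟨n, r, hr⟩ := hpow s
  have h12 : ψ₁ s ^ (q ^ n) = ψ₂ s ^ (q ^ n) := by
    rw [← map_pow, ← map_pow, ← hr]
    exact RingHom.congr_fun h r
  rcases hq with _ | hprime
  · simpa using h12
  · haveI : CharP K q := by
      rw [CharP.charP_iff_prime_eq_zero hprime]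
      have h2 : (q : K) = ψ₁ (q : S) := by rw [map_natCast]
      rw [h2, CharP.cast_eq_zero S q, map_zero]
    haveI : ExpChar K q := .prime hprime
    exact iterateFrobenius_inj K q n (by simpa [iterateFrobenius_def] using h12)

/-- Affine criterion for universal homeomorphisms (exponential characteristic on the target). -/
theorem isUnivHomeo_SpecMap' {R S : CommRingCat.{u}} (φ : R ⟶ S) (q : ℕ) [ExpChar S q]
    (hint : φ.hom.IsIntegral) (hsurj : Function.Surjective (PrimeSpectrum.comap φ.hom))
    (hpow : ∀ s : S, ∃ n : ℕ, s ^ (q ^ n) ∈ φ.hom.range) :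
    FlatMor.IsUnivHomeo (Spec.map φ) := by
  rw [isUnivHomeo_iff]
  haveI : IsIntegralHom (Spec.map φ) := IsIntegralHom.SpecMap_iff.mpr hint
  refine ⟨inferInstance, ?_, ⟨hsurj⟩⟩
  refine ((tfae_universallyInjective (Spec.map φ)).out 0 1).mpr ?_
  intro K _ g₁ g₂ hg
  simp only at hg
  rw [← Spec.map_preimage g₁, ← Spec.map_preimage g₂] at hg ⊢
  rw [← Spec.map_comp, ← Spec.map_comp] at hg
  have h := Spec.map_injective hg
  congr 1
  ext1
  apply ringHom_ext_of_pow_mem' φ.hom q hpow
  have := congrArg CommRingCat.Hom.hom h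
  simpa using this

section Stage1

variable {Y : Scheme.{u}}

theorem evaluation_fraction {W : Y.Opens} (hW : IsAffineOpen W) (x : Y) (hx : x ∈ W)
    (t : Y.residueField x) :
    ∃ u v : Γ(Y, W), (Y.evaluation W x hx).hom v ≠ 0 ∧
      t = (Y.evaluation W x hx).hom u / (Y.evaluation W x hx).hom v := by
  obtain ⟨t', rfl⟩ := Y.residue_surjective x t
  letI := Y.presheaf.algebra_section_stalk ⟨x, hx⟩
  haveI := hW.isLocalization_stalk ⟨x, hx⟩
  obtain ⟨u, v, rfl⟩ :=
    IsLocalization.exists_mk'_eq (hW.primeIdealOf ⟨x, hx⟩).asIdeal.primeCompl t'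
  have h1 := IsLocalization.mk'_spec (Y.presheaf.stalk x) u v
  have hunit : IsUnit (algebraMap Γ(Y, W) (Y.presheaf.stalk x) v) :=
    IsLocalization.map_units _ v
  have hev : ∀ z : Γ(Y, W), (Y.evaluation W x hx).hom z =
      (Y.residue x).hom (algebraMap Γ(Y, W) (Y.presheaf.stalk x) z) := fun z => rfl
  refine ⟨u, v, ?_, ?_⟩
  · rw [hev]
    exact (hunit.map (Y.residue x).hom).ne_zero
  · rw [eq_div_iff, hev, hev, ← map_mul]
    · exact congrArg (Y.residue x).hom h1
    · rw [hev]
      exact (hunit.map (Y.residue x).hom).ne_zero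

variable [IrreducibleSpace Y]

theorem isNilpotent_of_evaluation_generic_eq_zero {V : Y.Opens} (hV : IsAffineOpen V)
    (hη : genericPoint Y ∈ V) (x : Γ(Y, V))
    (hx : (Y.evaluation V (genericPoint Y) hη).hom x = 0) : IsNilpotent x := by
  rw [Scheme.isNilpotent_iff_basicOpen_eq_bot_of_isCompact hV.isCompact]
  have hx' : Y.evaluation V (genericPoint Y) hη x = 0 := hx
  rw [Scheme.evaluation_eq_zero_iff_notMem_basicOpen] at hx'
  by_contra hne
  apply hx'
  have hne' : ((Y.basicOpen x : Set Y)).Nonempty := by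
    rw [Set.nonempty_iff_ne_empty]
    intro h
    exact hne (Opens.ext h)
  exact ((genericPoint_spec Y).mem_open_set_iff (Y.basicOpen x).isOpen).2 (by simpa using hne')

end Stage1

end Groth.Agent.Lib.Helper12.GenRedModel
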