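import Mathlib
import Groth.Agent.Lib.Helper12.GenRedModel

/-!
# Stage 1: a finite universal homeomorphism making the reduced generic fibre geometrically reduced
(helper12)
-/

set_option autoImplicit false
universe u

open AlgebraicGeometry CategoryTheory Limits TopologicalSpace TensorProduct

namespace Groth.Agent.Lib.Helper12.GenRedModel

open Groth.Agent.Lib.Helper12.GeomRedGen Groth.Agent.Lib.Helper12.GeomRedOpen
open Groth.Agent.Lib.Helper7 Groth.Agent.Lib.Helper26.UnivHomeo
open Groth.Agent.Lib.Helper12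

variable {X Y : Scheme.{u}} (f : X ⟶ Y) [IrreducibleSpace Y]


set_option maxHeartbeats 1600000 in
theorem stage1_of_open {V₁ : Y.Opens} (hV₁ : IsAffineOpen V₁) (hη : genericPoint Y ∈ V₁)
    (K' : Type u) [Field K'] [Algebra (Y.residueField (genericPoint Y)) K']
    (q : ℕ) [ExpChar (Y.residueField (genericPoint Y)) q]
    {ι : Type} [Finite ι] (b : Module.Basis ι (Y.residueField (genericPoint Y)) K')
    (hb : ∀ j, ∃ n : ℕ, b j ^ (q ^ n) ∈ ((algebraMap (Y.residueField (genericPoint Y)) K').comp
      (Y.evaluation V₁ (genericPoint Y) hη).hom).range)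
    (hGR : GeometricallyReduced
      ((pullback (f.fiberToSpecResidueField (genericPoint Y))
        (Spec.map (CommRingCat.ofHom
          (algebraMap (Y.residueField (genericPoint Y)) K')))).nilradical.subschemeι ≫
        pullback.snd (f.fiberToSpecResidueField (genericPoint Y))
          (Spec.map (CommRingCat.ofHom (algebraMap (Y.residueField (genericPoint Y)) K'))))) :
    ∃ (A' : Type u) (_ : CommRing A') (_ : IsDomain A')
      (g₁ : Spec (CommRingCat.of A') ⟶ V₁.toScheme),
      IsFinite g₁ ∧ FlatMor.IsUnivHomeo g₁ ∧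
      genericPoint (Spec (CommRingCat.of A')) ∈
        E ((pullback f (g₁ ≫ V₁.ι)).nilradical.subschemeι ≫ pullback.snd f (g₁ ≫ V₁.ι)) := by
  classical
  let K := Y.residueField (genericPoint Y)
  let R₁ := Γ(Y, V₁)
  let ev : R₁ →+* K := (Y.evaluation V₁ (genericPoint Y) hη).hom
  letI algRK : Algebra R₁ K := ev.toAlgebra
  letI algRK' : Algebra R₁ K' := ((algebraMap K K').comp ev).toAlgebra
  haveI : IsScalarTower R₁ K K' := IsScalarTower.of_algebraMap_eq (fun _ => rfl)
  have hfrac : ∀ x : K, ∃ u v : R₁, algebraMap R₁ K v ≠ 0 ∧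
      x = algebraMap R₁ K u / algebraMap R₁ K v := evaluation_fraction hV₁ (genericPoint Y) hη
  have hb' : ∀ j, ∃ n : ℕ, b j ^ (q ^ n) ∈ (algebraMap R₁ K').range := hb
  let A' := Algebra.adjoin R₁ (Set.range b)
  haveI hfin : Module.Finite R₁ A' := InsepModel.finite_adjoin q b hb'
  have hpow := InsepModel.pow_mem_adjoin q b hb'
  haveI hFR : IsFractionRing A' K' := InsepModel.isFractionRing_adjoin b hfrac
  haveI : ExpChar K' q := expChar_of_injective_algebraMap (algebraMap K K').injective q
  haveI : ExpChar A' q := (algebraMap A' K').expChar Subtype.val_injective q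
  let ψ : Γ(Y, V₁) ⟶ CommRingCat.of A' := CommRingCat.ofHom (algebraMap R₁ A')
  let g₁ : Spec (CommRingCat.of A') ⟶ V₁.toScheme := Spec.map ψ ≫ hV₁.isoSpec.inv
  refine ⟨A', inferInstance, inferInstance, g₁, ?_, ?_, ?_⟩
  · haveI : IsFinite (Spec.map ψ) :=
      (IsFinite.SpecMap_iff ψ).2 (RingHom.finite_algebraMap.2 hfin)
    infer_instance
  · have h1 : FlatMor.IsUnivHomeo (Spec.map ψ) := by
      apply isUnivHomeo_SpecMap' ψ q
      · exact (RingHom.finite_algebraMap.2 hfin).to_isIntegral
      · intro P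
        haveI : Algebra.IsIntegral R₁ A' := Algebra.IsIntegral.of_finite R₁ A'
        have hker : (⊥ : Ideal A').comap (algebraMap R₁ A') ≤ P.asIdeal := by
          intro x hx
          have hx0 : algebraMap R₁ A' x = 0 := by simpa using hx
          have hx1 : ev x = 0 := by
            have : algebraMap K K' (ev x) = 0 := congrArg Subtype.val hx0
            exact (map_eq_zero (algebraMap K K')).1 this
          obtain ⟨n, hn⟩ := isNilpotent_of_evaluation_generic_eq_zero hV₁ hη x hx1
          exact P.2.mem_of_pow_mem n (hn ▸ P.asIdeal.zero_mem)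
        obtain ⟨Q, -, hQ, hQP⟩ :=
          Ideal.exists_ideal_over_prime_of_isIntegral P.asIdeal (⊥ : Ideal A') hker
        exact ⟨⟨Q, hQ⟩, PrimeSpectrum.ext hQP⟩
      · intro s
        obtain ⟨n, r, hr⟩ := hpow s.1 s.2
        exact ⟨n, r, Subtype.ext hr⟩
    rw [isUnivHomeo_iff] at h1 ⊢
    obtain ⟨h1a, h1b, h1c⟩ := h1
    exact ⟨inferInstance,
      (MorphismProperty.cancel_right_of_respectsIso @UniversallyInjective (Spec.map ψ)
        hV₁.isoSpec.inv).2 h1b, inferInstance⟩
  · let φ₁ := g₁ ≫ V₁.ι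
    let P₁ := pullback f φ₁
    let p₁ : P₁ ⟶ Spec (.of A') := pullback.snd f φ₁
    let r₁ : P₁.nilradical.subscheme ⟶ P₁ := P₁.nilradical.subschemeι
    let h₁ := r₁ ≫ p₁
    haveI : IsReduced P₁.nilradical.subscheme := isReduced_nilradical_subscheme _
    haveI : Surjective r₁ := ⟨subschemeι_nilradical_surjective P₁⟩
    let ι' : Spec (.of K') ⟶ Spec (.of A') := Spec.map (CommRingCat.ofHom (algebraMap A' K'))
    have hι' : ∀ t, ι' t = genericPoint (Spec (.of A')) := by
      intro t
      rw [genericPoint_eq_bot_of_affine]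
      apply PrimeSpectrum.ext
      show Ideal.comap (algebraMap A' K') t.asIdeal = ⊥
      rw [eq_bot_iff]
      intro x hx
      have hx' : algebraMap A' K' x ∈ t.asIdeal := hx
      by_contra hne
      have hne' : algebraMap A' K' x ≠ 0 := fun h0 => hne ((Ideal.mem_bot).2 (Subtype.ext h0))
      exact t.2.ne_top (Ideal.eq_top_of_isUnit_mem _ hx' (IsUnit.mk0 _ hne'))
    let P' := pullback p₁ ι'
    let a' : P' ⟶ P₁ := pullback.fst p₁ ι'
    let p' : P' ⟶ Spec (.of K') := pullback.snd p₁ ι'
    let T := pullback r₁ a'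
    let b' : T ⟶ P₁.nilradical.subscheme := pullback.fst r₁ a'
    let r' : T ⟶ P' := pullback.snd r₁ a'
    have sqT : IsPullback b' (r' ≫ p') h₁ ι' :=
      (IsPullback.of_hasPullback r₁ a').paste_vert (IsPullback.of_hasPullback p₁ ι')
    obtain ⟨t₀⟩ : Nonempty (Spec (.of K')) := inferInstance
    show genericPoint (Spec (.of A')) ∈ E h₁
    rw [← hι' t₀, ← mem_E_pullback sqT t₀]
    suffices hsuff : GeometricallyReduced (r' ≫ p') from mem_E_field (r' ≫ p') t₀
    haveI : IsReduced T := by
      haveI := isReduced_pullback_of_isLocalization (nonZeroDivisors A') K' h₁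
      exact isReduced_of_isOpenImmersion sqT.isoPullback.hom
    let ρ := Y.fromSpecResidueField (genericPoint Y)
    let m : Spec (.of K') ⟶ Spec (Y.residueField (genericPoint Y)) :=
      Spec.map (CommRingCat.ofHom (algebraMap K K'))
    have compat : Spec.map (Y.evaluation V₁ (genericPoint Y) hη) ≫ hV₁.fromSpec = ρ := by
      show _ = Spec.map (Y.residue (genericPoint Y)) ≫ Y.fromSpecStalk (genericPoint Y)
      rw [← hV₁.fromSpecStalk_eq_fromSpecStalk hη, IsAffineOpen.fromSpecStalk,
        ← Spec.map_comp_assoc]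
      rfl
    have hcomp : ι' ≫ φ₁ = m ≫ ρ := by
      have hring : ψ ≫ CommRingCat.ofHom (algebraMap A' K') =
          Y.evaluation V₁ (genericPoint Y) hη ≫ CommRingCat.ofHom (algebraMap K K') := rfl
      show ι' ≫ (Spec.map ψ ≫ hV₁.isoSpec.inv) ≫ V₁.ι = m ≫ ρ
      rw [Category.assoc, hV₁.isoSpec_inv_ι, ← compat, ← Spec.map_comp_assoc,
        ← Spec.map_comp_assoc, hring]
    have big : IsPullback (a' ≫ pullback.fst f φ₁) p' f (ι' ≫ φ₁) :=
      (IsPullback.of_hasPullback p₁ ι').paste_horiz (IsPullback.of_hasPullback f φ₁)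
    rw [hcomp] at big
    have w : (a' ≫ pullback.fst f φ₁) ≫ f = (p' ≫ m) ≫ ρ := by
      simpa only [Category.assoc] using big.w
    have sqZ : IsPullback (pullback.lift _ _ w) p' (f.fiberToSpecResidueField (genericPoint Y)) m := by
      refine IsPullback.of_right ?_ (pullback.lift_snd _ _ _) (IsPullback.of_hasPullback f ρ)
      rw [pullback.lift_fst]
      exact big
    let Z := pullback (f.fiberToSpecResidueField (genericPoint Y)) m
    obtain ⟨e, he⟩ : ∃ e : P' ≅ Z, e.hom ≫ pullback.snd (f.fiberToSpecResidueField (genericPoint Y)) m = p' :=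
      ⟨sqZ.isoPullback, sqZ.isoPullback_hom_snd⟩
    let ιZ := Z.nilradical.subschemeι
    have hrange : Set.range (r' ≫ e.hom) ⊆ Set.range ιZ := by
      rw [(subschemeι_nilradical_surjective Z).range_eq]
      exact Set.subset_univ _
    obtain ⟨l, hl⟩ := exists_lift_of_isReduced_of_range_subset (r' ≫ e.hom) ιZ hrange
    haveI : IsClosedImmersion (l ≫ ιZ) := by rw [hl]; infer_instance
    haveI : IsClosedImmersion l := IsClosedImmersion.of_comp l ιZ
    haveI : IsReduced Z.nilradical.subscheme := isReduced_nilradical_subscheme _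
    have hlsurj : Function.Surjective l := by
      intro z
      obtain ⟨t, ht⟩ := (r' ≫ e.hom).surjective (ιZ z)
      refine ⟨t, ιZ.injective ?_⟩
      rw [← Scheme.Hom.comp_apply, hl]
      exact ht
    haveI : Surjective l := ⟨hlsurj⟩
    haveI : IsIso l := isIso_of_isClosedImmersion_of_surjective l
    have hfin' : r' ≫ p' = l ≫ (ιZ ≫ pullback.snd (f.fiberToSpecResidueField (genericPoint Y)) m) := by
      rw [← Category.assoc, hl, Category.assoc, he]
    rw [hfin']
    exact (MorphismProperty.cancel_left_of_respectsIso @GeometricallyReduced l _).2 hGR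

set_option maxHeartbeats 1600000 in
theorem stage1 [LocallyOfFiniteType f] [QuasiCompact f] :
    ∃ (V₁ : Y.Opens) (A' : Type u) (_ : CommRing A') (_ : IsDomain A')
      (g₁ : Spec (CommRingCat.of A') ⟶ V₁.toScheme),
      (V₁ : Set Y).Nonempty ∧ IsFinite g₁ ∧ FlatMor.IsUnivHomeo g₁ ∧
      genericPoint (Spec (CommRingCat.of A')) ∈
        E ((pullback f (g₁ ≫ V₁.ι)).nilradical.subschemeι ≫ pullback.snd f (g₁ ≫ V₁.ι)) := by
  classical
  let K := Y.residueField (genericPoint Y)
  let fη : f.fiber (genericPoint Y) ⟶ Spec (CommRingCat.of K) :=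
    f.fiberToSpecResidueField (genericPoint Y)
  haveI : LocallyOfFiniteType fη :=
    (inferInstance : LocallyOfFiniteType (pullback.snd f (Y.fromSpecResidueField (genericPoint Y))))
  haveI : QuasiCompact fη :=
    (inferInstance : QuasiCompact (pullback.snd f (Y.fromSpecResidueField (genericPoint Y))))
  haveI : IsNoetherian (f.fiber (genericPoint Y)) :=
    Groth.Agent.Lib.Helper14.SmoothInsepSch.isNoetherian_of_lft_qc K fη
  have hirr : (irreducibleComponents (f.fiber (genericPoint Y) : Type u)).Finite :=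
    TopologicalSpace.NoetherianSpace.finite_irreducibleComponents
  obtain ⟨K', _, _, hfd, hpi, hGR⟩ := Groth.Agent.Lib.Helper14.GeomRedFinite.main fη hirr
  let q := ringExpChar K
  haveI : ExpChar K q := ringExpChar.expChar K
  let b := Module.finBasis K K'
  obtain ⟨_, ⟨W, hW, rfl⟩, hηW, -⟩ :=
    Y.isBasis_affineOpens.exists_subset_of_mem_open (Set.mem_univ (genericPoint Y)) isOpen_univ
  obtain ⟨W, rfl⟩ : ∃ W' : Y.Opens, W' = W := ⟨W, rfl⟩
  letI : Algebra Γ(Y, W) K := (Y.evaluation W (genericPoint Y) hηW).hom.toAlgebra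
  letI : Algebra Γ(Y, W) K' :=
    ((algebraMap K K').comp (Y.evaluation W (genericPoint Y) hηW).hom).toAlgebra
  haveI : IsScalarTower Γ(Y, W) K K' := IsScalarTower.of_algebraMap_eq (fun _ => rfl)
  obtain ⟨s, hs, hsb⟩ := InsepModel.exists_denominator (R := Γ(Y, W)) (K := K) (K' := K') q
    (evaluation_fraction hW (genericPoint Y) hηW) b
  have hηs : genericPoint Y ∈ Y.basicOpen s :=
    (Y.evaluation_ne_zero_iff_mem_basicOpen (genericPoint Y) hηW s).1 hs
  have hV₁ : IsAffineOpen (Y.basicOpen s) := hW.basicOpen s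
  have hbV : ∀ j, ∃ n : ℕ, b j ^ (q ^ n) ∈ ((algebraMap K K').comp
      (Y.evaluation (Y.basicOpen s) (genericPoint Y) hηs).hom).range := by
    intro j
    obtain ⟨n, u, hu⟩ := hsb j
    let res : Γ(Y, W) →+* Γ(Y, Y.basicOpen s) :=
      (Y.presheaf.map (homOfLE (Y.basicOpen_le s)).op).hom
    have hev : ∀ x, (Y.evaluation (Y.basicOpen s) (genericPoint Y) hηs).hom (res x) =
        (Y.evaluation W (genericPoint Y) hηW).hom x := by
      intro x
      show (Y.residue (genericPoint Y)).hom
          ((Y.presheaf.germ (Y.basicOpen s) (genericPoint Y) hηs).hom (res x)) =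
        (Y.residue (genericPoint Y)).hom ((Y.presheaf.germ W (genericPoint Y) hηW).hom x)
      congr 1
      exact Y.presheaf.germ_res_apply (homOfLE (Y.basicOpen_le s)) (genericPoint Y) hηs x
    have hunit : IsUnit (res s) := Y.toRingedSpace.isUnit_res_basicOpen s
    obtain ⟨su, hsu⟩ := hunit
    refine ⟨n, res u * ↑su⁻¹, ?_⟩
    have h1 : algebraMap K K' ((Y.evaluation (Y.basicOpen s) (genericPoint Y) hηs).hom (res s)) *
        b j ^ q ^ n =
        algebraMap K K' ((Y.evaluation (Y.basicOpen s) (genericPoint Y) hηs).hom (res u)) := by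
      rw [hev, hev]
      exact hu
    rw [RingHom.comp_apply, map_mul, map_mul, ← h1, ← hsu, mul_right_comm, ← map_mul, ← map_mul,
      Units.mul_inv, map_one, map_one, one_mul]
  obtain ⟨A', iA, iD, g₁, h1, h2, h3⟩ := stage1_of_open f hV₁ hηs K' q b hbV hGR
  exact ⟨Y.basicOpen s, A', iA, iD, g₁, ⟨genericPoint Y, hηs⟩, h1, h2, h3⟩

end Groth.Agent.Lib.Helper12.GenRedModel
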