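import Mathlib
import Groth.Agent.Lib.Helper12.GenRedStage1
import Groth.Agent.Lib.Helper12.GenQS
import Groth.Agent.Lib.Helper28.GenFlatScheme

/-!
# Generic geometric reducedness after a finite universal homeomorphism (helper12)
-/

set_option autoImplicit false
universe u

open AlgebraicGeometry CategoryTheory Limits TopologicalSpace

namespace Groth.Agent.Lib.Helper12.GenRedMain

open Groth.Agent.Lib.Helper12.GeomRedGen Groth.Agent.Lib.Helper12.GenRedModel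
open Groth.Agent.Lib.Helper7 Groth.Agent.Lib.Helper26.UnivHomeo

/-- transfer of a base-change-stable property from a restriction to a base change -/
theorem of_isPullback_of_range_subset (P : MorphismProperty Scheme.{u}) [P.IsStableUnderBaseChange]
    {X' X₁ Y' Y₁ : Scheme.{u}} {b : X' ⟶ X₁} {h : X' ⟶ Y'} {h₁ : X₁ ⟶ Y₁} {j : Y' ⟶ Y₁}
    (sq : IsPullback b h h₁ j) (U : Y₁.Opens) (hU : P (h₁ ∣_ U)) (hj : ∀ y, j y ∈ U) : P h := by
  have hrange : Set.range j ⊆ Set.range U.ι := by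
    rintro _ ⟨y, rfl⟩
    rw [Scheme.Opens.range_ι]
    exact hj y
  let j' : Y' ⟶ U.toScheme := IsOpenImmersion.lift U.ι j hrange
  have hj' : j' ≫ U.ι = j := IsOpenImmersion.lift_fac U.ι j hrange
  have sqU : IsPullback (h₁ ⁻¹ᵁ U).ι (h₁ ∣_ U) h₁ U.ι := (isPullback_morphismRestrict h₁ U).flip
  have w : b ≫ h₁ = (h ≫ j') ≫ U.ι := by rw [Category.assoc, hj', sq.w]
  have sq' : IsPullback (sqU.lift b (h ≫ j') w) h (h₁ ∣_ U) j' := by
    refine IsPullback.of_right ?_ (sqU.lift_snd _ _ _) sqU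
    rw [sqU.lift_fst, hj']
    exact sq
  exact MorphismProperty.of_isPullback sq' hU

set_option maxHeartbeats 1600000 in
theorem main {X Y : Scheme.{u}} (f : X ⟶ Y) [IrreducibleSpace Y] [LocallyOfFiniteType f]
    [QuasiCompact f] :
    ∃ (V : Y.Opens) (Y' : Scheme.{u}) (g : Y' ⟶ (V : Scheme.{u})) (X' : Scheme.{u})
      (r : X' ⟶ pullback f (g ≫ V.ι)) (hY' : IsIntegral Y'),
      (V : Set Y).Nonempty ∧ IsAffine Y' ∧ IsFinite g ∧ FlatMor.IsUnivHomeo g ∧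
      IsClosedImmersion r ∧ Surjective r ∧ IsReduced X' ∧
      Flat (r ≫ pullback.snd f (g ≫ V.ι)) ∧
      LocallyOfFinitePresentation (r ≫ pullback.snd f (g ≫ V.ι)) ∧
      QuasiCompact (r ≫ pullback.snd f (g ≫ V.ι)) ∧
      QuasiSeparated (r ≫ pullback.snd f (g ≫ V.ι)) ∧
      GeometricallyReduced
        ((r ≫ pullback.snd f (g ≫ V.ι)).fiberToSpecResidueField (genericPoint Y')) := by
  obtain ⟨V₁, A', iA, iD, g₁, hV₁ne, hg₁fin, hg₁uh, hE⟩ := stage1 f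
  let Y'₁ := Spec (CommRingCat.of A')
  let φ₁ := g₁ ≫ V₁.ι
  let P₁ := pullback f φ₁
  let p₁ : P₁ ⟶ Y'₁ := pullback.snd f φ₁
  let r₁ : P₁.nilradical.subscheme ⟶ P₁ := P₁.nilradical.subschemeι
  let h₁ : P₁.nilradical.subscheme ⟶ Y'₁ := r₁ ≫ p₁
  haveI : IsReduced P₁.nilradical.subscheme := isReduced_nilradical_subscheme _
  haveI : Surjective r₁ := ⟨subschemeι_nilradical_surjective P₁⟩
  haveI : LocallyOfFiniteType h₁ := inferInstance
  haveI : QuasiCompact h₁ := inferInstance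
  obtain ⟨U₁, hU₁d, hU₁flat, hU₁fp⟩ := Groth.Agent.Lib.Helper28.GenFlat.generic_flat h₁
  obtain ⟨U₂, hU₂ne, hU₂qs⟩ := Groth.Agent.Lib.Helper12.GenQS.generic_quasiSeparated h₁
  obtain ⟨y₀, hy₀U₂, hy₀U₁⟩ := hU₁d.inter_open_nonempty U₂ U₂.isOpen hU₂ne
  have hg₁homeo : IsHomeomorph g₁ := MorphismProperty.universally_le _ _ hg₁uh
  have hopen : IsOpen (g₁ '' ((U₁ : Set Y'₁) ∩ (U₂ : Set Y'₁))) :=
    hg₁homeo.isOpenMap _ (U₁.isOpen.inter U₂.isOpen)
  obtain ⟨_, ⟨W, hW, rfl⟩, hy₀W, hWO⟩ :=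
    V₁.toScheme.isBasis_affineOpens.exists_subset_of_mem_open
      (⟨y₀, ⟨hy₀U₁, hy₀U₂⟩, rfl⟩ : g₁ y₀ ∈ g₁ '' ((U₁ : Set Y'₁) ∩ (U₂ : Set Y'₁))) hopen
  obtain ⟨W, rfl⟩ : ∃ W' : V₁.toScheme.Opens, W' = W := ⟨W, rfl⟩
  let Y'o : Y'₁.Opens := g₁ ⁻¹ᵁ W
  haveI : Nonempty Y'o := ⟨⟨y₀, hy₀W⟩⟩
  let j : Y'o.toScheme ⟶ Y'₁ := Y'o.ι
  have hjU : ∀ y : Y'o.toScheme, j y ∈ (U₁ : Set Y'₁) ∩ (U₂ : Set Y'₁) := by
    intro y
    have hy : g₁ (j y) ∈ W := y.2
    obtain ⟨y', hy', hyy'⟩ := hWO hy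
    rw [← hg₁homeo.injective hyy']
    exact hy'
  let V : Y.Opens := V₁.ι ''ᵁ W
  let g : Y'o.toScheme ⟶ V.toScheme := (g₁ ∣_ W) ≫ (V₁.ι.isoImage W).hom
  have hgι : g ≫ V.ι = j ≫ φ₁ := by
    show ((g₁ ∣_ W) ≫ (V₁.ι.isoImage W).hom) ≫ (V₁.ι ''ᵁ W).ι = Y'o.ι ≫ g₁ ≫ V₁.ι
    rw [Category.assoc, Scheme.Hom.isoImage_hom_ι, ← Category.assoc, morphismRestrict_ι,
      Category.assoc]
  -- the base change square
  have big : IsPullback (pullback.fst f (g ≫ V.ι)) (pullback.snd f (g ≫ V.ι)) f (j ≫ φ₁) := by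
    rw [← hgι]
    exact IsPullback.of_hasPullback f (g ≫ V.ι)
  have w : pullback.fst f (g ≫ V.ι) ≫ f = (pullback.snd f (g ≫ V.ι) ≫ j) ≫ φ₁ := by
    simpa only [Category.assoc] using big.w
  let a : pullback f (g ≫ V.ι) ⟶ P₁ := pullback.lift _ _ w
  have sqP : IsPullback a (pullback.snd f (g ≫ V.ι)) p₁ j := by
    refine IsPullback.of_right ?_ (pullback.lift_snd _ _ _) (IsPullback.of_hasPullback f φ₁)
    rw [pullback.lift_fst]
    exact big
  let X' := pullback r₁ a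
  let r : X' ⟶ pullback f (g ≫ V.ι) := pullback.snd r₁ a
  let b : X' ⟶ P₁.nilradical.subscheme := pullback.fst r₁ a
  have sqX : IsPullback b (r ≫ pullback.snd f (g ≫ V.ι)) h₁ j :=
    (IsPullback.of_hasPullback r₁ a).paste_vert sqP
  haveI : IsOpenImmersion a := MorphismProperty.of_isPullback (P := @IsOpenImmersion) sqP.flip
    (inferInstance : IsOpenImmersion j)
  haveI : IsOpenImmersion b := inferInstance
  have hgen : j (genericPoint Y'o.toScheme) = genericPoint Y'₁ :=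
    genericPoint_eq_of_isOpenImmersion j
  refine ⟨V, Y'o.toScheme, g, X', r, inferInstance, ?_, ?_, ?_, ?_, inferInstance, inferInstance,
    isReduced_of_isOpenImmersion b, ?_, ?_, ?_, ?_, ?_⟩
  · exact ⟨V₁.ι (g₁ y₀), g₁ y₀, hy₀W, rfl⟩
  · exact hW.preimage g₁
  · infer_instance
  · haveI : (FlatMor.IsUnivHomeo.{u}).IsStableUnderBaseChange := by
      unfold FlatMor.IsUnivHomeo; infer_instance
    have h1 : FlatMor.IsUnivHomeo (g₁ ∣_ W) :=
      MorphismProperty.of_isPullback (P := FlatMor.IsUnivHomeo)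
        (isPullback_morphismRestrict g₁ W).flip hg₁uh
    rw [isUnivHomeo_iff] at h1 ⊢
    obtain ⟨h1a, h1b, h1c⟩ := h1
    exact ⟨inferInstance,
      (MorphismProperty.cancel_right_of_respectsIso @UniversallyInjective (g₁ ∣_ W)
        (V₁.ι.isoImage W).hom).2 h1b, inferInstance⟩
  · exact of_isPullback_of_range_subset @Flat sqX U₁ hU₁flat (fun y => (hjU y).1)
  · exact of_isPullback_of_range_subset @LocallyOfFinitePresentation sqX U₁ hU₁fp
      (fun y => (hjU y).1)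
  · exact MorphismProperty.of_isPullback (P := @QuasiCompact) sqX (inferInstance : QuasiCompact h₁)
  · exact of_isPullback_of_range_subset @QuasiSeparated sqX U₂ hU₂qs (fun y => (hjU y).2)
  · show genericPoint Y'o.toScheme ∈ E (r ≫ pullback.snd f (g ≫ V.ι))
    rw [mem_E_pullback sqX, hgen]
    exact hE

end Groth.Agent.Lib.Helper12.GenRedMain
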