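import Mathlib
import Groth.Prelude.Def_EGA4Misc
import Groth.Agent.Lib.Helper12.ConsPropNoeth
import Groth.Agent.Lib.Helper12.ConsPropGen
import Groth.Agent.Lib.Helper12.FpDesc
import Groth.Agent.Lib.Helper12.GenQS
import Groth.Agent.Lib.Helper28.GenFlatScheme
import Groth.Agent.Lib.Helper12.GenRedMain

/-!
# Constructibility of the level sets of a numerical invariant of the fibres (helper12)

`N` is a numerical invariant of the fibres of a morphism which is compatible with base change and
constant near the generic point of an integral Noetherian base.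
-/

set_option autoImplicit false
set_option linter.style.haveILetI false
universe u
open AlgebraicGeometry CategoryTheory Limits Topology

namespace Groth.Agent.Lib.Helper12.FibreInvCons

open ConsProp Groth.Agent.Lib.Helper12.ClosedSub

variable (N : ∀ {X S : Scheme.{u}} (_ : X ⟶ S), S → ℕ∞)
  (hbc : ∀ {X Y X' Y' : Scheme.{u}} {f : X ⟶ Y} {g : Y' ⟶ Y} {f' : X' ⟶ Y'} {g' : X' ⟶ X},
    IsPullback g' f' f g → ∀ y' : Y', N f' y' = N f (g y'))
  (hgen : ∀ {X S : Scheme.{u}} (f : X ⟶ S) [IsIntegral S] [IsNoetherian S]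
    [LocallyOfFiniteType f] [QuasiCompact f], ∃ V : S.Opens, genericPoint S ∈ V ∧
      ∀ s ∈ V, N f s = N f (genericPoint S))

/-- the level property -/
def PN (n : ℕ∞) : ∀ ⦃Y T : Scheme.{u}⦄, (Y ⟶ T) → Prop := fun _ T g => ∀ t : T, N g t = n

include hbc in
theorem locus_PN (n : ℕ∞) {X S : Scheme.{u}} (f : X ⟶ S) :
    locus (PN N n) f = {s | N f s = n} := by
  ext s
  have hsq : IsPullback (f.fiberι s) (f.fiberToSpecResidueField s) f
      (S.fromSpecResidueField s) := IsPullback.of_hasPullback _ _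
  show (∀ t, N (f.fiberToSpecResidueField s) t = n) ↔ N f s = n
  constructor
  · intro h
    obtain ⟨t⟩ : Nonempty (Spec (S.residueField s)) := inferInstance
    have := h t
    rwa [hbc hsq t, Scheme.fromSpecResidueField_apply] at this
  · intro h t
    rw [hbc hsq t, Scheme.fromSpecResidueField_apply]
    exact h

include hbc in
theorem isFieldStable_PN (n : ℕ∞) : IsFieldStable (PN.{u} N n) := by
  intro Y Y' T T' g g' e h _ _ _ _ _ _ hsq
  constructor
  · intro hg t'
    show N g' t' = n
    rw [hbc hsq t']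
    exact hg _
  · intro hg' t
    obtain ⟨t'⟩ : Nonempty T' := inferInstance
    have ht : h t' = t := Subsingleton.elim _ _
    show N g t = n
    rw [← ht, ← hbc hsq t']
    exact hg' t'

include hbc hgen in
theorem isCons_PN (n : ℕ∞) : IsCons (PN.{u} N n) := by
  refine ⟨isFieldStable_PN N hbc n, fun X S f _ _ _ _ => ?_⟩
  rw [locus_PN N hbc]
  obtain ⟨V, hηV, hV⟩ := hgen f
  by_cases hn : N f (genericPoint S) = n
  · left
    exact ⟨genericPoint S, mem_interior.2 ⟨V, fun s hs => (hV s hs).trans hn, V.isOpen, hηV⟩⟩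
  · right
    refine ⟨genericPoint S, mem_interior.2 ⟨V, fun s hs => ?_, V.isOpen, hηV⟩⟩
    show ¬ (N f s = n)
    rw [hV s hs]
    exact hn

include hbc hgen in
/-- Noetherian base. -/
theorem isConstructible_level_noeth (n : ℕ∞) {X S : Scheme.{u}} [IsNoetherian S] (f : X ⟶ S)
    [LocallyOfFiniteType f] [QuasiCompact f] : IsConstructible {s | N f s = n} := by
  rw [← locus_PN N hbc]
  exact Groth.Agent.Lib.Helper12.ConsPropNoeth.isConstructible_locus (isCons_PN N hbc hgen n) f

section fp

open Groth.Agent.Lib.Helper12.ConsPropGen Groth.Agent.Lib.Helper12.FpDesc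

include hbc hgen in
theorem isConstructible_preimage_level_fp (n : ℕ∞) {X S : Scheme.{u}} (f : X ⟶ S)
    [LocallyOfFinitePresentation f] [QuasiCompact f] [QuasiSeparated f]
    (V : S.Opens) (hV : IsAffineOpen V) : IsConstructible (V.ι ⁻¹' {s | N f s = n}) := by
  obtain ⟨J, _, _, 𝔇, π, hπ, haff, hnoeth⟩ := exists_noetherian_limit V hV
  haveI : ∀ {i j : J} (a : i ⟶ j), IsAffineHom (𝔇.map a) := fun a => inferInstance
  haveI : ∀ (i j : J) (a : i ⟶ j), IsAffineHom (𝔇.map a) := fun _ _ a => inferInstance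
  obtain ⟨i₁, X₁, x₁, qX₁, _, _, _, sq⟩ := descends_of_fp (D := 𝔇) (c := Cone.mk _ π) hπ
    (pullback.snd f V.ι)
  haveI := hnoeth i₁
  have h1 : V.ι ⁻¹' {s | N f s = n} = (π.app i₁) ⁻¹' {s | N x₁ s = n} := by
    ext v
    show N f (V.ι v) = n ↔ N x₁ (π.app i₁ v) = n
    rw [← hbc (IsPullback.of_hasPullback f V.ι) v, hbc sq v]
  rw [h1]
  exact (π.app i₁).isConstructible_preimage (isConstructible_level_noeth N hbc hgen n x₁)

include hbc hgen in
/-- **Local constructibility of the level sets**, for quasi-compact quasi-separated morphisms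
locally of finite presentation. -/
theorem isLocallyConstructible_level (n : ℕ∞) {X Y : Scheme.{u}} (f : X ⟶ Y) [QuasiCompact f]
    [QuasiSeparated f] [LocallyOfFinitePresentation f] :
    IsLocallyConstructible {y | N f y = n} := by
  refine IsLocallyConstructible.of_isOpenCover (U := fun V : Y.affineOpens => V.1)
    (TopologicalSpace.IsOpenCover.mk (iSup_affineOpens_eq_top Y)) fun V => ?_
  exact (isConstructible_preimage_level_fp N hbc hgen n f V.1 V.2).isLocallyConstructible

end fp


section closure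

include hbc hgen in
/-- **Constancy near a point in its closure**, for morphisms of finite type. -/
theorem const_near_point_of_closure {X Y : Scheme.{u}} (f : X ⟶ Y) [LocallyOfFiniteType f]
    [QuasiCompact f] (y : Y) :
    ∃ V : Set Y, V ⊆ closure {y} ∧ y ∈ V ∧
      IsOpen (Subtype.val ⁻¹' V : Set ↥(closure ({y} : Set Y))) ∧
      ∀ y' ∈ V, N f y' = N f y := by
  classical
  let fZ := pullback.snd f (clSubι Y y)
  obtain ⟨U₁, hU₁d, -, hU₁fp⟩ := Groth.Agent.Lib.Helper28.GenFlat.generic_flat fZ
  obtain ⟨U₂, hU₂ne, hU₂qs⟩ := Groth.Agent.Lib.Helper12.GenQS.generic_quasiSeparated fZ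
  let W : (clSub Y y).Opens := U₁ ⊓ U₂
  have hWne : (W : Set (clSub Y y)).Nonempty := by
    obtain ⟨z, hz2, hz1⟩ := hU₁d.inter_open_nonempty U₂ U₂.isOpen hU₂ne
    exact ⟨z, hz1, hz2⟩
  haveI : Nonempty W := hWne.to_subtype
  let g := pullback.snd fZ W.ι
  have hsqW : IsPullback (pullback.fst fZ W.ι) g fZ W.ι := IsPullback.of_hasPullback _ _
  haveI : LocallyOfFinitePresentation g :=
    Groth.Agent.Lib.Helper12.GenRedMain.of_isPullback_of_range_subset
      @LocallyOfFinitePresentation hsqW U₁ hU₁fp (fun w => w.2.1)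
  haveI : QuasiSeparated g :=
    Groth.Agent.Lib.Helper12.GenRedMain.of_isPullback_of_range_subset
      @QuasiSeparated hsqW U₂ hU₂qs (fun w => w.2.2)
  haveI : QuasiCompact g := inferInstance
  have hlc := isLocallyConstructible_level N hbc hgen (N f y) g
  have hηW : W.ι (genericPoint W) = genericPoint (clSub Y y) :=
    genericPoint_eq_of_isOpenImmersion W.ι
  have hNg : ∀ w : W, N g w = N f (clSubι Y y (W.ι w)) := by
    intro w
    rw [hbc hsqW w, hbc (IsPullback.of_hasPullback f (clSubι Y y)) (W.ι w)]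
  have hgenmem : genericPoint W ∈ {w | N g w = N f y} := by
    show N g (genericPoint W) = N f y
    rw [hNg, hηW, clSubι_genericPoint]
  obtain ⟨w₀, hw₀⟩ := Groth.Agent.Lib.Helper12.ConsPropBasic.interior_nonempty_of_genericPoint_mem
    _ hlc hgenmem
  have hηint : genericPoint W ∈ interior {w | N g w = N f y} :=
    (genericPoint_specializes w₀).mem_open isOpen_interior hw₀
  -- the open subset of `Z`
  let O : Set (clSub Y y) := W.ι '' interior {w | N g w = N f y}
  have hO : IsOpen O := W.ι.isOpenEmbedding.isOpenMap _ isOpen_interior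
  obtain ⟨UY, hUY, hUYO⟩ := (clSubι Y y).isEmbedding.isInducing.isOpen_iff.mp hO
  refine ⟨clSubι Y y '' O, ?_, ?_, ?_, ?_⟩
  · rintro _ ⟨z, -, rfl⟩
    rw [← range_clSubι]
    exact ⟨z, rfl⟩
  · refine ⟨W.ι (genericPoint W), ⟨_, hηint, rfl⟩, ?_⟩
    rw [hηW, clSubι_genericPoint]
  · have : (Subtype.val ⁻¹' (clSubι Y y '' O) : Set ↥(closure ({y} : Set Y))) =
        Subtype.val ⁻¹' UY := by
      ext ⟨p, hp⟩
      simp only [Set.mem_preimage]
      constructor
      · rintro ⟨z, hz, rfl⟩
        have : z ∈ (clSubι Y y) ⁻¹' UY := by rw [hUYO]; exact hz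
        exact this
      · intro hpU
        rw [← range_clSubι] at hp
        obtain ⟨z, rfl⟩ := hp
        refine ⟨z, ?_, rfl⟩
        rw [← hUYO]
        exact hpU
    rw [this]
    exact hUY.preimage continuous_subtype_val
  · rintro _ ⟨_, ⟨w, hw, rfl⟩, rfl⟩
    rw [← hNg]
    have h1 : w ∈ {w | N g w = N f y} := interior_subset hw
    exact h1

end closure

end Groth.Agent.Lib.Helper12.FibreInvCons
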