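import Mathlib
import Groth.Prelude.Def_FDesc
import Groth.Agent.Lib.Helper11.GeomSep
import Groth.Agent.Lib.Helper14.SmoothInsepSch

/-!
# Irreducible components of the base change to an algebraic extension are defined over a finite
level (helper12)
-/

set_option autoImplicit false
set_option linter.style.haveILetI false
universe u

open CategoryTheory CategoryTheory.Limits AlgebraicGeometry
open Groth.Agent.Lib.Helper11.FBaseLib Groth.Agent.Lib.Helper11.FBaseLib2
  Groth.Agent.Lib.Helper11.BcLevels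

namespace Groth.Agent.Lib.Helper12.GeomCompLevel

variable {k : Type u} [Field k] {X : Scheme.{u}} (f : X ⟶ Spec (CommRingCat.of k))
  (K : Type u) [Field K] [Algebra k K]

/-- a closed subset with quasi-compact complement is pulled back from a finite level -/
theorem exists_level_closed [Algebra.IsAlgebraic k K] (Z : Set ↥(FBase.bc f K)) (hZ : IsClosed Z)
    (hc : IsCompact Zᶜ) :
    ∃ (L : IntermediateField k K) (_ : FiniteDimensional k L) (D : Set ↥(FBase.bc f ↥L)),
      IsClosed D ∧ ⇑(bcHom f L.val) ⁻¹' D = Z := by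
  classical
  have h1 : ∀ y : {y // y ∈ Zᶜ}, ∃ (L : IntermediateField k K) (_ : FiniteDimensional k L)
      (V : Set ↥(FBase.bc f ↥L)), IsOpen V ∧ (bcHom f L.val) y.1 ∈ V ∧
        ⇑(bcHom f L.val) ⁻¹' V ⊆ Zᶜ := fun y =>
    exists_level_nhds f K y.1 Zᶜ hZ.isOpen_compl y.2
  choose Ly hLy Vy hVy hyVy hVyZ using h1
  obtain ⟨t, ht⟩ := hc.elim_finite_subcover (fun y => ⇑(bcHom f (Ly y).val) ⁻¹' Vy y)
    (fun y => (hVy y).preimage (bcHom f (Ly y).val).continuous)
    (fun y hy => Set.mem_iUnion.2 ⟨⟨y, hy⟩, hyVy ⟨y, hy⟩⟩)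
  let L : IntermediateField k K := ⨆ y ∈ t, Ly y
  haveI hLfin : FiniteDimensional k L := by
    have : L = ⨆ y : t, Ly y.1 := by
      show (⨆ y ∈ t, Ly y) = ⨆ y : t, Ly y.1
      rw [iSup_subtype']
    rw [this]
    haveI : ∀ y : t, FiniteDimensional k (Ly y.1) := fun y => hLy y.1
    exact IntermediateField.finiteDimensional_iSup_of_finite
  have hle : ∀ y ∈ t, Ly y ≤ L := fun y hy => le_iSup₂ (f := fun y _ => Ly y) y hy
  let tr : ∀ y (hy : y ∈ t), FBase.bc f ↥L ⟶ FBase.bc f ↥(Ly y) := fun y hy =>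
    bcHom f (IntermediateField.inclusion (hle y hy))
  have htr : ∀ y (hy : y ∈ t) (z : ↥(FBase.bc f K)),
      (tr y hy) ((bcHom f L.val) z) = (bcHom f (Ly y).val) z := fun y hy z =>
    bcHom_comp_apply f (IntermediateField.inclusion (hle y hy)) L.val z
  refine ⟨L, hLfin, (⋃ y : t, ⇑(tr y.1 y.2) ⁻¹' Vy y.1)ᶜ, ?_, ?_⟩
  · rw [isClosed_compl_iff]
    exact isOpen_iUnion fun y => (hVy y.1).preimage (tr y.1 y.2).continuous
  · rw [Set.preimage_compl, ← compl_inj_iff, compl_compl]
    ext z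
    simp only [Set.mem_preimage, Set.mem_iUnion]
    constructor
    · rintro ⟨y, hy⟩
      rw [htr y.1 y.2] at hy
      exact hVyZ y.1 hy
    · intro hz
      obtain ⟨y, hy⟩ := Set.mem_iUnion.1 (ht hz)
      obtain ⟨hyt, hy'⟩ := Set.mem_iUnion.1 hy
      refine ⟨⟨y, hyt⟩, ?_⟩
      rw [htr y hyt]
      exact hy'


/-- all irreducible components of the base change to an algebraic extension are saturated over a
suitable finite level -/
theorem exists_level_saturated [Algebra.IsAlgebraic k K] [LocallyOfFiniteType f] [QuasiCompact f] :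
    ∃ (L : IntermediateField k K) (_ : FiniteDimensional k L),
      ∀ Z ∈ irreducibleComponents ↥(FBase.bc f K),
        ⇑(bcHom f L.val) ⁻¹' (⇑(bcHom f L.val) '' Z) = Z := by
  classical
  haveI : LocallyOfFiniteType (FBase.bcStr f K) :=
    MorphismProperty.pullback_snd (P := @LocallyOfFiniteType) _ _ inferInstance
  haveI : QuasiCompact (FBase.bcStr f K) :=
    MorphismProperty.pullback_snd (P := @QuasiCompact) _ _ inferInstance
  haveI : IsNoetherian (FBase.bc f K) :=
    Groth.Agent.Lib.Helper14.SmoothInsepSch.isNoetherian_of_lft_qc K (FBase.bcStr f K)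
  have hfin : (irreducibleComponents ↥(FBase.bc f K)).Finite :=
    TopologicalSpace.NoetherianSpace.finite_irreducibleComponents
  have h1 : ∀ Z : irreducibleComponents ↥(FBase.bc f K), ∃ (L : IntermediateField k K)
      (_ : FiniteDimensional k L) (D : Set ↥(FBase.bc f ↥L)),
      IsClosed D ∧ ⇑(bcHom f L.val) ⁻¹' D = Z.1 := fun Z =>
    exists_level_closed f K Z.1 (isClosed_of_mem_irreducibleComponents Z.1 Z.2)
      (TopologicalSpace.NoetherianSpace.isCompact _)
  choose LZ hLZ DZ hDZ hDZeq using h1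
  haveI : Finite ↥(irreducibleComponents ↥(FBase.bc f K)) := hfin.to_subtype
  let L : IntermediateField k K := ⨆ Z, LZ Z
  haveI hLfin : FiniteDimensional k L := IntermediateField.finiteDimensional_iSup_of_finite
  refine ⟨L, hLfin, fun Z hZ => ?_⟩
  have hle : LZ ⟨Z, hZ⟩ ≤ L := le_iSup LZ ⟨Z, hZ⟩
  have htr : ∀ z : ↥(FBase.bc f K),
      (bcHom f (IntermediateField.inclusion hle)) ((bcHom f L.val) z) =
        (bcHom f (LZ ⟨Z, hZ⟩).val) z := fun z =>
    bcHom_comp_apply f (IntermediateField.inclusion hle) L.val z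
  have hZeq : Z = ⇑(bcHom f L.val) ⁻¹'
      (⇑(bcHom f (IntermediateField.inclusion hle)) ⁻¹' DZ ⟨Z, hZ⟩) := by
    have h0 : ⇑(bcHom f (LZ ⟨Z, hZ⟩).val) ⁻¹' DZ ⟨Z, hZ⟩ = Z := hDZeq ⟨Z, hZ⟩
    conv_lhs => rw [← h0]
    ext z
    simp only [Set.mem_preimage]
    rw [htr]
  conv_lhs => rw [hZeq]
  rw [Set.preimage_image_preimage]
  exact hZeq.symm

end Groth.Agent.Lib.Helper12.GeomCompLevel
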