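import Mathlib
import Groth.Prelude.Def_EGA4Misc
import Groth.Prelude.Def_Flat
import Groth.Agent.Lib.Helper15.GeomFibre
import Groth.Agent.Lib.Helper12.ConsPropNoeth

/-!
# The locus of geometrically irreducible fibres: basic properties (helper12)
-/

set_option autoImplicit false
set_option linter.style.haveILetI false
universe u
open AlgebraicGeometry CategoryTheory Limits Topology

namespace Groth.Agent.Lib.Helper12.GeomIrrBasic

open ConsProp

/-- geometric irreducibility as a relation between a field and a scheme over it -/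
def PGI : ∀ ⦃Y T : Scheme.{u}⦄, (Y ⟶ T) → Prop := fun _ _ g => GeometricallyIrreducible g

/-- the locus of points with geometrically irreducible fibre -/
def GI {X Y : Scheme.{u}} (f : X ⟶ Y) : Set Y :=
  {y | GeometricallyIrreducible (f.fiberToSpecResidueField y)}

lemma mem_GI {X Y : Scheme.{u}} (f : X ⟶ Y) (y : Y) :
    y ∈ GI f ↔ GeometricallyIrreducible (f.fiberToSpecResidueField y) := Iff.rfl

lemma locus_PGI {X S : Scheme.{u}} (u : X ⟶ S) : locus PGI u = GI u := rfl

lemma mem_GI_pullback {X Y X' Y' : Scheme.{u}} {f : X ⟶ Y} {g : Y' ⟶ Y} {f' : X' ⟶ Y'}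
    {g' : X' ⟶ X} (hc : IsPullback g' f' f g) (y' : Y') : y' ∈ GI f' ↔ g y' ∈ GI f := by
  simp only [mem_GI, geometricallyIrreducible_iff]
  exact Groth.Agent.Lib.Helper15.geometrically_fiber_iff_of_isPullback _
    Groth.Agent.Lib.Helper15.irreducibleSpace_descends f g f' g' hc y'

lemma GI_pullback {X Y X' Y' : Scheme.{u}} {f : X ⟶ Y} {g : Y' ⟶ Y} {f' : X' ⟶ Y'}
    {g' : X' ⟶ X} (hc : IsPullback g' f' f g) : GI f' = g ⁻¹' GI f := by
  ext y'
  exact mem_GI_pullback hc y'

lemma GI_eq_univ_iff {X Y : Scheme.{u}} (f : X ⟶ Y) :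
    GI f = Set.univ ↔ GeometricallyIrreducible f := by
  rw [GeometricallyIrreducible.iff_geometricallyIrreducible_fiber, Set.eq_univ_iff_forall]
  rfl

theorem isFieldStable_PGI : IsFieldStable PGI.{u} := by
  intro Y Y' T T' g g' e h _ _ _ _ _ _ hsq
  constructor
  · intro hg
    exact MorphismProperty.of_isPullback (P := @GeometricallyIrreducible) hsq hg
  · intro hg'
    show GeometricallyIrreducible g
    rw [GeometricallyIrreducible.iff_geometricallyIrreducible_fiber]
    intro t
    obtain ⟨t'⟩ : Nonempty T' := inferInstance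
    have ht : h t' = t := Subsingleton.elim _ _
    haveI : GeometricallyIrreducible g' := hg'
    have h1 : t' ∈ GI g' := by
      rw [mem_GI]
      infer_instance
    have h2 := (mem_GI_pullback hsq t').1 h1
    rw [ht] at h2
    exact h2

/-- a surjective closed immersion is a universal homeomorphism -/
theorem isUnivHomeo_of_isClosedImmersion_of_surjective {Z' Z : Scheme.{u}} (r : Z' ⟶ Z)
    [IsClosedImmersion r] [Surjective r] : FlatMor.IsUnivHomeo r := by
  intro X' Y' i₁ i₂ f' hsq
  haveI : IsClosedImmersion f' :=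
    MorphismProperty.of_isPullback (P := @IsClosedImmersion) hsq.flip inferInstance
  haveI : Surjective f' :=
    MorphismProperty.of_isPullback (P := @Surjective) hsq.flip inferInstance
  show IsHomeomorph f'
  rw [isHomeomorph_iff_isEmbedding_surjective]
  exact ⟨f'.isEmbedding, f'.surjective⟩

/-- geometric irreducibility is insensitive to universal homeomorphisms of the source -/
theorem geomIrr_comp_iff_of_isUnivHomeo {Z' Z T : Scheme.{u}} (r : Z' ⟶ Z)
    (hr : FlatMor.IsUnivHomeo r) (g : Z ⟶ T) :
    GeometricallyIrreducible (r ≫ g) ↔ GeometricallyIrreducible g := by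
  simp only [geometricallyIrreducible_iff]
  rw [geometrically_iff_of_isClosedUnderIsomorphisms,
    geometrically_iff_of_isClosedUnderIsomorphisms]
  refine forall_congr' fun K => forall_congr' fun _ => forall_congr' fun x => ?_
  rw [← (pullbackRightPullbackFstIso g x r).hom.homeomorph.irreducibleSpace_iff]
  have h1 : IsHomeomorph (pullback.snd r (pullback.fst g x)) :=
    hr (pullback.fst r (pullback.fst g x)) (pullback.fst g x) (pullback.snd r (pullback.fst g x))
      (IsPullback.of_hasPullback r (pullback.fst g x)).flip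
  exact h1.homeomorph.irreducibleSpace_iff

/-- (UH) the locus of geometrically irreducible fibres is insensitive to universal
homeomorphisms of the source -/
theorem GI_comp_of_isUnivHomeo {X' X Y : Scheme.{u}} (r : X' ⟶ X) (hr : FlatMor.IsUnivHomeo r)
    (p : X ⟶ Y) : GI (r ≫ p) = GI p := by
  ext y
  rw [mem_GI, mem_GI]
  -- the fibre of `r ≫ p` is the pullback of `r` along the fibre inclusion
  have hsq : IsPullback (p.fiberι y) (p.fiberToSpecResidueField y) p (Y.fromSpecResidueField y) :=
    IsPullback.of_hasPullback _ _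
  have hsq2 : IsPullback (pullback.fst r (p.fiberι y)) (pullback.snd r (p.fiberι y)) r
      (p.fiberι y) := IsPullback.of_hasPullback _ _
  have hsq3 : IsPullback (pullback.fst r (p.fiberι y))
      (pullback.snd r (p.fiberι y) ≫ p.fiberToSpecResidueField y) (r ≫ p)
      (Y.fromSpecResidueField y) := (hsq2.flip.paste_horiz hsq.flip).flip
  have hsq4 : IsPullback ((r ≫ p).fiberι y) ((r ≫ p).fiberToSpecResidueField y) (r ≫ p)
      (Y.fromSpecResidueField y) := IsPullback.of_hasPullback _ _
  let e := hsq3.isoIsPullback _ _ hsq4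
  have h1 : e.hom ≫ (r ≫ p).fiberToSpecResidueField y =
      pullback.snd r (p.fiberι y) ≫ p.fiberToSpecResidueField y :=
    IsPullback.isoIsPullback_hom_snd _ _ hsq3 hsq4
  have hr' : FlatMor.IsUnivHomeo (pullback.snd r (p.fiberι y)) := by
    haveI : (FlatMor.IsUnivHomeo.{u}).IsStableUnderBaseChange := by
      unfold FlatMor.IsUnivHomeo; infer_instance
    exact MorphismProperty.of_isPullback (P := FlatMor.IsUnivHomeo) hsq2 hr
  rw [← geomIrr_comp_iff_of_isUnivHomeo _ hr' (p.fiberToSpecResidueField y), ← h1]
  exact (MorphismProperty.cancel_left_of_respectsIso (P := @GeometricallyIrreducible)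
    e.hom _).symm

end Groth.Agent.Lib.Helper12.GeomIrrBasic
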