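import Mathlib
import Groth.Agent.Lib.Helper12.GeomIrrBasic
import Groth.Agent.Lib.Helper12.GeomRedGen

/-!
# Geometric irreducibility of fibres: pointwise criteria (helper12)
-/

set_option autoImplicit false
set_option linter.style.haveILetI false
universe u
open AlgebraicGeometry CategoryTheory Limits Topology

namespace Groth.Agent.Lib.Helper12.GeomIrrPt

open Groth.Agent.Lib.Helper12.GeomIrrBasic Groth.Agent.Lib.Helper12.GeomRedGen

/-- a flat family over an irreducible base with irreducible generic fibre is irreducible -/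
theorem irreducibleSpace_of_flat {X' Y' : Scheme.{u}} (h : X' ⟶ Y') [Flat h] [IrreducibleSpace Y']
    [IrreducibleSpace (h.fiber (genericPoint Y'))] : IrreducibleSpace X' := by
  have hdense : closure (Set.range (h.fiberι (genericPoint Y'))) = Set.univ := by
    rw [h.range_fiberι, Set.eq_univ_iff_forall]
    intro x
    have h1 : genericPoint Y' ⤳ h x := genericPoint_specializes _
    obtain ⟨x', hx', hxx'⟩ := Flat.generalizingMap h h1
    have h2 : x ∈ closure {x'} := specializes_iff_mem_closure.mp hx'
    exact closure_mono (Set.singleton_subset_iff.mpr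
      (show x' ∈ h ⁻¹' {genericPoint Y'} from hxx')) h2
  have h1 : IsIrreducible (Set.range (h.fiberι (genericPoint Y'))) := by
    rw [← Set.image_univ]
    exact (IrreducibleSpace.isIrreducible_univ _).image _
      (h.fiberι _).continuous.continuousOn
  have h2 := h1.closure
  rw [hdense] at h2
  exact (irreducibleSpace_def _).mpr h2

theorem irreducibleSpace_pullback_of_mem_GI {X' Y' : Scheme.{u}} (h : X' ⟶ Y') {K : Type u}
    [Field K] (y : Spec (.of K) ⟶ Y') (hy : ∀ t, y t ∈ GI h) :
    IrreducibleSpace ↥(pullback h y) := by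
  have h1 : GI (pullback.snd h y) = Set.univ := by
    rw [GI_pullback (IsPullback.of_hasPullback h y)]
    ext t
    simp only [Set.mem_preimage, hy t, Set.mem_univ]
  rw [GI_eq_univ_iff] at h1
  haveI := h1
  exact GeometricallyIrreducible.irreducibleSpace_of_subsingleton (pullback.snd h y)

theorem isReduced_pullback_of_mem_E {X' Y' : Scheme.{u}} (h : X' ⟶ Y') {K : Type u}
    [Field K] (y : Spec (.of K) ⟶ Y') (hy : ∀ t, y t ∈ E h) :
    IsReduced (pullback h y) := by
  have h1 : GeometricallyReduced (pullback.snd h y) := by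
    rw [geometricallyReduced_iff, geometrically_iff_forall_fiberToSpecResidueField]
    intro t
    have h2 : t ∈ E (pullback.snd h y) :=
      (mem_E_pullback (IsPullback.of_hasPullback h y) t).2 (hy t)
    rwa [mem_E, geometricallyReduced_iff] at h2
  exact h1.geometrically_isReduced (𝟙 (Spec (.of K))) (𝟙 _) (pullback.snd h y)
    IsPullback.of_id_fst

theorem mem_GI_of_forall {X' Y' : Scheme.{u}} (h : X' ⟶ Y') (y₀ : Y')
    (H : ∀ (K : Type u) [Field K] (y : Spec (.of K) ⟶ Y'), (∀ t, y t = y₀) →
      IrreducibleSpace ↥(pullback h y)) : y₀ ∈ GI h := by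
  rw [mem_GI, geometricallyIrreducible_iff, geometrically_iff_of_isClosedUnderIsomorphisms]
  intro K _ x
  have h1 := H K (x ≫ Y'.fromSpecResidueField y₀) (fun t => by
    rw [Scheme.Hom.comp_apply, Scheme.fromSpecResidueField_apply])
  exact ((pullbackLeftPullbackSndIso h (Y'.fromSpecResidueField y₀) x).hom.homeomorph.irreducibleSpace_iff).mpr h1

end Groth.Agent.Lib.Helper12.GeomIrrPt
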