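import Mathlib
import Groth.Agent.Lib.Helper12.AbsIrred

/-!
# Auxiliary algebra for hypersurface models (helper12)
-/

set_option autoImplicit false
universe u v
open TensorProduct MvPolynomial

namespace Groth.Agent.Lib.Helper12.HypModelAux

open Groth.Agent.Lib.Helper12.AbsIrred

section Denoms

variable {σ : Type v} (A K : Type u) [CommRing A] [IsDomain A] [Field K] [Algebra A K]
  [IsFractionRing A K]

/-- clearing denominators of a polynomial over the fraction field -/
theorem exists_clear_denoms (G : MvPolynomial σ K) :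
    ∃ a : A, a ≠ 0 ∧ ∃ G' : MvPolynomial σ A,
      map (algebraMap A K) G' = C (algebraMap A K a) * G := by
  classical
  obtain ⟨b, hb⟩ := IsLocalization.exist_integer_multiples_of_finset (nonZeroDivisors A)
    (G.support.image (fun m => coeff m G))
  have hc : ∀ m : σ →₀ ℕ, ∃ c : A, algebraMap A K c = algebraMap A K (b : A) * coeff m G := by
    intro m
    by_cases hm : m ∈ G.support
    · obtain ⟨c, hc⟩ := hb (coeff m G) (Finset.mem_image_of_mem _ hm)
      exact ⟨c, by rw [hc, Algebra.smul_def]⟩
    · exact ⟨0, by rw [notMem_support_iff.mp hm, mul_zero, map_zero]⟩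
  choose c hc using hc
  refine ⟨b, nonZeroDivisors.ne_zero b.2, ofCoeffs G.support c, ?_⟩
  ext m
  rw [coeff_map, coeff_ofCoeffs, coeff_C_mul]
  by_cases hm : m ∈ G.support
  · rw [if_pos hm, hc]
  · rw [if_neg hm, map_zero, notMem_support_iff.mp hm, mul_zero]

end Denoms

section FracSub

variable {A R L : Type*} [CommRing A] [CommRing R] [CommRing L] [Algebra A R] [Algebra A L]

/-- elements of `L` which become values of `φ` after multiplication by a power of `φ d` -/
def fracSub (φ : R →ₐ[A] L) (d : R) : Subalgebra A L where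
  carrier := {y | ∃ (n : ℕ) (c : R), y * φ d ^ n = φ c}
  mul_mem' := by
    rintro y y' ⟨n, c, h⟩ ⟨n', c', h'⟩
    refine ⟨n + n', c * c', ?_⟩
    rw [map_mul, ← h, ← h', pow_add]; ring
  add_mem' := by
    rintro y y' ⟨n, c, h⟩ ⟨n', c', h'⟩
    refine ⟨n + n', c * d ^ n' + c' * d ^ n, ?_⟩
    rw [map_add, map_mul, map_mul, map_pow, map_pow, ← h, ← h', pow_add]; ring
  algebraMap_mem' := by
    intro a
    exact ⟨0, algebraMap A R a, by rw [pow_zero, mul_one, AlgHom.commutes]⟩

theorem mem_fracSub (φ : R →ₐ[A] L) (d : R) (y : L) :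
    y ∈ fracSub φ d ↔ ∃ (n : ℕ) (c : R), y * φ d ^ n = φ c := Iff.rfl

theorem map_mem_fracSub (φ : R →ₐ[A] L) (d : R) (c : R) : φ c ∈ fracSub φ d :=
  ⟨0, c, by rw [pow_zero, mul_one]⟩

end FracSub

section Tensor

variable {A B : Type u} [CommRing A] [IsDomain A] [CommRing B] [IsDomain B] [Algebra A B]
  [Module.Flat A B]

theorem isDomain_tensor_fractionRing (κ : Type u) [Field κ] [Algebra A κ]
    (hκ : Function.Injective (algebraMap A κ)) [IsDomain (κ ⊗[A] B)] :
    IsDomain (κ ⊗[A] FractionRing B) := by
  let M := nonZeroDivisors B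
  let M' : Submonoid (κ ⊗[A] B) :=
    M.map (Algebra.TensorProduct.includeRight (R := A) (A := κ) (B := B))
  have hM' : M' ≤ nonZeroDivisors (κ ⊗[A] B) := by
    rintro _ ⟨s, hs, rfl⟩
    apply mem_nonZeroDivisors_of_ne_zero
    intro h0
    have hinj := Algebra.TensorProduct.includeRight_injective (R := A) (A := κ) (B := B) hκ
    exact nonZeroDivisors.ne_zero hs (hinj (by rw [h0, map_zero]))
  haveI : IsDomain (Localization M') := IsLocalization.isDomain_localization hM'
  let e := IsLocalization.tensorProductEquivOfMapIncludeRight A κ M (FractionRing B)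
    (Localization M')
  exact e.toMulEquiv.isDomain

/-- the fibre ring of a hypersurface is a domain when the equation stays irreducible -/
theorem isDomain_tensor_quotient {σ : Type v} {A : Type u} [CommRing A] (κ : Type u) [Field κ]
    [Algebra A κ] (P : MvPolynomial σ A) (hP : Irreducible (map (algebraMap A κ) P)) :
    IsDomain (κ ⊗[A] (MvPolynomial σ A ⧸ Ideal.span {P})) := by
  let I : Ideal (MvPolynomial σ A) := Ideal.span {P}
  let e₁ := Algebra.TensorProduct.tensorQuotientEquiv (R := A) κ (MvPolynomial σ A) κ I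
  let e := algebraTensorAlgEquiv (σ := σ) A κ
  let J : Ideal (MvPolynomial σ κ) := Ideal.span {map (algebraMap A κ) P}
  have hJ : J = (I.map (Algebra.TensorProduct.includeRight (R := A) (A := κ)
      (B := MvPolynomial σ A))).map (e : κ ⊗[A] MvPolynomial σ A →+* MvPolynomial σ κ) := by
    show J = Ideal.map _ (Ideal.map _ (Ideal.span {P}))
    rw [Ideal.map_span, Ideal.map_span, Set.image_singleton, Set.image_singleton]
    have h1 : (e : κ ⊗[A] MvPolynomial σ A →+* MvPolynomial σ κ)
        (Algebra.TensorProduct.includeRight (R := A) (A := κ) P) = map (algebraMap A κ) P := by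
      show e ((1 : κ) ⊗ₜ P) = _
      rw [algebraTensorAlgEquiv_tmul, one_smul]
    rw [h1]
  let e₂ := Ideal.quotientEquiv _ J e.toRingEquiv hJ
  haveI : J.IsPrime := by
    rw [Ideal.span_singleton_prime hP.ne_zero]
    exact hP.prime
  haveI : IsDomain (MvPolynomial σ κ ⧸ J) := Ideal.Quotient.isDomain J
  exact (e₁.toRingEquiv.trans e₂).toMulEquiv.isDomain

end Tensor

end Groth.Agent.Lib.Helper12.HypModelAux
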