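import Mathlib
import Groth.Agent.Lib.Helper14.SepGenSmooth

/-!
# Hypersurface models of geometrically integral finitely generated field extensions (helper12)

For a finitely generated field extension `L / K` with `κ ⊗[K] L` a domain for all field
extensions `κ / K`, we produce a surjection-up-to-fractions `ev : K[T_σ] → L` whose kernel is
principal, generated by a polynomial staying irreducible over every `κ`.
-/

set_option autoImplicit false
universe u v
open TensorProduct MvPolynomial

namespace Groth.Agent.Lib.Helper12.HypModelField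

section Irr

variable {K : Type u} [Field K] {σ : Type v} {L : Type u} [CommRing L] [Algebra K L]

/-- base-changed evaluation -/
noncomputable def evk (ev : MvPolynomial σ K →ₐ[K] L) (κ : Type u) [Field κ] [Algebra K κ] :
    MvPolynomial σ κ →ₐ[κ] κ ⊗[K] L :=
  aeval (fun i => (1 : κ) ⊗ₜ[K] ev (X i))

theorem evk_map (ev : MvPolynomial σ K →ₐ[K] L) (κ : Type u) [Field κ] [Algebra K κ]
    (G : MvPolynomial σ K) : evk ev κ (map (algebraMap K κ) G) = (1 : κ) ⊗ₜ[K] ev G := by
  unfold evk
  rw [aeval_map_algebraMap, aeval_one_tmul]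
  congr 1
  exact (DFunLike.congr_fun (aeval_unique ev) G).symm

theorem exists_of_evk_eq_zero (ev : MvPolynomial σ K →ₐ[K] L) (g : MvPolynomial σ K)
    (hgev : ev g = 0) (hker : ∀ G, ev G = 0 → ∃ H, G = g * H)
    (κ : Type u) [Field κ] [Algebra K κ] (p : MvPolynomial σ κ) (hp : evk ev κ p = 0) :
    ∃ r, p = map (algebraMap K κ) g * r := by
  let mg : MvPolynomial σ K →ₗ[K] MvPolynomial σ K := LinearMap.mulLeft K g
  let evl : MvPolynomial σ K →ₗ[K] L := ev.toLinearMap
  have hex : Function.Exact mg evl := by
    intro y
    constructor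
    · intro hy
      obtain ⟨H, rfl⟩ := hker y hy
      exact ⟨H, rfl⟩
    · rintro ⟨x, rfl⟩
      show ev (g * x) = 0
      rw [map_mul, hgev, zero_mul]
  have hex' := Module.Flat.lTensor_exact κ hex
  let e := algebraTensorAlgEquiv (σ := σ) K κ
  have h1 : ∀ z : κ ⊗[K] MvPolynomial σ K, evk ev κ (e z) = evl.lTensor κ z := by
    intro z
    induction z using TensorProduct.induction_on with
    | zero => simp
    | tmul a G =>
      rw [algebraTensorAlgEquiv_tmul, map_smul, evk_map, LinearMap.lTensor_tmul,
        TensorProduct.smul_tmul', smul_eq_mul, mul_one]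
      rfl
    | add x y hx hy => rw [map_add, map_add, map_add, hx, hy]
  have h2 : ∀ w : κ ⊗[K] MvPolynomial σ K, e (mg.lTensor κ w) = map (algebraMap K κ) g * e w := by
    intro w
    induction w using TensorProduct.induction_on with
    | zero => simp
    | tmul a G =>
      rw [LinearMap.lTensor_tmul, algebraTensorAlgEquiv_tmul, algebraTensorAlgEquiv_tmul]
      show a • map (algebraMap K κ) (g * G) = _
      rw [map_mul, mul_smul_comm]
    | add x y hx hy => rw [map_add, map_add, map_add, hx, hy, mul_add]
  have h3 : evl.lTensor κ (e.symm p) = 0 := by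
    rw [← h1, AlgEquiv.apply_symm_apply, hp]
  obtain ⟨w, hw⟩ := (hex' _).mp h3
  refine ⟨e w, ?_⟩
  rw [← h2, hw, AlgEquiv.apply_symm_apply]

theorem irreducible_map_of_ker (ev : MvPolynomial σ K →ₐ[K] L) (g : MvPolynomial σ K)
    (hg0 : g ≠ 0) (hgev : ev g = 0) (hker : ∀ G, ev G = 0 → ∃ H, G = g * H)
    (κ : Type u) [Field κ] [Algebra K κ] [IsDomain (κ ⊗[K] L)] :
    Irreducible (map (algebraMap K κ) g) := by
  have hg0' : map (algebraMap K κ) g ≠ 0 := by
    intro h
    apply hg0
    exact map_injective _ (algebraMap K κ).injective (by rw [h, map_zero])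
  have hev0 : evk ev κ (map (algebraMap K κ) g) = 0 := by
    rw [evk_map, hgev, tmul_zero]
  rw [irreducible_iff]
  constructor
  · intro hu
    have := hu.map (evk ev κ)
    rw [hev0] at this
    exact not_isUnit_zero this
  · intro p q hpq
    have h1 : evk ev κ p * evk ev κ q = 0 := by rw [← map_mul, ← hpq, hev0]
    rcases mul_eq_zero.mp h1 with h | h
    · obtain ⟨r, hr⟩ := exists_of_evk_eq_zero ev g hgev hker κ p h
      right
      have h2 : map (algebraMap K κ) g * 1 = map (algebraMap K κ) g * (r * q) := by
        rw [mul_one, ← mul_assoc, ← hr, ← hpq]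
      have h3 := mul_left_cancel₀ hg0' h2
      exact IsUnit.of_mul_eq_one r (by rw [mul_comm]; exact h3.symm)
    · obtain ⟨r, hr⟩ := exists_of_evk_eq_zero ev g hgev hker κ q h
      left
      have h2 : map (algebraMap K κ) g * 1 = map (algebraMap K κ) g * (r * p) := by
        rw [mul_one, ← mul_assoc, ← hr, mul_comm, ← hpq]
      have h3 := mul_left_cancel₀ hg0' h2
      exact IsUnit.of_mul_eq_one r (by rw [mul_comm]; exact h3.symm)

end Irr


section Model

open IntermediateField

set_option maxHeartbeats 1600000 in
/-- **Hypersurface model.** -/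
theorem exists_model (K L : Type u) [Field K] [Field L] [Algebra K L] [Algebra.EssFiniteType K L]
    (hdom : ∀ (κ : Type u) [Field κ] [Algebra K κ], IsDomain (κ ⊗[K] L)) :
    ∃ (τ : Type u) (_ : Fintype τ) (ev : MvPolynomial (Option τ) K →ₐ[K] L)
      (g : MvPolynomial (Option τ) K), g ≠ 0 ∧ ev g = 0 ∧ (∀ G, ev G = 0 → ∃ H, G = g * H) ∧
      (∀ x : L, ∃ u v : MvPolynomial (Option τ) K, ev v ≠ 0 ∧ x * ev v = ev u) := by
  classical
  haveI : Algebra.IsGeometricallyReduced K L := by
    rw [Algebra.isGeometricallyReduced_field_iff]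
    haveI := hdom (AlgebraicClosure K)
    infer_instance
  obtain ⟨s, hs, Hs⟩ : ∃ s : Finset L, IsTranscendenceBasis K ((↑) : s → L) ∧
      Algebra.IsSeparable (IntermediateField.adjoin K (s : Set L)) L := by
    obtain _ | ⟨p, hp, hpk⟩ := CharP.exists' K
    · exact exists_isTranscendenceBasis_and_isSeparable_of_perfectField K L
    · haveI : ExpChar K p := ExpChar.prime hp.out
      haveI := hpk
      exact exists_isTranscendenceBasis_and_isSeparable_of_linearIndepOn_pow_of_essFiniteType
        (k := K) (K := L) p hp.out
        (fun s hs => Groth.Agent.Lib.Helper14.linearIndepOn_pow_of_isGeometricallyReduced p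
          hp.out s hs)
  let F := IntermediateField.adjoin K (s : Set L)
  haveI : Algebra.IsSeparable F L := Hs
  haveI : Algebra.EssFiniteType F L := Algebra.EssFiniteType.of_comp K F L
  haveI : Algebra.IsAlgebraic F L := Algebra.IsSeparable.isAlgebraic F L
  haveI : Module.Finite F L := Algebra.finite_of_essFiniteType_of_isAlgebraic
  obtain ⟨θ₀, hθ₀⟩ := Field.exists_primitive_element F L
  -- the polynomial ring on the transcendence basis
  let t : s → L := fun i => (i : L)
  have htinj : Function.Injective (aeval t : MvPolynomial s K →ₐ[K] L) :=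
    algebraicIndependent_iff_injective_aeval.1 hs.1
  letI algR : Algebra (MvPolynomial s K) L := (aeval t : MvPolynomial s K →ₐ[K] L).toRingHom.toAlgebra
  have halgR : ∀ y : MvPolynomial s K, algebraMap (MvPolynomial s K) L y = aeval t y := fun _ => rfl
  haveI : Module.IsTorsionFree (MvPolynomial s K) L :=
    Module.isTorsionFree_iff_algebraMap_injective.mpr htinj
  have hmemF : ∀ y : MvPolynomial s K, aeval t y ∈ F := by
    intro y
    have h1 : aeval t y ∈ Algebra.adjoin K (Set.range t) := by
      rw [Algebra.adjoin_range_eq_range_aeval]; exact ⟨y, rfl⟩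
    have h2 : Set.range t = (s : Set L) := by
      ext x; simp [t]
    rw [h2] at h1
    exact IntermediateField.algebra_adjoin_le_adjoin K _ h1
  -- θ₀ is algebraic over the polynomial ring
  have halg : IsAlgebraic (MvPolynomial s K) θ₀ := by
    have h1 : IsAlgebraic (Algebra.adjoin K (Set.range t)) θ₀ := hs.isAlgebraic.isAlgebraic θ₀
    exact IsAlgebraic.of_ringHom_of_comp_eq (R := MvPolynomial s K)
      (S := Algebra.adjoin K (Set.range t)) (A := L) (B := L)
      (hs.1.aevalEquiv.toRingEquiv.toRingHom) (RingHom.id L) h1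
      hs.1.aevalEquiv.surjective Function.injective_id (by ext x <;> rfl)
  obtain ⟨y, hy0, hint⟩ := halg.exists_integral_multiple
  set θ : L := y • θ₀ with hθ
  have hθ' : θ = aeval t y * θ₀ := by rw [hθ, Algebra.smul_def, halgR]
  have hy0' : aeval t y ≠ 0 := fun h => hy0 (htinj (by rw [h, map_zero]))
  -- the evaluation map
  let vals : Option s → L := fun o => o.elim θ t
  let ev : MvPolynomial (Option s) K →ₐ[K] L := aeval vals
  let E := MvPolynomial.optionEquivLeft K s
  let pa : Polynomial (MvPolynomial s K) →ₐ[MvPolynomial s K] L := Polynomial.aeval θ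
  have hev : ∀ G, ev G = pa (E G) := by
    intro G
    have h1 : (ev : MvPolynomial (Option s) K →+* L) =
        (pa : Polynomial (MvPolynomial s K) →+* L).comp (E : MvPolynomial (Option s) K →+* _) := by
      apply MvPolynomial.ringHom_ext
      · intro a
        show ev (C a) = pa (E (C a))
        simp only [ev, E, pa, aeval_C, optionEquivLeft_C, Polynomial.aeval_C, halgR]
      · intro i
        show ev (X i) = pa (E (X i))
        cases i with
        | none => simp only [ev, E, pa, aeval_X, optionEquivLeft_X_none, Polynomial.aeval_X, vals,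
            Option.elim_none]
        | some i => simp only [ev, E, pa, aeval_X, optionEquivLeft_X_some, Polynomial.aeval_C, halgR,
            vals, Option.elim_some]
    exact DFunLike.congr_fun h1 G
  let mp := minpoly (MvPolynomial s K) θ
  have hmp0 : mp ≠ 0 := minpoly.ne_zero hint
  refine ⟨s, inferInstance, ev, E.symm mp, ?_, ?_, ?_, ?_⟩
  · intro h
    apply hmp0
    have := congrArg E h
    rwa [AlgEquiv.apply_symm_apply, map_zero] at this
  · rw [hev, AlgEquiv.apply_symm_apply]
    exact minpoly.aeval _ _
  · intro G hG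
    rw [hev] at hG
    obtain ⟨Q, hQ⟩ := minpoly.isIntegrallyClosed_dvd hint hG
    refine ⟨E.symm Q, ?_⟩
    apply E.injective
    rw [map_mul, AlgEquiv.apply_symm_apply, AlgEquiv.apply_symm_apply, hQ]
  · -- generation
    have htop : IntermediateField.adjoin K ((s : Set L) ∪ {θ₀}) = ⊤ := by
      have h1 := IntermediateField.adjoin_adjoin_left K (s : Set L) ({θ₀} : Set L)
      rw [← h1, hθ₀]
      rfl
    have hsub : (⊤ : IntermediateField K L) ≤ IntermediateField.adjoin K (Set.range vals) := by
      rw [← htop, IntermediateField.adjoin_le_iff]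
      rintro x (hx | hx)
      · exact IntermediateField.subset_adjoin K _ ⟨some ⟨x, hx⟩, rfl⟩
      · rw [Set.mem_singleton_iff] at hx
        rw [hx]
        have h1 : θ ∈ IntermediateField.adjoin K (Set.range vals) :=
          IntermediateField.subset_adjoin K _ ⟨none, rfl⟩
        have h2 : aeval t y ∈ IntermediateField.adjoin K (Set.range vals) := by
          have h3 : aeval t y ∈ Algebra.adjoin K (Set.range t) := by
            rw [Algebra.adjoin_range_eq_range_aeval]; exact ⟨y, rfl⟩
          have h4 : Algebra.adjoin K (Set.range t) ≤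
              (IntermediateField.adjoin K (Set.range vals)).toSubalgebra := by
            apply Algebra.adjoin_le
            rintro _ ⟨i, rfl⟩
            exact IntermediateField.subset_adjoin K _ ⟨some i, rfl⟩
          exact h4 h3
        have h5 : θ₀ = (aeval t y)⁻¹ * θ := by
          rw [hθ', ← mul_assoc, inv_mul_cancel₀ hy0', one_mul]
        rw [h5]
        exact mul_mem (inv_mem h2) h1
    intro x
    have hx : x ∈ IntermediateField.adjoin K (Set.range vals) := hsub trivial
    obtain ⟨r, hr, w, hw, rfl⟩ := IntermediateField.mem_adjoin_iff_div.mp hx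
    rw [Algebra.adjoin_range_eq_range_aeval] at hr hw
    obtain ⟨u, rfl⟩ := hr
    obtain ⟨v, rfl⟩ := hw
    show ∃ u' v' : MvPolynomial (Option s) K, ev v' ≠ 0 ∧ (ev u / ev v) * ev v' = ev u'
    by_cases hv : ev v = 0
    · refine ⟨0, 1, ?_, ?_⟩
      · rw [map_one]; exact one_ne_zero
      · rw [hv, div_zero, zero_mul, map_zero]
    · exact ⟨u, v, hv, div_mul_cancel₀ _ hv⟩

end Model

end Groth.Agent.Lib.Helper12.HypModelField
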