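import Mathlib
import Groth.Agent.Lib.Helper12.AbsIrred
import Groth.Agent.Lib.Helper12.HypModelField
import Groth.Agent.Lib.Helper12.HypModelAux

/-!
# Spreading out geometric integrality over a Noetherian domain, ring version (helper12)
-/

set_option autoImplicit false
universe u
open TensorProduct MvPolynomial

namespace Groth.Agent.Lib.Helper12.HypModelRing

open Groth.Agent.Lib.Helper12.AbsIrred Groth.Agent.Lib.Helper12.HypModelAux
  Groth.Agent.Lib.Helper12


private theorem ar1 {F : Type*} [Field F] (x y : F) (hx : x ≠ 0) (l : ℕ) :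
    x⁻¹ * (y * (x * y ^ l)) = y ^ (l + 1) := by
  field_simp
  ring

private theorem ar2 {F : Type*} [Field F] (x y : F) (hx : x ≠ 0) (hy : y ≠ 0) (k : ℕ) :
    x * (y * x ^ k) * (x⁻¹ ^ (k + 1) * y⁻¹) = 1 := by
  have h1 : x ^ (k + 1) * x⁻¹ ^ (k + 1) = 1 := by
    rw [← mul_pow, mul_inv_cancel₀ hx, one_pow]
  have h2 : y * y⁻¹ = 1 := mul_inv_cancel₀ hy
  calc x * (y * x ^ k) * (x⁻¹ ^ (k + 1) * y⁻¹)
      = (x ^ (k + 1) * x⁻¹ ^ (k + 1)) * (y * y⁻¹) := by ring
    _ = 1 := by rw [h1, h2, one_mul]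

private theorem ar3 {F : Type*} [Field F] (x y : F) (hy : y ≠ 0) (k : ℕ) :
    y⁻¹ * (x * (y * x ^ k)) = x ^ (k + 1) := by
  field_simp
  ring

private theorem ar4 {F : Type*} [Field F] (x y : F) (l : ℕ) :
    (y * (x * y ^ l))⁻¹ = x⁻¹ * y⁻¹ ^ l * y⁻¹ := by
  rw [mul_inv, mul_inv, inv_pow]; ring

theorem isDomain_tensor_away {A R S κ : Type u} [CommRing A] [CommRing R] [CommRing S]
    [Algebra A R] [Algebra A S] [Algebra R S] [IsScalarTower A R S] [CommRing κ] [Algebra A κ]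
    (x : R) [IsLocalization.Away x S] [IsDomain (κ ⊗[A] R)] [Nontrivial (κ ⊗[A] S)] :
    IsDomain (κ ⊗[A] S) := by
  let e := IsLocalization.Away.tensorProductEquivTMulRight A κ x S
  have hx0 : ((1 : κ) ⊗ₜ[A] x : κ ⊗[A] R) ≠ 0 := by
    intro h0
    haveI : Subsingleton (Localization.Away ((1 : κ) ⊗ₜ[A] x : κ ⊗[A] R)) :=
      IsLocalization.subsingleton (M := Submonoid.powers ((1 : κ) ⊗ₜ[A] x))
        ⟨1, (pow_one _).trans h0⟩
    haveI : Subsingleton (κ ⊗[A] S) := e.toEquiv.subsingleton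
    exact not_subsingleton _ ‹_›
  haveI : IsDomain (Localization.Away ((1 : κ) ⊗ₜ[A] x : κ ⊗[A] R)) :=
    IsLocalization.isDomain_localization (M := Submonoid.powers ((1 : κ) ⊗ₜ[A] x))
      (powers_le_nonZeroDivisors_of_noZeroDivisors hx0)
  exact e.toMulEquiv.isDomain

variable {A B : Type u} [CommRing A] [IsDomain A] [IsNoetherianRing A] [CommRing B] [IsDomain B]
  [Algebra A B] [Algebra.FiniteType A B] [Module.Flat A B]

set_option maxHeartbeats 4000000 in
theorem exists_localization_domain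
    (hinj : Function.Injective (algebraMap A B))
    (hdom : ∀ (κ : Type u) [Field κ] [Algebra A κ], Function.Injective (algebraMap A κ) →
      IsDomain (κ ⊗[A] B)) :
    ∃ (a : A) (b : B), a ≠ 0 ∧ b ≠ 0 ∧ ∀ (κ : Type u) [Field κ] [Algebra A κ],
      algebraMap A κ a ≠ 0 → Nontrivial (κ ⊗[A] Localization.Away b) →
        IsDomain (κ ⊗[A] Localization.Away b) := by
  classical
  let K := FractionRing A
  let L := FractionRing B
  have hinjL : Function.Injective (algebraMap A L) := by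
    rw [IsScalarTower.algebraMap_eq A B L]
    exact (IsFractionRing.injective B L).comp hinj
  haveI : FaithfulSMul A L := (faithfulSMul_iff_algebraMap_injective A L).mpr hinjL
  letI : Algebra K L := FractionRing.liftAlgebra A L
  haveI : IsScalarTower A K L := FractionRing.isScalarTower_liftAlgebra A L
  haveI : Algebra.EssFiniteType A L := Algebra.EssFiniteType.comp A B L
  haveI : Algebra.EssFiniteType K L := Algebra.EssFiniteType.of_comp A K L
  have hdomK : ∀ (κ : Type u) [Field κ] [Algebra K κ], IsDomain (κ ⊗[K] L) := by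
    intro κ _ _
    letI : Algebra A κ := ((algebraMap K κ).comp (algebraMap A K)).toAlgebra
    haveI : IsScalarTower A K κ := IsScalarTower.of_algebraMap_eq (fun _ => rfl)
    have hκ : Function.Injective (algebraMap A κ) :=
      (algebraMap K κ).injective.comp (IsFractionRing.injective A K)
    haveI := hdom κ hκ
    haveI := isDomain_tensor_fractionRing (A := A) (B := B) κ hκ
    exact (IsLocalization.algebraTensorEquiv (nonZeroDivisors A) K κ L).toMulEquiv.isDomain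
  obtain ⟨τ, _, ev, g, hg0, hgev, hker, hgen⟩ := HypModelField.exists_model K L hdomK
  let Ψ₀ : MvPolynomial (Option τ) A →ₐ[A] L := aeval (fun i => ev (X i))
  have hΨ₀ : ∀ G, Ψ₀ G = ev (map (algebraMap A K) G) := by
    intro G
    have h1 : ev = aeval (fun i => ev (X i)) := aeval_unique ev
    conv_rhs => rw [h1]
    exact (aeval_map_algebraMap (A := K) (fun i => ev (X i)) G).symm
  have hΨ₀C : ∀ a : A, Ψ₀ (C a) = algebraMap A L a := fun a => by
    show aeval _ (C a) = _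
    rw [aeval_C]
  obtain ⟨a₁, ha₁, P, hP⟩ := exists_clear_denoms A K g
  have hΨ₀P : Ψ₀ P = 0 := by rw [hΨ₀, hP, map_mul, hgev, mul_zero]
  -- irreducibility over all fields containing `A`
  have hPirr : ∀ (κ : Type u) [Field κ] (ψ : A →+* κ), Function.Injective ψ →
      Irreducible (map ψ P) := by
    intro κ _ ψ hψ
    letI : Algebra A κ := ψ.toAlgebra
    letI : Algebra K κ := (IsFractionRing.lift (K := K) (g := ψ) hψ).toAlgebra
    have hcomp : ∀ x, algebraMap K κ (algebraMap A K x) = ψ x :=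
      fun x => IsFractionRing.lift_algebraMap hψ x
    haveI := hdomK κ
    have h1 := HypModelField.irreducible_map_of_ker ev g hg0 hgev hker κ
    have h2 : map ψ P = C (ψ a₁) * map (algebraMap K κ) g := by
      have h3 : ψ = (algebraMap K κ).comp (algebraMap A K) := by
        ext x; exact (hcomp x).symm
      rw [h3, ← MvPolynomial.map_map, hP, map_mul, map_C]
      rfl
    rw [h2]
    have hu : IsUnit (C (ψ a₁) : MvPolynomial (Option τ) κ) :=
      (isUnit_iff_ne_zero.mpr (fun h => ha₁ (hψ (by rw [h, map_zero])))).map C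
    exact (irreducible_isUnit_mul hu).mpr h1
  obtain ⟨a₀, ha₀, hKL⟩ := exists_ne_zero_forall_irreducible P hPirr
  -- the kernel of `Ψ₀` is `(P)` up to constants
  have hq : ∀ G : MvPolynomial (Option τ) A, Ψ₀ G = 0 →
      ∃ a : A, a ≠ 0 ∧ C a * G ∈ Ideal.span {P} := by
    intro G hG
    rw [hΨ₀] at hG
    obtain ⟨H, hH⟩ := hker _ hG
    obtain ⟨c, hc, H', hH'⟩ := exists_clear_denoms A K H
    refine ⟨c * a₁, mul_ne_zero hc ha₁, ?_⟩
    rw [Ideal.mem_span_singleton]
    refine ⟨H', ?_⟩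
    apply map_injective _ (IsFractionRing.injective A K)
    rw [RingHom.map_mul (MvPolynomial.map (algebraMap A K)),
      RingHom.map_mul (MvPolynomial.map (algebraMap A K)), map_C, hH, hP, hH',
      RingHom.map_mul (algebraMap A K), C_mul]
    ring
  let aq : MvPolynomial (Option τ) A → A := fun G =>
    if h : Ψ₀ G = 0 then Classical.choose (hq G h) else 1
  have haq0 : ∀ G, aq G ≠ 0 := by
    intro G
    by_cases h : Ψ₀ G = 0
    · simp only [aq, dif_pos h]; exact (Classical.choose_spec (hq G h)).1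
    · simp only [aq, dif_neg h]; exact one_ne_zero
  have haq : ∀ G, Ψ₀ G = 0 → C (aq G) * G ∈ Ideal.span {P} := by
    intro G h
    simp only [aq, dif_pos h]; exact (Classical.choose_spec (hq G h)).2
  obtain ⟨Sq, hSq⟩ := IsNoetherian.noetherian (RingHom.ker (Ψ₀ : MvPolynomial (Option τ) A →+* L))
  let aQ : A := ∏ G ∈ Sq, aq G
  have haQ0 : aQ ≠ 0 := Finset.prod_ne_zero_iff.mpr (fun G _ => haq0 G)
  have hkerP : ∀ G, Ψ₀ G = 0 → C aQ * G ∈ Ideal.span {P} := by
    intro G hG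
    have hG' : G ∈ Submodule.span (MvPolynomial (Option τ) A) (Sq : Set _) := by
      rw [hSq]; exact hG
    clear hG
    induction hG' using Submodule.span_induction with
    | mem x hx =>
      have hx0 : Ψ₀ x = 0 := by
        have : x ∈ RingHom.ker (Ψ₀ : MvPolynomial (Option τ) A →+* L) := by
          rw [← hSq]; exact Submodule.subset_span hx
        exact this
      have h1 : aQ = (∏ G ∈ Sq.erase x, aq G) * aq x := by
        rw [mul_comm]; exact (Finset.mul_prod_erase Sq aq hx).symm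
      rw [h1, C_mul, mul_assoc]
      exact Ideal.mul_mem_left _ _ (haq x hx0)
    | zero => rw [mul_zero]; exact Ideal.zero_mem _
    | add x y _ _ hx hy => rw [mul_add]; exact Ideal.add_mem _ hx hy
    | smul r x _ hx => rw [smul_eq_mul, mul_left_comm]; exact Ideal.mul_mem_left _ _ hx
  -- fractions
  have hfrac : ∀ x : L, ∃ u' v' : MvPolynomial (Option τ) A, Ψ₀ v' ≠ 0 ∧ x * Ψ₀ v' = Ψ₀ u' := by
    intro x
    obtain ⟨u, v, hv, huv⟩ := hgen x
    obtain ⟨cu, hcu, u₁, hu₁⟩ := exists_clear_denoms A K u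
    obtain ⟨cv, hcv, v₁, hv₁⟩ := exists_clear_denoms A K v
    have hcuL : algebraMap A L cu ≠ 0 := fun h => hcu (hinjL (by rw [h, map_zero]))
    have hcvL : algebraMap A L cv ≠ 0 := fun h => hcv (hinjL (by rw [h, map_zero]))
    have hevC : ∀ (c : A) (G : MvPolynomial (Option τ) K),
        ev (C (algebraMap A K c) * G) = algebraMap A L c * ev G := by
      intro c G
      rw [map_mul, ← algebraMap_eq, AlgHom.commutes, ← IsScalarTower.algebraMap_apply]
    refine ⟨C cv * u₁, C cu * v₁, ?_, ?_⟩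
    · rw [map_mul, hΨ₀C, hΨ₀ v₁, hv₁, hevC]
      exact mul_ne_zero hcuL (mul_ne_zero hcvL hv)
    · rw [map_mul, map_mul, hΨ₀C, hΨ₀C, hΨ₀ v₁, hΨ₀ u₁, hv₁, hu₁, hevC, hevC, ← huv]
      ring
  choose U V hV hUV using hfrac
  obtain ⟨Sg, hSg⟩ := Algebra.FiniteType.out (R := A) (A := B)
  let ιB : B →ₐ[A] L := IsScalarTower.toAlgHom A B L
  have hιB0 : ∀ x : B, x ≠ 0 → ιB x ≠ 0 := by
    intro x hx h
    exact hx (IsFractionRing.injective B L (by rw [map_zero]; exact h))
  obtain ⟨cst, hcst⟩ : ∃ cst : MvPolynomial (Option τ) A, cst = C (a₀ * a₁ * aQ) := ⟨_, rfl⟩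
  obtain ⟨h₁, hh₁def⟩ : ∃ h₁ : MvPolynomial (Option τ) A,
    h₁ = cst * ∏ β ∈ Sg, V (ιB β) := ⟨_, rfl⟩
  have hcstL : Ψ₀ cst ≠ 0 := by
    rw [hcst, hΨ₀C]
    exact fun h => mul_ne_zero (mul_ne_zero ha₀ ha₁) haQ0 (hinjL (by rw [h, map_zero]))
  have hh₁ : Ψ₀ h₁ ≠ 0 := by
    rw [hh₁def, map_mul Ψ₀, map_prod]
    exact mul_ne_zero hcstL (Finset.prod_ne_zero_iff.mpr (fun β _ => hV _))
  -- (i) `B` lies in fractions of `Ψ₀` with denominators powers of `h₁`
  have hi : ∀ x : B, ιB x ∈ fracSub Ψ₀ h₁ := by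
    have h1 : Algebra.adjoin A (Sg : Set B) ≤ (fracSub Ψ₀ h₁).comap ιB := by
      apply Algebra.adjoin_le
      intro β hβ
      show ιB β ∈ fracSub Ψ₀ h₁
      refine ⟨1, U (ιB β) * (cst * ∏ β' ∈ Sg.erase β, V (ιB β')), ?_⟩
      have h2 : h₁ = V (ιB β) * (cst * ∏ β' ∈ Sg.erase β, V (ιB β')) := by
        rw [hh₁def, ← Finset.mul_prod_erase Sg (fun β => V (ιB β)) hβ]
        ring
      rw [pow_one, h2, map_mul Ψ₀, ← mul_assoc, hUV]
      exact (map_mul Ψ₀ _ _).symm
    intro x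
    have hx : x ∈ Algebra.adjoin A (Sg : Set B) := by rw [hSg]; trivial
    exact h1 hx
  -- denominators of the generators of the model
  obtain ⟨b₀, hb₀⟩ := IsLocalization.exist_integer_multiples_of_finset (nonZeroDivisors B)
    (Finset.univ.image (fun i : Option τ => ev (X i)))
  have hb₀0 : (b₀ : B) ≠ 0 := nonZeroDivisors.ne_zero b₀.2
  have hβi : ∀ i : Option τ, ∃ β : B, ev (X i) * ιB b₀ = ιB β := by
    intro i
    obtain ⟨β, hβ⟩ := hb₀ (ev (X i)) (Finset.mem_image_of_mem _ (Finset.mem_univ i))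
    refine ⟨β, ?_⟩
    show _ = algebraMap B L β
    rw [hβ, Algebra.smul_def, mul_comm]
    rfl
  choose βi hβi using hβi
  -- (ii) the model lies in `B[1/b₀]`
  have hii : ∀ G, Ψ₀ G ∈ fracSub ιB (b₀ : B) := by
    intro G
    have h1 : Ψ₀.range ≤ fracSub ιB (b₀ : B) := by
      rw [← Algebra.adjoin_range_eq_range_aeval]
      apply Algebra.adjoin_le
      rintro _ ⟨i, rfl⟩
      exact ⟨1, βi i, by rw [pow_one]; exact hβi i⟩
    exact h1 ⟨G, rfl⟩
  obtain ⟨k, c₀, hc₀⟩ := hi (b₀ : B)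
  obtain ⟨l, β₁, hβ₁⟩ := hii h₁
  have hβ₁0 : β₁ ≠ 0 := by
    intro h
    rw [h, map_zero] at hβ₁
    exact mul_ne_zero hh₁ (pow_ne_zero _ (hιB0 _ hb₀0)) hβ₁
  obtain ⟨b, hbdef⟩ : ∃ b : B, b = (b₀ : B) * β₁ := ⟨_, rfl⟩
  have hb0 : b ≠ 0 := by rw [hbdef]; exact mul_ne_zero hb₀0 hβ₁0
  obtain ⟨h, hhdef⟩ : ∃ h : MvPolynomial (Option τ) A, h = h₁ * c₀ := ⟨_, rfl⟩
  refine ⟨a₀, b, ha₀, hb0, ?_⟩
  -- the localisation
  let Bb := Localization.Away b
  have hunit : ∀ y : Submonoid.powers b, IsUnit (ιB (y : B)) := by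
    rintro ⟨_, n, rfl⟩
    exact (isUnit_iff_ne_zero.mpr (hιB0 _ (pow_ne_zero n hb0)))
  let ι : Bb →ₐ[A] L := IsLocalization.liftAlgHom (M := Submonoid.powers b) (f := ιB) hunit
  have hι : ∀ x : B, ι (algebraMap B Bb x) = ιB x := fun x => IsLocalization.lift_eq _ x
  have hιinj : Function.Injective ι := by
    show Function.Injective (IsLocalization.lift (M := Submonoid.powers b) hunit)
    rw [IsLocalization.lift_injective_iff]
    intro x y
    constructor
    · intro hxy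
      have := IsLocalization.injective Bb (powers_le_nonZeroDivisors_of_noZeroDivisors hb0) hxy
      rw [this]
    · intro hxy
      rw [IsFractionRing.injective B L hxy]
  let invb : Bb := IsLocalization.Away.invSelf b
  have hinvb : ι invb = (ιB b)⁻¹ := by
    have h1 : ι (algebraMap B Bb b) * ι invb = 1 := by
      rw [← map_mul, IsLocalization.Away.mul_invSelf, map_one]
    rw [hι] at h1
    exact eq_inv_of_mul_eq_one_right h1
  have hlift : ∀ y : L, (∃ β : B, y * ιB b = ιB β) → ∃ z : Bb, ι z = y := by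
    rintro y ⟨β, hβ⟩
    refine ⟨algebraMap B Bb β * invb, ?_⟩
    rw [map_mul, hι, hinvb, ← hβ, mul_assoc, mul_inv_cancel₀ (hιB0 _ hb0), mul_one]
  have hιb : ιB b = ιB b₀ * ιB β₁ := by rw [hbdef, map_mul ιB]
  have hz : ∀ i : Option τ, ∃ z : Bb, ι z = ev (X i) := by
    intro i
    apply hlift
    refine ⟨βi i * β₁, ?_⟩
    rw [hιb, ← mul_assoc, hβi, map_mul ιB]
  choose z hz using hz
  let Ψ : MvPolynomial (Option τ) A →ₐ[A] Bb := aeval z
  have hιΨ : ∀ G, ι (Ψ G) = Ψ₀ G := by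
    have h1 : ι.comp Ψ = Ψ₀ := by
      apply MvPolynomial.algHom_ext
      intro i
      show ι (aeval z (X i)) = aeval _ (X i)
      rw [aeval_X, aeval_X, hz]
    exact fun G => DFunLike.congr_fun h1 G
  have hΨP : Ψ P = 0 := hιinj (by rw [hιΨ, hΨ₀P, map_zero])
  -- the quotient ring and its algebra structure
  let I : Ideal (MvPolynomial (Option τ) A) := Ideal.span {P}
  have hΨI : ∀ x ∈ I, Ψ x = 0 := by
    intro x hx
    obtain ⟨y, rfl⟩ := Ideal.mem_span_singleton.mp hx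
    rw [map_mul, hΨP, zero_mul]
  let Ψq : (MvPolynomial (Option τ) A ⧸ I) →ₐ[A] Bb := Ideal.Quotient.liftₐ I Ψ hΨI
  letI algq : Algebra (MvPolynomial (Option τ) A ⧸ I) Bb := Ψq.toRingHom.toAlgebra
  haveI : IsScalarTower A (MvPolynomial (Option τ) A ⧸ I) Bb :=
    IsScalarTower.of_algebraMap_eq (fun a => (Ψq.commutes a).symm)
  have halgq : ∀ G, algebraMap (MvPolynomial (Option τ) A ⧸ I) Bb (Ideal.Quotient.mk I G) = Ψ G :=
    fun G => rfl
  let hq' : MvPolynomial (Option τ) A ⧸ I := Ideal.Quotient.mk I h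
  -- arithmetic in `L`
  have hΨ₀h : Ψ₀ h = Ψ₀ h₁ * (ιB b₀ * Ψ₀ h₁ ^ k) := by
    rw [hhdef, map_mul Ψ₀, ← hc₀]
  have hΨ₀h0 : Ψ₀ h ≠ 0 := by
    rw [hΨ₀h]
    exact mul_ne_zero hh₁ (mul_ne_zero (hιB0 _ hb₀0) (pow_ne_zero _ hh₁))
  -- inverse elements
  obtain ⟨w₀, hw₀⟩ : ∃ w₀ : Bb, ι w₀ = (ιB b₀)⁻¹ := by
    apply hlift
    refine ⟨β₁, ?_⟩
    rw [hιb, ← mul_assoc, inv_mul_cancel₀ (hιB0 _ hb₀0), one_mul]
  obtain ⟨wH, hwH⟩ : ∃ wH : Bb, ι wH = (Ψ₀ h₁)⁻¹ := by
    apply hlift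
    refine ⟨(b₀ : B) ^ (l + 1), ?_⟩
    rw [hιb, ← hβ₁, map_pow ιB]
    exact ar1 (Ψ₀ h₁) (ιB b₀) hh₁ l
  have hunitΨh : IsUnit (Ψ h) := by
    refine IsUnit.of_mul_eq_one (wH ^ (k + 1) * w₀) ?_
    apply hιinj
    rw [map_mul ι, map_mul ι, map_pow ι, hιΨ, hΨ₀h, hwH, hw₀, map_one]
    exact ar2 (Ψ₀ h₁) (ιB b₀) hh₁ (hιB0 _ hb₀0) k
  have hloc : IsLocalization.Away hq' Bb := by
    rw [IsLocalization.Away, isLocalization_iff]
    refine ⟨?_, ?_, ?_⟩
    · rintro ⟨_, n, rfl⟩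
      show IsUnit (algebraMap _ Bb (hq' ^ n))
      rw [map_pow, halgq]
      exact hunitΨh.pow n
    · -- surjectivity
      have hW : ∀ zz : Bb, zz ∈ fracSub Ψ h := by
        have hBW : ∀ x : B, algebraMap B Bb x ∈ fracSub Ψ h := by
          intro x
          obtain ⟨n, c, hc⟩ := hi x
          refine ⟨n, c * c₀ ^ n, ?_⟩
          apply hιinj
          rw [map_mul ι, map_pow ι, hι, hιΨ, hιΨ, map_mul Ψ₀, map_pow Ψ₀, ← hc, hhdef,
            map_mul Ψ₀, mul_pow]
          ring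
        have hw₀W : w₀ ∈ fracSub Ψ h := by
          refine ⟨1, h₁ ^ (k + 1), ?_⟩
          apply hιinj
          rw [map_mul ι, pow_one, hιΨ, hιΨ, hw₀, hΨ₀h, map_pow Ψ₀]
          exact ar3 (Ψ₀ h₁) (ιB b₀) (hιB0 _ hb₀0) k
        have hwHW : wH ∈ fracSub Ψ h := by
          refine ⟨1, c₀, ?_⟩
          apply hιinj
          rw [map_mul ι, pow_one, hιΨ, hιΨ, hwH, hΨ₀h, ← hc₀, ← mul_assoc,
            inv_mul_cancel₀ hh₁, one_mul]
        have hinvbW : invb ∈ fracSub Ψ h := by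
          have h1 : invb = wH * w₀ ^ l * w₀ := by
            apply hιinj
            rw [map_mul ι, map_mul ι, map_pow ι, hinvb, hwH, hw₀, hιb, ← hβ₁]
            exact ar4 (Ψ₀ h₁) (ιB b₀) l
          rw [h1]
          exact mul_mem (mul_mem hwHW (pow_mem hw₀W l)) hw₀W
        intro zz
        obtain ⟨⟨x, ⟨_, n, rfl⟩⟩, hx⟩ := IsLocalization.surj (Submonoid.powers b) zz
        have h2 : zz = algebraMap B Bb x * invb ^ n := by
          have h3 : algebraMap B Bb (b ^ n) * invb ^ n = 1 := by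
            rw [map_pow, ← mul_pow, IsLocalization.Away.mul_invSelf, one_pow]
          calc zz = zz * (algebraMap B Bb (b ^ n) * invb ^ n) := by rw [h3, mul_one]
            _ = (zz * algebraMap B Bb (b ^ n)) * invb ^ n := by ring
            _ = algebraMap B Bb x * invb ^ n := by rw [hx]
        rw [h2]
        exact mul_mem (hBW x) (pow_mem hinvbW n)
      intro zz
      obtain ⟨n, c, hc⟩ := hW zz
      refine ⟨(Ideal.Quotient.mk I c, ⟨hq' ^ n, n, rfl⟩), ?_⟩
      show zz * algebraMap _ Bb (hq' ^ n) = algebraMap _ Bb (Ideal.Quotient.mk I c)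
      rw [map_pow, halgq, halgq]
      exact hc
    · intro x y hxy
      obtain ⟨Gx, rfl⟩ := Ideal.Quotient.mk_surjective x
      obtain ⟨Gy, rfl⟩ := Ideal.Quotient.mk_surjective y
      rw [halgq, halgq] at hxy
      have h1 : Ψ₀ (Gx - Gy) = 0 := by
        rw [← hιΨ, map_sub, hxy, sub_self, map_zero]
      have h2 := hkerP _ h1
      refine ⟨⟨hq', 1, pow_one _⟩, ?_⟩
      show hq' * Ideal.Quotient.mk I Gx = hq' * Ideal.Quotient.mk I Gy
      rw [← sub_eq_zero, ← mul_sub, ← map_sub, ← map_mul, Ideal.Quotient.eq_zero_iff_mem]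
      have h3 : h * (Gx - Gy) = (C (a₀ * a₁) * (∏ β ∈ Sg, V (ιB β)) * c₀) * (C aQ * (Gx - Gy)) := by
        rw [hhdef, hh₁def, hcst, C_mul (a := a₀ * a₁) (a' := aQ)]
        ring
      rw [h3]
      exact Ideal.mul_mem_left _ _ h2
  -- conclusion
  intro κ _ _ ha hnt
  have hirr : Irreducible (map (algebraMap A κ) P) := hKL κ (algebraMap A κ) ha
  haveI : IsDomain (κ ⊗[A] (MvPolynomial (Option τ) A ⧸ I)) :=
    isDomain_tensor_quotient κ P hirr
  exact isDomain_tensor_away (A := A) (R := MvPolynomial (Option τ) A ⧸ I) (S := Bb) (κ := κ) hq'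

end Groth.Agent.Lib.Helper12.HypModelRing
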