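import Mathlib
import Groth.Agent.Lib.Helper12.GeomIrrPt
import Groth.Agent.Lib.Helper12.HypModelRing
import Groth.Agent.Lib.Helper12.FibreTopGen

/-!
# Geometric irreducibility of the generic fibre spreads out (helper12)
-/

set_option autoImplicit false
set_option linter.style.haveILetI false
universe u
open AlgebraicGeometry CategoryTheory Limits Topology TensorProduct

namespace Groth.Agent.Lib.Helper12.GeomIrrGen

open Groth.Agent.Lib.Helper12.GeomIrrBasic Groth.Agent.Lib.Helper12.GeomRedGen
  Groth.Agent.Lib.Helper12.GeomIrrPt Groth.Agent.Lib.Helper12.FibreTop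
  Groth.Agent.Lib.Helper12.FibreTopGen

section tensor

variable {A C K : Type u} [CommRing A] [CommRing C] [Algebra A C] [Field K] [Algebra A K]
  {X' : Scheme.{u}} (h : X' ⟶ Spec (.of A)) (jW : Spec (.of C) ⟶ X') [IsOpenImmersion jW]
  (hjW : jW ≫ h = Spec.map (CommRingCat.ofHom (algebraMap A C)))

noncomputable def tensorIso :
    pullback jW (pullback.fst h (Spec.map (CommRingCat.ofHom (algebraMap A K)))) ≅
      Spec (.of (C ⊗[A] K)) :=
  pullbackRightPullbackFstIso h _ jW ≪≫ pullback.congrHom hjW rfl ≪≫ pullbackSpecIso A C K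

noncomputable def tensorImm : Spec (.of (C ⊗[A] K)) ⟶
    pullback h (Spec.map (CommRingCat.ofHom (algebraMap A K))) :=
  (tensorIso h jW hjW).inv ≫ pullback.snd jW (pullback.fst h _)

instance : IsOpenImmersion (tensorImm (K := K) h jW hjW) := by
  unfold tensorImm
  infer_instance

theorem range_tensorImm : Set.range (tensorImm (K := K) h jW hjW) =
    (pullback.fst h (Spec.map (CommRingCat.ofHom (algebraMap A K)))) ⁻¹' (Set.range jW) := by
  unfold tensorImm
  rw [Scheme.Hom.comp_base, TopCat.coe_comp, Set.range_comp,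
    Set.range_eq_univ.mpr (tensorIso (K := K) h jW hjW).inv.surjective, Set.image_univ,
    IsOpenImmersion.range_pullbackSnd]
  rfl

include hjW in
theorem nontrivial_of_nonempty
    (hne : ((pullback.fst h (Spec.map (CommRingCat.ofHom (algebraMap A K)))) ⁻¹'
      (Set.range jW)).Nonempty) : Nontrivial (C ⊗[A] K) := by
  rw [← range_tensorImm h jW hjW] at hne
  obtain ⟨_, ⟨p, -⟩⟩ := hne
  exact PrimeSpectrum.nonempty_iff_nontrivial.mp ⟨p⟩

include hjW in
theorem isIrreducible_of_isDomain [IsDomain (C ⊗[A] K)] :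
    IsIrreducible ((pullback.fst h (Spec.map (CommRingCat.ofHom (algebraMap A K)))) ⁻¹'
      (Set.range jW)) := by
  rw [← range_tensorImm h jW hjW, ← Set.image_univ]
  exact (IrreducibleSpace.isIrreducible_univ _).image _
    (tensorImm (K := K) h jW hjW).continuous.continuousOn

include hjW in
theorem isDomain_of_isIntegral
    [IsIntegral (pullback h (Spec.map (CommRingCat.ofHom (algebraMap A K))))]
    [Nontrivial (C ⊗[A] K)] : IsDomain (C ⊗[A] K) := by
  haveI : IsIntegral (Spec (.of (C ⊗[A] K))) :=
    isIntegral_of_isOpenImmersion (tensorImm (K := K) h jW hjW)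
  exact (affine_isIntegral_iff (.of (C ⊗[A] K))).mp inferInstance

end tensor


section points

variable {A : Type u} [CommRing A]

theorem specMap_apply_of_injective [IsDomain A] {κ : Type u} [Field κ] [Algebra A κ]
    (hκ : Function.Injective (algebraMap A κ)) (t : Spec (.of κ)) :
    Spec.map (CommRingCat.ofHom (algebraMap A κ)) t = genericPoint (Spec (.of A)) := by
  rw [genericPoint_eq_bot_of_affine]
  apply PrimeSpectrum.ext
  show Ideal.comap (algebraMap A κ) t.asIdeal = ⊥
  have ht : t.asIdeal = ⊥ := by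
    rcases Ideal.eq_bot_or_top t.asIdeal with h | h
    · exact h
    · exact absurd h t.2.ne_top
  rw [ht]
  exact (RingHom.injective_iff_ker_eq_bot _).mp hκ

theorem algebraMap_ne_zero_of_specMap {κ : Type u} [Field κ] [Algebra A κ] (a : A)
    (t : Spec (.of κ))
    (ha : Spec.map (CommRingCat.ofHom (algebraMap A κ)) t ∈ PrimeSpectrum.basicOpen a) :
    algebraMap A κ a ≠ 0 := by
  intro h0
  apply ha
  show a ∈ Ideal.comap (algebraMap A κ) t.asIdeal
  rw [Ideal.mem_comap, h0]
  exact zero_mem _

end points

section core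

variable {A B : Type u} [CommRing A] [IsDomain A] [IsNoetherianRing A] [CommRing B] [Nontrivial B]
  [Algebra A B] {X' : Scheme.{u}} (h : X' ⟶ Spec (.of A)) [Flat h] [LocallyOfFiniteType h]
  [QuasiCompact h] [IsIntegral X'] (j : Spec (.of B) ⟶ X') [IsOpenImmersion j]
  (hj : j ≫ h = Spec.map (CommRingCat.ofHom (algebraMap A B)))

include hj in
theorem core_aux (hη : genericPoint (Spec (.of A)) ∈ GI h)
    (hηE : genericPoint (Spec (.of A)) ∈ E h) :
    ∃ V : (Spec (.of A)).Opens, (V : Set (Spec (.of A))).Nonempty ∧ ∀ y ∈ V, y ∈ GI h := by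
  -- algebraic properties of `B`
  haveI : IsIntegral (Spec (.of B)) := isIntegral_of_isOpenImmersion j
  haveI : IsDomain B := (affine_isIntegral_iff (.of B)).mp inferInstance
  have hLFT : LocallyOfFiniteType (Spec.map (CommRingCat.ofHom (algebraMap A B))) := by
    rw [← hj]; infer_instance
  have hFlat : Flat (Spec.map (CommRingCat.ofHom (algebraMap A B))) := by
    rw [← hj]; infer_instance
  haveI : Algebra.FiniteType A B := by
    rw [HasRingHomProperty.Spec_iff (P := @LocallyOfFiniteType)] at hLFT
    exact RingHom.finiteType_algebraMap.mp hLFT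
  haveI : Module.Flat A B := by
    rw [HasRingHomProperty.Spec_iff (P := @Flat)] at hFlat
    exact RingHom.flat_algebraMap_iff.mp hFlat
  have hinj : Function.Injective (algebraMap A B) := FaithfulSMul.algebraMap_injective A B
  -- geometric integrality of the generic fibre
  have hdom : ∀ (κ : Type u) [Field κ] [Algebra A κ], Function.Injective (algebraMap A κ) →
      IsDomain (κ ⊗[A] B) := by
    intro κ _ _ hκ
    haveI : IrreducibleSpace ↥(pullback h (Spec.map (CommRingCat.ofHom (algebraMap A κ)))) :=
      irreducibleSpace_pullback_of_mem_GI h _ (fun t => by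
        rw [specMap_apply_of_injective hκ]; exact hη)
    haveI : IsReduced (pullback h (Spec.map (CommRingCat.ofHom (algebraMap A κ)))) :=
      isReduced_pullback_of_mem_E h _ (fun t => by
        rw [specMap_apply_of_injective hκ]; exact hηE)
    haveI : IsIntegral (pullback h (Spec.map (CommRingCat.ofHom (algebraMap A κ)))) :=
      isIntegral_of_irreducibleSpace_of_isReduced _
    haveI : Nontrivial (B ⊗[A] κ) :=
      (Algebra.TensorProduct.includeLeft_injective (R := A) (S := A) (A := B) (B := κ)
        hκ).nontrivial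
    haveI : IsDomain (B ⊗[A] κ) := isDomain_of_isIntegral (K := κ) h j hj
    exact (Algebra.TensorProduct.comm A κ B).toMulEquiv.isDomain
  obtain ⟨a, b, ha, hb, hab⟩ := HypModelRing.exists_localization_domain hinj hdom
  -- the open subscheme `W`
  let jW : Spec (.of (Localization.Away b)) ⟶ X' :=
    Spec.map (CommRingCat.ofHom (algebraMap B (Localization.Away b))) ≫ j
  have hjW : jW ≫ h = Spec.map (CommRingCat.ofHom (algebraMap A (Localization.Away b))) := by
    show (_ ≫ j) ≫ h = _
    rw [Category.assoc, hj, ← Spec.map_comp, ← CommRingCat.ofHom_comp,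
      ← IsScalarTower.algebraMap_eq]
  haveI : IsDomain (Localization.Away b) :=
    IsLocalization.isDomain_localization (powers_le_nonZeroDivisors_of_noZeroDivisors hb)
  haveI : TopologicalSpace.NoetherianSpace X' := noetherianSpace_of_finiteType h
  have hWopen : IsOpen (Set.range jW) := jW.isOpenEmbedding.isOpen_range
  have hWne : (Set.range jW).Nonempty := Set.range_nonempty _
  have hWdense : closure (Set.range jW) = Set.univ := (hWopen.dense hWne).closure_eq
  have hWcons : IsConstructible (Set.range jW) :=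
    (TopologicalSpace.NoetherianSpace.isCompact _).isConstructible hWopen
  obtain ⟨U₁, hU₁, hηU₁, hU₁fcl⟩ := exists_open_fcl_eq h (Set.range jW) hWcons
  -- the image of `h`
  haveI : LocallyOfFinitePresentation h := inferInstance
  haveI : UniversallyOpen h := inferInstance
  have himopen : IsOpen (Set.range h) := h.isOpenMap.isOpen_range
  have hηim : genericPoint (Spec (.of A)) ∈ Set.range h := by
    haveI : GeometricallyIrreducible (h.fiberToSpecResidueField (genericPoint (Spec (.of A)))) :=
      hη
    haveI : IrreducibleSpace ↥(h.fiber (genericPoint (Spec (.of A)))) :=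
      GeometricallyIrreducible.irreducibleSpace_of_subsingleton
        (h.fiberToSpecResidueField (genericPoint (Spec (.of A))))
    obtain ⟨z⟩ : Nonempty ↥(h.fiber (genericPoint (Spec (.of A)))) := inferInstance
    have hz : h.fiberι _ z ∈ Set.range (h.fiberι (genericPoint (Spec (.of A)))) := ⟨z, rfl⟩
    rw [h.range_fiberι] at hz
    exact ⟨_, hz⟩
  have hηa : genericPoint (Spec (.of A)) ∈ (PrimeSpectrum.basicOpen a : Set (PrimeSpectrum A)) := by
    rw [genericPoint_eq_bot_of_affine]
    show a ∉ (⊥ : Ideal A)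
    simpa using ha
  refine ⟨⟨(PrimeSpectrum.basicOpen a : Set (PrimeSpectrum A)) ∩ U₁ ∩ Set.range h,
    ((PrimeSpectrum.basicOpen a).isOpen.inter hU₁).inter himopen⟩,
    ⟨_, ⟨⟨hηa, hηU₁⟩, hηim⟩⟩, ?_⟩
  rintro y₀ ⟨⟨hy₀a, hy₀U₁⟩, ⟨x₀, hx₀⟩⟩
  apply mem_GI_of_forall
  intro K _ y hy
  obtain ⟨φ, rfl⟩ := Spec.map_surjective y
  letI : Algebra A K := φ.hom.toAlgebra
  have hφ : φ = CommRingCat.ofHom (algebraMap A K) := rfl
  rw [hφ] at hy ⊢
  obtain ⟨t⟩ : Nonempty (Spec (.of K)) := inferInstance
  have haK : algebraMap A K a ≠ 0 := algebraMap_ne_zero_of_specMap a t (by rw [hy t]; exact hy₀a)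
  -- density of the trace of `W`
  have hdense : ∀ z : ↥(pullback h (Spec.map (CommRingCat.ofHom (algebraMap A K)))),
      z ∈ closure ((pullback.fst h (Spec.map (CommRingCat.ofHom (algebraMap A K)))) ⁻¹'
        (Set.range jW)) := by
    intro z
    have h1 : RDense h (Set.range jW) Set.univ
        (Spec.map (CommRingCat.ofHom (algebraMap A K)) t) := by
      rw [rDense_iff, hy t, hU₁fcl y₀ hy₀U₁, hWdense]
    rw [← rDense_preimage (IsPullback.of_hasPullback h _) (Set.range jW) Set.univ t] at h1
    have hz : z ∈ (pullback.fst h (Spec.map (CommRingCat.ofHom (algebraMap A K)))) ⁻¹' Set.univ ∩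
        (pullback.snd h (Spec.map (CommRingCat.ofHom (algebraMap A K)))) ⁻¹' {t} :=
      ⟨trivial, Subsingleton.elim _ _⟩
    exact closure_mono Set.inter_subset_left (h1 hz)
  -- nonemptiness
  obtain ⟨z₀, -, -⟩ := Scheme.Pullback.exists_preimage_pullback (f := h)
    (g := Spec.map (CommRingCat.ofHom (algebraMap A K))) x₀ t (by rw [hx₀, hy t])
  have hne : ((pullback.fst h (Spec.map (CommRingCat.ofHom (algebraMap A K)))) ⁻¹'
      (Set.range jW)).Nonempty := by
    by_contra hempty
    rw [Set.not_nonempty_iff_eq_empty] at hempty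
    have := hdense z₀
    rw [hempty, closure_empty] at this
    exact this
  haveI : Nontrivial (Localization.Away b ⊗[A] K) := nontrivial_of_nonempty h jW hjW hne
  haveI : Nontrivial (K ⊗[A] Localization.Away b) :=
    (Algebra.TensorProduct.comm A K (Localization.Away b)).toEquiv.nontrivial
  haveI : IsDomain (K ⊗[A] Localization.Away b) := hab K haK inferInstance
  haveI : IsDomain (Localization.Away b ⊗[A] K) :=
    (Algebra.TensorProduct.comm A (Localization.Away b) K).toMulEquiv.isDomain
  have hirr := (isIrreducible_of_isDomain (K := K) h jW hjW).closure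
  have huniv : closure ((pullback.fst h (Spec.map (CommRingCat.ofHom (algebraMap A K)))) ⁻¹'
      (Set.range jW)) = Set.univ := Set.eq_univ_iff_forall.mpr hdense
  rw [huniv] at hirr
  exact (irreducibleSpace_def _).mpr hirr

end core


section spec

variable {A : Type u} [CommRing A] [IsDomain A] [IsNoetherianRing A]
  {X' : Scheme.{u}} (h : X' ⟶ Spec (.of A)) [Flat h] [LocallyOfFiniteType h]
  [QuasiCompact h] [IsReduced X']

theorem core_spec (hη : genericPoint (Spec (.of A)) ∈ GI h)
    (hηE : genericPoint (Spec (.of A)) ∈ E h) :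
    ∃ V : (Spec (.of A)).Opens, (V : Set (Spec (.of A))).Nonempty ∧ ∀ y ∈ V, y ∈ GI h := by
  haveI : GeometricallyIrreducible (h.fiberToSpecResidueField (genericPoint (Spec (.of A)))) := hη
  haveI : IrreducibleSpace ↥(h.fiber (genericPoint (Spec (.of A)))) :=
    GeometricallyIrreducible.irreducibleSpace_of_subsingleton
      (h.fiberToSpecResidueField (genericPoint (Spec (.of A))))
  haveI : IrreducibleSpace X' := irreducibleSpace_of_flat h
  haveI : IsIntegral X' := isIntegral_of_irreducibleSpace_of_isReduced X'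
  obtain ⟨x⟩ : Nonempty X' := inferInstance
  obtain ⟨_, ⟨U, hU, rfl⟩, hxU, -⟩ :=
    X'.isBasis_affineOpens.exists_subset_of_mem_open (Set.mem_univ x) isOpen_univ
  haveI : Nonempty (Spec Γ(X', U)) := by
    have hx : x ∈ Set.range hU.fromSpec := by rw [hU.range_fromSpec]; exact hxU
    obtain ⟨p, -⟩ := hx
    exact ⟨p⟩
  haveI : Nontrivial Γ(X', U) := PrimeSpectrum.nonempty_iff_nontrivial.mp ‹_›
  obtain ⟨ψ, hψ⟩ : ∃ ψ : CommRingCat.of A ⟶ Γ(X', U), Spec.map ψ = hU.fromSpec ≫ h :=
    ⟨Spec.preimage (hU.fromSpec ≫ h), Spec.map_preimage _⟩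
  letI : Algebra A Γ(X', U) := ψ.hom.toAlgebra
  have hj : hU.fromSpec ≫ h = Spec.map (CommRingCat.ofHom (algebraMap A Γ(X', U))) := hψ.symm
  exact core_aux (B := Γ(X', U)) h hU.fromSpec hj hη hηE

end spec

end Groth.Agent.Lib.Helper12.GeomIrrGen
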