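import Mathlib
import Groth.Agent.Lib.Helper12.GeomIrrGen
import Groth.Agent.Lib.Helper12.GenRedMain

/-!
# Geometric irreducibility is an ind-constructible property (helper12)
-/

set_option autoImplicit false
set_option linter.style.haveILetI false
universe u
open AlgebraicGeometry CategoryTheory Limits Topology TensorProduct

namespace Groth.Agent.Lib.Helper12.GeomIrrInd

open Groth.Agent.Lib.Helper12.GeomIrrBasic Groth.Agent.Lib.Helper12.GeomRedGen
  Groth.Agent.Lib.Helper12.GeomIrrPt Groth.Agent.Lib.Helper12.GeomIrrGen ConsProp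

theorem core_affine {X' Y' : Scheme.{u}} [IsIntegral Y'] [IsNoetherian Y'] [IsAffine Y']
    (h : X' ⟶ Y') [Flat h] [LocallyOfFiniteType h] [QuasiCompact h] [IsReduced X']
    (hη : genericPoint Y' ∈ GI h) (hηE : genericPoint Y' ∈ E h) :
    ∃ V : Y'.Opens, (V : Set Y').Nonempty ∧ ∀ y ∈ V, y ∈ GI h := by
  haveI : IsNoetherianRing Γ(Y', ⊤) :=
    IsLocallyNoetherian.component_noetherian ⟨⊤, isAffineOpen_top Y'⟩
  have hsq : IsPullback (𝟙 X') h (h ≫ Y'.isoSpec.hom) Y'.isoSpec.hom :=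
    IsPullback.of_horiz_isIso ⟨by rw [Category.id_comp]⟩
  have hgen : Y'.isoSpec.hom (genericPoint Y') = genericPoint (Spec Γ(Y', ⊤)) :=
    genericPoint_eq_of_isOpenImmersion Y'.isoSpec.hom
  have h1 : genericPoint (Spec (.of Γ(Y', ⊤))) ∈ GI (h ≫ Y'.isoSpec.hom) := by
    have := (mem_GI_pullback hsq (genericPoint Y')).1 hη
    rwa [hgen] at this
  have h2 : genericPoint (Spec (.of Γ(Y', ⊤))) ∈ E (h ≫ Y'.isoSpec.hom) := by
    have := (mem_E_pullback hsq (genericPoint Y')).1 hηE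
    rwa [hgen] at this
  obtain ⟨V₁, ⟨y₁, hy₁⟩, hV₁⟩ := core_spec (A := Γ(Y', ⊤)) (h ≫ Y'.isoSpec.hom) h1 h2
  refine ⟨Y'.isoSpec.hom ⁻¹ᵁ V₁, ⟨Y'.isoSpec.inv y₁, ?_⟩, fun y hy => ?_⟩
  · show Y'.isoSpec.hom (Y'.isoSpec.inv y₁) ∈ V₁
    rw [← Scheme.Hom.comp_apply, Iso.inv_hom_id]
    exact hy₁
  · exact (mem_GI_pullback hsq y).2 (hV₁ _ hy)

theorem geomIrr_near_generic_noeth {X S : Scheme.{u}} (u : X ⟶ S) [IsIntegral S] [IsNoetherian S]
    [LocallyOfFiniteType u] [QuasiCompact u] (hη : genericPoint S ∈ GI u) :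
    (interior (GI u)).Nonempty := by
  obtain ⟨V, Y', g, X', r, hY', ⟨v₀, hv₀⟩, _, _, hg, _, _, _, _, _, _, _, hred⟩ :=
    Groth.Agent.Lib.Helper12.GenRedMain.main u
  -- `Y'` is Noetherian
  haveI : CompactSpace V.toScheme :=
    isCompact_iff_compactSpace.mp (TopologicalSpace.NoetherianSpace.isCompact (V : Set S))
  haveI : IsNoetherian V.toScheme := ⟨⟩
  haveI : IsLocallyNoetherian Y' := LocallyOfFiniteType.isLocallyNoetherian g
  haveI : IsNoetherian Y' := ⟨⟩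
  have hghomeo : IsHomeomorph g := hg (𝟙 _) (𝟙 _) g IsPullback.of_id_snd
  -- the loci
  have hGI : GI (r ≫ pullback.snd u (g ≫ V.ι)) = (g ≫ V.ι) ⁻¹' GI u := by
    rw [GI_comp_of_isUnivHomeo r (isUnivHomeo_of_isClosedImmersion_of_surjective r),
      GI_pullback (IsPullback.of_hasPullback u (g ≫ V.ι))]
  -- the generic point
  have hηV : genericPoint S ∈ V := (genericPoint_specializes v₀).mem_open V.isOpen hv₀
  obtain ⟨y₀, hy₀⟩ := hghomeo.surjective ⟨genericPoint S, hηV⟩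
  have hgen : (g ≫ V.ι) (genericPoint Y') = genericPoint S := by
    have h1 : (g ≫ V.ι) (genericPoint Y') ⤳ (g ≫ V.ι) y₀ :=
      (genericPoint_specializes y₀).map (g ≫ V.ι).continuous
    have h2 : (g ≫ V.ι) y₀ = genericPoint S := by
      rw [Scheme.Hom.comp_apply, hy₀]; rfl
    rw [h2] at h1
    exact (h1.antisymm (genericPoint_specializes _)).eq
  have hη' : genericPoint Y' ∈ GI (r ≫ pullback.snd u (g ≫ V.ι)) := by
    rw [hGI]
    show (g ≫ V.ι) (genericPoint Y') ∈ GI u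
    rw [hgen]
    exact hη
  obtain ⟨V', ⟨y', hy'⟩, hV'⟩ := core_affine (r ≫ pullback.snd u (g ≫ V.ι)) hη' hred
  refine ⟨(g ≫ V.ι) y', mem_interior.2 ⟨(g ≫ V.ι) '' (V' : Set Y'), ?_, ?_, ⟨y', hy', rfl⟩⟩⟩
  · rintro _ ⟨z, hz, rfl⟩
    have := hV' z hz
    rw [hGI] at this
    exact this
  · have h1 : IsOpenMap (g ≫ V.ι) := by
      rw [Scheme.Hom.comp_base, TopCat.coe_comp]
      exact V.ι.isOpenEmbedding.isOpenMap.comp hghomeo.isOpenMap
    exact h1 _ V'.isOpen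

theorem isIndCons_PGI : IsIndCons PGI.{u} :=
  ⟨isFieldStable_PGI, fun _ _ u _ _ _ _ hη => geomIrr_near_generic_noeth u hη⟩

end Groth.Agent.Lib.Helper12.GeomIrrInd
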