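import Mathlib
import Groth.Agent.Lib.Helper12.GeomIrrBasic
import Groth.Agent.Lib.Helper12.GenRedModel
import Groth.Agent.Lib.Helper12.InsepModel
import Groth.Agent.Lib.Helper11.GeomSep
import Groth.Agent.Lib.Helper28.GenFibreComp

/-!
# Geometric reducibility of the generic fibre spreads out (helper12)
-/

set_option autoImplicit false
set_option linter.style.haveILetI false
universe u
open AlgebraicGeometry CategoryTheory Limits Topology TensorProduct

namespace Groth.Agent.Lib.Helper12.GeomIrrNeg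

open Groth.Agent.Lib.Helper12.GeomIrrBasic

/-- The topological engine: if the generic fibre is not irreducible, neither are nearby fibres. -/
theorem exists_open_not_irreducible_fiber {P₁ Y' : Scheme.{u}} (f' : P₁ ⟶ Y')
    [IrreducibleSpace Y'] [LocallyOfFiniteType f'] [QuasiCompact f']
    {P' : Type*} [TopologicalSpace P'] (a' : P' → P₁) (ha' : IsEmbedding a')
    (hrange : Set.range a' = f' ⁻¹' {genericPoint Y'}) [Nonempty P']
    (hP' : ¬ IrreducibleSpace P') :
    ∃ V' : Y'.Opens, genericPoint Y' ∈ V' ∧ ∀ y ∈ V', ¬ IrreducibleSpace ↥(f'.fiber y) := by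
  classical
  have h1 : ¬ IsPreirreducible (Set.univ : Set P') := fun h =>
    hP' ((irreducibleSpace_def _).mpr ⟨Set.univ_nonempty, h⟩)
  unfold IsPreirreducible at h1
  push_neg at h1
  obtain ⟨U₁, U₂, hU₁, hU₂, ⟨z₁, -, hz₁⟩, ⟨z₂, -, hz₂⟩, hdisj⟩ := h1
  have hdisj' : ∀ z, z ∈ U₁ → z ∉ U₂ := by
    intro z h1 h2
    have : z ∈ Set.univ ∩ (U₁ ∩ U₂) := ⟨trivial, h1, h2⟩
    rw [hdisj] at this
    exact this
  -- `C true = U₁ᶜ ∋ z₂`, `C false = U₂ᶜ ∋ z₁`
  let C : Bool → Set P' := fun i => cond i U₁ᶜ U₂ᶜ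
  have hC : ∀ i, IsClosed (C i) := by
    intro i
    cases i
    · exact hU₂.isClosed_compl
    · exact hU₁.isClosed_compl
  let T : Bool → Set P₁ := fun i => closure (a' '' C i)
  let ξ : Bool → P₁ := fun i => a' (cond i z₂ z₁)
  have hpre : ∀ i z, a' z ∈ T i → z ∈ C i := by
    intro i z hz
    have h2 : z ∈ closure (C i) := by
      rw [ha'.isInducing.closure_eq_preimage_closure_image]
      exact hz
    rwa [(hC i).closure_eq] at h2
  have hcov : f' ⁻¹' {genericPoint Y'} ⊆ ⋃ i, T i := by
    intro x hx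
    rw [← hrange] at hx
    obtain ⟨z, rfl⟩ := hx
    rw [Set.mem_iUnion]
    by_cases hz : z ∈ U₁
    · exact ⟨false, subset_closure ⟨z, hdisj' z hz, rfl⟩⟩
    · exact ⟨true, subset_closure ⟨z, hz, rfl⟩⟩
  have hξ : ∀ i, f' (ξ i) = genericPoint Y' := by
    intro i
    have : ξ i ∈ Set.range a' := ⟨_, rfl⟩
    rw [hrange] at this
    exact this
  have hξT : ∀ i j, j ≠ i → ξ i ∉ T j := by
    intro i j hji hmem
    have h2 := hpre j _ hmem
    cases i <;> cases j
    · exact hji rfl
    · exact h2 hz₁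
    · exact h2 hz₂
    · exact hji rfl
  obtain ⟨V, hηV, hsub, hpts⟩ :=
    Groth.Agent.Lib.Helper28.GenFibreComp.exists_open_forall_fibre f' T
      (fun i => isClosed_closure) hcov ξ hξ hξT
  refine ⟨V, hηV, fun y hy hirr => ?_⟩
  have hpre' := (IrreducibleSpace.isIrreducible_univ ↥(f'.fiber y)).isPreirreducible
  rw [isPreirreducible_iff_isClosed_union_isClosed] at hpre'
  have hD : ∀ i, IsClosed ((f'.fiberι y) ⁻¹' T i) := fun i =>
    isClosed_closure.preimage (f'.fiberι y).continuous
  have hfib : ∀ w : ↥(f'.fiber y), f' (f'.fiberι y w) = y := by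
    intro w
    have : f'.fiberι y w ∈ Set.range (f'.fiberι y) := ⟨w, rfl⟩
    rw [f'.range_fiberι] at this
    exact this
  have hunion : (Set.univ : Set ↥(f'.fiber y)) ⊆
      (f'.fiberι y) ⁻¹' T true ∪ (f'.fiberι y) ⁻¹' T false := by
    intro w _
    have h2 : f'.fiberι y w ∈ f' ⁻¹' (V : Set Y') := by
      show f' (f'.fiberι y w) ∈ V
      rw [hfib]; exact hy
    obtain ⟨i, hi⟩ := Set.mem_iUnion.1 (hsub h2)
    cases i
    · exact Or.inr hi
    · exact Or.inl hi
  have key : ∀ i, ¬ (Set.univ : Set ↥(f'.fiber y)) ⊆ (f'.fiberι y) ⁻¹' T i := by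
    intro i hsub'
    obtain ⟨x, hxy, -, hxn⟩ := hpts y hy (!i)
    have hx : x ∈ Set.range (f'.fiberι y) := by
      rw [f'.range_fiberι]; exact hxy
    obtain ⟨w, rfl⟩ := hx
    exact hxn i (by cases i <;> simp) (hsub' (Set.mem_univ w))
  rcases hpre' _ _ (hD true) (hD false) hunion with h | h
  · exact key true h
  · exact key false h


open Groth.Agent.Lib.Helper12.GenRedModel in
set_option maxHeartbeats 1600000 in
/-- a finite extension of the function field is the function field of an integral scheme of finite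
type over the base, over which the generic fibre becomes the base change -/
theorem exists_not_irreducible_near {X S : Scheme.{u}} (f : X ⟶ S) [IrreducibleSpace S]
    [LocallyOfFiniteType f] [QuasiCompact f]
    (K' : Type u) [Field K'] [Algebra (S.residueField (genericPoint S)) K']
    [FiniteDimensional (S.residueField (genericPoint S)) K']
    (hne : Nonempty ↥(f.fiber (genericPoint S)))
    (hirr : ¬ IrreducibleSpace ↥(pullback (f.fiberToSpecResidueField (genericPoint S))
      (Spec.map (CommRingCat.ofHom (algebraMap (S.residueField (genericPoint S)) K'))))) :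
    (interior (GI f)ᶜ).Nonempty := by
  classical
  let K := S.residueField (genericPoint S)
  obtain ⟨_, ⟨W, hW, rfl⟩, hηW, -⟩ :=
    S.isBasis_affineOpens.exists_subset_of_mem_open (Set.mem_univ (genericPoint S)) isOpen_univ
  obtain ⟨W, rfl⟩ : ∃ W' : S.Opens, W' = W := ⟨W, rfl⟩
  let R₁ := Γ(S, W)
  let ev : R₁ →+* K := (S.evaluation W (genericPoint S) hηW).hom
  letI algRK : Algebra R₁ K := ev.toAlgebra
  letI algRK' : Algebra R₁ K' := ((algebraMap K K').comp ev).toAlgebra
  haveI : IsScalarTower R₁ K K' := IsScalarTower.of_algebraMap_eq (fun _ => rfl)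
  have hfrac : ∀ x : K, ∃ u v : R₁, algebraMap R₁ K v ≠ 0 ∧
      x = algebraMap R₁ K u / algebraMap R₁ K v := evaluation_fraction hW (genericPoint S) hηW
  let b := Module.finBasis K K'
  let A' := Algebra.adjoin R₁ (Set.range b)
  haveI hFR : IsFractionRing A' K' := InsepModel.isFractionRing_adjoin b hfrac
  haveI hFT : Algebra.FiniteType R₁ A' := by
    have h1 : (Algebra.adjoin R₁ (Set.range b)).FG := by
      have := Subalgebra.fg_adjoin_finset (R := R₁) (Set.finite_range b).toFinset
      rwa [Set.Finite.coe_toFinset] at this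
    exact (Subalgebra.fg_iff_finiteType _).mp h1
  let ψ : Γ(S, W) ⟶ CommRingCat.of A' := CommRingCat.ofHom (algebraMap R₁ A')
  let g₁ : Spec (CommRingCat.of A') ⟶ W.toScheme := Spec.map ψ ≫ hW.isoSpec.inv
  let φ₁ : Spec (CommRingCat.of A') ⟶ S := g₁ ≫ W.ι
  haveI : LocallyOfFiniteType (Spec.map ψ) := by
    rw [HasRingHomProperty.Spec_iff (P := @LocallyOfFiniteType)]
    exact RingHom.finiteType_algebraMap.mpr hFT
  haveI : LocallyOfFiniteType φ₁ := by
    show LocallyOfFiniteType ((Spec.map ψ ≫ hW.isoSpec.inv) ≫ W.ι)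
    infer_instance
  let P₁ := pullback f φ₁
  let p₁ : P₁ ⟶ Spec (.of A') := pullback.snd f φ₁
  let ι' : Spec (.of K') ⟶ Spec (.of A') := Spec.map (CommRingCat.ofHom (algebraMap A' K'))
  haveI : IsPreimmersion ι' := IsPreimmersion.of_isLocalization (nonZeroDivisors A')
  have hι' : ∀ t, ι' t = genericPoint (Spec (.of A')) := by
    intro t
    rw [genericPoint_eq_bot_of_affine]
    apply PrimeSpectrum.ext
    show Ideal.comap (algebraMap A' K') t.asIdeal = ⊥
    rw [eq_bot_iff]
    intro x hx
    have hx' : algebraMap A' K' x ∈ t.asIdeal := hx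
    by_contra hne
    have hne' : algebraMap A' K' x ≠ 0 := fun h0 => hne ((Ideal.mem_bot).2 (Subtype.ext h0))
    exact t.2.ne_top (Ideal.eq_top_of_isUnit_mem _ hx' (IsUnit.mk0 _ hne'))
  let P' := pullback p₁ ι'
  let a' : P' ⟶ P₁ := pullback.fst p₁ ι'
  let p' : P' ⟶ Spec (.of K') := pullback.snd p₁ ι'
  let ρ := S.fromSpecResidueField (genericPoint S)
  let m : Spec (.of K') ⟶ Spec (S.residueField (genericPoint S)) :=
    Spec.map (CommRingCat.ofHom (algebraMap K K'))
  have compat : Spec.map (S.evaluation W (genericPoint S) hηW) ≫ hW.fromSpec = ρ := by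
    show _ = Spec.map (S.residue (genericPoint S)) ≫ S.fromSpecStalk (genericPoint S)
    rw [← hW.fromSpecStalk_eq_fromSpecStalk hηW, IsAffineOpen.fromSpecStalk,
      ← Spec.map_comp_assoc]
    rfl
  have hcomp : ι' ≫ φ₁ = m ≫ ρ := by
    have hring : ψ ≫ CommRingCat.ofHom (algebraMap A' K') =
        S.evaluation W (genericPoint S) hηW ≫ CommRingCat.ofHom (algebraMap K K') := rfl
    show ι' ≫ (Spec.map ψ ≫ hW.isoSpec.inv) ≫ W.ι = m ≫ ρ
    rw [Category.assoc, hW.isoSpec_inv_ι, ← compat, ← Spec.map_comp_assoc,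
      ← Spec.map_comp_assoc, hring]
  have big : IsPullback (a' ≫ pullback.fst f φ₁) p' f (ι' ≫ φ₁) :=
    (IsPullback.of_hasPullback p₁ ι').paste_horiz (IsPullback.of_hasPullback f φ₁)
  rw [hcomp] at big
  have w : (a' ≫ pullback.fst f φ₁) ≫ f = (p' ≫ m) ≫ ρ := by
    simpa only [Category.assoc] using big.w
  have sqZ : IsPullback (pullback.lift _ _ w) p'
      (f.fiberToSpecResidueField (genericPoint S)) m := by
    refine IsPullback.of_right ?_ (pullback.lift_snd _ _ _) (IsPullback.of_hasPullback f ρ)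
    rw [pullback.lift_fst]
    exact big
  -- `P'` is not irreducible
  have hP'irr : ¬ IrreducibleSpace ↥P' := by
    intro h
    exact hirr ((sqZ.isoPullback.hom.homeomorph.irreducibleSpace_iff).mp h)
  -- `P'` is nonempty
  obtain ⟨x₀⟩ := hne
  obtain ⟨t₀⟩ : Nonempty (Spec (.of K')) := inferInstance
  obtain ⟨z₀, -, -⟩ := Scheme.Pullback.exists_preimage_pullback
    (f := f.fiberToSpecResidueField (genericPoint S)) (g := m) x₀ t₀ (Subsingleton.elim _ _)
  haveI : Nonempty ↥P' := ⟨sqZ.isoPullback.inv z₀⟩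
  have hrange : Set.range a' = p₁ ⁻¹' {genericPoint (Spec (.of A'))} := by
    rw [Scheme.Pullback.range_fst]
    congr 1
    ext y
    constructor
    · rintro ⟨t, rfl⟩
      exact hι' t
    · intro hy
      exact ⟨t₀, (hι' t₀).trans hy.symm⟩
  obtain ⟨V', hηV', hV'⟩ := exists_open_not_irreducible_fiber p₁ a' a'.isEmbedding hrange hP'irr
  -- the generic point of `Spec A'` lies over the generic point of `S`
  have hφ₁η : φ₁ (genericPoint (Spec (.of A'))) = genericPoint S := by
    rw [← hι' t₀, ← Scheme.Hom.comp_apply, hcomp, Scheme.Hom.comp_apply,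
      Scheme.fromSpecResidueField_apply]
  have hint := Groth.Agent.Lib.Helper28.GenFibreComp.genericPoint_mem_interior_image φ₁ V'
    (genericPoint (Spec (.of A'))) hηV' hφ₁η
  refine ⟨genericPoint S, interior_mono ?_ hint⟩
  rintro _ ⟨y, hy, rfl⟩ hmem
  have h1 : y ∈ GI p₁ := (mem_GI_pullback (IsPullback.of_hasPullback f φ₁) y).2 hmem
  rw [mem_GI] at h1
  haveI := h1
  exact hV' y hy (GeometricallyIrreducible.irreducibleSpace_of_subsingleton
    (p₁.fiberToSpecResidueField y))


/-- **(b−)** if the generic fibre is not geometrically irreducible, neither are the fibres over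
a nonempty open subset. -/
theorem not_geomIrr_near_generic {X S : Scheme.{u}} (f : X ⟶ S) [IrreducibleSpace S]
    [LocallyOfFiniteType f] [QuasiCompact f] (hη : genericPoint S ∉ GI f) :
    (interior (GI f)ᶜ).Nonempty := by
  classical
  by_cases hne : Nonempty ↥(f.fiber (genericPoint S))
  · let K := S.residueField (genericPoint S)
    let fη : f.fiber (genericPoint S) ⟶ Spec (CommRingCat.of K) :=
      f.fiberToSpecResidueField (genericPoint S)
    have h1 : ¬ IrreducibleSpace ↥(FBase.bc fη (SeparableClosure K)) := fun h =>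
      hη (Groth.Agent.Lib.Helper11.GeomSep.geometricallyIrreducible_of_sepClosure fη)
    have h2 : ∃ L : IntermediateField K (SeparableClosure K), FiniteDimensional K L ∧
        ¬ IrreducibleSpace ↥(FBase.bc fη ↥L) := by
      by_contra hcon
      push_neg at hcon
      exact h1 (Groth.Agent.Lib.Helper11.GeomSep.irreducibleSpace_of_levels fη
        (SeparableClosure K) hcon)
    obtain ⟨L, hL, hLirr⟩ := h2
    exact exists_not_irreducible_near f ↥L hne hLirr
  · have h1 : ∀ x ∈ (Set.univ : Set X), f x ≠ genericPoint S := by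
      intro x _ hx
      apply hne
      have : x ∈ Set.range (f.fiberι (genericPoint S)) := by rw [f.range_fiberι]; exact hx
      obtain ⟨w, -⟩ := this
      exact ⟨w⟩
    obtain ⟨V, hηV, hV⟩ :=
      Groth.Agent.Lib.Helper28.GenFibreComp.exists_open_disjoint_of_closed f Set.univ
        isClosed_univ h1
    refine ⟨genericPoint S, mem_interior.2 ⟨V, ?_, V.isOpen, hηV⟩⟩
    intro y hy hmem
    rw [mem_GI] at hmem
    haveI := hmem
    haveI : IrreducibleSpace ↥(f.fiber y) :=
      GeometricallyIrreducible.irreducibleSpace_of_subsingleton (f.fiberToSpecResidueField y)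
    obtain ⟨w⟩ : Nonempty ↥(f.fiber y) := inferInstance
    have h2 : f.fiberι y w ∈ Set.range (f.fiberι y) := ⟨w, rfl⟩
    rw [f.range_fiberι] at h2
    have h3 : f (f.fiberι y w) = y := h2
    exact hV _ trivial (h3 ▸ hy)

end Groth.Agent.Lib.Helper12.GeomIrrNeg
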