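import Mathlib
import Groth.Agent.Lib.Helper12.GeomIrrInd
import Groth.Agent.Lib.Helper12.GeomIrrNeg
import Groth.Agent.Lib.Helper12.GeomCompLevel
import Groth.Agent.Lib.Helper12.CompCount

/-!
# Structure of a family near the generic point: geometrically irreducible pieces (helper12)
-/

set_option autoImplicit false
set_option linter.style.haveILetI false
universe u
open AlgebraicGeometry CategoryTheory Limits Topology TensorProduct

namespace Groth.Agent.Lib.Helper12.GeomCompStruct

open Groth.Agent.Lib.Helper12.GeomIrrBasic Groth.Agent.Lib.Helper12.GeomIrrPt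
  Groth.Agent.Lib.Helper11.FBaseLib Groth.Agent.Lib.Helper11.FBaseLib2
  Groth.Agent.Lib.Helper11.BcLevels Groth.Agent.Lib.Helper11.PurInsep

section basic

theorem irreducibleSpace_of_isPullback_of_mem_GI {X' Y' Q : Scheme.{u}} (h : X' ⟶ Y')
    {K : Type u} [Field K] (y : Spec (.of K) ⟶ Y') (a : Q ⟶ X') (b : Q ⟶ Spec (.of K))
    (hsq : IsPullback a b h y) (hy : ∀ t, y t ∈ GI h) : IrreducibleSpace ↥Q := by
  have h1 : GI b = Set.univ := by
    rw [GI_pullback hsq]
    ext t
    simp only [Set.mem_preimage, hy t, Set.mem_univ]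
  rw [GI_eq_univ_iff] at h1
  haveI := h1
  exact GeometricallyIrreducible.irreducibleSpace_of_subsingleton b

/-- over a separably closed field, irreducible implies geometrically irreducible -/
theorem geometricallyIrreducible_of_isSepClosed {Ω : Type u} [Field Ω] [IsSepClosed Ω]
    {Q : Scheme.{u}} (g : Q ⟶ Spec (.of Ω)) [IrreducibleSpace ↥Q] :
    GeometricallyIrreducible g := by
  haveI : IsPurelyInseparable Ω (SeparableClosure Ω) := by
    have h := IsSepClosed.algebraMap_surjective Ω (SeparableClosure Ω)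
    rw [isPurelyInseparable_iff]
    intro x
    obtain ⟨y, rfl⟩ := h x
    exact ⟨(Algebra.IsIntegral.isIntegral _), fun _ => ⟨y, rfl⟩⟩
  have hh := isHomeomorph_bcπ g (SeparableClosure Ω)
  haveI : IrreducibleSpace ↥(FBase.bc g (SeparableClosure Ω)) :=
    (hh.homeomorph _).symm.surjective.irreducibleSpace (hh.homeomorph _).symm.continuous
  exact Groth.Agent.Lib.Helper11.GeomSep.geometricallyIrreducible_of_sepClosure g

theorem mem_GI_of_isPullback_isSepClosed {X' Y' Q : Scheme.{u}} (h : X' ⟶ Y')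
    {Ω : Type u} [Field Ω] [IsSepClosed Ω] (y : Spec (.of Ω) ⟶ Y') (a : Q ⟶ X')
    (b : Q ⟶ Spec (.of Ω)) (hsq : IsPullback a b h y) [IrreducibleSpace ↥Q]
    (t : Spec (.of Ω)) : y t ∈ GI h := by
  rw [← mem_GI_pullback hsq t]
  haveI := geometricallyIrreducible_of_isSepClosed b
  have : GI b = Set.univ := (GI_eq_univ_iff b).2 inferInstance
  rw [this]
  trivial

end basic


section model

open Groth.Agent.Lib.Helper12.GenRedModel in
set_option maxHeartbeats 1600000 in
/-- An integral model `Spec A'` of a finite subextension `L` of an extension `Ω` of the function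
field, with the base changes of the generic fibre to `L` and `Ω` realised as base changes of the
family. -/
theorem exists_model_squares {X S : Scheme.{u}} (f : X ⟶ S) [IsIntegral S] [IsNoetherian S]
    [LocallyOfFiniteType f] [QuasiCompact f]
    (Ω : Type u) [Field Ω] [Algebra (S.residueField (genericPoint S)) Ω]
    (L : IntermediateField (S.residueField (genericPoint S)) Ω)
    [FiniteDimensional (S.residueField (genericPoint S)) L] :
    ∃ (A' : Type u) (_ : CommRing A') (_ : IsDomain A') (_ : IsNoetherianRing A')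
      (φ₁ : Spec (.of A') ⟶ S) (ιL : Spec (.of ↥L) ⟶ Spec (.of A'))
      (ιΩ : Spec (.of Ω) ⟶ Spec (.of A'))
      (aL : FBase.bc (k := S.residueField (genericPoint S))
        (f.fiberToSpecResidueField (genericPoint S)) ↥L ⟶ pullback f φ₁)
      (aΩ : FBase.bc (k := S.residueField (genericPoint S))
        (f.fiberToSpecResidueField (genericPoint S)) Ω ⟶ pullback f φ₁),
      LocallyOfFiniteType φ₁ ∧ IsPreimmersion ιL ∧
      (∀ t, ιL t = genericPoint (Spec (.of A'))) ∧ (∀ t, ιΩ t = genericPoint (Spec (.of A'))) ∧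
      φ₁ (genericPoint (Spec (.of A'))) = genericPoint S ∧
      IsPullback aL (FBase.bcStr (k := S.residueField (genericPoint S))
        (f.fiberToSpecResidueField (genericPoint S)) ↥L) (pullback.snd f φ₁) ιL ∧
      IsPullback aΩ (FBase.bcStr (k := S.residueField (genericPoint S))
        (f.fiberToSpecResidueField (genericPoint S)) Ω) (pullback.snd f φ₁) ιΩ ∧
      bcHom (k := S.residueField (genericPoint S))
        (f.fiberToSpecResidueField (genericPoint S)) L.val ≫ aL = aΩ := by
  classical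
  let K := S.residueField (genericPoint S)
  let fη : f.fiber (genericPoint S) ⟶ Spec (CommRingCat.of K) :=
    f.fiberToSpecResidueField (genericPoint S)
  obtain ⟨_, ⟨W, hW, rfl⟩, hηW, -⟩ :=
    S.isBasis_affineOpens.exists_subset_of_mem_open (Set.mem_univ (genericPoint S)) isOpen_univ
  obtain ⟨W, rfl⟩ : ∃ W' : S.Opens, W' = W := ⟨W, rfl⟩
  let R₁ := Γ(S, W)
  haveI : IsNoetherianRing R₁ := IsLocallyNoetherian.component_noetherian ⟨W, hW⟩
  let ev : R₁ →+* K := (S.evaluation W (genericPoint S) hηW).hom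
  letI algRK : Algebra R₁ K := ev.toAlgebra
  letI algRL : Algebra R₁ ↥L := ((algebraMap K ↥L).comp ev).toAlgebra
  haveI : IsScalarTower R₁ K ↥L := IsScalarTower.of_algebraMap_eq (fun _ => rfl)
  have hfrac : ∀ x : K, ∃ u v : R₁, algebraMap R₁ K v ≠ 0 ∧
      x = algebraMap R₁ K u / algebraMap R₁ K v := evaluation_fraction hW (genericPoint S) hηW
  let b := Module.finBasis K ↥L
  let A' := Algebra.adjoin R₁ (Set.range b)
  haveI hFR : IsFractionRing A' ↥L := InsepModel.isFractionRing_adjoin b hfrac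
  haveI hFT : Algebra.FiniteType R₁ A' := by
    have h1 : (Algebra.adjoin R₁ (Set.range b)).FG := by
      have := Subalgebra.fg_adjoin_finset (R := R₁) (Set.finite_range b).toFinset
      rwa [Set.Finite.coe_toFinset] at this
    exact (Subalgebra.fg_iff_finiteType _).mp h1
  haveI : IsNoetherianRing A' := Algebra.FiniteType.isNoetherianRing R₁ A'
  letI algAΩ : Algebra A' Ω := ((algebraMap ↥L Ω).comp (algebraMap A' ↥L)).toAlgebra
  let ψ : Γ(S, W) ⟶ CommRingCat.of A' := CommRingCat.ofHom (algebraMap R₁ A')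
  let g₁ : Spec (CommRingCat.of A') ⟶ W.toScheme := Spec.map ψ ≫ hW.isoSpec.inv
  let φ₁ : Spec (CommRingCat.of A') ⟶ S := g₁ ≫ W.ι
  haveI : LocallyOfFiniteType (Spec.map ψ) := by
    rw [HasRingHomProperty.Spec_iff (P := @LocallyOfFiniteType)]
    exact RingHom.finiteType_algebraMap.mpr hFT
  haveI hφ₁ : LocallyOfFiniteType φ₁ := by
    show LocallyOfFiniteType ((Spec.map ψ ≫ hW.isoSpec.inv) ≫ W.ι)
    infer_instance
  let ιL : Spec (.of ↥L) ⟶ Spec (.of A') := Spec.map (CommRingCat.ofHom (algebraMap A' ↥L))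
  let ιΩ : Spec (.of Ω) ⟶ Spec (.of A') := Spec.map (CommRingCat.ofHom (algebraMap A' Ω))
  haveI hpre : IsPreimmersion ιL := IsPreimmersion.of_isLocalization (nonZeroDivisors A')
  have hιΩL : ιΩ = Spec.map (CommRingCat.ofHom (algebraMap ↥L Ω)) ≫ ιL := by
    show Spec.map _ = Spec.map _ ≫ Spec.map _
    rw [← Spec.map_comp]
    rfl
  have hιL : ∀ t, ιL t = genericPoint (Spec (.of A')) := by
    intro t
    rw [genericPoint_eq_bot_of_affine]
    apply PrimeSpectrum.ext
    show Ideal.comap (algebraMap A' ↥L) t.asIdeal = ⊥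
    rw [eq_bot_iff]
    intro x hx
    have hx' : algebraMap A' ↥L x ∈ t.asIdeal := hx
    by_contra hne
    have hne' : algebraMap A' ↥L x ≠ 0 := fun h0 => hne ((Ideal.mem_bot).2 (Subtype.ext h0))
    exact t.2.ne_top (Ideal.eq_top_of_isUnit_mem _ hx' (IsUnit.mk0 _ hne'))
  have hιΩ : ∀ t, ιΩ t = genericPoint (Spec (.of A')) := by
    intro t
    rw [hιΩL, Scheme.Hom.comp_apply]
    exact hιL _
  let ρ := S.fromSpecResidueField (genericPoint S)
  let mL : Spec (.of ↥L) ⟶ Spec (S.residueField (genericPoint S)) :=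
    Spec.map (CommRingCat.ofHom (algebraMap K ↥L))
  let mΩ : Spec (.of Ω) ⟶ Spec (S.residueField (genericPoint S)) :=
    Spec.map (CommRingCat.ofHom (algebraMap K Ω))
  have compat : Spec.map (S.evaluation W (genericPoint S) hηW) ≫ hW.fromSpec = ρ := by
    show _ = Spec.map (S.residue (genericPoint S)) ≫ S.fromSpecStalk (genericPoint S)
    rw [← hW.fromSpecStalk_eq_fromSpecStalk hηW, IsAffineOpen.fromSpecStalk,
      ← Spec.map_comp_assoc]
    rfl
  have hcompL : ιL ≫ φ₁ = mL ≫ ρ := by
    have hring : ψ ≫ CommRingCat.ofHom (algebraMap A' ↥L) =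
        S.evaluation W (genericPoint S) hηW ≫ CommRingCat.ofHom (algebraMap K ↥L) := rfl
    show ιL ≫ (Spec.map ψ ≫ hW.isoSpec.inv) ≫ W.ι = mL ≫ ρ
    rw [Category.assoc, hW.isoSpec_inv_ι, ← compat, ← Spec.map_comp_assoc,
      ← Spec.map_comp_assoc, hring]
  have hmΩL : mΩ = Spec.map (CommRingCat.ofHom (algebraMap ↥L Ω)) ≫ mL := by
    show Spec.map _ = Spec.map _ ≫ Spec.map _
    rw [← Spec.map_comp]
    rfl
  have hcompΩ : ιΩ ≫ φ₁ = mΩ ≫ ρ := by
    rw [hιΩL, hmΩL, Category.assoc, Category.assoc, hcompL]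
  have hφ₁η : φ₁ (genericPoint (Spec (.of A'))) = genericPoint S := by
    obtain ⟨t₀⟩ : Nonempty (Spec (.of ↥L)) := inferInstance
    rw [← hιL t₀, ← Scheme.Hom.comp_apply, hcompL, Scheme.Hom.comp_apply,
      Scheme.fromSpecResidueField_apply]
  -- the squares
  have hfib : IsPullback (f.fiberι (genericPoint S)) fη f ρ := IsPullback.of_hasPullback _ _
  have bigL : IsPullback (FBase.bcπ fη ↥L ≫ f.fiberι (genericPoint S)) (FBase.bcStr fη ↥L) f
      (ιL ≫ φ₁) := by
    rw [hcompL]
    exact (isPullback_bc fη ↥L).paste_horiz hfib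
  have bigΩ : IsPullback (FBase.bcπ fη Ω ≫ f.fiberι (genericPoint S)) (FBase.bcStr fη Ω) f
      (ιΩ ≫ φ₁) := by
    rw [hcompΩ]
    exact (isPullback_bc fη Ω).paste_horiz hfib
  have wL : (FBase.bcπ fη ↥L ≫ f.fiberι (genericPoint S)) ≫ f =
      (FBase.bcStr fη ↥L ≫ ιL) ≫ φ₁ := by
    simpa only [Category.assoc] using bigL.w
  have wΩ : (FBase.bcπ fη Ω ≫ f.fiberι (genericPoint S)) ≫ f =
      (FBase.bcStr fη Ω ≫ ιΩ) ≫ φ₁ := by
    simpa only [Category.assoc] using bigΩ.w
  have sqL : IsPullback (pullback.lift _ _ wL) (FBase.bcStr fη ↥L) (pullback.snd f φ₁) ιL := by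
    refine IsPullback.of_right ?_ (pullback.lift_snd _ _ _) (IsPullback.of_hasPullback f φ₁)
    rw [pullback.lift_fst]
    exact bigL
  have sqΩ : IsPullback (pullback.lift _ _ wΩ) (FBase.bcStr fη Ω) (pullback.snd f φ₁) ιΩ := by
    refine IsPullback.of_right ?_ (pullback.lift_snd _ _ _) (IsPullback.of_hasPullback f φ₁)
    rw [pullback.lift_fst]
    exact bigΩ
  refine ⟨A', inferInstance, inferInstance, inferInstance, φ₁, ιL, ιΩ, pullback.lift _ _ wL,
    pullback.lift _ _ wΩ, hφ₁, hpre, hιL, hιΩ, hφ₁η, sqL, sqΩ, ?_⟩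
  apply pullback.hom_ext
  · rw [Category.assoc, pullback.lift_fst, pullback.lift_fst, bcHom_π_assoc]
  · rw [Category.assoc, pullback.lift_snd, pullback.lift_snd, bcHom_str_assoc, hιΩL]
    rfl

end model


section structure_theorem

/-- the closed subscheme structure on a closed subset, and the irreducibility of the trace of the
subset on a base change -/
theorem isIrreducible_preimage_of_irreducibleSpace {X' Q : Scheme.{u}} (T : Set ↥X')
    (hT : IsClosed T) (a : Q ⟶ X')
    [IrreducibleSpace ↥(pullback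
      (Scheme.IdealSheafData.vanishingIdeal (X := X') ⟨T, hT⟩).subschemeι a)] :
    IsIrreducible (a ⁻¹' T) := by
  have hrange : Set.range (Scheme.IdealSheafData.vanishingIdeal (X := X') ⟨T, hT⟩).subschemeι =
      T := by
    rw [Scheme.IdealSheafData.range_subschemeι, Scheme.IdealSheafData.coe_support_vanishingIdeal]
    rfl
  have h1 := Scheme.Pullback.range_snd
    (Scheme.IdealSheafData.vanishingIdeal (X := X') ⟨T, hT⟩).subschemeι a
  rw [hrange] at h1
  rw [← h1, ← Set.image_univ]
  exact (IrreducibleSpace.isIrreducible_univ _).image _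
    (pullback.snd _ a).continuous.continuousOn

theorem irreducibleSpace_pullback_of_isIrreducible_preimage {X' Q : Scheme.{u}} (T : Set ↥X')
    (hT : IsClosed T) (a : Q ⟶ X') (h : IsIrreducible (a ⁻¹' T)) :
    IrreducibleSpace ↥(pullback
      (Scheme.IdealSheafData.vanishingIdeal (X := X') ⟨T, hT⟩).subschemeι a) := by
  have hrange : Set.range (Scheme.IdealSheafData.vanishingIdeal (X := X') ⟨T, hT⟩).subschemeι =
      T := by
    rw [Scheme.IdealSheafData.range_subschemeι, Scheme.IdealSheafData.coe_support_vanishingIdeal]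
    rfl
  have h1 := Scheme.Pullback.range_snd
    (Scheme.IdealSheafData.vanishingIdeal (X := X') ⟨T, hT⟩).subschemeι a
  rw [hrange] at h1
  have hemb : IsEmbedding (pullback.snd
      (Scheme.IdealSheafData.vanishingIdeal (X := X') ⟨T, hT⟩).subschemeι a) :=
    (pullback.snd _ a).isEmbedding
  haveI : IrreducibleSpace ↥(Set.range (pullback.snd
      (Scheme.IdealSheafData.vanishingIdeal (X := X') ⟨T, hT⟩).subschemeι a)) := by
    rw [h1]
    exact isIrreducible_iff_irreducibleSpace.mp h
  exact (hemb.toHomeomorph.irreducibleSpace_iff).mpr inferInstance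

set_option maxHeartbeats 1600000 in
/-- **Structure near the generic point.** After a dominant base change of finite type, the family
is, over a neighbourhood of the generic point, an irredundant union of closed subsets with
geometrically irreducible fibres. -/
theorem exists_structure {X S : Scheme.{u}} (f : X ⟶ S) [IsIntegral S] [IsNoetherian S]
    [LocallyOfFiniteType f] [QuasiCompact f] :
    ∃ (S' : Scheme.{u}) (_ : IsIntegral S') (_ : IsNoetherian S') (φ : S' ⟶ S)
      (_ : LocallyOfFiniteType φ) (n : ℕ) (T : Fin n → Set ↥(pullback f φ)) (V' : S'.Opens),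
      φ (genericPoint S') = genericPoint S ∧ genericPoint S' ∈ V' ∧ (∀ i, IsClosed (T i)) ∧
      (pullback.snd f φ) ⁻¹' (V' : Set S') ⊆ ⋃ i, T i ∧
      (∀ s' ∈ V', ∀ i, ∃ x, pullback.snd f φ x = s' ∧ x ∈ T i ∧ ∀ j, j ≠ i → x ∉ T j) ∧
      (∀ s' ∈ V', ∀ i, ∀ (K : Type u) [Field K] (y : Spec (.of K) ⟶ S') (Q : Scheme.{u})
        (a : Q ⟶ pullback f φ) (b : Q ⟶ Spec (.of K)), IsPullback a b (pullback.snd f φ) y →
        (∀ t, y t = s') → IsIrreducible (a ⁻¹' T i)) := by
  classical
  let K := S.residueField (genericPoint S)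
  let fη : f.fiber (genericPoint S) ⟶ Spec (CommRingCat.of K) :=
    f.fiberToSpecResidueField (genericPoint S)
  let Ω := SeparableClosure K
  haveI : LocallyOfFiniteType fη :=
    MorphismProperty.pullback_snd (P := @LocallyOfFiniteType) _ _ inferInstance
  haveI : QuasiCompact fη :=
    MorphismProperty.pullback_snd (P := @QuasiCompact) _ _ inferInstance
  obtain ⟨L, hLfin, hsat⟩ := GeomCompLevel.exists_level_saturated fη Ω
  haveI := hLfin
  obtain ⟨A', _, _, _, φ₁, ιL, ιΩ, aL, aΩ, hφ₁, hpre, hιL, hιΩ, hφ₁η, sqL, sqΩ, hcomp⟩ :=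
    exists_model_squares f Ω L
  haveI := hφ₁
  haveI := hpre
  -- Noetherianity and the components
  haveI : LocallyOfFiniteType (FBase.bcStr fη Ω) :=
    MorphismProperty.pullback_snd (P := @LocallyOfFiniteType) _ _ inferInstance
  haveI : QuasiCompact (FBase.bcStr fη Ω) :=
    MorphismProperty.pullback_snd (P := @QuasiCompact) _ _ inferInstance
  haveI : IsNoetherian (FBase.bc fη Ω) :=
    Groth.Agent.Lib.Helper14.SmoothInsepSch.isNoetherian_of_lft_qc Ω (FBase.bcStr fη Ω)
  have hfin : (irreducibleComponents ↥(FBase.bc fη Ω)).Finite :=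
    TopologicalSpace.NoetherianSpace.finite_irreducibleComponents
  haveI : Finite ↥(irreducibleComponents ↥(FBase.bc fη Ω)) := hfin.to_subtype
  let n := Nat.card ↥(irreducibleComponents ↥(FBase.bc fη Ω))
  let e : Fin n ≃ ↥(irreducibleComponents ↥(FBase.bc fη Ω)) := (Finite.equivFin _).symm
  let Z : Fin n → Set ↥(FBase.bc fη Ω) := fun i => (e i).1
  have hZmem : ∀ i, Z i ∈ irreducibleComponents ↥(FBase.bc fη Ω) := fun i => (e i).2
  have hZcl : ∀ i, IsClosed (Z i) := fun i => isClosed_of_mem_irreducibleComponents _ (hZmem i)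
  have hZirr : ∀ i, IsIrreducible (Z i) := fun i => (hZmem i).1
  have hZcov : ∀ z : ↥(FBase.bc fη Ω), ∃ i, z ∈ Z i := by
    intro z
    refine ⟨e.symm ⟨irreducibleComponent z, irreducibleComponent_mem_irreducibleComponents z⟩, ?_⟩
    show z ∈ (e (e.symm _)).1
    rw [Equiv.apply_symm_apply]
    exact mem_irreducibleComponent
  have hZinj : ∀ i j, Z i ⊆ Z j → i = j := by
    intro i j hij
    have h1 : Z i = Z j := ((hZmem i).2 (hZirr j) hij).antisymm hij |>.symm
    exact e.injective (Subtype.ext h1)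
  have hZne : ∀ i, ∃ z ∈ Z i, ∀ j, j ≠ i → z ∉ Z j := by
    intro i
    by_contra hcon
    push_neg at hcon
    have h1 := (isIrreducible_iff_sUnion_isClosed.mp (hZirr i))
      ((Finset.univ.erase i).image Z)
      (fun z hz => by
        obtain ⟨j, -, rfl⟩ := Finset.mem_image.mp hz
        exact hZcl j)
      (by
        intro z hz
        obtain ⟨j, hji, hzj⟩ := hcon z hz
        exact ⟨Z j, Finset.mem_coe.mpr (Finset.mem_image_of_mem Z
          (Finset.mem_erase.mpr ⟨hji, Finset.mem_univ j⟩)), hzj⟩)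
    obtain ⟨z, hz, hsub⟩ := h1
    obtain ⟨j, hj, rfl⟩ := Finset.mem_image.mp hz
    exact (Finset.mem_erase.mp hj).1 (hZinj i j hsub).symm
  -- the maps
  let π := bcHom fη L.val
  have haΩ : ∀ z, aΩ z = aL (π z) := fun z => by rw [← hcomp]; rfl
  haveI : IsPreimmersion aL :=
    MorphismProperty.of_isPullback (P := @IsPreimmersion) sqL.flip hpre
  have hemb : IsEmbedding aL := aL.isEmbedding
  have hπsurj : Function.Surjective π := (bcHom fη L.val).surjective
  have hπclosed : IsClosedMap π := by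
    haveI := isIntegralHom_bcHom fη L.val
    exact (bcHom fη L.val).isClosedMap
  let T : Fin n → Set ↥(pullback f φ₁) := fun i => closure (aΩ '' Z i)
  have hpreT : ∀ i, aΩ ⁻¹' T i = Z i := by
    intro i
    have h1 : aΩ '' Z i = aL '' (π '' Z i) := by
      rw [Set.image_image]
      exact Set.image_congr (fun z _ => haΩ z)
    have h2 : aL ⁻¹' closure (aL '' (π '' Z i)) = π '' Z i := by
      rw [← hemb.isInducing.closure_eq_preimage_closure_image]
      exact (hπclosed _ (hZcl i)).closure_eq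
    ext z
    show aΩ z ∈ closure (aΩ '' Z i) ↔ z ∈ Z i
    rw [h1, haΩ]
    have h3 : aL (π z) ∈ closure (aL '' (π '' Z i)) ↔ π z ∈ π '' Z i := by
      have h5 : π z ∈ aL ⁻¹' closure (aL '' (π '' Z i)) ↔ π z ∈ π '' Z i := by rw [h2]
      exact h5
    rw [h3]
    have h4 : π z ∈ π '' Z i ↔ z ∈ π ⁻¹' (π '' Z i) := Iff.rfl
    rw [h4, hsat (Z i) (hZmem i)]
  have hu'aΩ : ∀ z, (pullback.snd f φ₁) (aΩ z) = genericPoint (Spec (.of A')) := by
    intro z
    rw [← Scheme.Hom.comp_apply, sqΩ.w, Scheme.Hom.comp_apply, hιΩ]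
  have hrange : ∀ x, (pullback.snd f φ₁) x = genericPoint (Spec (.of A')) → ∃ z, aΩ z = x := by
    intro x hx
    obtain ⟨t₀⟩ : Nonempty (Spec (.of Ω)) := inferInstance
    obtain ⟨z, hz, -⟩ := Scheme.exists_preimage_of_isPullback sqΩ x t₀
      (by rw [hιΩ]; exact hx)
    exact ⟨z, hz⟩
  have hcov : (pullback.snd f φ₁) ⁻¹' {genericPoint (Spec (.of A'))} ⊆ ⋃ i, T i := by
    intro x hx
    obtain ⟨z, rfl⟩ := hrange x hx
    obtain ⟨i, hi⟩ := hZcov z
    exact Set.mem_iUnion.2 ⟨i, subset_closure ⟨z, hi, rfl⟩⟩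
  choose zz hzz hzzn using hZne
  have hξT : ∀ i j, j ≠ i → aΩ (zz i) ∉ T j := by
    intro i j hji hmem
    have : zz i ∈ aΩ ⁻¹' T j := hmem
    rw [hpreT] at this
    exact hzzn i j hji this
  obtain ⟨V₀, hηV₀, hV₀sub, hV₀pts⟩ :=
    Groth.Agent.Lib.Helper28.GenFibreComp.exists_open_forall_fibre (pullback.snd f φ₁) T
      (fun i => isClosed_closure) hcov (fun i => aΩ (zz i)) (fun i => hu'aΩ _) hξT
  -- the closed subschemes
  let J : ∀ i : Fin n, (Scheme.IdealSheafData.vanishingIdeal (X := pullback f φ₁)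
      ⟨T i, isClosed_closure⟩).subscheme ⟶ pullback f φ₁ := fun i =>
    (Scheme.IdealSheafData.vanishingIdeal (X := pullback f φ₁)
      ⟨T i, isClosed_closure⟩).subschemeι
  have hηGI : ∀ i, genericPoint (Spec (.of A')) ∈ GI (J i ≫ pullback.snd f φ₁) := by
    intro i
    haveI : IrreducibleSpace ↥(pullback (J i) aΩ) :=
      irreducibleSpace_pullback_of_isIrreducible_preimage (T i) isClosed_closure aΩ
        (by rw [hpreT]; exact hZirr i)
    have sq := (IsPullback.of_hasPullback (J i) aΩ).paste_vert sqΩ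
    obtain ⟨t₀⟩ : Nonempty (Spec (.of Ω)) := inferInstance
    have := mem_GI_of_isPullback_isSepClosed (J i ≫ pullback.snd f φ₁) ιΩ _ _ sq t₀
    rwa [hιΩ] at this
  have hηint : ∀ i, genericPoint (Spec (.of A')) ∈
      interior (GI (J i ≫ pullback.snd f φ₁)) := by
    intro i
    obtain ⟨z, hz⟩ := Groth.Agent.Lib.Helper12.GeomIrrInd.geomIrr_near_generic_noeth
      (J i ≫ pullback.snd f φ₁) (hηGI i)
    exact (genericPoint_specializes z).mem_open isOpen_interior hz
  refine ⟨Spec (.of A'), inferInstance, inferInstance, φ₁, hφ₁, n, T,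
    V₀ ⊓ ⟨⋂ i, interior (GI (J i ≫ pullback.snd f φ₁)),
      isOpen_iInter_of_finite fun i => isOpen_interior⟩,
    hφ₁η, ⟨hηV₀, Set.mem_iInter.2 hηint⟩, fun i => isClosed_closure, ?_, ?_, ?_⟩
  · intro x hx
    exact hV₀sub hx.1
  · intro s' hs' i
    exact hV₀pts s' hs'.1 i
  · intro s' hs' i K' _ y Q a b hsq hy
    have hs'i : s' ∈ GI (J i ≫ pullback.snd f φ₁) :=
      interior_subset (Set.mem_iInter.1 hs'.2 i)
    have sq := (IsPullback.of_hasPullback (J i) a).paste_vert hsq
    haveI : IrreducibleSpace ↥(pullback (J i) a) :=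
      irreducibleSpace_of_isPullback_of_mem_GI (J i ≫ pullback.snd f φ₁) y _ _ sq
        (fun t => by rw [hy t]; exact hs'i)
    exact isIrreducible_preimage_of_irreducibleSpace (T i) isClosed_closure a

end structure_theorem

end Groth.Agent.Lib.Helper12.GeomCompStruct
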