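import Mathlib
import Groth.Prelude.Def_MoreMor
import Groth.Agent.Lib.Helper12.GeomCompStruct
import Groth.Agent.S1334

/-!
# The number of geometric irreducible components is constant near the generic point (helper12)
-/

set_option autoImplicit false
set_option linter.style.haveILetI false
universe u
open AlgebraicGeometry CategoryTheory Limits Topology

namespace Groth.Agent.Lib.Helper12.GeomCompIrr

open Groth.Agent.Lib.Helper12.GeomCompStruct Groth.Agent.Lib.Helper12.CompCount

/-- the geometric fibre as a base change of the family -/
theorem isPullback_geomFiber {X S : Scheme.{u}} (u : X ⟶ S) (s : S) :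
    IsPullback
      (pullback.fst (u.fiberToSpecResidueField s) (Spec.map (CommRingCat.ofHom
        (algebraMap (S.residueField s) (SeparableClosure (S.residueField s))))) ≫ u.fiberι s)
      (pullback.snd (u.fiberToSpecResidueField s) (Spec.map (CommRingCat.ofHom
        (algebraMap (S.residueField s) (SeparableClosure (S.residueField s))))))
      u
      (Spec.map (CommRingCat.ofHom
        (algebraMap (S.residueField s) (SeparableClosure (S.residueField s)))) ≫
        S.fromSpecResidueField s) :=
  (IsPullback.of_hasPullback _ _).paste_horiz
    (IsPullback.of_hasPullback u (S.fromSpecResidueField s))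

set_option maxHeartbeats 800000 in
/-- **The number of geometric irreducible components is constant near the generic point**
(integral Noetherian base). -/
theorem nGeomIrredComp_const_near_generic {X S : Scheme.{u}} (f : X ⟶ S) [IsIntegral S]
    [IsNoetherian S] [LocallyOfFiniteType f] [QuasiCompact f] :
    ∃ V : S.Opens, genericPoint S ∈ V ∧
      ∀ s ∈ V, MoreMor.nGeomIrredComp f s = MoreMor.nGeomIrredComp f (genericPoint S) := by
  classical
  obtain ⟨S', _, _, φ, _, n, T, V', hφη, hηV', hTcl, hsub, hpts, hirr⟩ := exists_structure f
  have key : ∀ s' ∈ V', MoreMor.nGeomIrredComp (pullback.snd f φ) s' = n := by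
    intro s' hs'
    have hsq := isPullback_geomFiber (pullback.snd f φ) s'
    set a := pullback.fst ((pullback.snd f φ).fiberToSpecResidueField s')
      (Spec.map (CommRingCat.ofHom
        (algebraMap (S'.residueField s') (SeparableClosure (S'.residueField s'))))) ≫
      (pullback.snd f φ).fiberι s' with ha
    have hy : ∀ t, (Spec.map (CommRingCat.ofHom
        (algebraMap (S'.residueField s') (SeparableClosure (S'.residueField s')))) ≫
        S'.fromSpecResidueField s') t = s' := by
      intro t
      rw [Scheme.Hom.comp_apply, Scheme.fromSpecResidueField_apply]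
    have hua : ∀ z, (pullback.snd f φ) (a z) = s' := by
      intro z
      rw [← Scheme.Hom.comp_apply, hsq.w, Scheme.Hom.comp_apply, hy]
    show (irreducibleComponents ↥(MoreMor.geomFiber (pullback.snd f φ) s')).encard = n
    have h1 := encard_irreducibleComponents_eq (G := ↥(MoreMor.geomFiber (pullback.snd f φ) s'))
      (fun i => a ⁻¹' T i)
      (fun i => (hTcl i).preimage a.continuous)
      (fun i => hirr s' hs' i _ _ _ a _ hsq hy)
      (by
        rw [Set.eq_univ_iff_forall]
        intro z
        have : a z ∈ ⋃ i, T i := hsub (show (pullback.snd f φ) (a z) ∈ V' by rw [hua]; exact hs')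
        obtain ⟨i, hi⟩ := Set.mem_iUnion.1 this
        exact Set.mem_iUnion.2 ⟨i, hi⟩)
      (by
        intro i
        obtain ⟨x, hx, hxi, hxn⟩ := hpts s' hs' i
        obtain ⟨t₀⟩ : Nonempty (Spec (.of (SeparableClosure (S'.residueField s')))) :=
          inferInstance
        obtain ⟨z, hz, -⟩ := Scheme.exists_preimage_of_isPullback hsq x t₀
          (by rw [hy]; exact hx)
        refine ⟨z, ?_, fun j hj hzj => hxn j hj ?_⟩
        · show a z ∈ T i
          rw [hz]; exact hxi
        · have : a z ∈ T j := hzj
          rwa [hz] at this)
    rw [h1]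
    simp
  have hbc : ∀ s', MoreMor.nGeomIrredComp (pullback.snd f φ) s' =
      MoreMor.nGeomIrredComp f (φ s') := fun s' =>
    Groth.Agent.S1334.result f (pullback.snd f φ) (pullback.fst f φ) φ
      (IsPullback.of_hasPullback f φ) s'
  have hint := Groth.Agent.Lib.Helper28.GenFibreComp.genericPoint_mem_interior_image φ V'
    (genericPoint S') hηV' hφη
  refine ⟨⟨interior (φ '' (V' : Set S')), isOpen_interior⟩, hint, ?_⟩
  intro s hs
  obtain ⟨s', hs', rfl⟩ := interior_subset hs
  rw [← hbc, key s' hs', ← hφη, ← hbc, key _ hηV']

end Groth.Agent.Lib.Helper12.GeomCompIrr
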