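import Mathlib
import Groth.Prelude.Def_MoreMor
import Groth.Agent.Lib.Helper12.GeomCompIrr
import Groth.Agent.Lib.Helper12.CompCountConn
import Groth.Agent.Lib.Helper12.FibreTopGen
import Groth.Agent.S1335

/-!
# The number of geometric connected components is constant near the generic point (helper12)
-/

set_option autoImplicit false
set_option linter.style.haveILetI false
universe u
open AlgebraicGeometry CategoryTheory Limits Topology

namespace Groth.Agent.Lib.Helper12.GeomCompConn

open Groth.Agent.Lib.Helper12.GeomCompStruct Groth.Agent.Lib.Helper12.CompCountConn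
  Groth.Agent.Lib.Helper12.GeomCompIrr

/-- the image of a closed subset either contains or misses a neighbourhood of the generic point -/
theorem exists_open_image_iff {X' S' : Scheme.{u}} (u' : X' ⟶ S') [IsIntegral S'] [IsNoetherian S']
    [LocallyOfFiniteType u'] [QuasiCompact u'] (C : Set ↥X') (hC : IsClosed C) :
    ∃ O : Set ↥S', IsOpen O ∧ genericPoint S' ∈ O ∧
      ∀ s' ∈ O, (s' ∈ u' '' C ↔ genericPoint S' ∈ u' '' C) := by
  by_cases hη : genericPoint S' ∈ u' '' C
  · haveI : TopologicalSpace.NoetherianSpace X' :=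
      Groth.Agent.Lib.Helper12.FibreTopGen.noetherianSpace_of_finiteType u'
    haveI : LocallyOfFinitePresentation u' := inferInstance
    have hcons : IsConstructible (u' '' C) :=
      u'.isConstructible_image (Groth.Agent.Lib.Helper12.FibreTopGen.isConstructible_of_isClosed' hC)
    obtain ⟨z, hz⟩ := Groth.Agent.Lib.Helper12.ConsPropBasic.interior_nonempty_of_genericPoint_mem
      _ hcons.isLocallyConstructible hη
    refine ⟨interior (u' '' C), isOpen_interior,
      (genericPoint_specializes z).mem_open isOpen_interior hz, fun s' hs' => ?_⟩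
    exact ⟨fun _ => hη, fun _ => interior_subset hs'⟩
  · have h1 : ∀ x ∈ C, u' x ≠ genericPoint S' := fun x hx hux => hη ⟨x, hx, hux⟩
    obtain ⟨V, hηV, hV⟩ :=
      Groth.Agent.Lib.Helper28.GenFibreComp.exists_open_disjoint_of_closed u' C hC h1
    refine ⟨V, V.isOpen, hηV, fun s' hs' => ?_⟩
    constructor
    · rintro ⟨x, hx, rfl⟩
      exact absurd hs' (hV x hx)
    · intro h
      exact absurd h hη

set_option maxHeartbeats 800000 in
/-- **The number of geometric connected components is constant near the generic point**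
(integral Noetherian base). -/
theorem nGeomConnComp_const_near_generic {X S : Scheme.{u}} (f : X ⟶ S) [IsIntegral S]
    [IsNoetherian S] [LocallyOfFiniteType f] [QuasiCompact f] :
    ∃ V : S.Opens, genericPoint S ∈ V ∧
      ∀ s ∈ V, MoreMor.nGeomConnComp f s = MoreMor.nGeomConnComp f (genericPoint S) := by
  classical
  obtain ⟨S', _, _, φ, _, n, T, V', hφη, hηV', hTcl, hsub, hpts, hirr⟩ := exists_structure f
  have hpair : ∀ i j : Fin n, ∃ O : Set ↥S', IsOpen O ∧ genericPoint S' ∈ O ∧
      ∀ s' ∈ O, (s' ∈ (pullback.snd f φ) '' (T i ∩ T j) ↔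
        genericPoint S' ∈ (pullback.snd f φ) '' (T i ∩ T j)) := fun i j =>
    exists_open_image_iff (pullback.snd f φ) (T i ∩ T j) ((hTcl i).inter (hTcl j))
  choose O hOopen hηO hO using hpair
  let V'' : S'.Opens := V' ⊓ ⟨⋂ i, ⋂ j, O i j,
    isOpen_iInter_of_finite fun i => isOpen_iInter_of_finite fun j => hOopen i j⟩
  have hηV'' : genericPoint S' ∈ V'' :=
    ⟨hηV', Set.mem_iInter.2 fun i => Set.mem_iInter.2 fun j => hηO i j⟩
  -- description of the geometric fibres
  have key : ∀ s' ∈ V'', ∃ A : Fin n → Set ↥(MoreMor.geomFiber (pullback.snd f φ) s'),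
      (∀ i, IsClosed (A i)) ∧ (∀ i, _root_.IsConnected (A i)) ∧ (⋃ i, A i = Set.univ) ∧
      ∀ i j, ((A i ∩ A j).Nonempty ↔
        genericPoint S' ∈ (pullback.snd f φ) '' (T i ∩ T j)) := by
    intro s' hs'
    have hs'V' : s' ∈ V' := hs'.1
    have hsq := isPullback_geomFiber (pullback.snd f φ) s'
    set a := pullback.fst ((pullback.snd f φ).fiberToSpecResidueField s')
      (Spec.map (CommRingCat.ofHom
        (algebraMap (S'.residueField s') (SeparableClosure (S'.residueField s'))))) ≫
      (pullback.snd f φ).fiberι s' with ha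
    have hy : ∀ t, (Spec.map (CommRingCat.ofHom
        (algebraMap (S'.residueField s') (SeparableClosure (S'.residueField s')))) ≫
        S'.fromSpecResidueField s') t = s' := by
      intro t
      rw [Scheme.Hom.comp_apply, Scheme.fromSpecResidueField_apply]
    have hua : ∀ z, (pullback.snd f φ) (a z) = s' := by
      intro z
      rw [← Scheme.Hom.comp_apply, hsq.w, Scheme.Hom.comp_apply, hy]
    refine ⟨fun i => a ⁻¹' T i, fun i => (hTcl i).preimage a.continuous,
      fun i => (hirr s' hs'V' i _ _ _ a _ hsq hy).isConnected, ?_, ?_⟩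
    · rw [Set.eq_univ_iff_forall]
      intro z
      have : a z ∈ ⋃ i, T i :=
        hsub (show (pullback.snd f φ) (a z) ∈ V' by rw [hua]; exact hs'V')
      obtain ⟨i, hi⟩ := Set.mem_iUnion.1 this
      exact Set.mem_iUnion.2 ⟨i, hi⟩
    · intro i j
      have hOij : s' ∈ O i j := Set.mem_iInter.1 (Set.mem_iInter.1 hs'.2 i) j
      rw [← hO i j s' hOij]
      constructor
      · rintro ⟨z, hzi, hzj⟩
        exact ⟨a z, ⟨hzi, hzj⟩, hua z⟩
      · rintro ⟨x, ⟨hxi, hxj⟩, hx⟩
        obtain ⟨t₀⟩ : Nonempty (Spec (.of (SeparableClosure (S'.residueField s')))) :=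
          inferInstance
        obtain ⟨z, hz, -⟩ := Scheme.exists_preimage_of_isPullback hsq x t₀
          (by rw [hy]; exact hx)
        exact ⟨z, by show a z ∈ T i; rw [hz]; exact hxi, by show a z ∈ T j; rw [hz]; exact hxj⟩
  have hconst : ∀ s' ∈ V'', MoreMor.nGeomConnComp (pullback.snd f φ) s' =
      MoreMor.nGeomConnComp (pullback.snd f φ) (genericPoint S') := by
    intro s' hs'
    obtain ⟨A, hAcl, hAconn, hAcov, hAiff⟩ := key s' hs'
    obtain ⟨B, hBcl, hBconn, hBcov, hBiff⟩ := key (genericPoint S') hηV''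
    exact card_connectedComponents_eq_of_iff A B hAcl hAconn hAcov hBcl hBconn hBcov
      (fun i j => (hAiff i j).trans (hBiff i j).symm)
  have hbc : ∀ s', MoreMor.nGeomConnComp (pullback.snd f φ) s' =
      MoreMor.nGeomConnComp f (φ s') := fun s' =>
    Groth.Agent.S1335.result f (pullback.snd f φ) (pullback.fst f φ) φ
      (IsPullback.of_hasPullback f φ) s'
  have hint := Groth.Agent.Lib.Helper28.GenFibreComp.genericPoint_mem_interior_image φ V''
    (genericPoint S') hηV'' hφη
  refine ⟨⟨interior (φ '' (V'' : Set S')), isOpen_interior⟩, hint, ?_⟩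
  intro s hs
  obtain ⟨s', hs', rfl⟩ := interior_subset hs
  rw [← hbc, hconst s' hs', ← hφη, ← hbc]

end Groth.Agent.Lib.Helper12.GeomCompConn
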