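import Mathlib
import Groth.Prelude
import Groth.Agent.S1335
import Groth.Agent.S1339
import Groth.Agent.Lib.Helper12.ConnDVR
import Groth.Agent.Lib.Helper12.DvrCurve
import Groth.Agent.Lib.Helper12.ConstrNhds

/-!
# EGA IV 15.5.9 (ii): constancy of the geometric number of connected components near a point with
geometrically reduced fibre along which a proper morphism is universally open (helper12)

Strategy: a generization `z` of `y` is dominated by a discrete valuation ring `R → Y`; over `R`
we replace the base change `W` of `X` by the (flat) scheme-theoretic closure of its generic fibre,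
which has the same generic fibre and — by openness along the closed fibre and reducedness of the
closed fibre — the same closed fibre; for flat proper morphisms with geometrically reduced fibres
the number is locally constant (S1364).  Constructibility of the level sets (S1339) then gives a
neighbourhood.
-/

set_option autoImplicit false
set_option linter.style.haveILetI false
universe u
open CategoryTheory CategoryTheory.Limits AlgebraicGeometry TopologicalSpace Topology

namespace Groth.Agent.Lib.Helper12.ConnConstNhd

open Groth.Agent.Lib.Helper12.GeomRedGen Groth.Agent.Lib.Helper12.ConnDVR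
open Groth.Agent.Lib.Helper12.DvrCurve

/-- the number is constant along generizations of `y` -/
theorem nGeomConnComp_eq_of_specializes {X Y : Scheme.{u}} [IsLocallyNoetherian Y]
    (f : X ⟶ Y) [IsProper f] (y : Y) (h : ∀ x : X, f.base x = y → EGA43.IsUnivOpenAt f x)
    (hred : GeometricallyReduced (f.fiberToSpecResidueField y)) (z : Y) (hz : z ⤳ y) :
    MoreMor.nGeomConnComp f z = MoreMor.nGeomConnComp f y := by
  by_cases hzy : z = y
  · rw [hzy]
  obtain ⟨R, i1, i2, i3, γ, hγ1, hγ2⟩ := exists_dvr_scheme y z hz hzy
  have sq := IsPullback.of_hasPullback f γ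
  have h1 := Groth.Agent.S1335.result f (pullback.snd f γ) (pullback.fst f γ) γ sq
    (IsLocalRing.closedPoint R : PrimeSpectrum R)
  have h2 := Groth.Agent.S1335.result f (pullback.snd f γ) (pullback.fst f γ) γ sq
    (⟨⊥, Ideal.isPrime_bot⟩ : PrimeSpectrum R)
  rw [hγ1] at h1
  rw [hγ2] at h2
  rw [← h1, ← h2]
  apply nGeomConnComp_generic_eq_closed (pullback.snd f γ)
  · intro w hw
    have hx : f.base (pullback.fst f γ w) = y := by
      show f (pullback.fst f γ w) = y
      rw [← Scheme.Hom.comp_apply, pullback.condition, Scheme.Hom.comp_apply, hw]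
      exact hγ1
    exact h _ hx _ γ w rfl
  · refine (mem_E_pullback sq (IsLocalRing.closedPoint R : PrimeSpectrum R)).mpr ?_
    rw [hγ1]
    exact hred

/-- **EGA IV 15.5.9 (ii)**. -/
theorem main {X Y : Scheme.{u}} [IsLocallyNoetherian Y]
    (f : X ⟶ Y) [IsProper f] (y : Y) (h : ∀ x : X, f.base x = y → EGA43.IsUnivOpenAt f x)
    (hred : GeometricallyReduced (f.fiberToSpecResidueField y)) :
    ∃ V ∈ nhds y, ∀ z ∈ V, MoreMor.nGeomConnComp f z = MoreMor.nGeomConnComp f y := by
  haveI : LocallyOfFinitePresentation f := by
    rw [HasRingHomProperty.iff_appLE (P := @LocallyOfFinitePresentation)]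
    intro V U e
    haveI : IsNoetherianRing Γ(Y, V.1) := IsLocallyNoetherian.component_noetherian V
    exact RingHom.FinitePresentation.of_finiteType.mp
      (HasRingHomProperty.appLE (P := @LocallyOfFiniteType) f inferInstance V U e)
  have hE := Groth.Agent.S1339.result f (MoreMor.nGeomConnComp f y)
  have hn := Groth.Agent.Lib.Helper12.ConstrNhds.mem_nhds_of_isLocallyConstructible
    {z : Y | MoreMor.nGeomConnComp f z = MoreMor.nGeomConnComp f y} hE y
    (fun z hz => nGeomConnComp_eq_of_specializes f y h hred z hz)
  exact ⟨_, hn, fun z hz => hz⟩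

end Groth.Agent.Lib.Helper12.ConnConstNhd
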