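import Mathlib
import Groth.Prelude.Def_EGA4Misc
import Groth.Agent.Lib.Helper12.ConsPropGen
import Groth.Agent.Lib.Helper12.FpDesc
import Groth.Agent.S9218

/-!
# Loci of (ind-)constructible properties of morphisms of algebraic schemes (EGA IV 9.3.3, morphism
form)
-/

set_option autoImplicit false
universe u
open CategoryTheory CategoryTheory.Limits AlgebraicGeometry Topology TopologicalSpace

namespace Groth.Agent.Lib.Helper12.ConsMorLocus

open Groth.Agent.Lib.Helper12.ClosedSub Groth.Agent.Lib.Helper12.ConsPropNoeth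
  Groth.Agent.Lib.Helper12.ConsPropGen Groth.Agent.Lib.Helper12.FpDesc ConsProp

set_option backward.isDefEq.respectTransparency false
set_option linter.style.haveILetI false

variable {P : ∀ ⦃X Y T : Scheme.{u}⦄, (X ⟶ Y) → (Y ⟶ T) → Prop}

lemma fiberMap_fiberι {X Y S : Scheme.{u}} (f : X ⟶ Y) (g : Y ⟶ S) (s : S) :
    MoreMor.fiberMap f g s ≫ g.fiberι s = (f ≫ g).fiberι s ≫ f :=
  pullback.lift_fst _ _ _

lemma fiberMap_fiberToSpecResidueField {X Y S : Scheme.{u}} (f : X ⟶ Y) (g : Y ⟶ S) (s : S) :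
    MoreMor.fiberMap f g s ≫ g.fiberToSpecResidueField s =
      (f ≫ g).fiberToSpecResidueField s :=
  pullback.lift_snd _ _ _

/-- The morphism of fibres of a base change is the base change of the morphism of fibres. -/
theorem exists_fiberMap_isPullback {X X' Y Y' S S' : Scheme.{u}} {f : X ⟶ Y} {g : Y ⟶ S}
    {f' : X' ⟶ Y'} {g' : Y' ⟶ S'} {eX : X' ⟶ X} {eY : Y' ⟶ Y} {h : S' ⟶ S}
    (hY : IsPullback eY g' g h) (hX : IsPullback eX f' f eY) (s' : S') :
    ∃ (eX₀ : (f' ≫ g').fiber s' ⟶ (f ≫ g).fiber (h s')) (eY₀ : g'.fiber s' ⟶ g.fiber (h s')),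
      IsPullback eY₀ (g'.fiberToSpecResidueField s') (g.fiberToSpecResidueField (h s'))
        (Spec.map (h.residueFieldMap s')) ∧
      IsPullback eX₀ (MoreMor.fiberMap f' g' s') (MoreMor.fiberMap f g (h s')) eY₀ := by
  obtain ⟨eY₀, he, hcomp⟩ := exists_fibre_isPullback hY s'
  obtain ⟨eX₀, heX, hcompX⟩ := exists_fibre_isPullback (hX.paste_vert hY) s'
  refine ⟨eX₀, eY₀, he, ?_⟩
  have A := isPullback_fiberMap f g (h s')
  have A' := isPullback_fiberMap f' g' s'
  have B := A'.paste_horiz hX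
  rw [← hcompX, ← hcomp] at B
  refine IsPullback.of_right B ?_ A
  have t : IsPullback (g.fiberι (h s')) (g.fiberToSpecResidueField (h s')) g
      (S.fromSpecResidueField (h s')) := IsPullback.of_hasPullback _ _
  apply t.hom_ext
  · rw [Category.assoc, fiberMap_fiberι, reassoc_of% hcompX, Category.assoc, hcomp,
      reassoc_of% (fiberMap_fiberι f' g' s'), hX.w]
  · rw [Category.assoc, fiberMap_fiberToSpecResidueField, heX.w, Category.assoc, he.w,
      reassoc_of% (fiberMap_fiberToSpecResidueField f' g' s')]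

/-- (M1) compatibility of the locus with base change. -/
theorem locusMor_preimage (hP : IsFieldStableMor P) {X X' Y Y' S S' : Scheme.{u}}
    {f : X ⟶ Y} {g : Y ⟶ S} {f' : X' ⟶ Y'} {g' : Y' ⟶ S'} {eX : X' ⟶ X} {eY : Y' ⟶ Y}
    {h : S' ⟶ S} [LocallyOfFiniteType g] [QuasiCompact g] [LocallyOfFiniteType (f ≫ g)]
    [QuasiCompact (f ≫ g)] (hY : IsPullback eY g' g h) (hX : IsPullback eX f' f eY) :
    locusMor P f' g' = h ⁻¹' locusMor P f g := by
  ext s'
  obtain ⟨eX₀, eY₀, h1, h2⟩ := exists_fiberMap_isPullback hY hX s'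
  haveI : LocallyOfFiniteType (MoreMor.fiberMap f g (h s') ≫
      g.fiberToSpecResidueField (h s')) := by
    rw [fiberMap_fiberToSpecResidueField]; infer_instance
  haveI : QuasiCompact (MoreMor.fiberMap f g (h s') ≫ g.fiberToSpecResidueField (h s')) := by
    rw [fiberMap_fiberToSpecResidueField]; infer_instance
  exact (hP (MoreMor.fiberMap f g (h s')) (g.fiberToSpecResidueField (h s'))
    (MoreMor.fiberMap f' g' s') (g'.fiberToSpecResidueField s') eX₀ eY₀
    (Spec.map (h.residueFieldMap s')) h1 h2).symm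

section BaseChange

variable {X Y S S' : Scheme.{u}} (f : X ⟶ Y) (g : Y ⟶ S) (h : S' ⟶ S)

/-- base change of `f` along `h` (over the base change of `Y`) -/
noncomputable abbrev bcMor : pullback f (pullback.fst g h) ⟶ pullback g h :=
  pullback.snd f (pullback.fst g h)

lemma isPullback_bcMor_comp :
    IsPullback (pullback.fst f (pullback.fst g h)) (bcMor f g h ≫ pullback.snd g h) (f ≫ g) h :=
  (IsPullback.of_hasPullback f (pullback.fst g h)).paste_vert (IsPullback.of_hasPullback g h)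

lemma locusMor_bcMor (hP : IsFieldStableMor P) [LocallyOfFiniteType g] [QuasiCompact g]
    [LocallyOfFiniteType (f ≫ g)] [QuasiCompact (f ≫ g)] :
    locusMor P (bcMor f g h) (pullback.snd g h) = h ⁻¹' locusMor P f g :=
  locusMor_preimage hP (IsPullback.of_hasPullback g h)
    (IsPullback.of_hasPullback f (pullback.fst g h))

end BaseChange

/-- (M2) Noetherian case, constructible. -/
theorem isConstructible_locusMor (hP : IsConsMor P) {X Y S : Scheme.{u}} [IsNoetherian S]
    (f : X ⟶ Y) (g : Y ⟶ S) [LocallyOfFiniteType g] [QuasiCompact g]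
    [LocallyOfFiniteType (f ≫ g)] [QuasiCompact (f ≫ g)] :
    IsConstructible (locusMor P f g) := by
  refine isConstructible_of_forall_clSub _ fun ξ => ?_
  rw [← locusMor_bcMor f g (clSubι S ξ) hP.1]
  haveI : LocallyOfFiniteType (bcMor f g (clSubι S ξ) ≫ pullback.snd g (clSubι S ξ)) :=
    MorphismProperty.of_isPullback (P := @LocallyOfFiniteType)
      (isPullback_bcMor_comp f g (clSubι S ξ)) inferInstance
  haveI : QuasiCompact (bcMor f g (clSubι S ξ) ≫ pullback.snd g (clSubι S ξ)) :=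
    MorphismProperty.of_isPullback (P := @QuasiCompact)
      (isPullback_bcMor_comp f g (clSubι S ξ)) inferInstance
  exact hP.2 _ _

/-- (M2') Noetherian case, ind-constructible. -/
theorem exists_sUnion_locusMor (hP : IsIndConsMor P) {X Y S : Scheme.{u}} [IsNoetherian S]
    (f : X ⟶ Y) (g : Y ⟶ S) [LocallyOfFiniteType g] [QuasiCompact g]
    [LocallyOfFiniteType (f ≫ g)] [QuasiCompact (f ≫ g)] :
    ∃ 𝒞 : Set (Set S), (∀ C ∈ 𝒞, IsConstructible C) ∧ locusMor P f g = ⋃₀ 𝒞 := by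
  refine exists_sUnion_constructible _ fun s hs => ?_
  refine exists_open_inter_closure_subset _ s ?_
  have hloc := locusMor_bcMor f g (clSubι S s) hP.1
  rw [← hloc]
  haveI : LocallyOfFiniteType (bcMor f g (clSubι S s) ≫ pullback.snd g (clSubι S s)) :=
    MorphismProperty.of_isPullback (P := @LocallyOfFiniteType)
      (isPullback_bcMor_comp f g (clSubι S s)) inferInstance
  haveI : QuasiCompact (bcMor f g (clSubι S s) ≫ pullback.snd g (clSubι S s)) :=
    MorphismProperty.of_isPullback (P := @QuasiCompact)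
      (isPullback_bcMor_comp f g (clSubι S s)) inferInstance
  refine hP.2 _ _ ?_
  rw [hloc]
  show clSubι S s (genericPoint (clSub S s)) ∈ locusMor P f g
  rw [clSubι_genericPoint]
  exact hs

/-- (M3) Over an affine open of the base, the morphism comes from a morphism of families over a
Noetherian scheme. -/
theorem exists_chart_locusMor {X Y S : Scheme.{u}} (f : X ⟶ Y) (g : Y ⟶ S)
    [LocallyOfFinitePresentation g] [QuasiCompact g] [QuasiSeparated g]
    [LocallyOfFinitePresentation (f ≫ g)] [QuasiCompact (f ≫ g)] [QuasiSeparated (f ≫ g)]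
    (V : S.Opens) (hV : IsAffineOpen V) :
    ∃ (N : Scheme.{u}) (_ : IsNoetherian N) (p : (V : Scheme.{u}) ⟶ N) (X' Y' : Scheme.{u})
      (f' : X' ⟶ Y') (g' : Y' ⟶ N), LocallyOfFiniteType g' ∧ QuasiCompact g' ∧
        LocallyOfFiniteType (f' ≫ g') ∧ QuasiCompact (f' ≫ g') ∧
        ∀ {P : ∀ ⦃X Y T : Scheme.{u}⦄, (X ⟶ Y) → (Y ⟶ T) → Prop}, IsFieldStableMor P →
          V.ι ⁻¹' locusMor P f g = p ⁻¹' locusMor P f' g' := by
  obtain ⟨J, _, _, 𝔇, π, hπ, haff, hnoeth⟩ := exists_noetherian_limit V hV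
  haveI : ∀ {i j : J} (a : i ⟶ j), IsAffineHom (𝔇.map a) := fun a => inferInstance
  haveI : ∀ (i j : J) (a : i ⟶ j), IsAffineHom (𝔇.map a) := fun _ _ a => inferInstance
  -- the restrictions over `V`
  have hcompV := isPullback_bcMor_comp f g V.ι
  haveI : LocallyOfFinitePresentation (bcMor f g V.ι ≫ pullback.snd g V.ι) :=
    MorphismProperty.of_isPullback (P := @LocallyOfFinitePresentation) hcompV inferInstance
  haveI : QuasiCompact (bcMor f g V.ι ≫ pullback.snd g V.ι) :=
    MorphismProperty.of_isPullback (P := @QuasiCompact) hcompV inferInstance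
  haveI : QuasiSeparated (bcMor f g V.ι ≫ pullback.snd g V.ι) :=
    MorphismProperty.of_isPullback (P := @QuasiSeparated) hcompV inferInstance
  obtain ⟨i₁, Y₁, y₁, qY₁, _, _, _, sqY₁⟩ := descends_of_fp (D := 𝔇) (c := Cone.mk _ π) hπ
    (pullback.snd g V.ι)
  obtain ⟨i₂, X₁, x₁, qX₁, _, _, _, sqX₁⟩ := descends_of_fp (D := 𝔇) (c := Cone.mk _ π) hπ
    (bcMor f g V.ι ≫ pullback.snd g V.ι)
  obtain ⟨i, a₁, a₂, -⟩ : ∃ (i : J) (a₁ : i ⟶ i₁) (a₂ : i ⟶ i₂), True :=
    ⟨IsCofiltered.min i₁ i₂, IsCofiltered.minToLeft _ _, IsCofiltered.minToRight _ _, trivial⟩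
  have sqY := isPullback_restage (D := 𝔇) (c := Cone.mk _ π) a₁ sqY₁
    (restage_w (D := 𝔇) (c := Cone.mk _ π) a₁ sqY₁)
  have sqX := isPullback_restage (D := 𝔇) (c := Cone.mk _ π) a₂ sqX₁
    (restage_w (D := 𝔇) (c := Cone.mk _ π) a₂ sqX₁)
  haveI := haff i
  haveI : CompactSpace ↥(pullback x₁ (𝔇.map a₂)) :=
    QuasiCompact.compactSpace_of_compactSpace (pullback.snd x₁ (𝔇.map a₂))
  haveI : QuasiSeparatedSpace ↥(pullback x₁ (𝔇.map a₂)) :=
    quasiSeparatedSpace_of_quasiSeparated (pullback.snd x₁ (𝔇.map a₂))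
  haveI : CompactSpace ↥(pullback y₁ (𝔇.map a₁)) :=
    QuasiCompact.compactSpace_of_compactSpace (pullback.snd y₁ (𝔇.map a₁))
  haveI : QuasiSeparatedSpace ↥(pullback y₁ (𝔇.map a₁)) :=
    quasiSeparatedSpace_of_quasiSeparated (pullback.snd y₁ (𝔇.map a₁))
  obtain ⟨j, φ, fj, sX, sY, h1, h2, h3, h4, h5, h6⟩ := Groth.Agent.S9218.result 𝔇 (Cone.mk _ π)
    hπ i (pullback.snd x₁ (𝔇.map a₂)) (pullback.snd y₁ (𝔇.map a₁)) _ _ sqX _ _ sqY
    (bcMor f g V.ι) rfl
  have hYj : IsPullback sY (pullback.snd g V.ι)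
      (pullback.snd (pullback.snd y₁ (𝔇.map a₁)) (𝔇.map φ)) (π.app j) := by
    refine IsPullback.of_right ?_ h5 (IsPullback.of_hasPullback _ (𝔇.map φ))
    rw [h4]
    have e : π.app j ≫ 𝔇.map φ = π.app i := (Cone.mk _ π).w φ
    rw [e]
    exact sqY
  have hXj' : IsPullback sX (bcMor f g V.ι ≫ pullback.snd g V.ι)
      (pullback.snd (pullback.snd x₁ (𝔇.map a₂)) (𝔇.map φ)) (π.app j) := by
    refine IsPullback.of_right ?_ h3 (IsPullback.of_hasPullback _ (𝔇.map φ))
    rw [h2]
    have e : π.app j ≫ 𝔇.map φ = π.app i := (Cone.mk _ π).w φ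
    rw [e]
    exact sqX
  have hXj : IsPullback sX (bcMor f g V.ι) fj sY := by
    refine IsPullback.of_bot ?_ h6 hYj
    rw [h1]
    exact hXj'
  refine ⟨𝔇.obj j, hnoeth j, π.app j, _, _, fj,
    pullback.snd (pullback.snd y₁ (𝔇.map a₁)) (𝔇.map φ), inferInstance, inferInstance,
    by rw [h1]; infer_instance, by rw [h1]; infer_instance, ?_⟩
  intro P hP
  rw [← locusMor_bcMor f g V.ι hP]
  haveI : LocallyOfFiniteType (fj ≫ pullback.snd (pullback.snd y₁ (𝔇.map a₁)) (𝔇.map φ)) := by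
    rw [h1]; infer_instance
  haveI : QuasiCompact (fj ≫ pullback.snd (pullback.snd y₁ (𝔇.map a₁)) (𝔇.map φ)) := by
    rw [h1]; infer_instance
  exact locusMor_preimage hP hYj hXj

end Groth.Agent.Lib.Helper12.ConsMorLocus
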