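import Mathlib
import Groth.Prelude.Def_W4ega4s0809p4Pair
import Groth.Agent.Lib.Helper12.ConsPropGen
import Groth.Agent.Lib.Helper12.FpDesc

/-!
# Loci of (ind-)constructible properties of pairs of algebraic schemes (EGA IV 9.3.3, pair form)
-/

set_option autoImplicit false
universe u
open CategoryTheory CategoryTheory.Limits AlgebraicGeometry Topology TopologicalSpace

namespace Groth.Agent.Lib.Helper12.ConsPairLocus

open Groth.Agent.Lib.Helper12.ClosedSub Groth.Agent.Lib.Helper12.ConsPropNoeth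
  Groth.Agent.Lib.Helper12.ConsPropGen Groth.Agent.Lib.Helper12.FpDesc ConsPropPair

set_option backward.isDefEq.respectTransparency false
set_option linter.style.haveILetI false

variable {P : ∀ ⦃X Y T : Scheme.{u}⦄, (X ⟶ T) → (Y ⟶ T) → Prop}

/-- (P1) compatibility of the locus with base change. -/
theorem locusPair_preimage (hP : IsFieldStablePair P) {X X' Y Y' S S' : Scheme.{u}}
    {u : X ⟶ S} {u' : X' ⟶ S'} {v : Y ⟶ S} {v' : Y' ⟶ S'} {eX : X' ⟶ X} {eY : Y' ⟶ Y}
    {h : S' ⟶ S} [LocallyOfFiniteType u] [QuasiCompact u] [LocallyOfFiniteType v]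
    [QuasiCompact v] (hX : IsPullback eX u' u h) (hY : IsPullback eY v' v h) :
    locusPair P u' v' = h ⁻¹' locusPair P u v := by
  ext s'
  obtain ⟨e1, he1, -⟩ := exists_fibre_isPullback hX s'
  obtain ⟨e2, he2, -⟩ := exists_fibre_isPullback hY s'
  exact (hP (u.fiberToSpecResidueField (h s')) (v.fiberToSpecResidueField (h s'))
    (u'.fiberToSpecResidueField s') (v'.fiberToSpecResidueField s') e1 e2
    (Spec.map (h.residueFieldMap s')) he1 he2).symm

/-- (P2) Noetherian case, constructible. -/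
theorem isConstructible_locusPair (hP : IsConsPair P) {X Y S : Scheme.{u}} [IsNoetherian S]
    (u : X ⟶ S) (v : Y ⟶ S) [LocallyOfFiniteType u] [QuasiCompact u] [LocallyOfFiniteType v]
    [QuasiCompact v] : IsConstructible (locusPair P u v) := by
  refine isConstructible_of_forall_clSub _ fun ξ => ?_
  rw [← locusPair_preimage hP.1 (IsPullback.of_hasPullback u (clSubι S ξ))
    (IsPullback.of_hasPullback v (clSubι S ξ))]
  exact hP.2 _ _

/-- (P2') Noetherian case, ind-constructible. -/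
theorem exists_sUnion_locusPair (hP : IsIndConsPair P) {X Y S : Scheme.{u}} [IsNoetherian S]
    (u : X ⟶ S) (v : Y ⟶ S) [LocallyOfFiniteType u] [QuasiCompact u] [LocallyOfFiniteType v]
    [QuasiCompact v] :
    ∃ 𝒞 : Set (Set S), (∀ C ∈ 𝒞, IsConstructible C) ∧ locusPair P u v = ⋃₀ 𝒞 := by
  refine exists_sUnion_constructible _ fun s hs => ?_
  refine exists_open_inter_closure_subset _ s ?_
  have hloc := locusPair_preimage hP.1 (IsPullback.of_hasPullback u (clSubι S s))
    (IsPullback.of_hasPullback v (clSubι S s))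
  rw [← hloc]
  refine hP.2 _ _ ?_
  rw [hloc]
  show clSubι S s (genericPoint (clSub S s)) ∈ locusPair P u v
  rw [clSubι_genericPoint]
  exact hs

/-- (P3) Over an affine open of the base, the two families come from families over a Noetherian
scheme. -/
theorem exists_chart_locusPair {X Y S : Scheme.{u}} (u : X ⟶ S) (v : Y ⟶ S)
    [LocallyOfFinitePresentation u] [QuasiCompact u] [QuasiSeparated u]
    [LocallyOfFinitePresentation v] [QuasiCompact v] [QuasiSeparated v]
    (V : S.Opens) (hV : IsAffineOpen V) :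
    ∃ (N : Scheme.{u}) (_ : IsNoetherian N) (p : (V : Scheme.{u}) ⟶ N) (X' Y' : Scheme.{u})
      (u' : X' ⟶ N) (v' : Y' ⟶ N), LocallyOfFiniteType u' ∧ QuasiCompact u' ∧
        LocallyOfFiniteType v' ∧ QuasiCompact v' ∧
        ∀ {P : ∀ ⦃X Y T : Scheme.{u}⦄, (X ⟶ T) → (Y ⟶ T) → Prop}, IsFieldStablePair P →
          V.ι ⁻¹' locusPair P u v = p ⁻¹' locusPair P u' v' := by
  obtain ⟨J, _, _, 𝔇, π, hπ, haff, hnoeth⟩ := exists_noetherian_limit V hV
  haveI : ∀ {i j : J} (f : i ⟶ j), IsAffineHom (𝔇.map f) := fun f => inferInstance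
  obtain ⟨i₁, X₁, u₁, g₁, _, _, _, sq₁⟩ := descends_of_fp (D := 𝔇) (c := Cone.mk _ π) hπ
    (pullback.snd u V.ι)
  obtain ⟨i₂, Y₁, v₁, g₂, _, _, _, sq₂⟩ := descends_of_fp (D := 𝔇) (c := Cone.mk _ π) hπ
    (pullback.snd v V.ι)
  obtain ⟨i, a₁, a₂, -⟩ : ∃ (i : J) (a₁ : i ⟶ i₁) (a₂ : i ⟶ i₂), True :=
    ⟨IsCofiltered.min i₁ i₂, IsCofiltered.minToLeft _ _, IsCofiltered.minToRight _ _, trivial⟩
  have sqU := isPullback_restage (D := 𝔇) (c := Cone.mk _ π) a₁ sq₁
    (restage_w (D := 𝔇) (c := Cone.mk _ π) a₁ sq₁)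
  have sqV := isPullback_restage (D := 𝔇) (c := Cone.mk _ π) a₂ sq₂
    (restage_w (D := 𝔇) (c := Cone.mk _ π) a₂ sq₂)
  refine ⟨𝔇.obj i, hnoeth i, π.app i, _, _, pullback.snd u₁ (𝔇.map a₁),
    pullback.snd v₁ (𝔇.map a₂), inferInstance, inferInstance, inferInstance, inferInstance, ?_⟩
  intro P hP
  rw [← locusPair_preimage hP (IsPullback.of_hasPullback u V.ι) (IsPullback.of_hasPullback v V.ι)]
  exact locusPair_preimage hP sqU sqV

end Groth.Agent.Lib.Helper12.ConsPairLocus
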