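import Mathlib
import Groth.Agent.Lib.Helper12.FibreDimFP
import Groth.Agent.Lib.Helper12.EquidimHyp
import Groth.Agent.S1608
import Groth.Agent.S3443

/-! Quasi-finiteness of the morphisms induced on fibres, and constructibility of the quasi-finite
locus of a morphism locally of finite presentation. -/

set_option autoImplicit false
universe u
open AlgebraicGeometry CategoryTheory TopologicalSpace Limits Topology

namespace Groth.Agent.Lib.Helper12.FibQF

open Groth.Agent.Lib.Helper12.Chevalley Groth.Agent.Lib.Helper12.ConstrNhds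

theorem quasiFiniteAt_iff_mem_isolatedSet {X Y : Scheme.{u}} (f : X ⟶ Y) [LocallyOfFiniteType f]
    (x : X) : f.QuasiFiniteAt x ↔ x ∈ isolatedSet f.base := by
  simp only [isolatedSet, Set.mem_setOf_eq]
  rw [Scheme.Hom.quasiFiniteAt_iff_isOpen_singleton_asFiber,
    ← (f.fiberHomeo (f x)).isOpen_image]
  simp only [Set.image_singleton, Scheme.Hom.asFiber, Homeomorph.apply_symm_apply]

/-- Being isolated in the fibre is compatible with restriction to a union of fibres. -/
theorem mem_isolatedSet_iff_of_isInducing {X' X Y' Y : Type*} [TopologicalSpace X']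
    [TopologicalSpace X] [TopologicalSpace Y'] [TopologicalSpace Y]
    (f' : X' → Y') (f : X → Y) (p : X' → X) (q : Y' → Y)
    (hp : IsInducing p) (hpinj : Function.Injective p) (hq : Function.Injective q)
    (hcomm : ∀ x', f (p x') = q (f' x'))
    (hrange : ∀ z, f z ∈ Set.range q → z ∈ Set.range p) (x' : X') :
    x' ∈ isolatedSet f' ↔ p x' ∈ isolatedSet f := by
  rw [mem_isolatedSet_iff, mem_isolatedSet_iff]
  constructor
  · rintro ⟨O', hO', h⟩
    obtain ⟨O, hO, rfl⟩ := hp.isOpen_iff.mp hO'
    refine ⟨O, hO, fun z hz => ?_⟩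
    obtain ⟨z', rfl⟩ := hrange z ⟨f' x', by rw [hz, hcomm]⟩
    have hz' : f' z' = f' x' := hq (by rw [← hcomm, ← hcomm, hz])
    rw [hpinj.eq_iff]
    exact h z' hz'
  · rintro ⟨O, hO, h⟩
    refine ⟨p ⁻¹' O, hO.preimage hp.continuous, fun z' hz' => ?_⟩
    have := h (p z') (by rw [hcomm, hcomm, hz'])
    rw [hpinj.eq_iff] at this
    exact this

theorem locallyQuasiFinite_fibMap_iff {X Y S : Scheme.{u}} (f : X ⟶ Y) (g : Y ⟶ S)
    [LocallyOfFiniteType f] [LocallyOfFiniteType (f ≫ g)] (s : S) :
    LocallyQuasiFinite (Groth.Agent.S3443.fibMap f g s) ↔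
      ∀ x : X, (f ≫ g).base x = s → f.QuasiFiniteAt x := by
  have hfst : Groth.Agent.S3443.fibMap f g s ≫ pullback.fst g (S.fromSpecResidueField s) =
      pullback.fst (f ≫ g) (S.fromSpecResidueField s) ≫ f := pullback.lift_fst _ _ _
  have hsnd : Groth.Agent.S3443.fibMap f g s ≫ pullback.snd g (S.fromSpecResidueField s) =
      pullback.snd (f ≫ g) (S.fromSpecResidueField s) := pullback.lift_snd _ _ _
  haveI : LocallyOfFiniteType (Groth.Agent.S3443.fibMap f g s ≫
      pullback.snd g (S.fromSpecResidueField s)) := by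
    rw [hsnd]; infer_instance
  haveI : LocallyOfFiniteType (Groth.Agent.S3443.fibMap f g s) :=
    locallyOfFiniteType_of_comp _ (pullback.snd g (S.fromSpecResidueField s))
  have hiso : ∀ x' : ↥(pullback (f ≫ g) (S.fromSpecResidueField s)),
      (Groth.Agent.S3443.fibMap f g s).QuasiFiniteAt x' ↔
        f.QuasiFiniteAt (((f ≫ g).fiberι s).base x') := by
    intro x'
    rw [quasiFiniteAt_iff_mem_isolatedSet, quasiFiniteAt_iff_mem_isolatedSet]
    apply mem_isolatedSet_iff_of_isInducing _ _ _ (g.fiberι s).base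
      ((f ≫ g).fiberι s).isEmbedding.isInducing ((f ≫ g).fiberι s).isEmbedding.injective
      (g.fiberι s).isEmbedding.injective
    · intro z'
      show f.base ((pullback.fst (f ≫ g) (S.fromSpecResidueField s)).base z') =
        (pullback.fst g (S.fromSpecResidueField s)).base ((Groth.Agent.S3443.fibMap f g s).base z')
      rw [← Scheme.Hom.comp_apply, ← Scheme.Hom.comp_apply, hfst]
    · intro z hz
      rw [g.range_fiberι s] at hz
      rw [(f ≫ g).range_fiberι s]
      show (f ≫ g).base z = s
      rw [Scheme.Hom.comp_apply]; exact hz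
  rw [← Scheme.Hom.quasiFiniteLocus_eq_top_iff]
  constructor
  · intro h x hx
    have hx2 : x ∈ Set.range ((f ≫ g).fiberι s).base := by
      rw [(f ≫ g).range_fiberι s]; exact hx
    obtain ⟨x', rfl⟩ := hx2
    rw [← hiso]
    have : x' ∈ (Groth.Agent.S3443.fibMap f g s).quasiFiniteLocus := by rw [h]; trivial
    exact this
  · intro h
    rw [eq_top_iff]
    intro x' _
    show (Groth.Agent.S3443.fibMap f g s).QuasiFiniteAt x'
    rw [hiso]
    apply h
    have : ((f ≫ g).fiberι s).base x' ∈ Set.range ((f ≫ g).fiberι s).base := ⟨x', rfl⟩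
    rw [(f ≫ g).range_fiberι s] at this
    exact this

theorem fibreDimAt_le_zero_iff {X Y : Scheme.{u}} (f : X ⟶ Y) [LocallyOfFiniteType f] (x : X) :
    FlatMor.fibreDimAt f x ≤ ((0 : ℕ) : WithBot ℕ∞) ↔ f.QuasiFiniteAt x := by
  constructor
  · intro h
    exact Groth.Agent.S1608.quasiFiniteAt_of_fibreDimAt_le_zero f x (by exact_mod_cast h)
  · intro h
    rw [Groth.Agent.Lib.Helper12.EquidimHyp.fibreDimAt_le_iff]
    intro z hz hzx
    have hzq : f.QuasiFiniteAt z := hzx.mem_open f.isOpen_quasiFiniteAt h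
    rw [Groth.Agent.S1608.trn_eq_zero_of_quasiFiniteAt f z hzq]
    simp

theorem isRetrocompact_setOf_quasiFiniteAt {X Y : Scheme.{u}} (f : X ⟶ Y)
    [LocallyOfFinitePresentation f] : IsRetrocompact {x : X | f.QuasiFiniteAt x} := by
  have := Groth.Agent.Lib.Helper12.FibreDimFP.isRetrocompact_setOf_fibreDimAt_le f 0
  convert this using 1
  ext x
  exact (fibreDimAt_le_zero_iff f x).symm

theorem isLocallyConstructible_setOf_quasiFiniteAt {X Y : Scheme.{u}} (f : X ⟶ Y)
    [LocallyOfFinitePresentation f] : IsLocallyConstructible {x : X | f.QuasiFiniteAt x} :=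
  (isRetrocompact_setOf_quasiFiniteAt f).isLocallyConstructible f.isOpen_quasiFiniteAt

end Groth.Agent.Lib.Helper12.FibQF
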