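import Mathlib
import Groth.Agent.Lib.Helper12.ConsPropBasic
import Groth.Agent.Lib.Helper12.FibQF

/-!
# Finiteness of fibres as a constructible property

`IsFinite (u.fiberToSpecResidueField s)` is equivalent to quasi-finiteness of `u` at all points
of the fibre over `s`; the resulting locus is locally constructible.
-/

set_option autoImplicit false
universe u
open CategoryTheory AlgebraicGeometry Topology

namespace Groth.Agent.Lib.Helper12.ConsPropFin
open Groth.Agent.Lib.Helper12.ConstrNhds

/-- A point of the fibre is open in the fibre iff the morphism is quasi-finite there. -/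
theorem isOpen_singleton_iff_quasiFiniteAt {X S : Scheme.{u}} (f : X ⟶ S) [LocallyOfFiniteType f]
    (s : S) (x : X) (hx : f x = s) (x' : f.fiber s) (hx' : f.fiberι s x' = x) :
    IsOpen ({x'} : Set (f.fiber s)) ↔ f.QuasiFiniteAt x := by
  subst hx
  have h1 : f.asFiber x = x' := by
    apply (f.fiberι (f x)).isEmbedding.injective
    rw [f.fiberι_asFiber, hx']
  rw [Scheme.Hom.quasiFiniteAt_iff_isOpen_singleton_asFiber, h1]

/-- The fibre over `s` is (locally) quasi-finite over the residue field iff `f` is quasi-finite
at every point over `s`. -/
theorem locallyQuasiFinite_fiberToSpecResidueField_iff {X S : Scheme.{u}} (f : X ⟶ S)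
    [LocallyOfFiniteType f] (s : S) :
    LocallyQuasiFinite (f.fiberToSpecResidueField s) ↔ ∀ x : X, f x = s → f.QuasiFiniteAt x := by
  rw [locallyQuasiFinite_iff_isDiscrete_preimage_singleton]
  constructor
  · intro h x hx
    have hx2 : x ∈ Set.range (f.fiberι s) := by
      rw [f.range_fiberι s]; exact hx
    obtain ⟨x', hx'⟩ := hx2
    rw [← isOpen_singleton_iff_quasiFiniteAt f s x hx x' hx']
    have h1 := h (f.fiberToSpecResidueField s x')
    have h2 : (f.fiberToSpecResidueField s ⁻¹' {f.fiberToSpecResidueField s x'} : Set (f.fiber s)) =
        Set.univ := by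
      ext z
      simp only [Set.mem_preimage, Set.mem_singleton_iff, Set.mem_univ, iff_true]
      exact Subsingleton.elim _ _
    rw [h2, isDiscrete_univ_iff] at h1
    exact isOpen_discrete _
  · intro h t
    have h3 : DiscreteTopology (f.fiber s) := by
      rw [discreteTopology_iff_isOpen_singleton]
      intro x'
      have hx : f (f.fiberι s x') = s := by
        have : f.fiberι s x' ∈ Set.range (f.fiberι s) := ⟨x', rfl⟩
        rw [f.range_fiberι s] at this
        exact this
      rw [isOpen_singleton_iff_quasiFiniteAt f s _ hx x' rfl]
      exact h _ hx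
    exact ⟨inferInstance⟩

/-- The fibre over `s` is finite over the residue field iff `f` is quasi-finite at every point
over `s`. -/
theorem isFinite_fiberToSpecResidueField_iff {X S : Scheme.{u}} (f : X ⟶ S)
    [LocallyOfFiniteType f] [QuasiCompact f] (s : S) :
    IsFinite (f.fiberToSpecResidueField s) ↔ ∀ x : X, f x = s → f.QuasiFiniteAt x := by
  rw [← locallyQuasiFinite_fiberToSpecResidueField_iff]
  constructor
  · intro h
    infer_instance
  · intro h
    exact IsFinite.of_locallyQuasiFinite _

/-- The locus of finite fibres is locally constructible. -/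
theorem isLocallyConstructible_setOf_isFinite_fiber {X S : Scheme.{u}} (f : X ⟶ S)
    [LocallyOfFinitePresentation f] [QuasiCompact f] [QuasiSeparated f] :
    IsLocallyConstructible {s : S | IsFinite (f.fiberToSpecResidueField s)} := by
  have hconstr : IsLocallyConstructible ((f '' {x : X | f.QuasiFiniteAt x}ᶜ)ᶜ) :=
    isLocallyConstructible_compl (f.isLocallyConstructible_image
      (isLocallyConstructible_compl (FibQF.isLocallyConstructible_setOf_quasiFiniteAt f)))
  convert hconstr using 1
  ext s
  rw [Set.mem_setOf_eq, isFinite_fiberToSpecResidueField_iff]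
  simp only [Set.mem_compl_iff, Set.mem_image, Set.mem_setOf_eq, not_exists, not_and]
  constructor
  · intro h x hx hs
    exact hx (h x hs)
  · intro h x hs
    by_contra hne
    exact h x hne hs

end Groth.Agent.Lib.Helper12.ConsPropFin
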