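import Mathlib
import Groth.Agent.S3443

/-! Radicial (universally injective) morphisms induced on fibres. -/

set_option autoImplicit false
universe u
open AlgebraicGeometry CategoryTheory TopologicalSpace Limits Topology

namespace Groth.Agent.Lib.Helper12.FibRad

/-- A field-valued point of `Z` whose image lies in the range of a split monomorphism `i`
factors through `i`. -/
theorem eq_comp_of_mem_range {X Z : Scheme.{u}} (i : X ⟶ Z) (r : Z ⟶ X) (hir : i ≫ r = 𝟙 X)
    {K : Type u} [Field K] (c : Spec (.of K) ⟶ Z)
    (hc : c.base (IsLocalRing.closedPoint K) ∈ Set.range i.base) : c = (c ≫ r) ≫ i := by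
  have key : ∀ (w : Z) (φ : Z.residueField w ⟶ .of K), w ∈ Set.range i.base →
      ∃ c' : Spec (.of K) ⟶ X, Spec.map φ ≫ Z.fromSpecResidueField w = c' ≫ i := by
    rintro _ φ ⟨x, rfl⟩
    haveI : IsIso (i ≫ r) := by rw [hir]; infer_instance
    have hcomp : (i ≫ r).residueFieldMap x =
        r.residueFieldMap (i x) ≫ i.residueFieldMap x := Scheme.residueFieldMap_comp i r x
    have hbij : Function.Bijective ((i ≫ r).residueFieldMap x).hom :=
      (ConcreteCategory.isIso_iff_bijective ((i ≫ r).residueFieldMap x)).mp inferInstance
    have hsurj : Function.Surjective (i.residueFieldMap x).hom := by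
      have h2 : Function.Surjective
          ((i.residueFieldMap x).hom ∘ (r.residueFieldMap (i x)).hom) := by
        have : ((i ≫ r).residueFieldMap x).hom =
            (i.residueFieldMap x).hom.comp (r.residueFieldMap (i x)).hom := by
          rw [hcomp]; rfl
        rw [← RingHom.coe_comp, ← this]
        exact hbij.2
      exact Function.Surjective.of_comp h2
    haveI : IsIso (i.residueFieldMap x) :=
      (ConcreteCategory.isIso_iff_bijective _).mpr ⟨(i.residueFieldMap x).hom.injective, hsurj⟩
    have e : Spec.map (inv (i.residueFieldMap x)) ≫ X.fromSpecResidueField x ≫ i =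
        Z.fromSpecResidueField (i x) := by
      rw [← i.SpecMap_residueFieldMap_fromSpecResidueField x, ← Category.assoc, ← Spec.map_comp,
        IsIso.hom_inv_id, Spec.map_id, Category.id_comp]
    refine ⟨Spec.map φ ≫ Spec.map (inv (i.residueFieldMap x)) ≫ X.fromSpecResidueField x, ?_⟩
    rw [Category.assoc, Category.assoc, e]
  obtain ⟨c', hc'⟩ := key _ (Z.descResidueField (Scheme.stalkClosedPointTo c)) hc
  rw [Scheme.descResidueField_stalkClosedPointTo_fromSpecResidueField K Z c] at hc'
  rw [hc', Category.assoc, Category.assoc, reassoc_of% hir]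

/-- A field-valued point with image `s` factors through the residue field of `s`. -/
theorem exists_factor_fromSpecResidueField {S : Scheme.{u}} {K : Type u} [Field K]
    (c : Spec (.of K) ⟶ S) (s : S) (h : c.base (IsLocalRing.closedPoint K) = s) :
    ∃ t : Spec (.of K) ⟶ Spec (S.residueField s), t ≫ S.fromSpecResidueField s = c := by
  subst h
  exact ⟨_, Scheme.descResidueField_stalkClosedPointTo_fromSpecResidueField K S c⟩

open Groth.Agent.S3443 in
/-- The morphism induced on the fibres over `s` is universally injective iff every point of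
`X ×_Y X` lying over `s` is on the diagonal. -/
theorem universallyInjective_fibMap_iff {X Y S : Scheme.{u}} (f : X ⟶ Y) (g : Y ⟶ S) (s : S) :
    UniversallyInjective (fibMap f g s) ↔
      ∀ w : ↥(pullback f f), (pullback.fst f f ≫ f ≫ g).base w = s →
        w ∈ Set.range (pullback.diagonal f).base := by
  have hfst : fibMap f g s ≫ pullback.fst g (S.fromSpecResidueField s) =
      pullback.fst (f ≫ g) (S.fromSpecResidueField s) ≫ f := pullback.lift_fst _ _ _
  have hsnd : fibMap f g s ≫ pullback.snd g (S.fromSpecResidueField s) =
      pullback.snd (f ≫ g) (S.fromSpecResidueField s) := pullback.lift_snd _ _ _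
  have h01 : UniversallyInjective (fibMap f g s) ↔ ∀ (K : Type u) [Field K],
      Function.Injective (fun a : Spec (.of K) ⟶ pullback (f ≫ g) (S.fromSpecResidueField s) ↦
        a ≫ fibMap f g s) := (tfae_universallyInjective (fibMap f g s)).out 0 1
  rw [h01]
  constructor
  · intro H w hw
    let K := (pullback f f).residueField w
    let c : Spec (.of K) ⟶ pullback f f := (pullback f f).fromSpecResidueField w
    have hcpt : c.base (IsLocalRing.closedPoint K) = w :=
      Scheme.fromSpecResidueField_apply w _
    obtain ⟨t, ht⟩ := exists_factor_fromSpecResidueField (c ≫ pullback.fst f f ≫ f ≫ g) s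
      (by rw [Scheme.Hom.comp_apply, hcpt]; exact hw)
    have ht2 : t ≫ S.fromSpecResidueField s = (c ≫ pullback.snd f f) ≫ f ≫ g := by
      rw [ht, Category.assoc, pullback.condition_assoc]
    let a₁ : Spec (.of K) ⟶ pullback (f ≫ g) (S.fromSpecResidueField s) :=
      pullback.lift (c ≫ pullback.fst f f) t (by rw [ht, Category.assoc])
    let a₂ : Spec (.of K) ⟶ pullback (f ≫ g) (S.fromSpecResidueField s) :=
      pullback.lift (c ≫ pullback.snd f f) t ht2.symm
    have ha : a₁ ≫ fibMap f g s = a₂ ≫ fibMap f g s := by
      apply pullback.hom_ext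
      · rw [Category.assoc, Category.assoc, hfst, pullback.lift_fst_assoc,
          pullback.lift_fst_assoc, Category.assoc, Category.assoc, pullback.condition]
      · rw [Category.assoc, Category.assoc, hsnd, pullback.lift_snd, pullback.lift_snd]
    have h12 : a₁ = a₂ := H K ha
    have hb : c ≫ pullback.fst f f = c ≫ pullback.snd f f := by
      have := congrArg (· ≫ pullback.fst (f ≫ g) (S.fromSpecResidueField s)) h12
      simpa only [a₁, a₂, pullback.lift_fst] using this
    have hc : c = (c ≫ pullback.fst f f) ≫ pullback.diagonal f := by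
      apply pullback.hom_ext
      · rw [Category.assoc, pullback.diagonal_fst, Category.comp_id]
      · rw [Category.assoc, pullback.diagonal_snd, Category.comp_id, hb]
    refine ⟨(c ≫ pullback.fst f f).base (IsLocalRing.closedPoint K), ?_⟩
    rw [← Scheme.Hom.comp_apply, ← hc, hcpt]
  · intro H K _ a₁ a₂ ha
    haveI : Mono (pullback.fst (f ≫ g) (S.fromSpecResidueField s)) := inferInstance
    rw [← cancel_mono (pullback.fst (f ≫ g) (S.fromSpecResidueField s))]
    set b₁ := a₁ ≫ pullback.fst (f ≫ g) (S.fromSpecResidueField s) with hb₁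
    set b₂ := a₂ ≫ pullback.fst (f ≫ g) (S.fromSpecResidueField s) with hb₂
    have hbf : b₁ ≫ f = b₂ ≫ f := by
      rw [hb₁, hb₂, Category.assoc, Category.assoc, ← hfst, reassoc_of% ha]
    let c : Spec (.of K) ⟶ pullback f f := pullback.lift b₁ b₂ hbf
    have hcs : (pullback.fst f f ≫ f ≫ g).base (c.base (IsLocalRing.closedPoint K)) = s := by
      rw [← Scheme.Hom.comp_apply, pullback.lift_fst_assoc, hb₁, Category.assoc,
        Scheme.Hom.comp_apply]
      have : ((f ≫ g).fiberι s).base (a₁.base (IsLocalRing.closedPoint K)) ∈
          Set.range ((f ≫ g).fiberι s).base := ⟨_, rfl⟩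
      rw [(f ≫ g).range_fiberι s] at this
      exact this
    have hmem := H _ hcs
    have := eq_comp_of_mem_range (pullback.diagonal f) (pullback.fst f f)
      (pullback.diagonal_fst f) c hmem
    have h1 : b₁ = c ≫ pullback.fst f f := (pullback.lift_fst _ _ _).symm
    have h2 : b₂ = c ≫ pullback.snd f f := (pullback.lift_snd _ _ _).symm
    rw [h2, this, Category.assoc, pullback.diagonal_snd, Category.comp_id, ← h1]

end Groth.Agent.Lib.Helper12.FibRad
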