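import Mathlib
import Groth.Agent.Lib.Helper12.FibRad

/-! Universal injectivity and base change, via the diagonal. -/

set_option autoImplicit false
universe u
open AlgebraicGeometry CategoryTheory TopologicalSpace Limits Topology

namespace Groth.Agent.Lib.Helper12.FibRad

/-- If a base change `fi` of `f₀` along `pY` is such that every point of `X₀ ×_{Y₀} X₀` lying over
the image of `pY` is on the diagonal, then `fi` is universally injective. -/
theorem universallyInjective_of_isPullback_of_forall_mem_range {X₀ Y₀ Xi Yi : Scheme.{u}}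
    (f₀ : X₀ ⟶ Y₀) (pY : Yi ⟶ Y₀) (pX : Xi ⟶ X₀) (fi : Xi ⟶ Yi) (h : IsPullback pX fi f₀ pY)
    (H : ∀ w₀ : ↥(pullback f₀ f₀), (pullback.fst f₀ f₀ ≫ f₀).base w₀ ∈ Set.range pY.base →
      w₀ ∈ Set.range (pullback.diagonal f₀).base) : UniversallyInjective fi := by
  have h01 : UniversallyInjective fi ↔ ∀ (K : Type u) [Field K],
      Function.Injective (fun a : Spec (.of K) ⟶ Xi ↦ a ≫ fi) :=
    (tfae_universallyInjective fi).out 0 1
  rw [h01]
  intro K _ a₁ a₂ ha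
  have ha' : a₁ ≫ fi = a₂ ≫ fi := ha
  have hbf : (a₁ ≫ pX) ≫ f₀ = (a₂ ≫ pX) ≫ f₀ := by
    rw [Category.assoc, Category.assoc, h.w, reassoc_of% ha']
  let c : Spec (.of K) ⟶ pullback f₀ f₀ := pullback.lift (a₁ ≫ pX) (a₂ ≫ pX) hbf
  have hcs : (pullback.fst f₀ f₀ ≫ f₀).base (c.base (IsLocalRing.closedPoint K)) ∈
      Set.range pY.base := by
    refine ⟨fi.base (a₁.base (IsLocalRing.closedPoint K)), ?_⟩
    have e : c ≫ pullback.fst f₀ f₀ ≫ f₀ = a₁ ≫ fi ≫ pY := by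
      rw [pullback.lift_fst_assoc, Category.assoc, h.w]
    have := congrArg (fun ψ : Spec (.of K) ⟶ Y₀ => ψ.base (IsLocalRing.closedPoint K)) e
    exact this.symm
  have hmem := H _ hcs
  have hc := eq_comp_of_mem_range (pullback.diagonal f₀) (pullback.fst f₀ f₀)
    (pullback.diagonal_fst f₀) c hmem
  have h1 : a₁ ≫ pX = c ≫ pullback.fst f₀ f₀ := (pullback.lift_fst _ _ _).symm
  have h2 : a₂ ≫ pX = c ≫ pullback.snd f₀ f₀ := (pullback.lift_snd _ _ _).symm
  apply h.hom_ext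
  · rw [h2, hc, Category.assoc, pullback.diagonal_snd, Category.comp_id, ← h1]
  · exact ha'

/-- If the base change `f` of `f₀` to `S` is universally injective, then every point of
`X₀ ×_{Y₀} X₀` lying over the image of `S` is on the diagonal. -/
theorem mem_range_diagonal_of_universallyInjective {X₀ Y₀ S₀ X Y S : Scheme.{u}}
    (f₀ : X₀ ⟶ Y₀) (g₀ : Y₀ ⟶ S₀) (f : X ⟶ Y) (g : Y ⟶ S) (qY : Y ⟶ Y₀) (qX : X ⟶ X₀)
    (π : S ⟶ S₀) (hY : IsPullback qY g g₀ π) (hX : IsPullback qX f f₀ qY)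
    [UniversallyInjective f] (w₀ : ↥(pullback f₀ f₀)) (s : S)
    (hws : (pullback.fst f₀ f₀ ≫ f₀ ≫ g₀).base w₀ = π.base s) :
    w₀ ∈ Set.range (pullback.diagonal f₀).base := by
  have hbig : IsPullback qX (f ≫ g) (f₀ ≫ g₀) π := hX.paste_vert hY
  obtain ⟨z, hz1, hz2⟩ := Scheme.Pullback.exists_preimage_pullback
    (f := pullback.fst f₀ f₀ ≫ f₀ ≫ g₀) (g := π) w₀ s hws
  let K := (pullback (pullback.fst f₀ f₀ ≫ f₀ ≫ g₀) π).residueField z
  let c₀ : Spec (.of K) ⟶ pullback f₀ f₀ :=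
    (pullback (pullback.fst f₀ f₀ ≫ f₀ ≫ g₀) π).fromSpecResidueField z ≫ pullback.fst _ _
  let t : Spec (.of K) ⟶ S :=
    (pullback (pullback.fst f₀ f₀ ≫ f₀ ≫ g₀) π).fromSpecResidueField z ≫ pullback.snd _ _
  have hcpt : c₀.base (IsLocalRing.closedPoint K) = w₀ := by
    show (pullback.fst (pullback.fst f₀ f₀ ≫ f₀ ≫ g₀) π).base
      (((pullback (pullback.fst f₀ f₀ ≫ f₀ ≫ g₀) π).fromSpecResidueField z).base _) = w₀
    rw [Scheme.fromSpecResidueField_apply]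
    exact hz1
  have hct : c₀ ≫ pullback.fst f₀ f₀ ≫ f₀ ≫ g₀ = t ≫ π := by
    simp only [c₀, t, Category.assoc]
    rw [pullback.condition]
  clear_value c₀ t
  have hct2 : (c₀ ≫ pullback.snd f₀ f₀) ≫ f₀ ≫ g₀ = t ≫ π := by
    rw [← hct, Category.assoc, pullback.condition_assoc]
  let a₁ : Spec (.of K) ⟶ X := hbig.lift (c₀ ≫ pullback.fst f₀ f₀) t (by rw [← hct, Category.assoc])
  let a₂ : Spec (.of K) ⟶ X := hbig.lift (c₀ ≫ pullback.snd f₀ f₀) t hct2
  have ha1X : a₁ ≫ qX = c₀ ≫ pullback.fst f₀ f₀ := hbig.lift_fst _ _ _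
  have ha2X : a₂ ≫ qX = c₀ ≫ pullback.snd f₀ f₀ := hbig.lift_fst _ _ _
  have ha1S : a₁ ≫ f ≫ g = t := hbig.lift_snd _ _ _
  have ha2S : a₂ ≫ f ≫ g = t := hbig.lift_snd _ _ _
  have ha : a₁ ≫ f = a₂ ≫ f := by
    apply hY.hom_ext
    · rw [Category.assoc, Category.assoc, ← hX.w, reassoc_of% ha1X, reassoc_of% ha2X,
        pullback.condition]
    · rw [Category.assoc, Category.assoc, ha1S, ha2S]
  have h01 : UniversallyInjective f ↔ ∀ (K : Type u) [Field K],
      Function.Injective (fun a : Spec (.of K) ⟶ X ↦ a ≫ f) :=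
    (tfae_universallyInjective f).out 0 1
  have h12 : a₁ = a₂ := (h01.mp inferInstance) K ha
  have hb : c₀ ≫ pullback.fst f₀ f₀ = c₀ ≫ pullback.snd f₀ f₀ := by
    rw [← ha1X, ← ha2X, h12]
  have hc : c₀ = (c₀ ≫ pullback.fst f₀ f₀) ≫ pullback.diagonal f₀ := by
    apply pullback.hom_ext
    · rw [Category.assoc, pullback.diagonal_fst, Category.comp_id]
    · rw [Category.assoc, pullback.diagonal_snd, Category.comp_id, hb]
  refine ⟨(c₀ ≫ pullback.fst f₀ f₀).base (IsLocalRing.closedPoint K), ?_⟩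
  rw [← Scheme.Hom.comp_apply, ← hc, hcpt]

end Groth.Agent.Lib.Helper12.FibRad
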