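import Mathlib
import Groth.Agent.Lib.Helper12.StratQBC
import Groth.Agent.S9192
import Groth.Agent.S2581
import Groth.Agent.S2590

/-!
# Helper library (helper12): descent lemmas for towers over a limit

* `DescendsLim.inf`: conjunctions of properties descending through limits descend;
* `descendsLim_etale`, `descendsLim_surjective`, `descendsLim_universallyInjective`,
  `descendsLim_top`;
* `HasQHom.exists_hom_pullback`: the canonical-pullback form of `HasQHom`.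
-/

universe u

open CategoryTheory CategoryTheory.Limits AlgebraicGeometry Topology

set_option backward.isDefEq.respectTransparency false
set_option linter.style.haveILetI false

namespace Groth.Agent.Lib.Helper12.StratTower

open Groth.Agent.Lib.Helper12.ConsMorGen Groth.Agent.Lib.Helper12.ConsPairGen

theorem descendsLim_etale : DescendsLim @Etale := by
  intro I _ _ D c hc _ i₀ _ _ X₀ Y₀ f₀ g₀ _ _ _ _ _ _ X Y f g qY qX hY hX hf
  haveI : Etale f := hf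
  haveI : CompactSpace Y₀ := QuasiCompact.compactSpace_of_compactSpace g₀
  haveI : QuasiSeparatedSpace Y₀ := quasiSeparatedSpace_of_quasiSeparated g₀
  haveI : CompactSpace X₀ := QuasiCompact.compactSpace_of_compactSpace (f₀ ≫ g₀)
  haveI : QuasiSeparatedSpace X₀ := quasiSeparatedSpace_of_quasiSeparated (f₀ ≫ g₀)
  haveI : LocallyOfFinitePresentation f₀ :=
    Groth.Agent.Lib.Helper12.FibreDominant.locallyOfFinitePresentation_of_comp f₀ g₀
  exact Groth.Agent.S9192.result D c hc i₀ f₀ g₀ f g qY qX hY hX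

theorem descendsLim_surjective : DescendsLim @Surjective := by
  intro I _ _ D c hc _ i₀ _ _ X₀ Y₀ f₀ g₀ _ _ _ _ _ _ X Y f g qY qX hY hX hf
  haveI : Surjective f := hf
  exact Groth.Agent.S2581.result D c hc i₀ f₀ g₀ f g qY qX hY hX

theorem descendsLim_universallyInjective : DescendsLim @UniversallyInjective := by
  intro I _ _ D c hc _ i₀ _ _ X₀ Y₀ f₀ g₀ _ _ _ _ _ _ X Y f g qY qX hY hX hf
  haveI : UniversallyInjective f := hf
  exact Groth.Agent.S2590.result D c hc i₀ f₀ g₀ f g qY qX hY hX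

theorem descendsLim_top : DescendsLim (⊤ : MorphismProperty Scheme.{u}) := by
  intro I _ _ D c hc _ i₀ _ _ X₀ Y₀ f₀ g₀ _ _ _ _ _ _ X Y f g qY qX hY hX hf
  refine ⟨i₀, 𝟙 i₀, X₀, Y₀, f₀, g₀, 𝟙 Y₀, 𝟙 X₀, ?_, ?_, trivial⟩
  · rw [D.map_id]
    exact IsPullback.of_horiz_isIso ⟨by simp⟩
  · exact IsPullback.of_horiz_isIso ⟨by simp⟩

/-- Conjunctions of properties which descend through limits descend through limits. -/
theorem DescendsLim.inf {Q₁ Q₂ : MorphismProperty Scheme.{u}} [Q₁.IsStableUnderBaseChange]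
    [Q₂.IsStableUnderBaseChange] (h₁ : DescendsLim Q₁) (h₂ : DescendsLim Q₂) :
    DescendsLim (Q₁ ⊓ Q₂) := by
  intro I _ _ D c hc _ i₀ _ _ X₀ Y₀ f₀ g₀ _ _ _ _ _ _ X Y f g qY qX hY hX hf
  obtain ⟨i₁, φ₁, X₁, Y₁, f₁, g₁, pY₁, pX₁, hpY₁, hpX₁, hQ₁⟩ :=
    h₁ D c hc i₀ f₀ g₀ f g qY qX hY hX hf.1
  obtain ⟨i₂, φ₂, X₂, Y₂, f₂, g₂, pY₂, pX₂, hpY₂, hpX₂, hQ₂⟩ :=
    h₂ D c hc i₀ f₀ g₀ f g qY qX hY hX hf.2
  have H₁ : HasQBC Q₁ f₀ g₀ (D.map φ₁) := ⟨X₁, Y₁, f₁, g₁, pX₁, pY₁, hpY₁, hpX₁, hQ₁⟩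
  have H₂ : HasQBC Q₂ f₀ g₀ (D.map φ₂) := ⟨X₂, Y₂, f₂, g₂, pX₂, pY₂, hpY₂, hpX₂, hQ₂⟩
  let i' := IsCofiltered.min i₁ i₂
  let b₁ : i' ⟶ i₁ := IsCofiltered.minToLeft i₁ i₂
  let b₂ : i' ⟶ i₂ := IsCofiltered.minToRight i₁ i₂
  let i := IsCofiltered.eq (b₁ ≫ φ₁) (b₂ ≫ φ₂)
  let e : i ⟶ i' := IsCofiltered.eqHom (b₁ ≫ φ₁) (b₂ ≫ φ₂)
  have he : e ≫ b₁ ≫ φ₁ = e ≫ b₂ ≫ φ₂ := IsCofiltered.eq_condition _ _
  let φ : i ⟶ i₀ := e ≫ b₁ ≫ φ₁
  have hφ₁ : D.map (e ≫ b₁) ≫ D.map φ₁ = D.map φ := by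
    rw [← D.map_comp, Category.assoc]
  have hφ₂ : D.map (e ≫ b₂) ≫ D.map φ₂ = D.map φ := by
    rw [← D.map_comp, Category.assoc, ← he]
  have hY' := IsPullback.of_hasPullback g₀ (D.map φ)
  have hX' := IsPullback.of_hasPullback f₀ (pullback.fst g₀ (D.map φ))
  refine ⟨i, φ, _, _, pullback.snd f₀ (pullback.fst g₀ (D.map φ)), pullback.snd g₀ (D.map φ),
    pullback.fst g₀ (D.map φ), pullback.fst f₀ (pullback.fst g₀ (D.map φ)), hY', hX', ?_, ?_⟩
  · exact (HasQBC.iff_of_isPullback hY' hX').mp ((H₁.comp (D.map (e ≫ b₁))).of_eq hφ₁)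
  · exact (HasQBC.iff_of_isPullback hY' hX').mp ((H₂.comp (D.map (e ≫ b₂))).of_eq hφ₂)

/-- The canonical-pullback form of `HasQHom`. -/
theorem HasQHom.exists_hom_pullback {Q : MorphismProperty Scheme.{u}} [Q.RespectsIso]
    {X Y T T' : Scheme.{u}} {gX : X ⟶ T} {gY : Y ⟶ T} {h : T' ⟶ T} (H : HasQHom Q gX gY h) :
    ∃ g : pullback gX h ⟶ pullback gY h, g ≫ pullback.snd gY h = pullback.snd gX h ∧ Q g := by
  obtain ⟨X', Y', gX', gY', eX, eY, hX, hY, g, hg, hQ⟩ := H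
  refine ⟨hX.isoPullback.inv ≫ g ≫ hY.isoPullback.hom, ?_, ?_⟩
  · rw [Category.assoc, Category.assoc, hY.isoPullback_hom_snd, hg, hX.isoPullback_inv_snd]
  · exact (Q.cancel_left_of_respectsIso _ _).mpr ((Q.cancel_right_of_respectsIso _ _).mpr hQ)

end Groth.Agent.Lib.Helper12.StratTower
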