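import Mathlib
import Groth.Agent.Lib.Helper12.StratTowerLoc
import Groth.Agent.Lib.Helper12.PbDiag
import Groth.Agent.S0591

/-!
# Helper library (helper12): finitely presented objects over the base change of a scheme to an
algebraic extension of the base field descend to a finite subextension
-/

universe u

open CategoryTheory CategoryTheory.Limits AlgebraicGeometry

set_option backward.isDefEq.respectTransparency false
set_option linter.style.haveILetI false

namespace Groth.Agent.Lib.Helper12.FieldStageObj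

open Groth.Agent.Lib.Helper12.StratTowerLoc Groth.Agent.Lib.Helper12.PbDiag

/-- A point of an affine scheme of finite type over `k` with values in an algebraic extension
`Ω` factors through a finite subextension. -/
theorem exists_intermediate_factor (k Ω : Type u) [Field k] [Field Ω] [Algebra k Ω]
    [Algebra.IsIntegral k Ω] {T : Scheme.{u}} [IsAffine T]
    (t : T ⟶ Spec (CommRingCat.of k)) [LocallyOfFiniteType t] (x : Spec (CommRingCat.of Ω) ⟶ T)
    (hx : x ≫ t = Spec.map (CommRingCat.ofHom (algebraMap k Ω))) :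
    ∃ (K' : IntermediateField k Ω), FiniteDimensional k K' ∧
      ∃ σ : Spec (CommRingCat.of K') ⟶ T,
        σ ≫ t = Spec.map (CommRingCat.ofHom (algebraMap k K')) ∧
        Spec.map (CommRingCat.ofHom (algebraMap K' Ω)) ≫ σ = x := by
  let R : CommRingCat.{u} := Γ(T, ⊤)
  let e : T ≅ Spec R := T.isoSpec
  let α₀ : CommRingCat.of k ⟶ R := Spec.preimage (e.inv ≫ t)
  have hα₀ : Spec.map α₀ = e.inv ≫ t := Spec.map_preimage _
  let ψ : R ⟶ CommRingCat.of Ω := Spec.preimage (x ≫ e.hom)
  have hψ : Spec.map ψ = x ≫ e.hom := Spec.map_preimage _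
  have hcompat : α₀ ≫ ψ = CommRingCat.ofHom (algebraMap k Ω) := by
    apply Spec.map_injective
    rw [Spec.map_comp, hψ, hα₀, Category.assoc, e.hom_inv_id_assoc]
    exact hx
  have hft : α₀.hom.FiniteType := by
    rw [← HasRingHomProperty.Spec_iff (P := @LocallyOfFiniteType), hα₀]
    infer_instance
  letI : Algebra k R := α₀.hom.toAlgebra
  haveI : Algebra.FiniteType k R := hft
  obtain ⟨s, hs⟩ := (Algebra.FiniteType.out : (⊤ : Subalgebra k R).FG)
  let ψ' : R →ₐ[k] Ω :=
    { ψ.hom with
      commutes' := fun x => by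
        have := congrArg (fun g : CommRingCat.of k ⟶ CommRingCat.of Ω => g.hom x) hcompat
        exact this }
  let K' : IntermediateField k Ω := IntermediateField.adjoin k (ψ' '' (s : Set R))
  have hrange : ∀ r : R, ψ' r ∈ K'.toSubalgebra := by
    intro r
    have hr : r ∈ Algebra.adjoin k (s : Set R) := by rw [hs]; trivial
    have h4 : ψ' r ∈ (Algebra.adjoin k (s : Set R)).map ψ' := ⟨r, hr, rfl⟩
    rw [AlgHom.map_adjoin] at h4
    exact IntermediateField.algebra_adjoin_le_adjoin k _ h4
  let χ : R →ₐ[k] K' := ψ'.codRestrict K'.toSubalgebra hrange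
  haveI hfin : FiniteDimensional k K' :=
    IntermediateField.finiteDimensional_adjoin (fun x _ => Algebra.IsIntegral.isIntegral x)
  have hχ : α₀ ≫ CommRingCat.ofHom χ.toRingHom = CommRingCat.ofHom (algebraMap k K') := by
    apply CommRingCat.hom_ext
    apply RingHom.ext
    intro x
    exact χ.commutes x
  have hχ' : CommRingCat.ofHom χ.toRingHom ≫ CommRingCat.ofHom (algebraMap K' Ω) = ψ := by
    apply CommRingCat.hom_ext
    apply RingHom.ext
    intro r
    rfl
  refine ⟨K', hfin, Spec.map (CommRingCat.ofHom χ.toRingHom) ≫ e.inv, ?_, ?_⟩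
  · rw [Category.assoc, ← hα₀, ← Spec.map_comp, hχ]
  · rw [← Category.assoc, ← Spec.map_comp, hχ', hψ, Category.assoc, e.hom_inv_id,
      Category.comp_id]

/-- A finitely presented scheme over the base change of a quasi-compact quasi-separated
`k`-scheme to an algebraic extension `Ω` of `k` is defined over a finite subextension. -/
theorem exists_finite_stage_obj (k Ω : Type u) [Field k] [Field Ω] [Algebra k Ω]
    [Algebra.IsIntegral k Ω] {X : Scheme.{u}} (f : X ⟶ Spec (CommRingCat.of k))
    [QuasiCompact f] [QuasiSeparated f]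
    {W : Scheme.{u}} (n : W ⟶ pullback f (Spec.map (CommRingCat.ofHom (algebraMap k Ω))))
    [LocallyOfFinitePresentation n] [QuasiCompact n] [QuasiSeparated n] :
    ∃ (K' : IntermediateField k Ω), FiniteDimensional k K' ∧
      ∃ (W' : Scheme.{u})
        (n' : W' ⟶ pullback f (Spec.map (CommRingCat.ofHom (algebraMap k K'))))
        (q : W ⟶ W')
        (r : pullback f (Spec.map (CommRingCat.ofHom (algebraMap k Ω))) ⟶
          pullback f (Spec.map (CommRingCat.ofHom (algebraMap k K')))),
        LocallyOfFinitePresentation n' ∧ QuasiCompact n' ∧ QuasiSeparated n' ∧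
        r ≫ pullback.fst _ _ = pullback.fst _ _ ∧
        r ≫ pullback.snd _ _ =
          pullback.snd _ _ ≫ Spec.map (CommRingCat.ofHom (algebraMap K' Ω)) ∧
        IsPullback q n n' r := by
  let p : Spec (CommRingCat.of Ω) ⟶ Spec (CommRingCat.of k) :=
    Spec.map (CommRingCat.ofHom (algebraMap k Ω))
  have hp : p = Spec.map (CommRingCat.ofHom (algebraMap k Ω)) := rfl
  obtain ⟨J, _, _, 𝔇, τ, π, hπ, h1, h2, h3⟩ := exists_system_of_affine p
  haveI := h1
  haveI : ∀ {i j : J} (a : i ⟶ j), IsAffineHom (𝔇.map a) := fun a => inferInstance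
  obtain ⟨j₀⟩ := IsCofiltered.nonempty (C := J)
  let c : Cone 𝔇 := Cone.mk _ π
  have hτ : ∀ {i j : J} (a : i ⟶ j), 𝔇.map a ≫ τ.app j = τ.app i := by
    intro i j a
    have := τ.naturality a
    simpa using this
  let h₀ : pullback f (τ.app j₀) ⟶ 𝔇.obj j₀ := pullback.snd f (τ.app j₀)
  let qX : pullback f p ⟶ pullback f (τ.app j₀) :=
    pullback.lift (pullback.fst f p) (pullback.snd f p ≫ π.app j₀)
      (by rw [Category.assoc, h3 j₀]; exact pullback.condition)
  have hX : IsPullback qX (pullback.snd f p) h₀ (c.π.app j₀) := by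
    refine IsPullback.of_right ?_ (pullback.lift_snd _ _ _)
      (IsPullback.of_hasPullback f (τ.app j₀))
    rw [pullback.lift_fst]
    have : c.π.app j₀ ≫ τ.app j₀ = p := h3 j₀
    rw [this]
    exact IsPullback.of_hasPullback f p
  haveI : ∀ (i j : Over j₀) (m : i ⟶ j), IsAffineHom ((pbDiagram 𝔇 j₀ h₀).map m) :=
    fun i j m => inferInstance
  haveI : ∀ j : Over j₀, CompactSpace ((pbDiagram 𝔇 j₀ h₀).obj j) :=
    fun j => compactSpace_pbDiagram_obj 𝔇 j₀ h₀ j
  haveI : ∀ j : Over j₀, QuasiSeparatedSpace ((pbDiagram 𝔇 j₀ h₀).obj j) :=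
    fun j => quasiSeparatedSpace_pbDiagram_obj 𝔇 j₀ h₀ j
  obtain ⟨k₁, W₁, n₁, gW, _, _, _, sq⟩ := Groth.Agent.S0591.result (pbDiagram 𝔇 j₀ h₀)
    (pbCone c qX (pullback.snd f p) hX) (isLimitPbCone c hπ qX (pullback.snd f p) hX) W n
  haveI : LocallyOfFiniteType (τ.app k₁.left) := by
    haveI := h2 k₁.left
    infer_instance
  have hx : π.app k₁.left ≫ τ.app k₁.left = Spec.map (CommRingCat.ofHom (algebraMap k Ω)) := by
    rw [h3, hp]
  obtain ⟨K', hfin, σ, hσ1, hσ2⟩ :=
    exists_intermediate_factor k Ω (τ.app k₁.left) (π.app k₁.left) hx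
  refine ⟨K', hfin, ?_⟩
  let p' : Spec (CommRingCat.of K') ⟶ Spec (CommRingCat.of k) :=
    Spec.map (CommRingCat.ofHom (algebraMap k K'))
  let ρ : Spec (CommRingCat.of Ω) ⟶ Spec (CommRingCat.of K') :=
    Spec.map (CommRingCat.ofHom (algebraMap K' Ω))
  replace hσ1 : σ ≫ τ.app k₁.left = p' := hσ1
  replace hσ2 : ρ ≫ σ = π.app k₁.left := hσ2
  have hρp : ρ ≫ p' = p := by rw [← hσ1, ← Category.assoc, hσ2, h3]
  let h₁ := pullback.snd h₀ (𝔇.map k₁.hom)
  have hX₁ : IsPullback (pullback.fst h₀ (𝔇.map k₁.hom) ≫ pullback.fst f (τ.app j₀)) h₁ f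
      (τ.app k₁.left) := by
    have := (IsPullback.of_hasPullback h₀ (𝔇.map k₁.hom)).paste_horiz
      (IsPullback.of_hasPullback f (τ.app j₀))
    rwa [hτ] at this
  have ws : pullback.fst f p' ≫ f = (pullback.snd f p' ≫ σ) ≫ τ.app k₁.left := by
    rw [Category.assoc, hσ1]; exact pullback.condition
  let s : pullback f p' ⟶ pullback h₀ (𝔇.map k₁.hom) :=
    hX₁.lift (pullback.fst f p') (pullback.snd f p' ≫ σ) ws
  have hs1 : s ≫ pullback.fst h₀ (𝔇.map k₁.hom) ≫ pullback.fst f (τ.app j₀) =
      pullback.fst f p' := hX₁.lift_fst _ _ _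
  have hs2 : s ≫ h₁ = pullback.snd f p' ≫ σ := hX₁.lift_snd _ _ _
  let r : pullback f p ⟶ pullback f p' :=
    pullback.lift (pullback.fst f p) (pullback.snd f p ≫ ρ)
      (by rw [Category.assoc, hρp]; exact pullback.condition)
  have hr1 : r ≫ pullback.fst f p' = pullback.fst f p := pullback.lift_fst _ _ _
  have hr2 : r ≫ pullback.snd f p' = pullback.snd f p ≫ ρ := pullback.lift_snd _ _ _
  have hrs : r ≫ s = (pbCone c qX (pullback.snd f p) hX).π.app k₁ := by
    apply hX₁.hom_ext
    · rw [Category.assoc, hs1, hr1, ← Category.assoc, pbCone_π_fst]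
      exact (pullback.lift_fst _ _ _).symm
    · rw [Category.assoc, hs2, ← Category.assoc, hr2, Category.assoc, hσ2]
      exact (pbCone_π_snd c qX (pullback.snd f p) hX k₁).symm
  have wq : gW ≫ n₁ = (n ≫ r) ≫ s := by
    rw [Category.assoc, hrs]; exact sq.w
  refine ⟨pullback n₁ s, pullback.snd n₁ s, pullback.lift gW (n ≫ r) wq, r, inferInstance,
    inferInstance, inferInstance, hr1, hr2, ?_⟩
  refine IsPullback.of_right ?_ (pullback.lift_snd _ _ _) (IsPullback.of_hasPullback n₁ s)
  rw [pullback.lift_fst, hrs]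
  exact sq

end Groth.Agent.Lib.Helper12.FieldStageObj
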