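import Mathlib
import Groth.Agent.Lib.Helper12.NormGen

/-! Characterization of the normalization of an integral scheme: an integral birational morphism
from a normal scheme. -/

set_option autoImplicit false

namespace Groth.Agent.Lib.Helper12.NormChar

open AlgebraicGeometry CategoryTheory TopologicalSpace Opposite Function
open Groth.Agent.Lib.Helper12.KAExt Groth.Agent.Lib.Helper12.NormGen

universe u

section Alg

theorem bijective_of_integral_of_isIntegrallyClosed {A B C : Type*} [CommRing A] [IsDomain A]
    [CommRing B] [IsDomain B] [CommRing C] [IsDomain C] [Algebra A B] [Algebra A C]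
    (hinj : Injective (algebraMap A B)) (hbir : Bir A B)
    [Algebra.IsIntegral A B] [Algebra.IsIntegral A C] [IsIntegrallyClosed C]
    (δ : C →+* B) (hδ : ∀ a, δ (algebraMap A C a) = algebraMap A B a) : Bijective δ := by
  have hδinj : Injective δ := by
    rw [RingHom.injective_iff_ker_eq_bot]
    apply Ideal.eq_bot_of_comap_eq_bot (R := A)
    ext a
    simp only [Ideal.mem_comap, RingHom.mem_ker, hδ, Ideal.mem_bot]
    exact map_eq_zero_iff _ hinj
  letI := δ.toAlgebra
  haveI : IsScalarTower A C B := IsScalarTower.of_algebraMap_eq (fun a => (hδ a).symm)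
  haveI : Algebra.IsIntegral C B := Algebra.IsIntegral.tower_top (R := A)
  have hbirC : Bir C B := by
    intro b
    obtain ⟨a, a', ha, h⟩ := hbir b
    refine ⟨algebraMap A C a, algebraMap A C a', ?_, ?_⟩
    · intro h0
      apply ha
      apply hinj
      rw [← hδ, h0, map_zero, map_zero]
    · show δ _ * b = δ _
      rw [hδ, hδ, h]
  exact ⟨hδinj, surjective_of_isIntegrallyClosed hδinj hbirC⟩

theorem residue_bijective_of_isField {R : Type*} [CommRing R] [IsLocalRing R] (h : IsField R) :
    Bijective (IsLocalRing.residue R) := by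
  refine ⟨?_, IsLocalRing.residue_surjective⟩
  rw [RingHom.injective_iff_ker_eq_bot, IsLocalRing.ker_residue]
  exact IsLocalRing.isField_iff_maximalIdeal_eq.1 h

end Alg

section Geom

theorem subsingleton_sections {Y : Scheme.{u}} (V : Y.Opens) (h : ¬ (V : Set Y).Nonempty) :
    Subsingleton Γ(Y, V) := by
  obtain rfl : V = ⊥ := by
    ext x
    simp only [Opens.coe_bot, Set.mem_empty_iff_false, iff_false]
    exact fun hx => h ⟨x, hx⟩
  infer_instance

/-- Sections over an affine open of an integral scheme with normal stalks are integrally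
closed. -/
theorem isIntegrallyClosed_sections {Y : Scheme.{u}} [IsIntegral Y]
    {V : Y.Opens} (hY : ∀ y ∈ V, IsIntegrallyClosed (Y.presheaf.stalk y)) (hV : IsAffineOpen V)
    [Nonempty V] : IsIntegrallyClosed Γ(Y, V) := by
  refine IsIntegrallyClosed.of_localization_maximal fun p _ hp => ?_
  let y : PrimeSpectrum Γ(Y, V) := ⟨p, hp.isPrime⟩
  have hyV : hV.fromSpec y ∈ V := by
    have := Set.mem_range_self (f := hV.fromSpec) y
    rw [hV.range_fromSpec] at this
    exact this
  letI := TopCat.Presheaf.algebra_section_stalk Y.presheaf ⟨hV.fromSpec y, hyV⟩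
  haveI : IsLocalization.AtPrime (Y.presheaf.stalk (hV.fromSpec y)) p :=
    hV.isLocalization_stalk' y hyV
  haveI := hY (hV.fromSpec y) hyV
  exact IsIntegrallyClosed.of_equiv
    (IsLocalization.algEquiv p.primeCompl (Y.presheaf.stalk (hV.fromSpec y))
      (Localization.AtPrime p)).toRingEquiv

/-- Global sections of an integral scheme with integrally closed local rings are integrally
closed. -/
theorem isIntegrallyClosed_globalSections (X : Scheme.{u}) [IsIntegral X]
    (hX : ∀ x : X, IsIntegrallyClosed (X.presheaf.stalk x)) : IsIntegrallyClosed Γ(X, ⊤) := by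
  classical
  have hη : ∀ U : X.Opens, (U : Set X).Nonempty → genericPoint X ∈ U :=
    fun U h => NormAff.genericPoint_mem X h
  let γ : Γ(X, ⊤) →+* X.functionField := (X.presheaf.germ ⊤ (genericPoint X) trivial).hom
  have hγ : Injective γ :=
    germ_injective_of_isIntegral X (U := ⊤) (genericPoint X) (Set.mem_univ _)
  refine (isIntegrallyClosed_iff (FractionRing Γ(X, ⊤))).2 fun {t} ht => ?_
  let ι : FractionRing Γ(X, ⊤) →+* X.functionField := IsFractionRing.lift hγ
  have hι : ∀ r, ι (algebraMap _ _ r) = γ r := IsFractionRing.lift_algebraMap hγ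
  obtain ⟨p, hp, hpt⟩ := ht
  have ht' : p.eval₂ γ (ι t) = 0 := by
    have := congrArg ι hpt
    rw [Polynomial.hom_eval₂, map_zero] at this
    have hc : ι.comp (algebraMap Γ(X, ⊤) (FractionRing Γ(X, ⊤))) = γ := RingHom.ext hι
    rwa [hc] at this
  have hloc : ∀ i : X.affineOpens, (i.1 : Set X).Nonempty → ∃ s : Γ(X, i.1),
      ∀ (hx : genericPoint X ∈ i.1),
        (X.presheaf.germ i.1 (genericPoint X) hx).hom s = ι t := by
    intro i hne
    haveI : Nonempty i.1 := ⟨⟨_, hne.some_mem⟩⟩
    haveI := functionField_isFractionRing_of_isAffineOpen X i.1 i.2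
    haveI : IsIntegrallyClosed Γ(X, i.1) := isIntegrallyClosed_sections (fun y _ => hX y) i.2
    have hint : IsIntegral Γ(X, i.1) (ι t) := by
      refine ⟨p.map (X.presheaf.map (homOfLE (le_top : i.1 ≤ ⊤)).op).hom, hp.map _, ?_⟩
      rw [Polynomial.eval₂_map]
      have hcomp : (algebraMap Γ(X, i.1) X.functionField).comp
          (X.presheaf.map (homOfLE (le_top : i.1 ≤ ⊤)).op).hom = γ := by
        ext r
        exact congr($(X.presheaf.germ_res (homOfLE (le_top : i.1 ≤ ⊤)) (genericPoint X)
          (hη _ hne)).hom r)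
      rw [hcomp]; exact ht'
    obtain ⟨y, hy⟩ := IsIntegrallyClosed.algebraMap_eq_of_integral hint
    exact ⟨y, fun hx => hy⟩
  let sf : ∀ i : X.affineOpens, Γ(X, i.1) := fun i =>
    if h : (i.1 : Set X).Nonempty then (hloc i h).choose else 0
  have hsf : ∀ (i : X.affineOpens) (hx : genericPoint X ∈ i.1),
      (X.presheaf.germ i.1 (genericPoint X) hx).hom (sf i) = ι t := by
    intro i hx
    have h : (i.1 : Set X).Nonempty := ⟨_, hx⟩
    simp only [sf, dif_pos h]
    exact (hloc i h).choose_spec hx
  have hcompat : TopCat.Presheaf.IsCompatible X.presheaf (fun i : X.affineOpens => i.1) sf := by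
    intro i j
    by_cases hW : ((i.1 ⊓ j.1 : X.Opens) : Set X).Nonempty
    · have hxW := hη _ hW
      apply germ_injective_of_isIntegral X (genericPoint X) hxW
      have e1 := congr($(X.presheaf.germ_res (TopologicalSpace.Opens.infLELeft i.1 j.1)
        (genericPoint X) hxW).hom (sf i))
      have e2 := congr($(X.presheaf.germ_res (TopologicalSpace.Opens.infLERight i.1 j.1)
        (genericPoint X) hxW).hom (sf j))
      exact e1.trans ((hsf i _).trans ((hsf j _).symm.trans e2.symm))
    · haveI := subsingleton_sections _ hW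
      exact Subsingleton.elim _ _
  obtain ⟨s, hs, -⟩ := X.sheaf.existsUnique_gluing' (U := fun i : X.affineOpens => i.1) ⊤
    (fun i => homOfLE le_top) (by rw [iSup_affineOpens_eq_top]) sf hcompat
  refine ⟨s, ι.injective ?_⟩
  rw [hι]
  obtain ⟨U, hU, hxU⟩ := NormAff.exists_affine_mem X (genericPoint X)
  have e1 := congr($(X.presheaf.germ_res (homOfLE (le_top : U ≤ ⊤)) (genericPoint X) hxU).hom s)
  have e2 := hs ⟨U, hU⟩
  have e3 := hsf ⟨U, hU⟩ hxU
  rw [← e3, ← e2]
  exact e1.symm

variable (X : Scheme.{u}) [IsIntegral X] [QuasiCompact (X.fromSpecStalk (genericPoint X))]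
  [QuasiSeparated (X.fromSpecStalk (genericPoint X))]

/-- The generic point of the normalization is the only point over the generic point. -/
theorem preimage_genericPoint :
    (X.fromSpecStalk (genericPoint X)).fromNormalization ⁻¹' {genericPoint X} =
      {genericPoint (X.fromSpecStalk (genericPoint X)).normalization} := by
  ext x'
  simp only [Set.mem_preimage, Set.mem_singleton_iff]
  constructor
  · intro hx
    obtain ⟨U, hU, hxU⟩ := NormAff.exists_affine_mem X
      ((X.fromSpecStalk (genericPoint X)).fromNormalization x')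
    have hne : (U : Set X).Nonempty := ⟨_, hxU⟩
    have hV : IsAffineOpen ((X.fromSpecStalk (genericPoint X)).fromNormalization ⁻¹ᵁ U) :=
      hU.preimage _
    letI := ((X.fromSpecStalk (genericPoint X)).fromNormalization.app U).hom.toAlgebra
    obtain ⟨hdom, hinj, hbir, hic⟩ := NormAff.sections_props X hU hne
    haveI : Nonempty U := ⟨⟨_, hxU⟩⟩
    haveI : Nonempty ((X.fromSpecStalk (genericPoint X)).fromNormalization ⁻¹ᵁ U : Opens _) :=
      ⟨⟨x', hxU⟩⟩
    haveI : Algebra.IsIntegral Γ(X, U) Γ((X.fromSpecStalk (genericPoint X)).normalization,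
        (X.fromSpecStalk (genericPoint X)).fromNormalization ⁻¹ᵁ U) :=
      ⟨IsIntegralHom.isIntegral_app (X.fromSpecStalk (genericPoint X)).fromNormalization _ hU⟩
    have hpq := IsAffineOpen.comap_primeIdealOf_appLE
      (f := (X.fromSpecStalk (genericPoint X)).fromNormalization) (x := x')
      U hU ((X.fromSpecStalk (genericPoint X)).fromNormalization ⁻¹ᵁ U) hV le_rfl hxU
    rw [Scheme.Hom.appLE_eq_app] at hpq
    have hgenU : genericPoint X ∈ U := hx ▸ hxU
    have hsub : (⟨(X.fromSpecStalk (genericPoint X)).fromNormalization x', hxU⟩ : U) =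
        ⟨genericPoint X, hgenU⟩ := Subtype.ext hx
    rw [hsub, hU.primeIdealOf_genericPoint, genericPoint_eq_bot_of_affine] at hpq
    have hq : (hV.primeIdealOf ⟨x', hxU⟩).asIdeal = ⊥ := by
      apply Ideal.eq_bot_of_comap_eq_bot (R := Γ(X, U))
      exact congrArg PrimeSpectrum.asIdeal hpq
    have hq' : hV.primeIdealOf ⟨x', hxU⟩ = hV.primeIdealOf
        ⟨genericPoint (X.fromSpecStalk (genericPoint X)).normalization,
          ((genericPoint_spec _).mem_open_set_iff
            ((X.fromSpecStalk (genericPoint X)).fromNormalization ⁻¹ᵁ U).isOpen).mpr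
            (by simpa using ‹Nonempty ((X.fromSpecStalk (genericPoint X)).fromNormalization ⁻¹ᵁ U :
              Opens _)›)⟩ := by
      rw [hV.primeIdealOf_genericPoint, genericPoint_eq_bot_of_affine]
      exact PrimeSpectrum.ext hq
    have := congrArg hV.fromSpec hq'
    rw [hV.fromSpec_primeIdealOf, hV.fromSpec_primeIdealOf] at this
    exact this
  · rintro rfl
    exact NormAff.map_genericPoint X

theorem isIso_stalkMap_genericPoint
    (x' : (X.fromSpecStalk (genericPoint X)).normalization)
    (hx' : x' = genericPoint (X.fromSpecStalk (genericPoint X)).normalization) :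
    IsIso ((X.fromSpecStalk (genericPoint X)).fromNormalization.stalkMap x') := by
  subst hx'
  have hρ := NormAff.residueFieldMap_genericPoint_bijective X
  have hF' : IsField ((X.fromSpecStalk (genericPoint X)).normalization.presheaf.stalk
      (genericPoint (X.fromSpecStalk (genericPoint X)).normalization)) :=
    Field.toIsField (X.fromSpecStalk (genericPoint X)).normalization.functionField
  have hF : IsField (X.presheaf.stalk ((X.fromSpecStalk (genericPoint X)).fromNormalization
      (genericPoint (X.fromSpecStalk (genericPoint X)).normalization))) := by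
    rw [NormAff.map_genericPoint X]
    exact Field.toIsField X.functionField
  have hr' := residue_bijective_of_isField hF'
  have hr := residue_bijective_of_isField hF
  have hcomm := Scheme.residue_residueFieldMap
    (X.fromSpecStalk (genericPoint X)).fromNormalization
    (genericPoint (X.fromSpecStalk (genericPoint X)).normalization)
  have hcomm' : ∀ a, ((X.fromSpecStalk (genericPoint X)).fromNormalization.residueFieldMap
      (genericPoint (X.fromSpecStalk (genericPoint X)).normalization)).hom
      (IsLocalRing.residue _ a) = IsLocalRing.residue _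
      (((X.fromSpecStalk (genericPoint X)).fromNormalization.stalkMap
        (genericPoint (X.fromSpecStalk (genericPoint X)).normalization)).hom a) :=
    fun a => congr($(hcomm).hom a)
  rw [ConcreteCategory.isIso_iff_bijective]
  constructor
  · intro a b hab
    apply hr.1
    apply hρ.1
    rw [hcomm', hcomm']
    exact congrArg _ hab
  · intro z
    obtain ⟨w, hw⟩ := hρ.2 (IsLocalRing.residue _ z)
    obtain ⟨a, rfl⟩ := hr.2 w
    refine ⟨a, hr'.1 ?_⟩
    rw [← hw, hcomm']

theorem isIso_presheaf_map_eqToHom {Z : Scheme.{u}} {W W' : Z.Opens} (h : W = W') :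
    IsIso (Z.presheaf.map (eqToHom h).op) := by
  subst h
  simp only [eqToHom_refl, op_id, CategoryTheory.Functor.map_id]
  infer_instance

theorem isIso_app_of_comp {Y : Scheme.{u}} [IsIntegral Y]
    (hYic : ∀ y : Y, IsIntegrallyClosed (Y.presheaf.stalk y)) (f : Y ⟶ X) [IsIntegralHom f]
    (d : (X.fromSpecStalk (genericPoint X)).normalization ⟶ Y)
    (hd : d ≫ f = (X.fromSpecStalk (genericPoint X)).fromNormalization)
    (hgen : f (genericPoint Y) = genericPoint X) {U : X.Opens} (hU : IsAffineOpen U) :
    IsIso (d.app (f ⁻¹ᵁ U)) := by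
  by_cases hne : (U : Set X).Nonempty
  · letI algB := ((X.fromSpecStalk (genericPoint X)).fromNormalization.app U).hom.toAlgebra
    letI algC := (f.app U).hom.toAlgebra
    obtain ⟨hdom, hinj, hbir, hic⟩ := NormAff.sections_props X hU hne
    haveI : Nonempty U := ⟨⟨_, hne.some_mem⟩⟩
    have hηV : genericPoint Y ∈ f ⁻¹ᵁ U := by
      show f (genericPoint Y) ∈ U
      rw [hgen]; exact NormAff.genericPoint_mem X hne
    haveI : Nonempty (f ⁻¹ᵁ U : Y.Opens) := ⟨⟨_, hηV⟩⟩
    haveI := hdom
    haveI : Algebra.IsIntegral Γ(X, U) Γ((X.fromSpecStalk (genericPoint X)).normalization,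
        (X.fromSpecStalk (genericPoint X)).fromNormalization ⁻¹ᵁ U) :=
      ⟨IsIntegralHom.isIntegral_app (X.fromSpecStalk (genericPoint X)).fromNormalization _ hU⟩
    haveI : Algebra.IsIntegral Γ(X, U) Γ(Y, f ⁻¹ᵁ U) :=
      ⟨IsIntegralHom.isIntegral_app f _ hU⟩
    haveI : IsIntegrallyClosed Γ(Y, f ⁻¹ᵁ U) := isIntegrallyClosed_sections (fun y _ => hYic y) (hU.preimage f)
    have hopen : (X.fromSpecStalk (genericPoint X)).fromNormalization ⁻¹ᵁ U =
        d ⁻¹ᵁ (f ⁻¹ᵁ U) := by rw [← hd]; rfl
    haveI := isIso_presheaf_map_eqToHom hopen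
    let δc : Γ(Y, f ⁻¹ᵁ U) ⟶ Γ((X.fromSpecStalk (genericPoint X)).normalization,
        (X.fromSpecStalk (genericPoint X)).fromNormalization ⁻¹ᵁ U) :=
      d.app (f ⁻¹ᵁ U) ≫
        (X.fromSpecStalk (genericPoint X)).normalization.presheaf.map (eqToHom hopen).op
    have hδ : f.app U ≫ δc = (X.fromSpecStalk (genericPoint X)).fromNormalization.app U := by
      have := Scheme.Hom.congr_app hd.symm U
      rw [this]
      rfl
    have hbij := bijective_of_integral_of_isIntegrallyClosed hinj hbir δc.hom
      (fun a => congr($(hδ).hom a))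
    haveI : IsIso δc := (ConcreteCategory.isIso_iff_bijective _).2 hbij
    exact IsIso.of_isIso_comp_right (d.app (f ⁻¹ᵁ U))
      ((X.fromSpecStalk (genericPoint X)).normalization.presheaf.map (eqToHom hopen).op)
  · have h1 : ¬ ((f ⁻¹ᵁ U : Y.Opens) : Set Y).Nonempty := by
      rintro ⟨y, hy⟩
      exact hne ⟨f y, hy⟩
    have h2 : ¬ (SetLike.coe (d ⁻¹ᵁ (f ⁻¹ᵁ U))).Nonempty := by
      rintro ⟨y, hy⟩
      exact h1 ⟨d y, hy⟩
    haveI := subsingleton_sections _ h1
    haveI := subsingleton_sections _ h2
    rw [ConcreteCategory.isIso_iff_bijective]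
    exact ⟨Function.injective_of_subsingleton _,
      fun b => ⟨0, Subsingleton.elim _ _⟩⟩

theorem exists_iso_of_normal_integral_birational {Y : Scheme.{u}} (f : Y ⟶ X)
    (hY : ∀ y : Y, IsDomain (Y.presheaf.stalk y) ∧ IsIntegrallyClosed (Y.presheaf.stalk y))
    [IsIntegralHom f] [IrreducibleSpace Y]
    (hfib : f.base ⁻¹' {genericPoint X} = {genericPoint Y})
    (hiso : IsIso (f.stalkMap (genericPoint Y))) :
    ∃ e : Y ≅ (X.fromSpecStalk (genericPoint X)).normalization,
      e.hom ≫ (X.fromSpecStalk (genericPoint X)).fromNormalization = f := by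
  haveI : ∀ y, _root_.IsReduced (Y.presheaf.stalk y) := fun y => by
    haveI := (hY y).1; infer_instance
  haveI : IsReduced Y := isReduced_of_isReduced_stalk Y
  haveI : IsIntegral Y := isIntegral_of_irreducibleSpace_of_isReduced Y
  have hy : f (genericPoint Y) = genericPoint X := by
    have : genericPoint Y ∈ f.base ⁻¹' {genericPoint X} := by rw [hfib]; rfl
    exact this
  have hsp : genericPoint X ⤳ f (genericPoint Y) := by rw [hy]
  haveI := hiso
  let j : Spec (X.presheaf.stalk (genericPoint X)) ⟶ Y :=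
    Spec.map (X.presheaf.stalkSpecializes hsp) ≫
      inv (Spec.map (f.stalkMap (genericPoint Y))) ≫ Y.fromSpecStalk (genericPoint Y)
  have H : X.fromSpecStalk (genericPoint X) = j ≫ f := by
    simp only [j, Category.assoc]
    rw [← Scheme.SpecMap_stalkMap_fromSpecStalk, IsIso.inv_hom_id_assoc,
      Scheme.SpecMap_stalkSpecializes_fromSpecStalk]
  let d := (X.fromSpecStalk (genericPoint X)).normalizationDesc j f H
  have hd : d ≫ f = (X.fromSpecStalk (genericPoint X)).fromNormalization :=
    Scheme.Hom.normalizationDesc_comp _ j f H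
  have hdiso : IsIso d := by
    have hsup : ⨆ U : X.affineOpens,
        ((⟨f ⁻¹ᵁ U.1, U.2.preimage f⟩ : Y.affineOpens) : Y.Opens) = ⊤ :=
      f.iSup_preimage_eq_top (iSup_affineOpens_eq_top X)
    rw [← MorphismProperty.isomorphisms.iff,
      HasAffineProperty.iff_of_iSup_eq_top (P := MorphismProperty.isomorphisms Scheme)
        (fun U : X.affineOpens => (⟨f ⁻¹ᵁ U.1, U.2.preimage f⟩ : Y.affineOpens)) hsup]
    intro U
    refine ⟨(U.2.preimage f).preimage d, ?_⟩
    rw [morphismRestrict_appTop]
    have key : ∀ W : Y.Opens, W = f ⁻¹ᵁ U.1 → IsIso (d.app W) := by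
      rintro W rfl
      exact isIso_app_of_comp X (fun y => (hY y).2) f d hd hy U.2
    have h1 := key _ (f ⁻¹ᵁ U.1).ι_image_top
    exact @IsIso.comp_isIso _ _ _ _ _ _ _ h1 (isIso_presheaf_map_eqToHom _)
  refine ⟨(asIso d).symm, ?_⟩
  show inv d ≫ _ = f
  rw [← hd, IsIso.inv_hom_id_assoc]

theorem props_of_iso {Y : Scheme.{u}}
    (e : Y ≅ (X.fromSpecStalk (genericPoint X)).normalization) :
    (∀ y : Y, IsDomain (Y.presheaf.stalk y) ∧ IsIntegrallyClosed (Y.presheaf.stalk y)) ∧
    IsIntegralHom (e.hom ≫ (X.fromSpecStalk (genericPoint X)).fromNormalization) ∧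
    ∃ _ : IrreducibleSpace Y,
      (e.hom ≫ (X.fromSpecStalk (genericPoint X)).fromNormalization).base ⁻¹' {genericPoint X} =
        {genericPoint Y} ∧
      IsIso ((e.hom ≫ (X.fromSpecStalk (genericPoint X)).fromNormalization).stalkMap
        (genericPoint Y)) := by
  have hsurj : Function.Surjective e.inv := fun y =>
    ⟨e.hom y, by rw [← Scheme.Hom.comp_apply, e.hom_inv_id]; rfl⟩
  have hinj : Function.Injective e.hom := fun y y' h => by
    have := congrArg e.inv h
    rwa [← Scheme.Hom.comp_apply, ← Scheme.Hom.comp_apply, e.hom_inv_id] at this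
  have hirr : IrreducibleSpace Y := by
    rw [irreducibleSpace_def]
    have h1 := (IrreducibleSpace.isIrreducible_univ
      (X.fromSpecStalk (genericPoint X)).normalization).image e.inv
      e.inv.continuous.continuousOn
    rwa [Set.image_univ, hsurj.range_eq] at h1
  refine ⟨fun y => ?_, inferInstance, hirr, ?_, ?_⟩
  · let φ := (asIso (e.hom.stalkMap y)).commRingCatIsoToRingEquiv
    haveI : IsDomain ((X.fromSpecStalk (genericPoint X)).normalization.presheaf.stalk
      (e.hom y)) := inferInstance
    haveI := NormAff.isIntegrallyClosed_stalk X (e.hom y)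
    exact ⟨Function.Injective.isDomain φ.symm.toRingHom φ.symm.injective,
      IsIntegrallyClosed.of_equiv φ⟩
  · have hgen : e.hom (genericPoint Y) =
        genericPoint (X.fromSpecStalk (genericPoint X)).normalization :=
      genericPoint_eq_of_isOpenImmersion e.hom
    ext y
    simp only [Set.mem_preimage, Set.mem_singleton_iff]
    constructor
    · intro h
      have h' : e.hom y ∈ (X.fromSpecStalk (genericPoint X)).fromNormalization ⁻¹'
          {genericPoint X} := h
      rw [preimage_genericPoint X, Set.mem_singleton_iff, ← hgen] at h'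
      exact hinj h'
    · rintro rfl
      show (X.fromSpecStalk (genericPoint X)).fromNormalization (e.hom (genericPoint Y)) = _
      rw [hgen, NormAff.map_genericPoint X]
  · have hgen : e.hom (genericPoint Y) =
        genericPoint (X.fromSpecStalk (genericPoint X)).normalization :=
      genericPoint_eq_of_isOpenImmersion e.hom
    have h1 := isIso_stalkMap_genericPoint X (e.hom (genericPoint Y)) hgen
    rw [Scheme.Hom.stalkMap_comp]
    exact @IsIso.comp_isIso _ _ _ _ _ _ _ h1 inferInstance

omit [IsIntegral X] [QuasiCompact (X.fromSpecStalk (genericPoint X))]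
  [QuasiSeparated (X.fromSpecStalk (genericPoint X))] in
theorem isIso_restrict_of_isIso_app {Y : Scheme.{u}} (f : Y ⟶ X) [IsAffineHom f] {U : X.Opens}
    (hU : IsAffineOpen U) (h : IsIso (f.app U)) : IsIso (f ∣_ U) := by
  haveI : IsAffine U.toScheme := hU
  have haff : IsAffine (f ⁻¹ᵁ U).toScheme := hU.preimage f
  apply (HasAffineProperty.iff_of_isAffine (P := MorphismProperty.isomorphisms Scheme)).2
  refine ⟨haff, ?_⟩
  rw [morphismRestrict_appTop]
  have key : ∀ W : X.Opens, W = U → IsIso (f.app W) := by rintro W rfl; exact h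
  exact @IsIso.comp_isIso _ _ _ _ _ _ _ (key _ U.ι_image_top) (isIso_presheaf_map_eqToHom _)

/-- Over an affine open where `X` is normal, the normalization is an isomorphism. -/
theorem exists_isIso_restrict_of_normal
    (hV : ∃ V : X.Opens, (V : Set X).Nonempty ∧
      ∀ x ∈ V, IsIntegrallyClosed (X.presheaf.stalk x)) :
    ∃ U : X.Opens, (U : Set X).Nonempty ∧
      IsIso ((X.fromSpecStalk (genericPoint X)).fromNormalization ∣_ U) := by
  obtain ⟨V, ⟨x, hxV⟩, hV⟩ := hV
  obtain ⟨_, ⟨U, hU, rfl⟩, hxU, hUV⟩ :=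
    X.isBasis_affineOpens.exists_subset_of_mem_open hxV V.isOpen
  have hne : (U : Set X).Nonempty := ⟨x, hxU⟩
  haveI : Nonempty U := ⟨⟨x, hxU⟩⟩
  refine ⟨U, hne, ?_⟩
  letI algB := ((X.fromSpecStalk (genericPoint X)).fromNormalization.app U).hom.toAlgebra
  obtain ⟨hdom, hinj, hbir, hic⟩ := NormAff.sections_props X hU hne
  haveI := hdom
  haveI : Algebra.IsIntegral Γ(X, U) Γ((X.fromSpecStalk (genericPoint X)).normalization,
      (X.fromSpecStalk (genericPoint X)).fromNormalization ⁻¹ᵁ U) :=
    ⟨IsIntegralHom.isIntegral_app (X.fromSpecStalk (genericPoint X)).fromNormalization _ hU⟩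
  haveI : IsIntegrallyClosed Γ(X, U) :=
    isIntegrallyClosed_sections (fun y hy => hV y (hUV hy)) hU
  have hbij : Function.Bijective
      ((X.fromSpecStalk (genericPoint X)).fromNormalization.app U).hom :=
    ⟨hinj, surjective_of_isIntegrallyClosed hinj hbir⟩
  exact isIso_restrict_of_isIso_app X _ hU ((ConcreteCategory.isIso_iff_bijective _).2 hbij)

theorem birational_of_isIso_restrict {Y : Scheme.{u}} (f : Y ⟶ X) (U : X.Opens)
    (hU : Dense (U : Set X)) (hfU : Dense ((f ⁻¹ᵁ U : Y.Opens) : Set Y)) [IsIso (f ∣_ U)] :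
    ∃ _ : IrreducibleSpace Y, f.base ⁻¹' {genericPoint X} = {genericPoint Y} ∧
      IsIso (f.stalkMap (genericPoint Y)) := by
  have hneU : (U : Set X).Nonempty := hU.nonempty
  haveI : Nonempty U := ⟨⟨_, hneU.some_mem⟩⟩
  haveI hirrU : IrreducibleSpace U.toScheme := inferInstance
  have hsurj : Function.Surjective (inv (f ∣_ U)) := fun y =>
    ⟨(f ∣_ U) y, by rw [← Scheme.Hom.comp_apply, IsIso.hom_inv_id]; rfl⟩
  have hinj : Function.Injective (f ∣_ U) := fun y y' h => by
    have := congrArg (inv (f ∣_ U)) h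
    rwa [← Scheme.Hom.comp_apply, ← Scheme.Hom.comp_apply, IsIso.hom_inv_id] at this
  haveI hirr' : IrreducibleSpace (f ⁻¹ᵁ U).toScheme := by
    rw [irreducibleSpace_def]
    have h1 := (IrreducibleSpace.isIrreducible_univ U.toScheme).image (inv (f ∣_ U))
      (inv (f ∣_ U)).continuous.continuousOn
    rwa [Set.image_univ, hsurj.range_eq] at h1
  have hirrY : IrreducibleSpace Y := by
    rw [irreducibleSpace_def]
    have h1 : IsIrreducible ((f ⁻¹ᵁ U : Y.Opens) : Set Y) := by
      have := (IrreducibleSpace.isIrreducible_univ (f ⁻¹ᵁ U).toScheme).image (f ⁻¹ᵁ U).ι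
        (f ⁻¹ᵁ U).ι.continuous.continuousOn
      rwa [Set.image_univ, Scheme.Opens.range_ι] at this
    have := h1.closure
    rwa [hfU.closure_eq] at this
  have h1 : (f ⁻¹ᵁ U).ι (genericPoint (f ⁻¹ᵁ U).toScheme) = genericPoint Y :=
    genericPoint_eq_of_isOpenImmersion (f ⁻¹ᵁ U).ι
  have h2 : (f ∣_ U) (genericPoint (f ⁻¹ᵁ U).toScheme) = genericPoint U.toScheme :=
    genericPoint_eq_of_isOpenImmersion (f ∣_ U)
  have h3 : U.ι (genericPoint U.toScheme) = genericPoint X :=
    genericPoint_eq_of_isOpenImmersion U.ι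
  have hcomm : ∀ y' : (f ⁻¹ᵁ U).toScheme, U.ι ((f ∣_ U) y') = f ((f ⁻¹ᵁ U).ι y') := fun y' => by
    rw [← Scheme.Hom.comp_apply, ← Scheme.Hom.comp_apply, morphismRestrict_ι]
  have hιinj : Function.Injective U.ι := U.ι.isOpenEmbedding.injective
  refine ⟨hirrY, ?_, ?_⟩
  · ext y
    simp only [Set.mem_preimage, Set.mem_singleton_iff]
    constructor
    · intro hy
      have hyU : y ∈ f ⁻¹ᵁ U := by
        show f y ∈ U
        have : f y = genericPoint X := hy
        rw [this, ← h3]
        exact (genericPoint U.toScheme).2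
      have e1 : U.ι ((f ∣_ U) (⟨y, hyU⟩ : (f ⁻¹ᵁ U).toScheme)) =
          U.ι (genericPoint U.toScheme) := by
        rw [hcomm, h3]
        exact hy
      have e2 : (⟨y, hyU⟩ : (f ⁻¹ᵁ U).toScheme) = genericPoint (f ⁻¹ᵁ U).toScheme :=
        hinj ((hιinj e1).trans h2.symm)
      rw [← h1, ← e2]
      rfl
    · rintro rfl
      show f (genericPoint Y) = genericPoint X
      rw [← h1, ← hcomm, h2, h3]
  · have hiso : IsIso ((f ∣_ U).stalkMap (genericPoint (f ⁻¹ᵁ U).toScheme)) := inferInstance
    have := ((MorphismProperty.isomorphisms CommRingCat).arrow_mk_iso_iff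
      (morphismRestrictStalkMap f U (genericPoint (f ⁻¹ᵁ U).toScheme))).1 hiso
    have key : ∀ y : Y, y = (genericPoint (f ⁻¹ᵁ U).toScheme).1 → IsIso (f.stalkMap y) := by
      rintro y rfl
      exact this
    exact key _ h1.symm

end Geom

end Groth.Agent.Lib.Helper12.NormChar
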