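import Mathlib
import Groth.Prelude.Def_Pi1
import Groth.Prelude.Def_Curv2
import Groth.Agent.Lib.Helper12.CurveNormSm
import Groth.Agent.Lib.Helper12.FieldStageObj
import Groth.Agent.Lib.Helper12.StratTowerField
import Groth.Agent.Lib.Helper12.NormChar
import Groth.Agent.Lib.Helper12.QFDim
import Groth.Agent.Lib.Helper7.RedLib
import Groth.Agent.Lib.Helper16.FppfLocalT
import Groth.Agent.Lib.Helper22.SmoothRed
import Groth.Agent.S1585

/-!
# Helper library (helper12): after a finite purely inseparable extension the normalization of the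
reduction of an integral curve is smooth
-/

universe u

open CategoryTheory CategoryTheory.Limits AlgebraicGeometry

set_option backward.isDefEq.respectTransparency false
set_option linter.style.haveILetI false

namespace Groth.Agent.Lib.Helper12.CurveInsepNorm

open Groth.Agent.Lib.Helper12.StratTowerField Groth.Agent.Lib.Helper12

/-- A field extension gives an fpqc morphism of spectra. -/
theorem fpqc_specMap_field {K L : Type u} [Field K] [Field L] [Algebra K L] :
    (@Surjective ⊓ @Flat ⊓ @QuasiCompact : MorphismProperty Scheme.{u})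
      (Spec.map (CommRingCat.ofHom (algebraMap K L))) :=
  ⟨⟨surjective_specMap_field _, flat_specMap⟩, inferInstance⟩

/-- Monomorphy of the restriction to an open descends along an fpqc base change. -/
theorem mono_restrict_of_isPullback {W X W' X' : Scheme.{u}} {n : W ⟶ X} {n' : W' ⟶ X'}
    {q : W ⟶ W'} {r : X ⟶ X'} (sq : IsPullback q n n' r)
    (hr : (@Surjective ⊓ @Flat ⊓ @QuasiCompact : MorphismProperty Scheme.{u}) r)
    (U' : X'.Opens) (h : Mono (n ∣_ (r ⁻¹ᵁ U'))) : Mono (n' ∣_ U') := by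
  have t' : IsPullback (n' ⁻¹ᵁ U').ι (n' ∣_ U') n' U'.ι := (isPullback_morphismRestrict n' U').flip
  have t : IsPullback (n ⁻¹ᵁ (r ⁻¹ᵁ U')).ι (n ∣_ (r ⁻¹ᵁ U')) n (r ⁻¹ᵁ U').ι :=
    (isPullback_morphismRestrict n (r ⁻¹ᵁ U')).flip
  have tr : IsPullback (r ⁻¹ᵁ U').ι (r ∣_ U') r U'.ι := (isPullback_morphismRestrict r U').flip
  have big := t.paste_horiz sq
  rw [tr.w] at big
  have w : ((n ⁻¹ᵁ (r ⁻¹ᵁ U')).ι ≫ q) ≫ n' = (n ∣_ (r ⁻¹ᵁ U') ≫ r ∣_ U') ≫ U'.ι := by
    rw [Category.assoc, Category.assoc]; exact big.w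
  have key : IsPullback (t'.lift ((n ⁻¹ᵁ (r ⁻¹ᵁ U')).ι ≫ q) (n ∣_ (r ⁻¹ᵁ U') ≫ r ∣_ U') w)
      (n ∣_ (r ⁻¹ᵁ U')) (n' ∣_ U') (r ∣_ U') := by
    refine IsPullback.of_right ?_ (t'.lift_snd _ _ _) t'
    rw [t'.lift_fst]
    exact big
  have hr' : (@Surjective ⊓ @Flat ⊓ @QuasiCompact : MorphismProperty Scheme.{u}) (r ∣_ U') :=
    MorphismProperty.of_isPullback tr hr
  haveI : (MorphismProperty.monomorphisms Scheme.{u}).DescendsAlong
      (@Surjective ⊓ @Flat ⊓ @QuasiCompact : MorphismProperty Scheme.{u}) :=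
    MorphismProperty.diagonal_isomorphisms (C := Scheme.{u}) ▸ inferInstance
  have := MorphismProperty.of_isPullback_of_descendsAlong
    (P := MorphismProperty.monomorphisms Scheme.{u})
    (Q := (@Surjective ⊓ @Flat ⊓ @QuasiCompact : MorphismProperty Scheme.{u})) key.flip hr' h
  exact this

/-- Transport of irreducibility along a homeomorphism. -/
theorem irreducibleSpace_of_isHomeomorph {A B : Type*} [TopologicalSpace A] [TopologicalSpace B]
    (φ : A → B) (hφ : IsHomeomorph φ) [IrreducibleSpace B] : IrreducibleSpace A := by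
  let e := hφ.homeomorph
  rw [irreducibleSpace_def]
  have h1 := (IrreducibleSpace.isIrreducible_univ B).image e.symm e.symm.continuous.continuousOn
  rwa [Set.image_univ, e.symm.surjective.range_eq] at h1

/-- Over a perfect purely inseparable extension `Ω` of `k`, the normalization of the reduction of
the base change of an integral curve is smooth over `Ω`, and it is a monomorphism over a nonempty
open pulled back from `X`. -/
theorem exists_normalization_perfect (k : Type u) [Field k] (Ω : Type u) [Field Ω]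
    [PerfectField Ω] [Algebra k Ω] [IsPurelyInseparable k Ω]
    {X : Scheme.{u}} [IsIntegral X] (f : X ⟶ Spec (CommRingCat.of k)) [LocallyOfFiniteType f]
    [QuasiCompact f] (hdim : topologicalKrullDim X ≤ 1) :
    ∃ (W : Scheme.{u})
      (n : W ⟶ pullback f (Spec.map (CommRingCat.ofHom (algebraMap k Ω)))) (U : X.Opens),
      IsFinite n ∧ Surjective n ∧ IrreducibleSpace W ∧
      Smooth (n ≫ pullback.snd f (Spec.map (CommRingCat.ofHom (algebraMap k Ω)))) ∧
      (U : Set X).Nonempty ∧
      Mono (n ∣_ ((pullback.fst f (Spec.map (CommRingCat.ofHom (algebraMap k Ω)))) ⁻¹ᵁ U)) := by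
  let p : Spec (CommRingCat.of Ω) ⟶ Spec (CommRingCat.of k) :=
    Spec.map (CommRingCat.ofHom (algebraMap k Ω))
  let r₀ : pullback f p ⟶ X := pullback.fst f p
  let gΩ : pullback f p ⟶ Spec (CommRingCat.of Ω) := pullback.snd f p
  haveI : UniversallyInjective p := universallyInjective_specMap (E := k) (L := Ω)
  haveI : UniversallyInjective r₀ :=
    MorphismProperty.pullback_fst (P := @UniversallyInjective) f p inferInstance
  haveI : Surjective p := surjective_specMap_field _
  haveI : Surjective r₀ := MorphismProperty.pullback_fst (P := @Surjective) f p inferInstance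
  have hr₀ : IsHomeomorph r₀.base :=
    ⟨r₀.continuous, r₀.isOpenMap, r₀.injective, r₀.surjective⟩
  haveI : IrreducibleSpace ↥(pullback f p) := irreducibleSpace_of_isHomeomorph _ hr₀
  have hdimΩ : topologicalKrullDim ↥(pullback f p) ≤ 1 := by
    rw [IsHomeomorph.topologicalKrullDim_eq _ hr₀]; exact hdim
  -- the reduction
  let ι := (pullback f p).nilradical.subschemeι
  haveI : IsReduced (pullback f p).nilradical.subscheme :=
    Groth.Agent.Lib.Helper7.isReduced_nilradical_subscheme _
  have hιs : Function.Surjective ι := Groth.Agent.Lib.Helper7.subschemeι_nilradical_surjective _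
  have hι : IsHomeomorph ι.base :=
    isHomeomorph_iff_isEmbedding_surjective.mpr ⟨ι.isClosedEmbedding.isEmbedding, hιs⟩
  haveI : IrreducibleSpace ↥(pullback f p).nilradical.subscheme :=
    irreducibleSpace_of_isHomeomorph _ hι
  haveI : IsIntegral (pullback f p).nilradical.subscheme :=
    isIntegral_of_irreducibleSpace_of_isReduced _
  letI : (pullback f p).nilradical.subscheme.Over (Spec (CommRingCat.of Ω)) := ⟨ι ≫ gΩ⟩
  haveI : LocallyOfFiniteType
      ((pullback f p).nilradical.subscheme ↘ Spec (CommRingCat.of Ω)) :=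
    (inferInstance : LocallyOfFiniteType (ι ≫ gΩ))
  haveI : IsLocallyNoetherian (pullback f p).nilradical.subscheme :=
    LocallyOfFiniteType.isLocallyNoetherian (ι ≫ gΩ)
  haveI : IsLocallyNoetherian (pullback f p) := LocallyOfFiniteType.isLocallyNoetherian gΩ
  haveI : QuasiCompact ((pullback f p).nilradical.subscheme.fromSpecStalk
      (genericPoint (pullback f p).nilradical.subscheme)) := inferInstance
  haveI : QuasiSeparated ((pullback f p).nilradical.subscheme.fromSpecStalk
      (genericPoint (pullback f p).nilradical.subscheme)) := inferInstance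
  obtain ⟨hfin, -, ⟨V, hVne, hViso⟩, hint, hnorm⟩ :=
    Groth.Agent.S1585.result Ω (pullback f p).nilradical.subscheme
  haveI := hfin
  haveI := hint
  obtain ⟨ν, hν⟩ : ∃ ν : Curv2.normalization (pullback f p).nilradical.subscheme ⟶
      (pullback f p).nilradical.subscheme, ν = Curv2.normalizationι _ := ⟨_, rfl⟩
  rw [← hν] at hfin hViso
  haveI := hfin
  have hνs : Function.Surjective ν := by
    rw [hν]
    exact NormAff.surjective_fromNormalization _
  -- the opens
  obtain ⟨O, hO⟩ : ∃ O : (pullback f p).Opens, ι ⁻¹ᵁ O = V := by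
    refine ⟨⟨ι '' (V : Set _), hι.isOpenMap _ V.2⟩, ?_⟩
    ext x
    simp only [Scheme.Hom.mem_preimage]
    constructor
    · rintro ⟨y, hy, hxy⟩
      rwa [← hι.injective hxy]
    · intro hx
      exact ⟨x, hx, rfl⟩
  subst hO
  obtain ⟨U, hU⟩ : ∃ U : X.Opens, r₀ ⁻¹ᵁ U = O := by
    refine ⟨⟨r₀ '' (O : Set _), hr₀.isOpenMap _ O.2⟩, ?_⟩
    ext x
    simp only [Scheme.Hom.mem_preimage]
    constructor
    · rintro ⟨y, hy, hxy⟩
      rwa [← hr₀.injective hxy]
    · intro hx
      exact ⟨x, hx, rfl⟩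
  subst hU
  have hdimW : topologicalKrullDim ↥(Curv2.normalization (pullback f p).nilradical.subscheme)
      ≤ 1 := by
    have h1 := QFDim.dim_le_of_quasiFinite (ν ≫ ι) Set.univ isClosed_univ (Set.subset_univ _)
    have h2 : topologicalKrullDim ↥(Set.univ : Set ↥(pullback f p)) =
        topologicalKrullDim ↥(pullback f p) :=
      IsHomeomorph.topologicalKrullDim_eq _ (Homeomorph.Set.univ _).isHomeomorph
    rw [h2] at h1
    exact h1.trans hdimΩ
  refine ⟨Curv2.normalization (pullback f p).nilradical.subscheme, ν ≫ ι, U, inferInstance,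
    ⟨fun x => ?_⟩, inferInstance, ?_, ?_, ?_⟩
  · obtain ⟨z, hz⟩ := hιs x
    obtain ⟨w, hw⟩ := hνs z
    exact ⟨w, by rw [Scheme.Hom.comp_apply, hw, hz]⟩
  · exact CurveNormSm.smooth_of_normal_curve Ω ((ν ≫ ι) ≫ gΩ) hdimW hnorm
  · obtain ⟨z, hz⟩ := hVne
    exact ⟨r₀ (ι z), hz⟩
  · show Mono ((ν ≫ ι) ∣_ (r₀ ⁻¹ᵁ U))
    rw [morphismRestrict_comp]
    infer_instance

/-- A finite surjective morphism from an irreducible scheme smooth over a field, which is a
monomorphism over a nonempty open, identifies the source with the normalization of the reduction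
of the target. -/
theorem smooth_normalization_of_finite (K' : Type u) [Field K'] {Y : Scheme.{u}}
    (g : Y ⟶ Spec (CommRingCat.of K')) [LocallyOfFiniteType g] {W' : Scheme.{u}} (n' : W' ⟶ Y)
    [IsFinite n'] [Surjective n'] [IrreducibleSpace W'] [Smooth (n' ≫ g)]
    (U' : Y.Opens) (hU' : (U' : Set Y).Nonempty) [Mono (n' ∣_ U')] :
    ∃ (_ : IsIntegral Y.nilradical.subscheme)
      (_ : QuasiCompact (Y.nilradical.subscheme.fromSpecStalk
        (genericPoint Y.nilradical.subscheme)))
      (_ : QuasiSeparated (Y.nilradical.subscheme.fromSpecStalk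
        (genericPoint Y.nilradical.subscheme))),
      Smooth (Curv2.normalizationι Y.nilradical.subscheme ≫ Y.nilradical.subschemeι ≫ g) := by
  haveI : IsReduced W' := Groth.Agent.Lib.Helper22.SmoothRed.isReduced_of_smooth (n' ≫ g)
  haveI : IsIntegral W' := isIntegral_of_irreducibleSpace_of_isReduced _
  let ι := Y.nilradical.subschemeι
  haveI : IsReduced Y.nilradical.subscheme :=
    Groth.Agent.Lib.Helper7.isReduced_nilradical_subscheme _
  have hιs : Function.Surjective ι := Groth.Agent.Lib.Helper7.subschemeι_nilradical_surjective _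
  obtain ⟨m, hm⟩ := Groth.Agent.Lib.Helper7.exists_lift_of_isReduced_of_range_subset n' ι
    (by rw [hιs.range_eq]; exact Set.subset_univ _)
  have hms : Function.Surjective m := by
    intro z
    obtain ⟨w, hw⟩ := Surjective.surj (f := n') (ι z)
    refine ⟨w, ι.isClosedEmbedding.injective ?_⟩
    rw [← Scheme.Hom.comp_apply, hm, hw]
  haveI : Surjective m := ⟨hms⟩
  haveI : IrreducibleSpace ↥Y.nilradical.subscheme := by
    rw [irreducibleSpace_def]
    have h1 := (IrreducibleSpace.isIrreducible_univ W').image m m.continuous.continuousOn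
    rwa [Set.image_univ, hms.range_eq] at h1
  haveI hZint : IsIntegral Y.nilradical.subscheme := isIntegral_of_irreducibleSpace_of_isReduced _
  haveI : IsLocallyNoetherian Y := LocallyOfFiniteType.isLocallyNoetherian g
  haveI : IsLocallyNoetherian Y.nilradical.subscheme :=
    LocallyOfFiniteType.isLocallyNoetherian (ι ≫ g)
  haveI hqc : QuasiCompact (Y.nilradical.subscheme.fromSpecStalk
      (genericPoint Y.nilradical.subscheme)) := inferInstance
  haveI hqs : QuasiSeparated (Y.nilradical.subscheme.fromSpecStalk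
      (genericPoint Y.nilradical.subscheme)) := inferInstance
  refine ⟨hZint, hqc, hqs, ?_⟩
  subst hm
  haveI : IsFinite m := IsFinite.of_comp m ι
  -- `m` is an isomorphism over the preimage of `U'`
  have hres : (m ≫ ι) ∣_ U' = m ∣_ (ι ⁻¹ᵁ U') ≫ ι ∣_ U' := morphismRestrict_comp _ _ _
  haveI : IsClosedImmersion ((m ≫ ι) ∣_ U') :=
    (IsClosedImmersion.iff_isFinite_and_mono _).mpr ⟨inferInstance, inferInstance⟩
  haveI : IsClosedImmersion (m ∣_ (ι ⁻¹ᵁ U') ≫ ι ∣_ U') := by rw [← hres]; infer_instance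
  haveI : IsClosedImmersion (m ∣_ (ι ⁻¹ᵁ U')) := IsClosedImmersion.of_comp _ (ι ∣_ U')
  haveI : Surjective (m ∣_ (ι ⁻¹ᵁ U')) :=
    IsZariskiLocalAtTarget.restrict (P := @Surjective) inferInstance _
  haveI : IsIso (m ∣_ (ι ⁻¹ᵁ U')) := isIso_of_isClosedImmersion_of_surjective _
  have hVne : (↑(ι ⁻¹ᵁ U') : Set ↥Y.nilradical.subscheme).Nonempty := by
    obtain ⟨y, hy⟩ := hU'
    obtain ⟨z, hz⟩ := hιs y
    exact ⟨z, by show ι z ∈ U'; rw [hz]; exact hy⟩
  have hWne : (↑(m ⁻¹ᵁ (ι ⁻¹ᵁ U')) : Set ↥W').Nonempty := by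
    obtain ⟨z, hz⟩ := hVne
    obtain ⟨w, hw⟩ := hms z
    exact ⟨w, by show m w ∈ ι ⁻¹ᵁ U'; rw [hw]; exact hz⟩
  have hVd : Dense (↑(ι ⁻¹ᵁ U') : Set ↥Y.nilradical.subscheme) :=
    (ι ⁻¹ᵁ U').2.dense hVne
  have hWd : Dense (↑(m ⁻¹ᵁ (ι ⁻¹ᵁ U')) : Set ↥W') := (m ⁻¹ᵁ (ι ⁻¹ᵁ U')).2.dense hWne
  obtain ⟨_, hfib, hiso⟩ := NormChar.birational_of_isIso_restrict Y.nilradical.subscheme m
    (ι ⁻¹ᵁ U') hVd hWd
  have hnormal : ∀ w : W', IsDomain (W'.presheaf.stalk w) ∧
      IsIntegrallyClosed (W'.presheaf.stalk w) := fun w =>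
    Groth.Agent.Lib.Helper23.SmoothCurve.stalk_normal_of_smooth K' W' ((m ≫ ι) ≫ g) w
  obtain ⟨e, he⟩ := NormChar.exists_iso_of_normal_integral_birational Y.nilradical.subscheme m
    hnormal hfib hiso
  have h1 : Curv2.normalizationι Y.nilradical.subscheme ≫ Y.nilradical.subschemeι ≫ g =
      e.inv ≫ (m ≫ ι) ≫ g := by
    rw [← he]
    simp only [Category.assoc, Iso.inv_hom_id_assoc]
    rfl
  rw [h1]
  infer_instance

end Groth.Agent.Lib.Helper12.CurveInsepNorm
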