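import Mathlib
import Groth.Agent.Lib.Helper12.CurveInsepNorm

/-!
# Helper library (helper12): identification of a smooth finite birational cover with the
normalization of the reduction
-/

universe u

open CategoryTheory CategoryTheory.Limits AlgebraicGeometry

set_option backward.isDefEq.respectTransparency false
set_option linter.style.haveILetI false

namespace Groth.Agent.Lib.Helper12.CurveInsepNorm

open Groth.Agent.Lib.Helper12.StratTowerField Groth.Agent.Lib.Helper12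

/-- The restriction of a cartesian square to an open of the base. -/
theorem exists_isPullback_restrict {W X W' X' : Scheme.{u}} {n : W ⟶ X} {n' : W' ⟶ X'}
    {q : W ⟶ W'} {r : X ⟶ X'} (sq : IsPullback q n n' r) (U' : X'.Opens) :
    ∃ l : (n ⁻¹ᵁ (r ⁻¹ᵁ U') : Scheme.{u}) ⟶ (n' ⁻¹ᵁ U' : Scheme.{u}),
      IsPullback l (n ∣_ (r ⁻¹ᵁ U')) (n' ∣_ U') (r ∣_ U') := by
  have t' : IsPullback (n' ⁻¹ᵁ U').ι (n' ∣_ U') n' U'.ι := (isPullback_morphismRestrict n' U').flip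
  have t : IsPullback (n ⁻¹ᵁ (r ⁻¹ᵁ U')).ι (n ∣_ (r ⁻¹ᵁ U')) n (r ⁻¹ᵁ U').ι :=
    (isPullback_morphismRestrict n (r ⁻¹ᵁ U')).flip
  have tr : IsPullback (r ⁻¹ᵁ U').ι (r ∣_ U') r U'.ι := (isPullback_morphismRestrict r U').flip
  have big := t.paste_horiz sq
  rw [tr.w] at big
  have w : ((n ⁻¹ᵁ (r ⁻¹ᵁ U')).ι ≫ q) ≫ n' = (n ∣_ (r ⁻¹ᵁ U') ≫ r ∣_ U') ≫ U'.ι := by
    rw [Category.assoc, Category.assoc]; exact big.w
  refine ⟨t'.lift ((n ⁻¹ᵁ (r ⁻¹ᵁ U')).ι ≫ q) (n ∣_ (r ⁻¹ᵁ U') ≫ r ∣_ U') w, ?_⟩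
  refine IsPullback.of_right ?_ (t'.lift_snd _ _ _) t'
  rw [t'.lift_fst]
  exact big

/-- A finite surjective morphism from an irreducible scheme smooth over a field, which is a
monomorphism over a nonempty open, identifies the source with the normalization of the reduction
of the target. -/
theorem exists_iso_normalization_of_finite (K' : Type u) [Field K'] {Y : Scheme.{u}}
    (g : Y ⟶ Spec (CommRingCat.of K')) [LocallyOfFiniteType g] {W' : Scheme.{u}} (n' : W' ⟶ Y)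
    [IsFinite n'] [Surjective n'] [IrreducibleSpace W'] [Smooth (n' ≫ g)]
    (U' : Y.Opens) (hU' : (U' : Set Y).Nonempty) [Mono (n' ∣_ U')]
    [IsIntegral Y.nilradical.subscheme]
    [QuasiCompact (Y.nilradical.subscheme.fromSpecStalk (genericPoint Y.nilradical.subscheme))]
    [QuasiSeparated (Y.nilradical.subscheme.fromSpecStalk
      (genericPoint Y.nilradical.subscheme))] :
    ∃ e : W' ≅ Curv2.normalization Y.nilradical.subscheme,
      e.hom ≫ Curv2.normalizationι Y.nilradical.subscheme ≫ Y.nilradical.subschemeι = n' := by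
  haveI : IsReduced W' := Groth.Agent.Lib.Helper22.SmoothRed.isReduced_of_smooth (n' ≫ g)
  haveI : IsIntegral W' := isIntegral_of_irreducibleSpace_of_isReduced _
  let ι := Y.nilradical.subschemeι
  haveI : IsReduced Y.nilradical.subscheme :=
    Groth.Agent.Lib.Helper7.isReduced_nilradical_subscheme _
  have hιs : Function.Surjective ι := Groth.Agent.Lib.Helper7.subschemeι_nilradical_surjective _
  obtain ⟨m, hm⟩ := Groth.Agent.Lib.Helper7.exists_lift_of_isReduced_of_range_subset n' ι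
    (by rw [hιs.range_eq]; exact Set.subset_univ _)
  have hms : Function.Surjective m := by
    intro z
    obtain ⟨w, hw⟩ := Surjective.surj (f := n') (ι z)
    refine ⟨w, ι.isClosedEmbedding.injective ?_⟩
    rw [← Scheme.Hom.comp_apply, hm, hw]
  haveI : Surjective m := ⟨hms⟩
  subst hm
  haveI : IsFinite m := IsFinite.of_comp m ι
  have hres : (m ≫ ι) ∣_ U' = m ∣_ (ι ⁻¹ᵁ U') ≫ ι ∣_ U' := morphismRestrict_comp _ _ _
  haveI : IsClosedImmersion ((m ≫ ι) ∣_ U') :=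
    (IsClosedImmersion.iff_isFinite_and_mono _).mpr ⟨inferInstance, inferInstance⟩
  haveI : IsClosedImmersion (m ∣_ (ι ⁻¹ᵁ U') ≫ ι ∣_ U') := by rw [← hres]; infer_instance
  haveI : IsClosedImmersion (m ∣_ (ι ⁻¹ᵁ U')) := IsClosedImmersion.of_comp _ (ι ∣_ U')
  haveI : Surjective (m ∣_ (ι ⁻¹ᵁ U')) :=
    IsZariskiLocalAtTarget.restrict (P := @Surjective) inferInstance _
  haveI : IsIso (m ∣_ (ι ⁻¹ᵁ U')) := isIso_of_isClosedImmersion_of_surjective _
  have hVne : (↑(ι ⁻¹ᵁ U') : Set ↥Y.nilradical.subscheme).Nonempty := by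
    obtain ⟨y, hy⟩ := hU'
    obtain ⟨z, hz⟩ := hιs y
    exact ⟨z, by show ι z ∈ U'; rw [hz]; exact hy⟩
  have hWne : (↑(m ⁻¹ᵁ (ι ⁻¹ᵁ U')) : Set ↥W').Nonempty := by
    obtain ⟨z, hz⟩ := hVne
    obtain ⟨w, hw⟩ := hms z
    exact ⟨w, by show m w ∈ ι ⁻¹ᵁ U'; rw [hw]; exact hz⟩
  have hVd : Dense (↑(ι ⁻¹ᵁ U') : Set ↥Y.nilradical.subscheme) :=
    (ι ⁻¹ᵁ U').2.dense hVne
  have hWd : Dense (↑(m ⁻¹ᵁ (ι ⁻¹ᵁ U')) : Set ↥W') := (m ⁻¹ᵁ (ι ⁻¹ᵁ U')).2.dense hWne
  obtain ⟨_, hfib, hiso⟩ := NormChar.birational_of_isIso_restrict Y.nilradical.subscheme m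
    (ι ⁻¹ᵁ U') hVd hWd
  have hnormal : ∀ w : W', IsDomain (W'.presheaf.stalk w) ∧
      IsIntegrallyClosed (W'.presheaf.stalk w) := fun w =>
    Groth.Agent.Lib.Helper23.SmoothCurve.stalk_normal_of_smooth K' W' ((m ≫ ι) ≫ g) w
  obtain ⟨e, he⟩ := NormChar.exists_iso_of_normal_integral_birational Y.nilradical.subscheme m
    hnormal hfib hiso
  refine ⟨e, ?_⟩
  rw [← he]
  simp only [Category.assoc]
  rfl

end Groth.Agent.Lib.Helper12.CurveInsepNorm
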