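import Mathlib
import Groth.Agent.Lib.Helper12.CurveInsepNorm2

/-!
# Helper library (helper12): base changes of a birational cover of a geometrically irreducible
scheme over a field are irreducible
-/

universe u

open CategoryTheory CategoryTheory.Limits AlgebraicGeometry

set_option backward.isDefEq.respectTransparency false
set_option linter.style.haveILetI false

namespace Groth.Agent.Lib.Helper12.CurveInsepNorm

open Groth.Agent.Lib.Helper12.StratTowerField Groth.Agent.Lib.Helper12

/-- A morphism between spectra of fields is flat. -/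
theorem flat_of_field {K L : Type u} [Field K] [Field L]
    (y : Spec (CommRingCat.of L) ⟶ Spec (CommRingCat.of K)) : Flat y := by
  obtain ⟨ψ, rfl⟩ := Spec.map_surjective y
  rw [HasRingHomProperty.Spec_iff (P := @Flat)]
  letI := ψ.hom.toAlgebra
  show Module.Flat K L
  infer_instance

/-- A morphism between spectra of fields is surjective. -/
theorem surjective_of_field {K L : Type u} [Field K] [Field L]
    (y : Spec (CommRingCat.of L) ⟶ Spec (CommRingCat.of K)) : Surjective y := by
  refine ⟨fun x => ?_⟩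
  obtain ⟨z⟩ : Nonempty (Spec (CommRingCat.of L)) := inferInstance
  exact ⟨z, Subsingleton.elim _ _⟩

/-- If `ν : Y ⟶ X` is an isomorphism over an open containing the image of the generic point of
the irreducible scheme `Y`, and `X` is geometrically irreducible over the field `K`, then every
base change of `Y` to a field is irreducible. -/
theorem irreducibleSpace_pullback_of_birational {K L : Type u} [Field K] [Field L]
    {X Y : Scheme.{u}} [IrreducibleSpace Y] (f : X ⟶ Spec (CommRingCat.of K))
    [GeometricallyIrreducible f] (ν : Y ⟶ X) (V : X.Opens) [IsIso (ν ∣_ V)]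
    (hgen : ν (genericPoint Y) ∈ V)
    (p : Spec (CommRingCat.of L) ⟶ Spec (CommRingCat.of K)) :
    IrreducibleSpace ↥(pullback (ν ≫ f) p) := by
  let n' : pullback (ν ≫ f) p ⟶ pullback f p :=
    pullback.map (ν ≫ f) p f p ν (𝟙 _) (𝟙 _) (Category.comp_id _)
      ((Category.comp_id _).trans (Category.id_comp _).symm)
  have hn1 : n' ≫ pullback.fst f p = pullback.fst (ν ≫ f) p ≫ ν := pullback.lift_fst _ _ _
  have hn2 : n' ≫ pullback.snd f p = pullback.snd (ν ≫ f) p := by
    have : n' ≫ pullback.snd f p = pullback.snd (ν ≫ f) p ≫ 𝟙 _ := pullback.lift_snd _ _ _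
    rwa [Category.comp_id] at this
  have sq : IsPullback (pullback.fst (ν ≫ f) p) n' ν (pullback.fst f p) :=
    IsPullback.of_bot (by rw [hn2]; exact IsPullback.of_hasPullback (ν ≫ f) p) hn1.symm
      (IsPullback.of_hasPullback f p)
  obtain ⟨l, hl⟩ := exists_isPullback_restrict sq V
  haveI : IsIso (n' ∣_ ((pullback.fst f p) ⁻¹ᵁ V)) :=
    MorphismProperty.of_isPullback (P := MorphismProperty.isomorphisms Scheme.{u}) hl
      (inferInstance : IsIso (ν ∣_ V))
  haveI : Surjective p := surjective_of_field p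
  haveI : Surjective (pullback.fst f p) :=
    MorphismProperty.pullback_fst (P := @Surjective) f p inferInstance
  have hU' : (↑((pullback.fst f p) ⁻¹ᵁ V) : Set ↥(pullback f p)).Nonempty := by
    obtain ⟨y, hy⟩ := Surjective.surj (f := pullback.fst f p) (ν (genericPoint Y))
    exact ⟨y, by show (pullback.fst f p) y ∈ V; rw [hy]; exact hgen⟩
  haveI : IrreducibleSpace ↥(pullback f p) := inferInstance
  have hirrU : IsIrreducible (↑((pullback.fst f p) ⁻¹ᵁ V) : Set ↥(pullback f p)) :=
    ⟨hU', (IrreducibleSpace.isIrreducible_univ _).isPreirreducible.open_subset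
      ((pullback.fst f p) ⁻¹ᵁ V).2 (Set.subset_univ _)⟩
  haveI : IrreducibleSpace ((pullback.fst f p) ⁻¹ᵁ V).toScheme := Subtype.irreducibleSpace hirrU
  have hsurj : Function.Surjective (inv (n' ∣_ ((pullback.fst f p) ⁻¹ᵁ V))) := fun y =>
    ⟨(n' ∣_ ((pullback.fst f p) ⁻¹ᵁ V)) y, by
      rw [← Scheme.Hom.comp_apply, IsIso.hom_inv_id]; rfl⟩
  haveI : IrreducibleSpace (n' ⁻¹ᵁ ((pullback.fst f p) ⁻¹ᵁ V)).toScheme := by
    rw [irreducibleSpace_def]
    have h1 := (IrreducibleSpace.isIrreducible_univ ((pullback.fst f p) ⁻¹ᵁ V).toScheme).image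
      (inv (n' ∣_ ((pullback.fst f p) ⁻¹ᵁ V)))
      (inv (n' ∣_ ((pullback.fst f p) ⁻¹ᵁ V))).continuous.continuousOn
    rwa [Set.image_univ, hsurj.range_eq] at h1
  have hP : IsIrreducible (↑(n' ⁻¹ᵁ ((pullback.fst f p) ⁻¹ᵁ V)) :
      Set ↥(pullback (ν ≫ f) p)) := by
    have := (IrreducibleSpace.isIrreducible_univ
      (n' ⁻¹ᵁ ((pullback.fst f p) ⁻¹ᵁ V)).toScheme).image
      (n' ⁻¹ᵁ ((pullback.fst f p) ⁻¹ᵁ V)).ι
      (n' ⁻¹ᵁ ((pullback.fst f p) ⁻¹ᵁ V)).ι.continuous.continuousOn
    rwa [Set.image_univ, Scheme.Opens.range_ι] at this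
  haveI : Flat p := flat_of_field p
  have hgenmap : GeneralizingMap (pullback.fst (ν ≫ f) p) := Flat.generalizingMap _
  have hdense : Dense (↑(n' ⁻¹ᵁ ((pullback.fst f p) ⁻¹ᵁ V)) :
      Set ↥(pullback (ν ≫ f) p)) := by
    intro w
    obtain ⟨w', hw'w, hw'⟩ := hgenmap (genericPoint_specializes ((pullback.fst (ν ≫ f) p) w))
    have hmem : w' ∈ n' ⁻¹ᵁ ((pullback.fst f p) ⁻¹ᵁ V) := by
      show (pullback.fst f p) (n' w') ∈ V
      rw [← Scheme.Hom.comp_apply, hn1, Scheme.Hom.comp_apply, hw']
      exact hgen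
    exact hw'w.mem_closed isClosed_closure (subset_closure hmem)
  rw [irreducibleSpace_def]
  have := hP.closure
  rwa [hdense.closure_eq] at this

end Groth.Agent.Lib.Helper12.CurveInsepNorm
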