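import Mathlib
import Groth.Agent.S3439

/-!
# Helper library (helper12): finite covers by constructible images and gluing over a finite coproduct

* `exists_finite_cover`: if every point of a qcqs scheme lies in the image of an affine scheme of
  finite presentation with a property `Pr`, finitely many of them cover.
* `isPullback_sigmaι_sigmaMap`: extensivity for finite coproducts of schemes.
* `glue_closedSubscheme`: closed subschemes of the base changes to the pieces of a finite coproduct
  glue to a closed subscheme of the base change to the coproduct.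
-/

universe u

open CategoryTheory CategoryTheory.Limits AlgebraicGeometry Topology

set_option backward.isDefEq.respectTransparency false
set_option linter.style.haveILetI false

namespace Groth.Agent.Lib.Helper12.StratCover

/-- Finitely many affine schemes of finite presentation over a qcqs scheme cover it if every point
lies in the image of one of them. -/
theorem exists_finite_cover {X : Scheme.{u}} [CompactSpace X] [QuasiSeparatedSpace X]
    (Pr : ∀ {T : Scheme.{u}}, (T ⟶ X) → Prop)
    (hloc : ∀ x : X, ∃ (T : Scheme.{u}) (a : T ⟶ X), IsAffine T ∧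
      LocallyOfFinitePresentation a ∧ Pr a ∧ x ∈ Set.range a) :
    ∃ (n : ℕ) (T : Fin n → Scheme.{u}) (a : ∀ i, T i ⟶ X), (∀ i, IsAffine (T i) ∧ Pr (a i)) ∧
      (⋃ i, Set.range (a i)) = Set.univ := by
  classical
  choose T a hT ha hP hx using hloc
  have hcons : ∀ x, IsOpen[constructibleTopology X] (Set.range (a x)) := by
    intro x
    haveI := hT x
    haveI := ha x
    have h1 := (a x).isConstructible_image (s := Set.univ) Topology.IsConstructible.univ
    rw [Set.image_univ] at h1
    exact (Groth.Agent.S3439.isOpen_constructibleTopology_of_isConstructible h1).1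
  haveI := Groth.Agent.S3439.compactSpace_constructibleTopology (Y := X)
  obtain ⟨I, hI⟩ := @IsCompact.elim_finite_subcover X (constructibleTopology X) Set.univ X
    (@isCompact_univ _ (constructibleTopology X) _) (fun x => Set.range (a x)) hcons
    (fun x _ => Set.mem_iUnion.mpr ⟨x, hx x⟩)
  let e := I.equivFin
  refine ⟨I.card, fun i => T (e.symm i).1, fun i => a (e.symm i).1,
    fun i => ⟨hT _, hP _⟩, ?_⟩
  rw [Set.eq_univ_iff_forall]
  intro x
  have := hI (Set.mem_univ x)
  simp only [Set.mem_iUnion] at this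
  obtain ⟨y, hyI, hxy⟩ := this
  refine Set.mem_iUnion.mpr ⟨e ⟨y, hyI⟩, ?_⟩
  have hgen : ∀ w : ↥I, w = ⟨y, hyI⟩ → x ∈ Set.range (a w.1) := by
    rintro w rfl
    exact hxy
  exact hgen _ (e.symm_apply_apply _)

/-- Extensivity: the coproduct injections pull back coproducts of morphisms. -/
theorem isPullback_sigmaι_sigmaMap {ι : Type} [Finite ι] {Z T : ι → Scheme.{u}}
    (g : ∀ i, Z i ⟶ T i) (i : ι) :
    IsPullback (Limits.Sigma.ι Z i) (g i) (Limits.Sigma.map g) (Limits.Sigma.ι T i) := by
  have hvk := FinitaryExtensive.isVanKampen_finiteCoproducts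
    (coproductIsCoproduct T)
  have := (hvk (Cofan.mk (∐ Z) (Limits.Sigma.ι Z)) (Discrete.natTrans fun j => g j.as)
    (Limits.Sigma.map g)
    (by ext ⟨j⟩; simp) (NatTrans.Equifibered.of_discrete _)).mp ⟨coproductIsCoproduct Z⟩ ⟨i⟩
  exact this

/-- A property local at the target can be checked on a family of cartesian squares over jointly
surjective open immersions. -/
theorem of_isPullback_cover {Q : MorphismProperty Scheme.{u}} [IsZariskiLocalAtTarget Q]
    {W V : Scheme.{u}} (g : W ⟶ V) {ι : Type} {V' W' : ι → Scheme.{u}} (m : ∀ i, V' i ⟶ V)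
    [∀ i, IsOpenImmersion (m i)] (hcov : ∀ x : V, ∃ i y, m i y = x) (t : ∀ i, W' i ⟶ W)
    (g' : ∀ i, W' i ⟶ V' i) (sq : ∀ i, IsPullback (t i) (g' i) g (m i)) (hQ : ∀ i, Q (g' i)) :
    Q g := by
  let 𝒰 : V.OpenCover := Scheme.Cover.mkOfCovers ι V' m hcov
  refine IsZariskiLocalAtTarget.of_openCover 𝒰 (fun i => ?_)
  have h1 : (sq i).isoPullback.hom ≫ 𝒰.pullbackHom g i = g' i := (sq i).isoPullback_hom_snd
  rw [← Q.cancel_left_of_respectsIso (sq i).isoPullback.hom, h1]
  exact hQ i

/-- The decomposition property: after base change along `a`, the morphism `f` contains a closed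
subscheme with the same underlying space which is finite étale over the base. -/
def HasDecomp {Y X : Scheme.{u}} (f : Y ⟶ X) {T : Scheme.{u}} (a : T ⟶ X) : Prop :=
  ∃ (Z : Scheme.{u}) (c : Z ⟶ pullback a f), IsClosedImmersion c ∧ Surjective c ∧
    IsFinite (c ≫ pullback.fst a f) ∧ Etale (c ≫ pullback.fst a f)

/-- The decomposition property glues over finite coproducts. -/
theorem HasDecomp.sigma {Y X : Scheme.{u}} (f : Y ⟶ X) {ι : Type} [Finite ι]
    {T : ι → Scheme.{u}} (a : ∀ i, T i ⟶ X) (H : ∀ i, HasDecomp f (a i)) :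
    HasDecomp f (Limits.Sigma.desc a) := by
  choose Z c h1 h2 h3 h4 using H
  let m : ∀ i, pullback (a i) f ⟶ pullback (Limits.Sigma.desc a) f := fun i =>
    pullback.map (a i) f (Limits.Sigma.desc a) f (Limits.Sigma.ι T i) (𝟙 Y) (𝟙 X)
      (by simp) (by simp)
  have hm1 : ∀ i, m i ≫ pullback.fst (Limits.Sigma.desc a) f =
      pullback.fst (a i) f ≫ Limits.Sigma.ι T i := fun i => pullback.lift_fst _ _ _
  have hm2 : ∀ i, m i ≫ pullback.snd (Limits.Sigma.desc a) f = pullback.snd (a i) f := fun i => by
    simp [m]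
  have hbot : ∀ i, IsPullback (m i) (pullback.fst (a i) f)
      (pullback.fst (Limits.Sigma.desc a) f) (Limits.Sigma.ι T i) := by
    intro i
    refine IsPullback.of_right ?_ (hm1 i) (IsPullback.of_hasPullback (Limits.Sigma.desc a) f).flip
    rw [hm2, Limits.Sigma.ι_desc]
    exact (IsPullback.of_hasPullback (a i) f).flip
  haveI : ∀ i, IsOpenImmersion (m i) := fun i =>
    MorphismProperty.of_isPullback (P := @IsOpenImmersion) (hbot i).flip inferInstance
  let h : ∀ i, Z i ⟶ T i := fun i => c i ≫ pullback.fst (a i) f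
  let cc : (∐ Z) ⟶ pullback (Limits.Sigma.desc a) f := Limits.Sigma.desc fun i => c i ≫ m i
  have hcc : cc ≫ pullback.fst (Limits.Sigma.desc a) f = Limits.Sigma.map h := by
    refine Limits.Sigma.hom_ext _ _ (fun i => ?_)
    simp only [cc, h, Limits.Sigma.ι_desc_assoc, Category.assoc, hm1, Limits.Sigma.ι_map]
  have hbig : ∀ i, IsPullback (Limits.Sigma.ι Z i) (h i) (Limits.Sigma.map h)
      (Limits.Sigma.ι T i) := fun i => isPullback_sigmaι_sigmaMap h i
  have htop : ∀ i, IsPullback (Limits.Sigma.ι Z i) (c i) cc (m i) := by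
    intro i
    refine IsPullback.of_bot ?_ (by simp [cc]) (hbot i)
    rw [hcc]
    exact hbig i
  have hcovT : ∀ x : (∐ T : Scheme.{u}), ∃ i y, Limits.Sigma.ι T i y = x := fun x =>
    (sigmaOpenCover T).exists_eq x
  have hcovP : ∀ x : (pullback (Limits.Sigma.desc a) f : Scheme.{u}), ∃ i y, m i y = x := by
    intro x
    obtain ⟨i, t, ht⟩ := hcovT (pullback.fst (Limits.Sigma.desc a) f x)
    obtain ⟨y, -, hy⟩ := Scheme.exists_preimage_of_isPullback (hbot i).flip t x ht
    exact ⟨i, y, hy⟩
  refine ⟨∐ Z, cc, ?_, ?_, ?_, ?_⟩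
  · exact of_isPullback_cover (Q := @IsClosedImmersion) cc m hcovP _ c htop h1
  · exact of_isPullback_cover (Q := @Surjective) cc m hcovP _ c htop h2
  · rw [hcc]
    exact of_isPullback_cover (Q := @IsFinite) _ (Limits.Sigma.ι T) hcovT _ h hbig h3
  · rw [hcc]
    exact of_isPullback_cover (Q := @Etale) _ (Limits.Sigma.ι T) hcovT _ h hbig h4

end Groth.Agent.Lib.Helper12.StratCover
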