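import Mathlib
import Groth.Agent.Lib.Helper12.StratTowerLoc
import Groth.Agent.Lib.Helper12.StratCover
import Groth.Agent.Lib.Helper12.ConsPairProper

/-!
# Helper library (helper12): decomposing a quasi-finite morphism after a surjective base change

For `f : Y ⟶ X` quasi-finite of finite presentation between affine schemes and `x : X`, there is
an affine `T` of finite presentation over `X` whose image contains `x` such that the base change
of `f` to `T` contains a closed subscheme with the same underlying space, finite étale over `T`.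
-/

universe u

open CategoryTheory CategoryTheory.Limits AlgebraicGeometry Topology

set_option backward.isDefEq.respectTransparency false
set_option linter.style.haveILetI false

namespace Groth.Agent.Lib.Helper12.DecompQF

open Groth.Agent.Lib.Helper12.ConsMorGen Groth.Agent.Lib.Helper12.ConsPairGen
  Groth.Agent.Lib.Helper12.StratTower Groth.Agent.Lib.Helper12.StratTowerField
  Groth.Agent.Lib.Helper12.StratQBC Groth.Agent.Lib.Helper12.StratTowerLoc
  Groth.Agent.Lib.Helper12.StratCover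

/-- A reduced finite algebra over an algebraically closed field is étale. -/
theorem etale_of_reduced {K D : Type u} [Field K] [IsAlgClosed K] [CommRing D] [Algebra K D]
    [Module.Finite K D] [IsReduced D] : Algebra.Etale K D := by
  classical
  haveI : IsArtinianRing D := isArtinian_of_tower K inferInstance
  rw [Algebra.Etale.iff_exists_algEquiv_prod]
  letI : ∀ m : MaximalSpectrum D, Field (D ⧸ m.asIdeal) := fun m => Ideal.Quotient.field m.asIdeal
  refine ⟨MaximalSpectrum D, inferInstance, fun m => D ⧸ m.asIdeal, inferInstance,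
    fun m => inferInstance, (IsArtinianRing.equivPi D).restrictScalars K,
    fun m => ⟨inferInstance, ?_⟩⟩
  haveI : Algebra.IsAlgebraic K (D ⧸ m.asIdeal) := inferInstance
  infer_instance

/-- A finite scheme over an algebraically closed field contains a closed subscheme with the same
underlying space which is finite étale over the field. -/
theorem exists_red_finite_etale {K : Type u} [Field K] [IsAlgClosed K] {W : Scheme.{u}}
    (g : W ⟶ Spec (CommRingCat.of K)) [IsFinite g] :
    ∃ (Z : Scheme.{u}) (c : Z ⟶ W), IsClosedImmersion c ∧ Surjective c ∧ IsFinite (c ≫ g) ∧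
      Etale (c ≫ g) := by
  haveI : IsAffine W := isAffine_of_isAffineHom g
  let D := Γ(W, ⊤)
  let φ : CommRingCat.of K ⟶ D := Spec.preimage (W.isoSpec.inv ≫ g)
  have hφ : Spec.map φ = W.isoSpec.inv ≫ g := Spec.map_preimage _
  have hφfin : φ.hom.Finite := by
    rw [← IsFinite.SpecMap_iff, hφ]
    infer_instance
  letI : Algebra K D := φ.hom.toAlgebra
  haveI : Module.Finite K D := hφfin
  let Dr := D ⧸ nilradical D
  haveI : IsReduced Dr :=
    (Ideal.isRadical_iff_quotient_reduced _).mp (Ideal.radical_isRadical (⊥ : Ideal D))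
  haveI : Module.Finite K Dr := inferInstance
  haveI : Algebra.Etale K Dr := etale_of_reduced
  let q : D ⟶ CommRingCat.of Dr := CommRingCat.ofHom (Ideal.Quotient.mk (nilradical D))
  have hq : Function.Surjective q.hom := Ideal.Quotient.mk_surjective
  haveI : IsClosedImmersion (Spec.map q) := IsClosedImmersion.spec_of_surjective q hq
  have hsurj : Surjective (Spec.map q) := by
    refine ⟨fun x => ?_⟩
    have hr : Set.range (Spec.map q) = Set.univ := by
      have := _root_.range_comap_of_surjective _ q.hom hq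
      change Set.range (PrimeSpectrum.comap q.hom) = _
      rw [this]
      ext y
      simp only [PrimeSpectrum.mem_zeroLocus, Set.mem_univ, iff_true]
      intro z hz
      have hz' : z ∈ nilradical D := by
        rw [← Ideal.Quotient.eq_zero_iff_mem]
        simpa [q] using hz
      exact nilradical_le_prime y.asIdeal hz'
    have := Set.mem_univ x
    rw [← hr] at this
    exact this
  have hg : g = W.isoSpec.hom ≫ Spec.map φ := by rw [hφ, Iso.hom_inv_id_assoc]
  have hcomp : (Spec.map q ≫ W.isoSpec.inv) ≫ g =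
      Spec.map (CommRingCat.ofHom (algebraMap K Dr)) := by
    rw [hg, Category.assoc, Iso.inv_hom_id_assoc, ← Spec.map_comp]
    rfl
  refine ⟨Spec (CommRingCat.of Dr), Spec.map q ≫ W.isoSpec.inv, inferInstance, ?_, ?_, ?_⟩
  · haveI := hsurj
    infer_instance
  · infer_instance
  · rw [hcomp, HasRingHomProperty.Spec_iff (P := @Etale)]
    exact RingHom.etale_algebraMap.mpr inferInstance

/-- Surjective closed immersions. -/
abbrev Qc : MorphismProperty Scheme.{u} := @IsClosedImmersion ⊓ @Surjective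

theorem descendsLim_Qc : DescendsLim Qc.{u} :=
  DescendsLim.inf descendsLim_isClosedImmersion descendsLim_surjective

/-- From a fixed finitely presented configuration over an affine scheme `S'` with the required
properties over a point `p : K ⟶ S'`, a stage of a limit presentation of `p` carries a
decomposition. -/
theorem hasDecomp_of_fixed {Y X S' K : Scheme.{u}} [IsAffine S'] [IsAffine K] (f : Y ⟶ X)
    [LocallyOfFinitePresentation f] [QuasiCompact f] [QuasiSeparated f]
    (a₀ : S' ⟶ X) (p : K ⟶ S') {Z₁ : Scheme.{u}} (u₁ : Z₁ ⟶ S')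
    [LocallyOfFinitePresentation u₁] [QuasiCompact u₁] [QuasiSeparated u₁]
    (H1 : HasQBC @IsFinite u₁ (𝟙 S') p) (H3 : HasQBC @Etale u₁ (𝟙 S') p)
    (H4 : HasQHom Qc u₁ (pullback.snd f a₀) p) :
    ∃ (T : Scheme.{u}) (e : T ⟶ S') (σ : K ⟶ T), IsAffine T ∧ LocallyOfFinitePresentation e ∧
      σ ≫ e = p ∧ HasDecomp f (e ≫ a₀) := by
  obtain ⟨J, _, _, 𝔇, τ, π, hπ, haff, hfp, hcomp⟩ := exists_system_of_affine p
  haveI := haff
  let j₀ : J := (IsCofiltered.nonempty (C := J)).some
  have hτ : ∀ {i k : J} (a : i ⟶ k), 𝔇.map a ≫ τ.app k = τ.app i := by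
    intro i k a
    have := τ.naturality a
    simpa using this
  have E1 := HasQBC.exists_stage descendsLim_isFinite u₁ (𝟙 S') 𝔇 τ (Cone.mk _ π) hπ j₀
    (H1.of_eq (hcomp j₀).symm)
  have E3 := HasQBC.exists_stage descendsLim_etale u₁ (𝟙 S') 𝔇 τ (Cone.mk _ π) hπ j₀
    (H3.of_eq (hcomp j₀).symm)
  have E4 := HasQHom.exists_stage descendsLim_Qc u₁ (pullback.snd f a₀) 𝔇 τ (Cone.mk _ π) hπ j₀
    (H4.of_eq (hcomp j₀).symm)
  have M1 : ∀ {j j' : J} (a : j' ⟶ j), HasQBC @IsFinite u₁ (𝟙 S') (τ.app j) →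
      HasQBC @IsFinite u₁ (𝟙 S') (τ.app j') := fun a h => (h.comp (𝔇.map a)).of_eq (hτ a)
  have M3 : ∀ {j j' : J} (a : j' ⟶ j), HasQBC @Etale u₁ (𝟙 S') (τ.app j) →
      HasQBC @Etale u₁ (𝟙 S') (τ.app j') := fun a h => (h.comp (𝔇.map a)).of_eq (hτ a)
  have M4 : ∀ {j j' : J} (a : j' ⟶ j), HasQHom Qc u₁ (pullback.snd f a₀) (τ.app j) →
      HasQHom Qc u₁ (pullback.snd f a₀) (τ.app j') := fun a h => (h.comp (𝔇.map a)).of_eq (hτ a)
  have C13 := exists_common _ _ M1 M3 E1 E3
  obtain ⟨j, ⟨F1, F3⟩, F4⟩ := exists_common _ _ (fun a h => ⟨M1 a h.1, M3 a h.2⟩) M4 C13 E4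
  refine ⟨𝔇.obj j, τ.app j, π.app j, haff j, hfp j, hcomp j, ?_⟩
  set e := τ.app j with he
  obtain ⟨g, hg, hQg⟩ := HasQHom.exists_hom_pullback F4
  have hsq : IsPullback (pullback.snd (pullback.snd f a₀) e)
      (pullback.fst (pullback.snd f a₀) e ≫ pullback.fst f a₀) (e ≫ a₀) f :=
    ((IsPullback.of_hasPullback (pullback.snd f a₀) e).paste_horiz
      (IsPullback.of_hasPullback f a₀)).flip
  haveI := hQg.1
  haveI := hQg.2
  have hfst : (g ≫ hsq.isoPullback.hom) ≫ pullback.fst (e ≫ a₀) f = pullback.snd u₁ e := by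
    rw [Category.assoc, hsq.isoPullback_hom_fst, hg]
  refine ⟨pullback u₁ e, g ≫ hsq.isoPullback.hom, inferInstance, inferInstance, ?_, ?_⟩
  · rw [hfst]
    exact (hasQBC_id_iff u₁ e).mp F1
  · rw [hfst]
    exact (hasQBC_id_iff u₁ e).mp F3

/-- **Local decomposition.** -/
theorem exists_local_decomp {Y X : Scheme.{u}} [IsAffine X] [IsAffine Y] (f : Y ⟶ X)
    [LocallyQuasiFinite f] [LocallyOfFinitePresentation f] (x : X) :
    ∃ (T : Scheme.{u}) (a : T ⟶ X), IsAffine T ∧ LocallyOfFinitePresentation a ∧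
      HasDecomp f a ∧ x ∈ Set.range a := by
  classical
  let k := X.residueField x
  let K := AlgebraicClosure k
  let p₀ : Spec (CommRingCat.of K) ⟶ X :=
    Spec.map (CommRingCat.ofHom (algebraMap k K)) ≫ X.fromSpecResidueField x
  haveI : IsLocallyArtinian (Spec (CommRingCat.of K)) :=
    Scheme.isLocallyArtinianScheme_Spec.mpr inferInstance
  haveI : IsFinite (pullback.snd f p₀) := IsFinite.of_locallyQuasiFinite _
  obtain ⟨ZK, cK, hc1, hc2, hc3, hc4⟩ := exists_red_finite_etale (K := K) (pullback.snd f p₀)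
  let fZ : ZK ⟶ Spec (CommRingCat.of K) := cK ≫ pullback.snd f p₀
  haveI : IsFinite fZ := hc3
  haveI : Etale fZ := hc4
  obtain ⟨J, _, _, 𝔇, τ, π, hπ, haff, hfp, hcomp⟩ := exists_system_of_affine p₀
  haveI := haff
  haveI : ∀ (i j : J) (a : i ⟶ j), IsAffineHom (𝔇.map a) := fun i j a => inferInstance
  let c : Cone 𝔇 := Cone.mk _ π
  obtain ⟨i₁, Z₁, u₁, q₁, _, _, _, hZ₁⟩ := Groth.Agent.S0591.result 𝔇 c hπ _ fZ
  let p : Spec (CommRingCat.of K) ⟶ 𝔇.obj i₁ := π.app i₁
  have hp : p ≫ τ.app i₁ = p₀ := hcomp i₁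
  haveI := hfp i₁
  have H1 : HasQBC @IsFinite u₁ (𝟙 (𝔇.obj i₁)) p :=
    (HasQBC.iff_of_isPullback (IsPullback.of_vert_isIso (fst := p) (snd := 𝟙 _)
      (f := 𝟙 _) (g := p) ⟨by simp⟩) hZ₁).mpr inferInstance
  have H3 : HasQBC @Etale u₁ (𝟙 (𝔇.obj i₁)) p :=
    (HasQBC.iff_of_isPullback (IsPullback.of_vert_isIso (fst := p) (snd := 𝟙 _)
      (f := 𝟙 _) (g := p) ⟨by simp⟩) hZ₁).mpr inferInstance
  let eY : pullback f p₀ ⟶ pullback f (τ.app i₁) :=
    pullback.lift (pullback.fst f p₀) (pullback.snd f p₀ ≫ p)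
      (by rw [Category.assoc, hp]; exact pullback.condition)
  have hY : IsPullback eY (pullback.snd f p₀) (pullback.snd f (τ.app i₁)) p := by
    refine IsPullback.of_right ?_ (pullback.lift_snd _ _ _) (IsPullback.of_hasPullback f (τ.app i₁))
    rw [pullback.lift_fst, hp]
    exact IsPullback.of_hasPullback f p₀
  have H4 : HasQHom Qc u₁ (pullback.snd f (τ.app i₁)) p :=
    ⟨ZK, pullback f p₀, fZ, pullback.snd f p₀, q₁, eY, hZ₁, hY, cK, rfl, ⟨hc1, hc2⟩⟩
  obtain ⟨T, e, σ, hT, hefp, hσe, hD⟩ := hasDecomp_of_fixed f (τ.app i₁) p u₁ H1 H3 H4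
  refine ⟨T, e ≫ τ.app i₁, hT, inferInstance, hD, ?_⟩
  obtain ⟨pt⟩ : Nonempty (Spec (CommRingCat.of K)) := inferInstance
  refine ⟨σ pt, ?_⟩
  have h1 : σ ≫ e ≫ τ.app i₁ = p₀ := by rw [← Category.assoc, hσe, hp]
  have h2 : (e ≫ τ.app i₁) (σ pt) = p₀ pt := by
    rw [← h1]
    rfl
  have h3 : p₀ pt ∈ Set.range (X.fromSpecResidueField x) := ⟨_, rfl⟩
  rw [X.range_fromSpecResidueField x] at h3
  exact h2.trans h3

end Groth.Agent.Lib.Helper12.DecompQF
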