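import Mathlib

/-!
# Helper library (helper12): Dedekind domains are Prüfer (localisations at all primes are
valuation rings)
-/

set_option autoImplicit false
universe u

namespace Groth.Agent.Lib.Helper12.DedekindPruefer

theorem valuationRing_atPrime_bot (R : Type*) [CommRing R] [IsDomain R] :
    ValuationRing (Localization.AtPrime (⊥ : Ideal R)) := by
  rw [ValuationRing.iff_dvd_total]
  refine ⟨fun x y => ?_⟩
  by_cases hx : x = 0
  · right; rw [hx]; exact dvd_zero y
  · left
    obtain ⟨a, s, rfl⟩ := IsLocalization.exists_mk'_eq (⊥ : Ideal R).primeCompl x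
    have ha : a ≠ 0 := by
      rintro rfl
      exact hx (IsLocalization.mk'_zero _)
    have hu : IsUnit (IsLocalization.mk' (Localization.AtPrime (⊥ : Ideal R)) a s) := by
      rw [IsLocalization.AtPrime.isUnit_mk'_iff (Localization.AtPrime (⊥ : Ideal R)) ⊥]
      exact ha
    exact hu.dvd

theorem valuationRing_atPrime_of_dedekind (R : Type*) [CommRing R] [IsDedekindDomain R]
    (p : Ideal R) [hp : p.IsPrime] : ValuationRing (Localization.AtPrime p) := by
  by_cases h : p = ⊥
  · subst h; exact valuationRing_atPrime_bot R
  · haveI : p.IsMaximal := hp.isMaximal h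
    infer_instance

end Groth.Agent.Lib.Helper12.DedekindPruefer
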