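import Mathlib
import Groth.Agent.Lib.Helper12.GenericPts

/-! Openness of loci defined through irreducible components in locally Noetherian schemes. -/

set_option autoImplicit false

open CategoryTheory AlgebraicGeometry TopologicalSpace

universe u

namespace Groth.Agent.Lib.Helper12.DedekindUO

/-- In a locally Noetherian scheme, the set of points all of whose irreducible components satisfy a
given property is open. -/
theorem isOpen_setOf_forall_irreducibleComponents {X : Scheme.{u}} [IsLocallyNoetherian X]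
    (P : Set X → Prop) :
    IsOpen {x : X | ∀ Z ∈ irreducibleComponents (X : Type u), x ∈ Z → P Z} := by
  rw [isOpen_iff_mem_nhds]
  intro x hx
  obtain ⟨V, hV, hxV⟩ : ∃ V : X.Opens, IsAffineOpen V ∧ x ∈ V := by
    obtain ⟨_, ⟨V, hV, rfl⟩, hxV, -⟩ :=
      (X.isBasis_affineOpens).exists_subset_of_mem_open (Set.mem_univ x) isOpen_univ
    exact ⟨V, hV, hxV⟩
  haveI : IsNoetherianRing Γ(X, V) := IsLocallyNoetherian.component_noetherian ⟨V, hV⟩
  haveI : NoetherianSpace ↥(V : Set X) := noetherianSpace_of_isAffineOpen V hV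
  haveI : QuasiSober ↥(V : Set X) := V.isOpenEmbedding'.quasiSober
  set G : Set X := {ζ | ζ ∈ V ∧ closure ({ζ} : Set X) ∈ irreducibleComponents (X : Type u)} with hG
  have hGfin : G.Finite := by
    have hfinV : (genericPoints ↥(V : Set X)).Finite :=
      genericPoints.finite (NoetherianSpace.finite_irreducibleComponents)
    have hsub : G ⊆ Subtype.val '' (genericPoints ↥(V : Set X)) := by
      rintro ζ ⟨hζV, hζ⟩
      refine ⟨⟨ζ, hζV⟩, ?_, rfl⟩
      apply Groth.Agent.Lib.Helper12.mem_irreducibleComponents_of_forall_specializes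
      intro z hz
      have hz' : z.1 ⤳ ζ := (Topology.IsInducing.subtypeVal.specializes_iff).mpr hz
      exact Subtype.ext (Groth.Agent.Lib.Helper12.eq_of_specializes_of_mem_irreducibleComponents hζ hz')
    exact (hfinV.image _).subset hsub
  set B : Set X := {ζ | ζ ∈ G ∧ ¬ ζ ⤳ x} with hB
  have hBfin : B.Finite := hGfin.subset (fun ζ h => h.1)
  set C : Set X := ⋃ ζ ∈ B, closure {ζ} with hCdef
  have hC : IsClosed C := hBfin.isClosed_biUnion (fun ζ _ => isClosed_closure)
  have hxC : x ∉ C := by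
    simp only [hCdef, Set.mem_iUnion, not_exists]
    intro ζ hζ hx
    exact hζ.2 (specializes_iff_mem_closure.mpr hx)
  have hmem : (V : Set X) ∩ Cᶜ ∈ nhds x :=
    (V.isOpen.inter hC.isOpen_compl).mem_nhds ⟨hxV, hxC⟩
  filter_upwards [hmem] with x' hx' Z hZ hx'Z
  obtain ⟨ζ, hζ⟩ := QuasiSober.sober hZ.1 (isClosed_of_mem_irreducibleComponents Z hZ)
  have hZeq : closure {ζ} = Z := hζ.def
  have hζx' : ζ ⤳ x' := by rw [specializes_iff_mem_closure, hZeq]; exact hx'Z
  have hζV : ζ ∈ V := hζx'.mem_open V.isOpen hx'.1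
  have hζG : ζ ∈ G := ⟨hζV, by rw [hZeq]; exact hZ⟩
  have hζx : ζ ⤳ x := by
    by_contra hne
    apply hx'.2
    exact Set.mem_biUnion (⟨hζG, hne⟩ : ζ ∈ B) (by rw [hZeq]; exact hx'Z)
  have hxZ : x ∈ Z := by rw [← hZeq]; exact specializes_iff_mem_closure.mp hζx
  exact hx Z hZ hxZ

end Groth.Agent.Lib.Helper12.DedekindUO
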