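import Mathlib
import Groth.Prelude.Def_EGA43

/-!
# Helper library (helper12): universal openness at a point can be tested on base changes
locally of finite type

* `isOpenAt_includeRight_of_fg`: ring-level core (a neighbourhood of a prime of `S ⊗[R] T` is
  defined over a finitely generated subalgebra of `T`).
* `exists_chart`: affine charts of a fibre product.
* `isUnivOpenAt_of_forall_locallyOfFiniteType`: the reduction.
-/

set_option autoImplicit false
universe u
open AlgebraicGeometry CategoryTheory CategoryTheory.Limits EGA43 TensorProduct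

namespace Groth.Agent.Lib.Helper12.UnivOpenFT

section Top

variable {α β γ δ : Type*} [TopologicalSpace α] [TopologicalSpace β] [TopologicalSpace γ]
  [TopologicalSpace δ]

/-- Transport of openness at a point along a commutative square whose bottom map is open. -/
theorem isOpenAt_of_square (c : α → β) (hc : Continuous c) (b₂ : α → γ) (b₁ : β → δ) (t : γ → δ)
    (ht : IsOpenMap t) (hcomm : ∀ a, b₁ (c a) = t (b₂ a)) (a : α) (h : IsOpenAt b₂ a) :
    IsOpenAt b₁ (c a) := by
  intro N hN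
  have h1 : c ⁻¹' N ∈ nhds a := hc.continuousAt hN
  have h2 : b₂ '' (c ⁻¹' N) ∈ nhds (b₂ a) := h _ h1
  have h3 : t '' (b₂ '' (c ⁻¹' N)) ∈ nhds (t (b₂ a)) := ht.image_mem_nhds h2
  rw [hcomm]
  refine Filter.mem_of_superset h3 ?_
  rintro _ ⟨_, ⟨w, hw, rfl⟩, rfl⟩
  exact ⟨c w, hw, hcomm w⟩

/-- Openness at a point descends along an open map on the source. -/
theorem isOpenAt_of_isOpenMap_comp (c : α → β) (hc : IsOpenMap c) (b₂ : α → γ) (b₁ : β → γ)
    (hcomm : ∀ a, b₁ (c a) = b₂ a) (a : α) (h : IsOpenAt b₁ (c a)) : IsOpenAt b₂ a := by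
  intro N hN
  have h1 : c '' N ∈ nhds (c a) := hc.image_mem_nhds hN
  have h2 : b₁ '' (c '' N) ∈ nhds (b₁ (c a)) := h _ h1
  rw [hcomm] at h2
  refine Filter.mem_of_superset h2 ?_
  rintro _ ⟨_, ⟨w, hw, rfl⟩, rfl⟩
  exact ⟨w, hw, (hcomm w).symm⟩

end Top

section Ring

variable (R S T : Type u) [CommRing R] [CommRing S] [CommRing T] [Algebra R S] [Algebra R T]

/-- The morphism `Spec (S ⊗[R] T) ⟶ Spec T`. -/
noncomputable abbrev specInr : Spec (CommRingCat.of (S ⊗[R] T)) ⟶ Spec (CommRingCat.of T) :=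
  Spec.map (CommRingCat.ofHom (Algebra.TensorProduct.includeRight (R := R) (A := S) (B := T)).toRingHom)

/-- The morphism `Spec (S ⊗[R] T) ⟶ Spec S`. -/
noncomputable abbrev specInl : Spec (CommRingCat.of (S ⊗[R] T)) ⟶ Spec (CommRingCat.of S) :=
  Spec.map (CommRingCat.ofHom (Algebra.TensorProduct.includeLeftRingHom (R := R) (A := S) (B := T)))

/-- **Ring-level core.** The projection `Spec (S ⊗[R] T) ⟶ Spec T` is open at `P` as soon as, for
all finitely generated subalgebras `T₁` of `T`, the projection `Spec (S ⊗[R] T₁) ⟶ Spec T₁` is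
open at the points lying over the image of `P` in `Spec S`. -/
theorem isOpenAt_specInr_of_fg (P : ↥(Spec (CommRingCat.of (S ⊗[R] T))))
    (H : ∀ T₁ : Subalgebra R T, T₁.FG → ∀ P₁ : ↥(Spec (CommRingCat.of (S ⊗[R] T₁))),
      (specInl R S T₁).base P₁ = (specInl R S T).base P → IsOpenAt (specInr R S T₁).base P₁) :
    IsOpenAt (specInr R S T).base P := by
  classical
  intro N hN
  -- a basic open neighbourhood
  obtain ⟨_, ⟨h, rfl⟩, hPh, hhN⟩ :=
    (PrimeSpectrum.isTopologicalBasis_basic_opens (R := S ⊗[R] T)).exists_subset_of_mem_open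
      (mem_interior_iff_mem_nhds.mpr hN) isOpen_interior
  -- `h` is defined over a finitely generated subalgebra
  obtain ⟨F, hF⟩ := TensorProduct.exists_finset h
  set T₁ : Subalgebra R T := Algebra.adjoin R ((F.image Prod.snd : Finset T) : Set T) with hT₁
  have hT₁fg : T₁.FG := Subalgebra.fg_adjoin_finset _
  have hmem : ∀ p ∈ F, p.2 ∈ T₁ := fun p hp =>
    Algebra.subset_adjoin (Finset.mem_coe.mpr (Finset.mem_image_of_mem Prod.snd hp))
  set h₁ : S ⊗[R] T₁ := ∑ p ∈ F.attach, p.1.1 ⊗ₜ[R] (⟨p.1.2, hmem p.1 p.2⟩ : T₁) with hh₁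
  set ψ : S ⊗[R] T₁ →ₐ[R] S ⊗[R] T := Algebra.TensorProduct.map (AlgHom.id R S) T₁.val with hψ
  have hψh : ψ h₁ = h := by
    rw [hh₁, map_sum, hF, ← Finset.sum_attach F (fun p => p.1 ⊗ₜ[R] p.2)]
    refine Finset.sum_congr rfl fun p _ => ?_
    simp [hψ]
  -- the squares
  have big : IsPullback (specInl R S T) (specInr R S T)
      (Spec.map (CommRingCat.ofHom (algebraMap R S))) (Spec.map (CommRingCat.ofHom (algebraMap R T))) :=
    isPullback_SpecMap_of_isPushout _ _ _ _ (CommRingCat.isPushout_tensorProduct R S T)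
  have right : IsPullback (specInl R S T₁) (specInr R S T₁)
      (Spec.map (CommRingCat.ofHom (algebraMap R S)))
      (Spec.map (CommRingCat.ofHom (algebraMap R T₁))) :=
    isPullback_SpecMap_of_isPushout _ _ _ _ (CommRingCat.isPushout_tensorProduct R S T₁)
  set Ψ : Spec (CommRingCat.of (S ⊗[R] T)) ⟶ Spec (CommRingCat.of (S ⊗[R] T₁)) :=
    Spec.map (CommRingCat.ofHom ψ.toRingHom) with hΨ
  set ν : Spec (CommRingCat.of T) ⟶ Spec (CommRingCat.of T₁) :=
    Spec.map (CommRingCat.ofHom T₁.val.toRingHom) with hν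
  have e1 : Ψ ≫ specInl R S T₁ = specInl R S T := by
    rw [hΨ, ← Spec.map_comp]
    congr 1
  have e2 : ν ≫ Spec.map (CommRingCat.ofHom (algebraMap R T₁)) =
      Spec.map (CommRingCat.ofHom (algebraMap R T)) := by
    rw [hν, ← Spec.map_comp]
    congr 1
  have e3 : Ψ ≫ specInr R S T₁ = specInr R S T ≫ ν := by
    rw [hΨ, hν, ← Spec.map_comp, ← Spec.map_comp]
    congr 1
  have left : IsPullback Ψ (specInr R S T) (specInr R S T₁) ν := by
    refine IsPullback.of_right ?_ e3 right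
    rw [e1, e2]
    exact big
  have himg := Scheme.image_preimage_eq_of_isPullback left
    (PrimeSpectrum.basicOpen h₁ : Set (PrimeSpectrum (S ⊗[R] T₁)))
  have hpre : Ψ.base ⁻¹' (PrimeSpectrum.basicOpen h₁ : Set (PrimeSpectrum (S ⊗[R] T₁))) =
      (PrimeSpectrum.basicOpen h : Set (PrimeSpectrum (S ⊗[R] T))) := by
    ext Q
    show h₁ ∉ (Q.asIdeal.comap ψ.toRingHom) ↔ h ∉ Q.asIdeal
    rw [Ideal.mem_comap, ← hψh]
    rfl
  rw [hpre] at himg
  -- openness at the finite stage
  set P₁ := Ψ.base P with hP₁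
  have hP₁mem : P₁ ∈ (PrimeSpectrum.basicOpen h₁ : Set (PrimeSpectrum (S ⊗[R] T₁))) := by
    have : P ∈ Ψ.base ⁻¹' (PrimeSpectrum.basicOpen h₁ : Set (PrimeSpectrum (S ⊗[R] T₁))) := by
      rw [hpre]; exact hPh
    exact this
  have hP₁S : (specInl R S T₁).base P₁ = (specInl R S T).base P := by
    rw [hP₁, ← Scheme.Hom.comp_apply, e1]
  have hopen := H T₁ hT₁fg P₁ hP₁S
  have h1 : (specInr R S T₁).base '' (PrimeSpectrum.basicOpen h₁ : Set (PrimeSpectrum (S ⊗[R] T₁))) ∈
      nhds ((specInr R S T₁).base P₁) :=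
    hopen _ ((PrimeSpectrum.basicOpen h₁).2.mem_nhds hP₁mem)
  have h2 : (specInr R S T₁).base P₁ = ν.base ((specInr R S T).base P) := by
    rw [hP₁, ← Scheme.Hom.comp_apply, e3, Scheme.Hom.comp_apply]
  rw [h2] at h1
  have h3 := ν.continuous.continuousAt h1
  have h4 : ν.base ⁻¹' ((specInr R S T₁).base ''
      (PrimeSpectrum.basicOpen h₁ : Set (PrimeSpectrum (S ⊗[R] T₁)))) ∈
      nhds ((specInr R S T).base P) := h3
  rw [← himg] at h4
  refine Filter.mem_of_superset h4 (Set.image_mono ?_)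
  exact hhN.trans interior_subset

end Ring

section Chart

variable {X Y Y' : Scheme.{u}} (f : X ⟶ Y) (g : Y' ⟶ Y)

/-- Affine charts of a fibre product. -/
theorem exists_chart (R S T : Type u) [CommRing R] [CommRing S] [CommRing T] [Algebra R S]
    [Algebra R T] (iX : Spec (CommRingCat.of S) ⟶ X) (iY : Spec (CommRingCat.of R) ⟶ Y)
    (iY' : Spec (CommRingCat.of T) ⟶ Y') [IsOpenImmersion iX] [IsOpenImmersion iY]
    [IsOpenImmersion iY']
    (e₁ : Spec.map (CommRingCat.ofHom (algebraMap R S)) ≫ iY = iX ≫ f)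
    (e₂ : Spec.map (CommRingCat.ofHom (algebraMap R T)) ≫ iY = iY' ≫ g) :
    ∃ c : Spec (CommRingCat.of (S ⊗[R] T)) ⟶ pullback f g, IsOpenImmersion c ∧
      c ≫ pullback.fst f g = specInl R S T ≫ iX ∧
      c ≫ pullback.snd f g = specInr R S T ≫ iY' ∧
      Set.range c.base = (pullback.fst f g).base ⁻¹' Set.range iX.base ∩
        (pullback.snd f g).base ⁻¹' Set.range iY'.base := by
  set m := pullback.map (Spec.map (CommRingCat.ofHom (algebraMap R S)))
    (Spec.map (CommRingCat.ofHom (algebraMap R T))) f g iX iY' iY e₁ e₂ with hm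
  refine ⟨(pullbackSpecIso R S T).inv ≫ m, inferInstance, ?_, ?_, ?_⟩
  · rw [Category.assoc, hm, pullback.lift_fst, ← Category.assoc, pullbackSpecIso_inv_fst]
  · rw [Category.assoc, hm, pullback.lift_snd, ← Category.assoc, pullbackSpecIso_inv_snd]
    rfl
  · have h1 : Set.range ((pullbackSpecIso R S T).inv ≫ m).base = Set.range m.base := by
      rw [Scheme.Hom.comp_base, TopCat.coe_comp, Set.range_comp]
      have hsurj : Function.Surjective (pullbackSpecIso R S T).inv.base :=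
        (Scheme.homeoOfIso (pullbackSpecIso R S T).symm).surjective
      rw [hsurj.range_eq, Set.image_univ]
    rw [h1, hm]
    exact Scheme.Pullback.range_map _ _ _ _ _ _ _ _ _

end Chart

section Main

variable {X Y : Scheme.{u}} (f : X ⟶ Y) (x : X)

/-- **Universal openness at a point can be tested on base changes locally of finite type.** -/
theorem isUnivOpenAt_of_forall_locallyOfFiniteType
    (h : ∀ (Y₁ : Scheme.{u}) (g₁ : Y₁ ⟶ Y), LocallyOfFiniteType g₁ →
      ∀ x₁ : ↥(pullback f g₁), (pullback.fst f g₁).base x₁ = x →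
        IsOpenAt (pullback.snd f g₁).base x₁) :
    IsUnivOpenAt f x := by
  intro Y' g x' hx'
  set y' := (pullback.snd f g).base x' with hy'
  have hcond : f.base x = g.base y' := by
    rw [← hx', hy', ← Scheme.Hom.comp_apply, ← Scheme.Hom.comp_apply, pullback.condition]
  -- affine charts
  obtain ⟨_, ⟨V, hV, rfl⟩, hxV, -⟩ := Y.isBasis_affineOpens.exists_subset_of_mem_open
    (Set.mem_univ (f.base x)) isOpen_univ
  obtain ⟨_, ⟨U, hU, rfl⟩, hxU, hUV⟩ := X.isBasis_affineOpens.exists_subset_of_mem_open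
    (show x ∈ ((f ⁻¹ᵁ V : X.Opens) : Set X) from hxV) (f ⁻¹ᵁ V).2
  obtain ⟨_, ⟨V', hV', rfl⟩, hyV', hV'V⟩ := Y'.isBasis_affineOpens.exists_subset_of_mem_open
    (show y' ∈ ((g ⁻¹ᵁ V : Y'.Opens) : Set Y') from by
      show g.base y' ∈ (V : Set Y)
      rw [← hcond]; exact hxV) (g ⁻¹ᵁ V).2
  have eU : U ≤ f ⁻¹ᵁ V := hUV
  have eV' : V' ≤ g ⁻¹ᵁ V := hV'V
  letI algS : Algebra Γ(Y, V) Γ(X, U) := (f.appLE V U eU).hom.toAlgebra
  letI algT : Algebra Γ(Y, V) Γ(Y', V') := (g.appLE V V' eV').hom.toAlgebra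
  have e₁ : Spec.map (CommRingCat.ofHom (algebraMap Γ(Y, V) Γ(X, U))) ≫ hV.fromSpec =
      hU.fromSpec ≫ f := IsAffineOpen.SpecMap_appLE_fromSpec f hV hU eU
  have e₂ : Spec.map (CommRingCat.ofHom (algebraMap Γ(Y, V) Γ(Y', V'))) ≫ hV.fromSpec =
      hV'.fromSpec ≫ g := IsAffineOpen.SpecMap_appLE_fromSpec g hV hV' eV'
  obtain ⟨c, hcO, hc1, hc2, hcr⟩ := exists_chart f g Γ(Y, V) Γ(X, U) Γ(Y', V')
    hU.fromSpec hV.fromSpec hV'.fromSpec e₁ e₂
  obtain ⟨q, hq⟩ : x' ∈ Set.range c.base := by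
    rw [hcr]
    refine ⟨?_, ?_⟩
    · show (pullback.fst f g).base x' ∈ Set.range hU.fromSpec.base
      rw [hU.range_fromSpec, hx']; exact hxU
    · show (pullback.snd f g).base x' ∈ Set.range hV'.fromSpec.base
      rw [hV'.range_fromSpec]; exact hyV'
  -- the ring-level statement
  have key : IsOpenAt (specInr Γ(Y, V) Γ(X, U) Γ(Y', V')).base q := by
    refine isOpenAt_specInr_of_fg _ _ _ q ?_
    intro T₁ hT₁ P₁ hP₁
    set g₁ : Spec (CommRingCat.of T₁) ⟶ Y :=
      Spec.map (CommRingCat.ofHom (algebraMap Γ(Y, V) T₁)) ≫ hV.fromSpec with hg₁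
    haveI : Algebra.FiniteType Γ(Y, V) T₁ := (Subalgebra.fg_iff_finiteType T₁).mp hT₁
    have hft : LocallyOfFiniteType g₁ := by
      haveI : LocallyOfFiniteType (Spec.map (CommRingCat.ofHom (algebraMap Γ(Y, V) T₁))) := by
        rw [HasRingHomProperty.Spec_iff (P := @LocallyOfFiniteType)]
        exact (RingHom.finiteType_algebraMap).mpr inferInstance
      rw [hg₁]; infer_instance
    have e₂' : Spec.map (CommRingCat.ofHom (algebraMap Γ(Y, V) T₁)) ≫ hV.fromSpec =
        𝟙 (Spec (CommRingCat.of T₁)) ≫ g₁ := by rw [Category.id_comp]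
    obtain ⟨c₁, hc₁O, hc₁1, hc₁2, -⟩ := exists_chart f g₁ Γ(Y, V) Γ(X, U) T₁
      hU.fromSpec hV.fromSpec (𝟙 _) e₁ e₂'
    have hfst : (pullback.fst f g₁).base (c₁.base P₁) = x := by
      rw [← Scheme.Hom.comp_apply, hc₁1, Scheme.Hom.comp_apply, hP₁, ← Scheme.Hom.comp_apply,
        ← hc1, Scheme.Hom.comp_apply, hq, hx']
    have hop := h _ g₁ hft (c₁.base P₁) hfst
    refine isOpenAt_of_isOpenMap_comp c₁.base c₁.isOpenEmbedding.isOpenMap _ _ ?_ P₁ hop
    intro a
    rw [← Scheme.Hom.comp_apply, hc₁2, Category.comp_id]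
  -- transport to the fibre product
  have := isOpenAt_of_square c.base c.continuous (specInr Γ(Y, V) Γ(X, U) Γ(Y', V')).base
    (pullback.snd f g).base hV'.fromSpec.base hV'.fromSpec.isOpenEmbedding.isOpenMap
    (fun a => by rw [← Scheme.Hom.comp_apply, hc2, Scheme.Hom.comp_apply]) q key
  rw [hq] at this
  exact this

end Main

end Groth.Agent.Lib.Helper12.UnivOpenFT
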