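import Mathlib

/-!
# Helper library (helper12): local algebra for the "section component over a DVR" argument

* `eq_bot_of_le_span_singleton`: in a Noetherian local ring, a prime strictly below a principal
  prime `(b)` is zero.
* `exists_basicOpen_isIrreducible`: if the localization of a Noetherian ring `C` at a prime `p`
  is a domain, some basic open neighbourhood of `p` in `Spec C` is irreducible.
-/

set_option autoImplicit false
universe u v

namespace Groth.Agent.Lib.Helper12.DvrSecAlg

/-- In a Noetherian local ring, a prime ideal contained in a principal ideal `(b)` and not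
containing `b` is zero. -/
theorem eq_bot_of_le_span_singleton {B : Type*} [CommRing B] [IsNoetherianRing B] [IsLocalRing B]
    (b : B) (hb : b ∈ IsLocalRing.maximalIdeal B) (q : Ideal B) [hq' : q.IsPrime]
    (hq : q ≤ Ideal.span {b}) (hbq : b ∉ q) : q = ⊥ := by
  refine Submodule.eq_bot_of_le_smul_of_le_jacobson_bot (Ideal.span {b}) q
    (IsNoetherian.noetherian q) ?_ ?_
  · intro c hc
    obtain ⟨c₁, rfl⟩ := Ideal.mem_span_singleton'.mp (hq hc)
    have h1 : c₁ ∈ q := (hq'.mem_or_mem hc).resolve_right hbq
    rw [mul_comm]
    exact Submodule.smul_mem_smul (Ideal.mem_span_singleton_self b) h1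
  · rw [IsLocalRing.jacobson_eq_maximalIdeal ⊥ bot_ne_top]
    exact (Ideal.span_singleton_le_iff_mem _).mpr hb

/-- A ring in which the zero ideal is prime is a domain. -/
theorem isDomain_of_bot_isPrime {B : Type*} [CommRing B] (h : (⊥ : Ideal B).IsPrime) :
    IsDomain B := by
  have h1 : IsDomain (B ⧸ (⊥ : Ideal B)) := (Ideal.Quotient.isDomain_iff_prime ⊥).mpr h
  exact (RingEquiv.quotientBot B).symm.toMulEquiv.isDomain_iff.mpr h1 |> fun h => h

/-- If the localization of a Noetherian ring at a prime is a domain, then some basic open
neighbourhood of that prime is irreducible. -/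
theorem exists_basicOpen_isIrreducible {C : Type u} [CommRing C] [IsNoetherianRing C]
    (p : PrimeSpectrum C) (S : Type v) [CommRing S] [Algebra C S]
    [IsLocalization.AtPrime S p.asIdeal] [IsDomain S] :
    ∃ t : C, t ∉ p.asIdeal ∧
      IsIrreducible (PrimeSpectrum.basicOpen t : Set (PrimeSpectrum C)) := by
  classical
  set N : Ideal C := RingHom.ker (algebraMap C S) with hN
  have hfg : N.FG := IsNoetherian.noetherian N
  have hkill : ∀ n ∈ N, ∃ s : C, s ∉ p.asIdeal ∧ s * n = 0 := by
    intro n hn
    have h0 : algebraMap C S n = algebraMap C S 0 := by rw [map_zero]; exact hn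
    obtain ⟨c, hc⟩ := (IsLocalization.eq_iff_exists p.asIdeal.primeCompl S).mp h0
    exact ⟨c, c.2, by rw [hc, mul_zero]⟩
  obtain ⟨t, htp, ht⟩ : ∃ t : C, t ∉ p.asIdeal ∧ ∀ n ∈ N, t * n = 0 := by
    obtain ⟨G, hG⟩ := hfg
    have key : ∀ G' : Finset C, (∀ n ∈ G', n ∈ N) →
        ∃ t : C, t ∉ p.asIdeal ∧ ∀ n ∈ G', t * n = 0 := by
      intro G'
      induction G' using Finset.induction_on with
      | empty => intro _; exact ⟨1, p.asIdeal.one_notMem, by simp⟩
      | insert a G'' _ ih =>
        intro h
        obtain ⟨t₁, ht₁p, ht₁⟩ := ih (fun n hn => h n (Finset.mem_insert_of_mem hn))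
        obtain ⟨s, hsp, hs⟩ := hkill a (h a (Finset.mem_insert_self a G''))
        refine ⟨s * t₁, fun hmem => ?_, ?_⟩
        · rcases p.isPrime.mem_or_mem hmem with h1 | h1
          · exact hsp h1
          · exact ht₁p h1
        · intro n hn
          rcases Finset.mem_insert.mp hn with rfl | hn'
          · rw [mul_comm s t₁, mul_assoc, hs, mul_zero]
          · rw [mul_assoc, ht₁ n hn', mul_zero]
    obtain ⟨t, htp, ht⟩ := key G (fun n hn => by
      rw [← hG]; exact Submodule.subset_span hn)
    refine ⟨t, htp, ?_⟩
    intro n hn
    rw [← hG] at hn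
    induction hn using Submodule.span_induction with
    | mem x hx => exact ht x hx
    | zero => exact mul_zero t
    | add x y _ _ hx hy => rw [mul_add, hx, hy, add_zero]
    | smul a x _ hx => rw [smul_eq_mul, mul_left_comm, hx, mul_zero]
  refine ⟨t, htp, ?_⟩
  -- the localization away from `t` embeds in `S`
  have htunit : IsUnit (algebraMap C S t) :=
    IsLocalization.map_units S (⟨t, htp⟩ : p.asIdeal.primeCompl)
  have hunits : ∀ y : Submonoid.powers t, IsUnit (algebraMap C S y) := by
    rintro ⟨_, k, rfl⟩
    rw [map_pow]
    exact htunit.pow k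
  let ψ : Localization.Away t →+* S := IsLocalization.lift (M := Submonoid.powers t) hunits
  have hψinj : Function.Injective ψ := by
    rw [IsLocalization.lift_injective_iff]
    intro a b
    constructor
    · intro hab
      have := congrArg ψ hab
      simpa [ψ, IsLocalization.lift_eq] using this
    · intro hab
      have h1 : a - b ∈ N := by
        rw [hN, RingHom.mem_ker, map_sub, hab, sub_self]
      have h2 : t * (a - b) = 0 := ht _ h1
      have h3 : algebraMap C (Localization.Away t) t * (algebraMap C (Localization.Away t) a -
          algebraMap C (Localization.Away t) b) = 0 := by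
        rw [← map_sub, ← map_mul, h2, map_zero]
      have h4 : IsUnit (algebraMap C (Localization.Away t) t) :=
        IsLocalization.Away.algebraMap_isUnit t
      exact sub_eq_zero.mp ((h4.mul_right_eq_zero).mp h3)
  haveI : Nontrivial (Localization.Away t) := by
    refine ⟨⟨0, 1, fun h01 => ?_⟩⟩
    have := congrArg ψ h01
    rw [map_zero, map_one] at this
    exact zero_ne_one this
  haveI : IsDomain (Localization.Away t) := hψinj.isDomain ψ
  have hrange : Set.range (PrimeSpectrum.comap (algebraMap C (Localization.Away t))) =
      (PrimeSpectrum.basicOpen t : Set (PrimeSpectrum C)) :=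
    PrimeSpectrum.localization_away_comap_range (Localization.Away t) t
  rw [← hrange, ← Set.image_univ]
  exact (IrreducibleSpace.isIrreducible_univ _).image _
    (PrimeSpectrum.continuous_comap (algebraMap C (Localization.Away t))).continuousOn

end Groth.Agent.Lib.Helper12.DvrSecAlg
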