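import Mathlib
import Groth.Prelude.Def_Found
import Groth.Prelude.Def_EGA43
import Groth.Agent.Lib.Helper12.BaseChange3
import Groth.Agent.Lib.Helper12.OpenFibre3
import Groth.Agent.S6460

/-!
# Helper library (helper12): equidimensional morphisms under flat base change (EGA IV 13.3.8)
-/

set_option autoImplicit false
universe u
open AlgebraicGeometry CategoryTheory Opposite TensorProduct Limits

namespace Groth.Agent.Lib.Helper12.BaseChange

open Groth.Agent.Lib.Helper12 Groth.Agent.Lib.Helper12.SchemeDimFT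

attribute [local instance] bcOver
attribute [local instance] Algebra.TensorProduct.rightAlgebra

section Field

theorem topologicalKrullDim_closure_singleton_homeomorph {A B : Type*} [TopologicalSpace A]
    [TopologicalSpace B] (h : A ≃ₜ B) (a : A) :
    topologicalKrullDim ↥(closure ({a} : Set A)) = topologicalKrullDim ↥(closure ({h a} : Set B)) := by
  have h1 := IsHomeomorph.topologicalKrullDim_eq _ (h.image (closure ({a} : Set A))).isHomeomorph
  rw [h1]
  have : (h '' closure ({a} : Set A)) = closure ({h a} : Set B) := by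
    rw [h.image_closure, Set.image_singleton]
  rw [this]

/-- Maximal points in a pullback along a field extension. -/
theorem isMaxPt_of_isPullback_field {Z Z' : Scheme.{u}} (k K : Type u)
    [Field k] [Field K] (φ : k →+* K) (p : Z ⟶ Spec (CommRingCat.of k)) [LocallyOfFiniteType p]
    (a : Z' ⟶ Z) (b : Z' ⟶ Spec (CommRingCat.of K))
    (h : IsPullback a b p (Spec.map (CommRingCat.ofHom φ))) (w : Z') (hw : IsMaxPt w) :
    IsMaxPt (a w) ∧ topologicalKrullDim ↥(closure ({w} : Set Z')) =
      topologicalKrullDim ↥(closure ({a w} : Set Z)) := by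
  letI : Algebra k K := φ.toAlgebra
  letI : Z.Over (Spec (CommRingCat.of k)) := ⟨p⟩
  haveI : LocallyOfFiniteType (Z ↘ Spec (CommRingCat.of k)) := ‹LocallyOfFiniteType p›
  let e : Z' ≅ Curv2.bc k Z K := h.isoPullback
  let he : Z' ≃ₜ Curv2.bc k Z K := Scheme.homeoOfIso e
  have h2 : e.hom ≫ Curv2.bcFst k Z K = a := h.isoPullback_hom_fst
  have h3 : Curv2.bcFst k Z K (he w) = a w := congrArg (fun ψ : Z' ⟶ Z => ψ w) h2
  have hw1 : IsMaxPt (he w) := by
    intro t ht
    have h4 : he.symm t ⤳ w := by
      have := ht.map he.symm.continuous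
      rwa [he.symm_apply_apply] at this
    have h5 := hw _ h4
    rw [← h5, he.apply_symm_apply]
  refine ⟨?_, ?_⟩
  · rw [← h3]
    exact isMaxPt_bcFst k Z K (he w) hw1
  · rw [topologicalKrullDim_closure_singleton_homeomorph he w,
      topologicalKrullDim_closure_singleton K (Curv2.bc k Z K) (he w),
      tr_eq_of_isMaxPt k Z K (he w) hw1, h3, topologicalKrullDim_closure_singleton k Z (a w)]

end Field

section Fib

open Groth.Agent.Lib.Helper12.SchemeDimIneq Groth.Agent.Lib.Helper12.ClosedSub
  Groth.Agent.Lib.Helper12.EquidimSub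

variable {X Y Y' : Scheme.{u}} (f : X ⟶ Y) [LocallyOfFiniteType f] (g : Y' ⟶ Y)

/-- A point of a base change which is maximal in its fibre maps to a point which is maximal
in its fibre, with the same transcendence degree. -/
theorem max_fibre_pullback (z' : ↥(pullback f g))
    (hmax : ∀ t : ↥(pullback f g), (pullback.snd f g) t = (pullback.snd f g) z' → t ⤳ z' →
      t = z') :
    (∀ t : X, f t = f ((pullback.fst f g) z') → t ⤳ (pullback.fst f g) z' →
      t = (pullback.fst f g) z') ∧
    trn (pullback.snd f g) z' = trn f ((pullback.fst f g) z') := by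
  set f' := pullback.snd f g with hf'
  set p₁ := pullback.fst f g with hp₁
  set y' := f' z' with hy'
  have hsq : IsPullback p₁ f' f g := IsPullback.of_hasPullback f g
  let A : f'.fiber y' ⟶ f.fiber (g y') :=
    pullback.map f' (Y'.fromSpecResidueField y') f (Y.fromSpecResidueField (g y')) p₁
      (Spec.map (g.residueFieldMap y')) g hsq.w.symm (by simp)
  have hP : IsPullback A (f'.fiberToSpecResidueField y') (f.fiberToSpecResidueField (g y'))
      (Spec.map (g.residueFieldMap y')) :=
    isPullback_fiberToSpecResidueField_of_isPullback hsq y'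
  have hAι : A ≫ f.fiberι (g y') = f'.fiberι y' ≫ p₁ := pullback.lift_fst _ _ _
  letI ovF : (f.fiber (g y')).Over (Spec (CommRingCat.of (Y.residueField (g y')))) :=
    ⟨f.fiberToSpecResidueField (g y')⟩
  haveI lft : LocallyOfFiniteType (f.fiberToSpecResidueField (g y')) :=
    FibreRes.locallyOfFiniteType_fiberToSpecResidueField f (g y')
  haveI lft2 : LocallyOfFiniteType ((f.fiber (g y')) ↘ Spec (CommRingCat.of (Y.residueField (g y')))) :=
    FibreRes.locallyOfFiniteType_fiberToSpecResidueField f (g y')
  haveI : LocallyOfFiniteType f' := MorphismProperty.pullback_snd (P := @LocallyOfFiniteType) f g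
    inferInstance
  letI ovF' : (f'.fiber y').Over (Spec (CommRingCat.of (Y'.residueField y'))) :=
    ⟨f'.fiberToSpecResidueField y'⟩
  haveI lft' : LocallyOfFiniteType ((f'.fiber y') ↘ Spec (CommRingCat.of (Y'.residueField y'))) :=
    FibreRes.locallyOfFiniteType_fiberToSpecResidueField f' y'
  let w : f'.fiber y' := f'.asFiber z'
  have hwι : f'.fiberι y' w = z' := f'.fiberι_asFiber z'
  have hw : IsMaxPt w := by
    intro t ht
    have h2 := ht.map (f'.fiberι y').continuous
    rw [hwι] at h2
    have h3 : f' (f'.fiberι y' t) = f' z' := apply_fiberι f' y' t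
    have h4 := hmax _ h3 h2
    exact (f'.fiberι y').isEmbedding.injective (h4.trans hwι.symm)
  obtain ⟨hAw, hdim⟩ := isMaxPt_of_isPullback_field (Y.residueField (g y')) (Y'.residueField y')
    (g.residueFieldMap y').hom (f.fiberToSpecResidueField (g y')) A
    (f'.fiberToSpecResidueField y') hP w hw
  have hAwι : f.fiberι (g y') (A w) = p₁ z' := by
    have h5 : (A ≫ f.fiberι (g y')) w = (f'.fiberι y' ≫ p₁) w := by rw [hAι]
    rw [Scheme.Hom.comp_apply, Scheme.Hom.comp_apply, hwι] at h5
    exact h5
  have hfz : f (p₁ z') = g y' := by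
    have := congrArg (fun ψ : pullback f g ⟶ Y => ψ z') hsq.w
    simpa using this
  refine ⟨?_, ?_⟩
  · intro t ht hsp
    have ht' : f t = g y' := ht.trans hfz
    have hζ' : f.fiberι (g y') ((f.fiberHomeo (g y')).symm ⟨t, ht'⟩) = t :=
      f.fiberι_fiberHomeo_symm (g y') ⟨t, ht'⟩
    have h1 : (f.fiberHomeo (g y')).symm ⟨t, ht'⟩ ⤳ A w := by
      apply (f.fiberι (g y')).isEmbedding.isInducing.specializes_iff.mp
      rw [hζ', hAwι]; exact hsp
    rw [← hζ', hAw _ h1, hAwι]
  · have e1 := trn_eq_tr_of_fiber f' z' y' rfl w hwι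
    have e2 := trn_eq_tr_of_fiber f (p₁ z') (g y') hfz (A w) hAwι
    have e3 := topologicalKrullDim_closure_singleton (Y'.residueField y') (f'.fiber y') w
    have e4 := topologicalKrullDim_closure_singleton (Y.residueField (g y')) (f.fiber (g y')) (A w)
    rw [e3, e4] at hdim
    rw [e1, e2]
    have : tr (Y'.residueField y') (f'.fiber y') w = tr (Y.residueField (g y')) (f.fiber (g y')) (A w) := by
      exact_mod_cast hdim
    rw [this]

end Fib

section Max

variable {X Y Y' : Scheme.{u}} (f : X ⟶ Y) (g : Y' ⟶ Y)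

theorem flat_SpecMap_residueFieldMap (x : X) : Flat (Spec.map (f.residueFieldMap x)) := by
  rw [HasRingHomProperty.Spec_iff (P := @Flat)]
  letI := (f.residueFieldMap x).hom.toAlgebra
  show Module.Flat (Y.residueField (f x)) (X.residueField x)
  infer_instance

/-- Flat base change maps maximal points to maximal points. -/
theorem isMaxPt_fst_of_flat [Flat g] (ξ' : ↥(pullback f g)) (h : IsMaxPt ξ') :
    IsMaxPt ((pullback.fst f g) ξ') := by
  haveI : Flat (pullback.fst f g) := MorphismProperty.pullback_fst (P := @Flat) f g inferInstance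
  have hgen : GeneralizingMap (pullback.fst f g) := Flat.generalizingMap _
  intro t ht
  obtain ⟨t', ht', rfl⟩ := hgen ht
  rw [h t' ht']

/-- A maximal point of a base change, lying over a point of `X` over a maximal point of `Y`,
lies over a maximal point of `Y'`. -/
theorem isMaxPt_snd (ξ' : ↥(pullback f g)) (h : IsMaxPt ξ')
    (hη : IsMaxPt (f ((pullback.fst f g) ξ'))) : IsMaxPt ((pullback.snd f g) ξ') := by
  set f' := pullback.snd f g with hf'
  set p₁ := pullback.fst f g with hp₁
  set ξ := p₁ ξ' with hξ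
  have hsq : IsPullback f' p₁ g f := (IsPullback.of_hasPullback f g).flip
  let B : p₁.fiber ξ ⟶ g.fiber (f ξ) :=
    pullback.map p₁ (X.fromSpecResidueField ξ) g (Y.fromSpecResidueField (f ξ)) f'
      (Spec.map (f.residueFieldMap ξ)) f hsq.w.symm (by simp)
  have hP : IsPullback B (p₁.fiberToSpecResidueField ξ) (g.fiberToSpecResidueField (f ξ))
      (Spec.map (f.residueFieldMap ξ)) :=
    isPullback_fiberToSpecResidueField_of_isPullback hsq ξ
  have hBι : B ≫ g.fiberι (f ξ) = p₁.fiberι ξ ≫ f' := pullback.lift_fst _ _ _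
  haveI : Flat B := MorphismProperty.of_isPullback (P := @Flat) hP.flip
    (flat_SpecMap_residueFieldMap f ξ)
  have hgen : GeneralizingMap B := Flat.generalizingMap _
  let w : p₁.fiber ξ := p₁.asFiber ξ'
  have hwι : p₁.fiberι ξ w = ξ' := p₁.fiberι_asFiber ξ'
  have hBw : g.fiberι (f ξ) (B w) = f' ξ' := by
    have h5 : (B ≫ g.fiberι (f ξ)) w = (p₁.fiberι ξ ≫ f') w := by rw [hBι]
    rw [Scheme.Hom.comp_apply, Scheme.Hom.comp_apply, hwι] at h5
    exact h5
  have hgη : g (f' ξ') = f ξ := by
    have := congrArg (fun ψ : pullback f g ⟶ Y => ψ ξ') hsq.w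
    simpa using this
  intro η'' hη''
  have h1 : g η'' = f ξ := by
    have h2 : g η'' ⤳ f ξ := by rw [← hgη]; exact hη''.map g.continuous
    exact hη _ h2
  let v'' : g.fiber (f ξ) := (g.fiberHomeo (f ξ)).symm ⟨η'', h1⟩
  have hv'' : g.fiberι (f ξ) v'' = η'' := g.fiberι_fiberHomeo_symm (f ξ) ⟨η'', h1⟩
  have hsp : v'' ⤳ B w := by
    apply (g.fiberι (f ξ)).isEmbedding.isInducing.specializes_iff.mp
    rw [hv'', hBw]; exact hη''
  obtain ⟨w'', hw'', hBw''⟩ := hgen hsp
  have h3 : p₁.fiberι ξ w'' ⤳ ξ' := by
    rw [← hwι]; exact hw''.map (p₁.fiberι ξ).continuous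
  have h4 : p₁.fiberι ξ w'' = ξ' := h _ h3
  have h5 : w'' = w := (p₁.fiberι ξ).isEmbedding.injective (h4.trans hwι.symm)
  rw [← hv'', ← hBw'', h5, hBw]

end Max

end Groth.Agent.Lib.Helper12.BaseChange
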