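import Mathlib
import Groth.Prelude.Def_Found
import Groth.Agent.Lib.Helper12.SecComp
import Groth.Agent.Lib.Helper12.EquidimBC
import Groth.Agent.Lib.Helper12.ValBase
import Groth.Agent.S3404

/-!
# Helper library (helper12): fibres and transcendence degrees under base change
(tools for arguments by base change to a valuation ring)
-/

set_option autoImplicit false
universe u v
open AlgebraicGeometry CategoryTheory CategoryTheory.Limits

namespace Groth.Agent.Lib.Helper12.ValBaseFib

open Groth.Agent.Lib.Helper12 Groth.Agent.Lib.Helper12.SchemeDimFT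
open Groth.Agent.Lib.Helper12.SchemeDimIneq Groth.Agent.Lib.Helper12.ClosedSub
open Groth.Agent.Lib.Helper12.FibreMax Groth.Agent.Lib.Helper12.SecComp
open Groth.Agent.Lib.Helper12.BaseChange

section Dim

variable {X S : Scheme.{u}} (f : X ⟶ S) [LocallyOfFiniteType f]

/-- Points of a relatively closed subset of a fibre bound its dimension below. -/
theorem trn_le_dim_fibre_inter (K : Set X) (hK : IsClosed K) (a : X) (ha : a ∈ K) :
    ((trn f a : ℕ∞) : WithBot ℕ∞) ≤ topologicalKrullDim ↥(f.base ⁻¹' {f.base a} ∩ K) := by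
  rw [← dim_closure_inter_fibre f a]
  refine (fun h => (Topology.IsEmbedding.inclusion h).isInducing.topologicalKrullDim_le) ?_
  rintro t ⟨ht1, ht2⟩
  exact ⟨ht2, closure_minimal (Set.singleton_subset_iff.mpr ha) hK ht1⟩

/-- Upper bound for the dimension of a relatively closed subset of a fibre. -/
theorem dim_fibre_inter_le (K : Set X) (hK : IsClosed K) (t : S) (c : WithBot ℕ∞)
    (h : ∀ z ∈ f.base ⁻¹' {t} ∩ K, ((trn f z : ℕ∞) : WithBot ℕ∞) ≤ c) :
    topologicalKrullDim ↥(f.base ⁻¹' {t} ∩ K) ≤ c := by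
  letI ovF : (f.fiber t).Over (Spec (CommRingCat.of (S.residueField t))) :=
    ⟨f.fiberToSpecResidueField t⟩
  haveI : LocallyOfFiniteType
      ((f.fiber t) ↘ Spec (CommRingCat.of (S.residueField t))) :=
    FibreRes.locallyOfFiniteType_fiberToSpecResidueField f t
  have hrange : Set.range (f.fiberι t) = f.base ⁻¹' {t} := Scheme.Hom.range_fiberι f t
  have h1 := DimLC.dim_preimage_of_isEmbedding (f.fiberι t) (f.fiberι t).isEmbedding K
  rw [hrange] at h1
  rw [← h1]
  refine topologicalKrullDim_le_of_isLocallyClosed (S.residueField t) (f.fiber t) _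
    (hK.preimage (f.fiberι t).continuous).isLocallyClosed _ ?_
  intro w hw
  have hzK : f.fiberι t w ∈ K := hw
  have hzF : f (f.fiberι t w) = t := by
    have : f.fiberι t w ∈ Set.range (f.fiberι t) := ⟨w, rfl⟩
    rw [hrange] at this
    exact this
  have h2 := trn_eq_tr_of_fiber f (f.fiberι t w) t hzF w rfl
  have h3 := h (f.fiberι t w) ⟨hzF, hzK⟩
  rw [h2] at h3
  exact h3

end Dim

section BC

variable {X S S₁ : Scheme.{u}} (f : X ⟶ S) [LocallyOfFiniteType f] (φ : S₁ ⟶ S)

/-- If the base change map induces an isomorphism of residue fields at the image of a point `a`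
of the base change, then the transcendence degree at `a` is unchanged. -/
theorem trn_pullback_of_bijective (a : ↥(pullback f φ))
    (hbij : Function.Bijective (φ.residueFieldMap ((pullback.snd f φ) a)).hom) :
    trn (pullback.snd f φ) a = trn f ((pullback.fst f φ) a) := by
  set f' := pullback.snd f φ with hf'
  set p₁ := pullback.fst f φ with hp₁
  set y' := f' a with hy'
  have hsq : IsPullback p₁ f' f φ := IsPullback.of_hasPullback f φ
  let A : f'.fiber y' ⟶ f.fiber (φ y') :=
    pullback.map f' (S₁.fromSpecResidueField y') f (S.fromSpecResidueField (φ y')) p₁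
      (Spec.map (φ.residueFieldMap y')) φ hsq.w.symm (by simp)
  have hP : IsPullback A (f'.fiberToSpecResidueField y') (f.fiberToSpecResidueField (φ y'))
      (Spec.map (φ.residueFieldMap y')) :=
    isPullback_fiberToSpecResidueField_of_isPullback hsq y'
  have hAι : A ≫ f.fiberι (φ y') = f'.fiberι y' ≫ p₁ := pullback.lift_fst _ _ _
  letI ovF : (f.fiber (φ y')).Over (Spec (CommRingCat.of (S.residueField (φ y')))) :=
    ⟨f.fiberToSpecResidueField (φ y')⟩
  haveI lft : LocallyOfFiniteType (f.fiberToSpecResidueField (φ y')) :=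
    FibreRes.locallyOfFiniteType_fiberToSpecResidueField f (φ y')
  haveI lft2 : LocallyOfFiniteType ((f.fiber (φ y')) ↘ Spec (CommRingCat.of (S.residueField (φ y')))) :=
    FibreRes.locallyOfFiniteType_fiberToSpecResidueField f (φ y')
  haveI : LocallyOfFiniteType f' := MorphismProperty.pullback_snd (P := @LocallyOfFiniteType) f φ
    inferInstance
  letI ovF' : (f'.fiber y').Over (Spec (CommRingCat.of (S₁.residueField y'))) :=
    ⟨f'.fiberToSpecResidueField y'⟩
  haveI lft' : LocallyOfFiniteType ((f'.fiber y') ↘ Spec (CommRingCat.of (S₁.residueField y'))) :=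
    FibreRes.locallyOfFiniteType_fiberToSpecResidueField f' y'
  let w : f'.fiber y' := f'.asFiber a
  have hwι : f'.fiberι y' w = a := f'.fiberι_asFiber a
  haveI : IsIso (φ.residueFieldMap y') :=
    (ConcreteCategory.isIso_iff_bijective _).mpr hbij
  haveI : IsIso (Spec.map (φ.residueFieldMap y')) := inferInstance
  haveI hAiso : IsIso A := by
    have := MorphismProperty.of_isPullback (P := MorphismProperty.isomorphisms Scheme.{u}) hP.flip
      (MorphismProperty.isomorphisms.infer_property _)
    exact this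
  let e : f'.fiber y' ≃ₜ f.fiber (φ y') := Scheme.homeoOfIso (asIso A)
  have hew : e w = A w := rfl
  have hAwι : f.fiberι (φ y') (A w) = p₁ a := by
    have h5 : (A ≫ f.fiberι (φ y')) w = (f'.fiberι y' ≫ p₁) w := by rw [hAι]
    rw [Scheme.Hom.comp_apply, Scheme.Hom.comp_apply, hwι] at h5
    exact h5
  have hfz : f (p₁ a) = φ y' := by
    have := congrArg (fun ψ : pullback f φ ⟶ S => ψ a) hsq.w
    simpa using this
  have e1 := trn_eq_tr_of_fiber f' a y' rfl w hwι
  have e2 := trn_eq_tr_of_fiber f (p₁ a) (φ y') hfz (A w) hAwι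
  have e3 := topologicalKrullDim_closure_singleton (S₁.residueField y') (f'.fiber y') w
  have e4 := topologicalKrullDim_closure_singleton (S.residueField (φ y')) (f.fiber (φ y')) (A w)
  have hdim := topologicalKrullDim_closure_singleton_homeomorph e w
  rw [hew, e3, e4] at hdim
  rw [e1, e2]
  have : tr (S₁.residueField y') (f'.fiber y') w = tr (S.residueField (φ y')) (f.fiber (φ y')) (A w) := by
    exact_mod_cast hdim
  rw [this]

/-- Over a point `z` of `X` and a point `c` of the new base there is a point of the base change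
with the same transcendence degree as `z`. -/
theorem exists_point_over_trn_eq (z : X) (c : S₁) (hc : φ c = f z) :
    ∃ z₁ : ↥(pullback f φ), (pullback.fst f φ) z₁ = z ∧ (pullback.snd f φ) z₁ = c ∧
      trn (pullback.snd f φ) z₁ = trn f z := by
  let ιT : clSub X z ⟶ X := clSubι X z
  let fT : clSub X z ⟶ S := ιT ≫ f
  haveI : LocallyOfFiniteType fT := inferInstance
  set sT := pullback.snd fT φ with hsT
  set pT := pullback.fst fT φ with hpT
  have hιgen : ιT (genericPoint (clSub X z)) = z := clSubι_genericPoint X z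
  have hgen : fT (genericPoint (clSub X z)) = φ c := by
    rw [hc]
    change f (ιT (genericPoint (clSub X z))) = f z
    rw [hιgen]
  obtain ⟨t₁, ht₁a, ht₁b⟩ := Scheme.Pullback.exists_preimage_pullback (f := fT) (g := φ)
    (genericPoint (clSub X z)) c hgen
  haveI : LocallyOfFiniteType sT := MorphismProperty.pullback_snd (P := @LocallyOfFiniteType) fT φ
    inferInstance
  let w : sT.fiber c := (sT.fiberHomeo c).symm ⟨t₁, ht₁b⟩
  have hw : sT.fiberι c w = t₁ := sT.fiberι_fiberHomeo_symm c ⟨t₁, ht₁b⟩
  obtain ⟨η, hηmax, hηw⟩ := exists_isMaxPt_specializes w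
  have ht₁'c : sT (sT.fiberι c η) = c := EquidimSub.apply_fiberι sT c η
  have ht₁'sp : sT.fiberι c η ⤳ t₁ := hw ▸ hηw.map (sT.fiberι c).continuous
  have hmax : ∀ t : ↥(pullback fT φ), sT t = sT (sT.fiberι c η) → t ⤳ sT.fiberι c η →
      t = sT.fiberι c η := by
    intro t ht hsp
    have ht' : sT t = c := ht.trans ht₁'c
    have ht₀ : sT.fiberι c ((sT.fiberHomeo c).symm ⟨t, ht'⟩) = t :=
      sT.fiberι_fiberHomeo_symm c ⟨t, ht'⟩
    have h1 : (sT.fiberHomeo c).symm ⟨t, ht'⟩ ⤳ η := by
      apply (sT.fiberι c).isEmbedding.isInducing.specializes_iff.mp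
      rw [ht₀]
      exact hsp
    rw [← ht₀, hηmax _ h1]
  obtain ⟨-, htrn⟩ := max_fibre_pullback fT φ (sT.fiberι c η) hmax
  have hpgen : pT (sT.fiberι c η) = genericPoint (clSub X z) := by
    have h1 : pT (sT.fiberι c η) ⤳ pT t₁ := ht₁'sp.map pT.continuous
    rw [ht₁a] at h1
    exact (h1.antisymm (genericPoint_specializes _)).eq
  let j : pullback fT φ ⟶ pullback f φ :=
    pullback.map fT φ f φ ιT (𝟙 S₁) (𝟙 S) ((Category.comp_id _).trans rfl)
      ((Category.comp_id _).trans (Category.id_comp φ).symm)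
  haveI : IsPreimmersion j :=
    MorphismProperty.pullbackMap (P := @IsPreimmersion) (inferInstance : IsPreimmersion ιT)
      (inferInstance : IsPreimmersion (𝟙 S₁)) rfl (Category.id_comp φ).symm
  have hj1 : j ≫ pullback.fst f φ = pT ≫ ιT := pullback.lift_fst _ _ _
  have hj2 : j ≫ pullback.snd f φ = sT := by
    have : j ≫ pullback.snd f φ = sT ≫ 𝟙 S₁ := pullback.lift_snd _ _ _
    rw [this, Category.comp_id]
  refine ⟨j (sT.fiberι c η), ?_, ?_, ?_⟩
  · have h1 := congrArg (fun ψ : pullback fT φ ⟶ X => ψ (sT.fiberι c η)) hj1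
    simp only [Scheme.Hom.comp_apply] at h1
    rw [h1, hpgen, hιgen]
  · have h1 := congrArg (fun ψ : pullback fT φ ⟶ S₁ => ψ (sT.fiberι c η)) hj2
    simp only [Scheme.Hom.comp_apply] at h1
    rw [h1, ht₁'c]
  · have h1 := trn_comp_preimmersion j (pullback.snd f φ) (sT.fiberι c η)
    rw [← h1]
    have h2 : trn (j ≫ pullback.snd f φ) (sT.fiberι c η) = trn sT (sT.fiberι c η) := by
      rw [hj2]
    rw [h2, htrn]
    change trn (ιT ≫ f) (pT (sT.fiberι c η)) = trn f z
    rw [hpgen, trn_comp_preimmersion ιT f, hιgen]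

end BC

section Top

variable {X S S₁ : Scheme.{u}} (f : X ⟶ S) (φ : S₁ ⟶ S)

/-- The base change projection restricted to fibres is open: a point over a point of the relative
closure of `W` in a fibre lies in the closure of the preimage of `W` in its fibre. -/
theorem mem_closure_preimage_fibre (W : Set X) (z₁ : ↥(pullback f φ))
    (hz : (pullback.fst f φ) z₁ ∈
      closure (W ∩ f.base ⁻¹' {f.base ((pullback.fst f φ) z₁)})) :
    z₁ ∈ closure ((pullback.fst f φ).base ⁻¹' W ∩
      (pullback.snd f φ).base ⁻¹' {(pullback.snd f φ).base z₁}) := by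
  set f' := pullback.snd f φ with hf'
  set p₁ := pullback.fst f φ with hp₁
  set y' := f' z₁ with hy'
  have hsq : IsPullback p₁ f' f φ := IsPullback.of_hasPullback f φ
  let A : f'.fiber y' ⟶ f.fiber (φ y') :=
    pullback.map f' (S₁.fromSpecResidueField y') f (S.fromSpecResidueField (φ y')) p₁
      (Spec.map (φ.residueFieldMap y')) φ hsq.w.symm (by simp)
  have hP : IsPullback A (f'.fiberToSpecResidueField y') (f.fiberToSpecResidueField (φ y'))
      (Spec.map (φ.residueFieldMap y')) :=
    isPullback_fiberToSpecResidueField_of_isPullback hsq y'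
  have hAι : A ≫ f.fiberι (φ y') = f'.fiberι y' ≫ p₁ := pullback.lift_fst _ _ _
  have hfz : f (p₁ z₁) = φ y' := by
    have := congrArg (fun ψ : pullback f φ ⟶ S => ψ z₁) hsq.w
    simpa using this
  haveI : UniversallyOpen (Spec.map (φ.residueFieldMap y')) := inferInstance
  haveI : UniversallyOpen A :=
    MorphismProperty.of_isPullback (P := @UniversallyOpen) hP.flip inferInstance
  have hAopen : IsOpenMap A.base := A.isOpenMap
  let w₁ : f'.fiber y' := f'.asFiber z₁
  have hw₁ : f'.fiberι y' w₁ = z₁ := f'.fiberι_asFiber z₁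
  have hAt : ∀ t : f'.fiber y', f.fiberι (φ y') (A t) = p₁ (f'.fiberι y' t) := by
    intro t
    have h5 : (A ≫ f.fiberι (φ y')) t = (f'.fiberι y' ≫ p₁) t := by rw [hAι]
    rw [Scheme.Hom.comp_apply, Scheme.Hom.comp_apply] at h5
    exact h5
  have h1 : A w₁ ∈ closure ((f.fiberι (φ y')).base ⁻¹' W) := by
    rw [(f.fiberι (φ y')).isEmbedding.isInducing.closure_eq_preimage_closure_image,
      Set.image_preimage_eq_inter_range, Scheme.Hom.range_fiberι]
    change f.fiberι (φ y') (A w₁) ∈ closure (W ∩ f.base ⁻¹' {φ y'})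
    rw [hAt, hw₁, ← hfz]
    exact hz
  have h2 : w₁ ∈ closure (A.base ⁻¹' ((f.fiberι (φ y')).base ⁻¹' W)) :=
    hAopen.preimage_closure_subset_closure_preimage h1
  have h3 : A.base ⁻¹' ((f.fiberι (φ y')).base ⁻¹' W) =
      (f'.fiberι y').base ⁻¹' (p₁.base ⁻¹' W) := by
    ext t
    simp only [Set.mem_preimage]
    have := hAt t
    change f.fiberι (φ y') (A t) ∈ W ↔ p₁ (f'.fiberι y' t) ∈ W
    rw [this]
  rw [h3] at h2
  have h4 := image_closure_subset_closure_image (f'.fiberι y').continuous
    (Set.mem_image_of_mem _ h2)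
  rw [Set.image_preimage_eq_inter_range, Scheme.Hom.range_fiberι] at h4
  rw [← hw₁]
  exact h4

/-- Generizations in the new base lift to generizations inside the preimage of the image of a
universally open family. -/
theorem exists_generization_in_range {Y : Scheme.{u}} (v : Y ⟶ X) [UniversallyOpen (v ≫ f)]
    (x₁ : ↥(pullback f φ)) (hx₁ : (pullback.fst f φ) x₁ ∈ Set.range v.base) (η : S₁)
    (hη : η ⤳ (pullback.snd f φ) x₁) :
    ∃ x₁' : ↥(pullback f φ), x₁' ⤳ x₁ ∧ (pullback.snd f φ) x₁' = η ∧
      (pullback.fst f φ) x₁' ∈ Set.range v.base := by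
  obtain ⟨y, hy⟩ := hx₁
  set π := pullback.fst f φ with hπ
  set f₁ := pullback.snd f φ with hf₁
  have hsqQ : IsPullback (pullback.fst v π) (pullback.snd v π) v π := IsPullback.of_hasPullback v π
  have hsqX : IsPullback π f₁ f φ := IsPullback.of_hasPullback f φ
  have hpaste : IsPullback (pullback.snd v π ≫ f₁) (pullback.fst v π) φ (v ≫ f) :=
    hsqQ.flip.paste_horiz hsqX.flip
  haveI : UniversallyOpen (pullback.snd v π ≫ f₁) :=
    MorphismProperty.of_isPullback (P := @UniversallyOpen) hpaste.flip inferInstance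
  obtain ⟨w, hw1, hw2⟩ := Scheme.Pullback.exists_preimage_pullback (f := v) (g := π) y x₁ hy
  have hopenAt : EGA43.IsOpenAt (pullback.snd v π ≫ f₁).base w := by
    intro U hU
    exact (pullback.snd v π ≫ f₁).isOpenMap.image_mem_nhds hU
  have hη' : η ⤳ (pullback.snd v π ≫ f₁).base w := by
    change η ⤳ f₁ (pullback.snd v π w)
    rw [hw2]
    exact hη
  obtain ⟨w', hw'1, hw'2⟩ := (Groth.Agent.S3404.result (pullback.snd v π ≫ f₁) w).1 hopenAt η hη'
  refine ⟨pullback.snd v π w', ?_, hw'2, ?_⟩
  · have := hw'1.map (pullback.snd v π).continuous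
    rwa [hw2] at this
  · refine ⟨pullback.fst v π w', ?_⟩
    have := congrArg (fun ψ : pullback v π ⟶ X => ψ w') hsqQ.w
    simpa using this

end Top

section Noeth

variable {X₁ S₁ : Scheme.{u}} (f₁ : X₁ ⟶ S₁) [LocallyOfFiniteType f₁] [QuasiCompact f₁]

instance quasiCompact_fiberToSpecResidueField (η : S₁) :
    QuasiCompact (f₁.fiberToSpecResidueField η) :=
  MorphismProperty.of_isPullback (P := @QuasiCompact)
    (IsPullback.of_hasPullback f₁ (S₁.fromSpecResidueField η)) inferInstance

theorem noetherianSpace_fiber (η : S₁) : TopologicalSpace.NoetherianSpace ↥(f₁.fiber η) := by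
  haveI : LocallyOfFiniteType (f₁.fiberToSpecResidueField η) :=
    FibreRes.locallyOfFiniteType_fiberToSpecResidueField f₁ η
  haveI : IsLocallyNoetherian (f₁.fiber η) :=
    LocallyOfFiniteType.isLocallyNoetherian (f₁.fiberToSpecResidueField η)
  haveI : CompactSpace ↥(f₁.fiber η) :=
    QuasiCompact.compactSpace_of_compactSpace (f₁.fiberToSpecResidueField η)
  haveI : IsNoetherian (f₁.fiber η) := { }
  infer_instance

/-- A point in the closure of a subset `B` of a fibre is a specialization of a point of the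
relative closure of `B` in that fibre. -/
theorem exists_generization_of_mem_closure_fibre (η : S₁) (B : Set X₁)
    (hB : B ⊆ f₁.base ⁻¹' {η}) (z₁ : X₁) (hz₁ : z₁ ∈ closure B) :
    ∃ a : X₁, a ∈ closure B ∧ f₁.base a = η ∧ a ⤳ z₁ := by
  haveI := noetherianSpace_fiber f₁ η
  have hrange : Set.range (f₁.fiberι η) = f₁.base ⁻¹' {η} := Scheme.Hom.range_fiberι f₁ η
  let B₀ : Set ↥(f₁.fiber η) := (f₁.fiberι η).base ⁻¹' B
  have hB₀ : (f₁.fiberι η).base '' B₀ = B := by
    rw [Set.image_preimage_eq_inter_range, hrange]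
    exact Set.inter_eq_left.mpr hB
  obtain ⟨Sf, hSfin, hScl, hSirr, hSeq⟩ :=
    TopologicalSpace.NoetherianSpace.exists_finite_set_isClosed_irreducible
      (isClosed_closure (s := B₀))
  -- generic points of the members
  have hgen : ∀ C ∈ Sf, ∃ a : ↥(f₁.fiber η), IsGenericPoint a C :=
    fun C hC => QuasiSober.sober (hSirr C hC) (hScl C hC)
  -- `B` is contained in the finite union of the closures of the images
  have hcover : closure B ⊆ ⋃ C ∈ Sf, closure ((f₁.fiberι η).base '' C) := by
    refine closure_minimal ?_ (hSfin.isClosed_biUnion fun C _ => isClosed_closure)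
    intro b hb
    rw [← hB₀] at hb
    obtain ⟨b₀, hb₀, rfl⟩ := hb
    have h1 : b₀ ∈ closure B₀ := subset_closure hb₀
    rw [hSeq] at h1
    obtain ⟨C, hC, hbC⟩ := h1
    simp only [Set.mem_iUnion]
    exact ⟨C, hC, subset_closure ⟨b₀, hbC, rfl⟩⟩
  have h3 := hcover hz₁
  simp only [Set.mem_iUnion] at h3
  obtain ⟨C, hC, hzC⟩ := h3
  obtain ⟨a, ha⟩ := hgen C hC
  refine ⟨f₁.fiberι η a, ?_, ?_, ?_⟩
  · have h4 : a ∈ closure B₀ := by
      rw [hSeq]
      exact ⟨C, hC, ha.mem⟩
    have h7 := image_closure_subset_closure_image (f₁.fiberι η).continuous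
      (Set.mem_image_of_mem _ h4)
    rw [hB₀] at h7
    exact h7
  · have : f₁.fiberι η a ∈ Set.range (f₁.fiberι η) := ⟨a, rfl⟩
    rw [hrange] at this
    exact this
  · rw [specializes_iff_mem_closure]
    have h8 : closure ((f₁.fiberι η).base '' C) ⊆
        closure {(f₁.fiberι η).base a} := by
      refine closure_minimal ?_ isClosed_closure
      rintro _ ⟨c, hc, rfl⟩
      have h9 : a ⤳ c := by
        rw [specializes_iff_mem_closure, ha.def]
        exact hc
      exact specializes_iff_mem_closure.mp (h9.map (f₁.fiberι η).continuous)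
    exact h8 hzC

end Noeth

end Groth.Agent.Lib.Helper12.ValBaseFib
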