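import Mathlib

/-!
# Helper library (helper12): dimension theory over valuation rings (ring level)

* `trdeg_quotient_le_of_valuationRing`: over a valuation ring, residue transcendence degrees do
  not exceed the generic transcendence degree.
-/

set_option autoImplicit false
universe u v
open Polynomial Cardinal

namespace Groth.Agent.Lib.Helper12.ValDim

section Content

variable {R : Type u} [CommRing R] [IsDomain R] [ValuationRing R]

/-- In a valuation ring, a nonempty finite set has an element dividing all the others. -/
theorem exists_dvd_of_finset {ι : Type*} (F : Finset ι) (hF : F.Nonempty) (c : ι → R) :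
    ∃ i ∈ F, ∀ j ∈ F, c i ∣ c j := by
  classical
  induction hF using Finset.Nonempty.cons_induction with
  | singleton a => exact ⟨a, Finset.mem_singleton_self a, fun j hj => by
      rw [Finset.mem_singleton] at hj; rw [hj]⟩
  | cons a s ha hs ih =>
    obtain ⟨i, hi, hdiv⟩ := ih
    rcases ValuationRing.dvd_total (c i) (c a) with h | h
    · refine ⟨i, Finset.mem_cons.mpr (Or.inr hi), fun j hj => ?_⟩
      rcases Finset.mem_cons.mp hj with rfl | hj
      · exact h
      · exact hdiv j hj
    · refine ⟨a, Finset.mem_cons_self a s, fun j hj => ?_⟩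
      rcases Finset.mem_cons.mp hj with rfl | hj
      · exact dvd_rfl
      · exact h.trans (hdiv j hj)

/-- Every nonzero polynomial over a valuation ring is a nonzero constant times a polynomial with
a coefficient equal to one. -/
theorem exists_eq_C_mul {ι : Type*} (p : MvPolynomial ι R) (hp : p ≠ 0) :
    ∃ (c : R) (p' : MvPolynomial ι R) (m : ι →₀ ℕ), c ≠ 0 ∧ p = MvPolynomial.C c * p' ∧
      p'.coeff m = 1 := by
  classical
  have hne : p.support.Nonempty := by
    rw [Finset.nonempty_iff_ne_empty]
    intro h
    exact hp (MvPolynomial.support_eq_empty.mp h)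
  obtain ⟨m, hm, hdiv⟩ := exists_dvd_of_finset p.support hne (fun m => p.coeff m)
  have hc : p.coeff m ≠ 0 := MvPolynomial.mem_support_iff.mp hm
  have hex : ∀ j : ι →₀ ℕ, ∃ e : R, p.coeff j = p.coeff m * e := by
    intro j
    by_cases hj : j ∈ p.support
    · exact hdiv j hj
    · refine ⟨0, ?_⟩
      rw [mul_zero]
      exact MvPolynomial.notMem_support_iff.mp hj
  choose e he using hex
  refine ⟨p.coeff m, ∑ j ∈ p.support, MvPolynomial.monomial j (e j), m, hc, ?_, ?_⟩
  · conv_lhs => rw [← MvPolynomial.support_sum_monomial_coeff p]
    rw [Finset.mul_sum]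
    refine Finset.sum_congr rfl fun j _ => ?_
    rw [MvPolynomial.C_mul_monomial, ← he j]
  · rw [MvPolynomial.coeff_sum]
    simp only [MvPolynomial.coeff_monomial]
    rw [Finset.sum_ite_eq' p.support m, if_pos hm]
    have h1 := he m
    have h2 : p.coeff m * 1 = p.coeff m * e m := by rw [mul_one]; exact h1
    exact (mul_left_cancel₀ hc h2).symm

end Content

section LemmaV

variable {R S : Type u} [CommRing R] [IsDomain R] [ValuationRing R] [CommRing S] [IsDomain S]
  [Algebra R S]

/-- **Over a valuation ring, transcendence degrees of residue extensions do not exceed the generic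
transcendence degree.** -/
theorem trdeg_quotient_le_of_valuationRing (hinj : Function.Injective (algebraMap R S))
    (Q : Ideal S) [Q.IsPrime] :
    Algebra.trdeg (R ⧸ Q.under R) (S ⧸ Q) ≤ Algebra.trdeg R S := by
  classical
  rw [Algebra.trdeg]
  refine ciSup_le' fun ⟨s, hs⟩ => ?_
  have hsurj : ∀ i : s, ∃ y : S, Ideal.Quotient.mk Q y = i.1 :=
    fun i => Ideal.Quotient.mk_surjective i.1
  choose y hy using hsurj
  have hind : AlgebraicIndependent R y := by
    rw [algebraicIndependent_iff]
    intro p hp
    by_contra hp0
    obtain ⟨c, p', m, hc, hpp', hm⟩ := exists_eq_C_mul p hp0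
    rw [hpp', map_mul, MvPolynomial.aeval_C] at hp
    have hc' : algebraMap R S c ≠ 0 := by
      intro h
      exact hc (hinj (h.trans (map_zero _).symm))
    have hp'0 : MvPolynomial.aeval y p' = 0 := (mul_eq_zero.mp hp).resolve_left hc'
    -- reduce modulo `Q`
    have hs' : AlgebraicIndependent (R ⧸ Q.under R) (fun i : s => (i.1 : S ⧸ Q)) := hs
    rw [algebraicIndependent_iff] at hs'
    have h1 := hs' (MvPolynomial.map (Ideal.Quotient.mk (Q.under R)) p') (by
      have h2 : MvPolynomial.aeval (fun i : s => (i.1 : S ⧸ Q))
          (MvPolynomial.map (Ideal.Quotient.mk (Q.under R)) p') =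
          Ideal.Quotient.mk Q (MvPolynomial.aeval y p') := by
        rw [MvPolynomial.aeval_def, MvPolynomial.eval₂_map, MvPolynomial.aeval_def,
          MvPolynomial.hom_eval₂]
        congr 1
        funext i
        exact (hy i).symm
      rw [h2, hp'0, map_zero])
    have h3 := congrArg (MvPolynomial.coeff m) h1
    rw [MvPolynomial.coeff_map, hm, map_one, MvPolynomial.coeff_zero] at h3
    exact one_ne_zero h3
  exact hind.cardinalMk_le_trdeg

end LemmaV

end Groth.Agent.Lib.Helper12.ValDim
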