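import Mathlib
import Groth.Agent.Lib.Helper12.DimIneq
import Groth.Agent.Lib.Helper12.ValDim

/-!
# Helper library (helper12): residue transcendence degrees over a base whose local ring at the
image prime is a valuation ring (`LocDvd`), without domain hypotheses
-/

set_option autoImplicit false
universe u v
open Polynomial Cardinal

namespace Groth.Agent.Lib.Helper12.ValDim

section LocDvd

variable {R : Type u} [CommRing R]

/-- Divisibility is total in the local ring at `q`, expressed in `R`. -/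
def LocDvd (q : Ideal R) : Prop :=
  ∀ a b : R, ∃ u : R, u ∉ q ∧ ∃ c : R, u * a = c * b ∨ u * b = c * a

theorem locDvd_of_isLocalization (q : Ideal R) [q.IsPrime] (T : Type*) [CommRing T] [Algebra R T]
    [IsLocalization.AtPrime T q] [IsDomain T] [ValuationRing T] : LocDvd q := by
  intro a b
  have key : ∀ x y : R, (∃ z : T, algebraMap R T x = z * algebraMap R T y) →
      ∃ u : R, u ∉ q ∧ ∃ c : R, u * x = c * y := by
    rintro x y ⟨z, hz⟩
    obtain ⟨⟨c, s⟩, hs⟩ := IsLocalization.surj q.primeCompl z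
    have h1 : algebraMap R T (s.1 * x) = algebraMap R T (c * y) := by
      rw [map_mul, map_mul, hz, ← hs]
      ring
    obtain ⟨v, hv⟩ := (IsLocalization.eq_iff_exists q.primeCompl T).mp h1
    refine ⟨v.1 * s.1, q.primeCompl.mul_mem v.2 s.2, v.1 * c, ?_⟩
    rw [mul_assoc, mul_assoc]
    exact hv
  rcases ValuationRing.dvd_total (algebraMap R T a) (algebraMap R T b) with ⟨z, hz⟩ | ⟨z, hz⟩
  · obtain ⟨u, hu, c, hc⟩ := key b a ⟨z, by rw [hz, mul_comm]⟩
    exact ⟨u, hu, c, Or.inr hc⟩
  · obtain ⟨u, hu, c, hc⟩ := key a b ⟨z, by rw [hz, mul_comm]⟩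
    exact ⟨u, hu, c, Or.inl hc⟩

theorem LocDvd.map_quotient {q : Ideal R} (h : LocDvd q) (p : Ideal R) (hpq : p ≤ q) :
    LocDvd (q.map (Ideal.Quotient.mk p)) := by
  intro a b
  obtain ⟨a, rfl⟩ := Ideal.Quotient.mk_surjective a
  obtain ⟨b, rfl⟩ := Ideal.Quotient.mk_surjective b
  obtain ⟨u, hu, c, hc⟩ := h a b
  refine ⟨Ideal.Quotient.mk p u, ?_, Ideal.Quotient.mk p c, ?_⟩
  · intro hmem
    apply hu
    have : u ∈ Ideal.comap (Ideal.Quotient.mk p) (q.map (Ideal.Quotient.mk p)) := hmem
    rw [Ideal.comap_map_of_surjective _ Ideal.Quotient.mk_surjective,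
      ← RingHom.ker_eq_comap_bot, Ideal.mk_ker, sup_eq_left.mpr hpq] at this
    exact this
  · rcases hc with hc | hc
    · left; rw [← map_mul, ← map_mul, hc]
    · right; rw [← map_mul, ← map_mul, hc]

/-- The primes contained in `q` are totally ordered. -/
theorem LocDvd.le_total {q : Ideal R} (h : LocDvd q) (a b : Ideal R) [a.IsPrime] [b.IsPrime]
    (ha : a ≤ q) (hb : b ≤ q) : a ≤ b ∨ b ≤ a := by
  by_contra hcon
  push Not at hcon
  obtain ⟨hab, hba⟩ := hcon
  obtain ⟨x, hxa, hxb⟩ := SetLike.not_le_iff_exists.mp hab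
  obtain ⟨y, hyb, hya⟩ := SetLike.not_le_iff_exists.mp hba
  obtain ⟨u, hu, c, hc | hc⟩ := h x y
  · have h1 : u * x ∈ b := by rw [hc]; exact b.mul_mem_left c hyb
    rcases (‹b.IsPrime›).mem_or_mem h1 with h2 | h2
    · exact hu (hb h2)
    · exact hxb h2
  · have h1 : u * y ∈ a := by rw [hc]; exact a.mul_mem_left c hxa
    rcases (‹a.IsPrime›).mem_or_mem h1 with h2 | h2
    · exact hu (ha h2)
    · exact hya h2

/-- The relation "`c i` divides `c j` locally at `q`". -/
theorem LocDvd.exists_dvd_of_finset {q : Ideal R} [q.IsPrime] (h : LocDvd q) {ι : Type*}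
    (F : Finset ι) (hF : F.Nonempty) (c : ι → R) :
    ∃ i ∈ F, ∀ j ∈ F, ∃ u : R, u ∉ q ∧ ∃ a : R, u * c j = a * c i := by
  classical
  induction hF using Finset.Nonempty.cons_induction with
  | singleton a => exact ⟨a, Finset.mem_singleton_self a, fun j hj => by
      rw [Finset.mem_singleton] at hj
      rw [hj]
      exact ⟨1, fun h1 => (‹q.IsPrime›).ne_top ((Ideal.eq_top_iff_one q).mpr h1), 1, rfl⟩⟩
  | cons a s ha hs ih =>
    obtain ⟨i, hi, hdiv⟩ := ih
    obtain ⟨u, hu, e, he | he⟩ := h (c a) (c i)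
    · -- `c i` divides `c a`
      refine ⟨i, Finset.mem_cons.mpr (Or.inr hi), fun j hj => ?_⟩
      rcases Finset.mem_cons.mp hj with rfl | hj
      · exact ⟨u, hu, e, he⟩
      · exact hdiv j hj
    · -- `c a` divides `c i`
      refine ⟨a, Finset.mem_cons_self a s, fun j hj => ?_⟩
      rcases Finset.mem_cons.mp hj with rfl | hj
      · exact ⟨1, fun h1 => (‹q.IsPrime›).ne_top ((Ideal.eq_top_iff_one q).mpr h1), 1, rfl⟩
      · obtain ⟨u', hu', a', ha'⟩ := hdiv j hj
        refine ⟨u * u', fun hmem => ?_, a' * e, ?_⟩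
        · rcases (‹q.IsPrime›).mem_or_mem hmem with h2 | h2
          · exact hu h2
          · exact hu' h2
        · rw [mul_assoc, ha', mul_left_comm, he]
          ring

end LocDvd

section VPlus

variable {R S : Type u} [CommRing R] [IsDomain R] [CommRing S] [IsDomain S] [Algebra R S]

/-- Every nonzero polynomial over a domain becomes, after multiplication by some `u ∉ q`, a
constant times a polynomial with a coefficient outside `q`, when divisibility is total locally
at `q`. -/
theorem LocDvd.exists_C_mul_eq {q : Ideal R} [q.IsPrime] (h : LocDvd q) {ι : Type*}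
    (p : MvPolynomial ι R) (hp : p ≠ 0) :
    ∃ (u c : R) (p' : MvPolynomial ι R) (m : ι →₀ ℕ), u ∉ q ∧ c ≠ 0 ∧
      MvPolynomial.C u * p = MvPolynomial.C c * p' ∧ p'.coeff m ∉ q := by
  classical
  have hne : p.support.Nonempty := by
    rw [Finset.nonempty_iff_ne_empty]
    intro h0
    exact hp (MvPolynomial.support_eq_empty.mp h0)
  obtain ⟨m, hm, hdiv⟩ := h.exists_dvd_of_finset p.support hne (fun m => p.coeff m)
  have hc : p.coeff m ≠ 0 := MvPolynomial.mem_support_iff.mp hm
  have hex : ∀ j : ι →₀ ℕ, ∃ u : R, u ∉ q ∧ ∃ a : R, (j ∈ p.support → u * p.coeff j = a * p.coeff m) := by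
    intro j
    by_cases hj : j ∈ p.support
    · obtain ⟨u, hu, a, ha⟩ := hdiv j hj
      exact ⟨u, hu, a, fun _ => ha⟩
    · exact ⟨1, fun h1 => (‹q.IsPrime›).ne_top ((Ideal.eq_top_iff_one q).mpr h1), 0,
        fun hj' => absurd hj' hj⟩
  choose u hu a ha using hex
  -- the common multiplier
  set U : R := ∏ j ∈ p.support, u j with hU
  have hUq : U ∉ q := by
    intro hmem
    obtain ⟨j, -, hj⟩ := (Ideal.IsPrime.prod_mem_iff (hp := ‹q.IsPrime›)).mp hmem
    exact hu j hj
  -- the new coefficients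
  let b : (ι →₀ ℕ) → R := fun j => (∏ i ∈ p.support.erase j, u i) * a j
  have hb : ∀ j ∈ p.support, U * p.coeff j = p.coeff m * b j := by
    intro j hj
    rw [hU, ← Finset.mul_prod_erase p.support u hj]
    have := ha j hj
    calc (u j * ∏ x ∈ p.support.erase j, u x) * p.coeff j
        = (∏ x ∈ p.support.erase j, u x) * (u j * p.coeff j) := by ring
      _ = (∏ x ∈ p.support.erase j, u x) * (a j * p.coeff m) := by rw [this]
      _ = p.coeff m * b j := by simp only [b]; ring
  refine ⟨U, p.coeff m, ∑ j ∈ p.support, MvPolynomial.monomial j (b j), m, hUq, hc, ?_, ?_⟩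
  · conv_lhs => rw [← MvPolynomial.support_sum_monomial_coeff p]
    rw [Finset.mul_sum, Finset.mul_sum]
    refine Finset.sum_congr rfl fun j hj => ?_
    rw [MvPolynomial.C_mul_monomial, MvPolynomial.C_mul_monomial, hb j hj]
  · rw [MvPolynomial.coeff_sum]
    simp only [MvPolynomial.coeff_monomial]
    rw [Finset.sum_ite_eq' p.support m, if_pos hm]
    have h1 := hb m hm
    have h2 : p.coeff m * U = p.coeff m * b m := by rw [mul_comm]; exact h1
    rw [← mul_left_cancel₀ hc h2]
    exact hUq

/-- **Lemma V⁺**: residue transcendence degrees do not exceed the generic one, when the local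
ring of the base at the image prime has total divisibility. -/
theorem trdeg_quotient_le_of_locDvd (hinj : Function.Injective (algebraMap R S))
    (Q : Ideal S) [Q.IsPrime] (hq : LocDvd (Q.under R)) :
    Algebra.trdeg (R ⧸ Q.under R) (S ⧸ Q) ≤ Algebra.trdeg R S := by
  classical
  rw [Algebra.trdeg]
  refine ciSup_le' fun ⟨s, hs⟩ => ?_
  have hsurj : ∀ i : s, ∃ y : S, Ideal.Quotient.mk Q y = i.1 :=
    fun i => Ideal.Quotient.mk_surjective i.1
  choose y hy using hsurj
  have hind : AlgebraicIndependent R y := by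
    rw [algebraicIndependent_iff]
    intro p hp
    by_contra hp0
    obtain ⟨u, c, p', m, hu, hc, hpp', hm⟩ := hq.exists_C_mul_eq p hp0
    have h0 : MvPolynomial.aeval y (MvPolynomial.C u * p) = 0 := by
      rw [map_mul, hp, mul_zero]
    rw [hpp', map_mul, MvPolynomial.aeval_C] at h0
    have hc' : algebraMap R S c ≠ 0 := by
      intro h
      exact hc (hinj (h.trans (map_zero _).symm))
    have hp'0 : MvPolynomial.aeval y p' = 0 := (mul_eq_zero.mp h0).resolve_left hc'
    have hs' : AlgebraicIndependent (R ⧸ Q.under R) (fun i : s => (i.1 : S ⧸ Q)) := hs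
    rw [algebraicIndependent_iff] at hs'
    have h1 := hs' (MvPolynomial.map (Ideal.Quotient.mk (Q.under R)) p') (by
      have h2 : MvPolynomial.aeval (fun i : s => (i.1 : S ⧸ Q))
          (MvPolynomial.map (Ideal.Quotient.mk (Q.under R)) p') =
          Ideal.Quotient.mk Q (MvPolynomial.aeval y p') := by
        rw [MvPolynomial.aeval_def, MvPolynomial.eval₂_map, MvPolynomial.aeval_def,
          MvPolynomial.hom_eval₂]
        congr 1
        funext i
        exact (hy i).symm
      rw [h2, hp'0, map_zero])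
    have h3 := congrArg (MvPolynomial.coeff m) h1
    rw [MvPolynomial.coeff_map, MvPolynomial.coeff_zero] at h3
    exact hm (Ideal.Quotient.eq_zero_iff_mem.mp h3)
  exact hind.cardinalMk_le_trdeg

end VPlus

section VPlusPlus

variable {R S : Type u} [CommRing R] [CommRing S] [Algebra R S]

/-- **Lemma V⁺⁺**: for primes `P ≤ Q` of an `R`-algebra, the residue transcendence degree at `Q`
is at most that at `P` when divisibility is total locally at `Q ∩ R`. -/
theorem trdeg_quotient_le_of_le (P Q : Ideal S) [P.IsPrime] [Q.IsPrime] (hPQ : P ≤ Q)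
    (hq : LocDvd (Q.under R)) :
    Algebra.trdeg (R ⧸ Q.under R) (S ⧸ Q) ≤ Algebra.trdeg (R ⧸ P.under R) (S ⧸ P) := by
  have hpq : P.under R ≤ Q.under R := Ideal.comap_mono hPQ
  have hinj : Function.Injective (algebraMap (R ⧸ P.under R) (S ⧸ P)) :=
    Ideal.algebraMap_quotient_injective
  have hkerP : RingHom.ker (Ideal.Quotient.mk P) ≤ Q := by rw [Ideal.mk_ker]; exact hPQ
  haveI hQ₁ : (Q.map (Ideal.Quotient.mk P)).IsPrime :=
    Ideal.map_isPrime_of_surjective Ideal.Quotient.mk_surjective hkerP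
  have hcm : Ideal.comap (Ideal.Quotient.mk P) (Q.map (Ideal.Quotient.mk P)) = Q := by
    rw [Ideal.comap_map_of_surjective _ Ideal.Quotient.mk_surjective, ← RingHom.ker_eq_comap_bot]
    exact sup_eq_left.mpr hkerP
  -- the prime under `Q / P`
  have hunder : (Q.map (Ideal.Quotient.mk P)).under (R ⧸ P.under R) =
      (Q.under R).map (Ideal.Quotient.mk (P.under R)) := by
    ext x
    obtain ⟨x, rfl⟩ := Ideal.Quotient.mk_surjective x
    have h1 : Ideal.Quotient.mk (P.under R) x ∈
        (Q.map (Ideal.Quotient.mk P)).under (R ⧸ P.under R) ↔ x ∈ Q.under R := by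
      show algebraMap (R ⧸ P.under R) (S ⧸ P) (Ideal.Quotient.mk (P.under R) x) ∈
        Q.map (Ideal.Quotient.mk P) ↔ _
      have : algebraMap (R ⧸ P.under R) (S ⧸ P) (Ideal.Quotient.mk (P.under R) x) =
          Ideal.Quotient.mk P (algebraMap R S x) := rfl
      rw [this, ← Ideal.mem_comap, hcm]
      rfl
    have h2 : Ideal.Quotient.mk (P.under R) x ∈
        (Q.under R).map (Ideal.Quotient.mk (P.under R)) ↔ x ∈ Q.under R := by
      rw [← Ideal.mem_comap, Ideal.comap_map_of_surjective _ Ideal.Quotient.mk_surjective,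
        ← RingHom.ker_eq_comap_bot, Ideal.mk_ker, sup_eq_left.mpr hpq]
    rw [h1, h2]
  have hloc : LocDvd ((Q.map (Ideal.Quotient.mk P)).under (R ⧸ P.under R)) := by
    rw [hunder]
    exact hq.map_quotient _ hpq
  have key := trdeg_quotient_le_of_locDvd hinj (Q.map (Ideal.Quotient.mk P)) hloc
  refine le_trans (le_of_eq ?_) key
  symm
  refine DimIneq.trdeg_quotient_eq (Ideal.Quotient.factor hpq) (Ideal.Quotient.factor hPQ)
    (Ideal.Quotient.factor_surjective hpq) (Ideal.Quotient.factor_surjective hPQ) ?_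
    ((Q.map (Ideal.Quotient.mk P)).under (R ⧸ P.under R)) (Q.map (Ideal.Quotient.mk P)) ?_ ?_
  · intro a
    obtain ⟨a, rfl⟩ := Ideal.Quotient.mk_surjective a
    rfl
  · rw [hunder]
    ext x
    obtain ⟨x, rfl⟩ := Ideal.Quotient.mk_surjective x
    rw [RingHom.mem_ker, Ideal.Quotient.factor_mk, Ideal.Quotient.eq_zero_iff_mem,
      ← Ideal.mem_comap, Ideal.comap_map_of_surjective _ Ideal.Quotient.mk_surjective,
      ← RingHom.ker_eq_comap_bot, Ideal.mk_ker, sup_eq_left.mpr hpq]
  · ext x
    obtain ⟨x, rfl⟩ := Ideal.Quotient.mk_surjective x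
    rw [RingHom.mem_ker, Ideal.Quotient.factor_mk, Ideal.Quotient.eq_zero_iff_mem,
      ← Ideal.mem_comap, hcm]

end VPlusPlus

end Groth.Agent.Lib.Helper12.ValDim
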