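import Mathlib
import Groth.Prelude.Def_Found
import Groth.Prelude.Def_EGA43
import Groth.Agent.Lib.Helper12.ValDim3
import Groth.Agent.Lib.Helper12.LocalBase

/-!
# Helper library (helper12): residue transcendence degrees do not go up under specialization
when the local ring of the base at the image point is a valuation ring (scheme level)
-/

set_option autoImplicit false
universe u v
open AlgebraicGeometry CategoryTheory TopologicalSpace Limits

namespace Groth.Agent.Lib.Helper12.ValDim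

open Groth.Agent.Lib.Helper12.SchemeDimFT Groth.Agent.Lib.Helper12.SchemeDimIneq

section Alg

variable {A B : Type u} [CommRing A] [CommRing B] [Algebra A B]

theorem trdeg_quotient_liesOver_eq (Q : Ideal B) [Q.IsPrime] (p : Ideal A) [Q.LiesOver p] :
    Algebra.trdeg (A ⧸ p) (B ⧸ Q) = Algebra.trdeg (A ⧸ Q.under A) (B ⧸ Q) := by
  obtain rfl : p = Q.under A := Ideal.LiesOver.over
  rfl

end Alg

variable {X Y : Scheme.{u}}

/-- **Residue transcendence degrees do not go up under specialization over a valuation ring.** -/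
theorem trn_le_of_valuationRing_stalk (f : X ⟶ Y) (x ξ : X) (h : ξ ⤳ x)
    [IsDomain (Y.presheaf.stalk (f x))] [ValuationRing (Y.presheaf.stalk (f x))] :
    trn f x ≤ trn f ξ := by
  obtain ⟨_, ⟨V, hV, rfl⟩, hxV, -⟩ := Y.isBasis_affineOpens.exists_subset_of_mem_open
    (Set.mem_univ (f x)) isOpen_univ
  obtain ⟨_, ⟨U, hU, rfl⟩, hxU, hUV⟩ := X.isBasis_affineOpens.exists_subset_of_mem_open
    hxV (f ⁻¹ᵁ V).2
  have hUV' : U ≤ f ⁻¹ᵁ V := hUV
  have hξU : ξ ∈ U := h.mem_open U.2 hxU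
  unfold trn
  apply Cardinal.toENat.monotone'
  have h1 := trdeg_chart f hU hV hUV' x hxU
  have h2 := trdeg_chart f hU hV hUV' ξ hξU
  simp only at h1 h2
  rw [← h1, ← h2]
  letI := (f.appLE V U hUV').hom.toAlgebra
  haveI l1 : (hU.primeIdealOf ⟨x, hxU⟩).asIdeal.LiesOver
      (hV.primeIdealOf ⟨f x, hUV' hxU⟩).asIdeal := ⟨primeIdealOf_comap f hU hV hUV' x hxU⟩
  haveI l2 : (hU.primeIdealOf ⟨ξ, hξU⟩).asIdeal.LiesOver
      (hV.primeIdealOf ⟨f ξ, hUV' hξU⟩).asIdeal := ⟨primeIdealOf_comap f hU hV hUV' ξ hξU⟩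
  rw [trdeg_quotient_liesOver_eq (hU.primeIdealOf ⟨x, hxU⟩).asIdeal
      (hV.primeIdealOf ⟨f x, hUV' hxU⟩).asIdeal,
    trdeg_quotient_liesOver_eq (hU.primeIdealOf ⟨ξ, hξU⟩).asIdeal
      (hV.primeIdealOf ⟨f ξ, hUV' hξU⟩).asIdeal]
  have hle : (hU.primeIdealOf ⟨ξ, hξU⟩).asIdeal ≤ (hU.primeIdealOf ⟨x, hxU⟩).asIdeal :=
    (primeIdealOf_le_iff hU ⟨ξ, hξU⟩ ⟨x, hxU⟩).mpr h
  refine trdeg_quotient_le_of_le _ _ hle ?_
  have hunder : (hU.primeIdealOf ⟨x, hxU⟩).asIdeal.under Γ(Y, V) =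
      (hV.primeIdealOf ⟨f x, hUV' hxU⟩).asIdeal := (primeIdealOf_comap f hU hV hUV' x hxU).symm
  rw [hunder]
  letI algA : Algebra Γ(Y, V) (Y.presheaf.stalk (f x)) :=
    TopCat.Presheaf.algebra_section_stalk Y.presheaf ⟨f x, hxV⟩
  haveI := hV.isLocalization_stalk ⟨f x, hxV⟩
  exact locDvd_of_isLocalization _ (Y.presheaf.stalk (f x))

end Groth.Agent.Lib.Helper12.ValDim
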