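import Mathlib

/-!
# Helper library (helper12): localisations of valuation rings are valuation rings; stalks of the
spectrum of a Prüfer domain are valuation rings
-/

set_option autoImplicit false
universe u
open AlgebraicGeometry CategoryTheory

namespace Groth.Agent.Lib.Helper12.ValStalk

/-- A localisation of a valuation ring which is a domain is a valuation ring. -/
theorem valuationRing_of_isLocalization (R : Type*) [CommRing R] [IsDomain R] [ValuationRing R]
    (M : Submonoid R) (S : Type*) [CommRing S] [IsDomain S] [Algebra R S] [IsLocalization M S] :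
    ValuationRing S := by
  rw [ValuationRing.iff_dvd_total]
  have key : ∀ (a b : R) (s t : M), a ∣ b →
      IsLocalization.mk' S a s ∣ IsLocalization.mk' S b t := by
    rintro a b s t ⟨c, rfl⟩
    obtain ⟨u, hu⟩ := IsLocalization.map_units S t
    refine ⟨algebraMap R S s * algebraMap R S c * ↑u⁻¹, ?_⟩
    have hx := IsLocalization.mk'_spec S a s
    have hy := IsLocalization.mk'_spec S (a * c) t
    calc IsLocalization.mk' S (a * c) t
        = IsLocalization.mk' S (a * c) t * algebraMap R S t * ↑u⁻¹ := by
          rw [← hu, mul_assoc, Units.mul_inv, mul_one]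
      _ = algebraMap R S (a * c) * ↑u⁻¹ := by rw [hy]
      _ = IsLocalization.mk' S a s * algebraMap R S s * algebraMap R S c * ↑u⁻¹ := by
          rw [map_mul, hx]
      _ = _ := by ring
  refine ⟨fun x y => ?_⟩
  obtain ⟨a, s, rfl⟩ := IsLocalization.exists_mk'_eq M x
  obtain ⟨b, t, rfl⟩ := IsLocalization.exists_mk'_eq M y
  rcases (ValuationRing.iff_dvd_total.mp ‹ValuationRing R›).total a b with h | h
  · exact Or.inl (key a b s t h)
  · exact Or.inr (key b a t s h)

/-- The stalk of `Spec R` at a point is a valuation domain when `R` is Prüfer. -/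
theorem stalk_valuation (R : Type u) [CommRing R] [IsDomain R]
    (hR : ∀ (p : Ideal R) [p.IsPrime], ValuationRing (Localization.AtPrime p))
    (γ : Spec (CommRingCat.of R)) :
    IsDomain ((Spec (CommRingCat.of R)).presheaf.stalk γ) ∧
      ValuationRing ((Spec (CommRingCat.of R)).presheaf.stalk γ) := by
  letI : Algebra R ((Spec.structureSheaf R).presheaf.stalk γ) := StructureSheaf.stalkAlgebra R γ
  haveI : IsLocalization.AtPrime ((Spec.structureSheaf R).presheaf.stalk γ) γ.asIdeal :=
    StructureSheaf.IsLocalization.to_stalk R γ
  let e : Localization.AtPrime γ.asIdeal ≃ₐ[R] ((Spec.structureSheaf R).presheaf.stalk γ) :=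
    IsLocalization.algEquiv γ.asIdeal.primeCompl _ _
  haveI := hR γ.asIdeal
  have hd : IsDomain ((Spec.structureSheaf R).presheaf.stalk γ) :=
    e.symm.toMulEquiv.isDomain
  refine ⟨hd, ?_⟩
  haveI := hd
  exact Function.Surjective.valuationRing (f := e.toRingEquiv.toRingHom) e.surjective

/-- The stalks of the spectrum of a valuation ring are valuation rings. -/
theorem stalk_valuation' (R : Type u) [CommRing R] [IsDomain R] [ValuationRing R]
    (γ : Spec (CommRingCat.of R)) :
    IsDomain ((Spec (CommRingCat.of R)).presheaf.stalk γ) ∧
      ValuationRing ((Spec (CommRingCat.of R)).presheaf.stalk γ) :=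
  stalk_valuation R (fun p _ => valuationRing_of_isLocalization R p.primeCompl _) γ

end Groth.Agent.Lib.Helper12.ValStalk
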