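import Mathlib
import Groth.Prelude.Def_Found
import Groth.Prelude.Def_EGA43
import Groth.Agent.Lib.Helper12.ValBaseFib
import Groth.Agent.Lib.Helper12.ValDimSch
import Groth.Agent.Lib.Helper12.ValStalk
import Groth.Agent.Lib.Helper12.SecCompBC
import Groth.Agent.Lib.Helper12.JacLocalDim
import Groth.Agent.Lib.Helper12.Chevalley

/-!
# Helper library (helper12): universally open morphisms and dimensions of nearby fibres
(EGA IV 14.3)
-/

set_option autoImplicit false
universe u v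
open AlgebraicGeometry CategoryTheory CategoryTheory.Limits IsLocalRing

namespace Groth.Agent.Lib.Helper12.UnivOpenDim

open Groth.Agent.Lib.Helper12 Groth.Agent.Lib.Helper12.SchemeDimFT
open Groth.Agent.Lib.Helper12.SchemeDimIneq Groth.Agent.Lib.Helper12.ClosedSub
open Groth.Agent.Lib.Helper12.FibreMax Groth.Agent.Lib.Helper12.SecComp
open Groth.Agent.Lib.Helper12.ValBase Groth.Agent.Lib.Helper12.ValBaseFib
open Groth.Agent.Lib.Helper12.ValStalk

section Top

variable {T : Type*} [TopologicalSpace T]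

/-- Lower bound for the local dimension of a subspace in terms of open sets of the ambient
space. -/
theorem le_localDim_subtype (A : Set T) (x : T) (hx : x ∈ A) (c : WithBot ℕ∞)
    (h : ∀ O : Set T, IsOpen O → x ∈ O → c ≤ topologicalKrullDim ↥(O ∩ A)) :
    c ≤ FlatMor.localDim ↥A ⟨x, hx⟩ := by
  unfold FlatMor.localDim
  refine le_iInf fun U => ?_
  obtain ⟨O, hO, hOU⟩ := isOpen_induced_iff.mp U.1.2
  have hxO : x ∈ O := by
    have : (⟨x, hx⟩ : ↥A) ∈ Subtype.val ⁻¹' O := by rw [hOU]; exact U.2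
    exact this
  have h1 : (U.1 : Set ↥A) = Subtype.val ⁻¹' (O ∩ A) := by
    change (U.1).carrier = _
    rw [← hOU]
    ext t
    simp only [Set.mem_preimage, Set.mem_inter_iff]
    exact ⟨fun h => ⟨h, t.2⟩, fun h => h.1⟩
  have h2 : topologicalKrullDim ↥(U.1 : Set ↥A) = topologicalKrullDim ↥(O ∩ A) := by
    rw [h1]
    exact JacLocalDim.dim_preimage_val A (O ∩ A) Set.inter_subset_right
  rw [h2]
  exact h O hO hxO

/-- Upper bound for the local dimension of a subspace. -/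
theorem localDim_subtype_le (A : Set T) (x : T) (hx : x ∈ A) (O : Set T) (hO : IsOpen O)
    (hxO : x ∈ O) : FlatMor.localDim ↥A ⟨x, hx⟩ ≤ topologicalKrullDim ↥(O ∩ A) := by
  have h1 := Groth.Agent.Lib.Helper9.localDim_le_of_mem
    (⟨(Subtype.val : ↥A → T) ⁻¹' O, hO.preimage continuous_subtype_val⟩ :
      TopologicalSpace.Opens ↥A) (x := ⟨x, hx⟩) hxO
  refine h1.trans (le_of_eq ?_)
  have h2 : ((Subtype.val : ↥A → T) ⁻¹' O) = Subtype.val ⁻¹' (O ∩ A) := by
    ext t
    simp only [Set.mem_preimage, Set.mem_inter_iff]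
    exact ⟨fun h => ⟨h, t.2⟩, fun h => h.1⟩
  change topologicalKrullDim ↥((Subtype.val : ↥A → T) ⁻¹' O) = _
  rw [h2]
  exact JacLocalDim.dim_preimage_val A (O ∩ A) Set.inter_subset_right

/-- Monotonicity of the local dimension in the subspace. -/
theorem localDim_subtype_mono (A B : Set T) (hAB : A ⊆ B) (x : T) (hx : x ∈ A) :
    FlatMor.localDim ↥A ⟨x, hx⟩ ≤ FlatMor.localDim ↥B ⟨x, hAB hx⟩ := by
  refine le_localDim_subtype B x (hAB hx) _ fun O hO hxO => ?_
  refine (localDim_subtype_le A x hx O hO hxO).trans ?_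
  exact (Topology.IsEmbedding.inclusion
    (Set.inter_subset_inter_right O hAB)).isInducing.topologicalKrullDim_le

end Top

section Dim

variable {X Y : Scheme.{u}} (f : X ⟶ Y) [LocallyOfFiniteType f]

/-- Points of a locally closed part of a fibre bound its dimension below. -/
theorem trn_le_dim_inter_fibre_of_isLocallyClosed (K : Set X) (hK : IsLocallyClosed K) (b : X)
    (hb : b ∈ K) :
    ((trn f b : ℕ∞) : WithBot ℕ∞) ≤ topologicalKrullDim ↥(K ∩ f.base ⁻¹' {f.base b}) := by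
  letI ovF : (f.fiber (f b)).Over (Spec (CommRingCat.of (Y.residueField (f b)))) :=
    ⟨f.fiberToSpecResidueField (f b)⟩
  haveI : LocallyOfFiniteType
      ((f.fiber (f b)) ↘ Spec (CommRingCat.of (Y.residueField (f b)))) :=
    FibreRes.locallyOfFiniteType_fiberToSpecResidueField f (f b)
  have hrange : Set.range (f.fiberι (f b)) = f.base ⁻¹' {f.base b} :=
    Scheme.Hom.range_fiberι f (f b)
  have h1 := DimLC.dim_preimage_of_isEmbedding (f.fiberι (f b)) (f.fiberι (f b)).isEmbedding K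
  rw [hrange, Set.inter_comm] at h1
  rw [← h1]
  have h2 := le_topologicalKrullDim_of_isLocallyClosed (Y.residueField (f b)) (f.fiber (f b))
    ((f.fiberι (f b)).base ⁻¹' K) (hK.preimage (f.fiberι (f b)).continuous) (f.asFiber b)
    (by
      change f.fiberι (f b) (f.asFiber b) ∈ K
      rw [f.fiberι_asFiber b]
      exact hb)
  rw [trn_eq_tr_of_fiber f b (f b) rfl (f.asFiber b) (f.fiberι_asFiber b)]
  exact h2

/-- Upper bound for the dimension of a locally closed part of a fibre. -/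
theorem dim_inter_fibre_le_of_isLocallyClosed (K : Set X) (hK : IsLocallyClosed K) (t : Y)
    (c : WithBot ℕ∞)
    (h : ∀ z ∈ K ∩ f.base ⁻¹' {t}, ((trn f z : ℕ∞) : WithBot ℕ∞) ≤ c) :
    topologicalKrullDim ↥(K ∩ f.base ⁻¹' {t}) ≤ c := by
  letI ovF : (f.fiber t).Over (Spec (CommRingCat.of (Y.residueField t))) :=
    ⟨f.fiberToSpecResidueField t⟩
  haveI : LocallyOfFiniteType
      ((f.fiber t) ↘ Spec (CommRingCat.of (Y.residueField t))) :=
    FibreRes.locallyOfFiniteType_fiberToSpecResidueField f t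
  have hrange : Set.range (f.fiberι t) = f.base ⁻¹' {t} := Scheme.Hom.range_fiberι f t
  have h1 := DimLC.dim_preimage_of_isEmbedding (f.fiberι t) (f.fiberι t).isEmbedding K
  rw [hrange, Set.inter_comm] at h1
  rw [← h1]
  refine topologicalKrullDim_le_of_isLocallyClosed (Y.residueField t) (f.fiber t) _
    (hK.preimage (f.fiberι t).continuous) _ ?_
  intro w hw
  have hzK : f.fiberι t w ∈ K := hw
  have hzF : f (f.fiberι t w) = t := by
    have : f.fiberι t w ∈ Set.range (f.fiberι t) := ⟨w, rfl⟩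
    rw [hrange] at this
    exact this
  have h2 := trn_eq_tr_of_fiber f (f.fiberι t w) t hzF w rfl
  have h3 := h (f.fiberι t w) ⟨hzK, hzF⟩
  rw [h2] at h3
  exact h3

/-- Strict form of the upper bound. -/
theorem dim_inter_fibre_lt_of_isLocallyClosed (K : Set X) (hK : IsLocallyClosed K) (t : Y)
    (m : ℕ) (h : ∀ z ∈ K ∩ f.base ⁻¹' {t}, trn f z < (m : ℕ∞)) :
    topologicalKrullDim ↥(K ∩ f.base ⁻¹' {t}) < (m : WithBot ℕ∞) := by
  rcases Nat.eq_zero_or_pos m with hm | hm
  · subst hm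
    have hempty : K ∩ f.base ⁻¹' {t} = ∅ := by
      rw [Set.eq_empty_iff_forall_notMem]
      intro z hz
      exact absurd (h z hz) (not_lt.mpr (by simp))
    have h1 := dim_inter_fibre_le_of_isLocallyClosed f K hK t ⊥ (by
      intro z hz
      rw [hempty] at hz
      exact absurd hz (Set.notMem_empty z))
    exact lt_of_le_of_lt h1 (WithBot.bot_lt_coe _)
  · obtain ⟨k, rfl⟩ : ∃ k, m = k + 1 := ⟨m - 1, by omega⟩
    have h1 := dim_inter_fibre_le_of_isLocallyClosed f K hK t ((k : ℕ∞) : WithBot ℕ∞) (by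
      intro z hz
      have h2 := h z hz
      have h3 : trn f z ≤ (k : ℕ∞) := by
        have h4 : trn f z < (k : ℕ∞) + 1 := by exact_mod_cast h2
        exact Order.le_of_lt_add_one h4
      exact WithBot.coe_le_coe.mpr h3)
    refine lt_of_le_of_lt h1 ?_
    have : ((k : ℕ∞) : WithBot ℕ∞) < (((k + 1 : ℕ) : ℕ∞) : WithBot ℕ∞) := by
      refine WithBot.coe_lt_coe.mpr ?_
      exact_mod_cast Nat.lt_succ_self k
    exact_mod_cast this

/-- At a maximal point of a fibre the fibre dimension is the transcendence degree. -/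
theorem fibreDimAt_eq_trn_of_max (x : X)
    (hmax : ∀ x' : X, f.base x' = f.base x → x ∈ closure {x'} → x' = x) :
    FlatMor.fibreDimAt f x = ((trn f x : ℕ∞) : WithBot ℕ∞) := by
  apply le_antisymm
  · obtain ⟨z, hzF, hzx, hle⟩ := exists_generization_trn_eq_fibreDimAt f x
    have := hmax z hzF (specializes_iff_mem_closure.mp hzx)
    rw [this] at hle
    exact hle
  · exact trn_le_fibreDimAt_of_specializes f x x rfl specializes_rfl

/-- **EGA IV 14.3.x**: if `f` is universally open at a maximal point `x` of its fibre then the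
fibres over the generizations of `f x` have dimension at least `dim_x (X_{f x})` near `x`. -/
theorem le_dim_of_isUnivOpenAt (x : X)
    (hmax : ∀ x' : X, f.base x' = f.base x → x ∈ closure {x'} → x' = x)
    (hUO : EGA43.IsUnivOpenAt f x) (U : X.Opens) (hxU : x ∈ U) (y' : Y) (hy' : y' ⤳ f.base x) :
    FlatMor.fibreDimAt f x ≤ topologicalKrullDim ↥((U : Set X) ∩ f.base ⁻¹' {y'}) := by
  rw [fibreDimAt_eq_trn_of_max f x hmax]
  obtain ⟨A, _, _, _, φ, η, hφc, hφη, hηgen, hbij⟩ := exists_valuationRing_spec Y (f.base x) y' hy'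
  obtain ⟨x₁, hx₁π, hx₁c, hx₁trn⟩ := exists_point_over_trn_eq f φ x (closedPoint A) hφc
  set π := pullback.fst f φ with hπ
  set f₁ := pullback.snd f φ with hf₁
  have hcomm : ∀ t : ↥(pullback f φ), f.base (π.base t) = φ.base (f₁.base t) :=
    fun t => SecCompBC.fst_snd_apply f φ t
  have hopen : EGA43.IsOpenAt f₁.base x₁ := hUO _ φ x₁ hx₁π
  obtain ⟨a, hax₁, haη⟩ := (Groth.Agent.S3404.result f₁ x₁).1 hopen η (hηgen _)
  obtain ⟨hdom, hval⟩ := stalk_valuation' A (f₁.base x₁)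
  haveI := hdom
  haveI := hval
  have h7 : trn f₁ x₁ ≤ trn f₁ a := ValDim.trn_le_of_valuationRing_stalk f₁ x₁ a hax₁
  have hbij' : ∀ t : ↥(Spec (CommRingCat.of A)), t = η →
      Function.Bijective (φ.residueFieldMap t).hom := by
    rintro t rfl
    exact hbij
  have h8 : trn f₁ a = trn f (π.base a) := trn_pullback_of_bijective f φ a (hbij' _ haη)
  have h9 : f.base (π.base a) = y' := by rw [hcomm, haη, hφη]
  have haU : π.base a ∈ (U : Set X) := by
    have h1 : π.base a ⤳ π.base x₁ := hax₁.map π.continuous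
    rw [hx₁π] at h1
    exact h1.mem_open U.2 hxU
  have h10 := trn_le_dim_inter_fibre_of_isLocallyClosed f (U : Set X) U.2.isLocallyClosed
    (π.base a) haU
  rw [h9] at h10
  refine le_trans ?_ h10
  rw [← hx₁trn, ← h8]
  exact WithBot.coe_le_coe.mpr h7

end Dim

section Fin

/-- A Noetherian quasi-sober `T₀` space has finitely many maximal points. -/
theorem finite_maxPts {N : Type*} [TopologicalSpace N] [TopologicalSpace.NoetherianSpace N]
    [QuasiSober N] [T0Space N] : {w : N | ∀ w' : N, w' ⤳ w → w' = w}.Finite := by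
  have hfin := TopologicalSpace.NoetherianSpace.finite_irreducibleComponents (α := N)
  refine (hfin.preimage (f := fun w : N => closure ({w} : Set N)) ?_).subset ?_
  · intro w _ w' _ h
    have h' : closure ({w} : Set N) = closure {w'} := h
    have h1 : w' ⤳ w := specializes_iff_closure_subset.mpr (h'.le)
    have h2 : w ⤳ w' := specializes_iff_closure_subset.mpr (h'.ge)
    exact (h2.antisymm h1).eq
  · intro w hw
    exact (closure_singleton_mem_irreducibleComponents_iff w).mpr hw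

variable {X Y : Scheme.{u}} (f : X ⟶ Y) [LocallyOfFiniteType f]

/-- Inside an affine chart, a fibre has finitely many maximal points. -/
theorem finite_maxPts_fibre (U₀ : X.Opens) (hU₀ : IsAffineOpen U₀) (V₀ : Y.Opens)
    (hV₀ : IsAffineOpen V₀) (e : U₀ ≤ f ⁻¹ᵁ V₀) (η₀ : Y) :
    {a : X | a ∈ U₀ ∧ f.base a = η₀ ∧
      ∀ a' : X, a' ⤳ a → f.base a' = η₀ → a' = a}.Finite := by
  by_cases hη : η₀ ∈ V₀
  · haveI : IsAffine (U₀ : Scheme.{u}) := hU₀
    haveI : IsAffine (V₀ : Scheme.{u}) := hV₀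
    have hf₀ : f.resLE V₀ U₀ e ≫ V₀.ι = U₀.ι ≫ f := Scheme.Hom.resLE_comp_ι f e
    have hf₀' : ∀ t : ↥U₀, f.base (U₀.ι.base t) = V₀.ι.base ((f.resLE V₀ U₀ e).base t) := by
      intro t
      have := congrArg (fun ψ : (U₀ : Scheme.{u}) ⟶ Y => ψ.base t) hf₀
      simpa using this.symm
    haveI := noetherianSpace_fiber (f.resLE V₀ U₀ e) ⟨η₀, hη⟩
    let Φ : ↥((f.resLE V₀ U₀ e).fiber ⟨η₀, hη⟩) → X :=
      fun w => U₀.ι.base (((f.resLE V₀ U₀ e).fiberι ⟨η₀, hη⟩).base w)
    have hΦcont : Continuous Φ :=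
      U₀.ι.continuous.comp ((f.resLE V₀ U₀ e).fiberι ⟨η₀, hη⟩).continuous
    have hΦinj : Function.Injective Φ :=
      U₀.ι.isEmbedding.injective.comp
        ((f.resLE V₀ U₀ e).fiberι ⟨η₀, hη⟩).isEmbedding.injective
    have hΦf : ∀ w, f.base (Φ w) = η₀ := by
      intro w
      change f.base (U₀.ι.base _) = η₀
      rw [hf₀', EquidimSub.apply_fiberι]
      rfl
    refine ((finite_maxPts (N := ↥((f.resLE V₀ U₀ e).fiber ⟨η₀, hη⟩))).image Φ).subset ?_
    rintro a ⟨haU, haη, hamax⟩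
    have hf₀a : (f.resLE V₀ U₀ e).base ⟨a, haU⟩ = ⟨η₀, hη⟩ := by
      apply Subtype.ext
      have := hf₀' ⟨a, haU⟩
      change f.base a = _ at this
      rw [haη] at this
      exact this.symm
    have hw : ((f.resLE V₀ U₀ e).fiberι ⟨η₀, hη⟩).base
        (((f.resLE V₀ U₀ e).fiberHomeo ⟨η₀, hη⟩).symm ⟨⟨a, haU⟩, hf₀a⟩) = ⟨a, haU⟩ :=
      (f.resLE V₀ U₀ e).fiberι_fiberHomeo_symm ⟨η₀, hη⟩ ⟨⟨a, haU⟩, hf₀a⟩
    have hΦw : Φ (((f.resLE V₀ U₀ e).fiberHomeo ⟨η₀, hη⟩).symm ⟨⟨a, haU⟩, hf₀a⟩) = a := by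
      change U₀.ι.base _ = a
      rw [hw]
      rfl
    refine ⟨_, ?_, hΦw⟩
    intro w' hw'
    have h1 : Φ w' ⤳ a := by
      have := hw'.map hΦcont
      rwa [hΦw] at this
    have h3 := hamax (Φ w') h1 (hΦf w')
    exact hΦinj (h3.trans hΦw.symm)
  · refine Set.Finite.subset Set.finite_empty ?_
    rintro a ⟨haU, haη, -⟩
    exact absurd (haη ▸ e haU) hη

/-- **EGA IV 14.3.x**, second half: the dimension inequalities near a maximal point `x` of its
fibre produce an irreducible component through `x` dominating a given component of the base. -/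
theorem exists_component_of_le_dim (x : X)
    (hmax : ∀ x' : X, f.base x' = f.base x → x ∈ closure {x'} → x' = x)
    (hb' : ∀ U : X.Opens, x ∈ U → ∀ y' : Y, y' ⤳ f.base x →
      FlatMor.fibreDimAt f x ≤ topologicalKrullDim ↥((U : Set X) ∩ f.base ⁻¹' {y'}))
    (Y₀ : Set Y) (hY₀ : Y₀ ∈ irreducibleComponents (Y : Type u)) (hxY₀ : f.base x ∈ Y₀) :
    ∃ Z ∈ irreducibleComponents (X : Type u), ∃ hx : x ∈ Z, closure (f.base '' Z) = Y₀ ∧
      ∀ η : Y, closure ({η} : Set Y) = Y₀ →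
        FlatMor.fibreDimAt f x =
          FlatMor.localDim ↥(Z ∩ f.base ⁻¹' {f.base x}) ⟨x, ⟨hx, rfl⟩⟩ ∧
        FlatMor.localDim ↥(Z ∩ f.base ⁻¹' {f.base x}) ⟨x, ⟨hx, rfl⟩⟩ =
          topologicalKrullDim ↥(Z ∩ f.base ⁻¹' {η}) := by
  obtain ⟨m, hm⟩ := exists_nat_fibreDimAt f x
  have htrn : trn f x = (m : ℕ∞) := by
    have h1 := fibreDimAt_eq_trn_of_max f x hmax
    rw [hm] at h1
    have h2 : ((m : ℕ∞) : WithBot ℕ∞) = ((trn f x : ℕ∞) : WithBot ℕ∞) := by exact_mod_cast h1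
    exact (WithBot.coe_injective h2).symm
  obtain ⟨η₀, hη₀⟩ := QuasiSober.sober hY₀.1 (isClosed_of_mem_irreducibleComponents Y₀ hY₀)
  have hη₀def : closure ({η₀} : Set Y) = Y₀ := hη₀.def
  have hη₀x : η₀ ⤳ f.base x := hη₀.specializes hxY₀
  have hη₀max : ∀ y : Y, y ⤳ η₀ → y = η₀ :=
    (closure_singleton_mem_irreducibleComponents_iff η₀).mp (hη₀def ▸ hY₀)
  have hOopen := Chevalley.isOpen_setOf_fibreDimAt_le f m
  have hxO : x ∈ {x' : X | FlatMor.fibreDimAt f x' ≤ m} := by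
    simp only [Set.mem_setOf_eq]
    rw [hm]
  obtain ⟨_, ⟨V₀, hV₀, rfl⟩, hxV₀, -⟩ := Y.isBasis_affineOpens.exists_subset_of_mem_open
    (Set.mem_univ (f.base x)) isOpen_univ
  obtain ⟨_, ⟨U₀, hU₀, rfl⟩, hxU₀, hU₀sub⟩ := X.isBasis_affineOpens.exists_subset_of_mem_open
    (show x ∈ ((f ⁻¹ᵁ V₀ : X.Opens) : Set X) ∩ {x' : X | FlatMor.fibreDimAt f x' ≤ m} from
      ⟨hxV₀, hxO⟩) ((f ⁻¹ᵁ V₀).2.inter hOopen)
  have e : U₀ ≤ f ⁻¹ᵁ V₀ := fun t ht => (hU₀sub ht).1
  have hU₀O : ∀ t ∈ U₀, FlatMor.fibreDimAt f t ≤ m := fun t ht => (hU₀sub ht).2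
  have htrnle : ∀ t ∈ U₀, trn f t ≤ (m : ℕ∞) := by
    intro t ht
    have h1 := (trn_le_fibreDimAt_of_specializes f t t rfl specializes_rfl).trans (hU₀O t ht)
    have h2 : ((trn f t : ℕ∞) : WithBot ℕ∞) ≤ ((m : ℕ∞) : WithBot ℕ∞) := by exact_mod_cast h1
    exact WithBot.coe_le_coe.mp h2
  set Bad : Set X := {a : X | a ∈ U₀ ∧ f.base a = η₀ ∧ (m : ℕ∞) ≤ trn f a} with hBad
  have hBadmax : ∀ a ∈ Bad, (∀ a' : X, a' ⤳ a → a' = a) ∧ trn f a = (m : ℕ∞) := by
    rintro a ⟨haU, haη, ham⟩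
    refine ⟨?_, le_antisymm (htrnle a haU) ham⟩
    intro a' ha'
    have h1 : f.base a' ⤳ f.base a := ha'.map f.continuous
    rw [haη] at h1
    have h2 : f.base a' = η₀ := hη₀max _ h1
    have ha'U : a' ∈ U₀ := ha'.mem_open U₀.2 haU
    by_contra hne
    have h3 := trn_lt_of_specializes f a a' (h2.trans haη.symm) ha' hne
    exact absurd (lt_of_le_of_lt ham h3) (not_lt.mpr (htrnle a' ha'U))
  have hBadfin : Bad.Finite :=
    (finite_maxPts_fibre f U₀ hU₀ V₀ hV₀ e η₀).subset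
      (fun a ha => ⟨ha.1, ha.2.1, fun a' h _ => (hBadmax a ha).1 a' h⟩)
  have hxBad : x ∈ closure Bad := by
    by_contra hx'
    let U : X.Opens := U₀ ⊓ ⟨(closure Bad)ᶜ, isClosed_closure.isOpen_compl⟩
    have hxU : x ∈ U := ⟨hxU₀, hx'⟩
    have h1 := hb' U hxU η₀ hη₀x
    rw [hm] at h1
    have h2 := dim_inter_fibre_lt_of_isLocallyClosed f (U : Set X) U.2.isLocallyClosed η₀ m (by
      rintro z ⟨⟨hzU₀, hzB⟩, hzη⟩
      by_contra hlt
      exact hzB (subset_closure ⟨hzU₀, hzη, not_lt.mp hlt⟩))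
    exact absurd (lt_of_le_of_lt h1 h2) (lt_irrefl _)
  obtain ⟨a, haBad, hxa⟩ : ∃ a ∈ Bad, x ∈ closure ({a} : Set X) := by
    have h1 : closure Bad = ⋃ a ∈ Bad, closure ({a} : Set X) := by
      conv_lhs => rw [← Set.biUnion_of_singleton Bad]
      exact hBadfin.closure_biUnion _
    rw [h1] at hxBad
    simp only [Set.mem_iUnion] at hxBad
    obtain ⟨a, ha, hxa⟩ := hxBad
    exact ⟨a, ha, hxa⟩
  have hax : a ⤳ x := specializes_iff_mem_closure.mpr hxa
  have haη : f.base a = η₀ := haBad.2.1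
  have hatrn : trn f a = (m : ℕ∞) := (hBadmax a haBad).2
  refine ⟨closure {a}, (mem_irreducibleComponents_iff _).mpr ⟨a, (hBadmax a haBad).1, rfl⟩, hxa,
    ?_, ?_⟩
  · apply Set.Subset.antisymm
    · refine closure_minimal ?_ (isClosed_of_mem_irreducibleComponents Y₀ hY₀)
      rintro _ ⟨t, ht, rfl⟩
      have h1 : f.base a ⤳ f.base t := (specializes_iff_mem_closure.mpr ht).map f.continuous
      rw [haη] at h1
      rw [← hη₀def]
      exact specializes_iff_mem_closure.mp h1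
    · rw [← hη₀def]
      refine closure_mono ?_
      rw [Set.singleton_subset_iff]
      exact ⟨a, subset_closure rfl, haη⟩
  · intro η hη
    have hηeq : η = η₀ := (isGenericPoint_def.mpr hη).eq hη₀
    subst hηeq
    have hB : topologicalKrullDim ↥(closure ({a} : Set X) ∩ f.base ⁻¹' {η}) = (m : WithBot ℕ∞) := by
      rw [← haη, dim_closure_inter_fibre f a, hatrn]
      rfl
    have hA : FlatMor.localDim ↥(closure ({a} : Set X) ∩ f.base ⁻¹' {f.base x})
        ⟨x, ⟨hxa, rfl⟩⟩ = (m : WithBot ℕ∞) := by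
      apply le_antisymm
      · have h1 := localDim_subtype_mono (closure ({a} : Set X) ∩ f.base ⁻¹' {f.base x})
          (f.base ⁻¹' {f.base x}) Set.inter_subset_right x ⟨hxa, rfl⟩
        refine h1.trans (le_of_eq ?_)
        rw [← hm, TopFibreDim.fibreDimAt_eq_topFibreDim]
        rfl
      · refine le_localDim_subtype (closure ({a} : Set X) ∩ f.base ⁻¹' {f.base x}) x
          ⟨hxa, rfl⟩ _ fun O hO hxO => ?_
        obtain ⟨z, hzF, haz, hzx, htr⟩ := exists_between_trn_le f x a hax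
        have hzO : z ∈ O := hzx.mem_open hO hxO
        have hzZ : z ∈ closure ({a} : Set X) := specializes_iff_mem_closure.mp haz
        have h1 := trn_le_dim_inter_fibre_of_isLocallyClosed f (O ∩ closure ({a} : Set X))
          (hO.isLocallyClosed.inter isClosed_closure.isLocallyClosed) z ⟨hzO, hzZ⟩
        rw [hzF, Set.inter_assoc] at h1
        refine le_trans ?_ h1
        rw [hatrn] at htr
        have : ((m : ℕ∞) : WithBot ℕ∞) ≤ ((trn f z : ℕ∞) : WithBot ℕ∞) :=
          WithBot.coe_le_coe.mpr htr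
        exact_mod_cast this
    exact ⟨hm.trans hA.symm, hA.trans hB.symm⟩

end Fin

end Groth.Agent.Lib.Helper12.UnivOpenDim
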