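import Mathlib
import Groth.Prelude.Def_Found
import Groth.Prelude.Def_EGA43
import Groth.Agent.Lib.Helper12.DvrSecAlg
import Groth.Agent.Lib.Helper12.UnivOpenDim
import Groth.Agent.Lib.Helper6.FiberStalkIso
import Groth.Agent.Lib.Helper8.UnivOpen
import Groth.Agent.S3404

/-!
# Helper library (helper12): integrality of a scheme along a fibre over a "DVR-like" point

* `exists_isOpen_isIrreducible_of_isDomain_stalk`: in a locally Noetherian scheme, a point whose
  local ring is a domain has an irreducible open neighbourhood.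
* `isDomain_stalk_of_isReduced_of_generic`: a reduced local ring of a scheme at `w` is a domain if
  all generizations of `w` are specializations of a single one.
* `isDomain_stalk_of_fibre`: EGA-free core: if the maximal ideal of `𝒪_{Y,f x}` is principal,
  the local ring of the fibre at `x` is a domain and the generic point of the fibre component
  through `x` has a generization outside the fibre, then `𝒪_{X,x}` is a domain.
* `fibreDimAt_le_dim_connectedComponentIn`: the resulting lower bound for the dimension of the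
  connected component of a generic fibre.
-/

set_option autoImplicit false
universe u v
open AlgebraicGeometry CategoryTheory CategoryTheory.Limits IsLocalRing

namespace Groth.Agent.Lib.Helper12.DvrSecSch

open Groth.Agent.Lib.Helper12.DvrSecAlg Groth.Agent.Lib.Helper12.UnivOpenDim
open Groth.Agent.Lib.Helper12.SecComp Groth.Agent.Lib.Helper6 Groth.Agent.Lib.Helper8

/-- In a locally Noetherian scheme, a point whose local ring is a domain has an irreducible open
neighbourhood. -/
theorem exists_isOpen_isIrreducible_of_isDomain_stalk {X : Scheme.{u}} [IsLocallyNoetherian X]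
    (x : X) [IsDomain (X.presheaf.stalk x)] :
    ∃ U : X.Opens, x ∈ U ∧ IsIrreducible (U : Set X) := by
  obtain ⟨_, ⟨W, hW, rfl⟩, hxW, -⟩ := X.isBasis_affineOpens.exists_subset_of_mem_open
    (Set.mem_univ x) isOpen_univ
  haveI : IsNoetherianRing Γ(X, W) := IsLocallyNoetherian.component_noetherian ⟨W, hW⟩
  letI : Algebra Γ(X, W) (X.presheaf.stalk x) :=
    TopCat.Presheaf.algebra_section_stalk X.presheaf (U := W) ⟨x, hxW⟩
  haveI hloc : IsLocalization.AtPrime (X.presheaf.stalk x)
      (hW.primeIdealOf ⟨x, hxW⟩).asIdeal := hW.isLocalization_stalk ⟨x, hxW⟩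
  obtain ⟨t, htp, hirr⟩ := exists_basicOpen_isIrreducible (hW.primeIdealOf ⟨x, hxW⟩)
    (X.presheaf.stalk x)
  have hemb : Topology.IsOpenEmbedding hW.fromSpec := hW.fromSpec.isOpenEmbedding
  refine ⟨⟨hW.fromSpec '' (PrimeSpectrum.basicOpen t : Set (PrimeSpectrum Γ(X, W))),
    hemb.isOpenMap _ (PrimeSpectrum.basicOpen t).2⟩, ?_, ?_⟩
  · refine ⟨hW.primeIdealOf ⟨x, hxW⟩, htp, ?_⟩
    exact hW.fromSpec_primeIdealOf ⟨x, hxW⟩
  · exact hirr.image _ hW.fromSpec.continuous.continuousOn

/-- A reduced local ring of a scheme at `w` is a domain as soon as all generizations of `w` are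
specializations of a single generization. -/
theorem isDomain_stalk_of_isReduced_of_generic {F : Scheme.{u}} (w ξ : F)
    [hred : IsReduced (F.presheaf.stalk w)] (hξw : ξ ⤳ w) (hξ : ∀ z : F, z ⤳ w → ξ ⤳ z) :
    IsDomain (F.presheaf.stalk w) := by
  set j := F.fromSpecStalk w with hj
  have hemb : Topology.IsEmbedding j := j.isEmbedding
  have hrange : Set.range j = {z | z ⤳ w} := Scheme.range_fromSpecStalk
  obtain ⟨P₀, hP₀⟩ : ξ ∈ Set.range j := by rw [hrange]; exact hξw
  have hle : ∀ P : PrimeSpectrum (F.presheaf.stalk w), P₀.asIdeal ≤ P.asIdeal := by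
    intro P
    have h1 : j P ⤳ w := by
      have : j P ∈ Set.range j := ⟨P, rfl⟩
      rw [hrange] at this; exact this
    have h2 : j P₀ ⤳ j P := by rw [hP₀]; exact hξ _ h1
    have h3 : P₀ ⤳ P := hemb.isInducing.specializes_iff.mp h2
    exact (PrimeSpectrum.le_iff_specializes P₀ P).mpr h3
  have hbot : P₀.asIdeal = ⊥ := by
    rw [eq_bot_iff]
    intro a ha
    have h1 : a ∈ nilradical (F.presheaf.stalk w) := by
      rw [nilradical_eq_sInf, Ideal.mem_sInf]
      intro I hI
      exact hle ⟨I, hI⟩ ha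
    have h2 : IsNilpotent a := h1
    rw [Ideal.mem_bot]
    exact hred.eq_zero a h2
  exact isDomain_of_bot_isPrime (hbot ▸ P₀.isPrime)

section Core

variable {X Y : Scheme.{u}} (f : X ⟶ Y)

/-- If `f ξ = f x` and `ξ ⤳ x`, the prime of `𝒪_{X,x}` corresponding to `ξ` contains the ideal
of the fibre. -/
theorem fiberIdeal_le_of_specializes (x : X) (P : PrimeSpectrum (X.presheaf.stalk x))
    (hP : f.base ((X.fromSpecStalk x).base P) = f.base x) : fiberIdeal f x ≤ P.asIdeal := by
  have hcomm : Spec.map (f.stalkMap x) ≫ Y.fromSpecStalk (f.base x) = X.fromSpecStalk x ≫ f :=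
    Scheme.SpecMap_stalkMap_fromSpecStalk f
  have h1 : (Y.fromSpecStalk (f.base x)).base ((Spec.map (f.stalkMap x)).base P) = f.base x := by
    rw [← Scheme.Hom.comp_apply, hcomm, Scheme.Hom.comp_apply]; exact hP
  have h2 : (Spec.map (f.stalkMap x)).base P = closedPoint (Y.presheaf.stalk (f.base x)) := by
    apply (Y.fromSpecStalk (f.base x)).isEmbedding.injective
    rw [h1]; exact Scheme.fromSpecStalk_closedPoint.symm
  have h3 : (P.asIdeal).comap (f.stalkMap x).hom = maximalIdeal (Y.presheaf.stalk (f.base x)) := by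
    have := congrArg PrimeSpectrum.asIdeal h2
    exact this
  unfold fiberIdeal
  rw [Ideal.map_le_iff_le_comap, h3]

/-- The point of `X` corresponding to a prime of `𝒪_{X,x}` containing the fibre ideal lies in the
fibre through `x`. -/
theorem apply_fromSpecStalk_of_fiberIdeal_le (x : X) (P : PrimeSpectrum (X.presheaf.stalk x))
    (hP : fiberIdeal f x ≤ P.asIdeal) : f.base ((X.fromSpecStalk x).base P) = f.base x := by
  have hcomm : Spec.map (f.stalkMap x) ≫ Y.fromSpecStalk (f.base x) = X.fromSpecStalk x ≫ f :=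
    Scheme.SpecMap_stalkMap_fromSpecStalk f
  have h3 : maximalIdeal (Y.presheaf.stalk (f.base x)) ≤ (P.asIdeal).comap (f.stalkMap x).hom := by
    unfold fiberIdeal at hP
    exact Ideal.map_le_iff_le_comap.mp hP
  have h4 : (P.asIdeal).comap (f.stalkMap x).hom = maximalIdeal (Y.presheaf.stalk (f.base x)) :=
    ((IsLocalRing.maximalIdeal.isMaximal _).eq_of_le
      (Ideal.IsPrime.ne_top (Ideal.comap_isPrime _ _)) h3).symm
  have h2 : (Spec.map (f.stalkMap x)).base P = closedPoint (Y.presheaf.stalk (f.base x)) :=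
    PrimeSpectrum.ext h4
  rw [← Scheme.Hom.comp_apply, ← hcomm, Scheme.Hom.comp_apply, h2]
  exact Scheme.fromSpecStalk_closedPoint

/-- **Key lemma.** Let `X` be locally Noetherian, `x` a point of `X` such that the maximal ideal
of `𝒪_{Y, f x}` is principal and `𝒪_{X,x} ⧸ 𝔪 𝒪_{X,x}` is a domain. If `ξ` is a maximal point of
the fibre through `x` specializing to `x`, and `ξ` has a generization outside the fibre, then
`𝒪_{X,x}` is a domain. -/
theorem isDomain_stalk_of_fibre [IsLocallyNoetherian X] (x ξ x'' : X)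
    (hπ : ∃ π : Y.presheaf.stalk (f.base x), maximalIdeal (Y.presheaf.stalk (f.base x)) =
      Ideal.span {π})
    (hdom : IsDomain (X.presheaf.stalk x ⧸ fiberIdeal f x))
    (hξx : ξ ⤳ x) (hfξ : f.base ξ = f.base x)
    (hmax : ∀ z : X, f.base z = f.base ξ → ξ ∈ closure {z} → z = ξ)
    (hx'' : x'' ⤳ ξ) (hne : f.base x'' ≠ f.base x) : IsDomain (X.presheaf.stalk x) := by
  obtain ⟨π, hπ⟩ := hπ
  set j := X.fromSpecStalk x with hj
  have hemb : Topology.IsEmbedding j := j.isEmbedding
  have hrange : Set.range j = {z | z ⤳ x} := Scheme.range_fromSpecStalk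
  set b := (f.stalkMap x).hom π with hb
  have hI : fiberIdeal f x = Ideal.span {b} := by
    unfold fiberIdeal
    rw [hπ, Ideal.map_span, Set.image_singleton]
  have hIprime : (fiberIdeal f x).IsPrime := (Ideal.Quotient.isDomain_iff_prime _).mp hdom
  set P₀ : PrimeSpectrum (X.presheaf.stalk x) := ⟨fiberIdeal f x, hIprime⟩ with hP₀
  obtain ⟨Pξ, hPξ⟩ : ξ ∈ Set.range j := by rw [hrange]; exact hξx
  have h1 : fiberIdeal f x ≤ Pξ.asIdeal :=
    fiberIdeal_le_of_specializes f x Pξ (by rw [hPξ]; exact hfξ)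
  have h2 : P₀ ⤳ Pξ := (PrimeSpectrum.le_iff_specializes P₀ Pξ).mp h1
  have h3 : j P₀ ⤳ ξ := by rw [← hPξ]; exact h2.map j.continuous
  have h4 : f.base (j P₀) = f.base x := apply_fromSpecStalk_of_fiberIdeal_le f x P₀ le_rfl
  have h5 : j P₀ = ξ := hmax _ (by rw [h4, hfξ]) (specializes_iff_mem_closure.mp h3)
  obtain ⟨Q, hQ⟩ : x'' ∈ Set.range j := by rw [hrange]; exact hx''.trans hξx
  have h6 : Q ⤳ P₀ := by
    apply hemb.isInducing.specializes_iff.mp
    rw [hQ, h5]; exact hx''
  have h7 : Q.asIdeal ≤ Ideal.span {b} := by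
    rw [← hI]; exact (PrimeSpectrum.le_iff_specializes Q P₀).mpr h6
  have h8 : b ∉ Q.asIdeal := by
    intro hbQ
    have h9 : fiberIdeal f x ≤ Q.asIdeal := by
      rw [hI]; exact (Ideal.span_singleton_le_iff_mem _).mpr hbQ
    apply hne
    rw [← hQ]
    exact apply_fromSpecStalk_of_fiberIdeal_le f x Q h9
  have hbm : b ∈ maximalIdeal (X.presheaf.stalk x) := by
    have : fiberIdeal f x ≤ maximalIdeal (X.presheaf.stalk x) :=
      IsLocalRing.le_maximalIdeal hIprime.ne_top
    apply this
    rw [hI]; exact Ideal.mem_span_singleton_self b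
  haveI := Q.isPrime
  have h10 : Q.asIdeal = ⊥ := eq_bot_of_le_span_singleton b hbm Q.asIdeal h7 h8
  exact isDomain_of_bot_isPrime (h10 ▸ Q.isPrime)

variable [LocallyOfFiniteType f]

/-- **Dimension bound.** In the situation of `isDomain_stalk_of_fibre`, if `f` is universally
open at `ξ`, `η` is a maximal point of `Y` generizing `f x` and `xη` is a generization of `x`
over `η`, then the connected component of `f⁻¹(η)` through `xη` has dimension at least the
dimension of the fibre through `x` at `ξ`. -/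
theorem fibreDimAt_le_dim_connectedComponentIn [IsLocallyNoetherian X] (x ξ : X)
    (hπ : ∃ π : Y.presheaf.stalk (f.base x), maximalIdeal (Y.presheaf.stalk (f.base x)) =
      Ideal.span {π})
    (hdom : IsDomain ((f.fiber (f.base x)).presheaf.stalk (f.asFiber x)))
    (hξx : ξ ⤳ x) (hfξ : f.base ξ = f.base x)
    (hmax : ∀ z : X, f.base z = f.base ξ → ξ ∈ closure {z} → z = ξ)
    (hUO : EGA43.IsUnivOpenAt f ξ)
    (η : Y) (hη : η ⤳ f.base x) (hne : η ≠ f.base x) (hηmax : ∀ z : Y, z ⤳ η → z = η)
    (xη : X) (hxη : xη ⤳ x) (hfxη : f.base xη = η) :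
    FlatMor.fibreDimAt f ξ ≤
      topologicalKrullDim ↥(connectedComponentIn (f.base ⁻¹' {η}) xη) := by
  -- a generization of `ξ` over `η`
  have hopen : EGA43.IsOpenAt f.base ξ :=
    isOpenAt_of_isPullback (IsPullback.id_horiz f) ξ hUO ξ rfl
  have hηξ : η ⤳ f.base ξ := by rw [hfξ]; exact hη
  obtain ⟨x'', hx''ξ, hfx''⟩ := (Groth.Agent.S3404.result f ξ).1 hopen η hηξ
  -- the local ring at `x` is a domain
  have hdom' : IsDomain (X.presheaf.stalk x ⧸ fiberIdeal f x) :=
    (fiberStalkEquiv f x).symm.injective.isDomain (fiberStalkEquiv f x).symm.toRingHom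
  haveI : IsDomain (X.presheaf.stalk x) :=
    isDomain_stalk_of_fibre f x ξ x'' hπ hdom' hξx hfξ hmax hx''ξ (by rw [hfx'']; exact hne)
  obtain ⟨U, hxU, hUirr⟩ := exists_isOpen_isIrreducible_of_isDomain_stalk x
  -- generic point of `U`
  obtain ⟨ζ, hζ⟩ := QuasiSober.sober hUirr.closure isClosed_closure
  have hζU : ζ ∈ (U : Set X) := by
    have h1 : (closure (U : Set X) ∩ (U : Set X)).Nonempty := ⟨x, subset_closure hxU, hxU⟩
    exact (hζ.mem_open_set_iff U.2).mpr h1
  have hζsp : ∀ t ∈ (U : Set X), ζ ⤳ t := by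
    intro t ht
    exact hζ.specializes (subset_closure ht)
  have hξU : ξ ∈ (U : Set X) := hξx.mem_open U.2 hxU
  have hx''U : x'' ∈ (U : Set X) := hx''ξ.mem_open U.2 hξU
  have hxηU : xη ∈ (U : Set X) := hxη.mem_open U.2 hxU
  have hfζ : f.base ζ = η := by
    apply hηmax
    rw [← hfx'']
    exact (hζsp x'' hx''U).map f.continuous
  -- the part of `U` over `η` lies in the connected component
  have hsub : (U : Set X) ∩ f.base ⁻¹' {η} ⊆ connectedComponentIn (f.base ⁻¹' {η}) xη := by
    rintro t ⟨htU, htη⟩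
    have hζF : ζ ∈ f.base ⁻¹' {η} := hfζ
    have hxηF : xη ∈ f.base ⁻¹' {η} := hfxη
    have h1 : ζ ∈ connectedComponentIn (f.base ⁻¹' {η}) xη :=
      mem_connectedComponentIn_of_specializes _ xη ζ hxηF hζF (hζsp xη hxηU)
    have h2 : ζ ∈ connectedComponentIn (f.base ⁻¹' {η}) t :=
      mem_connectedComponentIn_of_specializes _ t ζ htη hζF (hζsp t htU)
    have h3 : connectedComponentIn (f.base ⁻¹' {η}) xη = connectedComponentIn (f.base ⁻¹' {η}) ζ :=
      connectedComponentIn_eq h1
    have h4 : connectedComponentIn (f.base ⁻¹' {η}) t = connectedComponentIn (f.base ⁻¹' {η}) ζ :=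
      connectedComponentIn_eq h2
    rw [h3, ← h4]
    exact mem_connectedComponentIn htη
  have h1 := le_dim_of_isUnivOpenAt f ξ (fun x' hx' hcl => hmax x' hx' hcl) hUO U hξU η hηξ
  exact h1.trans (Topology.IsEmbedding.inclusion hsub).isInducing.topologicalKrullDim_le

end Core

end Groth.Agent.Lib.Helper12.DvrSecSch
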