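import Mathlib
import Groth.Prelude.Def_Found
import Groth.Prelude.Def_FDesc
import Groth.Prelude.Def_EGA43
import Groth.Agent.Lib.Helper12.SecCompBC
import Groth.Agent.Lib.Helper12.DvrSecSch
import Groth.Agent.Lib.Helper11.Birat9
import Groth.Agent.S9358

/-!
# Helper library (helper12): base change to a discrete valuation ring for section components
-/

set_option autoImplicit false
universe u v
open AlgebraicGeometry CategoryTheory CategoryTheory.Limits IsLocalRing

namespace Groth.Agent.Lib.Helper12.DvrSecBC

open Groth.Agent.Lib.Helper12.SecComp Groth.Agent.Lib.Helper12.SecCompBC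
open Groth.Agent.Lib.Helper12.DvrSecSch Groth.Agent.Lib.Helper8

section Fib

variable {X Y Y' : Scheme.{u}} (f : X ⟶ Y) (g' : Y' ⟶ Y)

/-- The fibre of a base change is the base change of the fibre to the residue field. -/
theorem exists_fiberIso_bc (y'' : Y') :
    ∃ e : (pullback.snd f g').fiber y'' ≅
        @FBase.bc (IsLocalRing.ResidueField (Y.presheaf.stalk (g' y''))) _ _
          (f.fiberToSpecResidueField (g' y'')) (Y'.residueField y'') _
          (g'.residueFieldMap y'').hom.toAlgebra,
      e.hom ≫ @FBase.bcπ (IsLocalRing.ResidueField (Y.presheaf.stalk (g' y''))) _ _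
          (f.fiberToSpecResidueField (g' y'')) (Y'.residueField y'') _
          (g'.residueFieldMap y'').hom.toAlgebra ≫ f.fiberι (g' y'') =
        (pullback.snd f g').fiberι y'' ≫ pullback.fst f g' := by
  set f' := pullback.snd f g' with hf'
  set p₁ := pullback.fst f g' with hp₁
  have hsq : IsPullback p₁ f' f g' := IsPullback.of_hasPullback f g'
  let A : f'.fiber y'' ⟶ f.fiber (g' y'') :=
    pullback.map f' (Y'.fromSpecResidueField y'') f (Y.fromSpecResidueField (g' y'')) p₁
      (Spec.map (g'.residueFieldMap y'')) g' hsq.w.symm (by simp)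
  have hP : IsPullback A (f'.fiberToSpecResidueField y'') (f.fiberToSpecResidueField (g' y''))
      (Spec.map (g'.residueFieldMap y'')) :=
    isPullback_fiberToSpecResidueField_of_isPullback hsq y''
  have hAι : A ≫ f.fiberι (g' y'') = f'.fiberι y'' ≫ p₁ := pullback.lift_fst _ _ _
  letI : Algebra (IsLocalRing.ResidueField (Y.presheaf.stalk (g' y'')))
      (Y'.residueField y'') := (g'.residueFieldMap y'').hom.toAlgebra
  let e : f'.fiber y'' ≅ FBase.bc (f.fiberToSpecResidueField (g' y'')) (Y'.residueField y'') :=
    hP.isoPullback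
  have he : e.hom ≫ FBase.bcπ (f.fiberToSpecResidueField (g' y'')) (Y'.residueField y'') = A :=
    hP.isoPullback_hom_fst
  refine ⟨e, ?_⟩
  rw [← Category.assoc, he, hAι]

/-- Geometric reducedness at a point of a fibre does not depend on how the point is presented. -/
theorem isGeomReducedAt_of_fiberι_eq (x : X) (y : Y) (w : f.fiber y)
    (hw : (f.fiberι y).base w = x)
    (h : FBase.IsGeomReducedAt (f.fiberToSpecResidueField (f.base x)) (f.asFiber x)) :
    FBase.IsGeomReducedAt (f.fiberToSpecResidueField y) w := by
  have hy : f.base x = y := by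
    have h1 : (f.fiberι y).base w ∈ Set.range (f.fiberι y) := ⟨w, rfl⟩
    rw [Scheme.Hom.range_fiberι, hw] at h1
    exact h1
  subst hy
  have hw' : w = f.asFiber x := by
    apply (f.fiberι (f.base x)).isEmbedding.injective
    rw [hw]; exact (f.fiberι_asFiber x).symm
  rw [hw']
  exact h

/-- If the fibre of `f` is geometrically reduced at the image of `x'`, the local ring of the
fibre of the base change at `x'` is reduced. -/
theorem isReduced_fiber_stalk_of_isGeomReducedAt (x' : ↥(pullback f g'))
    (hGR : FBase.IsGeomReducedAt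
      (f.fiberToSpecResidueField (f.base ((pullback.fst f g').base x')))
      (f.asFiber ((pullback.fst f g').base x'))) :
    IsReduced (((pullback.snd f g').fiber ((pullback.snd f g').base x')).presheaf.stalk
      ((pullback.snd f g').asFiber x')) := by
  set f' := pullback.snd f g' with hf'
  set p₁ := pullback.fst f g' with hp₁
  set y'' := f'.base x' with hy''
  obtain ⟨e, he⟩ := exists_fiberIso_bc f g' y''
  letI : Algebra (IsLocalRing.ResidueField (Y.presheaf.stalk (g' y'')))
      (Y'.residueField y'') := (g'.residueFieldMap y'').hom.toAlgebra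
  set w' := e.hom.base (f'.asFiber x') with hw'
  set w := (FBase.bcπ (f.fiberToSpecResidueField (g' y'')) (Y'.residueField y'')).base w' with hw
  have hwx : (f.fiberι (g' y'')).base w = p₁.base x' := by
    have h1 := congrArg (fun ψ : f'.fiber y'' ⟶ X => ψ.base (f'.asFiber x')) he
    simp only [Scheme.Hom.comp_apply] at h1
    rw [hw, hw', h1]
    exact congrArg p₁.base (f'.fiberι_asFiber x')
  have hGR' : FBase.IsGeomReducedAt (f.fiberToSpecResidueField (g' y'')) w :=
    isGeomReducedAt_of_fiberι_eq f (p₁.base x') (g' y'') w hwx hGR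
  have hred : IsReduced
      ((FBase.bc (f.fiberToSpecResidueField (g' y'')) (Y'.residueField y'')).presheaf.stalk w') :=
    hGR' (Y'.residueField y'') w' rfl
  have hinj : Function.Injective
      (inv (e.hom.stalkMap (f'.asFiber x'))).hom :=
    (asIso (inv (e.hom.stalkMap (f'.asFiber x')))).commRingCatIsoToRingEquiv.injective
  exact isReduced_of_injective (inv (e.hom.stalkMap (f'.asFiber x'))).hom hinj

end Fib

section Dom

variable {X Y : Scheme.{u}} (f : X ⟶ Y)

/-- The local ring of a fibre at `x` is a domain if it is reduced and the generizations of `x` in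
the fibre are all specializations of one of them. -/
theorem isDomain_fiber_stalk (x ξ : X)
    (hred : IsReduced ((f.fiber (f.base x)).presheaf.stalk (f.asFiber x)))
    (hfξ : f.base ξ = f.base x) (hξx : ξ ⤳ x)
    (hgen : ∀ z : X, f.base z = f.base x → z ⤳ x → ξ ⤳ z) :
    IsDomain ((f.fiber (f.base x)).presheaf.stalk (f.asFiber x)) := by
  have hemb : Topology.IsEmbedding (f.fiberι (f.base x)) := (f.fiberι (f.base x)).isEmbedding
  obtain ⟨ξF, hξF⟩ : ξ ∈ Set.range (f.fiberι (f.base x)) := by
    rw [Scheme.Hom.range_fiberι]; exact hfξ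
  have hι : (f.fiberι (f.base x)) (f.asFiber x) = x := f.fiberι_asFiber x
  refine isDomain_stalk_of_isReduced_of_generic (f.asFiber x) ξF ?_ ?_
  · apply hemb.isInducing.specializes_iff.mp
    rw [hξF, hι]; exact hξx
  · intro z hz
    apply hemb.isInducing.specializes_iff.mp
    rw [hξF]
    have h1 : (f.fiberι (f.base x)) z ⤳ x :=
      (hz.map (f.fiberι (f.base x)).continuous).trans (specializes_of_eq hι)
    have h2 : (f.fiberι (f.base x)) z ∈ Set.range (f.fiberι (f.base x)) := ⟨z, rfl⟩
    rw [Scheme.Hom.range_fiberι] at h2
    exact hgen _ h2 h1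

end Dom

section SpecDvr

/-- The maximal ideal of the local ring of `Spec R` at the closed point of a discrete valuation
ring is principal. -/
theorem exists_maximalIdeal_stalk_eq_span (R : Type u) [CommRing R] [IsDomain R]
    [IsDiscreteValuationRing R] (z : ↥(Spec (CommRingCat.of R)))
    (hz : z = closedPoint R) :
    ∃ π : (Spec (CommRingCat.of R)).presheaf.stalk z,
      maximalIdeal ((Spec (CommRingCat.of R)).presheaf.stalk z) = Ideal.span {π} := by
  subst hz
  letI k : Algebra R ((Spec (CommRingCat.of R)).presheaf.stalk (closedPoint R)) :=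
    StructureSheaf.stalkAlgebra R (closedPoint R)
  haveI : IsLocalization.AtPrime ((Spec (CommRingCat.of R)).presheaf.stalk (closedPoint R))
      (closedPoint R).asIdeal := StructureSheaf.IsLocalization.to_stalk R (closedPoint R)
  obtain ⟨a, ha⟩ := (IsPrincipalIdealRing.principal (maximalIdeal R)).principal
  refine ⟨algebraMap R _ a, ?_⟩
  have h1 := IsLocalization.AtPrime.map_eq_maximalIdeal (closedPoint R).asIdeal
    ((Spec (CommRingCat.of R)).presheaf.stalk (closedPoint R))
  rw [← h1]
  have h2 : (closedPoint R).asIdeal = Ideal.span {a} := ha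
  rw [h2, Ideal.map_span, Set.image_singleton]

/-- The generic point of the spectrum of a domain has no proper generization. -/
theorem eq_of_specializes_generic (R : Type u) [CommRing R] [IsDomain R]
    (t : ↥(Spec (CommRingCat.of (FractionRing R))))
    (z : ↥(Spec (CommRingCat.of R)))
    (hz : z ⤳ (Spec.map (CommRingCat.ofHom (algebraMap R (FractionRing R)))).base t) :
    z = (Spec.map (CommRingCat.ofHom (algebraMap R (FractionRing R)))).base t := by
  set η := (Spec.map (CommRingCat.ofHom (algebraMap R (FractionRing R)))).base t with hη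
  have h1 : η.asIdeal = ⊥ := by
    have ht : t.asIdeal = ⊥ := by
      haveI := t.isPrime
      rcases Ideal.eq_bot_or_top t.asIdeal with h | h
      · exact h
      · exact absurd h t.isPrime.ne_top
    have h2 : η.asIdeal = t.asIdeal.comap (algebraMap R (FractionRing R)) := rfl
    rw [h2, ht]
    exact (RingHom.injective_iff_ker_eq_bot _).mp (IsFractionRing.injective R (FractionRing R))
  have h3 : z.asIdeal ≤ η.asIdeal := (PrimeSpectrum.le_iff_specializes z η).mpr hz
  apply PrimeSpectrum.ext
  rw [h1] at h3 ⊢
  exact le_bot_iff.mp h3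

end SpecDvr

end Groth.Agent.Lib.Helper12.DvrSecBC
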