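import Mathlib
import Groth.Agent.Lib.Helper12.DedekindUO
import Groth.Agent.Lib.Helper12.UnivOpenFT
import Groth.Agent.Lib.Helper8.UnivOpen
import Groth.Agent.Lib.Helper11.Birat11
import Groth.Agent.S2587
import Groth.Agent.S4928
import Groth.Agent.S4931

/-! Universal openness at points lying on a dominating irreducible component, over a base whose
local rings are regular of dimension at most one. -/

set_option autoImplicit false

open CategoryTheory AlgebraicGeometry TopologicalSpace CategoryTheory.Limits IsLocalRing EGA43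

universe u

namespace Groth.Agent.Lib.Helper12.DedekindUO

open Groth.Agent.Lib.Helper12.UnivOpenFT

/-- Universal openness at a point passes to an open subscheme. -/
theorem isUnivOpenAt_comp_of_isOpenImmersion {U X Y : Scheme.{u}} (j : U ⟶ X) [IsOpenImmersion j]
    (f : X ⟶ Y) (u : U) (h : IsUnivOpenAt f (j.base u)) : IsUnivOpenAt (j ≫ f) u := by
  intro Y' g x' hx'
  obtain ⟨c, hc1, hc2, hc3⟩ := Groth.Agent.Lib.Helper8.exists_isPullback_comp j f g
  haveI : IsOpenImmersion c := MorphismProperty.of_isPullback (P := @IsOpenImmersion) hc3 inferInstance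
  have hop : IsOpenAt (pullback.snd f g).base (c.base x') := h Y' g (c.base x') (by
    rw [← Scheme.Hom.comp_apply, hc1, Scheme.Hom.comp_apply, hx'])
  exact isOpenAt_of_isOpenMap_comp c.base c.isOpenEmbedding.isOpenMap _ _ (fun a => by
    rw [← Scheme.Hom.comp_apply, hc2]) x' hop

/-- If `g` factors through an integral one-point scheme, then every base change along `g` is open. -/
theorem isOpenMap_snd_of_factors {X S T K : Scheme.{u}} (f : X ⟶ S) (g : T ⟶ S) (a : T ⟶ K)
    (b : K ⟶ S) (hg : g = a ≫ b) [IsIntegral K] [Subsingleton K] :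
    IsOpenMap (pullback.snd f g).base := by
  subst hg
  set w := pullback.snd f b with hw
  haveI : UniversallyOpen w := inferInstance
  set l : pullback f (a ≫ b) ⟶ pullback f b :=
    pullback.lift (pullback.fst f (a ≫ b)) (pullback.snd f (a ≫ b) ≫ a)
      (by rw [pullback.condition, Category.assoc]) with hl
  have h1 : l ≫ pullback.fst f b = pullback.fst f (a ≫ b) := pullback.lift_fst _ _ _
  have h2 : l ≫ w = pullback.snd f (a ≫ b) ≫ a := pullback.lift_snd _ _ _
  have big : IsPullback (l ≫ pullback.fst f b) (pullback.snd f (a ≫ b)) f (a ≫ b) := by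
    rw [h1]; exact IsPullback.of_hasPullback f (a ≫ b)
  have sq : IsPullback l (pullback.snd f (a ≫ b)) w a :=
    IsPullback.of_right big h2 (IsPullback.of_hasPullback f b)
  haveI : UniversallyOpen (pullback.snd f (a ≫ b)) :=
    MorphismProperty.of_isPullback (P := @UniversallyOpen) sq inferInstance
  exact (pullback.snd f (a ≫ b)).isOpenMap


/-- An injective ring map from a valuation domain to a domain is flat. -/
theorem flat_of_injective_of_valuationRing {O A : Type u} [CommRing O] [IsDomain O] [ValuationRing O]
    [CommRing A] [IsDomain A] (φ : O →+* A) (hφ : Function.Injective φ) : φ.Flat := by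
  letI : Algebra O A := φ.toAlgebra
  show Module.Flat O A
  rw [Module.Flat.flat_iff_torsion_eq_bot_of_isBezout, eq_bot_iff]
  rintro m ⟨⟨r, hr⟩, h⟩
  have h' : φ r * m = 0 := h
  rcases mul_eq_zero.mp h' with h0 | h0
  · have : r = 0 := hφ (by rw [h0, map_zero])
    exact absurd this (nonZeroDivisors.ne_zero hr)
  · exact h0

/-- Universal openness at a point lying on a dominating irreducible component, when the local ring
of the base at the image point is regular of dimension at most one. -/
theorem isUnivOpenAt_of_dominating_component {X Y : Scheme.{u}} [IsLocallyNoetherian Y]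
    (f : X ⟶ Y) [LocallyOfFiniteType f] (x : X)
    (hreg : IsRegularLocalRing (Y.presheaf.stalk (f.base x)))
    (hdim : ringKrullDim (Y.presheaf.stalk (f.base x)) ≤ 1)
    (Z : Set X) (hZ : Z ∈ irreducibleComponents (X : Type u)) (hxZ : x ∈ Z)
    (hdense : Dense (f.base '' Z)) : IsUnivOpenAt f x := by
  haveI : LocallyOfFinitePresentation f :=
    Groth.Agent.Lib.Helper12.SecCompBC.locallyOfFinitePresentation_of_isLocallyNoetherian f
  obtain ⟨hdom, hval⟩ :=
    Groth.Agent.Lib.Helper11.Birat11.valuationRing_of_regular_of_dim_le_one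
      (Y.presheaf.stalk (f.base x)) hdim
  haveI : Ring.KrullDimLE 1 (Y.presheaf.stalk (f.base x)) := Ring.krullDimLE_iff.mpr hdim
  set j := Y.fromSpecStalk (f.base x) with hj
  set ℓ : Spec (X.presheaf.stalk x) ⟶ pullback f j :=
    pullback.lift (X.fromSpecStalk x) (Spec.map (f.stalkMap x))
      (Scheme.SpecMap_stalkMap_fromSpecStalk f (x := x)).symm with hℓ
  have hℓ1 : ℓ ≫ pullback.fst f j = X.fromSpecStalk x := pullback.lift_fst _ _ _
  have hℓ2 : ℓ ≫ pullback.snd f j = Spec.map (f.stalkMap x) := pullback.lift_snd _ _ _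
  set x₁ := ℓ.base (closedPoint (X.presheaf.stalk x)) with hx₁def
  have hx₁ : (pullback.fst f j).base x₁ = x := by
    rw [hx₁def, ← Scheme.Hom.comp_apply, hℓ1, Scheme.fromSpecStalk_closedPoint]
  refine (Groth.Agent.S4928.result f x x₁ hx₁).mpr ?_
  set fO := pullback.snd f j with hfO
  haveI : LocallyOfFiniteType fO :=
    MorphismProperty.pullback_snd (P := @LocallyOfFiniteType) f j inferInstance
  have hfOx₁ : fO.base x₁ = closedPoint (Y.presheaf.stalk (f.base x)) := by
    rw [hx₁def, ← Scheme.Hom.comp_apply, hℓ2]
    exact IsLocalRing.comap_closedPoint (f.stalkMap x).hom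
  apply Groth.Agent.S2587.isUnivOpenAt_of_dvrLift
  intro A _ _ _ g hg x' hx'1 hx'2
  obtain ⟨φ, rfl⟩ := Spec.map_surjective g
  set η : ↥(Spec (CommRingCat.of A)) := ⟨⊥, Ideal.isPrime_bot⟩ with hη
  set p := (Spec.map φ).base η with hp
  have hpker : p.asIdeal = RingHom.ker φ.hom := rfl
  by_cases hpc : p = closedPoint (Y.presheaf.stalk (f.base x))
  · -- `φ` factors through the residue field
    have hker : ∀ a ∈ maximalIdeal (Y.presheaf.stalk (f.base x)), φ.hom a = 0 := by
      intro a ha
      have : a ∈ p.asIdeal := by rw [hpc]; exact ha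
      rw [hpker] at this
      exact this
    set ψ : ResidueField (Y.presheaf.stalk (f.base x)) →+* A :=
      Ideal.Quotient.lift (maximalIdeal (Y.presheaf.stalk (f.base x))) φ.hom hker with hψ
    have hφψ : φ = CommRingCat.ofHom (residue (Y.presheaf.stalk (f.base x))) ≫ CommRingCat.ofHom ψ := by
      ext a
      show φ.hom a = ψ (Ideal.Quotient.mk (maximalIdeal (Y.presheaf.stalk (f.base x))) a)
      exact (Ideal.Quotient.lift_mk (maximalIdeal (Y.presheaf.stalk (f.base x))) φ.hom hker).symm
    have hfac : Spec.map φ = Spec.map (CommRingCat.ofHom ψ) ≫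
        Spec.map (CommRingCat.ofHom (residue (Y.presheaf.stalk (f.base x)))) := by
      rw [← Spec.map_comp, ← hφψ]
    haveI : Subsingleton ↥(Spec (CommRingCat.of (ResidueField (Y.presheaf.stalk (f.base x))))) :=
      inferInstanceAs (Subsingleton (PrimeSpectrum (ResidueField (Y.presheaf.stalk (f.base x)))))
    have hopen : IsOpenMap (pullback.snd fO (Spec.map φ)).base :=
      isOpenMap_snd_of_factors fO (Spec.map φ) _ _ hfac
    have hop : IsOpenAt (pullback.snd fO (Spec.map φ)).base x' :=
      Groth.Agent.Lib.Helper8.isOpenAt_of_isOpenMap hopen x'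
    have hηs : η ⤳ (pullback.snd fO (Spec.map φ)).base x' := by
      rw [hx'2]; exact IsLocalRing.specializes_closedPoint η
    obtain ⟨z', hz'1, hz'2⟩ := (Groth.Agent.S3404.result (pullback.snd fO (Spec.map φ)) x').1 hop η hηs
    refine ⟨z', hz'1, ?_⟩
    rw [hz'2]
    intro h
    have h1 : (⊥ : Ideal A) = IsLocalRing.maximalIdeal A := congrArg PrimeSpectrum.asIdeal h
    exact IsDiscreteValuationRing.not_a_field A h1.symm
  · -- `φ` is injective, hence flat
    have hpbot : p.asIdeal = ⊥ := by
      by_contra hne
      have hmax : p.asIdeal.IsMaximal := p.isPrime.isMaximal_of_ne_bot hne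
      exact hpc (PrimeSpectrum.ext (IsLocalRing.eq_maximalIdeal hmax))
    have hinj : Function.Injective φ.hom := by
      rw [RingHom.injective_iff_ker_eq_bot, ← hpker, hpbot]
    have hflat : φ.hom.Flat := flat_of_injective_of_valuationRing φ.hom hinj
    haveI : Flat (Spec.map φ) := (HasRingHomProperty.Spec_iff (P := @Flat)).mpr hflat
    haveI : Flat (pullback.fst fO (Spec.map φ)) :=
      MorphismProperty.pullback_fst (P := @Flat) fO (Spec.map φ) inferInstance
    have hgen : GeneralizingMap (pullback.fst fO (Spec.map φ)).base :=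
      Flat.generalizingMap (pullback.fst fO (Spec.map φ))
    -- the generic point of `Z`
    obtain ⟨ζ, hζ⟩ := QuasiSober.sober hZ.1 (isClosed_of_mem_irreducibleComponents Z hZ)
    have hZeq : closure {ζ} = Z := hζ.def
    have hζx : ζ ⤳ x := by rw [specializes_iff_mem_closure, hZeq]; exact hxZ
    obtain ⟨ζ', hζ'⟩ : ζ ∈ Set.range (X.fromSpecStalk x).base := by
      rw [Scheme.range_fromSpecStalk]; exact hζx
    set w := ℓ.base ζ' with hw
    have hwx₁ : w ⤳ x₁ := (IsLocalRing.specializes_closedPoint ζ').map ℓ.continuous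
    have hwx' : w ⤳ (pullback.fst fO (Spec.map φ)).base x' := by rw [hx'1]; exact hwx₁
    obtain ⟨z', hz'1, hz'2⟩ := hgen hwx'
    refine ⟨z', hz'1, ?_⟩
    intro hcl
    -- then `fO w` is the closed point
    have h1 : fO.base w = closedPoint (Y.presheaf.stalk (f.base x)) := by
      rw [← hz'2, ← Scheme.Hom.comp_apply, pullback.condition, Scheme.Hom.comp_apply, hcl, hg,
        hfOx₁]
    have h2 : j.base (fO.base w) = f.base ζ := by
      rw [hw, ← Scheme.Hom.comp_apply, ← Scheme.Hom.comp_apply, ← Category.assoc, hℓ2,
        Scheme.SpecMap_stalkMap_fromSpecStalk, Scheme.Hom.comp_apply, hζ']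
    have h3 : f.base ζ = f.base x := by
      rw [← h2, h1, hj, Scheme.fromSpecStalk_closedPoint]
    -- `f x` is the generic point of `Y`
    have h4 : ∀ t : Y, f.base x ⤳ t := by
      intro t
      rw [specializes_iff_mem_closure]
      have hsub : f.base '' Z ⊆ closure {f.base x} := by
        rw [← hZeq, ← h3]
        refine (image_closure_subset_closure_image f.continuous).trans ?_
        rw [Set.image_singleton]
      have : closure (f.base '' Z) ⊆ closure {f.base x} :=
        closure_minimal hsub isClosed_closure
      exact this (hdense t)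
    have h5 : j.base p ⤳ f.base x := by
      have := (IsLocalRing.specializes_closedPoint p).map j.continuous
      rwa [hj, Scheme.fromSpecStalk_closedPoint] at this
    have h6 : j.base p = j.base (closedPoint (Y.presheaf.stalk (f.base x))) := by
      rw [hj, Scheme.fromSpecStalk_closedPoint]
      exact (h5.antisymm (h4 _)).eq
    exact hpc (j.isEmbedding.injective h6)

end Groth.Agent.Lib.Helper12.DedekindUO
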