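import Mathlib

universe u

open CategoryTheory Limits AlgebraicGeometry TopologicalSpace Opposite

set_option backward.isDefEq.respectTransparency false
set_option linter.style.haveILetI false

namespace Groth.Agent.Lib.Helper12.DiagRank

/-- Every point of a quasi-sober `T0` space has a maximal generization. -/
lemma exists_maximal_generization {X : Type*} [TopologicalSpace X] [QuasiSober X] [T0Space X]
    (x : X) : ∃ η : X, η ⤳ x ∧ ∀ y : X, y ⤳ η → y = η := by
  have hZ : IsIrreducible (irreducibleComponent x) := isIrreducible_irreducibleComponent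
  have hZc : IsClosed (irreducibleComponent x) := isClosed_irreducibleComponent
  have hη := hZ.isGenericPoint_genericPoint hZc
  refine ⟨hZ.genericPoint, ?_, fun y hy => ?_⟩
  · rw [specializes_iff_mem_closure, hη.def]; exact mem_irreducibleComponent
  · have h1 : irreducibleComponent x ⊆ closure {y} := by
      rw [← hη.def]; exact specializes_iff_closure_subset.mp hy
    have h2 : closure {y} = irreducibleComponent x :=
      eq_irreducibleComponent isIrreducible_singleton.closure.isPreirreducible h1
    exact IsGenericPoint.eq h2 hη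

section Pullbacks

variable {C : Type*} [Category C] [HasPullbacks C]

lemma isIso_snd_of_isPullback {P X Y Z : C} {fst : P ⟶ X} {snd : P ⟶ Y} {f : X ⟶ Z} {g : Y ⟶ Z}
    (hpb : IsPullback fst snd f g) [IsIso (pullback.snd f g)] : IsIso snd := by
  rw [← hpb.isoPullback_hom_snd]; infer_instance

lemma isIso_snd_comp {X Y Z W : C} (g : X ⟶ Z) (b : Y ⟶ Z) (a : W ⟶ Y)
    [IsIso (pullback.snd g b)] : IsIso (pullback.snd g (a ≫ b)) := by
  have := pullbackLeftPullbackSndIso_hom_snd g b a
  rw [← Iso.eq_inv_comp] at this
  rw [this]; infer_instance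

lemma isIso_snd_fst {T S Z : C} (g : T ⟶ S) (c : Z ⟶ T) [IsIso (pullback.snd g (c ≫ g))] :
    IsIso (pullback.snd (pullback.fst g g) c) := by
  have hsq1 := IsPullback.of_hasPullback (pullback.fst g g) c
  have hsq2 := (IsPullback.of_hasPullback g g).flip
  exact isIso_snd_of_isPullback (hsq1.paste_horiz hsq2)

end Pullbacks

section Main

variable {T S : Scheme.{u}} (g : T ⟶ S)

/-- If the diagonal of `g` is surjective then the first projection `T ×_S T → T` is
universally closed. -/
lemma universallyClosed_fst_of_surjective_diagonal [IsSeparated g]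
    (hsurj : Surjective (pullback.diagonal g)) : UniversallyClosed (pullback.fst g g) := by
  rw [universallyClosed_eq]
  intro W' T' i₁ i₂ f' hpb
  have hΔ : pullback.diagonal g ≫ pullback.fst g g = 𝟙 T := pullback.diagonal_fst g
  let Δ' : T' ⟶ W' := hpb.lift (𝟙 T') (i₂ ≫ pullback.diagonal g) (by
    rw [Category.id_comp, Category.assoc, hΔ, Category.comp_id])
  have h1 : Δ' ≫ f' = 𝟙 T' := hpb.lift_fst _ _ _
  have h2 : Δ' ≫ i₁ = i₂ ≫ pullback.diagonal g := hpb.lift_snd _ _ _
  have houter : IsPullback (Δ' ≫ f') i₂ i₂ (pullback.diagonal g ≫ pullback.fst g g) := by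
    rw [h1, hΔ]; exact IsPullback.of_horiz_isIso ⟨by simp⟩
  have hleft : IsPullback Δ' i₂ i₁ (pullback.diagonal g) := IsPullback.of_right houter h2 hpb
  have hs' : Surjective Δ' := MorphismProperty.of_isPullback hleft.flip hsurj
  intro C hC
  have : f' '' C = Δ' ⁻¹' C := by
    ext t
    constructor
    · rintro ⟨w, hw, rfl⟩
      obtain ⟨t', rfl⟩ := hs'.surj w
      have : f' (Δ' t') = t' := by
        rw [← Scheme.Hom.comp_apply, h1]; rfl
      show Δ' (f' (Δ' t')) ∈ C
      rw [this]; exact hw
    · intro ht
      refine ⟨Δ' t, ht, ?_⟩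
      rw [← Scheme.Hom.comp_apply, h1]; rfl
  rw [this]
  exact hC.preimage Δ'.continuous

theorem isOpenImmersion_of_rank_le_one [LocallyQuasiFinite g]
    [LocallyOfFinitePresentation g] [QuasiCompact g] [IsSeparated g] [Flat g]
    (h : ∀ s : S, (∀ t : S, t ⤳ s → t = s) →
      IsEmpty ↑(pullback g (S.fromSpecResidueField s)) ∨
        IsIso (pullback.snd g (S.fromSpecResidueField s))) :
    IsOpenImmersion g := by
  have hΔ : pullback.diagonal g ≫ pullback.fst g g = 𝟙 T := pullback.diagonal_fst g
  -- (b) fibres of `p₁` over maximal points are isomorphisms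
  have hb : ∀ t : T, (∀ t' : T, t' ⤳ t → t' = t) →
      IsIso (pullback.snd (pullback.fst g g) (T.fromSpecResidueField t)) := by
    intro t ht
    have hs : ∀ s' : S, s' ⤳ g t → s' = g t := by
      intro s' hs'
      obtain ⟨t', ht', rfl⟩ := Flat.generalizingMap g hs'
      rw [ht t' ht']
    rcases h (g t) hs with hemp | hiso
    · exfalso
      have : t ∈ Set.range (g.fiberι (g t)) := by rw [g.range_fiberι]; rfl
      obtain ⟨z, _⟩ := this
      exact hemp.false z
    · have e : T.fromSpecResidueField t ≫ g =
          Spec.map (g.residueFieldMap t) ≫ S.fromSpecResidueField (g t) :=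
        (Scheme.Hom.SpecMap_residueFieldMap_fromSpecResidueField g t).symm
      haveI : IsIso (pullback.snd g (T.fromSpecResidueField t ≫ g)) := by
        rw [e]; exact isIso_snd_comp g _ _
      exact isIso_snd_fst g _
  -- (c) the diagonal is surjective
  have hc : Surjective (pullback.diagonal g) := by
    constructor
    by_contra hns
    rw [Function.Surjective] at hns
    push_neg at hns
    obtain ⟨w, hw⟩ := hns
    let U : Set ↑(pullback g g) := (Set.range (pullback.diagonal g))ᶜ
    have hU : IsOpen U := (pullback.diagonal g).isClosedEmbedding.isClosed_range.isOpen_compl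
    have hopen : IsOpen ((pullback.fst g g) '' U) :=
      isOpenMap_of_generalizingMap (pullback.fst g g) (Flat.generalizingMap _) U hU
    obtain ⟨t, ht1, ht2⟩ := exists_maximal_generization ((pullback.fst g g) w)
    have hmem : t ∈ (pullback.fst g g) '' U :=
      ht1.mem_open hopen ⟨w, fun ⟨t₀, h₀⟩ => hw t₀ h₀, rfl⟩
    obtain ⟨w', hw'U, hw't⟩ := hmem
    haveI := hb t ht2
    -- the fibre over `t` is a single point
    have hsub : Subsingleton ((pullback.fst g g).fiber t) := by
      haveI : IsIso ((pullback.fst g g).fiberToSpecResidueField t) :=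
        inferInstanceAs (IsIso (pullback.snd (pullback.fst g g) (T.fromSpecResidueField t)))
      let e := (asIso ((pullback.fst g g).fiberToSpecResidueField t)).hom.homeomorph
      exact e.injective.subsingleton
    have hsub' : Subsingleton ((pullback.fst g g) ⁻¹' {t}) :=
      ((pullback.fst g g).fiberHomeo t).symm.injective.subsingleton
    have h1 : (pullback.fst g g) (pullback.diagonal g t) = t := by
      rw [← Scheme.Hom.comp_apply, hΔ]; rfl
    have h2 := Subtype.ext_iff.mp (hsub'.elim ⟨w', hw't⟩ ⟨pullback.diagonal g t, h1⟩)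
    exact hw'U ⟨t, h2.symm⟩
  -- (d) `p₁` is finite
  haveI : UniversallyClosed (pullback.fst g g) := universallyClosed_fst_of_surjective_diagonal g hc
  haveI : IsProper (pullback.fst g g) := {}
  haveI : IsFinite (pullback.fst g g) := IsFinite.of_isProper_of_locallyQuasiFinite _
  -- (e) rank one
  have hrank : (pullback.fst g g).finrank = 1 := by
    ext t₀
    obtain ⟨t, ht1, ht2⟩ := exists_maximal_generization t₀
    haveI := hb t ht2
    have hlc := Scheme.Hom.isLocallyConstant_finrank (pullback.fst g g)
    have h1 : (pullback.fst g g).finrank t₀ = (pullback.fst g g).finrank t := by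
      have hop : IsOpen {y | (pullback.fst g g).finrank y = (pullback.fst g g).finrank t₀} :=
        hlc.isOpen_fiber _
      exact (ht1.mem_open hop rfl).symm
    have h2 := Scheme.Hom.finrank_pullback_snd (pullback.fst g g) (T.fromSpecResidueField t)
      (IsLocalRing.closedPoint (T.residueField t))
    rw [Scheme.Hom.finrank_eq_one_of_isIso] at h2
    rw [h1, Pi.one_apply]
    have h3 : T.fromSpecResidueField t (IsLocalRing.closedPoint (T.residueField t)) = t :=
      Scheme.fromSpecResidueField_apply t _
    rw [h3] at h2
    exact h2.symm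
  haveI : IsIso (pullback.fst g g) := (Scheme.Hom.isIso_iff_finrank_eq _).mpr hrank
  haveI : Mono g := (IsKernelPair.mono_of_isIso_fst (IsPullback.of_hasPullback g g) :)
  exact IsOpenImmersion.of_flat_of_mono g

end Main

end Groth.Agent.Lib.Helper12.DiagRank
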