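import Mathlib
import Groth.Prelude.Def_ArtFun6
import Groth.Prelude.Def_KLin
import Groth.Prelude.Def_ClSub2
import Groth.Agent.Lib.Helper18.EmbC
import Groth.Agent.Lib.Helper20.FlatSubEq

/-!
# A first-order embedded deformation is determined by its local classifying maps (helper12, G2 for
helper18 / S12261)
-/

set_option autoImplicit false
set_option linter.style.haveILetI false
set_option linter.unusedSectionVars false
universe u

open CategoryTheory CategoryTheory.Limits AlgebraicGeometry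
open ArtFun ArtFun.Art

namespace Groth.Agent.Lib.Helper12.EmbG2

open Groth.Agent.Lib.Helper18.EmbA Groth.Agent.Lib.Helper18.EmbB

variable {k : Type u} [Field k] {X : Scheme.{u}} {x : X ⟶ specPt k} {I₀ : X.IdealSheafData}

/-- the algebraic heart: on an affine open, the relation `q^♯ f + ε q^♯ g = 0` only depends on the
local classifying map -/
lemma core (I I' : (localHilb X x I₀).obj (dual k k))
    (h : ∀ (U : X.Opens) (hU : IsAffineOpen U) (g : Γ(X, U))
      (hg : (I₀.subschemeι.app U).hom g = 0), delta I hU g hg = delta I' hU g hg)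
    {U : X.Opens} (hU : IsAffineOpen U) (f g : Γ(X, U))
    (hw : ((qq I).app U).hom f + epsC I U * ((qq I).app U).hom g = 0) :
    ((qq I').app U).hom f + epsC I' U * ((qq I').app U).hom g = 0 := by
  have hτ : ∀ (J : (localHilb X x I₀).obj (dual k k)) (a : Γ(X, U)),
      (tau J U).hom (((qq J).app U).hom a) = (I₀.subschemeι.app U).hom a := fun J a =>
    congrArg (fun φ => φ.hom a) (qq_app_tau J U)
  have hτε : ∀ (J : (localHilb X x I₀).obj (dual k k)), (tau J U).hom (epsC J U) = 0 := by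
    intro J
    have : epsC J U ∈ RingHom.ker (tau J U).hom := by
      rw [ker_tau J hU]
      exact Ideal.subset_span rfl
    exact this
  -- step 1: `f` vanishes on `Y₀`
  have hf : (I₀.subschemeι.app U).hom f = 0 := by
    have h1 := congrArg (tau I U).hom hw
    rw [map_add, map_mul, hτε, zero_mul, add_zero, map_zero, hτ] at h1
    exact h1
  -- step 2: `δ_I f = - ι₀^♯ g`
  obtain ⟨c, hc⟩ := exists_eq_epsC_mul I hU f hf
  have hd : delta I hU f hf = (tau I U).hom c := delta_eq I hU f hf c hc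
  have h2 : (tau I U).hom (c + ((qq I).app U).hom g) = 0 := by
    apply tau_eq_zero_of_epsC_mul I hU
    rw [mul_add, ← hc]
    exact hw
  rw [map_add, hτ] at h2
  -- step 3: the same for `I'`
  obtain ⟨c', hc'⟩ := exists_eq_epsC_mul I' hU f hf
  have hd' : delta I' hU f hf = (tau I' U).hom c' := delta_eq I' hU f hf c' hc'
  have h3 : (tau I' U).hom (c' + ((qq I').app U).hom g) = 0 := by
    rw [map_add, hτ, ← hd', ← h U hU f hf, hd]
    exact h2
  have h4 : c' + ((qq I').app U).hom g ∈ Ideal.span {epsC I' U} := by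
    rw [← ker_tau I' hU]
    exact h3
  obtain ⟨a, ha⟩ := Ideal.mem_span_singleton'.1 h4
  rw [hc', ← mul_add, ← ha, mul_comm a, ← mul_assoc, epsC_mul_self, zero_mul]

section Decomp

lemma tsz_decomp (y : TrivSqZeroExt k k) :
    y = TrivSqZeroExt.inl y.fst +
      TrivSqZeroExt.inl y.snd * (TrivSqZeroExt.inr 1 : TrivSqZeroExt k k) := by
  apply TrivSqZeroExt.ext
  · simp
  · simp

variable (x)

/-- `π : X ×_k Spec k[ε] ⟶ X` -/
noncomputable abbrev ppi : XA x (dual k k) ⟶ X := pullback.fst x (specOver (dual k k))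

instance : IsAffineHom (ppi x) := by
  haveI : IsAffineHom (specOver (dual k k)) := by
    change IsAffineHom (Spec.map _)
    infer_instance
  exact MorphismProperty.pullback_fst (P := @IsAffineHom) _ _ inferInstance

/-- the structure map `k[ε] ⟶ Γ(X ×_k Spec k[ε], π⁻¹U)` -/
noncomputable def dXA (U : X.Opens) :
    CommRingCat.of (dual k k) ⟶ Γ(XA x (dual k k), ppi x ⁻¹ᵁ U) :=
  (Scheme.ΓSpecIso (CommRingCat.of (dual k k))).inv ≫
    (XApr x (dual k k)).appLE ⊤ (ppi x ⁻¹ᵁ U) le_top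

/-- `ε` on `π⁻¹U` -/
noncomputable def epsXA (U : X.Opens) : Γ(XA x (dual k k), ppi x ⁻¹ᵁ U) :=
  (dXA x U).hom (epsD (k := k))

lemma epsXA_mul_self (U : X.Opens) : epsXA x U * epsXA x U = 0 := by
  unfold epsXA
  rw [← map_mul, epsD_mul_self, map_zero]

variable {x}

lemma iota_eps (I : (localHilb X x I₀).obj (dual k k)) (U : X.Opens) :
    (I.1.subschemeι.app (ppi x ⁻¹ᵁ U)).hom (epsXA x U) = epsC I U := by
  have h : dXA x U ≫ I.1.subschemeι.app (ppi x ⁻¹ᵁ U) = aC I U := by
    unfold aC dXA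
    rw [Category.assoc, Scheme.Hom.app_eq_appLE, Scheme.Hom.appLE_comp_appLE]
    rfl
  exact congrArg (fun φ => φ.hom (epsD (k := k))) h

lemma iota_pi (I : (localHilb X x I₀).obj (dual k k)) (U : X.Opens) (f : Γ(X, U)) :
    (I.1.subschemeι.app (ppi x ⁻¹ᵁ U)).hom (((ppi x).app U).hom f) = ((qq I).app U).hom f :=
  rfl

variable (x)

/-- sections of `X ×_k Spec k[ε]` over `π⁻¹U` are `π^♯ f + ε π^♯ g` -/
theorem exists_decomp {U : X.Opens} (hU : IsAffineOpen U)
    (w : Γ(XA x (dual k k), ppi x ⁻¹ᵁ U)) :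
    ∃ f g : Γ(X, U), w = ((ppi x).app U).hom f + epsXA x U * ((ppi x).app U).hom g := by
  -- the pushout square of sections
  have H : IsPullback (ppi x) (XApr x (dual k k)) x (specOver (dual k k)) :=
    IsPullback.of_hasPullback x (specOver (dual k k))
  have PO := Groth.Agent.Lib.Helper18.HullR.sect'
    (CommRingCat.ofHom (ofBase (dual k k)).toAlgHom.toRingHom) H hU (ppi x ⁻¹ᵁ U) rfl
  rw [← Scheme.Hom.app_eq_appLE] at PO
  set r : CommRingCat.of k ⟶ Γ(X, U) :=
    (Scheme.ΓSpecIso (CommRingCat.of k)).inv ≫ x.appLE ⊤ U le_top with hr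
  set φ : CommRingCat.of k ⟶ CommRingCat.of (dual k k) :=
    CommRingCat.ofHom (ofBase (dual k k)).toAlgHom.toRingHom with hφ
  set a : Γ(X, U) ⟶ Γ(XA x (dual k k), ppi x ⁻¹ᵁ U) := (ppi x).app U with ha
  have PO' : IsPushout r φ a (dXA x U) := PO
  set e := epsXA x U with he
  have he2 : e * e = 0 := epsXA_mul_self x U
  -- the subring of elements of the required form
  let S : Subring Γ(XA x (dual k k), ppi x ⁻¹ᵁ U) :=
    { carrier := {w | ∃ f g : Γ(X, U), w = a.hom f + e * a.hom g}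
      mul_mem' := by
        rintro _ _ ⟨f, g, rfl⟩ ⟨f', g', rfl⟩
        refine ⟨f * f', f * g' + g * f', ?_⟩
        rw [map_mul, map_add, map_mul, map_mul]
        linear_combination (a.hom g * a.hom g') * he2
      one_mem' := ⟨1, 0, by rw [map_one, map_zero, mul_zero, add_zero]⟩
      add_mem' := by
        rintro _ _ ⟨f, g, rfl⟩ ⟨f', g', rfl⟩
        exact ⟨f + f', g + g', by rw [map_add, map_add]; ring⟩
      zero_mem' := ⟨0, 0, by rw [map_zero, mul_zero, add_zero]⟩
      neg_mem' := by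
        rintro _ ⟨f, g, rfl⟩
        exact ⟨-f, -g, by rw [map_neg, map_neg]; ring⟩ }
  have haS : ∀ f, a.hom f ∈ S := fun f => ⟨f, 0, by rw [map_zero, mul_zero, add_zero]⟩
  have hw : ∀ c : k, (dXA x U).hom (φ.hom c) = a.hom (r.hom c) := fun c =>
    (congrArg (fun ψ => ψ.hom c) PO'.w).symm
  have hdS : ∀ y, (dXA x U).hom y ∈ S := by
    intro y
    have hy : y = φ.hom (TrivSqZeroExt.fst (y : TrivSqZeroExt k k)) +
        φ.hom (TrivSqZeroExt.snd (y : TrivSqZeroExt k k)) * epsD (k := k) :=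
      tsz_decomp (y : TrivSqZeroExt k k)
    refine ⟨r.hom (TrivSqZeroExt.fst (y : TrivSqZeroExt k k)),
      r.hom (TrivSqZeroExt.snd (y : TrivSqZeroExt k k)), ?_⟩
    conv_lhs => rw [hy]
    rw [map_add, map_mul, hw, hw, mul_comm]
    rfl
  -- the universal property
  let S' : CommRingCat := CommRingCat.of S
  let incl : S' ⟶ Γ(XA x (dual k k), ppi x ⁻¹ᵁ U) := CommRingCat.ofHom S.subtype
  let a' : Γ(X, U) ⟶ S' := CommRingCat.ofHom (a.hom.codRestrict S haS)
  let d' : CommRingCat.of (dual k k) ⟶ S' := CommRingCat.ofHom ((dXA x U).hom.codRestrict S hdS)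
  have ha' : a' ≫ incl = a := CommRingCat.hom_ext (RingHom.ext fun _ => rfl)
  have hd' : d' ≫ incl = dXA x U := CommRingCat.hom_ext (RingHom.ext fun _ => rfl)
  have hw' : r ≫ a' = φ ≫ d' :=
    CommRingCat.hom_ext (RingHom.ext fun c => Subtype.ext (hw c).symm)
  let σ : Γ(XA x (dual k k), ppi x ⁻¹ᵁ U) ⟶ S' := PO'.desc a' d' hw'
  have hσ : σ ≫ incl = 𝟙 _ := by
    apply PO'.hom_ext
    · rw [← Category.assoc, PO'.inl_desc, ha', Category.comp_id]
    · rw [← Category.assoc, PO'.inr_desc, hd', Category.comp_id]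
  have hw0 : w = incl.hom (σ.hom w) := (congrArg (fun ψ => ψ.hom w) hσ).symm
  obtain ⟨f, g, hfg⟩ := (σ.hom w).2
  exact ⟨f, g, hw0.trans hfg⟩

end Decomp

theorem eq_of_delta_eq (I I' : (localHilb X x I₀).obj (dual k k))
    (h : ∀ (U : X.Opens) (hU : IsAffineOpen U) (g : Γ(X, U))
      (hg : (I₀.subschemeι.app U).hom g = 0),
      Groth.Agent.Lib.Helper18.EmbB.delta I hU g hg =
        Groth.Agent.Lib.Helper18.EmbB.delta I' hU g hg) : I = I' := by
  have hle : I.1 ≤ I'.1 := by
    refine Scheme.IdealSheafData.le_of_iSup_eq_top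
      (fun U : X.affineOpens =>
        (⟨ppi x ⁻¹ᵁ U.1, U.2.preimage (ppi x)⟩ : (XA x (dual k k)).affineOpens)) ?_ ?_
    · change ⨆ U : X.affineOpens, ppi x ⁻¹ᵁ U.1 = ⊤
      exact (ppi x).iSup_preimage_eq_top (iSup_affineOpens_eq_top X)
    · intro U w hw
      rw [← Scheme.IdealSheafData.ker_subschemeι_app, RingHom.mem_ker] at hw ⊢
      obtain ⟨f, g, rfl⟩ := exists_decomp x U.2 w
      change (I.1.subschemeι.app (ppi x ⁻¹ᵁ U.1)).hom _ = 0 at hw
      change (I'.1.subschemeι.app (ppi x ⁻¹ᵁ U.1)).hom _ = 0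
      rw [map_add, map_mul, iota_eps, iota_pi, iota_pi] at hw ⊢
      exact core I I' h U.2 f g hw
  exact Subtype.ext (Groth.Agent.Lib.Helper20.FlatSubEq.eq_of_le_of_flatOver x I.1 I'.1 hle I'.2.1
    (I.2.2.trans I'.2.2.symm))

end Groth.Agent.Lib.Helper12.EmbG2
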