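import Mathlib
import Groth.Agent.Lib.Helper12.NormGen

/-! The integral closure of a Nagata ring in a reduced algebra of finite type is finite; relative
normalizations of finite type morphisms over Nagata bases are finite. -/

set_option autoImplicit false

namespace Groth.Agent.Lib.Helper12.NagataFin

open AlgebraicGeometry CategoryTheory TopologicalSpace Opposite Function TensorProduct
open Groth.Agent.Lib.Helper12.KAExt Groth.Agent.Lib.Helper12.N2
  Groth.Agent.Lib.Helper12.NormGen

universe u

section Alg

/-- Injective finite type extension of domains, base Noetherian and N-2: the integral closure of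
the base in the extension is finite. -/
theorem finite_integralClosure_of_finiteType_domain (A' D : Type u) [CommRing A'] [IsDomain A']
    [IsNoetherianRing A'] (hN : N2' A') [CommRing D] [IsDomain D] [Algebra A' D]
    [Algebra.FiniteType A' D] (hinj : Injective (algebraMap A' D)) :
    Module.Finite A' (integralClosure A' D) := by
  have hinjL : Injective (algebraMap A' (FractionRing D)) := by
    rw [IsScalarTower.algebraMap_eq A' D (FractionRing D)]
    exact (IsFractionRing.injective D (FractionRing D)).comp hinj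
  letI algKL : Algebra (FractionRing A') (FractionRing D) :=
    (IsFractionRing.lift hinjL).toAlgebra
  haveI : IsScalarTower A' (FractionRing A') (FractionRing D) :=
    IsScalarTower.of_algebraMap_eq (fun a => (IsFractionRing.lift_algebraMap hinjL a).symm)
  let π : (FractionRing A') ⊗[A'] D →ₐ[A'] FractionRing D :=
    Algebra.TensorProduct.productMap (IsScalarTower.toAlgHom A' (FractionRing A') (FractionRing D))
      (IsScalarTower.toAlgHom A' D (FractionRing D))
  haveI : Nontrivial ((FractionRing A') ⊗[A'] D) := π.toRingHom.domain_nontrivial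
  obtain ⟨𝔫, h𝔫⟩ := Ideal.exists_maximal ((FractionRing A') ⊗[A'] D)
  letI fldκ : Field (((FractionRing A') ⊗[A'] D) ⧸ 𝔫) := Ideal.Quotient.field 𝔫
  haveI : Algebra.FiniteType (FractionRing A') (((FractionRing A') ⊗[A'] D) ⧸ 𝔫) :=
    Algebra.FiniteType.of_surjective (Ideal.Quotient.mkₐ (FractionRing A') 𝔫)
      Ideal.Quotient.mk_surjective
  haveI : Module.Finite (FractionRing A') (((FractionRing A') ⊗[A'] D) ⧸ 𝔫) :=
    finite_of_finite_type_of_isJacobsonRing (FractionRing A') _
  have hinjκ : Injective (algebraMap A' (((FractionRing A') ⊗[A'] D) ⧸ 𝔫)) := by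
    rw [IsScalarTower.algebraMap_eq A' (FractionRing A') (((FractionRing A') ⊗[A'] D) ⧸ 𝔫)]
    exact (algebraMap (FractionRing A') (((FractionRing A') ⊗[A'] D) ⧸ 𝔫)).injective.comp
      (IsFractionRing.injective A' (FractionRing A'))
  have hfgκ : FinGen A' (((FractionRing A') ⊗[A'] D) ⧸ 𝔫) :=
    finGen_of_finiteDimensional A' (FractionRing A') _
  haveI : Module.Finite A' (integralClosure A' (((FractionRing A') ⊗[A'] D) ⧸ 𝔫)) :=
    hN _ hinjκ hfgκ
  let θ : D →ₐ[A'] (((FractionRing A') ⊗[A'] D) ⧸ 𝔫) :=
    (Ideal.Quotient.mkₐ A' 𝔫).comp Algebra.TensorProduct.includeRight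
  let θ₀ : integralClosure A' D →ₐ[A'] (((FractionRing A') ⊗[A'] D) ⧸ 𝔫) :=
    θ.comp (integralClosure A' D).val
  have hθ₀ : Injective θ₀ := by
    rw [← AlgHom.coe_toRingHom, RingHom.injective_iff_ker_eq_bot]
    apply Ideal.eq_bot_of_comap_eq_bot (R := A')
    ext a
    simp only [Ideal.mem_comap, RingHom.mem_ker, AlgHom.coe_toRingHom, AlgHom.commutes,
      Ideal.mem_bot]
    exact map_eq_zero_iff _ hinjκ
  let Θ : integralClosure A' D →ₗ[A'] integralClosure A' (((FractionRing A') ⊗[A'] D) ⧸ 𝔫) :=
    { toFun := fun b => ⟨θ₀ b, (b.2.map θ)⟩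
      map_add' := fun b b' => Subtype.ext (map_add θ₀ b b')
      map_smul' := fun a b => Subtype.ext (map_smul θ₀ a b) }
  have hΘ : Injective Θ := fun b b' h => by
    have h' : (Θ b).1 = (Θ b').1 := congrArg Subtype.val h
    exact hθ₀ h'
  exact Module.Finite.of_injective Θ hΘ

/-- Finite type domain over a Noetherian ring all of whose quotient domains are N-2. -/
theorem finite_integralClosure_of_finiteType_domain' (A D : Type u) [CommRing A]
    [IsNoetherianRing A] (hA : ∀ (p : Ideal A) [p.IsPrime], N2' (A ⧸ p))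
    [CommRing D] [IsDomain D] [Algebra A D] [Algebra.FiniteType A D] :
    Module.Finite A (integralClosure A D) := by
  haveI hprime : (RingHom.ker (algebraMap A D)).IsPrime := RingHom.ker_isPrime _
  letI algA'D : Algebra (A ⧸ RingHom.ker (algebraMap A D)) D :=
    (RingHom.kerLift (algebraMap A D)).toAlgebra
  haveI : IsScalarTower A (A ⧸ RingHom.ker (algebraMap A D)) D :=
    IsScalarTower.of_algebraMap_eq (fun a => rfl)
  haveI : Algebra.FiniteType (A ⧸ RingHom.ker (algebraMap A D)) D :=
    Algebra.FiniteType.of_restrictScalars_finiteType A _ D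
  haveI h1 : Module.Finite (A ⧸ RingHom.ker (algebraMap A D))
      (integralClosure (A ⧸ RingHom.ker (algebraMap A D)) D) :=
    finite_integralClosure_of_finiteType_domain _ D (hA _)
      (RingHom.kerLift_injective (algebraMap A D))
  haveI : IsScalarTower A (A ⧸ RingHom.ker (algebraMap A D))
      (integralClosure (A ⧸ RingHom.ker (algebraMap A D)) D) :=
    ⟨fun a a' m => Subtype.ext (smul_assoc a a' (m : D))⟩
  haveI : Module.Finite A (integralClosure (A ⧸ RingHom.ker (algebraMap A D)) D) :=
    Module.Finite.trans (A ⧸ RingHom.ker (algebraMap A D)) _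
  let Φ : integralClosure A D →ₗ[A] integralClosure (A ⧸ RingHom.ker (algebraMap A D)) D :=
    { toFun := fun b => ⟨b.1, b.2.tower_top⟩
      map_add' := fun b b' => rfl
      map_smul' := fun a b => rfl }
  have hΦ : Injective Φ := fun b b' h => by
    have h' : (Φ b).1 = (Φ b').1 := congrArg Subtype.val h
    exact Subtype.ext h'
  exact Module.Finite.of_injective Φ hΦ

/-- Jointly injective family of algebra maps into algebras with finite integral closures. -/
theorem finite_integralClosure_of_jointly_injective (A C : Type*) [CommRing A] [IsNoetherianRing A]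
    [CommRing C] [Algebra A C] {ι : Type*} [Finite ι] (Ci : ι → Type*) [∀ i, CommRing (Ci i)]
    [∀ i, Algebra A (Ci i)] (r : ∀ i, C →ₐ[A] Ci i)
    (hr : ∀ c c' : C, (∀ i, r i c = r i c') → c = c')
    (hfin : ∀ i, Module.Finite A (integralClosure A (Ci i))) :
    Module.Finite A (integralClosure A C) := by
  let Ψ : integralClosure A C →ₗ[A] (∀ i, integralClosure A (Ci i)) :=
    { toFun := fun c i => ⟨r i c, c.2.map (r i)⟩
      map_add' := fun c c' => funext fun i => Subtype.ext (map_add (r i) (c : C) (c' : C))
      map_smul' := fun a c => funext fun i => Subtype.ext (map_smul (r i) a (c : C)) }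
  have hΨ : Injective Ψ := fun c c' h => by
    refine Subtype.ext (hr c c' fun i => ?_)
    have h' : (Ψ c i).1 = (Ψ c' i).1 := congrArg Subtype.val (congrFun h i)
    exact h'
  exact Module.Finite.of_injective Ψ hΨ

/-- Reduced finite type algebra over a Noetherian ring all of whose quotient domains are N-2. -/
theorem finite_integralClosure_of_finiteType_reduced (A C : Type u) [CommRing A]
    [IsNoetherianRing A] (hA : ∀ (p : Ideal A) [p.IsPrime], N2' (A ⧸ p))
    [CommRing C] [IsReduced C] [Algebra A C] [Algebra.FiniteType A C] :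
    Module.Finite A (integralClosure A C) := by
  haveI : IsNoetherianRing C := Algebra.FiniteType.isNoetherianRing A C
  haveI : Finite {q : Ideal C // q ∈ minimalPrimes C} :=
    (minimalPrimes.finite_of_isNoetherianRing C).to_subtype
  refine finite_integralClosure_of_jointly_injective A C
    (fun q : {q : Ideal C // q ∈ minimalPrimes C} => C ⧸ q.1)
    (fun q => Ideal.Quotient.mkₐ A q.1) ?_ ?_
  · intro c c' h
    rw [← sub_eq_zero]
    have hmem : c - c' ∈ sInf (minimalPrimes C) := by
      rw [Ideal.mem_sInf]
      intro q hq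
      have := h ⟨q, hq⟩
      rw [← sub_eq_zero, ← map_sub] at this
      exact Ideal.Quotient.eq_zero_iff_mem.1 this
    have h0 : sInf (minimalPrimes C) = ⊥ := by
      show sInf (⊥ : Ideal C).minimalPrimes = ⊥
      rw [Ideal.sInf_minimalPrimes]
      exact nilradical_eq_zero C
    rw [h0] at hmem
    exact hmem
  · intro q
    haveI := q.2.1.1
    haveI : Algebra.FiniteType A (C ⧸ q.1) :=
      Algebra.FiniteType.of_surjective (Ideal.Quotient.mkₐ A q.1) Ideal.Quotient.mk_surjective
    exact finite_integralClosure_of_finiteType_domain' A (C ⧸ q.1) hA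

end Alg

section Geom

/-- The relative normalization of a reduced scheme of finite type over a base all of whose affine
coordinate rings are Noetherian with N-2 quotient domains is finite. -/
theorem isFinite_fromNormalization {X S : Scheme.{u}} (f : X ⟶ S) [LocallyOfFiniteType f]
    [QuasiCompact f] [QuasiSeparated f] [IsReduced X]
    (hS : ∀ U : S.affineOpens, IsNoetherianRing Γ(S, U.1) ∧
      ∀ (p : Ideal Γ(S, U.1)) [p.IsPrime], N2' (Γ(S, U.1) ⧸ p)) :
    IsFinite f.fromNormalization := by
  refine { toIsAffineHom := inferInstance, finite_app := fun U hU => ?_ }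
  letI algC := (f.app U).hom.toAlgebra
  obtain ⟨E, hE⟩ := exists_ringEquiv f hU
  haveI := (hS ⟨U, hU⟩).1
  haveI : Module.Finite Γ(S, U) (integralClosure Γ(S, U) Γ(X, f ⁻¹ᵁ U)) := by
    have hcomp : IsCompact ((f ⁻¹ᵁ U : X.Opens) : Set X) := f.isCompact_preimage hU.isCompact
    obtain ⟨s, hsfin, hs⟩ := isCompact_iff_finite_and_eq_biUnion_affineOpens.1 hcomp
    haveI : Finite s := hsfin.to_subtype
    have hle : ∀ i : s, (i.1 : X.Opens) ≤ f ⁻¹ᵁ U := fun i => by
      rw [hs]
      exact le_iSup₂ (f := fun (i : X.affineOpens) (_ : i ∈ s) => (i : X.Opens)) i.1 i.2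
    letI algCi : ∀ i : s, Algebra Γ(S, U) Γ(X, (i.1 : X.Opens)) :=
      fun i => (f.appLE U i.1 (hle i)).hom.toAlgebra
    let r : ∀ i : s, Γ(X, f ⁻¹ᵁ U) →ₐ[Γ(S, U)] Γ(X, (i.1 : X.Opens)) := fun i =>
      { (X.presheaf.map (homOfLE (hle i)).op).hom with commutes' := fun a => rfl }
    refine finite_integralClosure_of_jointly_injective Γ(S, U) Γ(X, f ⁻¹ᵁ U)
      (fun i : s => Γ(X, (i.1 : X.Opens))) r ?_ ?_
    · intro c c' h
      refine X.sheaf.eq_of_locally_eq' (U := fun i : s => (i.1 : X.Opens)) (f ⁻¹ᵁ U)
        (fun i => homOfLE (hle i)) ?_ c c' h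
      rw [hs, iSup_subtype']
    · intro i
      haveI : Algebra.FiniteType Γ(S, U) Γ(X, (i.1 : X.Opens)) :=
        HasRingHomProperty.appLE (P := @LocallyOfFiniteType) f inferInstance
          ⟨U, hU⟩ ⟨i.1.1, i.1.2⟩ (hle i)
      exact finite_integralClosure_of_finiteType_reduced Γ(S, U) _ (hS ⟨U, hU⟩).2
  exact finite_of_ringEquiv _ E hE

end Geom

end Groth.Agent.Lib.Helper12.NagataFin
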