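import Mathlib
import Groth.Agent.Lib.Helper12.NagataFin

/-! Algebraic closure in a finitely generated field extension is finite; integral closure of an
N-2 domain in an essentially finite type extension of its fraction field is finite. -/

set_option autoImplicit false

namespace Groth.Agent.Lib.Helper12.EssFin

open Function
open Groth.Agent.Lib.Helper12.N2
open scoped IntermediateField.algebraAdjoinAdjoin

universe u

/-- In a finitely generated field extension `L/K`, the algebraic closure of `K` in `L` is finite
over `K`. -/
theorem finite_algebraicClosure_of_essFiniteType (K L : Type*) [Field K] [Field L] [Algebra K L]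
    [Algebra.EssFiniteType K L] : FiniteDimensional K (algebraicClosure K L) := by
  classical
  obtain ⟨s, hs⟩ := exists_finset_isTranscendenceBasis K L
  set x : s → L := (↑) with hxdef
  haveI : Algebra.IsAlgebraic (IntermediateField.adjoin K (Set.range x)) L := hs.isAlgebraic_field
  haveI : Algebra.EssFiniteType (IntermediateField.adjoin K (Set.range x)) L :=
    Algebra.EssFiniteType.of_comp K (IntermediateField.adjoin K (Set.range x)) L
  haveI : Module.Finite (IntermediateField.adjoin K (Set.range x)) L :=
    Algebra.finite_of_essFiniteType_of_isAlgebraic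
  have hxM : AlgebraicIndependent (algebraicClosure K L) x := hs.1.algebraicClosure
  let b := Module.Basis.ofVectorSpace K (algebraicClosure K L)
  have hliP : LinearIndependent (Algebra.adjoin K (Set.range x))
      (fun i => ((b i : algebraicClosure K L) : L)) := by
    rw [linearIndependent_iff']
    intro t g hg i hi
    let c : _ → MvPolynomial s K := fun j => hs.1.aevalEquiv.symm (g j)
    have hc : ∀ j, ((g j : Algebra.adjoin K (Set.range x)) : L) = MvPolynomial.aeval x (c j) :=
      fun j => by
        rw [← hs.1.algebraMap_aevalEquiv, AlgEquiv.apply_symm_apply]; rfl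
    let Q : MvPolynomial s (algebraicClosure K L) :=
      ∑ j ∈ t, MvPolynomial.C (b j) * MvPolynomial.map (algebraMap K (algebraicClosure K L)) (c j)
    have hQ : MvPolynomial.aeval x Q = 0 := by
      rw [map_sum, ← hg]
      refine Finset.sum_congr rfl fun j _ => ?_
      rw [map_mul, MvPolynomial.aeval_C, MvPolynomial.aeval_map_algebraMap, ← hc, mul_comm]
      rfl
    have hQ0 : Q = 0 := hxM (by rw [hQ, map_zero])
    have hcoef : ∀ d, MvPolynomial.coeff d (c i) = 0 := by
      intro d
      have h1 : MvPolynomial.coeff d Q = 0 := by rw [hQ0]; simp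
      have h2 : ∑ j ∈ t, (MvPolynomial.coeff d (c j)) • (b j) = 0 := by
        rw [← h1]
        simp only [Q, MvPolynomial.coeff_sum, MvPolynomial.coeff_C_mul, MvPolynomial.coeff_map]
        refine Finset.sum_congr rfl fun j _ => ?_
        rw [Algebra.smul_def, mul_comm]
      exact linearIndependent_iff'.1 b.linearIndependent t _ h2 i hi
    have hci : c i = 0 := MvPolynomial.ext _ _ (fun d => by rw [hcoef d]; simp)
    have h3 : g i = hs.1.aevalEquiv (c i) := (AlgEquiv.apply_symm_apply _ _).symm
    rw [h3, hci, map_zero]
  have hliF : LinearIndependent (IntermediateField.adjoin K (Set.range x))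
      (fun i => ((b i : algebraicClosure K L) : L)) :=
    (LinearIndependent.iff_fractionRing (Algebra.adjoin K (Set.range x))
      (IntermediateField.adjoin K (Set.range x))).1 hliP
  haveI : Finite (Module.Basis.ofVectorSpaceIndex K (algebraicClosure K L)) :=
    Cardinal.lt_aleph0_iff_finite.1 hliF.lt_aleph0_of_finiteDimensional
  exact Module.Finite.of_basis b

/-- The integral closure of an N-2 Noetherian domain in an essentially finite type field
extension of its fraction field is a finite module. -/
theorem finite_integralClosure_of_essFiniteType (A : Type u) [CommRing A] [IsDomain A]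
    [IsNoetherianRing A] (hN : N2' A) (K L : Type u) [Field K] [Field L] [Algebra A K]
    [IsFractionRing A K] [Algebra K L] [Algebra A L] [IsScalarTower A K L]
    [Algebra.EssFiniteType K L] : Module.Finite A (integralClosure A L) := by
  haveI := finite_algebraicClosure_of_essFiniteType K L
  have hinj : Injective (algebraMap A (algebraicClosure K L)) := by
    rw [IsScalarTower.algebraMap_eq A K (algebraicClosure K L)]
    exact (algebraMap K (algebraicClosure K L)).injective.comp (IsFractionRing.injective A K)
  have hfg : FinGen A (algebraicClosure K L) := finGen_of_finiteDimensional A K _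
  haveI : Module.Finite A (integralClosure A (algebraicClosure K L)) := hN _ hinj hfg
  haveI : IsScalarTower A (algebraicClosure K L) L :=
    IsScalarTower.of_algebraMap_eq (fun a => by
      rw [IsScalarTower.algebraMap_eq A K L, IsScalarTower.algebraMap_eq A K (algebraicClosure K L)]
      rfl)
  have hmem : ∀ b : integralClosure A L, (b : L) ∈ algebraicClosure K L := fun b =>
    mem_algebraicClosure_iff'.2 b.2.tower_top
  have hint : ∀ b : integralClosure A L,
      IsIntegral A (⟨(b : L), hmem b⟩ : algebraicClosure K L) := fun b => by
    have h1 : IsIntegral A (IsScalarTower.toAlgHom A (algebraicClosure K L) L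
        (⟨(b : L), hmem b⟩ : algebraicClosure K L)) := b.2
    exact (isIntegral_algHom_iff (IsScalarTower.toAlgHom A (algebraicClosure K L) L)
      Subtype.val_injective).1 h1
  let Φ : integralClosure A L →ₗ[A] integralClosure A (algebraicClosure K L) :=
    { toFun := fun b => ⟨⟨(b : L), hmem b⟩, hint b⟩
      map_add' := fun b b' => rfl
      map_smul' := fun a b => by
        apply Subtype.ext
        apply Subtype.ext
        rfl }
  have hΦ : Injective Φ := fun b b' h => by
    have h' : ((Φ b).1 : L) = ((Φ b').1 : L) := congrArg (fun z => ((z.1 : algebraicClosure K L) : L)) h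
    exact Subtype.ext h'
  exact Module.Finite.of_injective Φ hΦ

/-- Fraction-field-free version: `K` is generated as a field by the image of `R`. -/
theorem finite_integralClosure_of_essFiniteType' (R : Type u) [CommRing R] [IsNoetherianRing R]
    (hR : ∀ (p : Ideal R) [p.IsPrime], N2' (R ⧸ p)) (K L : Type u) [Field K] [Field L]
    [Algebra R K] [Algebra K L] [Algebra R L] [IsScalarTower R K L]
    (hfrac : ∀ k : K, ∃ a b : R, algebraMap R K b ≠ 0 ∧ k * algebraMap R K b = algebraMap R K a)
    [Algebra.EssFiniteType K L] : Module.Finite R (integralClosure R L) := by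
  haveI hprime : (RingHom.ker (algebraMap R K)).IsPrime := RingHom.ker_isPrime _
  letI algAK : Algebra (R ⧸ RingHom.ker (algebraMap R K)) K :=
    (RingHom.kerLift (algebraMap R K)).toAlgebra
  haveI : IsScalarTower R (R ⧸ RingHom.ker (algebraMap R K)) K :=
    IsScalarTower.of_algebraMap_eq (fun a => rfl)
  letI algAL : Algebra (R ⧸ RingHom.ker (algebraMap R K)) L :=
    ((algebraMap K L).comp (algebraMap (R ⧸ RingHom.ker (algebraMap R K)) K)).toAlgebra
  haveI : IsScalarTower (R ⧸ RingHom.ker (algebraMap R K)) K L :=
    IsScalarTower.of_algebraMap_eq (fun a => rfl)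
  haveI : IsScalarTower R (R ⧸ RingHom.ker (algebraMap R K)) L :=
    IsScalarTower.of_algebraMap_eq (fun a => by
      rw [IsScalarTower.algebraMap_eq R K L]; rfl)
  haveI : FaithfulSMul (R ⧸ RingHom.ker (algebraMap R K)) K :=
    (faithfulSMul_iff_algebraMap_injective _ _).2 (RingHom.kerLift_injective (algebraMap R K))
  haveI : IsFractionRing (R ⧸ RingHom.ker (algebraMap R K)) K := by
    refine IsFractionRing.of_field _ _ fun k => ?_
    obtain ⟨a, b, hb, hab⟩ := hfrac k
    refine ⟨Ideal.Quotient.mk _ a, Ideal.Quotient.mk _ b, ?_⟩
    have h1 : algebraMap (R ⧸ RingHom.ker (algebraMap R K)) K (Ideal.Quotient.mk _ a) =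
      algebraMap R K a := rfl
    have h2 : algebraMap (R ⧸ RingHom.ker (algebraMap R K)) K (Ideal.Quotient.mk _ b) =
      algebraMap R K b := rfl
    rw [h1, h2, eq_div_iff hb, hab]
  haveI h1 : Module.Finite (R ⧸ RingHom.ker (algebraMap R K))
      (integralClosure (R ⧸ RingHom.ker (algebraMap R K)) L) :=
    finite_integralClosure_of_essFiniteType _ (hR _) K L
  haveI : IsScalarTower R (R ⧸ RingHom.ker (algebraMap R K))
      (integralClosure (R ⧸ RingHom.ker (algebraMap R K)) L) :=
    ⟨fun a a' m => Subtype.ext (smul_assoc a a' (m : L))⟩
  haveI : Module.Finite R (integralClosure (R ⧸ RingHom.ker (algebraMap R K)) L) :=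
    Module.Finite.trans (R ⧸ RingHom.ker (algebraMap R K)) _
  let Φ : integralClosure R L →ₗ[R] integralClosure (R ⧸ RingHom.ker (algebraMap R K)) L :=
    { toFun := fun b => ⟨b.1, b.2.tower_top⟩
      map_add' := fun b b' => rfl
      map_smul' := fun a b => rfl }
  have hΦ : Injective Φ := fun b b' h => by
    have h' : (Φ b).1 = (Φ b').1 := congrArg Subtype.val h
    exact Subtype.ext h'
  exact Module.Finite.of_injective Φ hΦ

end Groth.Agent.Lib.Helper12.EssFin
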