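import Mathlib

/-!
# Helper library (helper12): "projective as a module" as a ring hom property
-/

set_option autoImplicit false
set_option linter.style.haveILetI false
universe u
open TensorProduct

namespace Groth.Agent.Lib.Helper12.EssFreeD

/-- The target of the ring hom is a projective module over the source. -/
def ProjHom {R S : Type u} [CommRing R] [CommRing S] (φ : R →+* S) : Prop :=
  letI := φ.toAlgebra
  Module.Projective R S

theorem projHom_algebraMap_iff {R S : Type u} [CommRing R] [CommRing S] [inst : Algebra R S] :
    ProjHom (algebraMap R S) ↔ Module.Projective R S := by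
  have h : (algebraMap R S).toAlgebra = inst := Algebra.algebra_ext _ _ (fun r => rfl)
  unfold ProjHom
  rw [h]

theorem projHom_respectsIso : RingHom.RespectsIso @ProjHom := by
  constructor
  · intro R S T _ _ _ f e hf
    letI := f.toAlgebra
    letI := (e.toRingHom.comp f).toAlgebra
    haveI : Module.Projective R S := hf
    let e' : S ≃ₗ[R] T :=
      { e with
        map_smul' := fun r s => by
          show e (f r * s) = (e.toRingHom.comp f) r * e s
          simp }
    exact Module.Projective.of_equiv' e'
  · intro R S T _ _ _ f e hf
    letI : Algebra S T := f.toAlgebra
    letI : Algebra R T := (f.comp e.toRingHom).toAlgebra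
    haveI : Module.Projective S T := hf
    haveI : RingHomInvPair (e.symm : S →+* R) (e : R →+* S) := ⟨by ext; simp, by ext; simp⟩
    haveI : RingHomInvPair (e : R →+* S) (e.symm : S →+* R) := ⟨by ext; simp, by ext; simp⟩
    let e₂ : T ≃ₛₗ[(e.symm : S →+* R)] T :=
      { toFun := id
        invFun := id
        map_add' := fun _ _ => rfl
        map_smul' := fun s t => by
          show f s * t = (f.comp e.toRingHom) (e.symm s) * t
          simp
        left_inv := fun _ => rfl
        right_inv := fun _ => rfl }
    exact Module.Projective.of_equiv e₂

theorem projHom_isStableUnderBaseChange : RingHom.IsStableUnderBaseChange @ProjHom := by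
  refine RingHom.IsStableUnderBaseChange.mk projHom_respectsIso ?_
  intro R S T _ _ _ _ _ h
  haveI h' : Module.Projective R T := projHom_algebraMap_iff.1 h
  have : Module.Projective S (S ⊗[R] T) := inferInstance
  exact projHom_algebraMap_iff.2 this

end Groth.Agent.Lib.Helper12.EssFreeD
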