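import Mathlib
import Groth.Prelude.Def_SGA3x
import Groth.Agent.Lib.Helper12.EssFreeD0

/-!
# Helper library (helper12): essentially free morphisms are stable under base change
(requested by helper27 for S5356)
-/

set_option autoImplicit false
set_option linter.style.haveILetI false
universe u
open CategoryTheory CategoryTheory.Limits AlgebraicGeometry

namespace Groth.Agent.Lib.Helper12.EssFreeD

/-- Base change of a "projective" morphism of affine schemes. -/
theorem projHom_appTop_of_isPullback {V' V S₁ T₁ : Scheme.{u}} [IsAffine V] [IsAffine S₁]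
    [IsAffine T₁] (a : V' ⟶ V) (b' : V' ⟶ T₁) (b : V ⟶ S₁) (pr : T₁ ⟶ S₁)
    (h : IsPullback a b' b pr) (hb : ProjHom b.appTop.hom) :
    IsAffine V' ∧ ProjHom b'.appTop.hom := by
  obtain ⟨e, he⟩ : ∃ e : V' ≅ pullback pr b, e.hom ≫ pullback.fst pr b = b' :=
    ⟨h.flip.isoPullback, h.flip.isoPullback_hom_fst⟩
  haveI : IsAffine V' := IsAffine.of_isIso e.hom
  haveI : IsIso (e.hom.appTop) := by
    show IsIso (e.hom.app ⊤)
    infer_instance
  refine ⟨inferInstance, ?_⟩
  have h1 : ProjHom (pullback.fst pr b).appTop.hom :=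
    projHom_isStableUnderBaseChange.pullback_fst_appTop _ projHom_respectsIso pr b hb
  rw [← he, Scheme.Hom.comp_appTop, CommRingCat.hom_comp, projHom_respectsIso.cancel_right_isIso]
  exact h1

set_option maxHeartbeats 1000000 in
theorem isEssentiallyFree_baseChange (X S S' : Scheme.{u}) (f : X ⟶ S) (g : S' ⟶ S)
    (h : SGA3x.IsEssentiallyFree f) : SGA3x.IsEssentiallyFree (pullback.snd f g) := by
  intro t
  obtain ⟨U, hsU, hU, S₁, hS₁, p, hpflat, hpsurj, hcharts⟩ := h (g t)
  obtain ⟨_, ⟨(W : S'.Opens), hW, rfl⟩, htW, hWU⟩ := S'.isBasis_affineOpens.exists_subset_of_mem_open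
    (show t ∈ ((g ⁻¹ᵁ U : S'.Opens) : Set S') from hsU) (g ⁻¹ᵁ U).isOpen
  have hrange : Set.range (W.ι ≫ g) ⊆ Set.range U.ι := by
    rw [Scheme.Opens.range_ι]
    rintro _ ⟨w, rfl⟩
    exact hWU w.2
  obtain ⟨gW, hgW⟩ : ∃ gW : (W : Scheme.{u}) ⟶ (U : Scheme.{u}), gW ≫ U.ι = W.ι ≫ g :=
    ⟨IsOpenImmersion.lift U.ι (W.ι ≫ g) hrange, IsOpenImmersion.lift_fac _ _ _⟩
  haveI := hS₁
  haveI : IsAffine (U : Scheme.{u}) := hU
  haveI : IsAffine (W : Scheme.{u}) := hW
  refine ⟨W, htW, hW, pullback p gW, inferInstance,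
    pullback.snd p gW,
    MorphismProperty.pullback_snd _ _ hpflat, MorphismProperty.pullback_snd _ _ hpsurj, ?_⟩
  intro x
  have hcomm : pullback.snd p gW ≫ W.ι ≫ g =
      pullback.fst p gW ≫ p ≫ U.ι := by
    rw [← hgW, ← Category.assoc, ← pullback.condition, Category.assoc]
  have hlift : (pullback.fst (pullback.snd f g)
        (pullback.snd p gW ≫ W.ι) ≫ pullback.fst f g) ≫ f =
      (pullback.snd (pullback.snd f g)
        (pullback.snd p gW ≫ W.ι) ≫
        pullback.fst p gW) ≫ (p ≫ U.ι) := by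
    have h1 : pullback.fst f g ≫ f = pullback.snd f g ≫ g := pullback.condition
    have h2 := pullback.condition (f := pullback.snd f g)
      (g := pullback.snd p gW ≫ W.ι)
    rw [Category.assoc, h1, ← Category.assoc, h2]
    simp only [Category.assoc]
    rw [hcomm]
  have hbig : IsPullback
      (pullback.fst (pullback.snd f g)
        (pullback.snd p gW ≫ W.ι) ≫ pullback.fst f g)
      (pullback.snd (pullback.snd f g)
        (pullback.snd p gW ≫ W.ι)) f
      ((pullback.snd p gW ≫ W.ι) ≫ g) :=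
    (IsPullback.of_hasPullback (pullback.snd f g)
      (pullback.snd p gW ≫ W.ι)).paste_horiz
      (IsPullback.of_hasPullback f g)
  have hbig' : IsPullback
      (pullback.lift _ _ hlift ≫ pullback.fst f (p ≫ U.ι))
      (pullback.snd (pullback.snd f g)
        (pullback.snd p gW ≫ W.ι)) f
      (pullback.fst p gW ≫ (p ≫ U.ι)) := by
    rw [pullback.lift_fst, ← hcomm, ← Category.assoc]
    exact hbig
  have hZ' : IsPullback (pullback.lift _ _ hlift)
      (pullback.snd (pullback.snd f g)
        (pullback.snd p gW ≫ W.ι))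
      (pullback.snd f (p ≫ U.ι)) (pullback.fst p gW) :=
    IsPullback.of_right hbig' (pullback.lift_snd _ _ _) (IsPullback.of_hasPullback f (p ≫ U.ι))
  obtain ⟨V, hzV, hV, hproj⟩ := hcharts (pullback.lift _ _ hlift x)
  haveI : IsAffine (V : Scheme.{u}) := hV
  have hV' := (isPullback_morphismRestrict (pullback.lift _ _ hlift) V).paste_vert hZ'
  obtain ⟨haff, hp'⟩ := projHom_appTop_of_isPullback _ _ _ _ hV' hproj
  exact ⟨pullback.lift _ _ hlift ⁻¹ᵁ V, hzV, haff, hp'⟩

end Groth.Agent.Lib.Helper12.EssFreeD
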