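import Mathlib

/-!
# Étaleness of a coordinate map in terms of Kähler differentials (helper12)

For a formally smooth `A`-algebra `T` and `S → T`, if `T ⊗_S Ω[S/A] → Ω[T/A]` is bijective then
`T` is formally étale over `S` (Jacobi–Zariski).  Specialised to `S = A[X_1, …, X_d]`: coordinates
`z_1, …, z_d` of `T` define an étale map iff `dz_i` is a basis of `Ω[T/A]`.
-/

set_option autoImplicit false
universe u

open KaehlerDifferential TensorProduct

namespace Groth.Agent.Lib.Helper12.EtaCrit

section JZ

variable (A S T : Type u) [CommRing A] [CommRing S] [CommRing T] [Algebra A S] [Algebra A T]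
  [Algebra S T] [IsScalarTower A S T]

/-- Jacobi–Zariski: if `T` is formally smooth over `A` and `T ⊗_S Ω[S/A] → Ω[T/A]` is bijective,
then `T` is formally étale over `S`. -/
theorem formallyEtale_of_bijective_mapBaseChange [Algebra.FormallySmooth A T]
    (h : Function.Bijective (mapBaseChange A S T)) : Algebra.FormallyEtale S T := by
  refine ⟨?_, ?_⟩
  · refine subsingleton_of_forall_eq 0 fun x => ?_
    obtain ⟨y, rfl⟩ := KaehlerDifferential.map_surjective A S T x
    obtain ⟨z, rfl⟩ := h.2 y
    exact (KaehlerDifferential.exact_mapBaseChange_map A S T _).mpr ⟨z, rfl⟩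
  · refine subsingleton_of_forall_eq 0 fun x => ?_
    have h1 : Algebra.H1Cotangent.δ A S T x = 0 := by
      apply h.1
      rw [map_zero]
      exact (Algebra.H1Cotangent.exact_δ_mapBaseChange A S T _).mpr ⟨x, rfl⟩
    obtain ⟨y, rfl⟩ := (Algebra.H1Cotangent.exact_map_δ A S T x).mp h1
    rw [Subsingleton.elim y 0, map_zero]

end JZ

section Coord

variable (V T : Type u) [CommRing V] [CommRing T] [Algebra V T] {d : ℕ}

/-- The linear combination map `c ↦ ∑ c_i dz_i`. -/
noncomputable def lc (z : Fin d → T) : (Fin d → T) →ₗ[T] Ω[T⁄V] :=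
  Fintype.linearCombination T (fun i => D V T (z i))

theorem lc_apply (z : Fin d → T) (c : Fin d → T) : lc V T z c = ∑ i, c i • D V T (z i) := rfl

variable [Algebra (MvPolynomial (Fin d) V) T] [IsScalarTower V (MvPolynomial (Fin d) V) T]

/-- `lc` for the images of the variables is `mapBaseChange` in the basis `1 ⊗ dX_i`. -/
theorem lc_eq_mapBaseChange_comp :
    lc V T (fun i => algebraMap (MvPolynomial (Fin d) V) T (MvPolynomial.X i)) =
      (mapBaseChange V (MvPolynomial (Fin d) V) T) ∘ₗ
        (((mvPolynomialBasis V (Fin d)).baseChange T).equivFun.symm :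
          (Fin d → T) ≃ₗ[T] T ⊗[MvPolynomial (Fin d) V] Ω[MvPolynomial (Fin d) V⁄V]).toLinearMap := by
  refine LinearMap.ext fun c => ?_
  rw [LinearMap.comp_apply, LinearEquiv.coe_coe, Module.Basis.equivFun_symm_apply, map_sum, lc_apply]
  refine Finset.sum_congr rfl fun i _ => ?_
  rw [map_smul, Module.Basis.baseChange_apply, mvPolynomialBasis_apply, mapBaseChange_tmul,
    one_smul, map_D]

theorem lc_bijective_iff :
    Function.Bijective (lc V T (fun i => algebraMap (MvPolynomial (Fin d) V) T (MvPolynomial.X i)))
      ↔ Function.Bijective (mapBaseChange V (MvPolynomial (Fin d) V) T) := by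
  rw [lc_eq_mapBaseChange_comp]
  rw [LinearMap.coe_comp, LinearEquiv.coe_coe]
  exact Function.Bijective.of_comp_iff _ (LinearEquiv.bijective _)

end Coord

section RingHomLevel

variable {V T : Type u} [CommRing V] [CommRing T] [Algebra V T] {d : ℕ}

/-- Étale coordinates give a basis of the differentials. -/
theorem lc_bijective_of_etale (z : Fin d → T)
    (h : (MvPolynomial.aeval z : MvPolynomial (Fin d) V →ₐ[V] T).toRingHom.Etale) :
    Function.Bijective (lc V T z) := by
  letI : Algebra (MvPolynomial (Fin d) V) T :=
    (MvPolynomial.aeval z : MvPolynomial (Fin d) V →ₐ[V] T).toRingHom.toAlgebra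
  haveI : IsScalarTower V (MvPolynomial (Fin d) V) T := IsScalarTower.of_algebraMap_eq fun r => by
    show algebraMap V T r = MvPolynomial.aeval z (algebraMap V (MvPolynomial (Fin d) V) r)
    rw [AlgHom.commutes]
  haveI : Algebra.Etale (MvPolynomial (Fin d) V) T := h
  have h1 : (fun i => algebraMap (MvPolynomial (Fin d) V) T (MvPolynomial.X i)) = z := by
    funext i
    show MvPolynomial.aeval z (MvPolynomial.X i) = z i
    rw [MvPolynomial.aeval_X]
  rw [← h1, lc_bijective_iff]
  exact (tensorKaehlerEquivOfFormallyEtale V (MvPolynomial (Fin d) V) T).bijective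

/-- Coordinates of a smooth algebra whose differentials form a basis define an étale map. -/
theorem etale_of_lc_bijective [Algebra.FormallySmooth V T] [Algebra.FinitePresentation V T]
    (z : Fin d → T) (h : Function.Bijective (lc V T z)) :
    (MvPolynomial.aeval z : MvPolynomial (Fin d) V →ₐ[V] T).toRingHom.Etale := by
  letI : Algebra (MvPolynomial (Fin d) V) T :=
    (MvPolynomial.aeval z : MvPolynomial (Fin d) V →ₐ[V] T).toRingHom.toAlgebra
  haveI : IsScalarTower V (MvPolynomial (Fin d) V) T := IsScalarTower.of_algebraMap_eq fun r => by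
    show algebraMap V T r = MvPolynomial.aeval z (algebraMap V (MvPolynomial (Fin d) V) r)
    rw [AlgHom.commutes]
  have h1 : (fun i => algebraMap (MvPolynomial (Fin d) V) T (MvPolynomial.X i)) = z := by
    funext i
    show MvPolynomial.aeval z (MvPolynomial.X i) = z i
    rw [MvPolynomial.aeval_X]
  rw [← h1, lc_bijective_iff] at h
  haveI : Algebra.FormallyEtale (MvPolynomial (Fin d) V) T :=
    formallyEtale_of_bijective_mapBaseChange V (MvPolynomial (Fin d) V) T h
  haveI : Algebra.FinitePresentation (MvPolynomial (Fin d) V) T :=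
    Algebra.FinitePresentation.of_restrict_scalars_finitePresentation V (MvPolynomial (Fin d) V) T
  show Algebra.Etale (MvPolynomial (Fin d) V) T
  exact ⟨inferInstance, inferInstance⟩

/-- Change of coordinates by a matrix with unit determinant. -/
theorem lc_bijective_of_matrix {Ω : Type*} [AddCommGroup Ω] [Module T Ω] (w w' : Fin d → Ω)
    (M : Matrix (Fin d) (Fin d) T) (hM : IsUnit M.det) (h : ∀ i, w i = ∑ j, M i j • w' j)
    (hw' : Function.Bijective (Fintype.linearCombination T w')) :
    Function.Bijective (Fintype.linearCombination T w) := by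
  have hcomp : (Fintype.linearCombination T w : (Fin d → T) → Ω) =
      (Fintype.linearCombination T w') ∘ (fun c => Matrix.vecMul c M) := by
    funext c
    simp only [Function.comp_apply, Fintype.linearCombination_apply, Matrix.vecMul, dotProduct]
    simp_rw [h, Finset.smul_sum, Finset.sum_smul, smul_smul]
    exact Finset.sum_comm
  rw [hcomp]
  refine hw'.comp ⟨?_, ?_⟩
  · exact Matrix.vecMul_injective_of_isUnit ((Matrix.isUnit_iff_isUnit_det M).mpr hM)
  · exact Matrix.vecMul_surjective_iff_isUnit.mpr ((Matrix.isUnit_iff_isUnit_det M).mpr hM)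

end RingHomLevel

end Groth.Agent.Lib.Helper12.EtaCrit
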