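import Mathlib

/-!
# Bounded denominators for differentials on a localization (helper12)

`R` a finite type `V`-algebra, `T = R[1/c]`, and `x'_1, …, x'_d ∈ R` whose differentials span
`Ω[T/V]`.  Then there is `t` such that `c^t • dr` lies in the `R`-span of the `dx'_j` for all `r ∈ R`.
Also: differentials of elements of the subring generated by `N`-th powers are divisible by `N`.
-/

set_option autoImplicit false
universe u

open KaehlerDifferential

namespace Groth.Agent.Lib.Helper12.EtaDenoms

variable {V R T : Type u} [CommRing V] [CommRing R] [CommRing T] [Algebra V R] [Algebra V T]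
  [Algebra R T] [IsScalarTower V R T] {d : ℕ}

variable (V T) in
/-- The `R`-span of the `dx'_j` in `Ω[T/V]`. -/
noncomputable def U (x' : Fin d → R) : Submodule R Ω[T⁄V] :=
  Submodule.span R (Set.range fun j => D V T (algebraMap R T (x' j)))

variable (V T) in
/-- Differentials `ω` with `c^t • ω` in the `R`-span of the `dx'_j`. -/
noncomputable def W (c : R) (x' : Fin d → R) (t : ℕ) : Submodule R Ω[T⁄V] :=
  (U V T x').comap (LinearMap.lsmul R Ω[T⁄V] (c ^ t))

theorem mem_W_iff (c : R) (x' : Fin d → R) (t : ℕ) (ω : Ω[T⁄V]) :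
    ω ∈ W V T c x' t ↔ ∃ b : Fin d → R, ∑ j, b j • D V T (algebraMap R T (x' j)) = c ^ t • ω := by
  unfold W U
  rw [Submodule.mem_comap, Submodule.mem_span_range_iff_exists_fun]
  rfl

theorem W_mono (c : R) (x' : Fin d → R) {t s : ℕ} (h : t ≤ s) : W V T c x' t ≤ W V T c x' s := by
  intro ω hω
  obtain ⟨k, rfl⟩ := Nat.exists_eq_add_of_le h
  have h1 : c ^ (t + k) • ω = c ^ k • (c ^ t • ω) := by
    rw [smul_smul, ← pow_add, add_comm]
  show c ^ (t + k) • ω ∈ U V T x'
  rw [h1]
  exact Submodule.smul_mem _ _ hω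

variable (V R T) in
/-- The `R`-span of all `dr`, `r ∈ R`, in `Ω[T/V]`. -/
noncomputable def W₀ : Submodule R Ω[T⁄V] :=
  Submodule.span R (Set.range fun r : R => D V T (algebraMap R T r))

variable (V T) in
/-- The subalgebra of `r` with `dr` in a given `R`-submodule. -/
noncomputable def subalg (Wt : Submodule R Ω[T⁄V]) : Subalgebra V R where
  carrier := {r | D V T (algebraMap R T r) ∈ Wt}
  mul_mem' {a b} ha hb := by
    show D V T (algebraMap R T (a * b)) ∈ Wt
    rw [map_mul, Derivation.leibniz, algebraMap_smul, algebraMap_smul]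
    exact Wt.add_mem (Wt.smul_mem _ hb) (Wt.smul_mem _ ha)
  add_mem' {a b} ha hb := by
    show D V T (algebraMap R T (a + b)) ∈ Wt
    rw [map_add, map_add]
    exact Wt.add_mem ha hb
  algebraMap_mem' v := by
    show D V T (algebraMap R T (algebraMap V R v)) ∈ Wt
    rw [← IsScalarTower.algebraMap_apply, Derivation.map_algebraMap]
    exact Wt.zero_mem

theorem exists_mem_W (c : R) [IsLocalization.Away c T] (x' : Fin d → R)
    (hspan : Submodule.span T (Set.range fun j => D V T (algebraMap R T (x' j))) = ⊤)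
    (ω : Ω[T⁄V]) : ∃ t, ω ∈ W V T c x' t := by
  have hω : ω ∈ Submodule.span T (Set.range fun j => D V T (algebraMap R T (x' j))) := by
    rw [hspan]; trivial
  obtain ⟨τ, rfl⟩ := (Submodule.mem_span_range_iff_exists_fun T).mp hω
  obtain ⟨⟨b, n, rfl⟩, hb⟩ := IsLocalization.exist_integer_multiples (Submonoid.powers c)
    (Finset.univ : Finset (Fin d)) τ
  choose r hr using fun j => hb j (Finset.mem_univ j)
  refine ⟨n, (mem_W_iff c x' n _).mpr ⟨r, ?_⟩⟩
  rw [Finset.smul_sum]
  refine Finset.sum_congr rfl fun j _ => ?_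
  have h2 : algebraMap R T (r j) = c ^ n • τ j := hr j
  rw [← smul_assoc, ← h2, algebraMap_smul]

theorem exists_forall_mem_W [Algebra.FiniteType V R] (c : R) [IsLocalization.Away c T]
    (x' : Fin d → R)
    (hspan : Submodule.span T (Set.range fun j => D V T (algebraMap R T (x' j))) = ⊤) :
    ∃ t, W₀ V R T ≤ W V T c x' t := by
  classical
  obtain ⟨s, hs⟩ := (Algebra.FiniteType.out : (⊤ : Subalgebra V R).FG)
  choose tf htf using fun r : R => exists_mem_W (V := V) (T := T) c x' hspan
    (D V T (algebraMap R T r))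
  refine ⟨s.sup tf, ?_⟩
  have hle : Algebra.adjoin V (s : Set R) ≤ subalg V T (W V T c x' (s.sup tf)) := by
    rw [Algebra.adjoin_le_iff]
    intro r hr
    exact W_mono c x' (Finset.le_sup hr) (htf r)
  rw [hs] at hle
  unfold W₀
  rw [Submodule.span_le]
  rintro _ ⟨r, rfl⟩
  exact hle (Algebra.mem_top : r ∈ (⊤ : Subalgebra V R))

/-- Differentials of elements of the subring generated by `N`-th powers are divisible by `N`. -/
theorem exists_eq_nsmul_of_mem_closure (N : ℕ) (y : R)
    (hy : y ∈ Subring.closure (Set.range fun r : R => r ^ N)) :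
    ∃ ω ∈ W₀ V R T, D V T (algebraMap R T y) = N • ω := by
  induction hy using Subring.closure_induction with
  | mem y hy =>
    obtain ⟨r, rfl⟩ := hy
    refine ⟨r ^ (N - 1) • D V T (algebraMap R T r), ?_, ?_⟩
    · exact Submodule.smul_mem _ _ (Submodule.subset_span ⟨r, rfl⟩)
    · rw [map_pow, Derivation.leibniz_pow, ← algebraMap_smul T (r ^ (N - 1)), map_pow]
  | zero => exact ⟨0, Submodule.zero_mem _, by rw [map_zero, map_zero, smul_zero]⟩
  | one => exact ⟨0, Submodule.zero_mem _, by rw [map_one, Derivation.map_one_eq_zero, smul_zero]⟩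
  | add a b _ _ ha hb =>
    obtain ⟨ωa, hωa, ha⟩ := ha
    obtain ⟨ωb, hωb, hb⟩ := hb
    exact ⟨ωa + ωb, Submodule.add_mem _ hωa hωb, by rw [map_add, map_add, ha, hb, smul_add]⟩
  | neg a _ ha =>
    obtain ⟨ωa, hωa, ha⟩ := ha
    exact ⟨-ωa, Submodule.neg_mem _ hωa, by rw [map_neg, map_neg, ha, smul_neg]⟩
  | mul a b _ _ ha hb =>
    obtain ⟨ωa, hωa, ha⟩ := ha
    obtain ⟨ωb, hωb, hb⟩ := hb
    refine ⟨a • ωb + b • ωa, Submodule.add_mem _ (Submodule.smul_mem _ _ hωb)
      (Submodule.smul_mem _ _ hωa), ?_⟩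
    rw [map_mul, Derivation.leibniz, ha, hb, algebraMap_smul, algebraMap_smul, smul_add,
      smul_comm a N, smul_comm b N]

end Groth.Agent.Lib.Helper12.EtaDenoms
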