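import Mathlib
import Groth.Agent.Lib.Helper22.SmoothRelDim
import Groth.Agent.Lib.Helper22.DimTrdeg
import Groth.Agent.Lib.Helper12.ValDim
import Groth.Agent.Lib.Helper12.DimFT
import Groth.Agent.Lib.Helper12.DimFT2

/-!
# Fibre dimensions of a flat finite type algebra over a DVR with smooth generic fibre (helper12)
-/

set_option autoImplicit false
universe u

open AlgebraicGeometry TensorProduct

namespace Groth.Agent.Lib.Helper12.EtaDim

/-- A `K`-algebra smooth of relative dimension `d` over a field has Krull dimension at most `d`. -/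
theorem ringKrullDim_le_of_smoothOfRelativeDimension (K B : Type u) [Field K] [CommRing B]
    [Algebra K B] (d : ℕ)
    (h : SmoothOfRelativeDimension d (Spec.map (CommRingCat.ofHom (algebraMap K B)))) :
    ringKrullDim B ≤ d := by
  have hloc : RingHom.Locally (RingHom.IsStandardSmoothOfRelativeDimension d) (algebraMap K B) :=
    (HasRingHomProperty.Spec_iff (P := @SmoothOfRelativeDimension d)).mp h
  obtain ⟨s, hs, hP⟩ := hloc
  rw [ringKrullDim_le_iff_height_le]
  intro q hq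
  obtain ⟨f, hfs, hfq⟩ : ∃ f ∈ s, f ∉ q := by
    by_contra hcon
    push Not at hcon
    have : Ideal.span s ≤ q := Ideal.span_le.mpr hcon
    rw [hs] at this
    exact hq.ne_top (top_le_iff.mp this)
  have hdisj : Disjoint (Submonoid.powers f : Set B) (q : Set B) := by
    rw [Set.disjoint_left]
    rintro _ ⟨n, rfl⟩ hn
    exact hfq (hq.mem_of_pow_mem n hn)
  let q' : Ideal (Localization.Away f) := q.map (algebraMap B (Localization.Away f))
  haveI hq' : q'.IsPrime :=
    IsLocalization.isPrime_of_isPrime_disjoint (Submonoid.powers f) _ q hq hdisj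
  have hcomap : q'.under B = q :=
    IsLocalization.comap_map_of_isPrime_disjoint (Submonoid.powers f) _ hq hdisj
  have hht : q.height = q'.height := by
    rw [← hcomap]
    exact IsLocalization.height_under (Submonoid.powers f) q'
  have hss := hP f hfs
  have key := @Groth.Agent.Lib.Helper22.SmoothRelDim.height_add_coheight_of_isStandardSmooth K _ d
    (Localization.Away f) _ ((algebraMap B (Localization.Away f)).comp (algebraMap K B)).toAlgebra
    hss ⟨q', hq'⟩
  have h1 : Order.height (⟨q', hq'⟩ : PrimeSpectrum (Localization.Away f)) = q'.height :=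
    (PrimeSpectrum.height_eq_orderHeight ⟨q', hq'⟩).symm
  rw [hht, ← h1]
  have h2 : Order.height (⟨q', hq'⟩ : PrimeSpectrum (Localization.Away f)) ≤ (d : ℕ∞) := by
    rw [← key]; exact le_self_add
  exact_mod_cast h2

/-- If the generic fibre of `R` over a domain `V` has dimension `≤ d`, then every prime quotient of
`R` into which `V` injects has transcendence degree `≤ d` over `V`. -/
theorem trdeg_le_of_generic {V : Type u} [CommRing V] [IsDomain V] {R : Type u} [CommRing R]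
    [Algebra V R] [Algebra.FiniteType V R] (d : ℕ)
    (hη : ringKrullDim (FractionRing V ⊗[V] R) ≤ d) (𝔮 : Ideal R) [𝔮.IsPrime]
    (hinj : Function.Injective (algebraMap V (R ⧸ 𝔮))) :
    Algebra.trdeg V (R ⧸ 𝔮) ≤ (d : Cardinal.{u}) := by
  haveI : FaithfulSMul V (R ⧸ 𝔮) := (faithfulSMul_iff_algebraMap_injective _ _).mpr hinj
  haveI : FaithfulSMul V (FractionRing (R ⧸ 𝔮)) := by
    rw [faithfulSMul_iff_algebraMap_injective, IsScalarTower.algebraMap_eq V (R ⧸ 𝔮)]
    exact (IsFractionRing.injective (R ⧸ 𝔮) (FractionRing (R ⧸ 𝔮))).comp hinj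
  letI : Algebra (FractionRing V) (FractionRing (R ⧸ 𝔮)) :=
    FractionRing.liftAlgebra V (FractionRing (R ⧸ 𝔮))
  haveI : IsScalarTower V (FractionRing V) (FractionRing (R ⧸ 𝔮)) :=
    FractionRing.isScalarTower_liftAlgebra V (FractionRing (R ⧸ 𝔮))
  let g : FractionRing V ⊗[V] R →ₐ[FractionRing V] FractionRing (R ⧸ 𝔮) :=
    Algebra.TensorProduct.lift (Algebra.ofId (FractionRing V) (FractionRing (R ⧸ 𝔮)))
      ((IsScalarTower.toAlgHom V (R ⧸ 𝔮) (FractionRing (R ⧸ 𝔮))).comp (Ideal.Quotient.mkₐ V 𝔮))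
      (fun _ _ => Commute.all _ _)
  let 𝔟 : Ideal (FractionRing V ⊗[V] R) := RingHom.ker g.toRingHom
  haveI h𝔟 : 𝔟.IsPrime := RingHom.ker_isPrime g.toRingHom
  haveI : Algebra.FiniteType (FractionRing V) ((FractionRing V ⊗[V] R) ⧸ 𝔟) :=
    Algebra.FiniteType.of_surjective (Ideal.Quotient.mkₐ (FractionRing V) 𝔟)
      Ideal.Quotient.mk_surjective
  -- the injection `R ⧸ 𝔮 → A'`
  let ψ : R →ₐ[V] (FractionRing V ⊗[V] R) ⧸ 𝔟 :=
    ((Ideal.Quotient.mkₐ V 𝔟).comp
      (Algebra.TensorProduct.includeRight : R →ₐ[V] FractionRing V ⊗[V] R))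
  have hψ : ∀ r : R, ψ r = 0 ↔ r ∈ 𝔮 := by
    intro r
    show Ideal.Quotient.mk 𝔟 ((1 : FractionRing V) ⊗ₜ[V] r) = 0 ↔ r ∈ 𝔮
    rw [Ideal.Quotient.eq_zero_iff_mem]
    show g ((1 : FractionRing V) ⊗ₜ[V] r) = 0 ↔ r ∈ 𝔮
    rw [Algebra.TensorProduct.lift_tmul, map_one, one_mul]
    show algebraMap (R ⧸ 𝔮) (FractionRing (R ⧸ 𝔮)) (Ideal.Quotient.mk 𝔮 r) = 0 ↔ r ∈ 𝔮
    rw [map_eq_zero_iff _ (IsFractionRing.injective (R ⧸ 𝔮) (FractionRing (R ⧸ 𝔮))),
      Ideal.Quotient.eq_zero_iff_mem]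
  let ψ' : R ⧸ 𝔮 →ₐ[V] (FractionRing V ⊗[V] R) ⧸ 𝔟 :=
    Ideal.Quotient.liftₐ 𝔮 ψ (fun r hr => (hψ r).mpr hr)
  have hψ' : Function.Injective ψ' := by
    rw [injective_iff_map_eq_zero]
    intro z hz
    obtain ⟨r, rfl⟩ := Ideal.Quotient.mk_surjective z
    have : ψ r = 0 := hz
    exact Ideal.Quotient.eq_zero_iff_mem.mpr ((hψ r).mp this)
  have h1 : Algebra.trdeg V (R ⧸ 𝔮) ≤ Algebra.trdeg V ((FractionRing V ⊗[V] R) ⧸ 𝔟) :=
    trdeg_le_of_injective ψ' hψ'
  have h2 : Algebra.trdeg V (FractionRing V) +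
      Algebra.trdeg (FractionRing V) ((FractionRing V ⊗[V] R) ⧸ 𝔟) =
      Algebra.trdeg V ((FractionRing V ⊗[V] R) ⧸ 𝔟) :=
    trdeg_add_eq V (FractionRing V) (A := (FractionRing V ⊗[V] R) ⧸ 𝔟)
  haveI : Algebra.IsAlgebraic V (FractionRing V) :=
    IsLocalization.isAlgebraic (FractionRing V) (nonZeroDivisors V)
  rw [trdeg_eq_zero (R := V) (A := FractionRing V), zero_add] at h2
  obtain ⟨s, hs1, hs2, -⟩ := Groth.Agent.Lib.Helper12.DimFT.exists_dim_eq_trdeg (FractionRing V)
    ((FractionRing V ⊗[V] R) ⧸ 𝔟)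
  have h3 : ringKrullDim ((FractionRing V ⊗[V] R) ⧸ 𝔟) ≤ d :=
    (ringKrullDim_le_of_surjective (Ideal.Quotient.mk 𝔟) Ideal.Quotient.mk_surjective).trans hη
  rw [hs1] at h3
  have h4 : s ≤ d := by exact_mod_cast h3
  rw [← h2, hs2] at h1
  exact h1.trans (by exact_mod_cast h4)

/-- Prime quotients of the special fibre have dimension at most that of the generic fibre. -/
theorem ringKrullDim_quotient_le_of_special {V : Type u} [CommRing V] [IsDomain V]
    [IsDiscreteValuationRing V] {R : Type u} [CommRing R] [Algebra V R] [Module.Flat V R]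
    [Algebra.FiniteType V R] (d : ℕ)
    (hη : ringKrullDim (FractionRing V ⊗[V] R) ≤ d) (𝔓 : Ideal R) [𝔓.IsPrime]
    (h𝔓 : (IsLocalRing.maximalIdeal V).map (algebraMap V R) ≤ 𝔓) :
    ringKrullDim (R ⧸ 𝔓) ≤ d := by
  obtain ⟨𝔮₀, h𝔮₀, hle⟩ := Ideal.exists_minimalPrimes_le (I := (⊥ : Ideal R)) (J := 𝔓) bot_le
  haveI : 𝔮₀.IsPrime := h𝔮₀.1.1
  have hinj : Function.Injective (algebraMap V (R ⧸ 𝔮₀)) := by
    rw [injective_iff_map_eq_zero]
    intro v hv
    by_contra hv0
    have h1 : algebraMap V R v ∈ 𝔮₀ := by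
      rw [IsScalarTower.algebraMap_apply V R (R ⧸ 𝔮₀)] at hv
      exact Ideal.Quotient.eq_zero_iff_mem.mp hv
    have h2 : algebraMap V R v ∈ nonZeroDivisors R := by
      have hreg : IsSMulRegular R v :=
        Module.Flat.isSMulRegular_of_nonZeroDivisors (mem_nonZeroDivisors_of_ne_zero hv0)
      rw [mem_nonZeroDivisors_iff_right]
      intro x hx
      apply hreg
      show v • x = v • 0
      rw [smul_zero, Algebra.smul_def, mul_comm, hx]
    exact notMem_nonZeroDivisors_of_mem_mem_minimalPrimes h1 h𝔮₀ h2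
  let Q : Ideal (R ⧸ 𝔮₀) := 𝔓.map (Ideal.Quotient.mk 𝔮₀)
  haveI hQ : Q.IsPrime := Ideal.map_isPrime_of_surjective Ideal.Quotient.mk_surjective
    (by rw [Ideal.mk_ker]; exact hle)
  have hQcomap : Q.comap (Ideal.Quotient.mk 𝔮₀) = 𝔓 := by
    rw [Ideal.comap_map_of_surjective _ Ideal.Quotient.mk_surjective, ← RingHom.ker_eq_comap_bot,
      Ideal.mk_ker]
    exact sup_eq_left.mpr hle
  have hQunder : Q.under V = IsLocalRing.maximalIdeal V := by
    refine le_antisymm (IsLocalRing.le_maximalIdeal (Ideal.IsPrime.under V Q).ne_top) ?_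
    intro v hv
    have h1 : algebraMap V R v ∈ 𝔓 := h𝔓 (Ideal.mem_map_of_mem _ hv)
    rw [← hQcomap] at h1
    show algebraMap V (R ⧸ 𝔮₀) v ∈ Q
    rw [IsScalarTower.algebraMap_apply V R (R ⧸ 𝔮₀)]
    exact h1
  haveI : (Q.under V).IsMaximal := hQunder ▸ IsLocalRing.maximalIdeal.isMaximal V
  have h1 := Groth.Agent.Lib.Helper12.ValDim.trdeg_quotient_le_of_valuationRing hinj Q
  have h2 := trdeg_le_of_generic d hη 𝔮₀ hinj
  letI : Field (V ⧸ Q.under V) := Ideal.Quotient.field _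
  haveI : Algebra.FiniteType V ((R ⧸ 𝔮₀) ⧸ Q) :=
    Algebra.FiniteType.of_surjective ((Ideal.Quotient.mkₐ V Q).comp (Ideal.Quotient.mkₐ V 𝔮₀))
      (Ideal.Quotient.mk_surjective.comp Ideal.Quotient.mk_surjective)
  haveI : Algebra.FiniteType (V ⧸ Q.under V) ((R ⧸ 𝔮₀) ⧸ Q) :=
    Algebra.FiniteType.of_restrictScalars_finiteType V _ _
  have h12 := h1.trans h2
  obtain ⟨m, hm⟩ := Cardinal.lt_aleph0.mp (h12.trans_lt (Cardinal.nat_lt_aleph0 d))
  have h3 := Groth.Agent.Lib.Helper22.ringKrullDim_eq_of_trdeg m hm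
  have hmd : m ≤ d := by
    rw [hm] at h12
    exact_mod_cast h12
  have e : (R ⧸ 𝔮₀) ⧸ Q ≃+* R ⧸ 𝔓 := DoubleQuot.quotQuotEquivQuotOfLE hle
  rw [← ringKrullDim_eq_of_ringEquiv e, h3]
  exact_mod_cast hmd

/-- The special fibre has dimension at most that of the generic fibre. -/
theorem ringKrullDim_special_le {V : Type u} [CommRing V] [IsDomain V]
    [IsDiscreteValuationRing V] {R : Type u} [CommRing R] [Algebra V R] [Module.Flat V R]
    [Algebra.FiniteType V R] (d : ℕ)
    (hη : ringKrullDim (FractionRing V ⊗[V] R) ≤ d) :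
    ringKrullDim (IsLocalRing.ResidueField V ⊗[V] R) ≤ d := by
  set I : Ideal R := (IsLocalRing.maximalIdeal V).map (algebraMap V R) with hI
  have hsurj : Function.Surjective
      (Algebra.TensorProduct.includeRight : R →ₐ[V] IsLocalRing.ResidueField V ⊗[V] R) :=
    Algebra.TensorProduct.includeRight_surjective R IsLocalRing.residue_surjective
  have hker : ∀ r ∈ I, (Algebra.TensorProduct.includeRight :
      R →ₐ[V] IsLocalRing.ResidueField V ⊗[V] R).toRingHom r = 0 := by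
    intro r hr
    rw [← RingHom.mem_ker]
    revert r
    show I ≤ _
    rw [hI, Ideal.map_le_iff_le_comap]
    intro v hv
    rw [Ideal.mem_comap, RingHom.mem_ker]
    show (1 : IsLocalRing.ResidueField V) ⊗ₜ[V] (algebraMap V R v) = 0
    rw [Algebra.algebraMap_eq_smul_one, ← TensorProduct.smul_tmul, Algebra.smul_def, mul_one]
    have : algebraMap V (IsLocalRing.ResidueField V) v = 0 :=
      (IsLocalRing.residue_eq_zero_iff v).mpr hv
    rw [this, TensorProduct.zero_tmul]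
  have h1 : ringKrullDim (IsLocalRing.ResidueField V ⊗[V] R) ≤ ringKrullDim (R ⧸ I) :=
    ringKrullDim_le_of_surjective (Ideal.Quotient.lift I _ hker)
      (Ideal.Quotient.lift_surjective_of_surjective I hker hsurj)
  refine h1.trans ?_
  refine Groth.Agent.Lib.Helper12.DimFT2.ringKrullDim_le_of_minimalPrimes _ fun P _ hP => ?_
  haveI := hP
  let 𝔓 : Ideal R := P.comap (Ideal.Quotient.mk I)
  haveI : 𝔓.IsPrime := Ideal.comap_isPrime _ _
  have h𝔓 : I ≤ 𝔓 := by
    intro r hr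
    show Ideal.Quotient.mk I r ∈ P
    rw [Ideal.Quotient.eq_zero_iff_mem.mpr hr]
    exact P.zero_mem
  have h2 := ringKrullDim_quotient_le_of_special d hη 𝔓 h𝔓
  refine le_trans ?_ h2
  exact ringKrullDim_le_of_surjective (Ideal.quotientMap P (Ideal.Quotient.mk I) le_rfl)
    (Ideal.quotientMap_surjective Ideal.Quotient.mk_surjective)

end Groth.Agent.Lib.Helper12.EtaDim
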