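import Mathlib
import Groth.Agent.Lib.Helper12.EtaCrit
import Groth.Agent.Lib.Helper12.EtaDenoms

/-!
# Perturbing η-étale coordinates by `N`-th powers (helper12)

If `x'` is étale on `R[1/(aϖ)]` over `V[T_1..T_d]` then there is `t` such that for every `N`
divisible by `ϖ^(t+1)` and every `y` in the subring generated by `N`-th powers, `x' + y` is étale on
`R[1/(a₂ϖ)]` for a suitable `a₂` coprime to `ϖ`.
-/

set_option autoImplicit false
universe u

open KaehlerDifferential

namespace Groth.Agent.Lib.Helper12.EtaMain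

open Groth.Agent.Lib.Helper12.EtaCrit Groth.Agent.Lib.Helper12.EtaDenoms

section Basic

variable {V R T : Type u} [CommRing V] [CommRing R] [CommRing T] [Algebra V R] [Algebra V T]
  [Algebra R T] [IsScalarTower V R T] {d : ℕ}

theorem comp_aeval (x : Fin d → R) :
    (algebraMap R T).comp (MvPolynomial.aeval x : MvPolynomial (Fin d) V →ₐ[V] R).toRingHom =
      (MvPolynomial.aeval (fun i => algebraMap R T (x i)) :
        MvPolynomial (Fin d) V →ₐ[V] T).toRingHom := by
  refine MvPolynomial.ringHom_ext (fun r => ?_) (fun i => ?_)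
  · simp [← IsScalarTower.algebraMap_apply V R T]
  · simp

omit [Algebra V R] [Algebra R T] [IsScalarTower V R T] in
theorem smooth_fp_of_etale (z : Fin d → T)
    (h : (MvPolynomial.aeval z : MvPolynomial (Fin d) V →ₐ[V] T).toRingHom.Etale) :
    Algebra.FormallySmooth V T ∧ Algebra.FinitePresentation V T := by
  letI : Algebra (MvPolynomial (Fin d) V) T :=
    (MvPolynomial.aeval z : MvPolynomial (Fin d) V →ₐ[V] T).toRingHom.toAlgebra
  haveI : IsScalarTower V (MvPolynomial (Fin d) V) T := IsScalarTower.of_algebraMap_eq fun r => by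
    show algebraMap V T r = MvPolynomial.aeval z (algebraMap V (MvPolynomial (Fin d) V) r)
    rw [AlgHom.commutes]
  haveI : Algebra.Etale (MvPolynomial (Fin d) V) T := h
  exact ⟨Algebra.FormallySmooth.comp V (MvPolynomial (Fin d) V) T,
    Algebra.FinitePresentation.trans V (MvPolynomial (Fin d) V) T⟩

end Basic

theorem etale_comp_iff_of_isLocalization {P R : Type u} [CommRing P] [CommRing R] (z : R)
    (T : Type u) [CommRing T] [Algebra R T] [IsLocalization.Away z T] (φ : P →+* R) :
    ((algebraMap R (Localization.Away z)).comp φ).Etale ↔ ((algebraMap R T).comp φ).Etale := by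
  let e : Localization.Away z ≃ₐ[R] T := IsLocalization.algEquiv (Submonoid.powers z) _ _
  have h1 : algebraMap R T = e.toRingEquiv.toRingHom.comp (algebraMap R (Localization.Away z)) :=
    RingHom.ext fun x => (e.commutes x).symm
  have h2 : algebraMap R (Localization.Away z) = e.symm.toRingEquiv.toRingHom.comp (algebraMap R T) :=
    RingHom.ext fun x => (e.symm.commutes x).symm
  constructor
  · intro h
    rw [h1, RingHom.comp_assoc]
    exact RingHom.Etale.respectsIso.left _ _ h
  · intro h
    rw [h2, RingHom.comp_assoc]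
    exact RingHom.Etale.respectsIso.left _ _ h

theorem stage2 {V R T₁ T₂ : Type u} [CommRing V] [CommRing R] [CommRing T₁] [CommRing T₂]
    [Algebra V R] [Algebra V T₁] [Algebra R T₁] [IsScalarTower V R T₁] [Algebra V T₂] [Algebra R T₂]
    [Algebra T₁ T₂] [IsScalarTower V R T₂] [IsScalarTower R T₁ T₂] [IsScalarTower V T₁ T₂] {d : ℕ}
    (x x' : Fin d → R) (M : Matrix (Fin d) (Fin d) R) (a : R) (t : ℕ)
    (hM : ∀ i, a ^ t • D V T₁ (algebraMap R T₁ (x i)) =
      ∑ j, M i j • D V T₁ (algebraMap R T₁ (x' j)))
    (hau : IsUnit (algebraMap R T₂ a)) (hgu : IsUnit (algebraMap R T₂ M.det))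
    (het₂ : (MvPolynomial.aeval (fun i => algebraMap R T₂ (x' i)) :
      MvPolynomial (Fin d) V →ₐ[V] T₂).toRingHom.Etale) :
    (MvPolynomial.aeval (fun i => algebraMap R T₂ (x i)) :
      MvPolynomial (Fin d) V →ₐ[V] T₂).toRingHom.Etale := by
  classical
  obtain ⟨hsm, hfp⟩ := smooth_fp_of_etale _ het₂
  have hbij₂ := lc_bijective_of_etale _ het₂
  have hM₂ : ∀ i, a ^ t • D V T₂ (algebraMap R T₂ (x i)) =
      ∑ j, M i j • D V T₂ (algebraMap R T₂ (x' j)) := by
    intro i
    have h1 := congrArg (KaehlerDifferential.map V V T₁ T₂) (hM i)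
    simp only [LinearMap.map_smul_of_tower, map_sum, map_D,
      ← IsScalarTower.algebraMap_apply R T₁ T₂] at h1
    exact h1
  refine etale_of_lc_bijective _ ?_
  obtain ⟨uinv, hu1⟩ := hau.exists_right_inv
  refine lc_bijective_of_matrix _ _ (uinv ^ t • M.map (algebraMap R T₂)) ?_ ?_ hbij₂
  · rw [Matrix.det_smul, ← RingHom.mapMatrix_apply, ← RingHom.map_det]
    refine IsUnit.mul (IsUnit.pow _ (IsUnit.pow _ ?_)) hgu
    exact IsUnit.of_mul_eq_one_right _ hu1
  · intro i
    have h1 := hM₂ i
    rw [← algebraMap_smul T₂ (a ^ t)] at h1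
    have h2 : ∑ j, (uinv ^ t • M.map (algebraMap R T₂)) i j • D V T₂ (algebraMap R T₂ (x' j)) =
        uinv ^ t • ∑ j, M i j • D V T₂ (algebraMap R T₂ (x' j)) := by
      rw [Finset.smul_sum]
      refine Finset.sum_congr rfl fun j _ => ?_
      rw [Matrix.smul_apply, Matrix.map_apply, smul_eq_mul, mul_smul, algebraMap_smul]
    rw [h2, ← h1, smul_smul, map_pow, ← mul_pow, mul_comm, hu1, one_pow, one_smul]

theorem exists_etale_perturb {V R : Type u} [CommRing V] [CommRing R] [Algebra V R]
    [Algebra.FiniteType V R] {d : ℕ}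
    (ϖ : V) (a : R) (x' : Fin d → R) (hcop : IsCoprime a (algebraMap V R ϖ))
    (het : ((algebraMap R (Localization.Away (a * algebraMap V R ϖ))).comp
          (MvPolynomial.aeval x' : MvPolynomial (Fin d) V →ₐ[V] R).toRingHom).Etale) :
    ∃ t : ℕ, ∀ (N : ℕ) (v : V), (N : V) = ϖ ^ (t + 1) * v → ∀ y : Fin d → R,
      (∀ i, y i ∈ Subring.closure (Set.range fun r : R => r ^ N)) →
      ∃ a₂ : R, IsCoprime a₂ (algebraMap V R ϖ) ∧
        ((algebraMap R (Localization.Away (a₂ * algebraMap V R ϖ))).comp
          (MvPolynomial.aeval (fun i => x' i + y i) :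
            MvPolynomial (Fin d) V →ₐ[V] R).toRingHom).Etale := by
  classical
  obtain ⟨ϖ', hϖ'⟩ : ∃ ϖ' : R, ϖ' = algebraMap V R ϖ := ⟨_, rfl⟩
  rw [← hϖ'] at het hcop
  obtain ⟨c, hc⟩ : ∃ c : R, c = a * ϖ' := ⟨_, rfl⟩
  rw [← hc] at het
  rw [comp_aeval] at het
  have hbij₁ := lc_bijective_of_etale (V := V) (T := Localization.Away c) _ het
  have hspan : Submodule.span (Localization.Away c) (Set.range fun j =>
      D V (Localization.Away c) (algebraMap R (Localization.Away c) (x' j))) = ⊤ := by
    rw [← Fintype.range_linearCombination]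
    exact LinearMap.range_eq_top.mpr hbij₁.2
  obtain ⟨t, ht⟩ := exists_forall_mem_W (V := V) (T := Localization.Away c) c x' hspan
  refine ⟨t, fun N v hN y hy => ?_⟩
  rw [← hϖ']
  -- the relation for `y`
  have hrel : ∀ i, ∃ b : Fin d → R,
      a ^ t • D V (Localization.Away c) (algebraMap R (Localization.Away c) (y i)) =
        ∑ j, (ϖ' * (algebraMap V R v * b j)) •
          D V (Localization.Away c) (algebraMap R (Localization.Away c) (x' j)) := by
    intro i
    obtain ⟨ω, hω, hyω⟩ := exists_eq_nsmul_of_mem_closure (V := V) (T := Localization.Away c)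
      N (y i) (hy i)
    obtain ⟨b, hb⟩ := (mem_W_iff c x' t ω).mp (ht hω)
    refine ⟨b, ?_⟩
    rw [hyω]
    have h1 : (N : ℕ) • ω = (algebraMap V R (ϖ ^ (t + 1) * v)) • ω := by
      rw [← hN, map_natCast, Nat.cast_smul_eq_nsmul]
    rw [h1, smul_smul]
    have h2 : a ^ t * algebraMap V R (ϖ ^ (t + 1) * v) = (ϖ' * algebraMap V R v) * c ^ t := by
      rw [map_mul, map_pow, hc, mul_pow, pow_succ, ← hϖ']; ring
    rw [h2, mul_smul, ← hb, Finset.smul_sum]
    refine Finset.sum_congr rfl fun j _ => ?_
    rw [smul_smul, mul_assoc]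
  choose B hB using hrel
  let M : Matrix (Fin d) (Fin d) R := a ^ t • (1 : Matrix (Fin d) (Fin d) R) +
    ϖ' • Matrix.of (fun i j => algebraMap V R v * B i j)
  have hMij : ∀ i j, M i j = a ^ t * (1 : Matrix (Fin d) (Fin d) R) i j +
      ϖ' * (algebraMap V R v * B i j) := fun i j => rfl
  have hM : ∀ i, a ^ t • D V (Localization.Away c)
      (algebraMap R (Localization.Away c) (x' i + y i)) =
      ∑ j, M i j • D V (Localization.Away c) (algebraMap R (Localization.Away c) (x' j)) := by
    intro i
    rw [map_add, map_add, smul_add, hB i]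
    have h3 : a ^ t • D V (Localization.Away c) (algebraMap R (Localization.Away c) (x' i)) =
        ∑ j, (a ^ t * (1 : Matrix (Fin d) (Fin d) R) i j) •
          D V (Localization.Away c) (algebraMap R (Localization.Away c) (x' j)) := by
      rw [Finset.sum_eq_single i]
      · rw [Matrix.one_apply_eq, mul_one]
      · intro j _ hj
        rw [Matrix.one_apply_ne hj.symm, mul_zero, zero_smul]
      · intro h
        exact absurd (Finset.mem_univ i) h
    rw [h3, ← Finset.sum_add_distrib]
    refine Finset.sum_congr rfl fun j _ => ?_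
    rw [← add_smul, hMij]
  -- the determinant
  obtain ⟨g, hg⟩ : ∃ g : R, g = M.det := ⟨_, rfl⟩
  have hgcop : IsCoprime g ϖ' := by
    have h0 : Ideal.Quotient.mk (Ideal.span {ϖ'}) ϖ' = 0 :=
      Ideal.Quotient.eq_zero_iff_mem.mpr (Ideal.mem_span_singleton_self _)
    have h1 : Ideal.Quotient.mk (Ideal.span {ϖ'}) g =
        Ideal.Quotient.mk (Ideal.span {ϖ'}) ((a ^ t) ^ d) := by
      rw [hg, RingHom.map_det]
      have h2 : (Ideal.Quotient.mk (Ideal.span {ϖ'})).mapMatrix M =
          (Ideal.Quotient.mk (Ideal.span {ϖ'}) (a ^ t)) •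
            (1 : Matrix (Fin d) (Fin d) (R ⧸ Ideal.span {ϖ'})) := by
        ext i j
        rw [RingHom.mapMatrix_apply, Matrix.map_apply, hMij, map_add, map_mul, map_mul, h0,
          zero_mul, add_zero, Matrix.smul_apply, smul_eq_mul]
        congr 1
        by_cases hij : i = j
        · subst hij; rw [Matrix.one_apply_eq, Matrix.one_apply_eq, map_one]
        · rw [Matrix.one_apply_ne hij, Matrix.one_apply_ne hij, map_zero]
      rw [h2, Matrix.det_smul, Matrix.det_one, mul_one, Fintype.card_fin]
      simp only [map_pow]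
    obtain ⟨e, he⟩ := Ideal.mem_span_singleton'.mp (Ideal.Quotient.eq.mp h1)
    have h3 : g = (a ^ t) ^ d + e * ϖ' := by rw [he]; ring
    rw [h3]
    exact IsCoprime.add_mul_right_left (hcop.pow_left.pow_left) e
  refine ⟨a * g, hcop.mul_left hgcop, ?_⟩
  -- the second localization
  obtain ⟨ι₁, hι₁⟩ : ∃ ι₁ : R →+* Localization.Away c, ι₁ = algebraMap R (Localization.Away c) :=
    ⟨_, rfl⟩
  haveI hloc : IsLocalization.Away (c * g) (Localization.Away (algebraMap R (Localization.Away c) g)) :=
    IsLocalization.Away.mul' (Localization.Away c)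
      (Localization.Away (algebraMap R (Localization.Away c) g)) c g
  haveI hloc' : IsLocalization.Away (a * g * ϖ')
      (Localization.Away (algebraMap R (Localization.Away c) g)) := by
    have : a * g * ϖ' = c * g := by rw [hc]; ring
    rw [this]; exact hloc
  rw [etale_comp_iff_of_isLocalization (a * g * ϖ')
    (Localization.Away (algebraMap R (Localization.Away c) g)), comp_aeval]
  have het₂ : (MvPolynomial.aeval (fun i => algebraMap R
      (Localization.Away (algebraMap R (Localization.Away c) g)) (x' i)) :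
      MvPolynomial (Fin d) V →ₐ[V] Localization.Away (algebraMap R (Localization.Away c) g)).toRingHom.Etale := by
    have h1 : (algebraMap (Localization.Away c)
        (Localization.Away (algebraMap R (Localization.Away c) g))).Etale :=
      RingHom.etale_algebraMap.mpr
        (Algebra.Etale.of_isLocalizationAway (algebraMap R (Localization.Away c) g))
    have h2 := RingHom.Etale.stableUnderComposition _ _ het h1
    rw [comp_aeval] at h2
    simp only [← IsScalarTower.algebraMap_apply R (Localization.Away c)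
      (Localization.Away (algebraMap R (Localization.Away c) g))] at h2
    exact h2
  have hcgu : IsUnit (algebraMap R (Localization.Away (algebraMap R (Localization.Away c) g))
      (a * ϖ' * g)) := by
    have := IsLocalization.Away.algebraMap_isUnit (S := Localization.Away
      (algebraMap R (Localization.Away c) g)) (c * g)
    rwa [show c * g = a * ϖ' * g from by rw [hc]] at this
  rw [map_mul, map_mul, IsUnit.mul_iff, IsUnit.mul_iff] at hcgu
  obtain ⟨⟨hau, -⟩, hgu⟩ := hcgu
  have hgu' : IsUnit (algebraMap R (Localization.Away (algebraMap R (Localization.Away c) g))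
      M.det) := hg ▸ hgu
  exact stage2 (T₁ := Localization.Away c) _ x' M a t hM hau hgu' het₂

end Groth.Agent.Lib.Helper12.EtaMain
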