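import Mathlib
import Groth.Agent.Lib.Helper8.NormalSmooth

/-!
# Image of an integral étale algebra over a normal domain in a field

Let `R` be an integrally closed domain, `E` an étale `R`-algebra which is integral over `R`,
`M` a field containing `R`, and `φ : E → M` an `R`-algebra map such that `M` is generated as
a field by `R` and `φ(E)`.  Then `φ(E)` is the integral closure of `R` in `M` and is étale over `R`.
-/

set_option autoImplicit false
universe u
open TensorProduct Polynomial

namespace Groth.Agent.Lib.Helper12.EtaleCompositum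

open Groth.Agent.Lib.Helper8.NormalSmooth

theorem isIntegral_of_isIdempotentElem {R T : Type*} [CommRing R] [CommRing T] [Algebra R T]
    {e : T} (he : IsIdempotentElem e) : IsIntegral R e := by
  refine ⟨X * (X - C 1), monic_X.mul (monic_X_sub_C 1), ?_⟩
  simp [mul_sub, he.eq]

theorem idem_mul_aeval {R T : Type*} [CommRing R] [CommRing T] [Algebra R T]
    {g : T} (hg : IsIdempotentElem g) (t : T) (P : R[X]) :
    g * aeval (g * t) P = g * aeval t P := by
  induction P using Polynomial.induction_on' with
  | add p q hp hq => rw [map_add, map_add, mul_add, mul_add, hp, hq]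
  | monomial n a =>
    rw [aeval_monomial, aeval_monomial, mul_pow]
    have : g * g ^ n = g := by rw [← pow_succ']; exact hg.pow_succ_eq n
    calc g * (algebraMap R T a * (g ^ n * t ^ n)) = (g * g ^ n) * (algebraMap R T a * t ^ n) := by ring
      _ = g * (algebraMap R T a * t ^ n) := by rw [this]

section

variable (R : Type u) [CommRing R] [IsDomain R] [IsIntegrallyClosed R]
  (E : Type u) [CommRing E] [Algebra R E] [Algebra.Etale R E] [Algebra.IsIntegral R E]
  (M : Type u) [Field M] [Algebra R M]

theorem main (hinj : Function.Injective (algebraMap R M)) (φ : E →ₐ[R] M)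
    (hgen : Subfield.closure (Set.range (algebraMap R M) ∪ Set.range φ) = ⊤) :
    integralClosure R M = φ.range ∧ Algebra.Etale R φ.range := by
  classical
  let K := FractionRing R
  let T := E ⊗[R] K
  let κ : K →ₐ[R] M := IsFractionRing.liftAlgHom (g := Algebra.ofId R M) hinj
  let ψ : T →ₐ[R] M := Algebra.TensorProduct.lift φ κ (fun _ _ => Commute.all _ _)
  have hψ : ∀ (x : E) (k : K), ψ (x ⊗ₜ k) = φ x * κ k := fun x k =>
    Algebra.TensorProduct.lift_tmul _ _ _ _ _
  have hψ1 : ∀ x : E, ψ (x ⊗ₜ 1) = φ x := fun x => by rw [hψ, map_one, mul_one]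
  have hvnr : ∀ t : T, ∃ y, t = t * t * y := vnr_generic_fibre R E
  have hbc : Function.Bijective (TensorProduct.toIntegralClosure R E K) :=
    TensorProduct.toIntegralClosure_bijective_of_smooth
  have hint : ∀ t : T, IsIntegral E t → ∃ f : E, t = f ⊗ₜ 1 :=
    exists_eq_tmul_one_of_isIntegral R E hbc
  have hinjE : Function.Injective (fun x : E => (x ⊗ₜ[R] (1 : K) : T)) :=
    Algebra.TensorProduct.includeLeft_injective (S := R) (IsFractionRing.injective R K)
  -- ψ is surjective
  have hsurj : Function.Surjective ψ := by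
    let F : Subfield M :=
      { ψ.range.toSubring with
        inv_mem' := by
          intro z hz
          obtain ⟨t, rfl⟩ : ∃ t, ψ t = z := hz
          change (ψ t)⁻¹ ∈ ψ.range
          by_cases h0 : ψ t = 0
          · rw [h0, inv_zero]; exact zero_mem _
          · obtain ⟨y, hy⟩ := hvnr t
            refine ⟨y, ?_⟩
            have h1 : ψ t = ψ t * ψ t * ψ y := by
              conv_lhs => rw [hy]
              rw [map_mul, map_mul]
            have h2 : ψ t * ψ y = 1 := by
              have : ψ t * (ψ t * ψ y) = ψ t * 1 := by rw [mul_one, ← mul_assoc, ← h1]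
              exact mul_left_cancel₀ h0 this
            exact (eq_inv_of_mul_eq_one_right h2) }
    have hF : Subfield.closure (Set.range (algebraMap R M) ∪ Set.range φ) ≤ F := by
      rw [Subfield.closure_le]
      rintro z (⟨r, rfl⟩ | ⟨x, rfl⟩)
      · exact ⟨algebraMap R T r, ψ.commutes r⟩
      · exact ⟨x ⊗ₜ 1, hψ1 x⟩
    intro z
    have hz : z ∈ F := hF (hgen ▸ Subfield.mem_top z)
    exact hz
  -- T is Noetherian
  haveI : IsNoetherianRing T := by
    let c : E ⊗[R] K ≃ₐ[R] K ⊗[R] E := Algebra.TensorProduct.comm R E K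
    haveI : Module.Finite K (K ⊗[R] E) := Algebra.FormallyUnramified.finite_of_free _ _
    haveI : IsNoetherianRing (K ⊗[R] E) := IsNoetherianRing.of_finite K _
    exact isNoetherianRing_of_ringEquiv (K ⊗[R] E) c.symm.toRingEquiv
  -- the kernel of ψ is generated by an idempotent
  obtain ⟨e, he, hker⟩ : ∃ e : T, IsIdempotentElem e ∧ RingHom.ker ψ = Ideal.span {e} := by
    have hfg : (RingHom.ker ψ).FG := IsNoetherian.noetherian _
    have hidem : IsIdempotentElem (RingHom.ker ψ) := by
      refine le_antisymm Ideal.mul_le_right ?_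
      intro x hx
      obtain ⟨y, hy⟩ := hvnr x
      rw [hy, mul_assoc]
      exact Ideal.mul_mem_mul hx (Ideal.mul_mem_right _ _ hx)
    obtain ⟨e, he, h⟩ := (Ideal.isIdempotentElem_iff_of_fg _ hfg).mp hidem
    exact ⟨e, he, h⟩
  have hψe : ψ e = 0 := by
    have : e ∈ RingHom.ker ψ := hker ▸ Ideal.subset_span rfl
    exact this
  obtain ⟨f, hf⟩ := hint e (isIntegral_of_isIdempotentElem he)
  have hfidem : IsIdempotentElem f := by
    apply hinjE
    change (f * f) ⊗ₜ[R] (1 : K) = f ⊗ₜ 1
    have : ((f * f) ⊗ₜ[R] (1 : K) : T) = (f ⊗ₜ 1) * (f ⊗ₜ 1) := by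
      rw [Algebra.TensorProduct.tmul_mul_tmul, mul_one]
    rw [this, ← hf, he.eq]
  -- kernel of φ
  have hkerφ : RingHom.ker φ = Ideal.span {f} := by
    apply le_antisymm
    · intro x hx
      have hx' : (x ⊗ₜ[R] (1 : K) : T) ∈ RingHom.ker ψ := by
        rw [RingHom.mem_ker]
        exact (hψ1 x).trans hx
      rw [hker, Ideal.mem_span_singleton'] at hx'
      obtain ⟨u, hu⟩ := hx'
      have h1 : (x ⊗ₜ[R] (1 : K) : T) * e = x ⊗ₜ 1 := by
        rw [← hu, mul_assoc, he.eq]
      have h2 : x * f = x := by
        apply hinjE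
        change (x * f) ⊗ₜ[R] (1 : K) = x ⊗ₜ 1
        rw [← h1, hf, Algebra.TensorProduct.tmul_mul_tmul, mul_one]
      rw [Ideal.mem_span_singleton']
      exact ⟨x, h2⟩
    · rw [Ideal.span_le, Set.singleton_subset_iff]
      change φ f = 0
      rw [← hψ1 f, ← hf, hψe]
  -- integral closure
  have hIC : integralClosure R M = φ.range := by
    apply le_antisymm
    · intro z hz
      obtain ⟨P, hP, hPz⟩ := hz
      obtain ⟨t, rfl⟩ := hsurj z
      have hg : IsIdempotentElem (1 - e) := he.one_sub
      have h1 : aeval t P ∈ RingHom.ker ψ := by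
        rw [RingHom.mem_ker]
        change ψ (aeval t P) = 0
        rw [← Polynomial.aeval_algHom_apply]
        exact hPz
      rw [hker, Ideal.mem_span_singleton'] at h1
      obtain ⟨u, hu⟩ := h1
      have h2 : (1 - e) * aeval t P = 0 := by
        rw [← hu]
        have : (1 - e) * e = 0 := by rw [sub_mul, one_mul, he.eq, sub_self]
        calc (1 - e) * (u * e) = u * ((1 - e) * e) := by ring
          _ = 0 := by rw [this, mul_zero]
      have h3 : IsIntegral R ((1 - e) * t) := by
        refine ⟨X * P, monic_X.mul hP, ?_⟩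
        change aeval ((1 - e) * t) (X * P) = 0
        rw [map_mul, aeval_X]
        calc (1 - e) * t * aeval ((1 - e) * t) P = t * ((1 - e) * aeval ((1 - e) * t) P) := by ring
          _ = t * ((1 - e) * aeval t P) := by rw [idem_mul_aeval hg]
          _ = 0 := by rw [h2, mul_zero]
      obtain ⟨x, hx⟩ := hint _ h3.tower_top
      refine ⟨x, ?_⟩
      change φ x = ψ t
      rw [← hψ1 x, ← hx, map_mul, map_sub, map_one, hψe, sub_zero, one_mul]
    · rintro _ ⟨x, rfl⟩
      exact (Algebra.IsIntegral.isIntegral (R := R) x).map φ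
  refine ⟨hIC, ?_⟩
  -- étaleness
  have hg : IsIdempotentElem (1 - f) := hfidem.one_sub
  have hkerφ' : RingHom.ker φ = Ideal.span {1 - (1 - f)} := by rw [hkerφ, sub_sub_cancel]
  haveI : IsLocalization.Away (1 - f) (E ⧸ Ideal.span {1 - (1 - f)}) :=
    IsLocalization.Away.quotient_of_isIdempotentElem hg
  haveI : Algebra.Etale E (E ⧸ Ideal.span {1 - (1 - f)}) :=
    Algebra.Etale.of_isLocalizationAway (1 - f)
  haveI : Algebra.Etale R (E ⧸ Ideal.span {1 - (1 - f)}) :=
    Algebra.Etale.comp R E _
  let e1 : (E ⧸ Ideal.span {1 - (1 - f)}) ≃ₐ[R] (E ⧸ RingHom.ker φ) :=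
    Ideal.quotientEquivAlgOfEq R hkerφ'.symm
  exact Algebra.Etale.of_equiv (e1.trans (Ideal.quotientKerEquivRange φ))

end

end Groth.Agent.Lib.Helper12.EtaleCompositum
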