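import Mathlib

universe u

open CategoryTheory Limits AlgebraicGeometry Opposite

set_option backward.isDefEq.respectTransparency false
set_option linter.style.haveILetI false

namespace Groth.Agent.Lib.Helper12.FGLimit

variable (A V : Type u) [CommRing A] [CommRing V] [Algebra A V]

/-- Finitely generated subalgebras. -/
abbrev FGSub := {B : Subalgebra A V // B.FG}

instance : IsDirected (FGSub A V) (· ≤ ·) :=
  ⟨fun B C => ⟨⟨B.1 ⊔ C.1, B.2.sup C.2⟩, (le_sup_left : B.1 ≤ B.1 ⊔ C.1),
    (le_sup_right : C.1 ≤ B.1 ⊔ C.1)⟩⟩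

instance : Nonempty (FGSub A V) := ⟨⟨⊥, Subalgebra.fg_bot⟩⟩

/-- The diagram of finitely generated subalgebras. -/
noncomputable def ringDiag : FGSub A V ⥤ CommRingCat.{u} where
  obj B := CommRingCat.of B.1
  map {B C} h := CommRingCat.ofHom (Subalgebra.inclusion (leOfHom h)).toRingHom
  map_id B := by ext x; rfl
  map_comp f g := by ext x; rfl

/-- The cocone with vertex `V`. -/
noncomputable def ringCocone : Cocone (ringDiag A V) where
  pt := CommRingCat.of V
  ι :=
    { app := fun B => CommRingCat.ofHom B.1.val.toRingHom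
      naturality := fun B C h => by ext x; rfl }

/-- `V` is the filtered colimit of its finitely generated subalgebras. -/
noncomputable def isColimitRingCocone : IsColimit (ringCocone A V) := by
  haveI : ReflectsColimit (ringDiag A V) (forget CommRingCat.{u}) :=
    reflectsColimit_of_reflectsIsomorphisms _ _
  apply isColimitOfReflects (forget CommRingCat.{u})
  apply Types.FilteredColimit.isColimitOf
  · intro x
    have hfg : (Algebra.adjoin A ({x} : Set V)).FG := by
      have := Subalgebra.fg_adjoin_finset (R := A) ({x} : Finset V)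
      simpa using this
    exact ⟨⟨Algebra.adjoin A {x}, hfg⟩, ⟨x, Algebra.subset_adjoin rfl⟩, rfl⟩
  · intro B C b c h
    refine ⟨⟨B.1 ⊔ C.1, B.2.sup C.2⟩, homOfLE (le_sup_left : B.1 ≤ B.1 ⊔ C.1),
      homOfLE (le_sup_right : C.1 ≤ B.1 ⊔ C.1), ?_⟩
    exact Subtype.ext h

/-- The diagram of spectra of the finitely generated subalgebras. -/
noncomputable def specDiag : (FGSub A V)ᵒᵖ ⥤ Scheme.{u} := (ringDiag A V).op ⋙ Scheme.Spec

/-- The cone with vertex `Spec V`. -/
noncomputable def specCone : Cone (specDiag A V) := Scheme.Spec.mapCone (ringCocone A V).op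

/-- `Spec V` is the limit of the spectra of the finitely generated subalgebras. -/
noncomputable def isLimitSpecCone : IsLimit (specCone A V) :=
  isLimitOfPreserves Scheme.Spec (isColimitRingCocone A V).op

lemma specDiag_obj (B : (FGSub A V)ᵒᵖ) :
    (specDiag A V).obj B = Spec (CommRingCat.of B.unop.1) := rfl

lemma specCone_pt : (specCone A V).pt = Spec (CommRingCat.of V) := rfl

lemma specCone_π_app (B : (FGSub A V)ᵒᵖ) :
    (specCone A V).π.app B = Spec.map (CommRingCat.ofHom B.unop.1.val.toRingHom) := rfl

instance (B : (FGSub A V)ᵒᵖ) : IsAffine ((specDiag A V).obj B) := by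
  rw [specDiag_obj]; infer_instance

instance (B C : (FGSub A V)ᵒᵖ) (f : B ⟶ C) : IsAffineHom ((specDiag A V).map f) :=
  isAffineHom_of_isAffine _

end Groth.Agent.Lib.Helper12.FGLimit
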