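import Mathlib
import Groth.Prelude.Def_Flat
import Groth.Agent.Lib.Helper2.DimFiber
import Groth.Agent.S1146

/-!
# The local dimension of fibres is étale-local on source and target
-/

open AlgebraicGeometry CategoryTheory Topology TopologicalSpace

universe u

namespace Groth.Agent.Lib.Helper12.FibDimEt

open Groth.Agent.Lib.Helper2

section top

variable {F' F : Type*} [TopologicalSpace F'] [TopologicalSpace F]

theorem dim_eq_image [QuasiSober F'] [QuasiSober F] [T0Space F] (ψ : F' → F)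
    (hc : Continuous ψ) (hopen : IsOpenMap ψ) (hgen : GeneralizingMap ψ)
    (hfib : ∀ x x' : F', x ⤳ x' → ψ x = ψ x' → x = x') (W : Opens F') :
    topologicalKrullDim (W : Set F') = topologicalKrullDim (ψ '' (W : Set F')) := by
  have hop : IsOpen (ψ '' (W : Set F')) := hopen _ W.isOpen
  have : QuasiSober ↥(W : Set F') := W.isOpen.isOpenEmbedding_subtypeVal.quasiSober
  have : QuasiSober ↥(ψ '' (W : Set F')) := hop.isOpenEmbedding_subtypeVal.quasiSober
  let φ : ↥(W : Set F') → ↥(ψ '' (W : Set F')) := fun x => ⟨ψ x.1, ⟨x.1, x.2, rfl⟩⟩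
  have hφc : Continuous φ := (hc.comp continuous_subtype_val).subtype_mk _
  have hsurj : Function.Surjective φ := by
    rintro ⟨_, ⟨x, hx, rfl⟩⟩
    exact ⟨⟨x, hx⟩, rfl⟩
  have hφfib : ∀ x x' : ↥(W : Set F'), x ⤳ x' → φ x = φ x' → x = x' := by
    intro x x' h he
    apply Subtype.ext
    exact hfib _ _ (Topology.IsInducing.subtypeVal.specializes_iff.2 h) (congrArg Subtype.val he)
  have hφgen : GeneralizingMap φ := by
    intro x y' hy'
    have h1 : y'.1 ⤳ ψ x.1 := Topology.IsInducing.subtypeVal.specializes_iff.2 hy'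
    obtain ⟨x₀, hx₀, hfx₀⟩ := hgen h1
    have hx₀W : x₀ ∈ (W : Set F') := hx₀.mem_open W.isOpen x.2
    exact ⟨⟨x₀, hx₀W⟩, Topology.IsInducing.subtypeVal.specializes_iff.1 hx₀, Subtype.ext hfx₀⟩
  exact le_antisymm (topologicalKrullDim_le_of_fiberwise φ hφc hφfib)
    (topologicalKrullDim_le_of_generalizing φ hφc hsurj hφgen)

theorem localDim_eq_of_map [QuasiSober F'] [QuasiSober F] [T0Space F] (ψ : F' → F)
    (hc : Continuous ψ) (hopen : IsOpenMap ψ) (hgen : GeneralizingMap ψ)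
    (hfib : ∀ x x' : F', x ⤳ x' → ψ x = ψ x' → x = x') (x : F') :
    FlatMor.localDim F' x = FlatMor.localDim F (ψ x) := by
  unfold FlatMor.localDim
  apply le_antisymm
  · apply le_iInf
    rintro ⟨W', hW'⟩
    let W : Opens F' := ⟨ψ ⁻¹' (W' : Set F), W'.isOpen.preimage hc⟩
    have hW : x ∈ W := hW'
    refine iInf_le_of_le ⟨W, hW⟩ ?_
    show topologicalKrullDim (W : Set F') ≤ topologicalKrullDim (W' : Set F)
    rw [dim_eq_image ψ hc hopen hgen hfib W]
    have hsub : ψ '' (W : Set F') ⊆ (W' : Set F) := by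
      rintro _ ⟨y, hy, rfl⟩
      exact hy
    exact (Topology.IsEmbedding.inclusion hsub).isInducing.topologicalKrullDim_le
  · apply le_iInf
    rintro ⟨W, hW⟩
    have hop : IsOpen (ψ '' (W : Set F')) := hopen _ W.isOpen
    refine iInf_le_of_le ⟨⟨ψ '' (W : Set F'), hop⟩, ⟨x, hW, rfl⟩⟩ ?_
    show topologicalKrullDim (ψ '' (W : Set F')) ≤ topologicalKrullDim (W : Set F')
    rw [dim_eq_image ψ hc hopen hgen hfib W]

end top

instance quasiSober_preimage {U V : Scheme.{u}} (h : U ⟶ V) (v : V) :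
    QuasiSober ↥(h ⁻¹' {v}) :=
  (h.fiberHomeo v).symm.isOpenEmbedding.quasiSober

theorem fibreDimAt_eq_localDim_preimage {U V : Scheme.{u}} (h : U ⟶ V) (u : U) :
    FlatMor.fibreDimAt h u = FlatMor.localDim ↥(h ⁻¹' {h u}) ⟨u, rfl⟩ := by
  unfold FlatMor.fibreDimAt
  let e := (h.fiberHomeo (h u)).symm
  have := localDim_eq_of_map (F' := ↥(h ⁻¹' {h u})) (F := ↥(h.fiber (h u))) e e.continuous
    e.isOpenMap (fun x y hy => ⟨e.symm y, by
      have := hy.map e.symm.continuous
      rwa [e.symm_apply_apply] at this, e.apply_symm_apply y⟩)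
    (fun x x' _ he => e.injective he) ⟨u, rfl⟩
  exact this.symm

open Groth.Agent.S1146 in
theorem main {U U' V V' : Scheme.{u}} (h : U ⟶ V) (h' : U' ⟶ V') (a : U' ⟶ U)
    (b : V' ⟶ V) [Etale a] [Etale b] (comm : h' ≫ b = a ≫ h) (u' : U') :
    FlatMor.fibreDimAt h (a u') = FlatMor.fibreDimAt h' u' := by
  rw [fibreDimAt_eq_localDim_preimage, fibreDimAt_eq_localDim_preimage]
  have hcomm : ∀ y' : U', h (a y') = b (h' y') := fun y' => by
    rw [← Scheme.Hom.comp_apply, ← Scheme.Hom.comp_apply, comm]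
  let ψ : ↥(h' ⁻¹' {h' u'}) → ↥(h ⁻¹' {h (a u')}) := fun y' => ⟨a y'.1, by
    show h (a y'.1) = h (a u')
    have h2 : h' y'.1 = h' u' := y'.2
    rw [hcomm, hcomm, h2]⟩
  have hc : Continuous ψ := (a.continuous.comp continuous_subtype_val).subtype_mk _
  have hfib : ∀ x x' : ↥(h' ⁻¹' {h' u'}), x ⤳ x' → ψ x = ψ x' → x = x' := by
    intro x x' hs he
    apply Subtype.ext
    exact eq_of_specializes_of_fiber a (Topology.IsInducing.subtypeVal.specializes_iff.2 hs)
      (congrArg Subtype.val he)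
  have hgen : GeneralizingMap ψ := by
    intro x y hy
    have h1 : y.1 ⤳ a x.1 := Topology.IsInducing.subtypeVal.specializes_iff.2 hy
    obtain ⟨y', hy', hay'⟩ := (Flat.generalizingMap a) h1
    have h2 : h' y' ⤳ h' x.1 := hy'.map h'.continuous
    have h3 : b (h' y') = b (h' x.1) := by
      rw [← hcomm, ← hcomm, hay']
      have hy2 : h y.1 = h (a u') := y.2
      have hx2 : h' x.1 = h' u' := x.2
      rw [hy2, hcomm x.1, hx2, hcomm]
    have h4 : h' y' = h' x.1 := eq_of_specializes_of_fiber b h2 h3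
    have hx2 : h' x.1 = h' u' := x.2
    refine ⟨⟨y', by show h' y' = h' u'; rw [h4, hx2]⟩,
      Topology.IsInducing.subtypeVal.specializes_iff.1 hy', Subtype.ext hay'⟩
  have hopen : IsOpenMap ψ := by
    intro O hO
    obtain ⟨O₁, hO₁, rfl⟩ := isOpen_induced_iff.mp hO
    -- isolate `v' = h' u'` in its `b`-fibre
    haveI := lqf_of_etale b
    have hd : _root_.IsDiscrete (b ⁻¹' {b (h' u')}) := b.isDiscrete_preimage_singleton _
    haveI := hd.to_subtype
    have hsing : IsOpen ({⟨h' u', rfl⟩} : Set ↥(b ⁻¹' {b (h' u')})) := isOpen_discrete _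
    obtain ⟨N, hN, hNeq⟩ := isOpen_induced_iff.mp hsing
    have hNv : ∀ w : V', w ∈ N → b w = b (h' u') → w = h' u' := by
      intro w hw hbw
      have : (⟨w, hbw⟩ : ↥(b ⁻¹' {b (h' u')})) ∈ Subtype.val ⁻¹' N := hw
      rw [hNeq] at this
      exact congrArg Subtype.val this
    have hu'N : h' u' ∈ N := by
      have : (⟨h' u', rfl⟩ : ↥(b ⁻¹' {b (h' u')})) ∈ Subtype.val ⁻¹' N := by
        rw [hNeq]; rfl
      exact this
    have hop2 : IsOpen (a '' (O₁ ∩ h' ⁻¹' N)) :=
      a.isOpenMap _ (hO₁.inter (hN.preimage h'.continuous))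
    have heq : ψ '' (Subtype.val ⁻¹' O₁) = Subtype.val ⁻¹' (a '' (O₁ ∩ h' ⁻¹' N)) := by
      ext z
      constructor
      · rintro ⟨y, hy, rfl⟩
        refine ⟨y.1, ⟨hy, ?_⟩, rfl⟩
        show h' y.1 ∈ N
        have hy2 : h' y.1 = h' u' := y.2
        rw [hy2]; exact hu'N
      · rintro ⟨y, ⟨hy1, hy2⟩, hyz⟩
        have hz2 : h z.1 = h (a u') := z.2
        have h5 : b (h' y) = b (h' u') := by
          rw [← hcomm, hyz, hz2, hcomm]
        have h6 : h' y = h' u' := hNv _ hy2 h5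
        exact ⟨⟨y, h6⟩, hy1, Subtype.ext hyz⟩
    rw [heq]
    exact hop2.preimage continuous_subtype_val
  exact (localDim_eq_of_map ψ hc hopen hgen hfib ⟨u', rfl⟩).symm

end Groth.Agent.Lib.Helper12.FibDimEt
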