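import Mathlib
import Groth.Agent.Lib.Helper28.GenFreeFibre

/-!
# Generic non-exactness on fibres

Companion to helper28's `fibre_exact_generic`: over a Noetherian domain, if the generic fibre of a
pair of composable maps of finite modules over a finite type algebra is not exact, then the fibres
over a nonempty open are not exact either.  Combined statement: `fibre_exact_iff_generic`.
-/

set_option autoImplicit false
universe u

namespace Groth.Agent.Lib.Helper12.FibExGen

open TensorProduct nonZeroDivisors Groth.Agent.Lib.Helper28.GenFree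

section NZ

variable {A : Type u} [CommRing A] [IsDomain A]

/-- a module free at `f` whose generic fibre is nontrivial has nontrivial fibres on `D(f)` -/
lemma nontrivial_fibre {N : Type u} [AddCommGroup N] [Module A N] {f : A} (hf : f ≠ 0)
    (hN : FreeAt f N) (hK : Nontrivial (FractionRing A ⊗[A] N))
    (κ : Type u) [Field κ] [Algebra A κ] (hu : IsUnit (algebraMap A κ f)) :
    Nontrivial (κ ⊗[A] N) := by
  let ψ : Localization.Away f →+* κ := IsLocalization.Away.lift f hu
  letI : Algebra (Localization.Away f) κ := ψ.toAlgebra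
  haveI : IsScalarTower A (Localization.Away f) κ :=
    IsScalarTower.of_algebraMap_eq (fun r => (IsLocalization.Away.lift_eq f hu r).symm)
  have huK : IsUnit (algebraMap A (FractionRing A) f) :=
    IsUnit.mk0 _ ((map_ne_zero_iff _ (IsFractionRing.injective A _)).2 hf)
  let ψK : Localization.Away f →+* FractionRing A := IsLocalization.Away.lift f huK
  letI : Algebra (Localization.Away f) (FractionRing A) := ψK.toAlgebra
  haveI : IsScalarTower A (Localization.Away f) (FractionRing A) :=
    IsScalarTower.of_algebraMap_eq (fun r => (IsLocalization.Away.lift_eq f huK r).symm)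
  unfold FreeAt at hN
  haveI := hN
  have hnt : Nontrivial (Localization.Away f ⊗[A] N) := by
    by_contra h
    rw [not_nontrivial_iff_subsingleton] at h
    have e := TensorProduct.AlgebraTensorModule.cancelBaseChange A (Localization.Away f)
      (FractionRing A) (FractionRing A) N
    have : Subsingleton (FractionRing A ⊗[A] N) := e.symm.injective.subsingleton
    exact not_subsingleton _ this
  haveI := hnt
  have h2 : Nontrivial (κ ⊗[Localization.Away f] (Localization.Away f ⊗[A] N)) :=
    (Module.FaithfullyFlat.nontrivial_tensorProduct_iff_left _ _).2 inferInstance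
  have e := TensorProduct.AlgebraTensorModule.cancelBaseChange A (Localization.Away f) κ κ N
  exact e.symm.toEquiv.nontrivial

variable [IsNoetherianRing A] {S : Type u} [CommRing S] [Algebra A S] [Algebra.FiniteType A S]
  {M : Type u} [AddCommGroup M] [Module S M] [Module A M] [IsScalarTower A S M] [Module.Finite S M]

/-- a submodule containing a non-torsion element has nonzero image in the fibres over a nonempty
open. -/
theorem exists_fibre_sub (N : Submodule S M) (x : M) (hx : x ∈ N)
    (hx0 : (1 : FractionRing A) ⊗ₜ[A] x ≠ 0) :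
    ∃ f : A, f ≠ 0 ∧ ∀ p : PrimeSpectrum A, f ∉ p.asIdeal →
      ∃ z : p.asIdeal.ResidueField ⊗[A] N,
        (N.subtype.restrictScalars A).baseChange p.asIdeal.ResidueField z ≠ 0 := by
  haveI : IsNoetherianRing S := Algebra.FiniteType.isNoetherianRing A S
  haveI : IsNoetherian S M := isNoetherian_of_isNoetherianRing_of_finite S M
  haveI : Module.Finite S N := Module.IsNoetherian.finite S N
  obtain ⟨f₁, hf₁, h₁⟩ := genFree_finiteType (R := A) (S := S) N
  obtain ⟨f₂, hf₂, h₂⟩ := genFree_finiteType (R := A) (S := S) (M ⧸ N)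
  have h0 : f₁ * f₂ ≠ 0 := mul_ne_zero hf₁ hf₂
  refine ⟨f₁ * f₂, h0, fun p hp => ?_⟩
  have hunit : IsUnit (algebraMap A p.asIdeal.ResidueField (f₁ * f₂)) := by
    apply IsUnit.mk0
    rw [Ne, Ideal.algebraMap_residueField_eq_zero]
    exact hp
  have hq : Function.Surjective (N.mkQ.restrictScalars A) := Submodule.mkQ_surjective _
  have hwq : Function.Exact (N.subtype.restrictScalars A) (N.mkQ.restrictScalars A) := by
    intro m
    show N.mkQ m = 0 ↔ m ∈ Set.range N.subtype
    rw [Submodule.mkQ_apply, Submodule.Quotient.mk_eq_zero]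
    exact ⟨fun h => ⟨⟨m, h⟩, rfl⟩, fun ⟨y, hy⟩ => hy ▸ y.2⟩
  have hinj := fibre_injective (N.subtype.restrictScalars A) (N.mkQ.restrictScalars A) hq hwq
    (fun c hc => ⟨1, one_mem _, by
      rw [one_smul]
      exact Subtype.ext hc⟩) h0
    (h₁.of_dvd (dvd_mul_right _ _)) (h₂.of_dvd (dvd_mul_left _ _))
    p.asIdeal.ResidueField hunit
  have hK : Nontrivial (FractionRing A ⊗[A] N) := by
    refine ⟨⟨(1 : FractionRing A) ⊗ₜ[A] (⟨x, hx⟩ : N), 0, fun h => hx0 ?_⟩⟩
    have := congrArg ((N.subtype.restrictScalars A).baseChange (FractionRing A)) h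
    simpa using this
  haveI := nontrivial_fibre h0 (h₁.of_dvd (dvd_mul_right _ _)) hK p.asIdeal.ResidueField hunit
  obtain ⟨z, hz⟩ := exists_ne (0 : p.asIdeal.ResidueField ⊗[A] N)
  exact ⟨z, fun h => hz (hinj (by rw [h, map_zero]))⟩

end NZ

section Main

variable {A B : Type u} [CommRing A] [IsDomain A] [IsNoetherianRing A] [CommRing B] [Algebra A B]
  [Algebra.FiniteType A B]
  {F G H : Type u} [AddCommGroup F] [Module B F] [Module A F] [IsScalarTower A B F]
  [AddCommGroup G] [Module B G] [Module A G] [IsScalarTower A B G]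
  [AddCommGroup H] [Module B H] [Module A H] [IsScalarTower A B H]
  [Module.Finite B F] [Module.Finite B G] [Module.Finite B H]

/-- if all `v (u x)` are torsion and `F` is finite, a nonzero element kills `v ∘ u`. -/
lemma exists_smul_comp_eq_zero' (u : F →ₗ[B] G) (v : G →ₗ[B] H)
    (hzero : ∀ x, (1 : FractionRing A) ⊗ₜ[A] v (u x) = 0) :
    ∃ r ∈ A⁰, ∀ x, r • v (u x) = 0 := by
  have h1 : ∀ x : F, ∃ r ∈ A⁰, r • v (u x) = 0 := fun x =>
    exists_smul_eq_zero_of_tmul_eq_zero _ (hzero x)
  obtain ⟨t, ht⟩ := (Module.Finite.fg_top : (⊤ : Submodule B F).FG)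
  choose c hc hcx using h1
  classical
  refine ⟨∏ x ∈ t, c x, prod_mem (fun x _ => hc x), fun x => ?_⟩
  have hx : x ∈ Submodule.span B (t : Set F) := by rw [ht]; exact Submodule.mem_top
  induction hx using Submodule.span_induction with
  | mem y hy =>
    rw [← Finset.mul_prod_erase t c hy, mul_comm, mul_smul, hcx, smul_zero]
  | zero => simp
  | add y z _ _ hy hz => rw [map_add, map_add, smul_add, hy, hz, add_zero]
  | smul b y _ hy => rw [map_smul, map_smul, smul_comm, hy, smul_zero]

/-- **Generic non-exactness on fibres.** -/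
theorem fibre_not_exact_generic (u : F →ₗ[B] G) (v : G →ₗ[B] H)
    (hgen : ¬ Function.Exact ((u.restrictScalars A).baseChange (FractionRing A))
      ((v.restrictScalars A).baseChange (FractionRing A))) :
    ∃ f : A, f ≠ 0 ∧ ∀ p : PrimeSpectrum A, f ∉ p.asIdeal →
      ¬ Function.Exact ((u.restrictScalars A).baseChange p.asIdeal.ResidueField)
        ((v.restrictScalars A).baseChange p.asIdeal.ResidueField) := by
  by_cases hzero : ∀ x, (1 : FractionRing A) ⊗ₜ[A] v (u x) = 0
  · -- case 2: `v ∘ u` is generically zero
    obtain ⟨f₀, hf₀, hvu⟩ := exists_smul_comp_eq_zero' u v hzero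
    have hf₀0 : f₀ ≠ 0 := nonZeroDivisors.ne_zero hf₀
    let v₁ : G →ₗ[B] H := algebraMap A B f₀ • v
    have hv₁ : v₁.restrictScalars A = f₀ • v.restrictScalars A := by
      ext g
      show algebraMap A B f₀ • v g = f₀ • v g
      rw [algebraMap_smul]
    have hle : LinearMap.range u ≤ LinearMap.ker v₁ := by
      rintro _ ⟨x, rfl⟩
      show algebraMap A B f₀ • v (u x) = 0
      rw [algebraMap_smul]
      exact hvu x
    let q : G →ₗ[B] G ⧸ LinearMap.range u := (LinearMap.range u).mkQ
    let w : (G ⧸ LinearMap.range u) →ₗ[B] H := (LinearMap.range u).liftQ v₁ hle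
    have hq : Function.Surjective (q.restrictScalars A) := Submodule.mkQ_surjective _
    have huq : Function.Exact (u.restrictScalars A) (q.restrictScalars A) := by
      intro g
      show (LinearMap.range u).mkQ g = 0 ↔ g ∈ Set.range u
      rw [Submodule.mkQ_apply, Submodule.Quotient.mk_eq_zero]
      rfl
    have hwq : (w.restrictScalars A) ∘ₗ (q.restrictScalars A) = v₁.restrictScalars A := by
      ext g
      rfl
    -- non-injectivity at the generic point
    have hK : ¬ Function.Injective ((w.restrictScalars A).baseChange (FractionRing A)) := by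
      rw [← exact_baseChange_iff_injective (FractionRing A) (u.restrictScalars A)
        (v₁.restrictScalars A) (q.restrictScalars A) hq huq (w.restrictScalars A) hwq, hv₁,
        exact_baseChange_smul_iff]
      · exact hgen
      · exact (IsUnit.mk0 _ ((map_ne_zero_iff _ (IsFractionRing.injective A _)).2 hf₀0))
    -- a non-torsion element of the kernel
    obtain ⟨x, hxw, hx0⟩ : ∃ x : G ⧸ LinearMap.range u, w x = 0 ∧
        (1 : FractionRing A) ⊗ₜ[A] x ≠ 0 := by
      rw [injective_iff_map_eq_zero] at hK
      push_neg at hK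
      obtain ⟨z, hz, hz0⟩ := hK
      obtain ⟨r, hr, c, hc⟩ := exists_smul_eq_one_tmul z
      have h1 : (1 : FractionRing A) ⊗ₜ[A] (w.restrictScalars A) c = 0 := by
        rw [← LinearMap.baseChange_tmul, ← hc, ← algebraMap_smul (FractionRing A) r z, map_smul, hz,
          smul_zero]
      obtain ⟨s, hs, hsc⟩ := exists_smul_eq_zero_of_tmul_eq_zero _ h1
      refine ⟨s • c, ?_, ?_⟩
      · have : (w.restrictScalars A) (s • c) = 0 := by rw [map_smul]; exact hsc
        exact this
      · rw [TensorProduct.tmul_smul, ← hc, ← mul_smul]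
        intro h0
        rw [← algebraMap_smul (FractionRing A) (s * r) z, smul_eq_zero] at h0
        rcases h0 with h0 | h0
        · rw [map_eq_zero_iff _ (IsFractionRing.injective A _)] at h0
          exact (mul_ne_zero (nonZeroDivisors.ne_zero hs) (nonZeroDivisors.ne_zero hr)) h0
        · exact hz0 h0
    obtain ⟨f₁, hf₁, h₁⟩ := exists_fibre_sub (A := A) (S := B) (LinearMap.ker w) x hxw hx0
    have h0 : f₀ * f₁ ≠ 0 := mul_ne_zero hf₀0 hf₁
    refine ⟨f₀ * f₁, h0, fun p hp hex => ?_⟩
    have hunit : ∀ a : A, a ∣ f₀ * f₁ → IsUnit (algebraMap A p.asIdeal.ResidueField a) := by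
      intro a ha
      apply IsUnit.mk0
      rw [Ne, Ideal.algebraMap_residueField_eq_zero]
      intro hap
      exact hp (Ideal.mem_of_dvd _ ha hap)
    obtain ⟨z, hz⟩ := h₁ p (fun h => hp (Ideal.mul_mem_left _ _ h))
    have hinj : Function.Injective ((w.restrictScalars A).baseChange p.asIdeal.ResidueField) := by
      rw [← exact_baseChange_iff_injective p.asIdeal.ResidueField (u.restrictScalars A)
        (v₁.restrictScalars A) (q.restrictScalars A) hq huq (w.restrictScalars A) hwq, hv₁,
        exact_baseChange_smul_iff]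
      · exact hex
      · exact hunit _ (dvd_mul_right _ _)
    apply hz
    apply hinj
    rw [map_zero, ← LinearMap.comp_apply, ← LinearMap.baseChange_comp]
    have hcomp : (w.restrictScalars A) ∘ₗ ((LinearMap.ker w).subtype.restrictScalars A) = 0 := by
      ext y
      exact y.2
    rw [hcomp, LinearMap.baseChange_zero, LinearMap.zero_apply]
  · -- case 1: `v ∘ u` is generically nonzero
    push_neg at hzero
    obtain ⟨x₀, hx₀⟩ := hzero
    obtain ⟨f, hf, h₁⟩ := exists_fibre_sub (A := A) (S := B) (LinearMap.range (v ∘ₗ u))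
      (v (u x₀)) ⟨x₀, rfl⟩ hx₀
    refine ⟨f, hf, fun p hp hex => ?_⟩
    obtain ⟨z, hz⟩ := h₁ p hp
    have hsurj : Function.Surjective
        (((v ∘ₗ u).rangeRestrict.restrictScalars A).baseChange p.asIdeal.ResidueField) :=
      LinearMap.lTensor_surjective _ (LinearMap.surjective_rangeRestrict _)
    obtain ⟨t, rfl⟩ := hsurj z
    apply hz
    rw [← LinearMap.comp_apply, ← LinearMap.baseChange_comp]
    have hcomp : ((LinearMap.range (v ∘ₗ u)).subtype.restrictScalars A) ∘ₗ
        ((v ∘ₗ u).rangeRestrict.restrictScalars A) =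
        (v.restrictScalars A) ∘ₗ (u.restrictScalars A) := by
      ext y
      rfl
    rw [hcomp, LinearMap.baseChange_comp, LinearMap.comp_apply]
    exact hex.apply_apply_eq_zero t

/-- **Generic constancy of exactness on fibres.** -/
theorem fibre_exact_iff_generic (u : F →ₗ[B] G) (v : G →ₗ[B] H) :
    ∃ f : A, f ≠ 0 ∧ ∀ p : PrimeSpectrum A, f ∉ p.asIdeal →
      (Function.Exact ((u.restrictScalars A).baseChange p.asIdeal.ResidueField)
        ((v.restrictScalars A).baseChange p.asIdeal.ResidueField) ↔
      Function.Exact ((u.restrictScalars A).baseChange (FractionRing A))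
        ((v.restrictScalars A).baseChange (FractionRing A))) := by
  by_cases hgen : Function.Exact ((u.restrictScalars A).baseChange (FractionRing A))
      ((v.restrictScalars A).baseChange (FractionRing A))
  · obtain ⟨f, hf, h⟩ := fibre_exact_generic u v hgen
    exact ⟨f, hf, fun p hp => ⟨fun _ => hgen, fun _ => h p hp⟩⟩
  · obtain ⟨f, hf, h⟩ := fibre_not_exact_generic u v hgen
    exact ⟨f, hf, fun p hp => ⟨fun h' => absurd h' (h p hp), fun h' => absurd h' hgen⟩⟩

end Main

end Groth.Agent.Lib.Helper12.FibExGen
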