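import Mathlib
import Groth.Agent.Lib.Helper14.FlatStage.Model

/-!
# Model modules with maps

On top of helper14's model `Mm L D` of a finitely presented module over `D[x_1..x_n]`
(functorial in the `R₀`-algebra `D`), we add maps given by matrices over `R₀[x]` and prove that
exactness of a pair of such maps is compatible with base change.
-/

set_option autoImplicit false
universe u
open TensorProduct

attribute [local instance] MvPolynomial.algebraMvPolynomial

namespace Groth.Agent.Lib.Helper12.FibExModel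

open Groth.Agent.Lib.Helper14.FlatStage

/-- transport of exactness along bijections -/
lemma exact_iff_of_equiv {X₁ X₂ X₃ Y₁ Y₂ Y₃ : Type*} [Zero X₃] [Zero Y₃]
    (e₁ : X₁ ≃ Y₁) (e₂ : X₂ ≃ Y₂) (e₃ : X₃ ≃ Y₃) (he₃ : e₃ 0 = 0)
    {f₁ : X₁ → X₂} {f₂ : X₂ → X₃} {g₁ : Y₁ → Y₂} {g₂ : Y₂ → Y₃}
    (h1 : ∀ x, g₁ (e₁ x) = e₂ (f₁ x)) (h2 : ∀ x, g₂ (e₂ x) = e₃ (f₂ x)) :
    Function.Exact g₁ g₂ ↔ Function.Exact f₁ f₂ := by
  have key : ∀ y : X₂, (f₂ y = 0 ↔ g₂ (e₂ y) = 0) := by
    intro y
    rw [h2, ← he₃, e₃.apply_eq_iff_eq]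
  have key2 : ∀ y : X₂, (y ∈ Set.range f₁ ↔ e₂ y ∈ Set.range g₁) := by
    intro y
    constructor
    · rintro ⟨x, rfl⟩
      exact ⟨e₁ x, h1 x⟩
    · rintro ⟨x', hx'⟩
      obtain ⟨x, rfl⟩ := e₁.surjective x'
      rw [h1] at hx'
      exact ⟨x, e₂.injective hx'⟩
  constructor
  · intro h y
    rw [key, key2]
    exact h (e₂ y)
  · intro h y'
    obtain ⟨y, rfl⟩ := e₂.surjective y'
    rw [← key, ← key2]
    exact h y

section Lin

variable {R₀ : Type u} [CommRing R₀] {n a b : ℕ} (U : Fin a → Fm n b R₀)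
variable (D : Type u) [CommRing D] [Algebra R₀ D]

/-- the linear map of free modules with matrix `U` -/
noncomputable def lin : Fm n a D →ₗ[MvPolynomial (Fin n) D] Fm n b D :=
  Fintype.linearCombination (MvPolynomial (Fin n) D) (fun i => mapF n b R₀ D (U i))

lemma lin_apply (v : Fm n a D) : lin U D v = ∑ i, v i • mapF n b R₀ D (U i) :=
  Fintype.linearCombination_apply _ _ _

variable (D' : Type u) [CommRing D'] [Algebra R₀ D'] [Algebra D D'] [IsScalarTower R₀ D D']

lemma mapF_mapF (x : Fm n b R₀) : mapF n b D D' (mapF n b R₀ D x) = mapF n b R₀ D' x := by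
  funext i
  simp only [mapF_apply, MvPolynomial.map_map, ← IsScalarTower.algebraMap_eq]

lemma mapF_lin (v : Fm n a D) : mapF n b D D' (lin U D v) = lin U D' (mapF n a D D' v) := by
  rw [lin_apply, lin_apply, map_sum]
  refine Finset.sum_congr rfl fun i _ => ?_
  rw [map_smul, mapF_mapF, algebra_compatible_smul (MvPolynomial (Fin n) D')]
  rfl

end Lin

section Maps

variable {R₀ : Type u} [CommRing R₀] {n a b : ℕ} (U : Fin a → Fm n b R₀)
  {κ κ' : Type} (L : κ → Fm n a R₀) (L' : κ' → Fm n b R₀)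
  (hUL : ∀ j, lin U R₀ (L j) ∈ Km L' R₀)
variable (D : Type u) [CommRing D] [Algebra R₀ D]

include hUL in
lemma lin_mem_Km (k : Fm n a D) (hk : k ∈ Km L D) : lin U D k ∈ Km L' D := by
  unfold Km at hk
  induction hk using Submodule.span_induction with
  | mem x hx =>
    obtain ⟨j, rfl⟩ := hx
    have h1 : lin U D (genm L D j) = mapF n b R₀ D (lin U R₀ (L j)) := by
      rw [mapF_lin U R₀ D]
      rfl
    rw [h1]
    exact mapF_mem_Km L' R₀ D _ (hUL j)
  | zero => rw [map_zero]; exact zero_mem _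
  | add x y _ _ hx hy => rw [map_add]; exact add_mem hx hy
  | smul c x _ hx => rw [map_smul]; exact Submodule.smul_mem _ _ hx

/-- the induced map of model modules -/
noncomputable def uM : Mm L D →ₗ[MvPolynomial (Fin n) D] Mm L' D :=
  (Km L D).mapQ (Km L' D) (lin U D) (fun k hk => lin_mem_Km U L L' hUL D k hk)

lemma uM_mk (v : Fm n a D) :
    uM U L L' hUL D (Submodule.Quotient.mk v) = Submodule.Quotient.mk (lin U D v) := rfl

variable (D' : Type u) [CommRing D'] [Algebra R₀ D'] [Algebra D D'] [IsScalarTower R₀ D D']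

lemma mapM_uM (x : Mm L D) :
    mapM L' D D' (uM U L L' hUL D x) = uM U L L' hUL D' (mapM L D D' x) := by
  obtain ⟨v, rfl⟩ := Submodule.Quotient.mk_surjective _ x
  rw [uM_mk]
  unfold mapM
  rw [quotMap_mk, quotMap_mk, uM_mk, mapF_lin]

lemma equiv_baseChange_uM (t : D' ⊗[D] Mm L D) :
    uM U L L' hUL D' ((isBaseChange_mapM L D D').equiv t) =
      (isBaseChange_mapM L' D D').equiv
        (((uM U L L' hUL D).restrictScalars D).baseChange D' t) := by
  induction t with
  | zero => simp
  | add x y hx hy => rw [map_add, map_add, hx, hy, map_add, map_add]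
  | tmul d x =>
    rw [LinearMap.baseChange_tmul, IsBaseChange.equiv_tmul, IsBaseChange.equiv_tmul,
      LinearMap.map_smul_of_tower]
    congr 1
    exact (mapM_uM U L L' hUL D D' x).symm

end Maps

section Exact

variable {R₀ : Type u} [CommRing R₀] {n a b c : ℕ} (U : Fin a → Fm n b R₀) (V : Fin b → Fm n c R₀)
  {κ κ' κ'' : Type} (L : κ → Fm n a R₀) (L' : κ' → Fm n b R₀) (L'' : κ'' → Fm n c R₀)
  (hUL : ∀ j, lin U R₀ (L j) ∈ Km L' R₀) (hVL : ∀ j, lin V R₀ (L' j) ∈ Km L'' R₀)

/-- exactness of the model sequence over `D` -/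
def Ex (D : Type u) [CommRing D] [Algebra R₀ D] : Prop :=
  Function.Exact (uM U L L' hUL D) (uM V L' L'' hVL D)

variable (D : Type u) [CommRing D] [Algebra R₀ D]
  (D' : Type u) [CommRing D'] [Algebra R₀ D'] [Algebra D D'] [IsScalarTower R₀ D D']

/-- base change compatibility of exactness of the model sequence -/
theorem exact_baseChange_iff :
    Function.Exact (((uM U L L' hUL D).restrictScalars D).baseChange D')
      (((uM V L' L'' hVL D).restrictScalars D).baseChange D') ↔
    Ex U V L L' L'' hUL hVL D' := by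
  refine (exact_iff_of_equiv (isBaseChange_mapM L D D').equiv.toEquiv
    (isBaseChange_mapM L' D D').equiv.toEquiv (isBaseChange_mapM L'' D D').equiv.toEquiv
    (map_zero (isBaseChange_mapM L'' D D').equiv) ?_ ?_).symm
  · intro t
    exact equiv_baseChange_uM U L L' hUL D D' t
  · intro t
    exact equiv_baseChange_uM V L' L'' hVL D D' t

/-- exactness of the model sequence is invariant under faithfully flat base change -/
theorem ex_iff_of_faithfullyFlat [Module.FaithfullyFlat D D'] :
    Ex U V L L' L'' hUL hVL D' ↔ Ex U V L L' L'' hUL hVL D := by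
  rw [← exact_baseChange_iff U V L L' L'' hUL hVL D D']
  exact Module.FaithfullyFlat.lTensor_exact_iff_exact D D'
    ((uM U L L' hUL D).restrictScalars D) ((uM V L' L'' hVL D).restrictScalars D)

/-- exactness of the model sequence is invariant under extension of fields -/
theorem ex_iff_of_algHom {D D' : Type u} [Field D] [Field D'] [Algebra R₀ D] [Algebra R₀ D']
    (φ : D →ₐ[R₀] D') : Ex U V L L' L'' hUL hVL D' ↔ Ex U V L L' L'' hUL hVL D := by
  letI := φ.toRingHom.toAlgebra
  haveI : IsScalarTower R₀ D D' := IsScalarTower.of_algebraMap_eq (fun r => (φ.commutes r).symm)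
  exact ex_iff_of_faithfullyFlat U V L L' L'' hUL hVL D D'

end Exact

end Groth.Agent.Lib.Helper12.FibExModel
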