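import Mathlib
import Groth.Agent.Lib.Helper12.FibExGen
import Groth.Agent.Lib.Helper12.FibExModel
import Groth.Agent.Lib.Helper7.ConstrNoeth

/-!
# Constructibility of the fibrewise exactness locus of a model sequence over a Noetherian ring
-/

set_option autoImplicit false
universe u
open TensorProduct Topology

attribute [local instance] MvPolynomial.algebraMvPolynomial

namespace Groth.Agent.Lib.Helper12.FibExNoeth

open Groth.Agent.Lib.Helper14.FlatStage Groth.Agent.Lib.Helper12.FibExModel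
  Groth.Agent.Lib.Helper12.FibExGen

variable {R₀ : Type u} [CommRing R₀] {n a b c : ℕ} (U : Fin a → Fm n b R₀) (V : Fin b → Fm n c R₀)
  {κ κ' κ'' : Type} [Finite κ] [Finite κ'] [Finite κ'']
  (L : κ → Fm n a R₀) (L' : κ' → Fm n b R₀) (L'' : κ'' → Fm n c R₀)
  (hUL : ∀ j, lin U R₀ (L j) ∈ Km L' R₀) (hVL : ∀ j, lin V R₀ (L' j) ∈ Km L'' R₀)

/-- generic constancy of `Ex` over a Noetherian domain -/
theorem exists_ex_iff_generic (A : Type u) [CommRing A] [IsDomain A] [IsNoetherianRing A]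
    [Algebra R₀ A] :
    ∃ f : A, f ≠ 0 ∧ ∀ p : PrimeSpectrum A, f ∉ p.asIdeal →
      (Ex U V L L' L'' hUL hVL p.asIdeal.ResidueField ↔
        Ex U V L L' L'' hUL hVL (FractionRing A)) := by
  obtain ⟨f, hf, h⟩ := fibre_exact_iff_generic (A := A) (B := MvPolynomial (Fin n) A)
    (uM U L L' hUL A) (uM V L' L'' hVL A)
  refine ⟨f, hf, fun p hp => ?_⟩
  rw [← exact_baseChange_iff U V L L' L'' hUL hVL A p.asIdeal.ResidueField,
    ← exact_baseChange_iff U V L L' L'' hUL hVL A (FractionRing A)]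
  exact h p hp

/-- **Constructibility of the exactness locus of the model sequence over a Noetherian ring.** -/
theorem isConstructible_ex [IsNoetherianRing R₀] :
    IsConstructible {p : PrimeSpectrum R₀ | Ex U V L L' L'' hUL hVL p.asIdeal.ResidueField} := by
  rw [Groth.Agent.Lib.Helper7.ConstrNoeth.isConstructible_iff_forall_irreducible_closed]
  intro Y hYc hYi
  have hP : (PrimeSpectrum.vanishingIdeal Y).IsPrime :=
    PrimeSpectrum.isIrreducible_iff_vanishingIdeal_isPrime.1 hYi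
  set P := PrimeSpectrum.vanishingIdeal Y with hPdef
  have hY : Y = PrimeSpectrum.zeroLocus (P : Set R₀) := by
    rw [PrimeSpectrum.zeroLocus_vanishingIdeal_eq_closure, hYc.closure_eq]
  obtain ⟨fbar, hfbar, hgen⟩ := exists_ex_iff_generic U V L L' L'' hUL hVL (R₀ ⧸ P)
  obtain ⟨f, rfl⟩ := Ideal.Quotient.mk_surjective fbar
  have hfP : f ∉ P := fun h => hfbar (Ideal.Quotient.eq_zero_iff_mem.2 h)
  -- the fibres over `D(f) ∩ V(P)` all behave like the generic one
  have key : ∀ p : PrimeSpectrum R₀, p ∈ (PrimeSpectrum.basicOpen f : Set (PrimeSpectrum R₀)) ∩ Y →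
      (Ex U V L L' L'' hUL hVL p.asIdeal.ResidueField ↔
        Ex U V L L' L'' hUL hVL (FractionRing (R₀ ⧸ P))) := by
    rintro p ⟨hpf, hpY⟩
    rw [hY] at hpY
    have hPp : P ≤ p.asIdeal := hpY
    have hker : RingHom.ker (Ideal.Quotient.mk P) ≤ p.asIdeal := by
      rw [Ideal.mk_ker]; exact hPp
    haveI : (p.asIdeal.map (Ideal.Quotient.mk P)).IsPrime :=
      Ideal.map_isPrime_of_surjective Ideal.Quotient.mk_surjective hker
    have hcomap : (p.asIdeal.map (Ideal.Quotient.mk P)).comap (Ideal.Quotient.mk P) =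
        p.asIdeal := by
      rw [Ideal.comap_map_of_surjective _ Ideal.Quotient.mk_surjective, ← RingHom.ker_eq_comap_bot,
        sup_eq_left]
      exact hker
    let 𝔭 : PrimeSpectrum (R₀ ⧸ P) := ⟨p.asIdeal.map (Ideal.Quotient.mk P), inferInstance⟩
    have h𝔭 : Ideal.Quotient.mk P f ∉ 𝔭.asIdeal := by
      intro h
      have : f ∈ (p.asIdeal.map (Ideal.Quotient.mk P)).comap (Ideal.Quotient.mk P) := h
      rw [hcomap] at this
      exact hpf this
    rw [← hgen 𝔭 h𝔭]
    let φ : p.asIdeal.ResidueField →ₐ[R₀] 𝔭.asIdeal.ResidueField :=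
      Ideal.ResidueField.mapₐ p.asIdeal 𝔭.asIdeal (Ideal.Quotient.mkₐ R₀ P) hcomap.symm
    exact (ex_iff_of_algHom U V L L' L'' hUL hVL φ).symm
  have hne : ((PrimeSpectrum.basicOpen f : Set (PrimeSpectrum R₀)) ∩ Y).Nonempty := by
    refine ⟨⟨P, hP⟩, hfP, ?_⟩
    rw [hY]
    exact le_refl P
  by_cases hex : Ex U V L L' L'' hUL hVL (FractionRing (R₀ ⧸ P))
  · right
    exact ⟨PrimeSpectrum.basicOpen f, (PrimeSpectrum.basicOpen f).isOpen, hne,
      fun p hp => (key p hp).2 hex⟩
  · left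
    exact Groth.Agent.Lib.Helper7.ConstrNoeth.isNowhereDense_of_inter_subset_compl
      hYi.isPreirreducible (PrimeSpectrum.basicOpen f).isOpen hne
      (fun p hp h => hex ((key p hp).1 h))

end Groth.Agent.Lib.Helper12.FibExNoeth
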