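import Mathlib
import Groth.Agent.Lib.Helper12.FibExModel

/-!
# Presenting a pair of maps of finitely presented modules by a model sequence
-/

set_option autoImplicit false
universe u
open TensorProduct

attribute [local instance] MvPolynomial.algebraMvPolynomial

namespace Groth.Agent.Lib.Helper12.FibExPres

open Groth.Agent.Lib.Helper14.FlatStage Groth.Agent.Lib.Helper12.FibExModel

section Pres

variable {R B : Type u} [CommRing R] [CommRing B] [Algebra R B] {n : ℕ}
  (π : MvPolynomial (Fin n) R →ₐ[R] B)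

/-- presentation of a finitely presented module over the target of a surjection from a polynomial
ring with finitely generated kernel -/
theorem exists_presentation_of_surjective (hπ : Function.Surjective π)
    (hker : (RingHom.ker π.toRingHom).FG)
    (M : Type u) [AddCommGroup M] [Module B M] [Module R M] [IsScalarTower R B M]
    [Module.FinitePresentation B M] :
    ∃ (b e : ℕ) (ℓ : Fin e → Fm n b R) (ε : Fm n b R →ₗ[R] M),
      Function.Surjective ε ∧ (∀ p v, ε (p • v) = π p • ε v) ∧
      (∀ v, ε v = 0 ↔ v ∈ Submodule.span (MvPolynomial (Fin n) R) (Set.range ℓ)) := by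
  letI : Algebra (MvPolynomial (Fin n) R) B := π.toRingHom.toAlgebra
  letI : Module (MvPolynomial (Fin n) R) M := Module.compHom M π.toRingHom
  haveI : IsScalarTower (MvPolynomial (Fin n) R) B M :=
    ⟨fun p c m => by
      show (π p * c) • m = π p • (c • m)
      exact mul_smul _ _ _⟩
  haveI : IsScalarTower R (MvPolynomial (Fin n) R) M :=
    ⟨fun a p m => by
      show π (a • p) • m = a • (π p • m)
      rw [map_smul, smul_assoc]⟩
  haveI : Module.FinitePresentation (MvPolynomial (Fin n) R) B := by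
    refine Module.finitePresentation_of_surjective
      (Algebra.linearMap (MvPolynomial (Fin n) R) B) hπ ?_
    exact hker
  haveI : Module.FinitePresentation (MvPolynomial (Fin n) R) M :=
    Module.FinitePresentation.trans (MvPolynomial (Fin n) R) M B
  obtain ⟨b, K, eK, hK⟩ := Module.FinitePresentation.exists_fin (MvPolynomial (Fin n) R) M
  obtain ⟨e, ℓ, hℓ⟩ := Submodule.fg_iff_exists_fin_generating_family.1 hK
  subst hℓ
  refine ⟨b, e, ℓ,
    ((eK.symm.toLinearMap ∘ₗ
      (Submodule.span (MvPolynomial (Fin n) R) (Set.range ℓ)).mkQ)).restrictScalars R, ?_, ?_, ?_⟩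
  · exact eK.symm.surjective.comp (Submodule.mkQ_surjective _)
  · intro p v
    show (eK.symm.toLinearMap ∘ₗ (Submodule.span (MvPolynomial (Fin n) R) (Set.range ℓ)).mkQ)
      (p • v) = _
    rw [map_smul]
    rfl
  · intro v
    show eK.symm ((Submodule.span (MvPolynomial (Fin n) R) (Set.range ℓ)).mkQ v) = 0 ↔ _
    rw [LinearEquiv.map_eq_zero_iff, Submodule.mkQ_apply, Submodule.Quotient.mk_eq_zero]

end Pres

section Coeff

variable {R : Type u} [CommRing R] {n : ℕ}

/-- lifting a family of vectors of polynomials to a subalgebra containing all coefficients -/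
lemma exists_lift_family {ι : Type} {b : ℕ} (x : ι → Fm n b R) (R₁ : Subalgebra ℤ R)
    (h : ∀ j i, ((x j i).coeffs : Set R) ⊆ R₁) :
    ∃ y : ι → Fm n b R₁, ∀ j, mapF n b R₁ R (y j) = x j := by
  have h' : ∀ j i, ∃ p : MvPolynomial (Fin n) R₁,
      MvPolynomial.map (algebraMap R₁ R) p = x j i := by
    intro j i
    apply MvPolynomial.mem_range_map_iff_coeffs_subset.2
    intro c hc
    exact ⟨⟨c, h j i hc⟩, rfl⟩
  choose y hy using h'
  exact ⟨y, fun j => funext (fun i => hy j i)⟩

/-- the finite set of coefficients of a finite family -/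
noncomputable def coeffSet {ι : Type} [Fintype ι] {b : ℕ} (x : ι → Fm n b R) : Finset R := by
  classical
  exact Finset.univ.biUnion (fun j : ι => Finset.univ.biUnion (fun i : Fin b => (x j i).coeffs))

lemma coeffs_subset_coeffSet {ι : Type} [Fintype ι] {b : ℕ} (x : ι → Fm n b R) (j : ι)
    (i : Fin b) : (x j i).coeffs ⊆ coeffSet x := by
  classical
  intro c hc
  simp only [coeffSet, Finset.mem_biUnion, Finset.mem_univ, true_and]
  exact ⟨j, i, hc⟩

end Coeff

section Quot

variable {R P : Type*} [CommRing R] [CommRing P] [Algebra R P]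
  {F M : Type*} [AddCommGroup F] [AddCommGroup M] [Module R F] [Module P F] [IsScalarTower R P F]
  [Module R M]

/-- the quotient by a submodule which is the kernel of a surjective map -/
noncomputable def quotEquivOfKer (K : Submodule P F) (ε : F →ₗ[R] M) (hε : Function.Surjective ε)
    (hker : ∀ v, ε v = 0 ↔ v ∈ K) : (F ⧸ K) ≃ₗ[R] M :=
  (Submodule.Quotient.restrictScalarsEquiv R K).symm ≪≫ₗ
    Submodule.quotEquivOfEq _ _ (by
      ext v
      rw [Submodule.restrictScalars_mem, LinearMap.mem_ker, hker]) ≪≫ₗ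
    ε.quotKerEquivOfSurjective hε

theorem quotEquivOfKer_mk (K : Submodule P F) (ε : F →ₗ[R] M) (hε : Function.Surjective ε)
    (hker : ∀ v, ε v = 0 ↔ v ∈ K) (v : F) :
    quotEquivOfKer K ε hε hker (Submodule.Quotient.mk v) = ε v := rfl

end Quot

section Compare

variable {R B : Type u} [CommRing R] [CommRing B] [Algebra R B] {n : ℕ}
  (π : MvPolynomial (Fin n) R →ₐ[R] B)
  {F G : Type u} [AddCommGroup F] [Module B F] [Module R F] [IsScalarTower R B F]
  [AddCommGroup G] [Module B G] [Module R G] [IsScalarTower R B G]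
  {a b : ℕ} (εF : Fm n a R →ₗ[R] F) (εG : Fm n b R →ₗ[R] G)
  (hεF : ∀ p v, εF (p • v) = π p • εF v) (hεG : ∀ p v, εG (p • v) = π p • εG v)
  (u : F →ₗ[B] G)
  {R₁ : Type u} [CommRing R₁] [Algebra R₁ R] (U : Fin a → Fm n b R₁)
  (hU : ∀ i, εG (mapF n b R₁ R (U i)) = u (εF (Pi.single i 1)))

lemma mapF_self {D : Type u} [CommRing D] {b : ℕ} (v : Fm n b D) : mapF n b D D v = v := by
  funext i
  rw [mapF_apply, Algebra.algebraMap_self, MvPolynomial.map_id]

include hεF hεG hU in
lemma eps_lin (v : Fm n a R) : εG (lin U R v) = u (εF v) := by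
  classical
  have hv : v = ∑ i, v i • (Pi.single i 1 : Fm n a R) := by
    funext j
    rw [Finset.sum_apply, Finset.sum_eq_single j]
    · rw [Pi.smul_apply, Pi.single_eq_same, smul_eq_mul, mul_one]
    · intro i _ hne
      rw [Pi.smul_apply, Pi.single_eq_of_ne hne.symm, smul_zero]
    · intro h
      exact absurd (Finset.mem_univ j) h
  rw [lin_apply, map_sum]
  conv_rhs => rw [hv, map_sum, map_sum]
  refine Finset.sum_congr rfl fun i _ => ?_
  rw [hεG, hU, hεF, map_smul]

variable {κ : Type} (L : κ → Fm n a R₁) (ℓ : κ → Fm n a R) (hL : ∀ j, mapF n a R₁ R (L j) = ℓ j)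

include hL in
lemma Km_eq_span : Km L R = Submodule.span (MvPolynomial (Fin n) R) (Set.range ℓ) := by
  unfold Km
  congr 2
  funext j
  exact hL j

variable {κ₁ κ₂ : Type} (L₁ : κ₁ → Fm n b R₁) (ℓ₁ : κ₁ → Fm n b R)
  (hL₁ : ∀ j, mapF n b R₁ R (L₁ j) = ℓ₁ j)
  (hker : ∀ w, εG w = 0 ↔ w ∈ Submodule.span (MvPolynomial (Fin n) R) (Set.range ℓ₁))
  (L₂ : κ₂ → Fm n b R₁) (hL₂ : ∀ j, εG (mapF n b R₁ R (L₂ j)) = 0)

include hεG hL₁ hker hL₂ in
lemma ker_iff_mem_Km_sum (w : Fm n b R) : εG w = 0 ↔ w ∈ Km (Sum.elim L₁ L₂) R := by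
  constructor
  · intro h
    rw [hker] at h
    refine Submodule.span_mono ?_ h
    rintro _ ⟨j, rfl⟩
    exact ⟨Sum.inl j, hL₁ j⟩
  · intro h
    unfold Km at h
    induction h using Submodule.span_induction with
    | mem x hx =>
      obtain ⟨j, rfl⟩ := hx
      rcases j with j | j
      · show εG (mapF n b R₁ R (L₁ j)) = 0
        rw [hL₁, hker]
        exact Submodule.subset_span ⟨j, rfl⟩
      · exact hL₂ j
    | zero => exact map_zero _
    | add x y _ _ hx hy => rw [map_add, hx, hy, add_zero]
    | smul c x _ hx => rw [hεG, hx, smul_zero]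

end Compare

end Groth.Agent.Lib.Helper12.FibExPres
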