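import Mathlib
import Groth.Agent.Lib.Helper12.FibExPres
import Groth.Agent.Lib.Helper12.FibExNoeth

/-!
# Constructibility of the locus of exact fibres (EGA IV 9.4.2, affine form)
-/

set_option autoImplicit false
universe u
open TensorProduct Topology

attribute [local instance] MvPolynomial.algebraMvPolynomial

namespace Groth.Agent.Lib.Helper12.FibExMain

open Groth.Agent.Lib.Helper14.FlatStage Groth.Agent.Lib.Helper12.FibExModel
  Groth.Agent.Lib.Helper12.FibExPres Groth.Agent.Lib.Helper12.FibExNoeth

variable {R B : Type u} [CommRing R] [CommRing B] [Algebra R B] [Algebra.FinitePresentation R B]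
  {F G H : Type u} [AddCommGroup F] [Module B F] [Module R F] [IsScalarTower R B F]
  [Module.FinitePresentation B F]
  [AddCommGroup G] [Module B G] [Module R G] [IsScalarTower R B G] [Module.FinitePresentation B G]
  [AddCommGroup H] [Module B H] [Module R H] [IsScalarTower R B H] [Module.FinitePresentation B H]

/-- a pair of maps of finitely presented modules over a finitely presented algebra is isomorphic
to a model sequence defined over a finitely generated subring -/
theorem exists_model (u : F →ₗ[B] G) (v : G →ₗ[B] H) :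
    ∃ (R₁ : Type u) (_ : CommRing R₁) (_ : Algebra R₁ R) (_ : Algebra.FiniteType ℤ R₁)
      (n a b c : ℕ) (κ κ' κ'' : Type) (_ : Finite κ)
      (_ : Finite κ') (_ : Finite κ'')
      (U : Fin a → Fm n b R₁) (V : Fin b → Fm n c R₁)
      (L : κ → Fm n a R₁) (L' : κ' → Fm n b R₁) (L'' : κ'' → Fm n c R₁)
      (hUL : ∀ j, lin U R₁ (L j) ∈ Km L' R₁) (hVL : ∀ j, lin V R₁ (L' j) ∈ Km L'' R₁)
      (eF : Mm L R ≃ₗ[R] F) (eG : Mm L' R ≃ₗ[R] G) (eH : Mm L'' R ≃ₗ[R] H),
      (∀ x, eG (uM U L L' hUL R x) = u (eF x)) ∧ (∀ x, eH (uM V L' L'' hVL R x) = v (eG x)) := by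
  classical
  obtain ⟨n, π, hπ, hker⟩ := Algebra.FinitePresentation.out (R := R) (A := B)
  obtain ⟨a, eF', ℓF, εF, hεFs, hεFsm, hεFk⟩ := exists_presentation_of_surjective π hπ hker F
  obtain ⟨b, eG', ℓG, εG, hεGs, hεGsm, hεGk⟩ := exists_presentation_of_surjective π hπ hker G
  obtain ⟨c, eH', ℓH, εH, hεHs, hεHsm, hεHk⟩ := exists_presentation_of_surjective π hπ hker H
  have hUex : ∀ i : Fin a, ∃ w : Fm n b R, εG w = u (εF (Pi.single i 1)) := fun i => hεGs _
  choose Ut hUt using hUex
  have hVex : ∀ i : Fin b, ∃ w : Fm n c R, εH w = v (εG (Pi.single i 1)) := fun i => hεHs _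
  choose Vt hVt using hVex
  let S : Finset R := coeffSet ℓF ∪ coeffSet ℓG ∪ coeffSet ℓH ∪ coeffSet Ut ∪ coeffSet Vt
  let R₁ : Subalgebra ℤ R := Algebra.adjoin ℤ (S : Set R)
  have hS : (S : Set R) ⊆ R₁ := Algebra.subset_adjoin
  obtain ⟨LF, hLF⟩ := exists_lift_family ℓF R₁ (fun j i x hx => hS (by
    have := coeffs_subset_coeffSet ℓF j i hx
    simp only [S, Finset.coe_union, Set.mem_union, Finset.mem_coe]
    tauto))
  obtain ⟨LG, hLG⟩ := exists_lift_family ℓG R₁ (fun j i x hx => hS (by
    have := coeffs_subset_coeffSet ℓG j i hx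
    simp only [S, Finset.coe_union, Set.mem_union, Finset.mem_coe]
    tauto))
  obtain ⟨LH, hLH⟩ := exists_lift_family ℓH R₁ (fun j i x hx => hS (by
    have := coeffs_subset_coeffSet ℓH j i hx
    simp only [S, Finset.coe_union, Set.mem_union, Finset.mem_coe]
    tauto))
  obtain ⟨U, hU⟩ := exists_lift_family Ut R₁ (fun j i x hx => hS (by
    have := coeffs_subset_coeffSet Ut j i hx
    simp only [S, Finset.coe_union, Set.mem_union, Finset.mem_coe]
    tauto))
  obtain ⟨V, hV⟩ := exists_lift_family Vt R₁ (fun j i x hx => hS (by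
    have := coeffs_subset_coeffSet Vt j i hx
    simp only [S, Finset.coe_union, Set.mem_union, Finset.mem_coe]
    tauto))
  have hU' : ∀ i, εG (mapF n b R₁ R (U i)) = u (εF (Pi.single i 1)) := fun i => by
    rw [hU, hUt]
  have hV' : ∀ i, εH (mapF n c R₁ R (V i)) = v (εG (Pi.single i 1)) := fun i => by
    rw [hV, hVt]
  let L' : Fin eG' ⊕ Fin eF' → Fm n b R₁ := Sum.elim LG (fun j => lin U R₁ (LF j))
  let L'' : Fin eH' ⊕ (Fin eG' ⊕ Fin eF') → Fm n c R₁ := Sum.elim LH (fun j => lin V R₁ (L' j))
  have hUL : ∀ j, lin U R₁ (LF j) ∈ Km L' R₁ := fun j =>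
    Submodule.subset_span ⟨Sum.inr j, mapF_self _⟩
  have hVL : ∀ j, lin V R₁ (L' j) ∈ Km L'' R₁ := fun j =>
    Submodule.subset_span ⟨Sum.inr j, mapF_self _⟩
  -- kernels
  have hkF : ∀ w, εF w = 0 ↔ w ∈ Km LF R := by
    intro w
    rw [hεFk, Km_eq_span LF ℓF hLF]
  have hkG : ∀ w, εG w = 0 ↔ w ∈ Km L' R := by
    intro w
    refine ker_iff_mem_Km_sum π εG hεGsm LG ℓG hLG hεGk _ (fun j => ?_) w
    rw [mapF_lin U R₁ R, eps_lin π εF εG hεFsm hεGsm u U hU', hLF, (hεFk _).2, map_zero]
    exact Submodule.subset_span ⟨j, rfl⟩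
  have hkH : ∀ w, εH w = 0 ↔ w ∈ Km L'' R := by
    intro w
    refine ker_iff_mem_Km_sum π εH hεHsm LH ℓH hLH hεHk _ (fun j => ?_) w
    rw [mapF_lin V R₁ R, eps_lin π εG εH hεGsm hεHsm v V hV', (hkG _).2, map_zero]
    exact mapF_mem_Km L' R₁ R _ (Submodule.subset_span ⟨j, mapF_self _⟩)
  refine ⟨R₁, inferInstance, inferInstance,
    (Subalgebra.fg_iff_finiteType R₁).1 (Subalgebra.fg_adjoin_finset S),
    n, a, b, c, _, _, _, inferInstance, inferInstance,
    inferInstance, U, V, LF, L', L'', hUL, hVL,
    quotEquivOfKer (Km LF R) εF hεFs hkF, quotEquivOfKer (Km L' R) εG hεGs hkG,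
    quotEquivOfKer (Km L'' R) εH hεHs hkH, ?_, ?_⟩
  · intro x
    obtain ⟨w, rfl⟩ := Submodule.Quotient.mk_surjective _ x
    rw [uM_mk, quotEquivOfKer_mk, quotEquivOfKer_mk]
    exact eps_lin π εF εG hεFsm hεGsm u U hU' w
  · intro x
    obtain ⟨w, rfl⟩ := Submodule.Quotient.mk_surjective _ x
    rw [uM_mk, quotEquivOfKer_mk, quotEquivOfKer_mk]
    exact eps_lin π εG εH hεGsm hεHsm v V hV' w

/-- **EGA IV 9.4.2 (affine form)**: the locus of primes with exact fibre sequence is
constructible. -/
theorem isConstructible_setOf_fibre_exact (u : F →ₗ[B] G) (v : G →ₗ[B] H) :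
    IsConstructible {p : PrimeSpectrum R |
      Function.Exact ((u.restrictScalars R).baseChange p.asIdeal.ResidueField)
        ((v.restrictScalars R).baseChange p.asIdeal.ResidueField)} := by
  obtain ⟨R₁, _, _, _, n, a, b, c, κ, κ', κ'', _, _, _, U, V, L, L', L'', hUL, hVL, eF, eG, eH,
    hu, hv⟩ := exists_model (R := R) u v
  haveI : IsNoetherianRing R₁ := Algebra.FiniteType.isNoetherianRing ℤ R₁
  have hE₁ := isConstructible_ex U V L L' L'' hUL hVL
  have key : ∀ p : PrimeSpectrum R,
      (Function.Exact ((u.restrictScalars R).baseChange p.asIdeal.ResidueField)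
        ((v.restrictScalars R).baseChange p.asIdeal.ResidueField) ↔
      Ex U V L L' L'' hUL hVL
        (PrimeSpectrum.comap (algebraMap R₁ R) p).asIdeal.ResidueField) := by
    intro p
    have h1 : Function.Exact ((u.restrictScalars R).baseChange p.asIdeal.ResidueField)
        ((v.restrictScalars R).baseChange p.asIdeal.ResidueField) ↔
        Function.Exact
          (((uM U L L' hUL R).restrictScalars R).baseChange p.asIdeal.ResidueField)
          (((uM V L' L'' hVL R).restrictScalars R).baseChange p.asIdeal.ResidueField) := by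
      have hc1 : ∀ t, (u.restrictScalars R).baseChange p.asIdeal.ResidueField
          (eF.baseChange R p.asIdeal.ResidueField _ _ t) =
          eG.baseChange R p.asIdeal.ResidueField _ _
            (((uM U L L' hUL R).restrictScalars R).baseChange p.asIdeal.ResidueField t) := by
        intro t
        induction t with
        | zero => simp
        | add x y hx hy => rw [map_add, map_add, hx, hy, map_add, map_add]
        | tmul d x =>
          show (u.restrictScalars R).baseChange _ (d ⊗ₜ eF x) = d ⊗ₜ eG (uM U L L' hUL R x)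
          rw [LinearMap.baseChange_tmul, hu]
          rfl
      have hc2 : ∀ t, (v.restrictScalars R).baseChange p.asIdeal.ResidueField
          (eG.baseChange R p.asIdeal.ResidueField _ _ t) =
          eH.baseChange R p.asIdeal.ResidueField _ _
            (((uM V L' L'' hVL R).restrictScalars R).baseChange p.asIdeal.ResidueField t) := by
        intro t
        induction t with
        | zero => simp
        | add x y hx hy => rw [map_add, map_add, hx, hy, map_add, map_add]
        | tmul d x =>
          show (v.restrictScalars R).baseChange _ (d ⊗ₜ eG x) = d ⊗ₜ eH (uM V L' L'' hVL R x)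
          rw [LinearMap.baseChange_tmul, hv]
          rfl
      exact exact_iff_of_equiv
        (eF.baseChange R p.asIdeal.ResidueField _ _).toEquiv
        (eG.baseChange R p.asIdeal.ResidueField _ _).toEquiv
        (eH.baseChange R p.asIdeal.ResidueField _ _).toEquiv
        (map_zero (eH.baseChange R p.asIdeal.ResidueField _ _)) hc1 hc2
    rw [h1, exact_baseChange_iff U V L L' L'' hUL hVL R p.asIdeal.ResidueField]
    let φ : (PrimeSpectrum.comap (algebraMap R₁ R) p).asIdeal.ResidueField →ₐ[R₁]
        p.asIdeal.ResidueField :=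
      Ideal.ResidueField.mapₐ (PrimeSpectrum.comap (algebraMap R₁ R) p).asIdeal p.asIdeal
        (Algebra.ofId R₁ R) rfl
    exact ex_iff_of_algHom U V L L' L'' hUL hVL φ
  have hset : {p : PrimeSpectrum R |
      Function.Exact ((u.restrictScalars R).baseChange p.asIdeal.ResidueField)
        ((v.restrictScalars R).baseChange p.asIdeal.ResidueField)} =
      PrimeSpectrum.comap (algebraMap R₁ R) ⁻¹'
        {p : PrimeSpectrum R₁ | Ex U V L L' L'' hUL hVL p.asIdeal.ResidueField} := by
    ext p
    exact key p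
  rw [hset]
  obtain ⟨C, hC⟩ := PrimeSpectrum.exists_constructibleSetData_iff.2 hE₁
  rw [← hC, ← PrimeSpectrum.ConstructibleSetData.toSet_map]
  exact PrimeSpectrum.ConstructibleSetData.isConstructible_toSet _

end Groth.Agent.Lib.Helper12.FibExMain
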