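import Mathlib
import Groth.Agent.Lib.Helper12.ClosedApprox2
import Groth.Agent.Lib.Helper12.ApproxOver
import Groth.Agent.Lib.Helper12.FpLimit
import Groth.Agent.Lib.Helper12.UpSet
import Groth.Agent.Lib.Helper12.ConsPairProper
import Groth.Agent.S2076
import Groth.Agent.S9199
import Groth.Agent.S7409
import Groth.Agent.S0594

universe u

open CategoryTheory Limits AlgebraicGeometry TopologicalSpace Opposite

set_option backward.isDefEq.respectTransparency false
set_option linter.style.haveILetI false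

namespace Groth.Agent.Lib.Helper12.ProperApprox

open Scheme IdealSheafData Groth.Agent.Lib.Helper12.ClosedApprox
  Groth.Agent.Lib.Helper12.ApproxOver Groth.Agent.Lib.Helper12.FpLimit
  Groth.Agent.Lib.Helper12.ConsPairGen

/-- A morphism of finite type from a qcqs scheme is a closed subscheme of a qcqs scheme of finite
presentation over the base; separated if the morphism is. -/
theorem exists_closedImmersion_fp {X S : Scheme.{u}} (f : X ⟶ S) [LocallyOfFiniteType f]
    [CompactSpace X] [QuasiSeparatedSpace X] [QuasiSeparatedSpace S] :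
    ∃ (X' : Scheme.{u}) (p : X' ⟶ S) (j : X ⟶ X'), LocallyOfFinitePresentation p ∧
      QuasiCompact p ∧ QuasiSeparated p ∧ CompactSpace X' ∧ QuasiSeparatedSpace X' ∧
      IsClosedImmersion j ∧ j ≫ p = f ∧ (IsSeparated f → IsSeparated p) := by
  classical
  obtain ⟨I, iI1, iI2, iI3, D, π, hlim, hlim', hD, haff⟩ := exists_approx_over f
  haveI : ∀ (i j : Iᵒᵖ) (a : i ⟶ j), IsAffineHom (D.map a).left := haff
  haveI : ∀ i, CompactSpace (D.obj i).left := fun i => (hD i).2.2.2.1
  let c : Cone D := { pt := Over.mk f, π := π }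
  haveI : IsClosedImmersion (𝟙 X) := inferInstance
  haveI : LocallyOfFiniteType ((𝟙 X : X ⟶ c.pt.left) ≫ c.pt.hom) := by
    show LocallyOfFiniteType (𝟙 X ≫ f)
    rw [Category.id_comp]; infer_instance
  obtain ⟨i₀, hi₀⟩ := Groth.Agent.S2076.result S D c hlim (𝟙 X : X ⟶ c.pt.left)
  have hci : ∀ (i : Iᵒᵖ) (_ : i ⟶ i₀), IsClosedImmersion (c.π.app i).left := by
    intro i a
    haveI : IsClosedImmersion ((c.π.app i).left ≫ (D.map a).left) := by
      rw [← Over.comp_left, c.w]
      have : (𝟙 X : X ⟶ c.pt.left) ≫ (c.π.app i₀).left = (c.π.app i₀).left := Category.id_comp _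
      rw [← this]
      exact hi₀
    exact IsClosedImmersion.of_comp (c.π.app i).left (D.map a).left
  by_cases hsep : IsSeparated f
  · let D' : Iᵒᵖ ⥤ Scheme.{u} := D ⋙ Over.forget S
    let t : D' ⟶ (Functor.const Iᵒᵖ).obj S :=
      { app := fun i => (D.obj i).hom
        naturality := fun i j a => by
          show (D.map a).left ≫ (D.obj j).hom = (D.obj i).hom ≫ 𝟙 S
          rw [Over.w, Category.comp_id] }
    haveI : ∀ (i j : Iᵒᵖ) (a : i ⟶ j), IsAffineHom (D'.map a) := fun i j a => haff i j a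
    haveI : ∀ i, CompactSpace (D'.obj i) := fun i => (hD i).2.2.2.1
    haveI : ∀ i, QuasiSeparatedSpace (D'.obj i) := fun i => (hD i).2.2.2.2
    haveI : IsSeparated (((Over.forget S).mapCone c).π.app i₀ ≫ t.app i₀) := by
      show IsSeparated ((c.π.app i₀).left ≫ (D.obj i₀).hom)
      rw [Over.w]
      exact hsep
    obtain ⟨i₁, hi₁⟩ := Groth.Agent.S9199.result S D' t ((Over.forget S).mapCone c) hlim' i₀
    let i := IsCofiltered.min i₀ i₁
    exact ⟨(D.obj i).left, (D.obj i).hom, (c.π.app i).left, (hD i).1, (hD i).2.1, (hD i).2.2.1,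
      (hD i).2.2.2.1, (hD i).2.2.2.2, hci i (IsCofiltered.minToLeft i₀ i₁), Over.w _,
      fun _ => hi₁ i (IsCofiltered.minToRight i₀ i₁)⟩
  · exact ⟨(D.obj i₀).left, (D.obj i₀).hom, (c.π.app i₀).left, (hD i₀).1, (hD i₀).2.1,
      (hD i₀).2.2.1, (hD i₀).2.2.2.1, (hD i₀).2.2.2.2, hci i₀ (𝟙 _), Over.w _,
      fun h => absurd h hsep⟩

/-- **Properness spreads out** in a directed intersection of closed subschemes of a separated
scheme of finite type over a qcqs base. -/
theorem exists_isProper_subscheme {X Y S : Scheme.{u}} [CompactSpace S] [QuasiSeparatedSpace S]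
    [CompactSpace Y] [QuasiSeparatedSpace Y]
    (p : Y ⟶ S) [IsSeparated p] [LocallyOfFiniteType p] (ι : X ⟶ Y) [IsClosedImmersion ι]
    [IsProper (ι ≫ p)] {A : Type u} [Preorder A] [IsDirected A (· ≤ ·)] [Nonempty A]
    (J : A →o Y.IdealSheafData) (hJ : ∀ a, J a ≤ ι.ker) (hlim : IsLimit (subCone J ι hJ)) :
    ∃ a, IsProper ((J a).subschemeι ≫ p) := by
  classical
  haveI : QuasiCompact p := inferInstance
  obtain ⟨n, W, π, imm, himm, hcomp, hπ, hsurj⟩ := Groth.Agent.S7409.result p
  haveI : IsConnected Aᵒᵖ := IsCofiltered.isConnected _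
  -- the system of closed subschemes, as a diagram of schemes over `Y`
  let 𝔇 : Aᵒᵖ ⥤ Scheme.{u} := subSys J ⋙ Over.forget Y
  let τ : 𝔇 ⟶ (Functor.const Aᵒᵖ).obj Y :=
    { app := fun a => (J a.unop).subschemeι
      naturality := fun a b m => by
        show ((subSys J).map m).left ≫ (J b.unop).subschemeι = (J a.unop).subschemeι ≫ 𝟙 Y
        rw [Category.comp_id]
        exact Over.w ((subSys J).map m) }
  let c' : Cone 𝔇 := (Over.forget Y).mapCone (subCone J ι hJ)
  have hc' : IsLimit c' := isLimitOfPreserves (Over.forget Y) hlim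
  have hσ : ∀ a, c'.π.app a ≫ τ.app a = ι := fun a => Over.w ((subCone J ι hJ).π.app a)
  have hlimfb : IsLimit (fbCone π c' ι hσ) := isLimitFbCone π c' hc' ι hσ
  -- the base `P^n_S`
  let P := CohB1.ProjSpaceOver n S
  let tb : P ⟶ S := CohB1.ProjSpaceOver.toBase n S
  haveI : IsProper tb := inferInstance
  haveI : CompactSpace P := QuasiCompact.compactSpace_of_compactSpace tb
  haveI : QuasiSeparatedSpace P := quasiSeparatedSpace_of_quasiSeparated tb
  haveI : CompactSpace W := QuasiCompact.compactSpace_of_compactSpace π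
  haveI : QuasiSeparatedSpace W := quasiSeparatedSpace_of_quasiSeparated π
  haveI : LocallyOfFiniteType (imm ≫ tb) := by rw [hcomp]; infer_instance
  haveI : LocallyOfFiniteType imm := locallyOfFiniteType_of_comp imm tb
  let t : fbDiagram 𝔇 τ π ⟶ (Functor.const Aᵒᵖ).obj P :=
    { app := fun a => pullback.fst π (τ.app a) ≫ imm
      naturality := fun a b m => by
        show (fbDiagram 𝔇 τ π).map m ≫ pullback.fst π (τ.app b) ≫ imm =
          (pullback.fst π (τ.app a) ≫ imm) ≫ 𝟙 P
        rw [fbDiagram_map_fst_assoc, Category.comp_id] }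
  haveI hτci : ∀ a, IsClosedImmersion (τ.app a) := fun a =>
    inferInstanceAs (IsClosedImmersion (J a.unop).subschemeι)
  haveI : ∀ (a b : Aᵒᵖ) (m : a ⟶ b), IsClosedImmersion ((fbDiagram 𝔇 τ π).map m) := fun a b m =>
    MorphismProperty.of_isPullback (P := @IsClosedImmersion)
      (isPullback_fbDiagram_map 𝔇 τ π m).flip
      (inferInstanceAs (IsClosedImmersion ((subSys J).map m).left))
  haveI : ∀ a, CompactSpace ((fbDiagram 𝔇 τ π).obj a) := fun a =>
    QuasiCompact.compactSpace_of_compactSpace (pullback.fst π (τ.app a))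
  haveI : ∀ a, QuasiSeparatedSpace ((fbDiagram 𝔇 τ π).obj a) := fun a =>
    quasiSeparatedSpace_of_quasiSeparated (pullback.fst π (τ.app a))
  haveI : ∀ a, LocallyOfFiniteType (t.app a) := fun a =>
    inferInstanceAs (LocallyOfFiniteType (pullback.fst π (τ.app a) ≫ imm))
  obtain ⟨a₀⟩ := (inferInstance : Nonempty Aᵒᵖ)
  haveI : IsClosedImmersion ((fbCone π c' ι hσ).π.app a₀ ≫ t.app a₀) := by
    have e : (fbCone π c' ι hσ).π.app a₀ ≫ t.app a₀ = pullback.fst π ι ≫ imm := by
      show (fbCone π c' ι hσ).π.app a₀ ≫ pullback.fst π (τ.app a₀) ≫ imm = _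
      rw [fbCone_π_fst_assoc]
    rw [e]
    haveI : IsImmersion (pullback.fst π ι ≫ imm) := inferInstance
    haveI : IsProper ((pullback.fst π ι ≫ imm) ≫ tb) := by
      rw [Category.assoc, hcomp, pullback.condition_assoc]
      infer_instance
    haveI : IsProper (pullback.fst π ι ≫ imm) := IsProper.of_comp _ tb
    exact IsClosedImmersion.of_isPreimmersion _ (Scheme.Hom.isClosedMap _).isClosed_range
  obtain ⟨a, ha⟩ := Groth.Agent.S0594.result P (fbDiagram 𝔇 τ π) t (fbCone π c' ι hσ) hlimfb a₀
  refine ⟨a.unop, ?_⟩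
  haveI : IsClosedImmersion (pullback.fst π (τ.app a) ≫ imm) := ha
  have e : pullback.snd π (τ.app a) ≫ (J a.unop).subschemeι ≫ p =
      (pullback.fst π (τ.app a) ≫ imm) ≫ tb := by
    rw [Category.assoc, hcomp, ← pullback.condition_assoc]
  haveI : IsProper (pullback.snd π (τ.app a) ≫ (J a.unop).subschemeι ≫ p) := by
    rw [e]; infer_instance
  haveI : Surjective (pullback.snd π (τ.app a)) :=
    MorphismProperty.pullback_snd (P := @Surjective) _ _ hsurj
  haveI : UniversallyClosed ((J a.unop).subschemeι ≫ p) :=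
    UniversallyClosed.of_comp_surjective (pullback.snd π (τ.app a)) _
  exact ⟨⟩

open Groth.Agent.Lib.Helper12.UpSet in
/-- **A proper morphism to a qcqs scheme is a directed limit of proper morphisms of finite
presentation with closed immersions as transition maps and projections** (Stacks 09ZR). -/
theorem exists_proper_approx {X S : Scheme.{u}} (f : X ⟶ S) [IsProper f] [CompactSpace S]
    [QuasiSeparatedSpace S] :
    ∃ (B : Type u) (_ : Preorder B) (_ : IsDirected B (· ≤ ·)) (_ : Nonempty B)
      (D : Bᵒᵖ ⥤ Over S) (π : (Functor.const Bᵒᵖ).obj (Over.mk f) ⟶ D)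
      (_ : IsLimit ({ pt := Over.mk f, π := π } : Cone D)),
      (∀ (i j : Bᵒᵖ) (a : i ⟶ j), IsClosedImmersion (D.map a).left) ∧
      (∀ i, IsClosedImmersion (π.app i).left ∧ IsProper (D.obj i).hom ∧
        LocallyOfFinitePresentation (D.obj i).hom ∧ CompactSpace (D.obj i).left ∧
        QuasiSeparatedSpace (D.obj i).left) := by
  classical
  haveI : CompactSpace X := QuasiCompact.compactSpace_of_compactSpace f
  haveI : QuasiSeparatedSpace X := quasiSeparatedSpace_of_quasiSeparated f
  obtain ⟨X', p, j, hp1, hp2, hp3, hX'1, hX'2, hj, hjp, hsep⟩ := exists_closedImmersion_fp f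
  subst hjp
  haveI : IsSeparated p := hsep inferInstance
  obtain ⟨A, iA1, iA2, iA3, J, hJ, ⟨hlimJ⟩, hfp⟩ := exists_closed_approx j
  obtain ⟨a₁, ha₁⟩ := exists_isProper_subscheme p j J hJ hlimJ
  obtain ⟨hlimS⟩ := nonempty_isLimit_mapCone_subCone j p J hJ hlimJ
  have hlimU := (Functor.Initial.isLimitWhiskerEquiv (upFunctor a₁)
    ((Over.map p).mapCone (subCone J j hJ))).symm hlimS
  refine ⟨Up a₁, inferInstance, inferInstance, inferInstance,
    upFunctor a₁ ⋙ subSys J ⋙ Over.map p,
    (((Over.map p).mapCone (subCone J j hJ)).whisker (upFunctor a₁)).π, hlimU,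
    fun a b m => ?_, fun b => ⟨?_, ?_, ?_, ?_, ?_⟩⟩
  · show IsClosedImmersion ((subSys J).map ((upFunctor a₁).map m)).left
    infer_instance
  · show IsClosedImmersion (j.toImage ≫ inclusion (hJ b.unop.1))
    infer_instance
  · show IsProper ((J b.unop.1).subschemeι ≫ p)
    have e : (J b.unop.1).subschemeι ≫ p =
        inclusion (J.monotone b.unop.2) ≫ (J a₁).subschemeι ≫ p := by
      rw [inclusion_subschemeι_assoc]
    rw [e]
    infer_instance
  · show LocallyOfFinitePresentation ((J b.unop.1).subschemeι ≫ p)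
    haveI := hfp b.unop.1
    infer_instance
  · show CompactSpace (J b.unop.1).subscheme
    exact QuasiCompact.compactSpace_of_compactSpace (J b.unop.1).subschemeι
  · show QuasiSeparatedSpace (J b.unop.1).subscheme
    exact quasiSeparatedSpace_of_quasiSeparated (J b.unop.1).subschemeι

end Groth.Agent.Lib.Helper12.ProperApprox
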