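import Mathlib
import Groth.Agent.Lib.Helper12.LimConstr
import Groth.Agent.Lib.Helper27.LimConstr

/-!
# Openness of the preimage of a constructible set in a limit is detected at a stage
-/

universe u

open CategoryTheory Limits AlgebraicGeometry Topology

namespace Groth.Agent.Lib.Helper12.LimConsOpen

set_option backward.isDefEq.respectTransparency false

variable {I : Type u} [SmallCategory I] [IsCofiltered I] (D : I ⥤ Scheme.{u}) (c : Cone D)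
  (hc : IsLimit c)

open Groth.Agent.Lib.Helper27.LimConstr in
include hc in
/-- qcqs core. -/
theorem core_open [∀ {i j : I} (f : i ⟶ j), IsAffineHom (D.map f)] (i₁ : I)
    [CompactSpace (D.obj i₁)] [QuasiSeparatedSpace (D.obj i₁)] (Z₁ : Set (D.obj i₁))
    (hZ : IsConstructible Z₁) (ho : IsOpen (⇑(c.π.app i₁) ⁻¹' Z₁ : Set c.pt)) :
    ∃ (j : I) (φ : j ⟶ i₁), IsOpen (⇑(D.map φ) ⁻¹' Z₁) := by
  haveI : ∀ (i j : I) (f : i ⟶ j), IsAffineHom (D.map f) := fun _ _ f => inferInstance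
  haveI := compactSpace_pt D c hc i₁
  haveI := quasiSeparatedSpace_pt D c hc i₁
  have hUc : IsCompact (⇑(c.π.app i₁) ⁻¹' Z₁ : Set c.pt) :=
    isCompact_of_isConstructible ((c.π.app i₁).isConstructible_preimage hZ)
  obtain ⟨k, b, V, hVo, hVc, hVU⟩ := exists_compact_open_preimage_eq D c hc i₁ _ ho hUc
  haveI : CompactSpace (D.obj k) := compactSpace_stage D b
  haveI : QuasiSeparatedSpace (D.obj k) := quasiSeparatedSpace_stage D b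
  have hVcons : IsConstructible V := (hVc.isRetrocompact hVo).isConstructible hVo
  have hZ' : IsConstructible (⇑(D.map b) ⁻¹' Z₁) := (D.map b).isConstructible_preimage hZ
  have hC : IsConstructible ((V \ ⇑(D.map b) ⁻¹' Z₁) ∪ (⇑(D.map b) ⁻¹' Z₁ \ V)) :=
    (hVcons.sdiff hZ').union (hZ'.sdiff hVcons)
  have hempty : (c.π.app k).base ⁻¹' ((V \ ⇑(D.map b) ⁻¹' Z₁) ∪ (⇑(D.map b) ⁻¹' Z₁ \ V)) = ∅ := by
    have e : (⇑(c.π.app k) ⁻¹' (⇑(D.map b) ⁻¹' Z₁) : Set c.pt) = ⇑(c.π.app i₁) ⁻¹' Z₁ :=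
      preimage_π_map D c b Z₁
    change ⇑(c.π.app k) ⁻¹' _ = ∅
    rw [Set.preimage_union, Set.preimage_diff, Set.preimage_diff, e, hVU]
    simp
  obtain ⟨j, ψ, hj⟩ := LimConstr.exists_preimage_eq_empty D c hc k _ hC hempty
  refine ⟨j, ψ ≫ b, ?_⟩
  have e2 : (⇑(D.map (ψ ≫ b)) ⁻¹' Z₁ : Set (D.obj j)) = ⇑(D.map ψ) ⁻¹' V := by
    change (D.map ψ).base ⁻¹' _ = ∅ at hj
    rw [Set.preimage_union, Set.preimage_diff, Set.preimage_diff, Set.union_empty_iff,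
      Set.diff_eq_empty, Set.diff_eq_empty] at hj
    have e3 : (⇑(D.map (ψ ≫ b)) ⁻¹' Z₁ : Set (D.obj j)) = ⇑(D.map ψ) ⁻¹' (⇑(D.map b) ⁻¹' Z₁) := by
      rw [D.map_comp]; rfl
    rw [e3]
    exact subset_antisymm hj.2 hj.1
  rw [e2]
  exact hVo.preimage (D.map ψ).continuous

lemma preimage_comp_eq {X Y Z : Scheme.{u}} (f : X ⟶ Y) (g : Y ⟶ Z) (A : Set Z) :
    ⇑f ⁻¹' (⇑g ⁻¹' A) = ⇑(f ≫ g) ⁻¹' A := by
  ext x; simp

lemma isOpen_inter_of_preimage_ι {X : Scheme.{u}} (U : X.Opens) (A : Set X)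
    (h : IsOpen (⇑U.ι ⁻¹' A)) : IsOpen (A ∩ (U : Set X)) := by
  have := U.ι.isOpenEmbedding.isOpenMap _ h
  rwa [Set.image_preimage_eq_inter_range, Scheme.Opens.range_ι] at this

include hc in
/-- Chart version: over an affine open of the stage `i₁`. -/
theorem chart_open [∀ {i j : I} (f : i ⟶ j), IsAffineHom (D.map f)] (i₁ : I)
    (Z₁ : Set (D.obj i₁)) (hZ : IsConstructible Z₁)
    (ho : IsOpen (⇑(c.π.app i₁) ⁻¹' Z₁ : Set c.pt)) (W : (D.obj i₁).Opens) (hW : IsAffineOpen W) :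
    ∃ k : Over i₁, ∀ (k' : Over i₁) (_ : k' ⟶ k),
      IsOpen (⇑(D.map k'.hom) ⁻¹' Z₁ ∩ ((D.map k'.hom ⁻¹ᵁ W : (D.obj k'.left).Opens) : Set _)) := by
  obtain ⟨k₀, hk₀⟩ : ∃ k₀ : Over i₁, k₀ = Over.mk (𝟙 i₁) := ⟨_, rfl⟩
  haveI : IsAffine ((opensDiagram D i₁ W).obj k₀) := hW.preimage (D.map k₀.hom)
  have hg : ∀ k : Over i₁, ∃ g : (opensDiagram D i₁ W).obj k ⟶ D.obj i₁,
      g = (D.map k.hom ⁻¹ᵁ W).ι ≫ D.map k.hom := fun k => ⟨_, rfl⟩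
  choose g hgdef using hg
  have hgmap : ∀ {k k' : Over i₁} (b : k' ⟶ k), (opensDiagram D i₁ W).map b ≫ g k = g k' := by
    intro k k' b
    rw [hgdef, hgdef]
    have e1 : (opensDiagram D i₁ W).map b ≫ (D.map k.hom ⁻¹ᵁ W).ι =
        (D.map k'.hom ⁻¹ᵁ W).ι ≫ D.map b.left := Scheme.Hom.resLE_comp_ι _ _
    rw [reassoc_of% e1, ← D.map_comp, Over.w b]
  have hZa : IsConstructible (⇑(g k₀) ⁻¹' Z₁) := (g k₀).isConstructible_preimage hZ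
  have hoa : IsOpen (⇑((opensCone D c i₁ W).π.app k₀) ⁻¹' (⇑(g k₀) ⁻¹' Z₁)) := by
    have e : (opensCone D c i₁ W).π.app k₀ ≫ g k₀ = (c.π.app i₁ ⁻¹ᵁ W).ι ≫ c.π.app i₁ := by
      rw [hgdef]
      have e1 : (opensCone D c i₁ W).π.app k₀ ≫ (D.map k₀.hom ⁻¹ᵁ W).ι =
          (c.π.app i₁ ⁻¹ᵁ W).ι ≫ c.π.app k₀.left := Scheme.Hom.resLE_comp_ι _ _
      rw [reassoc_of% e1, c.w]
    have e2 : ⇑((opensCone D c i₁ W).π.app k₀) ⁻¹' (⇑(g k₀) ⁻¹' Z₁) =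
        ⇑(c.π.app i₁ ⁻¹ᵁ W).ι ⁻¹' (⇑(c.π.app i₁) ⁻¹' Z₁) := by
      rw [preimage_comp_eq ((opensCone D c i₁ W).π.app k₀), e]
      exact (preimage_comp_eq _ _ _).symm
    rw [e2]
    exact ho.preimage (c.π.app i₁ ⁻¹ᵁ W).ι.continuous
  obtain ⟨k, ψ, hk⟩ := core_open (opensDiagram D i₁ W) (opensCone D c i₁ W)
    (isLimitOpensCone D c hc i₁ W) k₀ _ hZa hoa
  refine ⟨k, fun k' b => ?_⟩
  have h1 : IsOpen (⇑((opensDiagram D i₁ W).map b) ⁻¹'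
      (⇑((opensDiagram D i₁ W).map ψ) ⁻¹' (⇑(g k₀) ⁻¹' Z₁))) :=
    hk.preimage ((opensDiagram D i₁ W).map b).continuous
  have e3 : ⇑((opensDiagram D i₁ W).map b) ⁻¹'
      (⇑((opensDiagram D i₁ W).map ψ) ⁻¹' (⇑(g k₀) ⁻¹' Z₁)) =
      ⇑(D.map k'.hom ⁻¹ᵁ W).ι ⁻¹' (⇑(D.map k'.hom) ⁻¹' Z₁) := by
    have e4 : (opensDiagram D i₁ W).map b ≫ (opensDiagram D i₁ W).map ψ ≫ g k₀ =
        (D.map k'.hom ⁻¹ᵁ W).ι ≫ D.map k'.hom := by
      rw [hgmap ψ, hgmap b, hgdef]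
    rw [preimage_comp_eq ((opensDiagram D i₁ W).map ψ), preimage_comp_eq, e4]
    exact (preimage_comp_eq _ _ _).symm
  rw [e3] at h1
  exact isOpen_inter_of_preimage_ι _ _ h1

include hc in
/-- If the preimage in the limit of a constructible subset of a quasi-compact stage is open, then
so is its preimage in a later stage. -/
theorem exists_isOpen_preimage [∀ {i j : I} (f : i ⟶ j), IsAffineHom (D.map f)] (i₁ : I)
    [CompactSpace (D.obj i₁)] (Z₁ : Set (D.obj i₁)) (hZ : IsConstructible Z₁)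
    (ho : IsOpen (⇑(c.π.app i₁) ⁻¹' Z₁ : Set c.pt)) :
    ∃ (j : I) (φ : j ⟶ i₁), IsOpen (⇑(D.map φ) ⁻¹' Z₁) := by
  classical
  have h1 : ∀ x : D.obj i₁, ∃ W : (D.obj i₁).Opens, x ∈ W ∧ IsAffineOpen W := by
    intro x
    obtain ⟨W, hW, hxW, -⟩ := exists_isAffineOpen_mem_and_subset (x := x) (U := ⊤) trivial
    exact ⟨W, hxW, hW⟩
  choose W hxW hW using h1
  have h2 := fun x => chart_open D c hc i₁ Z₁ hZ ho (W x) (hW x)
  choose k hk using h2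
  obtain ⟨s, hs⟩ := CompactSpace.elim_nhds_subcover
    (fun x => ((W x : (D.obj i₁).Opens) : Set (D.obj i₁))) (fun x => (W x).2.mem_nhds (hxW x))
  obtain ⟨k₁, hk₁⟩ := IsCofiltered.inf_objs_exists (s.image k)
  refine ⟨k₁.left, k₁.hom, ?_⟩
  have e : (⇑(D.map k₁.hom) ⁻¹' Z₁ : Set (D.obj k₁.left)) =
      ⋃ x ∈ s, (⇑(D.map k₁.hom) ⁻¹' Z₁ ∩
        ((D.map k₁.hom ⁻¹ᵁ W x : (D.obj k₁.left).Opens) : Set _)) := by
    ext y
    simp only [Set.mem_iUnion, Set.mem_inter_iff, exists_and_left, exists_prop]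
    constructor
    · intro hy
      refine ⟨hy, ?_⟩
      have : D.map k₁.hom y ∈ ⋃ x ∈ s, ((W x : (D.obj i₁).Opens) : Set (D.obj i₁)) := by
        rw [hs]; trivial
      simp only [Set.mem_iUnion] at this
      obtain ⟨x, hx, hy'⟩ := this
      exact ⟨x, hx, hy'⟩
    · exact fun h => h.1
  rw [e]
  exact isOpen_biUnion fun x hx => hk x k₁ (hk₁ (Finset.mem_image_of_mem _ hx)).some

open Groth.Agent.Lib.Helper27.LimConstr in
include hc in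
/-- qcqs core, locally closed version. -/
theorem core_lc [∀ {i j : I} (f : i ⟶ j), IsAffineHom (D.map f)] (i₁ : I)
    [CompactSpace (D.obj i₁)] [QuasiSeparatedSpace (D.obj i₁)] (Z₁ : Set (D.obj i₁))
    (hZ : IsConstructible Z₁) (ho : IsLocallyClosed (⇑(c.π.app i₁) ⁻¹' Z₁ : Set c.pt)) :
    ∃ (j : I) (φ : j ⟶ i₁), IsLocallyClosed (⇑(D.map φ) ⁻¹' Z₁) := by
  haveI : ∀ (i j : I) (f : i ⟶ j), IsAffineHom (D.map f) := fun _ _ f => inferInstance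
  obtain ⟨k, b, V, hVcons, hVlc, hVU⟩ :=
    exists_isLocallyClosed_isConstructible_preimage_eq D c hc i₁ _
      ((c.π.app i₁).isConstructible_preimage hZ) ho
  haveI : CompactSpace (D.obj k) := compactSpace_stage D b
  haveI : QuasiSeparatedSpace (D.obj k) := quasiSeparatedSpace_stage D b
  have hZ' : IsConstructible (⇑(D.map b) ⁻¹' Z₁) := (D.map b).isConstructible_preimage hZ
  have hC : IsConstructible ((V \ ⇑(D.map b) ⁻¹' Z₁) ∪ (⇑(D.map b) ⁻¹' Z₁ \ V)) :=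
    (hVcons.sdiff hZ').union (hZ'.sdiff hVcons)
  have hempty : (c.π.app k).base ⁻¹' ((V \ ⇑(D.map b) ⁻¹' Z₁) ∪ (⇑(D.map b) ⁻¹' Z₁ \ V)) = ∅ := by
    have e : (⇑(c.π.app k) ⁻¹' (⇑(D.map b) ⁻¹' Z₁) : Set c.pt) = ⇑(c.π.app i₁) ⁻¹' Z₁ :=
      preimage_π_map D c b Z₁
    change ⇑(c.π.app k) ⁻¹' _ = ∅
    rw [Set.preimage_union, Set.preimage_diff, Set.preimage_diff, e, hVU]
    simp
  obtain ⟨j, ψ, hj⟩ := LimConstr.exists_preimage_eq_empty D c hc k _ hC hempty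
  refine ⟨j, ψ ≫ b, ?_⟩
  have e2 : (⇑(D.map (ψ ≫ b)) ⁻¹' Z₁ : Set (D.obj j)) = ⇑(D.map ψ) ⁻¹' V := by
    change (D.map ψ).base ⁻¹' _ = ∅ at hj
    rw [Set.preimage_union, Set.preimage_diff, Set.preimage_diff, Set.union_empty_iff,
      Set.diff_eq_empty, Set.diff_eq_empty] at hj
    have e3 : (⇑(D.map (ψ ≫ b)) ⁻¹' Z₁ : Set (D.obj j)) = ⇑(D.map ψ) ⁻¹' (⇑(D.map b) ⁻¹' Z₁) := by
      rw [D.map_comp]; rfl
    rw [e3]
    exact subset_antisymm hj.2 hj.1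
  rw [e2]
  exact hVlc.preimage (D.map ψ).continuous

include hc in
/-- Chart version, locally closed. -/
theorem chart_lc [∀ {i j : I} (f : i ⟶ j), IsAffineHom (D.map f)] (i₁ : I)
    (Z₁ : Set (D.obj i₁)) (hZ : IsConstructible Z₁)
    (ho : IsLocallyClosed (⇑(c.π.app i₁) ⁻¹' Z₁ : Set c.pt)) (W : (D.obj i₁).Opens)
    (hW : IsAffineOpen W) :
    ∃ k : Over i₁, ∀ (k' : Over i₁) (_ : k' ⟶ k),
      IsLocallyClosed (⇑(D.map k'.hom ⁻¹ᵁ W).ι ⁻¹' (⇑(D.map k'.hom) ⁻¹' Z₁)) := by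
  obtain ⟨k₀, hk₀⟩ : ∃ k₀ : Over i₁, k₀ = Over.mk (𝟙 i₁) := ⟨_, rfl⟩
  haveI : IsAffine ((opensDiagram D i₁ W).obj k₀) := hW.preimage (D.map k₀.hom)
  have hg : ∀ k : Over i₁, ∃ g : (opensDiagram D i₁ W).obj k ⟶ D.obj i₁,
      g = (D.map k.hom ⁻¹ᵁ W).ι ≫ D.map k.hom := fun k => ⟨_, rfl⟩
  choose g hgdef using hg
  have hgmap : ∀ {k k' : Over i₁} (b : k' ⟶ k), (opensDiagram D i₁ W).map b ≫ g k = g k' := by
    intro k k' b
    rw [hgdef, hgdef]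
    have e1 : (opensDiagram D i₁ W).map b ≫ (D.map k.hom ⁻¹ᵁ W).ι =
        (D.map k'.hom ⁻¹ᵁ W).ι ≫ D.map b.left := Scheme.Hom.resLE_comp_ι _ _
    rw [reassoc_of% e1, ← D.map_comp, Over.w b]
  have hZa : IsConstructible (⇑(g k₀) ⁻¹' Z₁) := (g k₀).isConstructible_preimage hZ
  have hoa : IsLocallyClosed (⇑((opensCone D c i₁ W).π.app k₀) ⁻¹' (⇑(g k₀) ⁻¹' Z₁)) := by
    have e : (opensCone D c i₁ W).π.app k₀ ≫ g k₀ = (c.π.app i₁ ⁻¹ᵁ W).ι ≫ c.π.app i₁ := by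
      rw [hgdef]
      have e1 : (opensCone D c i₁ W).π.app k₀ ≫ (D.map k₀.hom ⁻¹ᵁ W).ι =
          (c.π.app i₁ ⁻¹ᵁ W).ι ≫ c.π.app k₀.left := Scheme.Hom.resLE_comp_ι _ _
      rw [reassoc_of% e1, c.w]
    have e2 : ⇑((opensCone D c i₁ W).π.app k₀) ⁻¹' (⇑(g k₀) ⁻¹' Z₁) =
        ⇑(c.π.app i₁ ⁻¹ᵁ W).ι ⁻¹' (⇑(c.π.app i₁) ⁻¹' Z₁) := by
      rw [preimage_comp_eq ((opensCone D c i₁ W).π.app k₀), e]
      exact (preimage_comp_eq _ _ _).symm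
    rw [e2]
    exact ho.preimage (c.π.app i₁ ⁻¹ᵁ W).ι.continuous
  obtain ⟨k, ψ, hk⟩ := core_lc (opensDiagram D i₁ W) (opensCone D c i₁ W)
    (isLimitOpensCone D c hc i₁ W) k₀ _ hZa hoa
  refine ⟨k, fun k' b => ?_⟩
  have h1 : IsLocallyClosed (⇑((opensDiagram D i₁ W).map b) ⁻¹'
      (⇑((opensDiagram D i₁ W).map ψ) ⁻¹' (⇑(g k₀) ⁻¹' Z₁))) :=
    hk.preimage ((opensDiagram D i₁ W).map b).continuous
  have e3 : ⇑((opensDiagram D i₁ W).map b) ⁻¹'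
      (⇑((opensDiagram D i₁ W).map ψ) ⁻¹' (⇑(g k₀) ⁻¹' Z₁)) =
      ⇑(D.map k'.hom ⁻¹ᵁ W).ι ⁻¹' (⇑(D.map k'.hom) ⁻¹' Z₁) := by
    have e4 : (opensDiagram D i₁ W).map b ≫ (opensDiagram D i₁ W).map ψ ≫ g k₀ =
        (D.map k'.hom ⁻¹ᵁ W).ι ≫ D.map k'.hom := by
      rw [hgmap ψ, hgmap b, hgdef]
    rw [preimage_comp_eq ((opensDiagram D i₁ W).map ψ), preimage_comp_eq, e4]
    exact (preimage_comp_eq _ _ _).symm
  rw [e3] at h1
  exact h1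

include hc in
/-- If the preimage in the limit of a constructible subset of a quasi-compact stage is locally
closed, then so is its preimage in a later stage. -/
theorem exists_isLocallyClosed_preimage [∀ {i j : I} (f : i ⟶ j), IsAffineHom (D.map f)] (i₁ : I)
    [CompactSpace (D.obj i₁)] (Z₁ : Set (D.obj i₁)) (hZ : IsConstructible Z₁)
    (ho : IsLocallyClosed (⇑(c.π.app i₁) ⁻¹' Z₁ : Set c.pt)) :
    ∃ (j : I) (φ : j ⟶ i₁), IsLocallyClosed (⇑(D.map φ) ⁻¹' Z₁) := by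
  classical
  have h1 : ∀ x : D.obj i₁, ∃ W : (D.obj i₁).Opens, x ∈ W ∧ IsAffineOpen W := by
    intro x
    obtain ⟨W, hW, hxW, -⟩ := exists_isAffineOpen_mem_and_subset (x := x) (U := ⊤) trivial
    exact ⟨W, hxW, hW⟩
  choose W hxW hW using h1
  have h2 := fun x => chart_lc D c hc i₁ Z₁ hZ ho (W x) (hW x)
  choose k hk using h2
  obtain ⟨s, hs⟩ := CompactSpace.elim_nhds_subcover
    (fun x => ((W x : (D.obj i₁).Opens) : Set (D.obj i₁))) (fun x => (W x).2.mem_nhds (hxW x))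
  obtain ⟨k₁, hk₁⟩ := IsCofiltered.inf_objs_exists (s.image k)
  refine ⟨k₁.left, k₁.hom, ?_⟩
  have hcov : TopologicalSpace.IsOpenCover
      (fun x : s => (D.map k₁.hom ⁻¹ᵁ W x.1 : (D.obj k₁.left).Opens)) := by
    refine top_le_iff.mp fun y _ => ?_
    have : D.map k₁.hom y ∈ ⋃ x ∈ s, ((W x : (D.obj i₁).Opens) : Set (D.obj i₁)) := by
      rw [hs]; trivial
    simp only [Set.mem_iUnion] at this
    obtain ⟨x, hx, hy'⟩ := this
    exact TopologicalSpace.Opens.mem_iSup.mpr ⟨⟨x, hx⟩, hy'⟩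
  rw [hcov.isLocallyClosed_iff_coe_preimage]
  intro x
  exact hk x.1 k₁ (hk₁ (Finset.mem_image_of_mem _ x.2)).some

end Groth.Agent.Lib.Helper12.LimConsOpen
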