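import Mathlib
import Groth.Agent.Lib.Helper26.ProConsSch
import Groth.Agent.S3398
import Groth.Agent.S3439
import Groth.Agent.S4784
import Groth.Agent.S4764

/-!
# Pro-constructible sets and cofiltered limits
-/

universe u

open CategoryTheory Limits AlgebraicGeometry Topology

namespace Groth.Agent.Lib.Helper12.LimProCons

open Groth.Agent.Lib.Helper26.ProConsTop Groth.Agent.Lib.Helper26.ProConsSch

set_option backward.isDefEq.respectTransparency false

lemma isProConstructible_inter {X : Scheme.{u}} {E F : Set X}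
    (hE : ProCons.IsProConstructible E) (hF : ProCons.IsProConstructible F) :
    ProCons.IsProConstructible (E ∩ F) := by
  rw [isProConstructible_iff] at hE hF ⊢
  intro U hU
  rw [Set.preimage_inter]
  exact @IsClosed.inter _ _ _ (constructibleTopology (U : Scheme.{u})) (hE U hU) (hF U hU)

lemma isIndConstructible_empty {X : Scheme.{u}} : ProCons.IsIndConstructible (∅ : Set X) := by
  rw [isIndConstructible_iff]
  intro U hU
  rw [Set.preimage_empty]
  exact @isOpen_empty _ (constructibleTopology (U : Scheme.{u}))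

variable {I : Type u} [SmallCategory I] [IsCofiltered I] (D : I ⥤ Scheme.{u}) (c : Cone D)
  (hc : IsLimit c)

include hc in
/-- A pro-constructible subset of a quasi-compact stage whose preimage in the limit is empty has
empty preimage in a later stage. -/
theorem exists_preimage_eq_empty_of_isProConstructible
    [∀ (i j : I) (f : i ⟶ j), IsAffineHom (D.map f)] (i₁ : I)
    [CompactSpace (D.obj i₁)] (K : Set (D.obj i₁)) (hK : ProCons.IsProConstructible K)
    (hempty : (⇑(c.π.app i₁) ⁻¹' K : Set c.pt) = ∅) :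
    ∃ (j : I) (φ : j ⟶ i₁), (⇑(D.map φ) ⁻¹' K : Set (D.obj j)) = ∅ := by
  classical
  have hrange := Groth.Agent.S4784.result D c hc i₁
  have hF : ∀ k : Over i₁, ProCons.IsProConstructible (K ∩ Set.range ⇑(D.map k.hom)) := by
    intro k
    refine isProConstructible_inter hK ?_
    have := Groth.Agent.S3398.result (D.map k.hom) Set.univ (by
      rw [isProConstructible_iff]
      intro U hU
      rw [Set.preimage_univ]
      exact @isClosed_univ _ (constructibleTopology (U : Scheme.{u})))
    rwa [Set.image_univ] at this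
  have hint : ⋂ k : Over i₁, (K ∩ Set.range ⇑(D.map k.hom)) ⊆ (∅ : Set (D.obj i₁)) := by
    intro y hy
    rw [Set.mem_iInter] at hy
    have hyK : y ∈ K := (hy (Over.mk (𝟙 i₁))).1
    have hyr : y ∈ Set.range ⇑(c.π.app i₁) := by
      rw [hrange]
      simp only [Set.mem_iInter]
      intro j φ
      exact (hy (Over.mk φ)).2
    obtain ⟨x, rfl⟩ := hyr
    have : x ∈ (⇑(c.π.app i₁) ⁻¹' K : Set c.pt) := hyK
    rw [hempty] at this
    exact this
  obtain ⟨J, hJ⟩ := Groth.Agent.S3439.result (D.obj i₁) ∅ isIndConstructible_empty _ hF hint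
  obtain ⟨k₁, hk₁⟩ := IsCofiltered.inf_objs_exists J
  refine ⟨k₁.left, k₁.hom, ?_⟩
  rw [Set.eq_empty_iff_forall_notMem]
  intro x hx
  refine hJ (?_ : D.map k₁.hom x ∈ _)
  simp only [Set.mem_iInter]
  intro k hk
  refine ⟨hx, ?_⟩
  obtain ⟨b⟩ := hk₁ hk
  refine ⟨D.map b.left x, ?_⟩
  have e : D.map b.left ≫ D.map k.hom = D.map k₁.hom := by
    rw [← D.map_comp, Over.w b]
  exact congr($e x)

omit [IsCofiltered I] in
lemma closure_preimage_eq_of_flat {X Y : Scheme.{u}} (f : X ⟶ Y) [Flat f] {Z : Set Y}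
    (hZ : ProCons.IsProConstructible Z) : closure (⇑f ⁻¹' Z) = ⇑f ⁻¹' closure Z := by
  refine subset_antisymm (f.continuous.closure_preimage_subset Z) ?_
  intro x hx
  obtain ⟨z, hzZ, hz⟩ := exists_specializes_of_mem_closure hZ hx
  obtain ⟨x', hx', hfx'⟩ := Flat.generalizingMap (f := f) hz
  have h1 : x' ∈ ⇑f ⁻¹' Z := by
    show f x' ∈ Z
    rw [hfx']; exact hzZ
  exact hx'.mem_closed isClosed_closure (subset_closure h1)

lemma isProConstructible_of_isConstructible {X : Scheme.{u}} {E : Set X}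
    (hE : IsConstructible E) : ProCons.IsProConstructible E := by
  rw [isProConstructible_iff]
  intro U hU
  haveI : IsAffine (U : Scheme.{u}) := hU
  exact isClosed_cons_of_isConstructible (U.ι.isConstructible_preimage hE)

include hc in
/-- EGA IV 8.3.x: for flat affine transition maps, containment in the closure of a preimage is
detected at a stage. -/
theorem preimage_subset_closure_iff [∀ (i j : I) (f : i ⟶ j), IsAffineHom (D.map f)] (i₁ : I)
    [CompactSpace (D.obj i₁)] (hfl : ∀ (i j : I) (φ : i ⟶ j), Flat (D.map φ))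
    (Z' Z'' : Set (D.obj i₁)) (hZ' : ProCons.IsProConstructible Z')
    (hZ'' : ProCons.IsProConstructible Z'') (hcl : IsConstructible (closure Z')) :
    (⇑(c.π.app i₁) ⁻¹' Z'' : Set c.pt) ⊆ closure (⇑(c.π.app i₁) ⁻¹' Z' : Set c.pt) ↔
      ∃ (j : I) (φ : j ⟶ i₁), ⇑(D.map φ) ⁻¹' Z'' ⊆ closure (⇑(D.map φ) ⁻¹' Z') := by
  haveI : Flat (c.π.app i₁) := Groth.Agent.S4764.result D c hc i₁ (fun j φ => hfl j i₁ φ)
  haveI : ∀ (j : I) (φ : j ⟶ i₁), Flat (D.map φ) := fun j φ => hfl j i₁ φ
  have hK : ProCons.IsProConstructible (Z'' ∩ (closure Z')ᶜ) :=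
    isProConstructible_inter hZ'' (isProConstructible_of_isConstructible hcl.compl)
  constructor
  · intro h
    rw [closure_preimage_eq_of_flat _ hZ'] at h
    have hempty : (⇑(c.π.app i₁) ⁻¹' (Z'' ∩ (closure Z')ᶜ) : Set c.pt) = ∅ := by
      rw [Set.eq_empty_iff_forall_notMem]
      rintro x ⟨hx1, hx2⟩
      exact hx2 (h hx1)
    obtain ⟨j, φ, hj⟩ := exists_preimage_eq_empty_of_isProConstructible D c hc i₁ _ hK hempty
    refine ⟨j, φ, ?_⟩
    rw [closure_preimage_eq_of_flat _ hZ']
    intro y hy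
    by_contra hy2
    have : y ∈ (⇑(D.map φ) ⁻¹' (Z'' ∩ (closure Z')ᶜ) : Set (D.obj j)) := ⟨hy, hy2⟩
    rw [hj] at this
    exact this
  · rintro ⟨j, φ, hj⟩
    rw [closure_preimage_eq_of_flat _ hZ'] at hj ⊢
    intro x hx
    have e : D.map φ (c.π.app j x) = c.π.app i₁ x := congr($(c.w φ) x)
    have h1 : c.π.app j x ∈ ⇑(D.map φ) ⁻¹' Z'' := by
      show D.map φ (c.π.app j x) ∈ Z''
      rw [e]; exact hx
    have h2 := hj h1
    show c.π.app i₁ x ∈ closure Z'
    rw [← e]; exact h2

end Groth.Agent.Lib.Helper12.LimProCons
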