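import Mathlib
import Groth.Agent.Lib.Helper12.LimProCons
import Groth.Agent.Lib.Helper12.LimAffChart
import Groth.Agent.Lib.Helper12.LimConsOpen

/-!
# Dominance of a base change to a limit with flat affine transitions is detected at a stage
-/

universe u

open CategoryTheory Limits AlgebraicGeometry Topology

namespace Groth.Agent.Lib.Helper12.LimDominant

open Groth.Agent.Lib.Helper12 Groth.Agent.Lib.Helper12.PbDiag Groth.Agent.Lib.Helper12.LimProCons
  Groth.Agent.Lib.Helper12.LimData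

set_option backward.isDefEq.respectTransparency false

lemma isProConstructible_range {X Y : Scheme.{u}} (f : X ⟶ Y) [QuasiCompact f] :
    ProCons.IsProConstructible (Set.range ⇑f) := by
  have := Groth.Agent.S3398.result f Set.univ (isProConstructible_of_isConstructible .univ)
  rwa [Set.image_univ] at this

/-- Dominance is preserved by flat base change for quasi-compact morphisms. -/
lemma isDominant_of_isPullback_of_flat {X' X Y' Y : Scheme.{u}} {q' : X' ⟶ X} {f' : X' ⟶ Y'}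
    {f : X ⟶ Y} {q : Y' ⟶ Y} (h : IsPullback q' f' f q) [Flat q] [QuasiCompact f]
    [IsDominant f] : IsDominant f' := by
  refine ⟨?_⟩
  rw [DenseRange, dense_iff_closure_eq]
  have e1 : Set.range ⇑f' = ⇑q ⁻¹' Set.range ⇑f := by
    have := Scheme.image_preimage_eq_of_isPullback h Set.univ
    simpa using this
  rw [e1, closure_preimage_eq_of_flat q (isProConstructible_range f)]
  have : closure (Set.range ⇑f) = Set.univ := dense_iff_closure_eq.mp f.denseRange
  rw [this, Set.preimage_univ]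

variable {I : Type u} [SmallCategory I] [IsCofiltered I] (D : I ⥤ Scheme.{u}) (c : Cone D)
  (hc : IsLimit c)

include hc in
theorem exists_isDominant_stage [∀ {i j : I} (f : i ⟶ j), IsAffineHom (D.map f)] (i₀ : I)
    [CompactSpace (D.obj i₀)] (hfl : ∀ (i j : I) (φ : i ⟶ j), Flat (D.map φ))
    {X₀ Y₀ : Scheme.{u}} (f₀ : X₀ ⟶ Y₀) (g₀ : Y₀ ⟶ D.obj i₀)
    [QuasiCompact (f₀ ≫ g₀)] [QuasiCompact g₀] [QuasiSeparated g₀]
    (hcl : IsConstructible (closure (Set.range ⇑f₀)))
    {X Y : Scheme.{u}} (f : X ⟶ Y) (g : Y ⟶ c.pt) (qY : Y ⟶ Y₀) (qX : X ⟶ X₀)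
    (hY : IsPullback qY g g₀ (c.π.app i₀)) (hX : IsPullback qX f f₀ qY) [IsDominant f] :
    ∃ k : Over i₀, IsDominant ((pbMap D i₀ g₀ f₀).app k) := by
  haveI : QuasiCompact f₀ := QuasiCompact.of_comp f₀ g₀
  haveI : CompactSpace Y₀ := QuasiCompact.compactSpace_of_compactSpace g₀
  obtain ⟨k₀, hk₀⟩ : ∃ k₀ : Over i₀, k₀ = Over.mk (𝟙 i₀) := ⟨_, rfl⟩
  haveI : ∀ (j k : Over i₀) (a : j ⟶ k), IsAffineHom ((pbDiagram D i₀ g₀).map a) :=
    fun j k a => inferInstance
  haveI : CompactSpace ((pbDiagram D i₀ g₀).obj k₀) := compactSpace_pbDiagram_obj' D i₀ g₀ k₀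
  have hflat : ∀ (j k : Over i₀) (a : j ⟶ k), Flat ((pbDiagram D i₀ g₀).map a) := fun j k a =>
    MorphismProperty.of_isPullback (P := @Flat) (isPullback_pbDiagram_map D i₀ g₀ a).flip
      (hfl _ _ a.left)
  -- the projections to `Y₀`
  have hp : ∀ k : Over i₀, ∃ p : (pbDiagram D i₀ g₀).obj k ⟶ Y₀,
      p = pullback.fst g₀ (D.map k.hom) := fun k => ⟨_, rfl⟩
  choose p hpdef using hp
  have hpmap : ∀ {j k : Over i₀} (a : j ⟶ k), (pbDiagram D i₀ g₀).map a ≫ p k = p j := by
    intro j k a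
    rw [hpdef, hpdef, pbDiagram_map_fst]
  have hpπ : ∀ k : Over i₀, (pbCone c qY g hY).π.app k ≫ p k = qY := by
    intro k
    rw [hpdef, pbCone_π_fst]
  haveI : IsIso (p k₀) := by
    rw [hpdef, hk₀]
    have : IsIso (D.map (Over.mk (𝟙 i₀)).hom) := by
      dsimp; infer_instance
    infer_instance
  have hZ' : ProCons.IsProConstructible (⇑(p k₀) ⁻¹' Set.range ⇑f₀) :=
    Groth.Agent.Lib.Helper26.ProConsSch.isProConstructible_preimage (p k₀)
      (isProConstructible_range f₀)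
  have hclZ' : closure (⇑(p k₀) ⁻¹' Set.range ⇑f₀) = ⇑(p k₀) ⁻¹' closure (Set.range ⇑f₀) :=
    closure_preimage_eq_of_flat (p k₀) (isProConstructible_range f₀)
  have hcons : IsConstructible (closure (⇑(p k₀) ⁻¹' Set.range ⇑f₀)) := by
    rw [hclZ']
    exact (p k₀).isConstructible_preimage hcl
  have hrange_f : Set.range ⇑f = ⇑qY ⁻¹' Set.range ⇑f₀ := by
    have := Scheme.image_preimage_eq_of_isPullback hX Set.univ
    simpa using this
  have hrange_k : ∀ k : Over i₀, Set.range ⇑((pbMap D i₀ g₀ f₀).app k) =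
      ⇑(p k) ⁻¹' Set.range ⇑f₀ := by
    intro k
    have := Scheme.image_preimage_eq_of_isPullback (isPullback_pbMap_app D i₀ g₀ f₀ k) Set.univ
    rw [hpdef]
    simpa using this
  have key := (preimage_subset_closure_iff (pbDiagram D i₀ g₀) (pbCone c qY g hY)
    (isLimitPbCone c hc qY g hY) k₀ hflat (⇑(p k₀) ⁻¹' Set.range ⇑f₀) Set.univ hZ'
    (isProConstructible_of_isConstructible .univ) hcons).mp (by
      have e : ∀ y : Y, p k₀ ((pbCone c qY g hY).π.app k₀ y) = qY y := fun y =>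
        congr($(hpπ k₀) y)
      have e2 : (⇑((pbCone c qY g hY).π.app k₀) ⁻¹' (⇑(p k₀) ⁻¹' Set.range ⇑f₀) : Set Y) =
          Set.range ⇑f := by
        rw [hrange_f]
        ext y
        simp only [Set.mem_preimage]
        rw [e y]
      intro x _
      have h3 : x ∈ closure (Set.range ⇑f) :=
        (dense_iff_closure_eq.mp f.denseRange).ge (Set.mem_univ x)
      rw [← e2] at h3
      exact h3)
  obtain ⟨k, ψ, hk⟩ := key
  refine ⟨k, ⟨?_⟩⟩
  rw [DenseRange, dense_iff_closure_eq, hrange_k]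
  have e3 : (⇑((pbDiagram D i₀ g₀).map ψ) ⁻¹' (⇑(p k₀) ⁻¹' Set.range ⇑f₀) :
      Set ((pbDiagram D i₀ g₀).obj k)) = ⇑(p k) ⁻¹' Set.range ⇑f₀ := by
    ext y
    simp only [Set.mem_preimage]
    have : p k₀ ((pbDiagram D i₀ g₀).map ψ y) = p k y := congr($(hpmap ψ) y)
    rw [this]
  rw [e3] at hk
  exact Set.eq_univ_of_univ_subset (by simpa using hk)

end Groth.Agent.Lib.Helper12.LimDominant
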