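import Mathlib
import Groth.Agent.Lib.Helper12.LimReduced
import Groth.Agent.Lib.Helper12.LimMaxPts

/-!
# Integrality for cofiltered limits with open-immersion transitions
-/

universe u

set_option backward.isDefEq.respectTransparency false

open CategoryTheory Limits AlgebraicGeometry Topology

namespace Groth.Agent.Lib.Helper12.LimIntegral

/-- A Noetherian quasi-sober T0 space has finitely many maximal points. -/
lemma finite_maximal_points (Y : Type*) [TopologicalSpace Y] [TopologicalSpace.NoetherianSpace Y]
    [QuasiSober Y] [T0Space Y] : {m : Y | ∀ z : Y, z ⤳ m → z = m}.Finite := by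
  refine Set.Finite.of_injOn (f := fun m : Y => closure ({m} : Set Y))
    (t := irreducibleComponents Y) ?_ ?_ TopologicalSpace.NoetherianSpace.finite_irreducibleComponents
  · intro m hm
    have hm' : ∀ z : Y, z ⤳ m → z = m := hm
    show closure {m} ∈ irreducibleComponents Y
    have hmax := irreducibleComponent_mem_irreducibleComponents m
    obtain ⟨η, hη⟩ := QuasiSober.sober (isIrreducible_irreducibleComponent (x := m))
      (isClosed_irreducibleComponent (x := m))
    have h1 : η ⤳ m := by
      rw [specializes_iff_mem_closure, hη.def]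
      exact mem_irreducibleComponent
    rw [← hm' η h1, hη.def]
    exact hmax
  · intro m _ m' _ h
    exact ((inseparable_iff_closure_eq).mpr h).eq

/-- A space with a point specializing to every point is irreducible. -/
lemma irreducibleSpace_of_forall_specializes {Y : Type*} [TopologicalSpace Y] (ξ : Y)
    (h : ∀ y : Y, ξ ⤳ y) : IrreducibleSpace Y := by
  have hgen : IsGenericPoint ξ (Set.univ : Set Y) := by
    rw [isGenericPoint_def]
    exact Set.eq_univ_of_forall (fun y => specializes_iff_mem_closure.mp (h y))
  have := hgen.isIrreducible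
  exact (irreducibleSpace_def Y).mpr this

variable {I : Type u} [SmallCategory I] [IsCofiltered I] (D : I ⥤ Scheme.{u}) (c : Cone D)
  (hc : IsLimit c)

include hc in
/-- With open-immersion transitions, if all stages below `i` are integral, so is the limit. -/
theorem isIntegral_pt_of_stages [∀ (i j : I) (f : i ⟶ j), IsAffineHom (D.map f)]
    (hoi : ∀ (i j : I) (φ : i ⟶ j), IsOpenImmersion (D.map φ)) (i : I)
    (h : ∀ (j : I) (_ : j ⟶ i), IsIntegral (D.obj j)) : IsIntegral c.pt := by
  haveI : IsIntegral (D.obj i) := h i (𝟙 i)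
  haveI : IsReduced c.pt := LimReduced.isReduced_pt_of_isReduced_stage D c hc hoi i
  have hmem : genericPoint (D.obj i) ∈ Set.range ⇑(c.π.app i) := by
    rw [Groth.Agent.S4784.result D c hc i]
    simp only [Set.mem_iInter]
    intro j φ
    haveI := hoi _ _ φ
    haveI : IsIntegral (D.obj j) := h j φ
    have hne : (Set.range ⇑(D.map φ)).Nonempty := Set.range_nonempty _
    exact ((genericPoint_spec (D.obj i)).mem_open_set_iff
      (D.map φ).isOpenEmbedding.isOpen_range).mpr (by simpa using hne)
  obtain ⟨ξ, hξ⟩ := hmem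
  have hemb := LimOpenTrans.isEmbedding_π D c hc hoi i
  haveI : IrreducibleSpace c.pt := irreducibleSpace_of_forall_specializes ξ (fun s => by
    rw [← hemb.toIsInducing.specializes_iff, hξ]
    exact genericPoint_specializes _)
  exact isIntegral_of_irreducibleSpace_of_isReduced c.pt

include hc in
/-- With open-immersion transitions and a Noetherian stage, if the limit is integral then all
sufficiently small stages are irreducible. -/
theorem exists_irreducibleSpace_stage [∀ (i j : I) (f : i ⟶ j), IsAffineHom (D.map f)] (i₀ : I)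
    [IsNoetherian (D.obj i₀)] (hoi : ∀ (i j : I) (φ : i ⟶ j), IsOpenImmersion (D.map φ))
    [IsIntegral c.pt] :
    ∃ k : Over i₀, ∀ (j : I) (g : j ⟶ k.left), IrreducibleSpace (D.obj j) := by
  classical
  let ξ : c.pt := genericPoint c.pt
  let x : D.obj i₀ := c.π.app i₀ ξ
  have hMfin := finite_maximal_points (D.obj i₀)
  have hkey : ∀ m : D.obj i₀, (∀ z : D.obj i₀, z ⤳ m → z = m) →
      (∀ k : Over i₀, m ∈ Set.range ⇑(D.map k.hom)) → m = x := by
    intro m hm hmem
    have : m ∈ Set.range ⇑(c.π.app i₀) := by
      rw [Groth.Agent.S4784.result D c hc i₀]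
      simp only [Set.mem_iInter]
      exact fun j φ => hmem (Over.mk φ)
    obtain ⟨s, rfl⟩ := this
    have hs : ξ ⤳ (show c.pt from s) := genericPoint_specializes (α := c.pt) s
    exact (hm x (hs.map (c.π.app i₀).continuous)).symm
  obtain ⟨k, hk⟩ := LimReduced.exists_forall_of_finset hMfin.toFinset
    (fun (m : D.obj i₀) (k : Over i₀) => m ≠ x → m ∉ Set.range ⇑(D.map k.hom))
    (fun m k k' (a : k' ⟶ k) h hne hmem => h hne (by
      obtain ⟨y, rfl⟩ := hmem
      refine ⟨D.map (CommaMorphism.left a) y, ?_⟩
      have : D.map k'.hom = D.map (CommaMorphism.left a) ≫ D.map k.hom := by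
        rw [← D.map_comp, Over.w a]
      rw [this]; rfl))
    (fun m hm => by
      have hm' : ∀ z : D.obj i₀, z ⤳ m → z = m := by simpa using hm
      by_cases hmx : m = x
      · exact ⟨Over.mk (𝟙 i₀), fun hne => absurd hmx hne⟩
      · by_contra hcon
        push_neg at hcon
        exact hmx (hkey m hm' (fun k => (hcon k).2)))
  refine ⟨k, fun j g => ?_⟩
  haveI := hoi _ _ (g ≫ k.hom)
  let h := D.map (g ≫ k.hom)
  have hx : h (c.π.app j ξ) = x := LimTop.map_π_apply D c (g ≫ k.hom) ξ
  refine irreducibleSpace_of_forall_specializes (c.π.app j ξ) (fun y => ?_)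
  rw [← h.isOpenEmbedding.toIsInducing.specializes_iff, hx]
  obtain ⟨m, hmy, hm⟩ := LimMaxPts.exists_maximal_generization (h y)
  have hmrange : m ∈ Set.range ⇑h := hmy.mem_open h.isOpenEmbedding.isOpen_range ⟨y, rfl⟩
  have hmx : m = x := by
    by_contra hne
    refine hk m (by simpa using hm) hne ?_
    obtain ⟨y', rfl⟩ := hmrange
    exact ⟨D.map g y', by
      have : D.map (g ≫ k.hom) = D.map g ≫ D.map k.hom := D.map_comp _ _
      show (D.map k.hom) (D.map g y') = D.map (g ≫ k.hom) y'
      rw [this]; rfl⟩
  rw [← hmx]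
  exact hmy

include hc in
/-- With open-immersion transitions and a Noetherian stage, if the limit is integral then so
are all sufficiently small stages. -/
theorem exists_isIntegral_stage [∀ (i j : I) (f : i ⟶ j), IsAffineHom (D.map f)] (i₀ : I)
    [IsNoetherian (D.obj i₀)] (hoi : ∀ (i j : I) (φ : i ⟶ j), IsOpenImmersion (D.map φ))
    [IsIntegral c.pt] :
    ∃ (i : I) (_ : i ⟶ i₀), ∀ (j : I) (_ : j ⟶ i), IsIntegral (D.obj j) := by
  obtain ⟨i₁, g₁, h₁⟩ := LimReduced.exists_isReduced_stage D c hc i₀ hoi (fun U => by
    haveI : IsNoetherianRing Γ(D.obj i₀, U.1) := IsLocallyNoetherian.component_noetherian U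
    exact (isNoetherianRing_iff_ideal_fg _).mp inferInstance _)
  obtain ⟨k, hk⟩ := exists_irreducibleSpace_stage D c hc i₀ hoi
  let l := IsCofiltered.min (Over.mk g₁) k
  refine ⟨l.left, l.hom, fun j g => ?_⟩
  haveI : IsReduced (D.obj j) := h₁ j (g ≫ (IsCofiltered.minToLeft (Over.mk g₁) k).left)
  haveI : IrreducibleSpace (D.obj j) := hk j (g ≫ (IsCofiltered.minToRight (Over.mk g₁) k).left)
  exact isIntegral_of_irreducibleSpace_of_isReduced _

end Groth.Agent.Lib.Helper12.LimIntegral
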