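import Mathlib
import Groth.Agent.Lib.Helper12.LimIntegral
import Groth.Agent.Lib.Helper12.LimDominant

/-!
# Irreducible components of cofiltered limits whose transition maps are embeddings
-/

universe u

set_option backward.isDefEq.respectTransparency false

open CategoryTheory Limits AlgebraicGeometry Topology

namespace Groth.Agent.Lib.Helper12.LimIrredComp

section Top

variable {X : Type*} [TopologicalSpace X] [QuasiSober X] [T0Space X]

lemma closure_singleton_mem_irreducibleComponents {m : X} (hm : ∀ z : X, z ⤳ m → z = m) :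
    closure ({m} : Set X) ∈ irreducibleComponents X := by
  have hmax := irreducibleComponent_mem_irreducibleComponents m
  obtain ⟨η, hη⟩ := QuasiSober.sober (isIrreducible_irreducibleComponent (x := m))
    (isClosed_irreducibleComponent (x := m))
  have h1 : η ⤳ m := by
    rw [specializes_iff_mem_closure, hη.def]
    exact mem_irreducibleComponent
  rw [← hm η h1, hη.def]
  exact hmax

lemma exists_maximal_of_mem_irreducibleComponents {W : Set X} (hW : W ∈ irreducibleComponents X) :
    ∃ m : X, (∀ z : X, z ⤳ m → z = m) ∧ W = closure {m} := by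
  have hW' : Maximal IsIrreducible W := hW
  obtain ⟨m, hm⟩ := QuasiSober.sober hW'.1 (isClosed_of_mem_irreducibleComponents W hW)
  refine ⟨m, fun z hz => ?_, hm.def.symm⟩
  have h1 : closure {m} ⊆ closure {z} := specializes_iff_closure_subset.mp hz
  have h2 : IsIrreducible (closure ({z} : Set X)) := isIrreducible_singleton.closure
  have h3 : W ⊆ closure {z} := by rw [← hm.def]; exact h1
  have h4 : W = closure {z} := (hW'.eq_of_ge h2 h3).symm
  have h5 : closure ({z} : Set X) = closure {m} := by rw [← h4, hm.def]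
  exact ((inseparable_iff_closure_eq).mpr h5).eq

end Top

section DomEmb

variable {X X' : Scheme.{u}} (f : X ⟶ X') [QuasiCompact f]

/-- Maximal points of the target of a dominant quasi-compact embedding lift to maximal points. -/
lemma exists_isMax_of_dominant_embedding (he : IsEmbedding ⇑f) (hd : DenseRange ⇑f) {m : X'}
    (hm : ∀ z : X', z ⤳ m → z = m) : ∃ t : X, (∀ z : X, z ⤳ t → z = t) ∧ f t = m := by
  have hmem : m ∈ closure (Set.range ⇑f) := by rw [hd.closure_range]; trivial
  obtain ⟨_, ⟨t, rfl⟩, ht⟩ := Groth.Agent.Lib.Helper26.ProConsSch.exists_specializes_of_mem_closure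
    (LimDominant.isProConstructible_range f) hmem
  have htm : f t = m := hm _ ht
  refine ⟨t, fun z hz => ?_, htm⟩
  apply he.injective
  rw [htm]
  exact hm _ (htm ▸ hz.map f.continuous)

/-- A dominant quasi-compact embedding maps maximal points to maximal points. -/
lemma isMax_map_of_dominant_embedding (he : IsEmbedding ⇑f) (hd : DenseRange ⇑f) {y : X}
    (hy : ∀ z : X, z ⤳ y → z = y) : ∀ z : X', z ⤳ f y → z = f y := by
  obtain ⟨m, hmy, hm⟩ := LimMaxPts.exists_maximal_generization (f y)
  obtain ⟨t, -, rfl⟩ := exists_isMax_of_dominant_embedding f he hd hm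
  have : t ⤳ y := he.toIsInducing.specializes_iff.mp hmy
  rw [← hy t this]
  exact hm

end DomEmb

variable {I : Type u} [SmallCategory I] [IsCofiltered I] (D : I ⥤ Scheme.{u}) (c : Cone D)
  (hc : IsLimit c)

omit [IsCofiltered I] in
/-- With embedding transitions and a Noetherian stage, the transition maps are eventually
dominant. -/
theorem exists_dominant_stage (i₀ : I) [TopologicalSpace.NoetherianSpace (D.obj i₀)]
    (he : ∀ (i j : I) (φ : i ⟶ j), IsEmbedding ⇑(D.map φ)) :
    ∃ (i₁ : I) (_ : i₁ ⟶ i₀), ∀ (j : I) (φ : j ⟶ i₁), DenseRange ⇑(D.map φ) := by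
  let F : Over i₀ → TopologicalSpace.Closeds (D.obj i₀) := fun k =>
    ⟨closure (Set.range ⇑(D.map k.hom)), isClosed_closure⟩
  obtain ⟨_, ⟨k₀, rfl⟩, hmin⟩ := WellFounded.has_min
    (wellFounded_lt (α := TopologicalSpace.Closeds (D.obj i₀))) (Set.range F)
    ⟨F (Over.mk (𝟙 i₀)), Set.mem_range_self _⟩
  refine ⟨k₀.left, k₀.hom, fun j φ => ?_⟩
  have hrange : Set.range ⇑(D.map (φ ≫ k₀.hom)) = ⇑(D.map k₀.hom) '' Set.range ⇑(D.map φ) := by
    rw [D.map_comp, ← Set.range_comp]
    rfl
  have hle : F (Over.mk (φ ≫ k₀.hom)) ≤ F k₀ := by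
    show closure (Set.range ⇑(D.map (φ ≫ k₀.hom))) ⊆ closure (Set.range ⇑(D.map k₀.hom))
    rw [hrange]
    exact closure_mono (Set.image_subset_range _ _)
  have heq : F (Over.mk (φ ≫ k₀.hom)) = F k₀ := by
    by_contra hne
    exact hmin _ (Set.mem_range_self _) (lt_of_le_of_ne hle hne)
  have heq' : closure (Set.range ⇑(D.map (φ ≫ k₀.hom))) = closure (Set.range ⇑(D.map k₀.hom)) :=
    congrArg (fun Z : TopologicalSpace.Closeds (D.obj i₀) => (Z : Set (D.obj i₀))) heq
  intro y
  rw [(he _ _ k₀.hom).toIsInducing.closure_eq_preimage_closure_image, Set.mem_preimage, ← hrange,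
    heq']
  exact subset_closure (Set.mem_range_self y)

include hc in
/-- With embedding transitions the projections from the limit are injective. -/
lemma injective_π [∀ (i j : I) (f : i ⟶ j), IsAffineHom (D.map f)]
    (he : ∀ (i j : I) (φ : i ⟶ j), IsEmbedding ⇑(D.map φ)) (j : I) :
    Function.Injective ⇑(c.π.app j) := by
  intro s s' h
  refine LimTop.eq_of_forall_π_eq D c hc (fun k => ?_)
  have h1 : c.π.app (IsCofiltered.min j k) s = c.π.app (IsCofiltered.min j k) s' := by
    apply (he _ _ (IsCofiltered.minToLeft j k)).injective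
    rw [LimTop.map_π_apply D c _ s, LimTop.map_π_apply D c _ s', h]
  rw [← LimTop.map_π_apply D c (IsCofiltered.minToRight j k) s,
    ← LimTop.map_π_apply D c (IsCofiltered.minToRight j k) s', h1]

omit [IsCofiltered I] in
/-- dominance of all transitions over `i₁` -/
lemma denseRange_over (i₁ : I) (he : ∀ (i j : I) (φ : i ⟶ j), IsEmbedding ⇑(D.map φ))
    (hd : ∀ (j : I) (φ : j ⟶ i₁), DenseRange ⇑(D.map φ)) (k k' : Over i₁) (a : k ⟶ k') :
    DenseRange ⇑(D.map a.left) := by
  intro y
  have hrange : Set.range ⇑(D.map k.hom) = ⇑(D.map k'.hom) '' Set.range ⇑(D.map a.left) := by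
    rw [← Over.w a, D.map_comp, ← Set.range_comp]
    rfl
  rw [(he _ _ k'.hom).toIsInducing.closure_eq_preimage_closure_image, Set.mem_preimage, ← hrange,
    (hd _ k.hom).closure_range]
  trivial

include hc in
/-- Maximal points of the limit are the points with maximal image in a stage over `i₁`. -/
lemma isMax_iff_isMax_π [∀ (i j : I) (f : i ⟶ j), IsAffineHom (D.map f)] (i₁ : I)
    [TopologicalSpace.NoetherianSpace (D.obj i₁)]
    (he : ∀ (i j : I) (φ : i ⟶ j), IsEmbedding ⇑(D.map φ))
    (hd : ∀ (j : I) (φ : j ⟶ i₁), DenseRange ⇑(D.map φ)) (j : I) (g : j ⟶ i₁) (s : c.pt) :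
    (∀ z : c.pt, z ⤳ s → z = s) ↔ ∀ z : D.obj j, z ⤳ c.π.app j s → z = c.π.app j s := by
  let D₁ : Over i₁ ⥤ Scheme.{u} := Over.forget i₁ ⋙ D
  let c₁ : Cone D₁ := c.whisker (Over.forget i₁)
  have hc₁ : IsLimit c₁ := (Functor.Initial.isLimitWhiskerEquiv (Over.forget i₁) c).symm hc
  haveI : ∀ (k k' : Over i₁) (f : k ⟶ k'), IsAffineHom (D₁.map f) := fun k k' f =>
    inferInstanceAs (IsAffineHom (D.map f.left))
  have hfin : ∀ k : Over i₁, {s : D.obj k.left | ∀ z : D.obj k.left, z ⤳ s → z = s}.Finite := by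
    intro k
    haveI : TopologicalSpace.NoetherianSpace (D.obj k.left) :=
      (he _ _ k.hom).toIsInducing.noetherianSpace
    exact LimIntegral.finite_maximal_points _
  have hsys : ∀ (k k' : Over i₁) (a : k ⟶ k') (s : D.obj k.left),
      (∀ z : D.obj k.left, z ⤳ s → z = s) →
      ∀ z : D.obj k'.left, z ⤳ D.map a.left s → z = D.map a.left s :=
    fun k k' a s hs => isMax_map_of_dominant_embedding (D.map a.left) (he _ _ _)
      (denseRange_over D i₁ he hd k k' a) hs
  constructor
  · intro hs z hz
    exact LimMaxPts.isMax_π_of_isMax D₁ c₁ hc₁ hfin hsys hs (Over.mk g) z hz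
  · intro hs z hz
    exact injective_π D c hc he j (hs _ (hz.map (c.π.app j).continuous))

include hc in
/-- Maximal points of a stage over `i₁` lift to the limit. -/
lemma exists_π_eq_of_isMax [∀ (i j : I) (f : i ⟶ j), IsAffineHom (D.map f)] (i₁ : I)
    (he : ∀ (i j : I) (φ : i ⟶ j), IsEmbedding ⇑(D.map φ))
    (hd : ∀ (j : I) (φ : j ⟶ i₁), DenseRange ⇑(D.map φ)) (j : I) (g : j ⟶ i₁) (y : D.obj j)
    (hy : ∀ z : D.obj j, z ⤳ y → z = y) : ∃ s : c.pt, c.π.app j s = y := by
  have hmem : y ∈ Set.range ⇑(c.π.app j) := by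
    rw [Groth.Agent.S4784.result D c hc j]
    simp only [Set.mem_iInter]
    intro k φ
    obtain ⟨t, -, ht⟩ := exists_isMax_of_dominant_embedding (D.map φ) (he _ _ _)
      (denseRange_over D i₁ he hd (Over.mk (φ ≫ g)) (Over.mk g) (Over.homMk φ)) hy
    exact ⟨t, ht⟩
  exact hmem

include hc in
/-- If all transition maps over `i₁` are dominant embeddings and `S_{i₁}` is a Noetherian space,
then irreducible components of the limit correspond to those of every stage over `i₁`. -/
theorem bijOn_irreducibleComponents [∀ (i j : I) (f : i ⟶ j), IsAffineHom (D.map f)] (i₁ : I)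
    [TopologicalSpace.NoetherianSpace (D.obj i₁)]
    (he : ∀ (i j : I) (φ : i ⟶ j), IsEmbedding ⇑(D.map φ))
    (hd : ∀ (j : I) (φ : j ⟶ i₁), DenseRange ⇑(D.map φ)) (j : I) (g : j ⟶ i₁) :
    Set.BijOn (fun Y : Set c.pt => closure (⇑(c.π.app j) '' Y : Set (D.obj j)))
      (irreducibleComponents c.pt) (irreducibleComponents (D.obj j)) := by
  have hinj := injective_π D c hc he j
  have hmaxS := isMax_iff_isMax_π D c hc i₁ he hd j g
  have hcl : ∀ s : c.pt, closure (⇑(c.π.app j) '' closure {s}) = closure {c.π.app j s} := by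
    intro s
    rw [closure_image_closure (c.π.app j).continuous, Set.image_singleton]
  refine ⟨?_, ?_, ?_⟩
  · intro W hW
    obtain ⟨s, hs, rfl⟩ := exists_maximal_of_mem_irreducibleComponents hW
    show closure (⇑(c.π.app j) '' closure {s}) ∈ irreducibleComponents (D.obj j)
    rw [hcl]
    exact closure_singleton_mem_irreducibleComponents ((hmaxS s).mp hs)
  · intro W hW W' hW' h
    obtain ⟨s, hs, rfl⟩ := exists_maximal_of_mem_irreducibleComponents hW
    obtain ⟨s', hs', rfl⟩ := exists_maximal_of_mem_irreducibleComponents hW'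
    have h' : closure {c.π.app j s} = closure {c.π.app j s'} := by
      rw [← hcl, ← hcl]; exact h
    have : c.π.app j s = c.π.app j s' := ((inseparable_iff_closure_eq).mpr h').eq
    rw [hinj this]
  · intro V hV
    obtain ⟨y, hy, rfl⟩ := exists_maximal_of_mem_irreducibleComponents hV
    obtain ⟨s, rfl⟩ := exists_π_eq_of_isMax D c hc i₁ he hd j g y hy
    refine ⟨closure {s}, closure_singleton_mem_irreducibleComponents ((hmaxS s).mpr hy), ?_⟩
    exact hcl s

end Groth.Agent.Lib.Helper12.LimIrredComp
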