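import Mathlib
import Groth.Agent.Lib.Helper12.LimIrredComp

/-!
# Connected components of cofiltered limits whose transition maps are embeddings
-/

universe u

set_option backward.isDefEq.respectTransparency false

open CategoryTheory Limits AlgebraicGeometry Topology

namespace Groth.Agent.Lib.Helper12.LimConnComp

section Top

variable {X : Type*} [TopologicalSpace X]

/-- In a Noetherian space connected components are open. -/
lemma isOpen_connectedComponent_of_noetherianSpace [TopologicalSpace.NoetherianSpace X] (x : X) :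
    IsOpen (connectedComponent x) := by
  rw [← isClosed_compl_iff]
  have hfin := TopologicalSpace.NoetherianSpace.finite_irreducibleComponents (α := X)
  have heq : (connectedComponent x)ᶜ =
      ⋃ Z ∈ {Z ∈ irreducibleComponents X | ¬ Z ⊆ connectedComponent x}, Z := by
    ext y
    simp only [Set.mem_compl_iff, Set.mem_iUnion, Set.mem_setOf_eq, exists_prop]
    constructor
    · intro hy
      refine ⟨irreducibleComponent y, ⟨irreducibleComponent_mem_irreducibleComponents y, ?_⟩,
        mem_irreducibleComponent⟩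
      intro hsub
      exact hy (hsub mem_irreducibleComponent)
    · rintro ⟨Z, ⟨hZ, hZsub⟩, hyZ⟩ hy
      apply hZsub
      have hZ' : Maximal IsIrreducible Z := hZ
      have h1 : Z ⊆ connectedComponent y :=
        hZ'.1.isConnected.isPreconnected.subset_connectedComponent hyZ
      rwa [← connectedComponent_eq hy] at h1
  rw [heq]
  exact (hfin.subset (fun Z hZ => hZ.1)).isClosed_biUnion
    (fun Z hZ => isClosed_of_mem_irreducibleComponents Z hZ.1)

lemma isClopen_connectedComponent_of_noetherianSpace [TopologicalSpace.NoetherianSpace X] (x : X) :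
    IsClopen (connectedComponent x) :=
  ⟨isClosed_connectedComponent, isOpen_connectedComponent_of_noetherianSpace x⟩

/-- A generization of a point lies in its connected component. -/
lemma connectedComponent_eq_of_specializes {z t : X} (h : z ⤳ t) :
    connectedComponent z = connectedComponent t := by
  have h1 : IsPreconnected (closure ({z} : Set X)) := isPreconnected_singleton.closure
  have h2 : t ∈ closure ({z} : Set X) := specializes_iff_mem_closure.mp h
  have h3 : z ∈ connectedComponent t :=
    h1.subset_connectedComponent h2 (subset_closure rfl)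
  exact (connectedComponent_eq h3).symm

end Top

variable {I : Type u} [SmallCategory I] [IsCofiltered I] (D : I ⥤ Scheme.{u}) (c : Cone D)
  (hc : IsLimit c)

include hc in
/-- With embedding transitions the projections from the limit are embeddings. -/
theorem isEmbedding_π [∀ (i j : I) (f : i ⟶ j), IsAffineHom (D.map f)]
    (he : ∀ (i j : I) (φ : i ⟶ j), IsEmbedding ⇑(D.map φ)) (i : I) :
    IsEmbedding ⇑(c.π.app i) := by
  refine ⟨⟨le_antisymm (continuous_iff_le_induced.mp (c.π.app i).continuous) ?_⟩,
    LimIrredComp.injective_π D c hc he i⟩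
  intro U hU
  rw [@isOpen_iff_forall_mem_open _ (TopologicalSpace.induced _ _)]
  intro s hs
  obtain ⟨j, O, hsO, hsub⟩ := LimTop.exists_preimage_subset_of_isOpen D c hc hU hs
  let a : IsCofiltered.min i j ⟶ i := IsCofiltered.minToLeft i j
  let b : IsCofiltered.min i j ⟶ j := IsCofiltered.minToRight i j
  obtain ⟨O', hO', hO'eq⟩ := (he _ _ a).toIsInducing.isOpen_iff.mp
    (O.2.preimage (D.map b).continuous)
  have hpre : ⇑(c.π.app i) ⁻¹' O' = ⇑(c.π.app j) ⁻¹' (O : Set (D.obj j)) := by
    ext w
    simp only [Set.mem_preimage]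
    rw [← LimTop.map_π_apply D c a w, ← LimTop.map_π_apply D c b w]
    exact Set.ext_iff.mp hO'eq (c.π.app _ w)
  refine ⟨_, ?_, isOpen_induced hO', ?_⟩
  · rw [hpre]; exact hsub
  · rw [hpre]; exact hsO

include hc in
/-- A clopen subset of the limit comes from a clopen subset of a stage. -/
theorem exists_isClopen_preimage_eq [∀ (i j : I) (f : i ⟶ j), IsAffineHom (D.map f)] (i₁ : I)
    [TopologicalSpace.NoetherianSpace (D.obj i₁)]
    (he : ∀ (i j : I) (φ : i ⟶ j), IsEmbedding ⇑(D.map φ))
    (hd : ∀ (j : I) (φ : j ⟶ i₁), DenseRange ⇑(D.map φ)) {A : Set c.pt} (hA : IsClopen A) :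
    ∃ (j : I) (_ : j ⟶ i₁) (A' : Set (D.obj j)), IsClopen A' ∧ ⇑(c.π.app j) ⁻¹' A' = A := by
  haveI : ∀ {i j : I} (f : i ⟶ j), IsAffineHom (D.map f) := fun f => inferInstance
  have hemb := isEmbedding_π D c hc he i₁
  let A₁ : Set (D.obj i₁) := closure (⇑(c.π.app i₁) '' A)
  let B₁ : Set (D.obj i₁) := closure (⇑(c.π.app i₁) '' Aᶜ)
  have hA₁ : ⇑(c.π.app i₁) ⁻¹' A₁ = A := by
    rw [← hemb.closure_eq_preimage_closure_image, hA.1.closure_eq]
  have hB₁ : ⇑(c.π.app i₁) ⁻¹' B₁ = Aᶜ := by
    rw [← hemb.closure_eq_preimage_closure_image, hA.2.isClosed_compl.closure_eq]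
  -- the projection has dense image
  have hdense : A₁ ∪ B₁ = Set.univ := by
    rw [← closure_union, ← Set.image_union, Set.union_compl_self, Set.image_univ]
    refine Set.eq_univ_of_forall (fun y => ?_)
    obtain ⟨m, hmy, hm⟩ := LimMaxPts.exists_maximal_generization y
    obtain ⟨s, rfl⟩ := LimIrredComp.exists_π_eq_of_isMax D c hc i₁ he hd i₁ (𝟙 i₁) m hm
    exact closure_mono (Set.singleton_subset_iff.mpr (Set.mem_range_self s))
      (specializes_iff_mem_closure.mp hmy)
  -- the intersection dies at a later stage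
  obtain ⟨j, φ, hemp⟩ : ∃ (j : I) (φ : j ⟶ i₁), ⇑(D.map φ) ⁻¹' (A₁ ∩ B₁) = ∅ := by
    by_contra hcon
    push_neg at hcon
    obtain ⟨s, hs⟩ := exists_mem_of_isClosed_of_nonempty' D c hc
      (fun j (φ : j ⟶ i₁) => ⇑(D.map φ) ⁻¹' (A₁ ∩ B₁))
      (fun j φ => (isClosed_closure.inter isClosed_closure).preimage (D.map φ).continuous)
      (fun j φ => hcon j φ)
      (fun j φ => by
        haveI : TopologicalSpace.NoetherianSpace (D.obj j) :=
          (he _ _ φ).toIsInducing.noetherianSpace
        exact TopologicalSpace.NoetherianSpace.isCompact _)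
      (fun j j' a φ y hy => by
        show D.map φ (D.map a y) ∈ A₁ ∩ B₁
        have : D.map (a ≫ φ) y ∈ A₁ ∩ B₁ := hy
        rw [D.map_comp] at this
        exact this)
    have h1 := hs i₁ (𝟙 i₁)
    have h2 : c.π.app i₁ s ∈ A₁ ∩ B₁ := by
      have : D.map (𝟙 i₁) (c.π.app i₁ s) ∈ A₁ ∩ B₁ := h1
      rwa [D.map_id] at this
    have h3 : s ∈ A := by rw [← hA₁]; exact h2.1
    have h4 : s ∈ Aᶜ := by rw [← hB₁]; exact h2.2
    exact h4 h3
  refine ⟨j, φ, ⇑(D.map φ) ⁻¹' A₁, ⟨isClosed_closure.preimage (D.map φ).continuous, ?_⟩, ?_⟩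
  · have hcompl : ⇑(D.map φ) ⁻¹' A₁ = (⇑(D.map φ) ⁻¹' B₁)ᶜ := by
      ext y
      simp only [Set.mem_preimage, Set.mem_compl_iff]
      constructor
      · intro h1 h2
        have : y ∈ ⇑(D.map φ) ⁻¹' (A₁ ∩ B₁) := ⟨h1, h2⟩
        rw [hemp] at this
        exact this
      · intro h2
        have : D.map φ y ∈ A₁ ∪ B₁ := by rw [hdense]; trivial
        exact this.resolve_right h2
    rw [hcompl]
    exact (isClosed_closure.preimage (D.map φ).continuous).isOpen_compl
  · rw [← hA₁]
    ext w
    simp only [Set.mem_preimage]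
    rw [LimTop.map_π_apply D c φ w]

include hc in
/-- Eventually, the stages detect whether two points of the limit lie in the same connected
component. -/
theorem exists_stage_connectedComponent_reflect [∀ (i j : I) (f : i ⟶ j), IsAffineHom (D.map f)]
    (i₁ : I) [TopologicalSpace.NoetherianSpace (D.obj i₁)] [TopologicalSpace.NoetherianSpace c.pt]
    (he : ∀ (i j : I) (φ : i ⟶ j), IsEmbedding ⇑(D.map φ))
    (hd : ∀ (j : I) (φ : j ⟶ i₁), DenseRange ⇑(D.map φ)) :
    ∃ k₂ : Over i₁, ∀ (j : I) (_ : j ⟶ k₂.left) (s s' : c.pt),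
      connectedComponent (c.π.app j s) = connectedComponent (c.π.app j s') →
        connectedComponent s = connectedComponent s' := by
  classical
  have hMfin := LimIntegral.finite_maximal_points c.pt
  obtain ⟨k₂, hk₂⟩ := LimReduced.exists_forall_of_finset (hMfin.toFinset ×ˢ hMfin.toFinset)
    (fun (p : c.pt × c.pt) (k : Over i₁) => connectedComponent p.1 ≠ connectedComponent p.2 →
      ∀ (j : I) (_ : j ⟶ k.left),
        connectedComponent (c.π.app j p.1) ≠ connectedComponent (c.π.app j p.2))
    (fun p k k' (a : k' ⟶ k) h hne j g => h hne j (g ≫ CommaMorphism.left a))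
    (fun p _ => by
      by_cases hp : connectedComponent p.1 = connectedComponent p.2
      · exact ⟨Over.mk (𝟙 i₁), fun hne => absurd hp hne⟩
      · obtain ⟨j₀, φ₀, A', hA', hA'eq⟩ := exists_isClopen_preimage_eq D c hc i₁ he hd
          (isClopen_connectedComponent_of_noetherianSpace p.1)
        refine ⟨Over.mk φ₀, fun _ j (g : j ⟶ j₀) heq => ?_⟩
        have hcl : IsClopen (⇑(D.map g) ⁻¹' A') := hA'.preimage (D.map g).continuous
        have h1 : c.π.app j p.1 ∈ ⇑(D.map g) ⁻¹' A' := by
          show D.map g (c.π.app j p.1) ∈ A'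
          rw [LimTop.map_π_apply D c g p.1]
          have : p.1 ∈ ⇑(c.π.app j₀) ⁻¹' A' := by rw [hA'eq]; exact mem_connectedComponent
          exact this
        have h2 : c.π.app j p.2 ∈ ⇑(D.map g) ⁻¹' A' := by
          have := hcl.connectedComponent_subset h1
          rw [heq] at this
          exact this mem_connectedComponent
        have h3 : p.2 ∈ connectedComponent p.1 := by
          rw [← hA'eq]
          show c.π.app j₀ p.2 ∈ A'
          rw [← LimTop.map_π_apply D c g p.2]
          exact h2
        exact hp (connectedComponent_eq h3))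
  refine ⟨k₂, fun j g s s' h => ?_⟩
  obtain ⟨a, has, ha⟩ := LimMaxPts.exists_maximal_generization s
  obtain ⟨b, hbs, hb⟩ := LimMaxPts.exists_maximal_generization s'
  rw [← connectedComponent_eq_of_specializes has, ← connectedComponent_eq_of_specializes hbs]
  by_contra hne
  refine hk₂ (a, b) (Finset.mem_product.mpr
    ⟨hMfin.mem_toFinset.mpr ha, hMfin.mem_toFinset.mpr hb⟩) hne j g ?_
  rw [connectedComponent_eq_of_specializes (has.map (c.π.app j).continuous),
    connectedComponent_eq_of_specializes (hbs.map (c.π.app j).continuous)]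
  exact h

include hc in
/-- If all transition maps over `i₁` are dominant embeddings, `S_{i₁}` and the limit are
Noetherian spaces, then eventually connected components of the limit correspond to those of the
stages. -/
theorem exists_bijOn_connectedComponents [∀ (i j : I) (f : i ⟶ j), IsAffineHom (D.map f)]
    (i₁ : I) [TopologicalSpace.NoetherianSpace (D.obj i₁)] [TopologicalSpace.NoetherianSpace c.pt]
    (he : ∀ (i j : I) (φ : i ⟶ j), IsEmbedding ⇑(D.map φ))
    (hd : ∀ (j : I) (φ : j ⟶ i₁), DenseRange ⇑(D.map φ)) :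
    ∃ k₂ : Over i₁, ∀ (j : I) (_ : j ⟶ k₂.left),
      Set.BijOn (fun C : Set c.pt => closure (⇑(c.π.app j) '' C : Set (D.obj j)))
        (Set.range (connectedComponent : c.pt → Set c.pt))
        (Set.range (connectedComponent : D.obj j → Set (D.obj j))) := by
  obtain ⟨k₂, hk₂⟩ := exists_stage_connectedComponent_reflect D c hc i₁ he hd
  refine ⟨k₂, fun j g => ?_⟩
  have hlift : ∀ y : D.obj j, ∃ s : c.pt,
      connectedComponent (c.π.app j s) = connectedComponent y ∧
        y ∈ closure ({c.π.app j s} : Set (D.obj j)) := by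
    intro y
    obtain ⟨m, hmy, hm⟩ := LimMaxPts.exists_maximal_generization y
    obtain ⟨s, rfl⟩ := LimIrredComp.exists_π_eq_of_isMax D c hc i₁ he hd j (g ≫ k₂.hom) m hm
    exact ⟨s, connectedComponent_eq_of_specializes hmy, specializes_iff_mem_closure.mp hmy⟩
  have hkey : ∀ s : c.pt, closure (⇑(c.π.app j) '' connectedComponent s) =
      connectedComponent (c.π.app j s) := by
    intro s
    apply subset_antisymm
    · rw [isClosed_connectedComponent.closure_subset_iff]
      exact (isPreconnected_connectedComponent.image _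
        (c.π.app j).continuous.continuousOn).subset_connectedComponent
        ⟨s, mem_connectedComponent, rfl⟩
    · intro y hy
      obtain ⟨t, ht1, ht2⟩ := hlift y
      have h1 : connectedComponent (c.π.app j t) = connectedComponent (c.π.app j s) := by
        rw [ht1]; exact (connectedComponent_eq hy).symm
      have h2 : connectedComponent t = connectedComponent s := hk₂ j g t s h1
      have h3 : t ∈ connectedComponent s := by rw [← h2]; exact mem_connectedComponent
      have h4 : c.π.app j t ∈ ⇑(c.π.app j) '' connectedComponent s := ⟨t, h3, rfl⟩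
      exact closure_mono (Set.singleton_subset_iff.mpr h4) ht2
  refine ⟨?_, ?_, ?_⟩
  · rintro _ ⟨s, rfl⟩
    exact ⟨c.π.app j s, (hkey s).symm⟩
  · rintro _ ⟨s, rfl⟩ _ ⟨s', rfl⟩ h
    have h' : connectedComponent (c.π.app j s) = connectedComponent (c.π.app j s') := by
      rw [← hkey, ← hkey]; exact h
    exact hk₂ j g s s' h'
  · rintro _ ⟨y, rfl⟩
    obtain ⟨t, ht1, -⟩ := hlift y
    exact ⟨connectedComponent t, ⟨t, rfl⟩, by rw [← ht1]; exact hkey t⟩

end Groth.Agent.Lib.Helper12.LimConnComp
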