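import Mathlib
import Groth.Agent.Lib.Helper12.TopFibreDim
import Groth.Agent.Lib.Helper12.ChevalleyCor
import Groth.Agent.Lib.Helper12.LimTop
import Groth.Agent.Lib.Helper12.LimConnComp
import Groth.Agent.S9358
import Groth.Agent.S4784

/-!
# Fibre dimension at a finite stage for systems of morphisms with closed-immersion comparison maps
-/

universe u

set_option backward.isDefEq.respectTransparency false

open CategoryTheory Limits AlgebraicGeometry TopologicalSpace Topology

namespace Groth.Agent.Lib.Helper12.FibreDimStage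

open Groth.Agent.Lib.Helper12.TopFibreDim Groth.Agent.Lib.Helper12.ChevalleyCor
  Groth.Agent.Lib.Helper12.Chevalley

section Top

variable {A B C : Type*} [TopologicalSpace A] [TopologicalSpace B] [TopologicalSpace C]

/-- Local dimension is monotone along inducing maps. -/
theorem localDim_le_of_isInducing (j : A → B) (hj : IsInducing j) (a : A) :
    FlatMor.localDim A a ≤ FlatMor.localDim B (j a) := by
  unfold FlatMor.localDim
  refine le_iInf fun U => ?_
  let U' : {U : Opens A // a ∈ U} := ⟨⟨j ⁻¹' U.1, U.1.2.preimage hj.continuous⟩, U.2⟩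
  refine (iInf_le _ U').trans ?_
  exact (hj.restrictPreimage (U.1 : Set B)).topologicalKrullDim_le

/-- The fibre dimension does not increase under precomposition with an inducing map. -/
theorem topFibreDim_comp_le_of_isInducing (q : B → C) (ι : A → B) (hι : IsInducing ι) (a : A) :
    topFibreDim (q ∘ ι) a ≤ topFibreDim q (ι a) := by
  unfold topFibreDim
  exact localDim_le_of_isInducing ((q ⁻¹' {q (ι a)}).restrictPreimage ι)
    (hι.restrictPreimage _) ⟨a, rfl⟩

end Top

/-- The fibre dimension does not increase along a closed immersion (or any preimmersion). -/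
theorem fibreDimAt_comp_le {X P S : Scheme.{u}} (ι : X ⟶ P) [IsPreimmersion ι] (q : P ⟶ S)
    (x : X) : FlatMor.fibreDimAt (ι ≫ q) x ≤ FlatMor.fibreDimAt q (ι x) := by
  rw [fibreDimAt_eq_topFibreDim, fibreDimAt_eq_topFibreDim]
  have h : ⇑(ι ≫ q).base = ⇑q.base ∘ ⇑ι.base := by
    ext z; simp
  rw [topFibreDim_congr h]
  exact topFibreDim_comp_le_of_isInducing _ _ ι.isEmbedding.isInducing x

theorem fibreDimAt_congr {X S : Scheme.{u}} {f g : X ⟶ S} (h : f = g) (x : X) :
    FlatMor.fibreDimAt f x = FlatMor.fibreDimAt g x := by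
  subst h; rfl

section System

variable {I : Type u} [SmallCategory I]
  (DX DS : I ⥤ Scheme.{u}) (φ : DX ⟶ DS)

/-- The comparison map `X_i ⟶ X_j ×_{S_j} S_i`. -/
noncomputable abbrev cmp {i j : I} (a : i ⟶ j) : DX.obj i ⟶ pullback (φ.app j) (DS.map a) :=
  pullback.lift (DX.map a) (φ.app i) (φ.naturality a)

variable (hcl : ∀ (i j : I) (a : i ⟶ j), IsClosedImmersion (cmp DX DS φ a))

include hcl in
lemma isAffineHom_map [∀ (i j : I) (a : i ⟶ j), IsAffineHom (DS.map a)] {i j : I} (a : i ⟶ j) :
    IsAffineHom (DX.map a) := by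
  haveI := hcl i j a
  have : DX.map a = cmp DX DS φ a ≫ pullback.fst (φ.app j) (DS.map a) :=
    (pullback.lift_fst _ _ _).symm
  rw [this]
  haveI : IsAffineHom (pullback.fst (φ.app j) (DS.map a)) :=
    MorphismProperty.pullback_fst (P := @IsAffineHom) _ _ inferInstance
  haveI : IsAffineHom (cmp DX DS φ a) := inferInstance
  exact MorphismProperty.comp_mem (W := @IsAffineHom) _ _ inferInstance inferInstance

include hcl in
/-- The bad loci are compatible with the transition maps. -/
lemma fibreDimAt_le_of_map [∀ i, LocallyOfFiniteType (φ.app i)] {i j : I} (a : i ⟶ j)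
    (x : DX.obj i) (n : ℕ)
    (h : FlatMor.fibreDimAt (φ.app j) (DX.map a x) ≤ (n : WithBot ℕ∞)) :
    FlatMor.fibreDimAt (φ.app i) x ≤ (n : WithBot ℕ∞) := by
  haveI := hcl i j a
  have e1 : φ.app i = cmp DX DS φ a ≫ pullback.snd (φ.app j) (DS.map a) :=
    (pullback.lift_snd _ _ _).symm
  have e2 : DX.map a = cmp DX DS φ a ≫ pullback.fst (φ.app j) (DS.map a) :=
    (pullback.lift_fst _ _ _).symm
  rw [fibreDimAt_congr e1]
  refine (fibreDimAt_comp_le _ _ x).trans ?_
  have hsq : IsPullback (pullback.fst (φ.app j) (DS.map a)) (pullback.snd (φ.app j) (DS.map a))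
      (φ.app j) (DS.map a) := IsPullback.of_hasPullback _ _
  rw [(Groth.Agent.S9358.result (φ.app j) (DS.map a) _ _ hsq n).1 (cmp DX DS φ a x)]
  have e3 : pullback.fst (φ.app j) (DS.map a) (cmp DX DS φ a x) = DX.map a x := by
    rw [← Scheme.Hom.comp_apply, ← e2]
  rw [e3]
  exact h

end System

section BaseChange

variable {I : Type u} [SmallCategory I]
  (DX DS : I ⥤ Scheme.{u}) (φ : DX ⟶ DS) (cX : Cone DX) (cS : Cone DS)
  (f : cX.pt ⟶ cS.pt) (hf : ∀ i, f ≫ cS.π.app i = cX.π.app i ≫ φ.app i)
  {T : Scheme.{u}} (σ : T ⟶ cS.pt)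

/-- The system `i ↦ X_i ×_{S_i} T`. -/
noncomputable def bcDiagram : I ⥤ Scheme.{u} where
  obj i := pullback (φ.app i) (σ ≫ cS.π.app i)
  map {i j} a := pullback.map (φ.app i) (σ ≫ cS.π.app i) (φ.app j) (σ ≫ cS.π.app j)
    (DX.map a) (𝟙 T) (DS.map a) (φ.naturality a).symm
    (by rw [Category.assoc, cS.w a, Category.id_comp])
  map_id i := by
    apply pullback.hom_ext <;> simp
  map_comp a b := by
    apply pullback.hom_ext <;> simp

@[reassoc (attr := simp)]
lemma bcDiagram_map_fst {i j : I} (a : i ⟶ j) :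
    (bcDiagram DX DS φ cS σ).map a ≫ pullback.fst (φ.app j) (σ ≫ cS.π.app j) =
      pullback.fst (φ.app i) (σ ≫ cS.π.app i) ≫ DX.map a := by
  simp [bcDiagram]

@[reassoc (attr := simp)]
lemma bcDiagram_map_snd {i j : I} (a : i ⟶ j) :
    (bcDiagram DX DS φ cS σ).map a ≫ pullback.snd (φ.app j) (σ ≫ cS.π.app j) =
      pullback.snd (φ.app i) (σ ≫ cS.π.app i) := by
  simp [bcDiagram]

/-- The cone over the base-changed system with vertex `X ×_S T`. -/
noncomputable def bcCone : Cone (bcDiagram DX DS φ cS σ) where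
  pt := pullback f σ
  π :=
  { app := fun i => pullback.map f σ (φ.app i) (σ ≫ cS.π.app i) (cX.π.app i) (𝟙 T) (cS.π.app i)
      (hf i) (by rw [Category.id_comp])
    naturality := fun i j a => by
      apply pullback.hom_ext
      · simp only [Functor.const_obj_obj, Functor.const_obj_map, Category.id_comp,
          Category.assoc, bcDiagram_map_fst, pullback.map, pullback.lift_fst,
          pullback.lift_fst_assoc]
        rw [cX.w a]
      · simp [pullback.map] }

@[reassoc (attr := simp)]
lemma bcCone_π_fst (i : I) :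
    (bcCone DX DS φ cX cS f hf σ).π.app i ≫ pullback.fst (φ.app i) (σ ≫ cS.π.app i) =
      pullback.fst f σ ≫ cX.π.app i := by
  simp [bcCone]

@[reassoc (attr := simp)]
lemma bcCone_π_snd (i : I) :
    (bcCone DX DS φ cX cS f hf σ).π.app i ≫ pullback.snd (φ.app i) (σ ≫ cS.π.app i) =
      pullback.snd f σ := by
  simp [bcCone]

variable {DX DS φ cX cS f}

/-- The second projections of a cone over the base-changed system do not depend on the index. -/
lemma cone_snd_eq [IsCofiltered I] (s : Cone (bcDiagram DX DS φ cS σ)) (i j : I) :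
    s.π.app i ≫ pullback.snd (φ.app i) (σ ≫ cS.π.app i) =
      s.π.app j ≫ pullback.snd (φ.app j) (σ ≫ cS.π.app j) := by
  have key : ∀ {k l : I} (a : k ⟶ l), s.π.app k ≫ pullback.snd (φ.app k) (σ ≫ cS.π.app k) =
      s.π.app l ≫ pullback.snd (φ.app l) (σ ≫ cS.π.app l) := by
    intro k l a
    rw [← s.w a, Category.assoc, bcDiagram_map_snd]
  rw [← key (IsCofiltered.minToLeft i j), ← key (IsCofiltered.minToRight i j)]

/-- The base-changed cone is a limit cone. -/
noncomputable def isLimitBcCone [IsCofiltered I] (hX : IsLimit cX) (hS : IsLimit cS) :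
    IsLimit (bcCone DX DS φ cX cS f hf σ) := by
  let i₀ : I := Classical.choice IsCofiltered.nonempty
  let sX : Cone (bcDiagram DX DS φ cS σ) → Cone DX := fun s =>
    { pt := s.pt
      π :=
      { app := fun i => s.π.app i ≫ pullback.fst (φ.app i) (σ ≫ cS.π.app i)
        naturality := fun i j a => by
          simp only [Functor.const_obj_obj, Functor.const_obj_map, Category.id_comp,
            Category.assoc]
          rw [← bcDiagram_map_fst, ← Category.assoc, s.w a] } }
  have hcond : ∀ s : Cone (bcDiagram DX DS φ cS σ),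
      hX.lift (sX s) ≫ f = (s.π.app i₀ ≫ pullback.snd (φ.app i₀) (σ ≫ cS.π.app i₀)) ≫ σ := by
    intro s
    refine hS.hom_ext fun i => ?_
    rw [Category.assoc, hf i, ← Category.assoc, hX.fac (sX s) i]
    show (s.π.app i ≫ pullback.fst _ _) ≫ φ.app i = _
    rw [Category.assoc, pullback.condition, ← Category.assoc, cone_snd_eq σ s i i₀]
    simp only [Category.assoc]
  refine
  { lift := fun s => pullback.lift (hX.lift (sX s))
      (s.π.app i₀ ≫ pullback.snd (φ.app i₀) (σ ≫ cS.π.app i₀)) (hcond s)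
    fac := fun s i => ?_
    uniq := fun s m hm => ?_ }
  · apply pullback.hom_ext
    · rw [Category.assoc, bcCone_π_fst, pullback.lift_fst_assoc, hX.fac (sX s) i]
    · rw [Category.assoc, bcCone_π_snd, pullback.lift_snd, cone_snd_eq σ s i₀ i]
  · apply pullback.hom_ext
    · rw [pullback.lift_fst]
      refine hX.hom_ext fun i => ?_
      rw [hX.fac (sX s) i, Category.assoc, ← bcCone_π_fst DX DS φ cX cS f hf σ i,
        ← Category.assoc, hm i]
    · rw [pullback.lift_snd, ← hm i₀, Category.assoc, bcCone_π_snd]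

variable (DX DS φ cS)

/-- The transition maps of the base-changed system are base changes of the comparison maps. -/
lemma isPullback_bcDiagram_map {i j : I} (a : i ⟶ j) :
    ∃ r : (bcDiagram DX DS φ cS σ).obj j ⟶ pullback (φ.app j) (DS.map a),
      IsPullback (pullback.fst (φ.app i) (σ ≫ cS.π.app i)) ((bcDiagram DX DS φ cS σ).map a)
        (cmp DX DS φ a) r := by
  have hσ : (σ ≫ cS.π.app i) ≫ DS.map a = σ ≫ cS.π.app j := by
    rw [Category.assoc, cS.w a]
  let r : pullback (φ.app j) (σ ≫ cS.π.app j) ⟶ pullback (φ.app j) (DS.map a) :=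
    pullback.lift (pullback.fst _ _) (pullback.snd _ _ ≫ σ ≫ cS.π.app i)
      (by rw [pullback.condition, Category.assoc, hσ])
  have hR : IsPullback r (pullback.snd (φ.app j) (σ ≫ cS.π.app j))
      (pullback.snd (φ.app j) (DS.map a)) (σ ≫ cS.π.app i) := by
    refine IsPullback.of_right ?_ (pullback.lift_snd _ _ _)
      (IsPullback.of_hasPullback (φ.app j) (DS.map a))
    rw [pullback.lift_fst, hσ]
    exact IsPullback.of_hasPullback _ _
  refine ⟨r, IsPullback.flip ?_⟩
  refine IsPullback.of_right ?_ ?_ hR.flip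
  · rw [bcDiagram_map_snd, pullback.lift_snd]
    exact (IsPullback.of_hasPullback (φ.app i) (σ ≫ cS.π.app i)).flip
  · apply pullback.hom_ext
    · rw [Category.assoc, pullback.lift_fst, bcDiagram_map_fst, Category.assoc,
        pullback.lift_fst]
    · rw [Category.assoc, pullback.lift_snd, bcDiagram_map_snd_assoc, Category.assoc,
        pullback.lift_snd, pullback.condition]

lemma isClosedImmersion_bcDiagram_map
    (hcl : ∀ (i j : I) (a : i ⟶ j), IsClosedImmersion (cmp DX DS φ a)) {i j : I} (a : i ⟶ j) :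
    IsClosedImmersion ((bcDiagram DX DS φ cS σ).map a) := by
  obtain ⟨r, hr⟩ := isPullback_bcDiagram_map DX DS φ cS σ a
  exact MorphismProperty.of_isPullback (P := @IsClosedImmersion) hr (hcl i j a)

end BaseChange

section Stabilize

variable {I : Type u} [SmallCategory I] [IsCofiltered I] (D : I ⥤ Scheme.{u}) (c : Cone D)
  (hc : IsLimit c)

include hc in
/-- In a cofiltered system with closed-immersion transition maps and a Noetherian stage, the
limit is homeomorphic to a later stage. -/
theorem exists_isHomeomorph_π (hcl : ∀ (i j : I) (a : i ⟶ j), IsClosedImmersion (D.map a))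
    (i₀ : I) [NoetherianSpace (D.obj i₀)] :
    ∃ (j : I) (_ : j ⟶ i₀), IsHomeomorph ⇑(c.π.app j) := by
  haveI : ∀ (i j : I) (a : i ⟶ j), IsAffineHom (D.map a) := fun i j a => by
    haveI := hcl i j a; infer_instance
  have he : ∀ (i j : I) (a : i ⟶ j), IsEmbedding ⇑(D.map a) := fun i j a => by
    haveI := hcl i j a; exact (D.map a).isEmbedding
  let C : Over i₀ → Closeds (D.obj i₀) := fun k => ⟨Set.range ⇑(D.map k.hom), by
    haveI := hcl _ _ k.hom; exact (D.map k.hom).isClosedEmbedding.isClosed_range⟩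
  obtain ⟨_, ⟨k₁, rfl⟩, hmin⟩ := wellFounded_lt.has_min (Set.range C)
    ⟨_, ⟨Over.mk (𝟙 i₀), rfl⟩⟩
  refine ⟨k₁.left, k₁.hom, ?_⟩
  have hemb := LimConnComp.isEmbedding_π D c hc he k₁.left
  have hsurj : Function.Surjective ⇑(c.π.app k₁.left) := by
    rw [← Set.range_eq_univ, Groth.Agent.S4784.result D c hc k₁.left, Set.eq_univ_iff_forall]
    intro y
    simp only [Set.mem_iInter]
    intro j φ
    let k' : Over i₀ := Over.mk (φ ≫ k₁.hom)
    have hmap : ∀ z, D.map k'.hom z = D.map k₁.hom (D.map φ z) := by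
      intro z
      show D.map (φ ≫ k₁.hom) z = _
      rw [D.map_comp, Scheme.Hom.comp_apply]
    have hle : C k' ≤ C k₁ := by
      rintro _ ⟨z, rfl⟩
      exact ⟨D.map φ z, (hmap z).symm⟩
    have heq : C k' = C k₁ := by
      by_contra hne
      exact hmin (C k') ⟨k', rfl⟩ (lt_of_le_of_ne hle hne)
    have hy : D.map k₁.hom y ∈ (C k' : Set (D.obj i₀)) := by
      rw [heq]; exact ⟨y, rfl⟩
    obtain ⟨z, hz⟩ := hy
    refine ⟨z, (he _ _ k₁.hom).injective ?_⟩
    rw [← hmap z]
    exact hz
  exact isHomeomorph_iff_isEmbedding_surjective.mpr ⟨hemb, hsurj⟩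

end Stabilize

section Main

variable {I : Type u} [SmallCategory I] [IsCofiltered I]
  (DX DS : I ⥤ Scheme.{u}) (φ : DX ⟶ DS) (cX : Cone DX) (cS : Cone DS)
  (hX : IsLimit cX) (hS : IsLimit cS)

include hX hS in
/-- If all fibres of the limit morphism have dimension `≤ d`, then so do all fibres of some
stage. -/
theorem exists_fibre_dim_le_stage
    [∀ (i j : I) (a : i ⟶ j), IsAffineHom (DS.map a)] [∀ i, CompactSpace (DS.obj i)]
    [∀ i, LocallyOfFiniteType (φ.app i)] [∀ i, QuasiCompact (φ.app i)]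
    (hcl : ∀ (i j : I) (a : i ⟶ j), IsClosedImmersion (cmp DX DS φ a))
    (f : cX.pt ⟶ cS.pt) (hf : ∀ i, f ≫ cS.π.app i = cX.π.app i ≫ φ.app i) (d : ℕ)
    (hd : ∀ s : cS.pt, topologicalKrullDim ↥(f.fiber s) ≤ d) :
    ∃ i : I, ∀ s : DS.obj i, topologicalKrullDim ↥((φ.app i).fiber s) ≤ d := by
  classical
  haveI hAffX : ∀ {i j : I} (a : i ⟶ j), IsAffineHom (DX.map a) := fun a =>
    isAffineHom_map DX DS φ hcl a
  haveI : ∀ i, CompactSpace (DX.obj i) := fun i =>
    QuasiCompact.compactSpace_of_compactSpace (φ.app i)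
  let Z : ∀ i, Set (DX.obj i) := fun i =>
    {x | FlatMor.fibreDimAt (φ.app i) x ≤ (d : WithBot ℕ∞)}ᶜ
  have hZc : ∀ i, IsClosed (Z i) := fun i =>
    (isOpen_setOf_fibreDimAt_le (φ.app i) d).isClosed_compl
  have hZm : ∀ {i j : I} (a : i ⟶ j), Set.MapsTo (DX.map a) (Z i) (Z j) := fun a x hx h =>
    hx (fibreDimAt_le_of_map DX DS φ hcl a x d h)
  by_cases hne : ∀ i, (Z i).Nonempty
  · exfalso
    obtain ⟨z, hz⟩ := exists_mem_of_isClosed_of_nonempty DX cX hX Z hZc hne
      (fun i => (hZc i).isCompact) hZm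
    let σ := cS.pt.fromSpecResidueField (f z)
    let DA := bcDiagram DX DS φ cS σ
    let cA : Cone DA := bcCone DX DS φ cX cS f hf σ
    have hA : IsLimit cA := isLimitBcCone (hf := hf) (σ := σ) hX hS
    have hclA : ∀ (i j : I) (a : i ⟶ j), IsClosedImmersion (DA.map a) := fun i j a =>
      isClosedImmersion_bcDiagram_map DX DS φ cS σ hcl a
    obtain ⟨i₀⟩ : Nonempty I := IsCofiltered.nonempty
    haveI hlft : ∀ i, LocallyOfFiniteType (pullback.snd (φ.app i) (σ ≫ cS.π.app i)) := fun i =>
      MorphismProperty.pullback_snd (P := @LocallyOfFiniteType) _ _ inferInstance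
    haveI : QuasiCompact (pullback.snd (φ.app i₀) (σ ≫ cS.π.app i₀)) :=
      MorphismProperty.pullback_snd (P := @QuasiCompact) _ _ inferInstance
    haveI : IsLocallyNoetherian (DA.obj i₀) :=
      LocallyOfFiniteType.isLocallyNoetherian (pullback.snd (φ.app i₀) (σ ≫ cS.π.app i₀))
    haveI : CompactSpace (DA.obj i₀) :=
      QuasiCompact.compactSpace_of_compactSpace (pullback.snd (φ.app i₀) (σ ≫ cS.π.app i₀))
    haveI : IsNoetherian (DA.obj i₀) := {}
    obtain ⟨j, -, hj⟩ := exists_isHomeomorph_π DA cA hA hclA i₀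
    have hdim : topologicalKrullDim (DA.obj j) ≤ d := by
      rw [← hj.topologicalKrullDim_eq]
      exact hd (f z)
    let z' : f.fiber (f z) := f.asFiber z
    let a : DA.obj j := cA.π.app j z'
    have hfst : pullback.fst (φ.app j) (σ ≫ cS.π.app j) a = cX.π.app j z := by
      have e := congr($(bcCone_π_fst DX DS φ cX cS f hf σ j) z')
      rw [Scheme.Hom.comp_apply, Scheme.Hom.comp_apply] at e
      refine e.trans ?_
      congr 1
      exact f.fiberι_asFiber z
    have hsq : IsPullback (pullback.fst (φ.app j) (σ ≫ cS.π.app j))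
        (pullback.snd (φ.app j) (σ ≫ cS.π.app j)) (φ.app j) (σ ≫ cS.π.app j) :=
      IsPullback.of_hasPullback _ _
    have h1 := (Groth.Agent.S9358.result (φ.app j) (σ ≫ cS.π.app j) _ _ hsq d).1 a
    rw [hfst] at h1
    have h2 : FlatMor.fibreDimAt (pullback.snd (φ.app j) (σ ≫ cS.π.app j)) a ≤
        (d : WithBot ℕ∞) := by
      refine ((dim_fiber_le_iff (pullback.snd (φ.app j) (σ ≫ cS.π.app j))
        (pullback.snd (φ.app j) (σ ≫ cS.π.app j) a) _).mp ?_ a rfl).trans hdim
      exact ((pullback.snd (φ.app j) (σ ≫ cS.π.app j)).fiberι _).isEmbedding.isInducing.topologicalKrullDim_le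
    rw [h1] at h2
    exact hz j h2
  · rw [not_forall] at hne
    obtain ⟨i, hi⟩ := hne
    rw [Set.not_nonempty_iff_eq_empty] at hi
    refine ⟨i, fun s => ?_⟩
    rw [dim_fiber_le_iff]
    intro x _
    by_contra h
    have : x ∈ Z i := h
    rw [hi] at this
    exact this

end Main

end Groth.Agent.Lib.Helper12.FibreDimStage
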