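import Mathlib
import Groth.Prelude
import Groth.Agent.S0403
import Groth.Agent.S9777
import Groth.Agent.S2079
import Groth.Agent.S9216
import Groth.Agent.S0590
import Groth.Agent.S0591
import Groth.Agent.S2074

/-!
# Helper library (helper12): noetherian models of proper morphisms of finite presentation, with
control of the fibre dimension (for S7411 / S12458)
-/

set_option autoImplicit false
set_option linter.style.haveILetI false
universe u
open CategoryTheory CategoryTheory.Limits AlgebraicGeometry

namespace Groth.Agent.Lib.Helper12.FibVanQC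

/-- Over a local ring, a proper morphism whose closed fibre has dimension `≤ d` has all its
fibres of dimension `≤ d`. -/
theorem forall_fiber_dim_le {A : CommRingCat.{u}} [IsLocalRing A] {X : Scheme.{u}}
    (f : X ⟶ Spec A) [IsProper f] (d : ℕ)
    (hd : topologicalKrullDim ↥(f.fiber (IsLocalRing.closedPoint A)) ≤ d)
    (s : Spec A) : topologicalKrullDim ↥(f.fiber s) ≤ d := by
  have hopen := Groth.Agent.S0403.result f ((d : ℕ) : WithBot ℕ∞)
  have hs : s ⤳ IsLocalRing.closedPoint A := IsLocalRing.specializes_closedPoint s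
  exact hs.mem_open hopen hd

/-- A proper morphism of finite presentation over a qcqs base is the base change of a proper
morphism over a locally noetherian scheme. -/
theorem exists_noetherian_model {S Z : Scheme.{u}} [CompactSpace S] [QuasiSeparatedSpace S]
    (h : Z ⟶ S) [IsProper h] [LocallyOfFinitePresentation h] :
    ∃ (T W : Scheme.{u}) (hT : W ⟶ T) (t : S ⟶ T) (g : Z ⟶ W),
      IsLocallyNoetherian T ∧ IsProper hT ∧ IsPullback g h hT t := by
  obtain ⟨I, _, _, _, D, c, hc, hD1, hD2, ⟨e⟩⟩ := Groth.Agent.S0590.result S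
  haveI : ∀ (i j : Iᵒᵖ) (f : i ⟶ j), IsAffineHom (D.map f) := hD1
  haveI : ∀ i, CompactSpace (D.obj i) := fun i => (hD2 i).1
  haveI hlft : ∀ i, LocallyOfFiniteType (Limits.IsTerminal.from specULiftZIsTerminal (D.obj i)) :=
    fun i => (hD2 i).2
  haveI hln : ∀ i, IsLocallyNoetherian (D.obj i) := fun i =>
    LocallyOfFiniteType.isLocallyNoetherian (Limits.IsTerminal.from specULiftZIsTerminal (D.obj i))
  haveI : ∀ i, QuasiSeparatedSpace (D.obj i) := fun i => inferInstance
  -- transport `h` to the limit
  let a : Z ⟶ c.pt := h ≫ e.inv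
  haveI : IsProper a := by
    dsimp only [a]
    infer_instance
  haveI : LocallyOfFinitePresentation a := by
    dsimp only [a]
    infer_instance
  obtain ⟨i, Zi, fi, gi, hfi1, hfi2, hfi3, hsq⟩ := Groth.Agent.S0591.result D c hc Z a
  haveI := hfi1
  haveI := hfi2
  haveI := hfi3
  haveI : CompactSpace Zi := QuasiCompact.compactSpace_of_compactSpace fi
  haveI : QuasiSeparatedSpace Zi := quasiSeparatedSpace_of_quasiSeparated fi
  haveI : LocallyOfFiniteType fi := inferInstance
  obtain ⟨j, φ, Xj, Yj, fj, gj, pY, pX, h1, h2, h3⟩ :=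
    Groth.Agent.S2074.result D c hc i fi (𝟙 (D.obj i)) a (𝟙 c.pt) (c.π.app i) gi
      (IsPullback.id_vert (c.π.app i)) hsq
  haveI := h3
  haveI : IsIso gj := h1.isIso_snd_of_isIso
  have hright : IsPullback pX (fj ≫ gj) fi (D.map φ) := by
    have := h2.paste_vert h1
    rwa [Category.comp_id] at this
  have hw : c.π.app j ≫ D.map φ = c.π.app i := c.w φ
  have hbig : IsPullback gi a fi (c.π.app j ≫ D.map φ) := by rw [hw]; exact hsq
  let g : Z ⟶ Xj := hright.lift gi (a ≫ c.π.app j) (by rw [Category.assoc, hw]; exact hsq.w)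
  have hg1 : g ≫ pX = gi := hright.lift_fst _ _ _
  have hg2 : g ≫ fj ≫ gj = a ≫ c.π.app j := hright.lift_snd _ _ _
  have hleft : IsPullback g a (fj ≫ gj) (c.π.app j) := by
    refine IsPullback.of_right ?_ hg2 hright
    rw [hg1]
    exact hbig
  have hiso : IsPullback (𝟙 Z) h a e.inv := IsPullback.of_horiz_isIso ⟨by simp [a]⟩
  have hfin := hiso.paste_horiz hleft
  rw [Category.id_comp] at hfin
  exact ⟨D.obj j, Xj, fj ≫ gj, e.inv ≫ c.π.app j, g, inferInstance, inferInstance, hfin⟩

end Groth.Agent.Lib.Helper12.FibVanQC
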