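import Mathlib
import Groth.Prelude
import Groth.Agent.Lib.Helper12.FibVanQC1
import Groth.Agent.Lib.Helper13.BaseChangeVanish
import Groth.Agent.Lib.Helper11.FibVanD
import Groth.Agent.Lib.Helper17.PbStalk
import Groth.Agent.Lib.Helper22.HHofRpush
import Groth.Agent.Lib.Helper20.QcohVanishCore
import Groth.Agent.S0042
import Groth.Agent.S2128
import Groth.Agent.S0800

/-!
# Helper library (helper12): stalks of higher direct images of quasi-coherent modules along a
proper morphism vanish above the fibre dimension, over an arbitrary base (S7411)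
-/

set_option autoImplicit false
set_option linter.style.haveILetI false
universe u
open CategoryTheory CategoryTheory.Limits AlgebraicGeometry

namespace Groth.Agent.Lib.Helper12.FibVanQC

/-- K1 (helper20's core + the landed S0042, S2128, S0800). -/
theorem K1 {X Y : Scheme.{u}} (f : X ⟶ Y) [IsProper f]
    [IsNoetherian Y] (d : ℕ) (hd : ∀ y : Y, topologicalKrullDim ↥(f.fiber y) ≤ d)
    (M : X.Modules) (hM : Coh.IsQCoh M) (i : ℕ) (hi : d < i) :
    Limits.IsZero ((Coh.RpushAb f i).obj (Coh.toAb M)) := by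
  haveI : CompactSpace X := QuasiCompact.compactSpace_of_compactSpace f
  haveI : QuasiSeparatedSpace X := quasiSeparatedSpace_of_quasiSeparated f
  exact Groth.Agent.Lib.Helper20.QcohVanishCore.isZero_RpushAb_qcoh_core f M i
    (fun y N hN => Groth.Agent.S0042.result f y d (hd y) N hN i hi)
    (Groth.Agent.S2128.result X M hM) (fun J _ _ => Groth.Agent.S0800.result f i J)

/-- K2 (helper22). -/
theorem K2 {X S : Scheme.{u}} (f : X ⟶ S) [QuasiCompact f]
    [QuasiSeparated f] [IsAffine S] (M : X.Modules) [M.IsQuasicoherent] (q : ℕ)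
    (h0 : Limits.IsZero ((Coh.RpushAb f q).obj (Coh.toAb M))) :
    Subsingleton (Coh.HH X M q) :=
  Groth.Agent.Lib.Helper22.HHofRpush.subsingleton_HH_of_isZero_RpushAb f M q h0

open Groth.Agent.Lib.Helper13 in
/-- The local case. -/
theorem subsingleton_HH_local {A : CommRingCat.{u}} [IsLocalRing A] {X₁ : Scheme.{u}}
    (f₁ : X₁ ⟶ Spec A) [IsProper f₁] (d : ℕ)
    (hd : topologicalKrullDim ↥(f₁.fiber (IsLocalRing.closedPoint A)) ≤ d)
    (M₁ : X₁.Modules) [M₁.IsQuasicoherent] (p : ℕ) (hp : d < p) :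
    Subsingleton (Coh.HH X₁ M₁ p) := by
  have hall := forall_fiber_dim_le f₁ d hd
  -- a closed immersion into a proper scheme of finite presentation
  obtain ⟨I, _, _, D, c, hc, e, hD1, hD2⟩ := Groth.Agent.S2079.result f₁
  obtain ⟨i⟩ : Nonempty I := IsCofiltered.nonempty
  let f' : (D.obj i).left ⟶ Spec A := (D.obj i).hom
  let k : X₁ ⟶ (D.obj i).left := e.inv.left ≫ (c.π.app i).left
  have hk : k ≫ f' = f₁ := by
    dsimp only [k, f']
    rw [Category.assoc, Over.w]
    exact Over.w e.inv
  haveI : IsIso e.inv.left := inferInstanceAs (IsIso ((Over.forget _).map e.inv))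
  haveI : IsClosedImmersion (c.π.app i).left := (hD2 i).1
  haveI : IsClosedImmersion k := by
    dsimp only [k]
    infer_instance
  haveI : IsProper f' := (hD2 i).2.1
  haveI : LocallyOfFinitePresentation f' := (hD2 i).2.2
  have hZ : ∀ s, topologicalKrullDim ↥((k ≫ f').fiber s) ≤ d := by
    rw [hk]
    exact hall
  obtain ⟨Z', ι', k', hι1, hι2, hkk, hZ'⟩ := Groth.Agent.S9216.result f' d k hZ
  haveI := hι1
  haveI := hι2
  let h : Z' ⟶ Spec A := ι' ≫ f'
  haveI : IsProper h := by
    dsimp only [h]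
    infer_instance
  haveI : LocallyOfFinitePresentation h := by
    dsimp only [h]
    infer_instance
  haveI : IsClosedImmersion k' := by
    haveI : IsClosedImmersion (k' ≫ ι') := by rw [hkk]; infer_instance
    exact IsClosedImmersion.of_comp k' ι'
  -- a noetherian model
  obtain ⟨T, W, hT, t, g, hTn, hTp, hsq⟩ := exists_noetherian_model h
  haveI := hTn
  haveI := hTp
  let s₀ : T := t (IsLocalRing.closedPoint A)
  let τ : Spec A ⟶ Spec (T.presheaf.stalk s₀) :=
    Spec.map (Scheme.stalkClosedPointTo t)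
  have hτ : τ ≫ T.fromSpecStalk s₀ = t := Scheme.Spec_stalkClosedPointTo_fromSpecStalk t
  let h_B : pullback hT (T.fromSpecStalk s₀) ⟶ Spec (T.presheaf.stalk s₀) :=
    pullback.snd hT (T.fromSpecStalk s₀)
  haveI : IsProper h_B := by
    dsimp only [h_B]
    infer_instance
  let g_B : Z' ⟶ pullback hT (T.fromSpecStalk s₀) :=
    pullback.lift g (h ≫ τ) (by rw [Category.assoc, hτ]; exact hsq.w)
  have hsqB : IsPullback g_B h h_B τ := by
    refine IsPullback.of_right ?_ (pullback.lift_snd _ _ _) (IsPullback.of_hasPullback hT _)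
    rw [pullback.lift_fst, hτ]
    exact hsq
  have hdimB : topologicalKrullDim ↥(h_B.fiber (IsLocalRing.closedPoint (T.presheaf.stalk s₀)))
      ≤ d := by
    rw [Groth.Agent.S9777.result hT (T.fromSpecStalk s₀) h_B (pullback.fst hT _)
      (IsPullback.of_hasPullback hT _) (IsLocalRing.closedPoint (T.presheaf.stalk s₀)),
      Scheme.fromSpecStalk_closedPoint,
      ← Groth.Agent.S9777.result hT t h g hsq (IsLocalRing.closedPoint A)]
    exact hZ' (IsLocalRing.closedPoint A)
  have hallB := forall_fiber_dim_le h_B d hdimB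
  haveI : CompactSpace ↥(pullback hT (T.fromSpecStalk s₀)) :=
    QuasiCompact.compactSpace_of_compactSpace h_B
  haveI : QuasiSeparatedSpace ↥(pullback hT (T.fromSpecStalk s₀)) :=
    quasiSeparatedSpace_of_quasiSeparated h_B
  have hvanZ : ∀ (N : Z'.Modules), Coh.IsQCoh N →
      IsZero ((Coh.RpushAb h p).obj (Coh.toAb N)) := fun N hN =>
    haveI : N.IsQuasicoherent := hN
    BaseChangeVanish.isZero_Rpush_baseChange h_B p
      (fun M hM => K1 h_B d hallB M hM p hp) τ h g_B hsqB N
  haveI : ((Scheme.Modules.pushforward k').obj M₁).IsQuasicoherent :=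
    Groth.Agent.Lib.Helper3.QCSec.isQuasicoherent_pushforward k' M₁
  have hN : Subsingleton (Coh.HH Z' ((Scheme.Modules.pushforward k').obj M₁) p) :=
    K2 h _ p (hvanZ _ inferInstance)
  obtain ⟨eq⟩ := BaseChangeVanish.nonempty_HH_equiv_push k' M₁ p
  exact eq.toEquiv.subsingleton_congr.2 hN

/-- S7411 -/
theorem isZero_stalk_RpushAb_qcoh {X Y : Scheme.{u}} (f : X ⟶ Y) [IsProper f] (y : Y) (d : ℕ)
    (hd : topologicalKrullDim ↥(f.fiber y) ≤ d) (M : X.Modules) [Coh.IsQCoh M] (p : ℕ)
    (hp : d < p) :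
    Limits.IsZero (TopCat.Presheaf.stalk ((Coh.RpushAb f p).obj (Coh.toAb M)).obj y) := by
  haveI : EnoughInjectives X.Modules :=
    Groth.Agent.Lib.Helper13.ModGrothendieck.enoughInjectives X.ringCatSheaf
  haveI : M.IsQuasicoherent := ‹Coh.IsQCoh M›
  letI : (pullback f (Y.fromSpecStalk y)).Over (Spec (CommRingCat.of (Y.presheaf.stalk y))) :=
    ⟨pullback.snd f (Y.fromSpecStalk y)⟩
  have hsq : IsPullback (pullback.fst f (Y.fromSpecStalk y))
      ((pullback f (Y.fromSpecStalk y)) ↘ Spec (CommRingCat.of (Y.presheaf.stalk y))) f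
      (Y.fromSpecStalk y) := IsPullback.of_hasPullback _ _
  haveI : ((Scheme.Modules.pullback (pullback.fst f (Y.fromSpecStalk y))).obj M).IsQuasicoherent :=
    Groth.Agent.Lib.Helper17.PbStalk.isQuasicoherent_pullback _ M
  have hdim : topologicalKrullDim ↥((pullback.snd f (Y.fromSpecStalk y)).fiber
      (IsLocalRing.closedPoint (Y.presheaf.stalk y))) ≤ d := by
    rw [Groth.Agent.S9777.result f (Y.fromSpecStalk y) (pullback.snd f (Y.fromSpecStalk y))
      (pullback.fst f (Y.fromSpecStalk y)) (IsPullback.of_hasPullback _ _)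
      (IsLocalRing.closedPoint (Y.presheaf.stalk y)), Scheme.fromSpecStalk_closedPoint]
    exact hd
  have hsub := subsingleton_HH_local (pullback.snd f (Y.fromSpecStalk y)) d hdim
    ((Scheme.Modules.pullback (pullback.fst f (Y.fromSpecStalk y))).obj M) p hp
  obtain ⟨e, -⟩ := Groth.Agent.Lib.Helper13.StalkFBC2.exists_stalk_equiv f y
    (pullback.fst f (Y.fromSpecStalk y)) hsq p M
  have h1 : Subsingleton ((((Scheme.Modules.pushforward f).rightDerived p).obj M).presheaf.stalk y) :=
    e.toEquiv.subsingleton_congr.2 hsub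
  obtain ⟨iso⟩ := Groth.Agent.Lib.Helper2.RpushCompare.nonempty_toAb_Rpush_iso f M p
  have iso2 := (TopCat.Presheaf.stalkFunctor AddCommGrpCat.{u} y).mapIso
    ((sheafToPresheaf _ _).mapIso iso)
  refine IsZero.of_iso ?_ iso2.symm
  haveI h2 : Subsingleton ((TopCat.Presheaf.stalkFunctor AddCommGrpCat.{u} y).obj
      ((sheafToPresheaf _ _).obj (Coh.toAb ((Coh.Rpush f p).obj M)))) := h1
  exact AddCommGrpCat.isZero_of_subsingleton _

end Groth.Agent.Lib.Helper12.FibVanQC
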