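import Mathlib
import Groth.Prelude
import Groth.Agent.Lib.Helper12.FibVanQC2

/-!
# Helper library (helper12): an affine neighbourhood over which the higher direct images of all
quasi-coherent modules vanish above the fibre dimension (S12458)
-/

set_option autoImplicit false
set_option linter.style.haveILetI false
universe u
open CategoryTheory CategoryTheory.Limits AlgebraicGeometry

namespace Groth.Agent.Lib.Helper12.FibVanQC

/-- S12458 -/
theorem exists_affine_nhd {X Y : Scheme.{u}} (f : X ⟶ Y) [IsProper f]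
    (y : Y) (d : ℕ) (hd : topologicalKrullDim ↥(f.fiber y) ≤ d) :
    ∃ V : Y.Opens, y ∈ V ∧ IsAffineOpen V ∧
      ∀ (M : (↑(f ⁻¹ᵁ V) : Scheme.{u}).Modules) (i : ℕ), Coh.IsQCoh M → d < i →
        Limits.IsZero ((Coh.RpushAb (f ∣_ V) i).obj (Coh.toAb M)) := by
  have hopen := Groth.Agent.S0403.result f ((d : ℕ) : WithBot ℕ∞)
  obtain ⟨_, ⟨V, hV : IsAffineOpen V, rfl⟩, hyV, hVU⟩ :=
    Y.isBasis_affineOpens.exists_subset_of_mem_open
      (show y ∈ {s : Y | topologicalKrullDim (f.fiber s) ≤ ((d : ℕ) : WithBot ℕ∞)} from hd) hopen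
  refine ⟨V, hyV, hV, fun M i hM hi => ?_⟩
  haveI : IsProper (f ∣_ V) := inferInstance
  apply Groth.Agent.Lib.Helper20.QcohVanishCore.isZero_of_forall_isZero_stalk
  intro y'
  haveI : Coh.IsQCoh M := hM
  refine isZero_stalk_RpushAb_qcoh (f ∣_ V) y' d ?_ M i hi
  rw [Groth.Agent.S9777.result f (Scheme.Opens.ι V) (f ∣_ V) (Scheme.Opens.ι (f ⁻¹ᵁ V))
    (isPullback_morphismRestrict f V).flip y']
  exact hVU y'.2

end Groth.Agent.Lib.Helper12.FibVanQC
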