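import Mathlib
import Groth.Prelude
import Groth.Agent.Lib.Helper12.FibVanQC3
import Groth.Agent.Lib.Helper22.HHofRpush

/-!
# Helper library (helper12): an affine neighbourhood `V` of `y` over which `H^i(f⁻¹ V, M) = 0` for all
quasi-coherent `M` and all `i` above the dimension of the fibre over `y` (steps (1)+(2) of S1485)
-/

set_option autoImplicit false
set_option linter.style.haveILetI false
universe u
open CategoryTheory CategoryTheory.Limits AlgebraicGeometry

namespace Groth.Agent.Lib.Helper12.FibVanQC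

/-- Let `f : X → Y` be proper and `y ∈ Y` a point whose fibre has dimension `≤ d`. Then there is an
affine open neighbourhood `V` of `y` such that `H^i(f⁻¹ V, M) = 0` for every quasi-coherent module `M`
on `f⁻¹ V` and every `i > d`. -/
theorem exists_affine_nhd_HH {X Y : Scheme.{u}} (f : X ⟶ Y) [IsProper f]
    (y : Y) (d : ℕ) (hd : topologicalKrullDim ↥(f.fiber y) ≤ d) :
    ∃ V : Y.Opens, y ∈ V ∧ IsAffineOpen V ∧
      ∀ (M : (↑(f ⁻¹ᵁ V) : Scheme.{u}).Modules) (i : ℕ), Coh.IsQCoh M → d < i →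
        Subsingleton (Coh.HH (↑(f ⁻¹ᵁ V) : Scheme.{u}) M i) := by
  obtain ⟨V, hyV, hV, h⟩ := exists_affine_nhd f y d hd
  refine ⟨V, hyV, hV, fun M i hM hi => ?_⟩
  haveI : IsAffine (↑V : Scheme.{u}) := hV
  haveI : M.IsQuasicoherent := hM
  haveI : IsProper (f ∣_ V) := inferInstance
  exact Groth.Agent.Lib.Helper22.HHofRpush.subsingleton_HH_of_isZero_RpushAb (f ∣_ V) M i
    (h M i hM hi)

/-- The same in the `Coh.HHon` form: `H^i(f⁻¹ V, F|_{f⁻¹ V}) = 0` for every quasi-coherent `F` on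
`X`, every `i > d`, for a suitable affine open neighbourhood `V` of `y`. -/
theorem exists_affine_nhd_HHon {X Y : Scheme.{u}} (f : X ⟶ Y) [IsProper f]
    (y : Y) (d : ℕ) (hd : topologicalKrullDim ↥(f.fiber y) ≤ d) :
    ∃ V : Y.Opens, y ∈ V ∧ IsAffineOpen V ∧
      ∀ (F : X.Modules) (i : ℕ), Coh.IsQCoh F → d < i →
        Subsingleton (Coh.HHon X F (f ⁻¹ᵁ V) i) := by
  obtain ⟨V, hyV, hV, h⟩ := exists_affine_nhd_HH f y d hd
  refine ⟨V, hyV, hV, fun F i hF hi => ?_⟩
  haveI : F.IsQuasicoherent := hF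
  exact h (F.restrict (f ⁻¹ᵁ V).ι) i inferInstance hi

end Groth.Agent.Lib.Helper12.FibVanQC
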