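import Mathlib
import Groth.Prelude
import Groth.Agent.Lib.Helper12.FibVanQC4
import Groth.Agent.S9777

/-!
# Helper library (helper12): steps (1)+(2) of S1485 in base-changed form

For `f : X → Y` proper, `g : Y' → Y`, and `y' ∈ Y'` over a point `y` whose fibre has dimension `≤ d`,
there is an affine open neighbourhood `V` of `y'` in `Y'` over which the cohomology of every
quasi-coherent module on `(pullback.snd f g)⁻¹ V` vanishes in degrees `> d`.
-/

set_option autoImplicit false
set_option linter.style.haveILetI false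
universe u
open CategoryTheory CategoryTheory.Limits AlgebraicGeometry

namespace Groth.Agent.Lib.Helper12.FibVanQC

/-- Fibre dimension of the base change `pullback.snd f g` at `y'` equals that of `f` at `g y'`. -/
theorem fiber_dim_pullback_snd {X Y Y' : Scheme.{u}} (f : X ⟶ Y) [IsProper f] (g : Y' ⟶ Y) (y' : Y') :
    topologicalKrullDim ↥((pullback.snd f g).fiber y') = topologicalKrullDim ↥(f.fiber (g y')) :=
  Groth.Agent.S9777.result f g (pullback.snd f g) (pullback.fst f g) (IsPullback.of_hasPullback f g) y'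

/-- Steps (1)+(2) of S1485: an affine neighbourhood of `y'` over which `H^i` of all quasi-coherent
modules on the base change vanishes for `i > d`. -/
theorem exists_affine_nhd_HH_pullback {X Y Y' : Scheme.{u}} (f : X ⟶ Y) [IsProper f] (g : Y' ⟶ Y)
    (y' : Y') (d : ℕ) (hd : topologicalKrullDim ↥(f.fiber (g y')) ≤ d) :
    ∃ V : Y'.Opens, y' ∈ V ∧ IsAffineOpen V ∧
      ∀ (M : (↑(pullback.snd f g ⁻¹ᵁ V) : Scheme.{u}).Modules) (i : ℕ), Coh.IsQCoh M → d < i →
        Subsingleton (Coh.HH (↑(pullback.snd f g ⁻¹ᵁ V) : Scheme.{u}) M i) :=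
  exists_affine_nhd_HH (pullback.snd f g) y' d (by rw [fiber_dim_pullback_snd]; exact hd)

/-- The same in the `Coh.HHon` form, for quasi-coherent modules on the whole base change. -/
theorem exists_affine_nhd_HHon_pullback {X Y Y' : Scheme.{u}} (f : X ⟶ Y) [IsProper f] (g : Y' ⟶ Y)
    (y' : Y') (d : ℕ) (hd : topologicalKrullDim ↥(f.fiber (g y')) ≤ d) :
    ∃ V : Y'.Opens, y' ∈ V ∧ IsAffineOpen V ∧
      ∀ (F : (pullback f g).Modules) (i : ℕ), Coh.IsQCoh F → d < i →
        Subsingleton (Coh.HHon (pullback f g) F (pullback.snd f g ⁻¹ᵁ V) i) :=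
  exists_affine_nhd_HHon (pullback.snd f g) y' d (by rw [fiber_dim_pullback_snd]; exact hd)

end Groth.Agent.Lib.Helper12.FibVanQC
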