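import Mathlib
import Groth.Prelude
import Groth.Agent.Lib.Helper12.FibVanQC5
import Groth.Agent.Lib.Helper12.FibH1a
import Groth.Agent.Lib.Helper1.FibH1
import Groth.Agent.Lib.Helper17.FibH1b
import Groth.Agent.Lib.Helper6.H1FibLc
import Groth.Agent.Lib.Helper6.H1FibLd

/-!
# Helper library (helper12): assembly of S1485 (`H¹` of the fibre vanishes if `R¹ f'_* O = 0` after
a base change hitting the point), from helper1's core, helper17's (b), helper6's Lc/Ld and
helper12's FibVanQC5 / FibH1a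
-/

set_option autoImplicit false
set_option linter.style.haveILetI false
universe u
open CategoryTheory CategoryTheory.Limits AlgebraicGeometry

namespace Groth.Agent.Lib.Helper12.FibH1Asm

theorem subsingleton_H1_fiber {X Y Y' : Scheme.{u}} (f : X ⟶ Y) [IsProper f] (g : Y' ⟶ Y) (y' : Y')
    (hdim : topologicalKrullDim ↑(f.fiber (g y')) ≤ 1)
    (hR1 : ∀ U : Y'.Opens, IsAffineOpen U → Subsingleton (Coh.HHon (pullback f g)
      (Coh.structureModule (pullback f g)) (pullback.snd f g ⁻¹ᵁ U) 1)) :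
    Subsingleton (Coh.HH (f.fiber (g y')) (Coh.structureModule (f.fiber (g y'))) 1) := by
  obtain ⟨V, hy'V, hV, hH2⟩ :=
    Groth.Agent.Lib.Helper12.FibVanQC.exists_affine_nhd_HH_pullback f g y' 1 (by exact_mod_cast hdim)
  haveI : IsAffine (↑V : Scheme.{u}) := hV
  let W : (pullback f g).Opens := pullback.snd f g ⁻¹ᵁ V
  let h₁ : (↑W : Scheme.{u}) ⟶ (↑V : Scheme.{u}) := pullback.snd f g ∣_ V
  haveI : IsProper h₁ := inferInstance
  haveI : CompactSpace (↑W : Scheme.{u}) := QuasiCompact.compactSpace_of_compactSpace h₁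
  haveI : QuasiSeparatedSpace (↑W : Scheme.{u}) := quasiSeparatedSpace_of_quasiSeparated h₁
  have hH1 : Subsingleton (Coh.HH (↑W : Scheme.{u}) (Coh.structureModule (↑W : Scheme.{u})) 1) :=
    Groth.Agent.Lib.Helper6.H1FibLd.subsingleton_HH_of_HHon W 1 (hR1 V hV)
  let v : (↑V : Scheme.{u}) := ⟨y', hy'V⟩
  have hcore : Subsingleton (Coh.HH (h₁.fiber v) (Coh.structureModule (h₁.fiber v)) 1) :=
    Groth.Agent.Lib.Helper1.FibH1.core' h₁ ((↑V : Scheme.{u}).fromSpecResidueField v)
      (Groth.Agent.Lib.Helper12.FibH1a.exists_epi_sigma_structureModule_push h₁ _)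
      (fun J => Groth.Agent.Lib.Helper17.FibH1b.subsingleton_HH_sigma
        (fun _ : J => Coh.structureModule (↑W : Scheme.{u})) 1 (fun _ => hH1))
      (fun F hF => hH2 F 2 hF (by norm_num))
  have sq : IsPullback (W.ι ≫ pullback.fst f g) h₁ f (V.ι ≫ g) :=
    ((isPullback_morphismRestrict (pullback.snd f g) V).paste_vert
      (IsPullback.of_hasPullback f g).flip).flip
  exact Groth.Agent.Lib.Helper6.H1FibLc.subsingleton_HH_fiber_of_isPullback f (V.ι ≫ g) h₁
    (W.ι ≫ pullback.fst f g) sq v 1 hcore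

end Groth.Agent.Lib.Helper12.FibH1Asm
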