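import Mathlib
import Groth.Agent.Lib.Helper12.GeomIrrGen
import Groth.Agent.Lib.Helper12.IrrDVRa

set_option autoImplicit false
set_option linter.style.haveILetI false
universe u
open TensorProduct Topology AlgebraicGeometry CategoryTheory Limits

/-!
# The fibre of an integral scheme over the image of its generic point is integral (helper12)
-/

namespace Groth.Agent.Lib.Helper12.FibMaxPt

section alg

variable {A B : Type u} [CommRing A] [CommRing B] [IsDomain B] [Algebra A B]

theorem exists_normal_form (p : Ideal A) [p.IsPrime] (x : B ⊗[A] p.ResidueField) :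
    ∃ (b : B) (t : A), t ∉ p ∧
      x * ((1 : B) ⊗ₜ[A] (algebraMap A p.ResidueField t)) = b ⊗ₜ[A] (1 : p.ResidueField) := by
  induction x using TensorProduct.induction_on with
  | zero => exact ⟨0, 1, fun h => ‹p.IsPrime›.ne_top ((Ideal.eq_top_iff_one p).mpr h), by simp⟩
  | tmul b c =>
    obtain ⟨⟨a', t'⟩, hc⟩ := IsLocalization.surj (nonZeroDivisors (A ⧸ p)) c
    obtain ⟨a, rfl⟩ := Ideal.Quotient.mk_surjective a'
    obtain ⟨t, ht⟩ := Ideal.Quotient.mk_surjective t'.1
    have htp : t ∉ p := by
      intro h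
      have h0 : (t'.1 : A ⧸ p) = 0 := by rw [← ht]; exact Ideal.Quotient.eq_zero_iff_mem.mpr h
      exact nonZeroDivisors.ne_zero t'.2 h0
    refine ⟨algebraMap A B a * b, t, htp, ?_⟩
    have h1 : algebraMap A p.ResidueField t = algebraMap (A ⧸ p) p.ResidueField t'.1 := by
      rw [← ht]; rfl
    have h2 : algebraMap (A ⧸ p) p.ResidueField (Ideal.Quotient.mk p a) =
        algebraMap A p.ResidueField a := rfl
    rw [Algebra.TensorProduct.tmul_mul_tmul, mul_one, h1, hc, h2, Algebra.algebraMap_eq_smul_one,
      ← TensorProduct.smul_tmul, Algebra.smul_def]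
  | add x y hx hy =>
    obtain ⟨b₁, t₁, ht₁, h₁⟩ := hx
    obtain ⟨b₂, t₂, ht₂, h₂⟩ := hy
    refine ⟨algebraMap A B t₂ * b₁ + algebraMap A B t₁ * b₂, t₁ * t₂,
      fun h => (‹p.IsPrime›.mem_or_mem h).elim ht₁ ht₂, ?_⟩
    have e1 : ((1 : B) ⊗ₜ[A] (algebraMap A p.ResidueField (t₁ * t₂))) =
        ((1 : B) ⊗ₜ[A] (algebraMap A p.ResidueField t₁)) *
          ((1 : B) ⊗ₜ[A] (algebraMap A p.ResidueField t₂)) := by
      rw [Algebra.TensorProduct.tmul_mul_tmul, mul_one, map_mul]
    have e2 : ∀ (t : A) (b : B), (b ⊗ₜ[A] (1 : p.ResidueField)) *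
        ((1 : B) ⊗ₜ[A] (algebraMap A p.ResidueField t)) =
        (algebraMap A B t * b) ⊗ₜ[A] (1 : p.ResidueField) := by
      intro t b
      rw [Algebra.TensorProduct.tmul_mul_tmul, mul_one, one_mul, Algebra.algebraMap_eq_smul_one,
        ← TensorProduct.smul_tmul, Algebra.smul_def]
    rw [e1, add_mul, TensorProduct.add_tmul]
    congr 1
    · rw [← mul_assoc, h₁, e2]
    · rw [mul_comm ((1 : B) ⊗ₜ[A] (algebraMap A p.ResidueField t₁)), ← mul_assoc, h₂, e2]

theorem isDomain_tensor_residueField (p : Ideal A) [p.IsPrime]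
    (hker : RingHom.ker (algebraMap A B) = p) : IsDomain (B ⊗[A] p.ResidueField) := by
  let L := FractionRing B
  let φ' : A ⧸ p →+* B := Ideal.Quotient.lift p (algebraMap A B) (fun a ha => by
    rw [← hker] at ha; exact ha)
  have hφ' : Function.Injective φ' := by
    rw [injective_iff_map_eq_zero]
    intro a ha
    obtain ⟨a, rfl⟩ := Ideal.Quotient.mk_surjective a
    have h1 : algebraMap A B a = 0 := ha
    have h2 : a ∈ RingHom.ker (algebraMap A B) := h1
    rw [hker] at h2
    exact Ideal.Quotient.eq_zero_iff_mem.mpr h2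
  let g0 : A ⧸ p →+* L := (algebraMap B L).comp φ'
  have hg0 : Function.Injective g0 := (IsFractionRing.injective B L).comp hφ'
  let σ0 : p.ResidueField →+* L := IsFractionRing.lift hg0
  have hσ0 : ∀ a : A, σ0 (algebraMap A p.ResidueField a) = algebraMap A L a := by
    intro a
    have h1 : algebraMap A p.ResidueField a =
        algebraMap (A ⧸ p) p.ResidueField (Ideal.Quotient.mk p a) := rfl
    rw [h1, IsFractionRing.lift_algebraMap]
    show algebraMap B L (algebraMap A B a) = _
    rw [← IsScalarTower.algebraMap_apply]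
  let σ : p.ResidueField →ₐ[A] L := { σ0 with commutes' := hσ0 }
  let μ : B ⊗[A] p.ResidueField →ₐ[A] L :=
    Algebra.TensorProduct.productMap (IsScalarTower.toAlgHom A B L) σ
  have hμ : Function.Injective μ := by
    rw [injective_iff_map_eq_zero]
    intro x hx
    obtain ⟨b, t, ht, hxt⟩ := exists_normal_form p x
    have h1 : μ (b ⊗ₜ[A] (1 : p.ResidueField)) = algebraMap B L b := by
      simp [μ]
    have h2 : μ (b ⊗ₜ[A] (1 : p.ResidueField)) = 0 := by
      rw [← hxt, map_mul, hx, zero_mul]
    have hb : b = 0 := by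
      rw [h1] at h2
      exact (IsFractionRing.injective B L) (h2.trans (map_zero _).symm)
    have hne : algebraMap A p.ResidueField t ≠ 0 := by
      intro h0
      have h3 : algebraMap (A ⧸ p) p.ResidueField (Ideal.Quotient.mk p t) = 0 := h0
      have h4 := (IsFractionRing.injective (A ⧸ p) p.ResidueField) (h3.trans (map_zero _).symm)
      exact ht (Ideal.Quotient.eq_zero_iff_mem.mp h4)
    have hunit : IsUnit ((1 : B) ⊗ₜ[A] (algebraMap A p.ResidueField t)) :=
      (IsUnit.mk0 _ hne).map (Algebra.TensorProduct.includeRight : p.ResidueField →ₐ[A] _)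
    rw [hb, TensorProduct.zero_tmul] at hxt
    exact (hunit.mul_left_eq_zero).mp hxt
  exact Function.Injective.isDomain μ.toRingHom hμ

end alg

section spec

variable {A : Type u} [CommRing A] {Z : Scheme.{u}} [IsIntegral Z] (h : Z ⟶ Spec (.of A))

set_option backward.isDefEq.respectTransparency false in
theorem isReduced_pullback_residueField (s' : Spec (.of A)) (hs' : h (genericPoint Z) = s') :
    IsReduced (pullback h (Spec.map (CommRingCat.ofHom
      (algebraMap A s'.asIdeal.ResidueField)))) := by
  have key : ∀ x : ↥(pullback h (Spec.map (CommRingCat.ofHom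
      (algebraMap A s'.asIdeal.ResidueField)))),
      _root_.IsReduced ((pullback h (Spec.map (CommRingCat.ofHom
        (algebraMap A s'.asIdeal.ResidueField)))).presheaf.stalk x) := by
    intro x
    obtain ⟨_, ⟨U, hU0, rfl⟩, hxU, -⟩ := Z.isBasis_affineOpens.exists_subset_of_mem_open
      (Set.mem_univ (pullback.fst h _ x)) isOpen_univ
    obtain ⟨U, rfl⟩ : ∃ U' : Z.Opens, U' = U := ⟨U, rfl⟩
    have hU : IsAffineOpen U := hU0
    haveI : Nonempty ↥(U : Scheme) := ⟨⟨_, hxU⟩⟩
    obtain ⟨φ, hφ⟩ := Spec.map_surjective (hU.fromSpec ≫ h)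
    letI : Algebra A Γ(Z, U) := φ.hom.toAlgebra
    have hjW : hU.fromSpec ≫ h = Spec.map (CommRingCat.ofHom (algebraMap A Γ(Z, U))) := hφ.symm
    have hemb : Topology.IsOpenEmbedding hU.fromSpec := hU.fromSpec.isOpenEmbedding
    have hrange : Set.range hU.fromSpec = (U : Set Z) := hU.range_fromSpec
    -- the generic point
    have hgenU : genericPoint Z ∈ (U : Set Z) :=
      ((genericPoint_spec Z).specializes (Set.mem_univ (pullback.fst h _ x))).mem_open U.2 hxU
    obtain ⟨q, hq⟩ : genericPoint Z ∈ Set.range hU.fromSpec := by rw [hrange]; exact hgenU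
    have hq0 : q.asIdeal = ⊥ := by
      have hbot : (⊥ : Ideal Γ(Z, U)).IsPrime := Ideal.isPrime_bot
      have hsp : q ⤳ (⟨⊥, hbot⟩ : PrimeSpectrum Γ(Z, U)) := by
        rw [← hemb.isInducing.specializes_iff, hq]
        exact (genericPoint_spec Z).specializes (Set.mem_univ _)
      exact le_bot_iff.mp ((PrimeSpectrum.le_iff_specializes q ⟨⊥, hbot⟩).mpr hsp)
    have hker : RingHom.ker (algebraMap A Γ(Z, U)) = s'.asIdeal := by
      have h1 : Spec.map (CommRingCat.ofHom (algebraMap A Γ(Z, U))) q = s' := by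
        rw [← hjW]
        refine (Scheme.Hom.comp_apply _ _ _).trans ?_
        exact (congrArg (fun t => h t) hq).trans hs'
      have h2 : Ideal.comap (algebraMap A Γ(Z, U)) q.asIdeal = s'.asIdeal :=
        congrArg PrimeSpectrum.asIdeal h1
      rw [hq0] at h2
      rw [RingHom.ker_eq_comap_bot]
      exact h2
    haveI : IsDomain (Γ(Z, U) ⊗[A] s'.asIdeal.ResidueField) :=
      isDomain_tensor_residueField s'.asIdeal hker
    let j := Groth.Agent.Lib.Helper12.GeomIrrGen.tensorImm (K := s'.asIdeal.ResidueField) h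
      hU.fromSpec hjW
    have hxj : x ∈ Set.range j := by
      rw [Groth.Agent.Lib.Helper12.GeomIrrGen.range_tensorImm, hrange]
      exact hxU
    obtain ⟨y, rfl⟩ := hxj
    have hbij : Function.Bijective (j.stalkMap y).hom :=
      ConcreteCategory.bijective_of_isIso (j.stalkMap y)
    exact isReduced_of_injective (j.stalkMap y).hom hbij.injective
  exact isReduced_of_isReduced_stalk _

set_option backward.isDefEq.respectTransparency false in
theorem isReduced_fiber_spec (s' : Spec (.of A)) (hs' : h (genericPoint Z) = s') :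
    IsReduced (h.fiber s') := by
  haveI := isReduced_pullback_residueField h s' hs'
  have e := Scheme.Spec.map_residueFieldIso_inv_eq_fromSpecResidueField (.of A) s'
  let m : h.fiber s' ⟶ pullback h (Spec.map (CommRingCat.ofHom
      (algebraMap A s'.asIdeal.ResidueField))) :=
    pullback.map h ((Spec (.of A)).fromSpecResidueField s') h _ (𝟙 _)
      (Spec.map (Scheme.Spec.residueFieldIso (.of A) s').inv) (𝟙 _) (by simp) (by
        rw [Category.comp_id]; exact e.symm)
  haveI : IsIso m := by
    show IsIso (pullback.map _ _ _ _ _ _ _ _ _)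
    infer_instance
  exact isReduced_of_isOpenImmersion m

end spec

theorem isReduced_of_isIso_of_source {X Y : Scheme.{u}} (m : X ⟶ Y) (hm : IsIso m) [IsReduced X] :
    IsReduced Y := by
  haveI := hm
  exact isReduced_of_isOpenImmersion (inv m)

section general

variable {Z S : Scheme.{u}} [IsIntegral Z] (g : Z ⟶ S)

set_option backward.isDefEq.respectTransparency false in
theorem isReduced_fiber_of_generic (s : S) (hs : g (genericPoint Z) = s) :
    IsReduced (g.fiber s) := by
  obtain ⟨_, ⟨V, hV0, rfl⟩, hsV, -⟩ := S.isBasis_affineOpens.exists_subset_of_mem_open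
    (Set.mem_univ s) isOpen_univ
  obtain ⟨V, rfl⟩ : ∃ V' : S.Opens, V' = V := ⟨V, rfl⟩
  have hV : IsAffineOpen V := hV0
  obtain ⟨s', hs's⟩ : s ∈ Set.range hV.fromSpec := by rw [hV.range_fromSpec]; exact hsV
  let h : pullback g hV.fromSpec ⟶ Spec (.of Γ(S, V)) := pullback.snd g hV.fromSpec
  haveI : Nonempty ↥(pullback g hV.fromSpec) := by
    obtain ⟨t, -, -⟩ := Scheme.Pullback.exists_preimage_pullback (f := g) (g := hV.fromSpec)
      (genericPoint Z) s' (by rw [hs, hs's])
    exact ⟨t⟩
  haveI : IsIntegral (pullback g hV.fromSpec) :=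
    isIntegral_of_isOpenImmersion (pullback.fst g hV.fromSpec)
  have hgen : h (genericPoint ↥(pullback g hV.fromSpec)) = s' := by
    apply hV.fromSpec.isOpenEmbedding.injective
    have h1 : (pullback.fst g hV.fromSpec) (genericPoint ↥(pullback g hV.fromSpec)) =
        genericPoint Z := genericPoint_eq_of_isOpenImmersion (pullback.fst g hV.fromSpec)
    have h2 : hV.fromSpec (h (genericPoint ↥(pullback g hV.fromSpec))) =
        g ((pullback.fst g hV.fromSpec) (genericPoint ↥(pullback g hV.fromSpec))) := by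
      have hc := congrArg (fun φ : pullback g hV.fromSpec ⟶ S =>
        φ (genericPoint ↥(pullback g hV.fromSpec))) (pullback.condition (f := g) (g := hV.fromSpec))
      exact ((Scheme.Hom.comp_apply _ _ _).symm.trans hc.symm).trans (Scheme.Hom.comp_apply _ _ _)
    rw [h2, h1, hs, hs's]
  haveI : IsReduced (h.fiber s') := isReduced_fiber_spec h s' hgen
  subst hs's
  have hsq := isPullback_fiberToSpecResidueField_of_isPullback
    (IsPullback.of_hasPullback g hV.fromSpec) s'
  haveI := hsq.isIso_fst_of_isIso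
  exact @isReduced_of_isIso_of_source _ _ _ hsq.isIso_fst_of_isIso (isReduced_fiber_spec h s' hgen)

theorem irreducibleSpace_fiber_of_generic (s : S) (hs : g (genericPoint Z) = s) :
    IrreducibleSpace ↥(g.fiber s) := by
  let e := g.fiberHomeo s
  let ξ : ↥(g.fiber s) := e.symm ⟨genericPoint Z, hs⟩
  apply Groth.Agent.Lib.Helper12.IrrDVR.irreducibleSpace_of_forall_specializes ξ
  intro x
  rw [← e.isInducing.specializes_iff, subtype_specializes_iff]
  have h1 : (e ξ : Z) = genericPoint Z := by
    show ((e (e.symm ⟨genericPoint Z, hs⟩) : ↥(g ⁻¹' {s})) : Z) = _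
    rw [e.apply_symm_apply]
  rw [h1]
  exact (genericPoint_spec Z).specializes (Set.mem_univ _)

theorem isIntegral_fiber_of_generic (s : S) (hs : g (genericPoint Z) = s) :
    IsIntegral (g.fiber s) := by
  haveI := isReduced_fiber_of_generic g s hs
  haveI := irreducibleSpace_fiber_of_generic g s hs
  exact isIntegral_of_irreducibleSpace_of_isReduced _

end general

section closure

variable {X S Z : Scheme.{u}} (f : X ⟶ S) (z : X) (ι : Z ⟶ X) [IsClosedImmersion ι] [IsReduced Z]

theorem exists_generic (hZ : Set.range ι = closure {z}) :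
    ∃ ζ : Z, ι ζ = z ∧ ∀ x : Z, ζ ⤳ x := by
  obtain ⟨ζ, hζ⟩ : z ∈ Set.range ι := by rw [hZ]; exact subset_closure rfl
  refine ⟨ζ, hζ, fun x => ?_⟩
  rw [← ι.isEmbedding.isInducing.specializes_iff, hζ, specializes_iff_mem_closure, ← hZ]
  exact ⟨x, rfl⟩

theorem isIntegral_of_range (hZ : Set.range ι = closure {z}) :
    IsIntegral Z ∧ ∀ [IsIntegral Z], ι (genericPoint Z) = z := by
  obtain ⟨ζ, hζ, hsp⟩ := exists_generic z ι hZ
  haveI : IrreducibleSpace Z :=
    Groth.Agent.Lib.Helper12.IrrDVR.irreducibleSpace_of_forall_specializes ζ hsp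
  haveI : IsIntegral Z := isIntegral_of_irreducibleSpace_of_isReduced Z
  refine ⟨inferInstance, ?_⟩
  intro _
  have hgen : IsGenericPoint ζ (⊤ : Set Z) := by
    show closure {ζ} = ⊤
    rw [Set.top_eq_univ, Set.eq_univ_iff_forall]
    intro x
    exact (specializes_iff_mem_closure).mp (hsp x)
  have : genericPoint Z = ζ := (genericPoint_spec Z).eq hgen
  rw [this, hζ]

theorem range_map_eq (hZ : Set.range ι = closure {z}) :
    Set.range (pullback.map (ι ≫ f) (S.fromSpecResidueField (f z)) f
      (S.fromSpecResidueField (f z)) ι (𝟙 _) (𝟙 S) (Category.comp_id _)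
      ((Category.comp_id _).trans (Category.id_comp _).symm)) = closure {f.asFiber z} := by
  have hind : Topology.IsInducing (f.fiberι (f z)) :=
    (f.fiberι (f z)).isEmbedding.isInducing
  have hinj : Function.Injective (f.fiberι (f z)) := (f.fiberι (f z)).isEmbedding.injective
  have hcl : closure {f.asFiber z} = (f.fiberι (f z)) ⁻¹' (closure {z}) := by
    rw [hind.closure_eq_preimage_closure_image, Set.image_singleton, Scheme.Hom.fiberι_asFiber]
  rw [hcl, ← hZ]
  have hfst : ∀ t, (f.fiberι (f z)) ((pullback.map (ι ≫ f) (S.fromSpecResidueField (f z)) f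
      (S.fromSpecResidueField (f z)) ι (𝟙 _) (𝟙 S) (Category.comp_id _)
      ((Category.comp_id _).trans (Category.id_comp _).symm)) t) =
      ι ((pullback.fst (ι ≫ f) (S.fromSpecResidueField (f z))) t) := by
    intro t
    have hm : pullback.map (ι ≫ f) (S.fromSpecResidueField (f z)) f
        (S.fromSpecResidueField (f z)) ι (𝟙 _) (𝟙 S) (Category.comp_id _)
        ((Category.comp_id _).trans (Category.id_comp _).symm) ≫
        pullback.fst f (S.fromSpecResidueField (f z)) =
        pullback.fst (ι ≫ f) (S.fromSpecResidueField (f z)) ≫ ι := pullback.lift_fst _ _ _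
    have hc := congrArg (fun φ : pullback (ι ≫ f) (S.fromSpecResidueField (f z)) ⟶ X => φ t) hm
    exact ((Scheme.Hom.comp_apply _ _ _).symm.trans hc).trans (Scheme.Hom.comp_apply _ _ _)
  have hsnd : ∀ t, (pullback.snd f (S.fromSpecResidueField (f z)))
      ((pullback.map (ι ≫ f) (S.fromSpecResidueField (f z)) f
      (S.fromSpecResidueField (f z)) ι (𝟙 _) (𝟙 S) (Category.comp_id _)
      ((Category.comp_id _).trans (Category.id_comp _).symm)) t) =
      (pullback.snd (ι ≫ f) (S.fromSpecResidueField (f z))) t := by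
    intro t
    have hm : pullback.map (ι ≫ f) (S.fromSpecResidueField (f z)) f
        (S.fromSpecResidueField (f z)) ι (𝟙 _) (𝟙 S) (Category.comp_id _)
        ((Category.comp_id _).trans (Category.id_comp _).symm) ≫
        pullback.snd f (S.fromSpecResidueField (f z)) =
        pullback.snd (ι ≫ f) (S.fromSpecResidueField (f z)) :=
      (pullback.lift_snd _ _ _).trans (Category.comp_id _)
    have hc := congrArg (fun φ : pullback (ι ≫ f) (S.fromSpecResidueField (f z)) ⟶ _ => φ t) hm
    exact ((Scheme.Hom.comp_apply _ _ _).symm.trans hc)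
  ext w'
  constructor
  · rintro ⟨t, rfl⟩
    exact ⟨_, (hfst t).symm⟩
  · rintro ⟨a, ha⟩
    have hcomp : (ι ≫ f) a = (S.fromSpecResidueField (f z))
        ((pullback.snd f (S.fromSpecResidueField (f z))) w') := by
      have hc := congrArg (fun φ : pullback f (S.fromSpecResidueField (f z)) ⟶ S => φ w')
        (pullback.condition (f := f) (g := S.fromSpecResidueField (f z)))
      have hc' : f ((pullback.fst f (S.fromSpecResidueField (f z))) w') =
          (S.fromSpecResidueField (f z)) ((pullback.snd f (S.fromSpecResidueField (f z))) w') :=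
        ((Scheme.Hom.comp_apply _ _ _).symm.trans hc).trans (Scheme.Hom.comp_apply _ _ _)
      refine (Scheme.Hom.comp_apply _ _ _).trans ?_
      rw [ha]
      exact hc'
    obtain ⟨t, ht1, ht2⟩ := Scheme.Pullback.exists_preimage_pullback
      (f := ι ≫ f) (g := S.fromSpecResidueField (f z)) a _ hcomp
    refine ⟨t, hinj ?_⟩
    rw [hfst, ht1]
    exact ha

end closure

end Groth.Agent.Lib.Helper12.FibMaxPt
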