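import Mathlib

/-! Base change for supports of finite modules and for the unramified locus (ring level). -/

set_option autoImplicit false
universe u
open TensorProduct

namespace Groth.Agent.Lib.Helper12.UnramBC

/-- The support of a base change of a finite module is the preimage of the support. -/
theorem mem_support_baseChange_iff {A B : Type*} [CommRing A] [CommRing B] [Algebra A B]
    (M : Type*) [AddCommGroup M] [Module A M] [Module.Finite A M] (q : PrimeSpectrum B) :
    q ∈ Module.support B (B ⊗[A] M) ↔
      PrimeSpectrum.comap (algebraMap A B) q ∈ Module.support A M := by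
  rw [Module.mem_support_iff_nontrivial_residueField_tensorProduct,
    Module.mem_support_iff_nontrivial_residueField_tensorProduct]
  set p := PrimeSpectrum.comap (algebraMap A B) q with hp
  let φ : p.asIdeal.ResidueField →+* q.asIdeal.ResidueField :=
    Ideal.ResidueField.map p.asIdeal q.asIdeal (algebraMap A B) rfl
  letI := φ.toAlgebra
  haveI : IsScalarTower A p.asIdeal.ResidueField q.asIdeal.ResidueField :=
    IsScalarTower.of_algebraMap_eq' (by
      ext a
      simp only [RingHom.algebraMap_toAlgebra, RingHom.comp_apply, φ]
      rw [Ideal.ResidueField.map_algebraMap]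
      exact IsScalarTower.algebraMap_apply A B q.asIdeal.ResidueField a)
  let e1 := AlgebraTensorModule.cancelBaseChange A B q.asIdeal.ResidueField
    q.asIdeal.ResidueField M
  let e2 := AlgebraTensorModule.cancelBaseChange A p.asIdeal.ResidueField
    q.asIdeal.ResidueField q.asIdeal.ResidueField M
  rw [e1.nontrivial_congr, ← e2.nontrivial_congr]
  exact Module.FaithfullyFlat.nontrivial_tensorProduct_iff_right _ _

/-- The unramified locus commutes with base change (for algebras of finite type). -/
theorem mem_unramifiedLocus_iff_of_isPushout (R S A B : Type*) [CommRing R] [CommRing S]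
    [CommRing A] [CommRing B] [Algebra R S] [Algebra R A] [Algebra R B] [Algebra S B]
    [Algebra A B] [IsScalarTower R S B] [IsScalarTower R A B] [Algebra.IsPushout R S A B]
    [Algebra.FiniteType R A] (q : PrimeSpectrum B) :
    q ∈ Algebra.unramifiedLocus S B ↔
      PrimeSpectrum.comap (algebraMap A B) q ∈ Algebra.unramifiedLocus R A := by
  rw [Algebra.unramifiedLocus_eq_compl_support, Algebra.unramifiedLocus_eq_compl_support,
    Set.mem_compl_iff, Set.mem_compl_iff, not_iff_not,
    ← (KaehlerDifferential.tensorKaehlerEquiv R S A B).support_eq]
  exact mem_support_baseChange_iff Ω[A⁄R] q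

end Groth.Agent.Lib.Helper12.UnramBC
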