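import Mathlib
import Groth.Agent.Lib.Helper12.UnramBC
import Groth.Agent.Lib.Helper12.UnivOpenFT

/-! The unramified locus of a morphism of schemes and its compatibility with base change. -/

set_option autoImplicit false
universe u
open AlgebraicGeometry CategoryTheory TopologicalSpace Limits Topology TensorProduct

namespace Groth.Agent.Lib.Helper12.UnramLocus

/-- The set of points at which a morphism is (formally) unramified. -/
def unramLocus {X Y : Scheme.{u}} (f : X ⟶ Y) : Set X :=
  {x | (f.stalkMap x).hom.FormallyUnramified}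

theorem mem_unramLocus_comp_left_iff {U X Y : Scheme.{u}} (j : U ⟶ X) [IsOpenImmersion j]
    (f : X ⟶ Y) (p : U) : p ∈ unramLocus (j ≫ f) ↔ j.base p ∈ unramLocus f := by
  simp only [unramLocus, Set.mem_setOf_eq]
  rw [Scheme.Hom.stalkMap_comp]
  exact RingHom.FormallyUnramified.respectsIso.cancel_right_isIso (f.stalkMap (j.base p))
    (j.stalkMap p)

theorem mem_unramLocus_comp_right_iff {X Y Z : Scheme.{u}} (f : X ⟶ Y) (i : Y ⟶ Z)
    [IsOpenImmersion i] (p : X) : p ∈ unramLocus (f ≫ i) ↔ p ∈ unramLocus f := by
  simp only [unramLocus, Set.mem_setOf_eq]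
  rw [Scheme.Hom.stalkMap_comp]
  exact RingHom.FormallyUnramified.respectsIso.cancel_left_isIso (i.stalkMap (f.base p))
    (f.stalkMap p)

theorem mem_unramLocus_SpecMap_iff {R S : Type u} [CommRing R] [CommRing S] [Algebra R S]
    (p : ↥(Spec (CommRingCat.of S))) :
    p ∈ unramLocus (Spec.map (CommRingCat.ofHom (algebraMap R S))) ↔
      p ∈ Algebra.unramifiedLocus R S := by
  simp only [unramLocus, Set.mem_setOf_eq, Algebra.unramifiedLocus]
  let := Localization.AtPrime.algebraOfLiesOver (p.asIdeal.under R) p.asIdeal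
  trans Algebra.FormallyUnramified (Localization.AtPrime (p.asIdeal.under R))
    (Localization.AtPrime p.asIdeal)
  · rw [← RingHom.formallyUnramified_algebraMap]
    exact RingHom.FormallyUnramified.respectsIso.arrow_mk_iso_iff
      (Scheme.arrowStalkMapSpecIso (CommRingCat.ofHom (algebraMap R S)) p)
  · show Algebra.FormallyUnramified (Localization.AtPrime (p.asIdeal.under R))
      (Localization.AtPrime p.asIdeal) ↔ Algebra.FormallyUnramified R (Localization.AtPrime p.asIdeal)
    exact ⟨fun _ ↦ Algebra.FormallyUnramified.comp _ (Localization.AtPrime (p.asIdeal.under R)) _,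
      fun _ ↦ .of_restrictScalars R _ _⟩

end Groth.Agent.Lib.Helper12.UnramLocus

namespace Groth.Agent.Lib.Helper12.UnramLocus

open Groth.Agent.Lib.Helper12.UnivOpenFT

attribute [local instance] Algebra.TensorProduct.rightAlgebra

/-- The unramified locus of a tensor product, in terms of spectra. -/
theorem mem_unramLocus_specInr_iff (R S T : Type u) [CommRing R] [CommRing S] [CommRing T]
    [Algebra R S] [Algebra R T] [Algebra.FiniteType R S]
    (q : ↥(Spec (CommRingCat.of (S ⊗[R] T)))) :
    q ∈ unramLocus (specInr R S T) ↔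
      (specInl R S T).base q ∈ unramLocus (Spec.map (CommRingCat.ofHom (algebraMap R S))) := by
  have h1 : q ∈ unramLocus (specInr R S T) ↔ q ∈ Algebra.unramifiedLocus T (S ⊗[R] T) :=
    mem_unramLocus_SpecMap_iff (R := T) (S := S ⊗[R] T) q
  rw [h1, mem_unramLocus_SpecMap_iff]
  exact Groth.Agent.Lib.Helper12.UnramBC.mem_unramifiedLocus_iff_of_isPushout R T S (S ⊗[R] T) q

end Groth.Agent.Lib.Helper12.UnramLocus
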