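import Mathlib
import Groth.Agent.Lib.Helper12.UnramLocus

/-! Base change invariance of the unramified locus (scheme level). -/

set_option autoImplicit false
universe u
open AlgebraicGeometry CategoryTheory TopologicalSpace Limits Topology TensorProduct

namespace Groth.Agent.Lib.Helper12.UnramLocus

open Groth.Agent.Lib.Helper12.UnivOpenFT

theorem mem_unramLocus_snd_iff {X Y Y' : Scheme.{u}} (f : X ⟶ Y) [LocallyOfFiniteType f]
    (g : Y' ⟶ Y) (x' : ↥(pullback f g)) :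
    x' ∈ unramLocus (pullback.snd f g) ↔ (pullback.fst f g).base x' ∈ unramLocus f := by
  set x := (pullback.fst f g).base x' with hx
  set y' := (pullback.snd f g).base x' with hy'
  have hcond : f.base x = g.base y' := by
    rw [hx, hy', ← Scheme.Hom.comp_apply, ← Scheme.Hom.comp_apply, pullback.condition]
  obtain ⟨_, ⟨V, hV, rfl⟩, hxV, -⟩ := Y.isBasis_affineOpens.exists_subset_of_mem_open
    (Set.mem_univ (f.base x)) isOpen_univ
  obtain ⟨_, ⟨U, hU, rfl⟩, hxU, hUV⟩ := X.isBasis_affineOpens.exists_subset_of_mem_open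
    (show x ∈ ((f ⁻¹ᵁ V : X.Opens) : Set X) from hxV) (f ⁻¹ᵁ V).2
  obtain ⟨_, ⟨V', hV', rfl⟩, hyV', hV'V⟩ := Y'.isBasis_affineOpens.exists_subset_of_mem_open
    (show y' ∈ ((g ⁻¹ᵁ V : Y'.Opens) : Set Y') from by
      show g.base y' ∈ (V : Set Y)
      rw [← hcond]; exact hxV) (g ⁻¹ᵁ V).2
  have eU : U ≤ f ⁻¹ᵁ V := hUV
  have eV' : V' ≤ g ⁻¹ᵁ V := hV'V
  letI algS : Algebra Γ(Y, V) Γ(X, U) := (f.appLE V U eU).hom.toAlgebra
  letI algT : Algebra Γ(Y, V) Γ(Y', V') := (g.appLE V V' eV').hom.toAlgebra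
  haveI : Algebra.FiniteType Γ(Y, V) Γ(X, U) := f.finiteType_appLE hV hU eU
  have e₁ : Spec.map (CommRingCat.ofHom (algebraMap Γ(Y, V) Γ(X, U))) ≫ hV.fromSpec =
      hU.fromSpec ≫ f := IsAffineOpen.SpecMap_appLE_fromSpec f hV hU eU
  have e₂ : Spec.map (CommRingCat.ofHom (algebraMap Γ(Y, V) Γ(Y', V'))) ≫ hV.fromSpec =
      hV'.fromSpec ≫ g := IsAffineOpen.SpecMap_appLE_fromSpec g hV hV' eV'
  obtain ⟨c, hcO, hc1, hc2, hcr⟩ := exists_chart f g Γ(Y, V) Γ(X, U) Γ(Y', V')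
    hU.fromSpec hV.fromSpec hV'.fromSpec e₁ e₂
  obtain ⟨q, hq⟩ : x' ∈ Set.range c.base := by
    rw [hcr]
    refine ⟨?_, ?_⟩
    · show (pullback.fst f g).base x' ∈ Set.range hU.fromSpec.base
      rw [hU.range_fromSpec]; exact hxU
    · show (pullback.snd f g).base x' ∈ Set.range hV'.fromSpec.base
      rw [hV'.range_fromSpec]; exact hyV'
  have hxq : x = hU.fromSpec.base ((specInl Γ(Y, V) Γ(X, U) Γ(Y', V')).base q) := by
    rw [hx, ← hq, ← Scheme.Hom.comp_apply, ← Scheme.Hom.comp_apply, hc1]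
  rw [hxq, ← hq, ← mem_unramLocus_comp_left_iff c, hc2, mem_unramLocus_comp_right_iff,
    ← mem_unramLocus_comp_left_iff hU.fromSpec f, ← e₁, mem_unramLocus_comp_right_iff]
  exact mem_unramLocus_specInr_iff Γ(Y, V) Γ(X, U) Γ(Y', V') q

/-- Base change invariance of the unramified locus for an arbitrary cartesian square. -/
theorem mem_unramLocus_iff_of_isPullback {X S X' S' : Scheme.{u}} (f : X ⟶ S)
    [LocallyOfFiniteType f] (g : S' ⟶ S) (g' : X' ⟶ X) (f' : X' ⟶ S')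
    (hsq : IsPullback g' f' f g) (x' : X') :
    x' ∈ unramLocus f' ↔ g'.base x' ∈ unramLocus f := by
  have h1 : f' = hsq.isoPullback.hom ≫ pullback.snd f g := (hsq.isoPullback_hom_snd).symm
  have h2 : g' = hsq.isoPullback.hom ≫ pullback.fst f g := (hsq.isoPullback_hom_fst).symm
  rw [h1, mem_unramLocus_comp_left_iff, mem_unramLocus_snd_iff, ← Scheme.Hom.comp_apply, ← h2]

end Groth.Agent.Lib.Helper12.UnramLocus
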