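import Mathlib
import Groth.Agent.Lib.Helper12.UnramLocus2
import Groth.Agent.Lib.Helper12.FibreDimFP

/-! The unramified locus is open, and retrocompact for morphisms locally of finite presentation. -/

set_option autoImplicit false
universe u
open AlgebraicGeometry CategoryTheory TopologicalSpace Limits Topology TensorProduct

namespace Groth.Agent.Lib.Helper12.UnramLocus

/-- A subset of the source of a morphism which is quasi-compact in every affine chart is
retrocompact. -/
theorem isRetrocompact_of_forall_chart {X S : Scheme.{u}} (f : X ⟶ S) (E : Set X)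
    (H : ∀ (W : X.Opens) (V : S.Opens) (hW : IsAffineOpen W) (_ : IsAffineOpen V)
      (_ : W ≤ f ⁻¹ᵁ V), IsCompact (hW.fromSpec.base ⁻¹' E)) : IsRetrocompact E := by
  intro K hKc hKo
  have hchart : ∀ x ∈ K, ∃ (W : X.Opens) (V : S.Opens), IsAffineOpen W ∧ IsAffineOpen V ∧ x ∈ W ∧
      (W : Set X) ⊆ K ∧ W ≤ f ⁻¹ᵁ V := by
    intro x hx
    obtain ⟨_, ⟨V, hV, rfl⟩, hxV, -⟩ := S.isBasis_affineOpens.exists_subset_of_mem_open
      (Set.mem_univ (f.base x)) isOpen_univ
    obtain ⟨_, ⟨W, hW, rfl⟩, hxW, hWsub⟩ := X.isBasis_affineOpens.exists_subset_of_mem_open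
      (⟨hx, hxV⟩ : x ∈ K ∩ (f ⁻¹ᵁ V : Set X)) (hKo.inter (f ⁻¹ᵁ V).2)
    exact ⟨W, V, hW, hV, hxW, fun z hz => (hWsub hz).1, fun z hz => (hWsub hz).2⟩
  choose! W V hW hV hxW hWK hWV using hchart
  obtain ⟨t, htcov⟩ := hKc.elim_nhds_subcover' (fun x hx => (W x : Set X))
    (fun x hx => (W x).2.mem_nhds (hxW x hx))
  have hpiece : ∀ x : K, IsCompact (E ∩ (W x : Set X)) := by
    intro x
    have hc := H (W x) (V x) (hW x x.2) (hV x x.2) (hWV x x.2)
    have himg := hc.image (hW x x.2).fromSpec.continuous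
    rw [Set.image_preimage_eq_inter_range, (hW x x.2).range_fromSpec] at himg
    exact himg
  have hunion : E ∩ K = ⋃ x ∈ t, (E ∩ (W x : Set X)) := by
    ext z
    simp only [Set.mem_inter_iff, Set.mem_iUnion, exists_prop]
    constructor
    · rintro ⟨hz1, hz2⟩
      obtain ⟨x, hxt, hzx⟩ := Set.mem_iUnion₂.mp (htcov hz2)
      exact ⟨x, hxt, hz1, hzx⟩
    · rintro ⟨x, hxt, hz1, hzx⟩
      exact ⟨hz1, hWK x x.2 hzx⟩
  rw [hunion]
  exact t.finite_toSet.isCompact_biUnion (fun x _ => hpiece x)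

theorem preimage_fromSpec_unramLocus {X S : Scheme.{u}} (f : X ⟶ S) {W : X.Opens} {V : S.Opens}
    (hW : IsAffineOpen W) (hV : IsAffineOpen V) (hWV : W ≤ f ⁻¹ᵁ V) :
    hW.fromSpec.base ⁻¹' unramLocus f = unramLocus (Spec.map (f.appLE V W hWV)) := by
  ext q
  rw [Set.mem_preimage, ← mem_unramLocus_comp_left_iff hW.fromSpec f,
    ← IsAffineOpen.SpecMap_appLE_fromSpec f hV hW hWV, mem_unramLocus_comp_right_iff]

theorem isOpen_unramLocus_Spec {R A : CommRingCat.{u}} (φ : R ⟶ A) (hφ : φ.hom.FiniteType) :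
    IsOpen (unramLocus (Spec.map φ)) := by
  algebraize [φ.hom]
  have : unramLocus (Spec.map φ) = Algebra.unramifiedLocus R A := by
    ext q
    exact mem_unramLocus_SpecMap_iff (R := R) (S := A) q
  rw [this]
  exact Algebra.isOpen_unramifiedLocus

theorem isOpen_unramLocus {X S : Scheme.{u}} (f : X ⟶ S) [LocallyOfFiniteType f] :
    IsOpen (unramLocus f) := by
  rw [isOpen_iff_mem_nhds]
  intro x hx
  obtain ⟨_, ⟨V, hV, rfl⟩, hxV, -⟩ := S.isBasis_affineOpens.exists_subset_of_mem_open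
    (Set.mem_univ (f.base x)) isOpen_univ
  obtain ⟨_, ⟨W, hW, rfl⟩, hxW, hWV⟩ := X.isBasis_affineOpens.exists_subset_of_mem_open
    (show x ∈ ((f ⁻¹ᵁ V : X.Opens) : Set X) from hxV) (f ⁻¹ᵁ V).2
  have hop := isOpen_unramLocus_Spec (f.appLE V W hWV) (f.finiteType_appLE hV hW hWV)
  rw [← preimage_fromSpec_unramLocus f hW hV hWV] at hop
  have himg := hW.fromSpec.isOpenEmbedding.isOpenMap _ hop
  rw [Set.image_preimage_eq_inter_range, hW.range_fromSpec] at himg
  exact Filter.mem_of_superset (himg.mem_nhds ⟨hx, hxW⟩) Set.inter_subset_left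

open Groth.Agent.Lib.Helper12.FibreDimFP in
theorem isCompact_unramLocus_Spec {R A : CommRingCat.{u}} (φ : R ⟶ A)
    (hφ : φ.hom.FinitePresentation) : IsCompact (unramLocus (Spec.map φ)) := by
  obtain ⟨R₀, A₀, φ₀, a, b, hN, hφ₀, sq⟩ := exists_noetherian_model φ hφ
  haveI : LocallyOfFiniteType (Spec.map φ₀) := by
    rw [HasRingHomProperty.Spec_iff (P := @LocallyOfFiniteType)]
    exact RingHom.FiniteType.of_finitePresentation hφ₀
  have heq : unramLocus (Spec.map φ) = (Spec.map b).base ⁻¹' unramLocus (Spec.map φ₀) := by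
    ext q
    exact mem_unramLocus_iff_of_isPullback (Spec.map φ₀) (Spec.map a) (Spec.map b) (Spec.map φ) sq q
  rw [heq]
  have hopen := isOpen_unramLocus (Spec.map φ₀)
  haveI : IsNoetherianRing A₀ := by
    algebraize [φ₀.hom]
    haveI : Algebra.FiniteType R₀ A₀ := RingHom.FiniteType.of_finitePresentation hφ₀
    exact Algebra.FiniteType.isNoetherianRing R₀ A₀
  haveI : NoetherianSpace ↥(Spec A₀) := inferInstanceAs (NoetherianSpace (PrimeSpectrum A₀))
  have hcomp : IsCompact (unramLocus (Spec.map φ₀)) := NoetherianSpace.isCompact _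
  exact QuasiCompact.isCompact_preimage (f := Spec.map b) _ hopen hcomp

theorem isRetrocompact_unramLocus {X S : Scheme.{u}} (f : X ⟶ S)
    [LocallyOfFinitePresentation f] : IsRetrocompact (unramLocus f) := by
  apply isRetrocompact_of_forall_chart f
  intro W V hW hV hWV
  rw [preimage_fromSpec_unramLocus f hW hV hWV]
  exact isCompact_unramLocus_Spec _ (f.finitePresentation_appLE hV hW hWV)

theorem isLocallyConstructible_unramLocus {X S : Scheme.{u}} (f : X ⟶ S)
    [LocallyOfFinitePresentation f] : IsLocallyConstructible (unramLocus f) :=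
  (isRetrocompact_unramLocus f).isLocallyConstructible (isOpen_unramLocus f)

end Groth.Agent.Lib.Helper12.UnramLocus
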