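import Mathlib
import Groth.Agent.Lib.Helper12.FibQF
import Groth.Agent.S9358

/-! Quasi-finiteness at a point is invariant under base change. -/

set_option autoImplicit false
universe u
open AlgebraicGeometry CategoryTheory TopologicalSpace Limits Topology

namespace Groth.Agent.Lib.Helper12.FibQF

theorem quasiFiniteAt_iff_of_isPullback {X S X' S' : Scheme.{u}} (f : X ⟶ S)
    [LocallyOfFiniteType f] (g : S' ⟶ S) (g' : X' ⟶ X) (f' : X' ⟶ S')
    (hsq : IsPullback g' f' f g) (x' : X') :
    f'.QuasiFiniteAt x' ↔ f.QuasiFiniteAt (g'.base x') := by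
  haveI : LocallyOfFiniteType f' :=
    MorphismProperty.of_isPullback (P := @LocallyOfFiniteType) hsq inferInstance
  rw [← fibreDimAt_le_zero_iff, ← fibreDimAt_le_zero_iff,
    (Groth.Agent.S9358.result f g g' f' hsq 0).1 x']

end Groth.Agent.Lib.Helper12.FibQF
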