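import Mathlib
import Groth.Agent.Lib.Helper26.ProConsSch
import Groth.Agent.Lib.Helper12.LimTop

/-!
# Basic pro-constructible and ind-constructible subsets of schemes: points and open subsets
-/

universe u

set_option backward.isDefEq.respectTransparency false

open CategoryTheory Limits AlgebraicGeometry TopologicalSpace Topology

namespace Groth.Agent.Lib.Helper12.ProConsBasic

open Groth.Agent.Lib.Helper26.ProConsTop Groth.Agent.Lib.Helper26.ProConsSch

/-- Open subsets of a scheme are ind-constructible. -/
lemma isIndConstructible_of_isOpen {X : Scheme.{u}} {O : Set X} (hO : IsOpen O) :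
    ProCons.IsIndConstructible O := by
  rw [isIndConstructible_iff]
  intro U hU
  haveI : IsAffine (U : Scheme.{u}) := hU
  have h1 : IsOpen (U.ι.base ⁻¹' O) := hO.preimage U.ι.continuous
  obtain ⟨S, hS, hSe⟩ :=
    (PrespectralSpace.isTopologicalBasis (X := (U : Scheme.{u}))).open_eq_sUnion h1
  rw [hSe]
  refine @isOpen_sUnion _ (constructibleTopology _) _ fun s hs => ?_
  exact (hS hs).2.isOpen_constructibleTopology_of_isOpen (hS hs).1

/-- Points of a scheme are pro-constructible. -/
lemma isProConstructible_singleton {X : Scheme.{u}} (x : X) :
    ProCons.IsProConstructible ({x} : Set X) := by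
  rw [isProConstructible_iff]
  intro U hU
  haveI : IsAffine (U : Scheme.{u}) := hU
  by_cases hx : x ∈ U
  · have : U.ι.base ⁻¹' ({x} : Set X) = {(⟨x, hx⟩ : U)} := by
      ext w
      simp only [Set.mem_preimage, Set.mem_singleton_iff]
      constructor
      · intro h; exact Subtype.ext h
      · intro h; rw [h]; rfl
    rw [this]
    exact Groth.Agent.Lib.Helper12.LimTop.isClosed_cons_singleton _
  · have : U.ι.base ⁻¹' ({x} : Set X) = ∅ := by
      ext w
      simp only [Set.mem_preimage, Set.mem_singleton_iff, Set.mem_empty_iff_false, iff_false]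
      intro h
      exact hx (h ▸ w.2)
    rw [this]
    exact @isClosed_empty _ (constructibleTopology _)

/-- Fibres of a morphism of schemes are pro-constructible. -/
lemma isProConstructible_preimage_singleton {X Y : Scheme.{u}} (f : X ⟶ Y) (y : Y) :
    ProCons.IsProConstructible (f.base ⁻¹' ({y} : Set Y)) :=
  isProConstructible_preimage f (isProConstructible_singleton y)

end Groth.Agent.Lib.Helper12.ProConsBasic
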