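import Mathlib
import Groth.Agent.S3427
import Groth.Agent.Lib.Helper12.LimProCons
import Groth.Agent.Lib.Helper26.ProConsSch
import Groth.Agent.Lib.Helper12.ProConsBasic
import Groth.Agent.Lib.Helper12.LimSep

/-!
# Helper library (helper12): fibrewise specializations of a constructible set
-/

set_option autoImplicit false
universe u
open AlgebraicGeometry CategoryTheory CategoryTheory.Limits Topology

namespace Groth.Agent.Lib.Helper12.FibSpec

set_option backward.isDefEq.respectTransparency false

/-- A generization `z` of `x` in the fibre through `x` lifts to a generization of the diagonal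
point over `x` in `W ×_V W`, lying over `(z, x)`. -/
theorem exists_specializes_diagonal {W V : Scheme.{u}} (φ : W ⟶ V) (x z : W) (hz : φ z = φ x)
    (hzx : z ⤳ x) :
    ∃ w : ↥(pullback φ φ), pullback.fst φ φ w = z ∧ pullback.snd φ φ w = x ∧
      w ⤳ pullback.diagonal φ x := by
  let t : Spec (W.residueField x) ⟶ W := W.fromSpecResidueField x
  let r : Spec (W.residueField x) ⟶ Spec (V.residueField (φ x)) := Spec.map (φ.residueFieldMap x)
  haveI : Flat r := by
    rw [HasRingHomProperty.Spec_iff (P := @Flat)]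
    letI := (φ.residueFieldMap x).hom.toAlgebra
    show Module.Flat (V.residueField (φ x)) (W.residueField x)
    infer_instance
  let a := pullback.fst (φ.fiberToSpecResidueField (φ x)) r
  let b := pullback.snd (φ.fiberToSpecResidueField (φ x)) r
  haveI : Flat a := inferInstance
  have hrt : r ≫ V.fromSpecResidueField (φ x) = t ≫ φ :=
    Scheme.Hom.SpecMap_residueFieldMap_fromSpecResidueField φ x
  have hcond : (a ≫ φ.fiberι (φ x)) ≫ φ = (b ≫ t) ≫ φ := by
    rw [Category.assoc, Scheme.Hom.fiber_fac, ← Category.assoc, pullback.condition, Category.assoc,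
      hrt, Category.assoc]
  let j : pullback (φ.fiberToSpecResidueField (φ x)) r ⟶ pullback φ φ :=
    pullback.lift (a ≫ φ.fiberι (φ x)) (b ≫ t) hcond
  let δ : Spec (W.residueField x) ⟶ pullback (φ.fiberToSpecResidueField (φ x)) r :=
    pullback.lift (φ.asFiberHom x) (𝟙 _) (by
      rw [Scheme.Hom.asFiberHom_fiberToSpecResidueField, Category.id_comp])
  have hδj : δ ≫ j = t ≫ pullback.diagonal φ := by
    apply pullback.hom_ext
    · simp only [δ, j, a, Category.assoc, pullback.lift_fst, pullback.lift_fst_assoc,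
        pullback.diagonal_fst, Category.comp_id]
      exact Scheme.Hom.asFiberHom_fiberι φ x
    · simp only [δ, j, b, Category.assoc, pullback.lift_snd, pullback.lift_snd_assoc,
        pullback.diagonal_snd, Category.comp_id, Category.id_comp]
  let pt : Spec (W.residueField x) := IsLocalRing.closedPoint (W.residueField x)
  have had : a (δ pt) = φ.asFiber x := by
    rw [← Scheme.Hom.comp_apply]
    simp only [δ, a, pullback.lift_fst]
    exact Scheme.Hom.asFiberHom_apply φ x pt
  let zF : φ.fiber (φ x) := (φ.fiberHomeo (φ x)).symm ⟨z, hz⟩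
  have hzF : φ.fiberι (φ x) zF = z := φ.fiberι_fiberHomeo_symm (φ x) ⟨z, hz⟩
  have hsp : zF ⤳ a (δ pt) := by
    rw [had]
    apply (φ.fiberι (φ x)).isEmbedding.isInducing.specializes_iff.mp
    rw [hzF, φ.fiberι_asFiber]
    exact hzx
  obtain ⟨w', hw'd, haw'⟩ := (Flat.generalizingMap a) hsp
  refine ⟨j w', ?_, ?_, ?_⟩
  · rw [← Scheme.Hom.comp_apply]
    simp only [j, pullback.lift_fst]
    rw [Scheme.Hom.comp_apply]
    show φ.fiberι (φ x) (a w') = z
    rw [haw', hzF]
  · rw [← Scheme.Hom.comp_apply]
    simp only [j, pullback.lift_snd]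
    rw [Scheme.Hom.comp_apply]
    exact Scheme.fromSpecResidueField_apply _ _
  · have h1 : j (δ pt) = pullback.diagonal φ x := by
      rw [← Scheme.Hom.comp_apply, hδj, Scheme.Hom.comp_apply]
      congr 1
      exact Scheme.fromSpecResidueField_apply _ _
    rw [← h1]
    exact hw'd.map j.continuous

/-- the set of specializations, inside the fibres of `φ`, of the points of `U` -/
def spFib {W V : Scheme.{u}} (φ : W ⟶ V) (U : Set W) : Set W :=
  {x | ∃ z ∈ U, φ z = φ x ∧ z ⤳ x}

/-- affine case of the constructibility of fibrewise specializations -/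
theorem isConstructible_spFib_of_isAffine {W V : Scheme.{u}} [IsAffine W] [IsAffine V] (φ : W ⟶ V)
    [LocallyOfFinitePresentation φ] (U : Set W) (hU : IsConstructible U) :
    IsConstructible (spFib φ U) := by
  set p₁ := pullback.fst φ φ with hp₁
  set p₂ := pullback.snd φ φ with hp₂
  set Δ := pullback.diagonal φ with hΔ
  haveI : LocallyOfFinitePresentation Δ :=
    Groth.Agent.Lib.Helper12.locallyOfFinitePresentation_diagonal φ
  haveI : QuasiCompact Δ := inferInstance
  have hZ : IsConstructible (p₁ ⁻¹' U) := p₁.isConstructible_preimage hU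
  have hR : IsLocallyConstructible (Set.range Δ) := by
    rw [← Set.image_univ]
    exact Δ.isLocallyConstructible_image IsLocallyConstructible.univ
  have hmain := Groth.Agent.S3427.result p₂ (p₁ ⁻¹' U) (p₁ ⁻¹' U ∪ Set.range Δ)
    hZ.isLocallyConstructible (hZ.isLocallyConstructible.union hR) Set.subset_union_left
  refine IsLocallyConstructible.isConstructible ?_
  convert hmain using 1
  ext x
  have hΔ₁ : p₁ (Δ x) = x := by
    rw [← Scheme.Hom.comp_apply, hΔ, hp₁, pullback.diagonal_fst]; rfl
  have hΔ₂ : p₂ (Δ x) = x := by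
    rw [← Scheme.Hom.comp_apply, hΔ, hp₂, pullback.diagonal_snd]; rfl
  constructor
  · rintro ⟨z, hzU, hz, hzx⟩
    rintro w ⟨hw | ⟨x', rfl⟩, hwx⟩
    · exact subset_closure ⟨hw, hwx⟩
    · have hx' : x' = x := by
        have : p₂ (Δ x') = x := hwx
        rw [← this, ← Scheme.Hom.comp_apply, hΔ, hp₂, pullback.diagonal_snd]; rfl
      subst hx'
      obtain ⟨w, hw1, hw2, hw3⟩ := exists_specializes_diagonal φ x' z hz hzx
      exact hw3.mem_closed isClosed_closure (subset_closure ⟨by show p₁ w ∈ U; rw [hw1]; exact hzU, hw2⟩)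
  · intro H
    have h1 : Δ x ∈ closure (p₁ ⁻¹' U ∩ p₂ ⁻¹' {x}) := H ⟨Or.inr ⟨x, rfl⟩, hΔ₂⟩
    have hpc : ProCons.IsProConstructible (p₁ ⁻¹' U ∩ p₂ ⁻¹' {x}) :=
      Groth.Agent.Lib.Helper12.LimProCons.isProConstructible_inter
        (Groth.Agent.Lib.Helper12.LimProCons.isProConstructible_of_isConstructible hZ)
        (Groth.Agent.Lib.Helper12.ProConsBasic.isProConstructible_preimage_singleton p₂ x)
    obtain ⟨w, ⟨hwU, hwx⟩, hsp⟩ :=
      Groth.Agent.Lib.Helper26.ProConsSch.exists_specializes_of_mem_closure hpc h1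
    refine ⟨p₁ w, hwU, ?_, ?_⟩
    · have h2 : φ (p₁ w) = φ (p₂ w) := by
        rw [← Scheme.Hom.comp_apply, ← Scheme.Hom.comp_apply, hp₁, hp₂, pullback.condition]
      rw [h2]
      congr 1
    · have := hsp.map p₁.continuous
      rwa [hΔ₁] at this

/-- **Fibrewise specializations** of a locally constructible set along a morphism locally of
finite presentation form a locally constructible set (cf. EGA IV 9.5.3). -/
theorem isLocallyConstructible_spFib {X S : Scheme.{u}} (f : X ⟶ S)
    [LocallyOfFinitePresentation f] (U : Set X) (hU : IsLocallyConstructible U) :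
    IsLocallyConstructible (spFib f U) := by
  intro x
  obtain ⟨V, hV, hxV, -⟩ :=
    Groth.Agent.Lib.Helper26.ProConsTop.exists_isAffineOpen_mem_le S (f x) ⊤ trivial
  obtain ⟨W, hW, hxW, hWV⟩ :=
    Groth.Agent.Lib.Helper26.ProConsTop.exists_isAffineOpen_mem_le X x (f ⁻¹ᵁ V) hxV
  refine ⟨W, W.2.mem_nhds hxW, W.2, ?_⟩
  haveI : IsAffine (W : Scheme.{u}) := hW
  haveI : IsAffine (V : Scheme.{u}) := hV
  have hUW : IsConstructible (W.ι ⁻¹' U) :=
    (hU.preimage_of_isOpenEmbedding W.ι.isOpenEmbedding).isConstructible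
  have key := isConstructible_spFib_of_isAffine (f.resLE V W hWV) _ hUW
  have heq : W.ι ⁻¹' spFib f U = spFib (f.resLE V W hWV) (W.ι ⁻¹' U) := ?_
  · rw [← heq] at key
    exact key
  ext w
  have hres : ∀ p : (W : Scheme.{u}), V.ι (f.resLE V W hWV p) = f (W.ι p) :=
    Groth.Agent.Lib.Helper26.ProConsSch.resLE_apply f hWV
  constructor
  · rintro ⟨z, hzU, hz, hzw⟩
    have hzW : z ∈ W := hzw.mem_open W.2 w.2
    refine ⟨⟨z, hzW⟩, hzU, ?_, ?_⟩
    · apply V.ι.isOpenEmbedding.injective
      rw [hres, hres]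
      exact hz
    · exact W.ι.isOpenEmbedding.isInducing.specializes_iff.mp hzw
  · rintro ⟨z', hzU, hz, hzw⟩
    refine ⟨W.ι z', hzU, ?_, hzw.map W.ι.continuous⟩
    have := congrArg V.ι hz
    rw [hres, hres] at this
    exact this

end Groth.Agent.Lib.Helper12.FibSpec
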