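import Mathlib
import Groth.Prelude.Def_Found
import Groth.Agent.Lib.Helper12.EquidimSub
import Groth.Agent.Lib.Helper12.SchemeDimFT4

/-!
# Helper library (helper12): sections avoiding the maximal points of a fibre (prime avoidance)
-/

set_option autoImplicit false
universe u v
open AlgebraicGeometry CategoryTheory TopologicalSpace

namespace Groth.Agent.Lib.Helper12.FibreAvoid

open Groth.Agent.Lib.Helper12 Groth.Agent.Lib.Helper12.SchemeDimFT
open Groth.Agent.Lib.Helper12.EquidimSub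

section Fin

variable {X Y : Scheme.{u}} (f : X ⟶ Y)

theorem apply_fiberι' (y : Y) (ζ : f.fiber y) : f (f.fiberι y ζ) = y := by
  have h3 : f.fiberι y ζ ∈ Set.range (f.fiberι y) := ⟨ζ, rfl⟩
  rw [Scheme.Hom.range_fiberι] at h3
  exact h3

/-- A fibre of a morphism from a Noetherian space has finitely many maximal points. -/
theorem finite_maxPts_fiber [NoetherianSpace X] (y : Y) :
    {z : X | f z = y ∧ ∀ z' : X, f z' = y → z' ⤳ z → z' = z}.Finite := by
  haveI : NoetherianSpace (f.fiber y) := ((f.fiberι y).isEmbedding.isInducing).noetherianSpace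
  have hfin : (irreducibleComponents (f.fiber y)).Finite :=
    NoetherianSpace.finite_irreducibleComponents
  have h1 : {η : f.fiber y | IsMaxPt η}.Finite := by
    refine Set.Finite.of_injOn (f := fun η => closure ({η} : Set (f.fiber y))) ?_ ?_ hfin
    · intro η hη
      exact (mem_irreducibleComponents_iff _).mpr ⟨η, hη, rfl⟩
    · intro a _ b _ hab
      exact (inseparable_iff_closure_eq.mpr hab).eq
  apply (h1.image (fun η => f.fiberι y η)).subset
  rintro z ⟨hz, hmax⟩
  refine ⟨(f.fiberHomeo y).symm ⟨z, hz⟩, ?_, f.fiberι_fiberHomeo_symm y ⟨z, hz⟩⟩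
  intro w hw
  have h2 := hw.map (f.fiberι y).continuous
  rw [f.fiberι_fiberHomeo_symm y ⟨z, hz⟩] at h2
  have h3 := hmax _ (apply_fiberι' f y w) h2
  exact (f.fiberι y).isEmbedding.injective
    (h3.trans (f.fiberι_fiberHomeo_symm y ⟨z, hz⟩).symm)

/-- Prime avoidance: on an affine open `U` with Noetherian coordinate ring, there is a section
vanishing at a point `x` which is not maximal in its fibre, and invertible at all the maximal
points of the fibre lying in `U`. -/
theorem exists_section_avoiding (x : X) (U : X.Opens) (hU : IsAffineOpen U) (hxU : x ∈ U)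
    [IsNoetherianRing Γ(X, U)]
    (hx : ∃ x' : X, f x' = f x ∧ x' ≠ x ∧ x' ⤳ x) :
    ∃ g : Γ(X, U), x ∉ X.basicOpen g ∧
      ∀ z : X, f z = f x → (∀ z' : X, f z' = f x → z' ⤳ z → z' = z) → z ∈ U →
        z ∈ X.basicOpen g := by
  classical
  haveI : NoetherianSpace U := noetherianSpace_of_isAffineOpen U hU
  have hfin := finite_maxPts_fiber (U.ι ≫ f) (f x)
  -- the finite set of primes to avoid
  set s : Finset ↥(U : Scheme.{u}) := hfin.toFinset with hs
  let P : ↥(U : Scheme.{u}) → Ideal Γ(X, U) := fun i => (hU.primeIdealOf ⟨i.1, i.2⟩).asIdeal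
  have key : ¬ ((hU.primeIdealOf ⟨x, hxU⟩).asIdeal : Set Γ(X, U)) ⊆
      ⋃ i ∈ (↑s : Set ↥(U : Scheme.{u})), (P i : Set Γ(X, U)) := by
    rw [Ideal.subset_union_prime (f := P) (⟨x, hxU⟩ : ↥(U : Scheme.{u}))
      (⟨x, hxU⟩ : ↥(U : Scheme.{u})) (fun i _ _ _ => (hU.primeIdealOf ⟨i.1, i.2⟩).2)]
    rintro ⟨i, his, hle⟩
    have hi : (U.ι ≫ f) i = f x ∧
        ∀ z' : ↥(U : Scheme.{u}), (U.ι ≫ f) z' = f x → z' ⤳ i → z' = i := by
      have := (Set.Finite.mem_toFinset hfin).mp his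
      exact this
    have h1 : x ⤳ i.1 := (primeIdealOf_le_iff hU ⟨x, hxU⟩ ⟨i.1, i.2⟩).mp hle
    have h2 : (⟨x, hxU⟩ : ↥(U : Scheme.{u})) = i :=
      hi.2 ⟨x, hxU⟩ rfl (U.ι.isEmbedding.isInducing.specializes_iff.mp h1)
    obtain ⟨x', hx'1, hx'2, hx'3⟩ := hx
    have hx'U : x' ∈ U := hx'3.mem_open U.2 hxU
    have h3 : (⟨x', hx'U⟩ : ↥(U : Scheme.{u})) ⤳ i := by
      rw [← h2]
      exact U.ι.isEmbedding.isInducing.specializes_iff.mp hx'3
    have h4 := hi.2 ⟨x', hx'U⟩ hx'1 h3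
    apply hx'2
    rw [← h2] at h4
    exact congrArg Subtype.val h4
  rw [Set.not_subset] at key
  obtain ⟨g, hg1, hg2⟩ := key
  refine ⟨g, ?_, ?_⟩
  · rw [mem_basicOpen_iff_notMem_primeIdealOf hU ⟨x, hxU⟩ g, not_not]
    exact hg1
  · intro z hz hmax hzU
    rw [mem_basicOpen_iff_notMem_primeIdealOf hU ⟨z, hzU⟩ g]
    intro hmem
    apply hg2
    simp only [Set.mem_iUnion]
    refine ⟨⟨z, hzU⟩, ?_, hmem⟩
    rw [Finset.mem_coe, hs, Set.Finite.mem_toFinset]
    refine ⟨hz, ?_⟩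
    intro z' hz' hsp
    have := hmax (U.ι z') hz' (hsp.map U.ι.continuous)
    exact Subtype.ext this

end Fin

end Groth.Agent.Lib.Helper12.FibreAvoid
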