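import Mathlib
import Groth.Prelude.Def_MoreMor
import Groth.Agent.Lib.Helper12.FibreDominant
import Groth.Agent.Lib.Helper12.ConsMorGen

/-!
# Separatedness of the morphism of fibres in terms of the trace of the diagonal
-/

set_option autoImplicit false
universe u
open AlgebraicGeometry CategoryTheory CategoryTheory.Limits TopologicalSpace Topology

namespace Groth.Agent.Lib.Helper12.FibreSep

open Groth.Agent.Lib.Helper12.FibreTop Groth.Agent.Lib.Helper12.FibreDominant

set_option backward.isDefEq.respectTransparency false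

section Diag

variable {X X' Y Y' : Scheme.{u}} {f : X ⟶ Y} {f' : X' ⟶ Y'} {a : X' ⟶ X} {b : Y' ⟶ Y}

/-- The projection square of the map of diagonal objects induced by a base change. -/
theorem isPullback_map_fst (hX : IsPullback a f' f b) :
    IsPullback (pullback.map f' f' f f a a b hX.w.symm hX.w.symm) (pullback.fst f' f') (pullback.fst f f) a := by
  have outer : IsPullback (pullback.snd f' f' ≫ a) (pullback.fst f' f') f (f' ≫ b) :=
    (IsPullback.of_hasPullback f' f').flip.paste_horiz hX
  have e1 : pullback.snd f' f' ≫ a =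
      pullback.map f' f' f f a a b hX.w.symm hX.w.symm ≫ pullback.snd f f := by simp
  have outer' : IsPullback (pullback.map f' f' f f a a b hX.w.symm hX.w.symm ≫ pullback.snd f f)
      (pullback.fst f' f') f (a ≫ f) := by
    rw [← e1, hX.w]
    exact outer
  exact IsPullback.of_right outer' (by simp) (IsPullback.of_hasPullback f f).flip

/-- The diagonal of a base change is the base change of the diagonal. -/
theorem isPullback_diagonal (hX : IsPullback a f' f b) :
    IsPullback (pullback.diagonal f') a (pullback.map f' f' f f a a b hX.w.symm hX.w.symm)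
      (pullback.diagonal f) := by
  refine IsPullback.of_right ?_ ?_ (isPullback_map_fst hX).flip
  · rw [pullback.diagonal_fst, pullback.diagonal_fst]
    exact IsPullback.of_horiz_isIso ⟨by simp⟩
  · ext <;> simp

end Diag

/-- The range of a base change is the preimage of the range. -/
theorem range_eq_preimage_of_isPullback {X X' P P' : Scheme.{u}} {δ : X ⟶ P} {δ' : X' ⟶ P'}
    {a : X' ⟶ X} {m : P' ⟶ P} (h : IsPullback a δ' δ m) :
    Set.range δ' = m ⁻¹' Set.range δ := by
  apply Set.Subset.antisymm
  · rintro _ ⟨x, rfl⟩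
    refine ⟨a x, ?_⟩
    rw [← Scheme.Hom.comp_apply, h.w, Scheme.Hom.comp_apply]
  · rintro y ⟨x, hx⟩
    obtain ⟨z, -, hz2⟩ := Scheme.Pullback.exists_preimage_pullback (f := δ) (g := m) x y hx
    refine ⟨h.isoPullback.inv z, ?_⟩
    rw [← Scheme.Hom.comp_apply, h.isoPullback_inv_snd]
    exact hz2

/-- Closedness of a trace on the fibre can be tested on any model of the fibre. -/
theorem isClosed_preimage_iff_rClosed {P S W : Scheme.{u}} (p : P ⟶ S) (s : S) {m : W ⟶ P}
    {t : W ⟶ Spec (S.residueField s)} (hm : IsPullback m t p (S.fromSpecResidueField s))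
    (Z : Set P) : IsClosed (m ⁻¹' Z) ↔ RClosed p Z s := by
  obtain ⟨e, he⟩ : ∃ e : W ≅ p.fiber s, e.hom ≫ p.fiberι s = m :=
    ⟨hm.isoPullback, hm.isoPullback_hom_fst⟩
  have h1 : m ⁻¹' Z = (Scheme.homeoOfIso e) ⁻¹' ((p.fiberι s) ⁻¹' Z) := by
    rw [← he]; rfl
  rw [h1, (Scheme.homeoOfIso e).isClosed_preimage, rClosed_iff,
    ← closure_subset_iff_isClosed, ← preimage_closure_fiberι]
  constructor
  · rintro h x ⟨hx1, hx2⟩
    rw [← p.range_fiberι s] at hx2
    obtain ⟨w, rfl⟩ := hx2
    exact h hx1
  · rintro h w hw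
    refine h ⟨hw, ?_⟩
    rw [← p.range_fiberι s]
    exact ⟨w, rfl⟩

variable {X Y S : Scheme.{u}} (f : X ⟶ Y) (g : Y ⟶ S)

/-- The diagonal object of `f`, as a scheme over `S`. -/
noncomputable abbrev diagStr : pullback f f ⟶ S := pullback.fst f f ≫ f ≫ g

theorem isSeparated_fiberMap_iff (s : S) :
    IsSeparated (MoreMor.fiberMap f g s) ↔
      RClosed (diagStr f g) (Set.range (pullback.diagonal f)) s := by
  have hX := Groth.Agent.Lib.Helper12.ConsMorGen.isPullback_fiberMap f g s
  have h1 := isPullback_diagonal hX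
  have h2 := isPullback_map_fst hX
  have h3 : IsPullback ((f ≫ g).fiberι s) ((f ≫ g).fiberToSpecResidueField s) (f ≫ g)
      (S.fromSpecResidueField s) := IsPullback.of_hasPullback _ _
  have h4 := h2.paste_vert h3
  rw [← isClosed_preimage_iff_rClosed (diagStr f g) s h4, ← range_eq_preimage_of_isPullback h1.flip]
  constructor
  · intro hsep
    exact (pullback.diagonal (MoreMor.fiberMap f g s)).isClosedEmbedding.isClosed_range
  · intro hcl
    exact ⟨IsClosedImmersion.of_isPreimmersion _ hcl⟩

end Groth.Agent.Lib.Helper12.FibreSep
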