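import Mathlib
import Groth.Agent.Lib.Helper12.FibreSep
import Groth.Agent.Lib.Helper12.ConsPairProper
import Groth.Agent.Lib.Helper12.ConsMorLocus
import Groth.Agent.S0086

/-!
# Properness of the morphism of fibres via Chow's lemma
-/

set_option autoImplicit false
universe u
open AlgebraicGeometry CategoryTheory CategoryTheory.Limits TopologicalSpace Topology

namespace Groth.Agent.Lib.Helper12.FibreProper

open Groth.Agent.Lib.Helper12.FibreTop Groth.Agent.Lib.Helper12.FibreDominant
  Groth.Agent.Lib.Helper12.FibreSep Groth.Agent.Lib.Helper12.FibreTopGen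
  Groth.Agent.Lib.Helper12.ConstrNhds Groth.Agent.Lib.Helper12.ConsMorLocus
  Groth.Agent.Lib.Helper12.ConsPairGen

set_option backward.isDefEq.respectTransparency false
set_option linter.style.haveILetI false

section Chow

variable {X X' Y P T : Scheme.{u}} (f : X ⟶ Y) (π : X' ⟶ X) (j : X' ⟶ P) (q : P ⟶ Y)
  (h : X' ⟶ Y) (hπ : π ≫ f = h) (hj : j ≫ q = h) (b : T ⟶ Y)

include hπ hj in
/-- Chow's criterion after a base change: with `π : X' ⟶ X` proper surjective, `j : X' ⟶ P` an
immersion into a proper `Y`-scheme, the base change of the separated morphism of finite type `f`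
along `b` is proper if and only if the preimage of the image of `j` is closed. -/
theorem isProper_snd_iff [IsSeparated f] [LocallyOfFiniteType f] [IsProper π] [Surjective π]
    [IsImmersion j] [IsProper q] :
    IsProper (pullback.snd f b) ↔ IsClosed ((pullback.fst q b) ⁻¹' Set.range j) := by
  -- the base changes
  have wπ : (pullback.fst h b ≫ π) ≫ f = pullback.snd h b ≫ b := by
    rw [Category.assoc, hπ, pullback.condition]
  have wj : (pullback.fst h b ≫ j) ≫ q = pullback.snd h b ≫ b := by
    rw [Category.assoc, hj, pullback.condition]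
  have sqπ : IsPullback (pullback.fst h b) (pullback.lift _ _ wπ) π (pullback.fst f b) := by
    refine IsPullback.of_bot ?_ (pullback.lift_fst _ _ wπ).symm (IsPullback.of_hasPullback f b)
    rw [pullback.lift_snd, hπ]
    exact IsPullback.of_hasPullback h b
  have sqj : IsPullback (pullback.fst h b) (pullback.lift _ _ wj) j (pullback.fst q b) := by
    refine IsPullback.of_bot ?_ (pullback.lift_fst _ _ wj).symm (IsPullback.of_hasPullback q b)
    rw [pullback.lift_snd, hj]
    exact IsPullback.of_hasPullback h b
  haveI : IsProper (pullback.lift _ _ wπ) :=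
    MorphismProperty.of_isPullback (P := @IsProper) sqπ inferInstance
  haveI : Surjective (pullback.lift _ _ wπ) :=
    MorphismProperty.of_isPullback (P := @Surjective) sqπ inferInstance
  haveI : IsImmersion (pullback.lift _ _ wj) :=
    MorphismProperty.of_isPullback (P := @IsImmersion) sqj inferInstance
  have hcomp : pullback.lift _ _ wπ ≫ pullback.snd f b = pullback.lift _ _ wj ≫ pullback.snd q b := by
    rw [pullback.lift_snd, pullback.lift_snd]
  rw [← range_eq_preimage_of_isPullback sqj]
  constructor
  · intro hp
    haveI : IsProper (pullback.lift _ _ wj ≫ pullback.snd q b) := by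
      rw [← hcomp]; infer_instance
    haveI : IsProper (pullback.lift _ _ wj) := IsProper.of_comp _ (pullback.snd q b)
    exact (pullback.lift _ _ wj).isClosedMap.isClosed_range
  · intro hcl
    haveI : IsClosedImmersion (pullback.lift _ _ wj) := IsClosedImmersion.of_isPreimmersion _ hcl
    haveI : IsProper (pullback.lift _ _ wπ ≫ pullback.snd f b) := by
      rw [hcomp]; infer_instance
    haveI : UniversallyClosed (pullback.snd f b) :=
      UniversallyClosed.of_comp_surjective (pullback.lift _ _ wπ) _
    exact ⟨⟩

end Chow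

variable {X Y S : Scheme.{u}} (f : X ⟶ Y) (g : Y ⟶ S)

/-- Transfer of a property stable under base change between two base changes along the same
morphism. -/
theorem iff_of_isPullback_snd (Q : MorphismProperty Scheme.{u}) [Q.RespectsIso]
    {X X' Y Y' : Scheme.{u}} {f : X ⟶ Y} {f' : X' ⟶ Y'} {a : X' ⟶ X} {b : Y' ⟶ Y}
    (hX : IsPullback a f' f b) : Q f' ↔ Q (pullback.snd f b) := by
  rw [← hX.isoPullback_hom_snd]
  exact Q.cancel_left_of_respectsIso _ _

/-- Fibrewise Chow criterion. -/
theorem isProper_fiberMap_iff {X' P : Scheme.{u}} (π : X' ⟶ X) (j : X' ⟶ P) (q : P ⟶ Y)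
    (hj : j ≫ q = π ≫ f) [IsSeparated f] [LocallyOfFiniteType f] [IsProper π] [Surjective π]
    [IsImmersion j] [IsProper q] (s : S) :
    IsProper (MoreMor.fiberMap f g s) ↔ RClosed (q ≫ g) (Set.range j) s := by
  have hX := Groth.Agent.Lib.Helper12.ConsMorGen.isPullback_fiberMap f g s
  rw [iff_of_isPullback_snd @IsProper hX, isProper_snd_iff f π j q (π ≫ f) rfl hj (g.fiberι s)]
  have hm : IsPullback (pullback.fst q (g.fiberι s))
      (pullback.snd q (g.fiberι s) ≫ g.fiberToSpecResidueField s) (q ≫ g)
      (S.fromSpecResidueField s) :=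
    (IsPullback.of_hasPullback q (g.fiberι s)).paste_vert (IsPullback.of_hasPullback g _)
  exact isClosed_preimage_iff_rClosed (q ≫ g) s hm _

/-- Dichotomy from a generic description of a set. -/
theorem interior_nonempty_or_of_iff {S : Scheme.{u}} [IrreducibleSpace S] (E U C : Set S)
    (hU : IsOpen U) (hη : genericPoint S ∈ U) (hC : IsConstructible C)
    (H : ∀ s ∈ U, (s ∈ E ↔ s ∈ C)) : (interior E).Nonempty ∨ (interior Eᶜ).Nonempty := by
  have hgenz : ∀ z : S, z ⤳ genericPoint S → z = genericPoint S :=
    fun z hz => (hz.antisymm (genericPoint_specializes z)).eq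
  by_cases hηC : genericPoint S ∈ C
  · left
    have h1 := mem_nhds_of_isLocallyConstructible C hC.isLocallyConstructible
      (genericPoint S) (fun z hz => (hgenz z hz) ▸ hηC)
    refine ⟨genericPoint S, mem_interior_iff_mem_nhds.mpr ?_⟩
    refine Filter.mem_of_superset (Filter.inter_mem h1 (hU.mem_nhds hη)) ?_
    rintro s ⟨hsC, hsU⟩
    exact (H s hsU).mpr hsC
  · right
    have h1 := mem_nhds_of_isLocallyConstructible Cᶜ hC.compl.isLocallyConstructible
      (genericPoint S) (fun z hz => (hgenz z hz) ▸ hηC)
    refine ⟨genericPoint S, mem_interior_iff_mem_nhds.mpr ?_⟩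
    refine Filter.mem_of_superset (Filter.inter_mem h1 (hU.mem_nhds hη)) ?_
    rintro s ⟨hsC, hsU⟩ hs
    exact hsC ((H s hsU).mp hs)

section Noeth

variable [IsIntegral S] [IsNoetherian S] [LocallyOfFiniteType g] [QuasiCompact g]
  [LocallyOfFiniteType (f ≫ g)] [QuasiCompact (f ≫ g)]

/-- Generic constructibility of the proper locus of a separated morphism. -/
theorem exists_open_isProper_iff [IsSeparated f] :
    ∃ (U C : Set S), IsOpen U ∧ genericPoint S ∈ U ∧ IsConstructible C ∧
      ∀ s ∈ U, (IsProper (MoreMor.fiberMap f g s) ↔ s ∈ C) := by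
  haveI : IsLocallyNoetherian Y := LocallyOfFiniteType.isLocallyNoetherian g
  haveI : CompactSpace Y := QuasiCompact.compactSpace_of_compactSpace g
  haveI : IsNoetherian Y := ⟨⟩
  haveI : IsLocallyNoetherian X := LocallyOfFiniteType.isLocallyNoetherian (f ≫ g)
  haveI : CompactSpace X := QuasiCompact.compactSpace_of_compactSpace (f ≫ g)
  haveI : IsNoetherian X := ⟨⟩
  haveI : LocallyOfFiniteType f := locallyOfFiniteType_of_comp f g
  haveI : QuasiCompact f := inferInstance
  obtain ⟨n, X', π, j, hjimm, hj, hπp, hπs, -⟩ := Groth.Agent.S0025.result f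
  haveI := hjimm
  haveI := hπp
  haveI := hπs
  haveI : IsLocallyNoetherian X' := LocallyOfFiniteType.isLocallyNoetherian π
  haveI : CompactSpace X' := QuasiCompact.compactSpace_of_compactSpace π
  haveI : IsNoetherian X' := ⟨⟩
  haveI := noetherianSpace_of_finiteType (CohB1.ProjSpaceOver.toBase n Y ≫ g)
  haveI : IsLocallyNoetherian (CohB1.ProjSpaceOver n Y) :=
    LocallyOfFiniteType.isLocallyNoetherian (CohB1.ProjSpaceOver.toBase n Y)
  have hZ : IsConstructible (Set.range j) := by
    have := j.isConstructible_image (s := Set.univ) IsConstructible.univ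
    rwa [Set.image_univ] at this
  obtain ⟨U, C, h1, h2, h3, h4⟩ :=
    genCons_closed_aux (CohB1.ProjSpaceOver.toBase n Y ≫ g) (Set.range j) hZ
  exact ⟨U, C, h1, h2, h3, fun s hs =>
    (isProper_fiberMap_iff f g π j (CohB1.ProjSpaceOver.toBase n Y) hj s).trans (h4 s hs)⟩

/-- Separatedness of the generic fibre morphism spreads out to an open neighbourhood. -/
theorem exists_opens_isSeparated (hsep : IsSeparated (MoreMor.fiberMap f g (genericPoint S))) :
    ∃ U : S.Opens, genericPoint S ∈ U ∧ IsSeparated (bcMor f g U.ι) := by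
  haveI : LocallyOfFiniteType f := locallyOfFiniteType_of_comp f g
  haveI : IsLocallyNoetherian Y := LocallyOfFiniteType.isLocallyNoetherian g
  haveI : QuasiCompact f := QuasiCompact.of_comp f g
  haveI : LocallyOfFiniteType (diagStr f g) := inferInstance
  haveI : QuasiCompact (diagStr f g) := inferInstance
  haveI := noetherianSpace_of_finiteType (diagStr f g)
  have hZlc : IsLocallyClosed (Set.range (pullback.diagonal f)) :=
    (pullback.diagonal f).isLocallyClosed_range
  have hZ : IsConstructible (Set.range (pullback.diagonal f)) := by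
    obtain ⟨A, B, hA, hB, hAB⟩ := hZlc
    rw [hAB]
    exact ((NoetherianSpace.isCompact A).isConstructible hA).inter (isConstructible_of_isClosed' hB)
  obtain ⟨U₁, hU₁, hηU₁, H₁⟩ := exists_open_fcl_eq (diagStr f g) _ hZ
  have hcl := (isSeparated_fiberMap_iff f g (genericPoint S)).mp hsep
  rw [rClosed_iff, H₁ _ hηU₁] at hcl
  -- the boundary
  have hBcl : IsClosed (closure (Set.range (pullback.diagonal f)) \
      Set.range (pullback.diagonal f)) := by
    have := hZlc.isOpen_coborder
    rw [coborder, isOpen_compl_iff] at this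
    exact this
  haveI : IsLocallyNoetherian (pullback f f) :=
    LocallyOfFiniteType.isLocallyNoetherian (diagStr f g)
  have hBim : IsConstructible ((diagStr f g) '' (closure (Set.range (pullback.diagonal f)) \
      Set.range (pullback.diagonal f))) :=
    (diagStr f g).isConstructible_image (isConstructible_of_isClosed' hBcl)
  have hηB : genericPoint S ∉ (diagStr f g) '' (closure (Set.range (pullback.diagonal f)) \
      Set.range (pullback.diagonal f)) := by
    rintro ⟨x, ⟨hx1, hx2⟩, hx⟩
    exact hx2 (hcl ⟨hx1, hx⟩)
  have hgenz : ∀ z : S, z ⤳ genericPoint S → z = genericPoint S :=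
    fun z hz => (hz.antisymm (genericPoint_specializes z)).eq
  have hnhds := mem_nhds_of_isLocallyConstructible _ hBim.compl.isLocallyConstructible
    (genericPoint S) (fun z hz => (hgenz z hz) ▸ hηB)
  refine ⟨⟨interior _, isOpen_interior⟩, mem_interior_iff_mem_nhds.mpr hnhds, ?_⟩
  set U : S.Opens := ⟨interior ((diagStr f g) '' (closure (Set.range (pullback.diagonal f)) \
      Set.range (pullback.diagonal f)))ᶜ, isOpen_interior⟩ with hUdef
  have hX : IsPullback (pullback.fst f (pullback.fst g U.ι)) (bcMor f g U.ι) f
      (pullback.fst g U.ι) := IsPullback.of_hasPullback _ _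
  have h1 := isPullback_diagonal hX
  have hr := range_eq_preimage_of_isPullback h1.flip
  have hclosed : IsClosed (Set.range (pullback.diagonal (bcMor f g U.ι))) := by
    rw [hr]
    have heq : (pullback.map (bcMor f g U.ι) (bcMor f g U.ι) f f
        (pullback.fst f (pullback.fst g U.ι)) (pullback.fst f (pullback.fst g U.ι))
        (pullback.fst g U.ι) hX.w.symm hX.w.symm) ⁻¹' Set.range (pullback.diagonal f) =
        (pullback.map (bcMor f g U.ι) (bcMor f g U.ι) f f
        (pullback.fst f (pullback.fst g U.ι)) (pullback.fst f (pullback.fst g U.ι))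
        (pullback.fst g U.ι) hX.w.symm hX.w.symm) ⁻¹'
          closure (Set.range (pullback.diagonal f)) := by
      apply Set.Subset.antisymm
      · exact Set.preimage_mono subset_closure
      · intro w hw
        by_contra hwZ
        have hmem : (diagStr f g) ((pullback.map (bcMor f g U.ι) (bcMor f g U.ι) f f
            (pullback.fst f (pullback.fst g U.ι)) (pullback.fst f (pullback.fst g U.ι))
            (pullback.fst g U.ι) hX.w.symm hX.w.symm) w) ∈
            (diagStr f g) '' (closure (Set.range (pullback.diagonal f)) \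
              Set.range (pullback.diagonal f)) := ⟨_, ⟨hw, hwZ⟩, rfl⟩
        have hfac : pullback.map (bcMor f g U.ι) (bcMor f g U.ι) f f
            (pullback.fst f (pullback.fst g U.ι)) (pullback.fst f (pullback.fst g U.ι))
            (pullback.fst g U.ι) hX.w.symm hX.w.symm ≫ diagStr f g =
            (pullback.fst (bcMor f g U.ι) (bcMor f g U.ι) ≫ bcMor f g U.ι ≫
              pullback.snd g U.ι) ≫ U.ι := by
          simp only [diagStr, Category.assoc, pullback.lift_fst_assoc, pullback.map]
          rw [← pullback.condition, ← Category.assoc (pullback.fst f (pullback.fst g U.ι)),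
            pullback.condition, Category.assoc]
        have hU' : (diagStr f g) ((pullback.map (bcMor f g U.ι) (bcMor f g U.ι) f f
            (pullback.fst f (pullback.fst g U.ι)) (pullback.fst f (pullback.fst g U.ι))
            (pullback.fst g U.ι) hX.w.symm hX.w.symm) w) ∈ (U : Set S) := by
          rw [← Scheme.Hom.comp_apply, hfac, Scheme.Hom.comp_apply]
          exact ((pullback.fst (bcMor f g U.ι) (bcMor f g U.ι) ≫ bcMor f g U.ι ≫
            pullback.snd g U.ι) w).2
        exact interior_subset hU' hmem
    rw [heq]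
    exact isClosed_closure.preimage (Scheme.Hom.continuous _)
  exact ⟨IsClosedImmersion.of_isPreimmersion _ hclosed⟩

end Noeth

/-- Properness is a constructible property of morphisms of algebraic schemes. -/
theorem isConsMor_isProper :
    ConsProp.IsConsMor.{u} (fun X Y T f g => AlgebraicGeometry.IsProper f) := by
  have hstab : ConsProp.IsFieldStableMor.{u}
      (fun X Y T f g => AlgebraicGeometry.IsProper f) := by
    intro X X' Y Y' T T' f g f' g' eX eY h _ _ _ _ _ _ _ _ hY hX
    have hh : (@Surjective ⊓ @Flat ⊓ @QuasiCompact : MorphismProperty Scheme) h :=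
      ⟨⟨inferInstance, inferInstance⟩, inferInstance⟩
    have heY : (@Surjective ⊓ @Flat ⊓ @QuasiCompact : MorphismProperty Scheme) eY :=
      MorphismProperty.of_isPullback hY.flip hh
    haveI := Groth.Agent.S0086.result.{u}
    exact ⟨fun h1 => MorphismProperty.of_isPullback (P := @IsProper) hX h1,
      fun h1 => MorphismProperty.of_isPullback_of_descendsAlong (P := @IsProper) hX.flip heY h1⟩
  refine ⟨hstab, ?_⟩
  intro X Y S f g _ _ _ _ _ _
  by_cases hsep : IsSeparated (MoreMor.fiberMap f g (genericPoint S))
  · obtain ⟨U, hηU, hsepU⟩ := exists_opens_isSeparated f g hsep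
    haveI : Nonempty (U : Scheme.{u}) := ⟨⟨genericPoint S, hηU⟩⟩
    haveI : IsIntegral (U : Scheme.{u}) := isIntegral_of_isOpenImmersion U.ι
    haveI : IsLocallyNoetherian (U : Scheme.{u}) := LocallyOfFiniteType.isLocallyNoetherian U.ι
    haveI : CompactSpace (U : Scheme.{u}) :=
      isCompact_iff_compactSpace.mp (NoetherianSpace.isCompact (U : Set S))
    haveI : IsNoetherian (U : Scheme.{u}) := ⟨⟩
    haveI : LocallyOfFiniteType (bcMor f g U.ι ≫ pullback.snd g U.ι) :=
      MorphismProperty.of_isPullback (P := @LocallyOfFiniteType)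
        (isPullback_bcMor_comp f g U.ι) inferInstance
    haveI : QuasiCompact (bcMor f g U.ι ≫ pullback.snd g U.ι) :=
      MorphismProperty.of_isPullback (P := @QuasiCompact)
        (isPullback_bcMor_comp f g U.ι) inferInstance
    obtain ⟨U', C', h1, h2, h3, h4⟩ := exists_open_isProper_iff (bcMor f g U.ι)
      (pullback.snd g U.ι)
    have hloc := locusMor_bcMor f g U.ι hstab
    have hdich := interior_nonempty_or_of_iff
      (ConsProp.locusMor (fun X Y T f g => AlgebraicGeometry.IsProper f) (bcMor f g U.ι)
        (pullback.snd g U.ι)) U' C' h1 h2 h3 h4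
    rw [hloc] at hdich
    rcases hdich with ⟨z, hz⟩ | ⟨z, hz⟩
    · left
      refine ⟨U.ι z, mem_interior.mpr ⟨U.ι '' interior _, ?_,
        U.ι.isOpenEmbedding.isOpenMap _ isOpen_interior, Set.mem_image_of_mem _ hz⟩⟩
      rintro _ ⟨w, hw, rfl⟩
      have hw' := interior_subset hw
      exact hw'
    · right
      refine ⟨U.ι z, mem_interior.mpr ⟨U.ι '' interior _, ?_,
        U.ι.isOpenEmbedding.isOpenMap _ isOpen_interior, Set.mem_image_of_mem _ hz⟩⟩
      rintro _ ⟨w, hw, rfl⟩
      have hw' := interior_subset hw
      exact hw'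
  · right
    haveI : LocallyOfFiniteType f := locallyOfFiniteType_of_comp f g
    haveI : IsLocallyNoetherian Y := LocallyOfFiniteType.isLocallyNoetherian g
    haveI : QuasiCompact f := QuasiCompact.of_comp f g
    haveI := noetherianSpace_of_finiteType (diagStr f g)
    have hZ : IsConstructible (Set.range (pullback.diagonal f)) := by
      obtain ⟨A, B, hA, hB, hAB⟩ := (pullback.diagonal f).isLocallyClosed_range
      rw [hAB]
      exact ((NoetherianSpace.isCompact A).isConstructible hA).inter
        (isConstructible_of_isClosed' hB)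
    obtain ⟨U, C, h1, h2, h3, h4⟩ := genCons_closed_aux (diagStr f g) _ hZ
    have hηC : genericPoint S ∉ C := fun hc =>
      hsep ((isSeparated_fiberMap_iff f g _).mpr ((h4 _ h2).mpr hc))
    have hgenz : ∀ z : S, z ⤳ genericPoint S → z = genericPoint S :=
      fun z hz => (hz.antisymm (genericPoint_specializes z)).eq
    have hn := mem_nhds_of_isLocallyConstructible Cᶜ h3.compl.isLocallyConstructible
      (genericPoint S) (fun z hz => (hgenz z hz) ▸ hηC)
    refine ⟨genericPoint S, mem_interior_iff_mem_nhds.mpr ?_⟩
    refine Filter.mem_of_superset (Filter.inter_mem hn (h1.mem_nhds h2)) ?_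
    rintro s ⟨hsC, hsU⟩ (hs : IsProper (MoreMor.fiberMap f g s))
    exact hsC ((h4 s hsU).mp ((isSeparated_fiberMap_iff f g s).mp inferInstance))

end Groth.Agent.Lib.Helper12.FibreProper
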