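import Mathlib
import Groth.Agent.Lib.Helper12.FibreProper
import Groth.Agent.S3428
import Groth.Agent.S2576
import Groth.Agent.Lib.Helper12.SecCompBC
import Groth.Agent.Lib.Helper12.FibMono
import Groth.Agent.S0086

/-!
# Helper library (helper12): constructibility of the locus where the morphism of fibres is an
immersion (EGA IV 9.6.1)

`f_s` is an immersion iff the image of `f` is locally closed in the fibre `Y_s` and, for a
suitable open `V` of `Y`, the restriction `(f ∣_ V)_s` is a closed immersion.
-/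

set_option autoImplicit false
universe u
open AlgebraicGeometry CategoryTheory CategoryTheory.Limits TopologicalSpace Topology

namespace Groth.Agent.Lib.Helper12.FibreImm

open Groth.Agent.Lib.Helper12.FibreTop Groth.Agent.Lib.Helper12.FibreDominant
  Groth.Agent.Lib.Helper12.FibreSep Groth.Agent.Lib.Helper12.FibreTopGen
  Groth.Agent.Lib.Helper12.ConstrNhds Groth.Agent.Lib.Helper12.ConsMorLocus
  Groth.Agent.Lib.Helper12.ConsPairGen Groth.Agent.Lib.Helper12.ConsMorGen

set_option backward.isDefEq.respectTransparency false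
set_option linter.style.haveILetI false

/-- If the image of `f'` lies in an open `T'` of the target and is closed there, then `f'` is an
immersion iff its restriction to `T'` is a closed immersion. -/
theorem isImmersion_iff_isClosedImmersion_of_isPullback {P T P' T' : Scheme.{u}} {f' : P ⟶ T}
    {j : T' ⟶ T} {f'' : P' ⟶ T'} {a : P' ⟶ P} [IsOpenImmersion j] (sq : IsPullback a f'' f' j)
    (hrange : Set.range f' ⊆ Set.range j) (hcl : IsClosed (Set.range f'')) :
    IsImmersion f' ↔ IsClosedImmersion f'' := by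
  haveI : IsOpenImmersion a :=
    MorphismProperty.of_isPullback (P := @IsOpenImmersion) sq.flip inferInstance
  haveI : Surjective a := ⟨fun p => by
    obtain ⟨t', ht'⟩ := hrange ⟨p, rfl⟩
    obtain ⟨p', hp', -⟩ := Scheme.exists_preimage_of_isPullback sq p t' ht'.symm
    exact ⟨p', hp'⟩⟩
  haveI : IsIso a := (isIso_iff_isOpenImmersion_and_surjective a).mpr ⟨inferInstance, inferInstance⟩
  constructor
  · intro h
    haveI : IsImmersion f'' := MorphismProperty.of_isPullback (P := @IsImmersion) sq h
    exact IsClosedImmersion.of_isPreimmersion _ hcl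
  · intro h
    have h1 : IsImmersion (a ≫ f') := by rw [sq.w]; infer_instance
    exact (MorphismProperty.cancel_left_of_respectsIso @IsImmersion a f').mp h1

variable {X Y S : Scheme.{u}} (f : X ⟶ Y) (g : Y ⟶ S)

/-- The morphism of fibres of the family restricted to an open of `Y` is the restriction of the
morphism of fibres. -/
theorem exists_isPullback_fiberMap_restrict (V : Y.Opens) (s : S) :
    ∃ a : ((f ∣_ V) ≫ V.ι ≫ g).fiber s ⟶ (f ≫ g).fiber s,
      IsPullback a (MoreMor.fiberMap (f ∣_ V) (V.ι ≫ g) s) (MoreMor.fiberMap f g s)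
        (MoreMor.fiberMap V.ι g s) := by
  have A := isPullback_fiberMap f g s
  have A₂ := isPullback_fiberMap (f ∣_ V) (V.ι ≫ g) s
  have B := A₂.paste_horiz (isPullback_morphismRestrict f V).flip
  have hj : (V.ι ≫ g).fiberι s ≫ V.ι = MoreMor.fiberMap V.ι g s ≫ g.fiberι s :=
    (ConsMorLocus.fiberMap_fiberι V.ι g s).symm
  rw [hj] at B
  have hw : ((f ∣_ V ≫ V.ι ≫ g).fiberι s ≫ (f ⁻¹ᵁ V).ι) ≫ f =
      (MoreMor.fiberMap (f ∣_ V) (V.ι ≫ g) s ≫ MoreMor.fiberMap V.ι g s) ≫ g.fiberι s := by
    rw [Category.assoc _ _ (g.fiberι s)]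
    exact B.w
  refine ⟨A.lift _ _ hw, ?_⟩
  refine IsPullback.of_right ?_ (A.lift_snd _ _ hw) A
  rw [A.lift_fst]
  exact B

/-- The range of the inclusion of the fibre of an open. -/
theorem range_fiberMap_ι (V : Y.Opens) (s : S) :
    Set.range (MoreMor.fiberMap V.ι g s) = (g.fiberι s) ⁻¹' (V : Set Y) := by
  rw [range_eq_preimage_of_isPullback (isPullback_fiberMap V.ι g s), Scheme.Opens.range_ι]

instance (V : Y.Opens) (s : S) : IsOpenImmersion (MoreMor.fiberMap V.ι g s) :=
  MorphismProperty.of_isPullback (P := @IsOpenImmersion) (isPullback_fiberMap V.ι g s)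
    inferInstance

/-- Key proposition: if the part of the image of `f` over `s` lies in the open `V` and is closed
in the fibre of `V`, then `f_s` is an immersion iff `(f ∣_ V)_s` is a closed immersion. -/
theorem isImmersion_fiberMap_iff (V : Y.Opens) (s : S)
    (ha : ∀ x : X, g (f x) = s → f x ∈ V)
    (hb : RClosed (V.ι ≫ g) (Set.range (f ∣_ V)) s) :
    IsImmersion (MoreMor.fiberMap f g s) ↔
      IsClosedImmersion (MoreMor.fiberMap (f ∣_ V) (V.ι ≫ g) s) := by
  obtain ⟨a, sq⟩ := exists_isPullback_fiberMap_restrict f g V s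
  refine isImmersion_iff_isClosedImmersion_of_isPullback sq ?_ ?_
  · rw [range_fiberMap_ι]
    rintro _ ⟨x, rfl⟩
    show g.fiberι s (MoreMor.fiberMap f g s x) ∈ V
    rw [← Scheme.Hom.comp_apply, ConsMorLocus.fiberMap_fiberι, Scheme.Hom.comp_apply]
    apply ha
    have h1 : (f ≫ g).fiberι s x ∈ Set.range ((f ≫ g).fiberι s) := ⟨x, rfl⟩
    rw [(f ≫ g).range_fiberι s] at h1
    exact h1
  · rw [range_eq_preimage_of_isPullback (isPullback_fiberMap (f ∣_ V) (V.ι ≫ g) s),
      isClosed_preimage_iff_rClosed (V.ι ≫ g) s (isPullback_fiber _ s)]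
    exact hb

/-- Local closedness of a trace on the fibre, from the scheme-theoretic fibre. -/
theorem rLC_of_isLocallyClosed_preimage {P S : Scheme.{u}} (p : P ⟶ S) (s : S) (Z : Set P)
    (h : IsLocallyClosed ((p.fiberι s) ⁻¹' Z)) : RLC p Z s := by
  have h1 := h.preimage (p.fiberHomeo s).symm.continuous
  have h2 : (p.fiberHomeo s).symm ⁻¹' ((p.fiberι s) ⁻¹' Z) =
      (Subtype.val ⁻¹' Z : Set ↥(p ⁻¹' {s})) := by
    ext x
    simp only [Set.mem_preimage]
    rw [p.fiberι_fiberHomeo_symm s x]
  rw [h2] at h1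
  exact h1

/-- If `f_s` is an immersion, the image of `f` is locally closed in the fibre over `s`. -/
theorem rLC_of_isImmersion_fiberMap (s : S) (h : IsImmersion (MoreMor.fiberMap f g s)) :
    RLC g (Set.range f) s := by
  apply rLC_of_isLocallyClosed_preimage
  rw [← range_eq_preimage_of_isPullback (isPullback_fiberMap f g s)]
  exact (MoreMor.fiberMap f g s).isLocallyClosed_range

/-- If the image of `f` is locally closed in the fibre over `s`, there is an open `V` of `Y`
containing the part of the image over `s`, in whose fibre it is closed. -/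
theorem exists_opens_of_rLC (s : S) (h : RLC g (Set.range f) s) :
    ∃ V : Y.Opens, (∀ x : X, g (f x) = s → f x ∈ V) ∧
      RClosed (V.ι ≫ g) (Set.range (f ∣_ V)) s := by
  rw [rLC_iff, rClosed_iff] at h
  set B := fcl g s (Set.range f) \ Set.range f with hB
  have hBs : B ⊆ g ⁻¹' {s} := fun y hy => (fcl_subset_fibre g s _ hy.1)
  obtain ⟨V, hV⟩ : ∃ V : Y.Opens, (V : Set Y) = (closure B)ᶜ :=
    ⟨⟨(closure B)ᶜ, isClosed_closure.isOpen_compl⟩, rfl⟩
  have hmem : ∀ y : Y, y ∈ V ↔ y ∉ closure B := fun y => by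
    rw [← SetLike.mem_coe, hV, Set.mem_compl_iff]
  refine ⟨V, ?_, ?_⟩
  · intro x hx
    rw [hmem]
    intro hcl
    have h1 : f x ∈ fcl g s B := by
      refine ⟨?_, hx⟩
      rw [Set.inter_eq_left.mpr hBs]
      exact hcl
    exact (h h1).2 ⟨x, rfl⟩
  · rw [rClosed_iff]
    have hr : Set.range (f ∣_ V) = V.ι ⁻¹' Set.range f :=
      range_eq_preimage_of_isPullback (isPullback_morphismRestrict f V).flip
    rw [hr]
    rintro v ⟨hv1, hv2⟩
    by_contra hvZ
    have hy1 : V.ι v ∈ closure (Set.range f ∩ g ⁻¹' {s}) := by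
      refine map_mem_closure V.ι.continuous hv1 ?_
      rintro w ⟨hw1, hw2⟩
      exact ⟨hw1, hw2⟩
    have hy2 : V.ι v ∈ g ⁻¹' {s} := hv2
    have hyB : V.ι v ∈ B := ⟨⟨hy1, hy2⟩, hvZ⟩
    exact (hmem (V.ι v)).mp v.2 (subset_closure hyB)

section Noeth

variable [IsIntegral S] [IsNoetherian S] [LocallyOfFiniteType g] [QuasiCompact g]
  [LocallyOfFiniteType (f ≫ g)] [QuasiCompact (f ≫ g)]

/-- A locally constructible set containing the generic point, on which `E` agrees with a locally
constructible set, decides the dichotomy. -/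
theorem interior_nonempty_or_of_iff' {S : Scheme.{u}} [IrreducibleSpace S] (E N C : Set S)
    (hN : IsLocallyConstructible N) (hη : genericPoint S ∈ N) (hC : IsLocallyConstructible C)
    (H : ∀ s ∈ N, (s ∈ E ↔ s ∈ C)) : (interior E).Nonempty ∨ (interior Eᶜ).Nonempty := by
  have hgenz : ∀ z : S, z ⤳ genericPoint S → z = genericPoint S :=
    fun z hz => (hz.antisymm (genericPoint_specializes z)).eq
  by_cases hηC : genericPoint S ∈ C
  · left
    have h1 := mem_nhds_of_isLocallyConstructible (N ∩ C) (hN.inter hC)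
      (genericPoint S) (fun z hz => (hgenz z hz) ▸ ⟨hη, hηC⟩)
    refine ⟨genericPoint S, mem_interior_iff_mem_nhds.mpr ?_⟩
    refine Filter.mem_of_superset h1 ?_
    rintro s ⟨hsN, hsC⟩
    exact (H s hsN).mpr hsC
  · right
    have h1 := mem_nhds_of_isLocallyConstructible (N ∩ Cᶜ) (hN.inter (isLocallyConstructible_compl hC))
      (genericPoint S) (fun z hz => (hgenz z hz) ▸ ⟨hη, hηC⟩)
    refine ⟨genericPoint S, mem_interior_iff_mem_nhds.mpr ?_⟩
    refine Filter.mem_of_superset h1 ?_
    rintro s ⟨hsN, hsC⟩ hs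
    exact hsC ((H s hsN).mp hs)

theorem dichotomy_isImmersion :
    (interior (ConsProp.locusMor
        (fun _ _ _ f _ => AlgebraicGeometry.IsImmersion f) f g)).Nonempty ∨
      (interior (ConsProp.locusMor
        (fun _ _ _ f _ => AlgebraicGeometry.IsImmersion f) f g)ᶜ).Nonempty := by
  classical
  haveI : LocallyOfFiniteType f := locallyOfFiniteType_of_comp f g
  haveI : IsLocallyNoetherian Y := LocallyOfFiniteType.isLocallyNoetherian g
  haveI : CompactSpace Y := QuasiCompact.compactSpace_of_compactSpace g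
  haveI : IsNoetherian Y := ⟨⟩
  haveI : IsLocallyNoetherian X := LocallyOfFiniteType.isLocallyNoetherian (f ≫ g)
  haveI : CompactSpace X := QuasiCompact.compactSpace_of_compactSpace (f ≫ g)
  haveI : IsNoetherian X := ⟨⟩
  haveI : LocallyOfFinitePresentation g :=
    Groth.Agent.Lib.Helper12.SecCompBC.locallyOfFinitePresentation_of_isLocallyNoetherian g
  haveI : LocallyOfFinitePresentation (f ≫ g) :=
    Groth.Agent.Lib.Helper12.SecCompBC.locallyOfFinitePresentation_of_isLocallyNoetherian _
  haveI : LocallyOfFinitePresentation f :=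
    Groth.Agent.Lib.Helper12.SecCompBC.locallyOfFinitePresentation_of_isLocallyNoetherian f
  have hZ : IsLocallyConstructible (Set.range f) := by
    rw [← Set.image_univ]
    exact f.isLocallyConstructible_image IsLocallyConstructible.univ
  have hL := (Groth.Agent.S3428.result g (Set.range f) hZ).2.2
  by_cases hη : RLC g (Set.range f) (genericPoint S)
  · obtain ⟨V, hVa, hVb⟩ := exists_opens_of_rLC f g _ hη
    have hcomp : (f ∣_ V) ≫ V.ι ≫ g = (f ⁻¹ᵁ V).ι ≫ f ≫ g := by
      rw [← Category.assoc, morphismRestrict_ι, Category.assoc]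
    haveI : LocallyOfFinitePresentation ((f ∣_ V) ≫ V.ι ≫ g) := by rw [hcomp]; infer_instance
    haveI : QuasiCompact ((f ∣_ V) ≫ V.ι ≫ g) := by rw [hcomp]; infer_instance
    haveI : QuasiSeparated ((f ∣_ V) ≫ V.ι ≫ g) := by rw [hcomp]; infer_instance
    have hZ₂ : IsLocallyConstructible (Set.range (f ∣_ V)) := by
      rw [← Set.image_univ]
      exact (f ∣_ V).isLocallyConstructible_image IsLocallyConstructible.univ
    have hR := (Groth.Agent.S3428.result (V.ι ≫ g) (Set.range (f ∣_ V)) hZ₂).1
    have hC := Groth.Agent.S2576.result (f ∣_ V) (V.ι ≫ g)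
    have hN₁ : IsLocallyConstructible (((f ≫ g) '' ((f ⁻¹ᵁ V : Set X)ᶜ))ᶜ) := by
      refine isLocallyConstructible_compl ((f ≫ g).isLocallyConstructible_image ?_)
      exact (isConstructible_of_isClosed' (f ⁻¹ᵁ V).2.isClosed_compl).isLocallyConstructible
    refine interior_nonempty_or_of_iff' _ _ _ (hN₁.inter hR) ⟨?_, hVb⟩ hC ?_
    · rintro ⟨x, hx, hxs⟩
      exact hx (hVa x hxs)
    · rintro s ⟨hs1, hs2⟩
      refine isImmersion_fiberMap_iff f g V s (fun x hx => ?_) hs2
      by_contra hxV
      exact hs1 ⟨x, hxV, hx⟩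
  · right
    have hgenz : ∀ z : S, z ⤳ genericPoint S → z = genericPoint S :=
      fun z hz => (hz.antisymm (genericPoint_specializes z)).eq
    have h1 := mem_nhds_of_isLocallyConstructible _ (isLocallyConstructible_compl hL)
      (genericPoint S) (fun z hz => (hgenz z hz) ▸ hη)
    refine ⟨genericPoint S, mem_interior_iff_mem_nhds.mpr ?_⟩
    refine Filter.mem_of_superset h1 ?_
    intro s hs hsE
    exact hs (rLC_of_isImmersion_fiberMap f g s hsE)

end Noeth

section Descent

variable {X X' Y Y' : Scheme.{u}} {f : X ⟶ Y} {f' : X' ⟶ Y'} {eX : X' ⟶ X} {eY : Y' ⟶ Y}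

/-- Closed immersions descend along flat surjective quasi-compact base changes. -/
theorem isClosedImmersion_of_isPullback (hX : IsPullback eX f' f eY)
    (heY : (@Surjective ⊓ @Flat ⊓ @QuasiCompact : MorphismProperty Scheme) eY)
    [LocallyOfFiniteType f] [IsClosedImmersion f'] : IsClosedImmersion f := by
  haveI := Groth.Agent.S0086.result.{u}
  have h1 : IsProper f :=
    MorphismProperty.of_isPullback_of_descendsAlong (P := @IsProper) hX.flip heY inferInstance
  have h2 : UniversallyInjective f :=
    MorphismProperty.of_isPullback_of_descendsAlong (P := @UniversallyInjective) hX.flip heY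
      inferInstance
  have h3 : FormallyUnramified f :=
    MorphismProperty.of_isPullback_of_descendsAlong (P := @FormallyUnramified) hX.flip heY
      inferInstance
  have h4 : Mono f :=
    (Groth.Agent.Lib.Helper12.UnramLocus.mono_iff_universallyInjective_and_formallyUnramified
      f).mpr ⟨h2, h3⟩
  exact (IsClosedImmersion.iff_isProper_and_mono (f := f)).mpr ⟨h1, h4⟩

/-- An immersion is the closed immersion of its restriction to the coborder of its range. -/
theorem isImmersion_iff_restrict (f : X ⟶ Y) (V : Y.Opens) (hV : Set.range f ⊆ V)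
    (hcl : IsClosed (V.ι ⁻¹' Set.range f)) : IsImmersion f ↔ IsClosedImmersion (f ∣_ V) := by
  refine isImmersion_iff_isClosedImmersion_of_isPullback
    (isPullback_morphismRestrict f V).flip ?_ ?_
  · rw [Scheme.Opens.range_ι]; exact hV
  · rw [range_eq_preimage_of_isPullback (isPullback_morphismRestrict f V).flip]
    exact hcl

/-- Immersions descend along flat surjective quasi-compact universally open base changes. -/
theorem isImmersion_of_isPullback (hX : IsPullback eX f' f eY)
    (heY : (@Surjective ⊓ @Flat ⊓ @QuasiCompact : MorphismProperty Scheme) eY)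
    [UniversallyOpen eY] [LocallyOfFiniteType f] [IsImmersion f'] : IsImmersion f := by
  haveI : Surjective eY := heY.1.1
  have hr : Set.range f' = eY ⁻¹' Set.range f := range_eq_preimage_of_isPullback hX
  have hopen : IsOpenMap eY := eY.isOpenMap
  have hquot : Topology.IsQuotientMap eY :=
    hopen.isQuotientMap eY.continuous eY.surjective
  have hlc : IsLocallyClosed (Set.range f) := by
    rw [isLocallyClosed_iff_isOpen_coborder, ← hquot.isOpen_preimage,
      ← coborder_preimage hopen eY.continuous, ← hr, ← isLocallyClosed_iff_isOpen_coborder]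
    exact f'.isLocallyClosed_range
  obtain ⟨V, hV⟩ : ∃ V : Y.Opens, (V : Set Y) = coborder (Set.range f) :=
    ⟨⟨coborder (Set.range f), hlc.isOpen_coborder⟩, rfl⟩
  have hfV : Set.range f ⊆ V := by rw [hV]; exact subset_coborder
  have hclV : IsClosed (V.ι ⁻¹' Set.range f) := by
    have h1 : V.ι ⁻¹' Set.range f = V.ι ⁻¹' closure (Set.range f) := by
      ext v
      simp only [Set.mem_preimage]
      refine ⟨fun h => subset_closure h, fun h => ?_⟩
      have hv : V.ι v ∈ coborder (Set.range f) := by rw [← hV]; exact v.2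
      have := closure_inter_coborder (s := Set.range f)
      rw [← this]
      exact ⟨h, hv⟩
    rw [h1]
    exact isClosed_closure.preimage V.ι.continuous
  rw [isImmersion_iff_restrict f V hfV hclV]
  -- the base change of the restriction
  have hf'V : Set.range f' ⊆ (eY ⁻¹ᵁ V : Y'.Opens) := by
    rw [hr]
    exact Set.preimage_mono hfV
  have hclV' : IsClosed ((eY ⁻¹ᵁ V).ι ⁻¹' Set.range f') := by
    have h1 : (eY ⁻¹ᵁ V).ι ⁻¹' Set.range f' = (eY ∣_ V) ⁻¹' (V.ι ⁻¹' Set.range f) := by
      rw [hr, ← Set.preimage_comp, ← Set.preimage_comp]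
      congr 1
      ext v
      simp only [Function.comp_apply]
      rw [← Scheme.Hom.comp_apply, ← Scheme.Hom.comp_apply, morphismRestrict_ι]
    rw [h1]
    exact hclV.preimage (eY ∣_ V).continuous
  haveI : IsClosedImmersion (f' ∣_ (eY ⁻¹ᵁ V)) :=
    (isImmersion_iff_restrict f' (eY ⁻¹ᵁ V) hf'V hclV').mp inferInstance
  have B1 := (isPullback_morphismRestrict f' (eY ⁻¹ᵁ V)).flip
  have B4 := (isPullback_morphismRestrict f V).flip
  have B := B1.paste_horiz hX
  have hι : (eY ⁻¹ᵁ V).ι ≫ eY = (eY ∣_ V) ≫ V.ι := (morphismRestrict_ι eY V).symm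
  rw [hι] at B
  have hw : ((f' ⁻¹ᵁ (eY ⁻¹ᵁ V)).ι ≫ eX) ≫ f = ((f' ∣_ (eY ⁻¹ᵁ V)) ≫ (eY ∣_ V)) ≫ V.ι := by
    rw [Category.assoc _ _ V.ι]
    exact B.w
  have sq : IsPullback (B4.lift _ _ hw) (f' ∣_ (eY ⁻¹ᵁ V)) (f ∣_ V) (eY ∣_ V) := by
    refine IsPullback.of_right ?_ (B4.lift_snd _ _ hw) B4
    rw [B4.lift_fst]
    exact B
  have heYV : (@Surjective ⊓ @Flat ⊓ @QuasiCompact : MorphismProperty Scheme) (eY ∣_ V) :=
    MorphismProperty.of_isPullback (isPullback_morphismRestrict eY V).flip heY
  exact isClosedImmersion_of_isPullback sq heYV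

end Descent

/-- Being an immersion is a constructible property of morphisms of algebraic schemes. -/
theorem isConsMor_isImmersion :
    ConsProp.IsConsMor.{u} (fun _ _ _ f _ => AlgebraicGeometry.IsImmersion f) := by
  refine ⟨?_, fun X Y S f g _ _ _ _ _ _ => dichotomy_isImmersion f g⟩
  intro X X' Y Y' T T' f g f' g' eX eY h _ _ _ _ _ _ _ _ hY hX
  have hh : (@Surjective ⊓ @Flat ⊓ @QuasiCompact : MorphismProperty Scheme) h :=
    ⟨⟨inferInstance, inferInstance⟩, inferInstance⟩
  have heY : (@Surjective ⊓ @Flat ⊓ @QuasiCompact : MorphismProperty Scheme) eY :=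
    MorphismProperty.of_isPullback hY.flip hh
  haveI : UniversallyOpen eY :=
    MorphismProperty.of_isPullback (P := @UniversallyOpen) hY.flip inferInstance
  haveI : LocallyOfFiniteType f := locallyOfFiniteType_of_comp f g
  exact ⟨fun h1 => MorphismProperty.of_isPullback (P := @IsImmersion) hX h1,
    fun h1 => isImmersion_of_isPullback hX heY⟩

end Groth.Agent.Lib.Helper12.FibreImm
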