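import Mathlib
import Groth.Agent.S1460
import Groth.Agent.Lib.Helper12.FpLimit
import Groth.Agent.Lib.Helper12.LimProCons

/-!
# Noetherian approximation preserving a constructible fibrewise property (helper12)
-/

set_option autoImplicit false
set_option linter.style.haveILetI false
universe u
open AlgebraicGeometry CategoryTheory Limits Topology

namespace Groth.Agent.Lib.Helper12.FibreLocusApprox

open Groth.Agent.Lib.Helper12.FpLimit Groth.Agent.Lib.Helper12.LimProCons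

/-- Noetherian approximation of a finitely presented morphism of affine schemes, keeping a
fibrewise property whose locus is compatible with base change and constructible over Noetherian
bases. -/
theorem exists_approx (Eloc : ∀ {X S : Scheme.{u}} (_ : X ⟶ S), Set S)
    (hbc : ∀ {X Y X' Y' : Scheme.{u}} {f : X ⟶ Y} {g : Y' ⟶ Y} {f' : X' ⟶ Y'} {g' : X' ⟶ X},
      IsPullback g' f' f g → Eloc f' = g ⁻¹' Eloc f)
    (hcons : ∀ {X S : Scheme.{u}} [IsNoetherian S] (f : X ⟶ S) [LocallyOfFiniteType f]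
      [QuasiCompact f], IsConstructible (Eloc f))
    {X S : Scheme.{u}} (f : X ⟶ S) [IsAffine X] [IsAffine S] [LocallyOfFinitePresentation f]
    (hf : Eloc f = Set.univ) :
    ∃ (X₀ S₀ : Scheme.{u}) (f₀ : X₀ ⟶ S₀) (g : S ⟶ S₀) (g' : X ⟶ X₀), IsAffine X₀ ∧ IsAffine S₀ ∧
      IsPullback g' f f₀ g ∧ Algebra.FiniteType ℤ Γ(S₀, ⊤) ∧ LocallyOfFiniteType f₀ ∧
      Eloc f₀ = Set.univ := by
  obtain ⟨X₁, S₁, f₁, g₁, g₁', hX₁, hS₁, hsq₁, hft₁, hlft₁⟩ := Groth.Agent.S1460.result f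
  haveI : IsNoetherianRing Γ(S₁, ⊤) := Algebra.FiniteType.isNoetherianRing ℤ _
  haveI : IsLocallyNoetherian S₁ := isLocallyNoetherian_of_isOpenImmersion S₁.isoSpec.hom
  haveI : IsNoetherian S₁ := {}
  have hE₁ : IsConstructible (Eloc f₁) := hcons f₁
  obtain ⟨J, _, _, 𝔇, τ, π, hπ, haff, hfp, hcomp⟩ :=
    exists_limit_of_affineOpen g₁ ⊤ (isAffineOpen_top S₁) ⊤ (isAffineOpen_top S) le_top
  haveI : ∀ {i j : J} (a : i ⟶ j), IsAffineHom (𝔇.map a) := fun a => inferInstance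
  haveI : ∀ (i j : J) (a : i ⟶ j), IsAffineHom (𝔇.map a) := fun _ _ a => inferInstance
  obtain ⟨j₀⟩ := IsCofiltered.nonempty (C := J)
  haveI := haff j₀
  have hK : ProCons.IsProConstructible ((τ.app j₀) ⁻¹' (Eloc f₁)ᶜ) :=
    isProConstructible_of_isConstructible ((τ.app j₀).isConstructible_preimage hE₁.compl)
  have hempty : (⇑((Cone.mk _ π).π.app j₀) ⁻¹' ((τ.app j₀) ⁻¹' (Eloc f₁)ᶜ) :
      Set (Cone.mk _ π).pt) = ∅ := by
    rw [Set.eq_empty_iff_forall_notMem]
    intro s hs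
    apply hs
    show (τ.app j₀) ((π.app j₀) s) ∈ Eloc f₁
    rw [← Scheme.Hom.comp_apply, hcomp j₀, Scheme.Hom.comp_apply]
    have h1 : (⊤ : S.Opens).ι s ∈ Eloc f := by rw [hf]; trivial
    rw [hbc hsq₁] at h1
    exact h1
  obtain ⟨j, ψ, hj⟩ := exists_preimage_eq_empty_of_isProConstructible 𝔇 (Cone.mk _ π) hπ j₀ _ hK
    hempty
  haveI := haff j
  have hnat : 𝔇.map ψ ≫ τ.app j₀ = τ.app j := by
    have := τ.naturality ψ
    simpa using this
  -- the approximation
  refine ⟨pullback f₁ (τ.app j), 𝔇.obj j, pullback.snd f₁ (τ.app j), S.topIso.inv ≫ π.app j,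
    pullback.lift g₁' (f ≫ S.topIso.inv ≫ π.app j) ?_, inferInstance, inferInstance, ?_, ?_,
    inferInstance, ?_⟩
  · rw [hsq₁.w, Category.assoc, Category.assoc, hcomp j, Scheme.toIso_inv_ι_assoc]
  · refine IsPullback.of_right ?_ (pullback.lift_snd _ _ _) (IsPullback.of_hasPullback f₁ (τ.app j))
    rw [pullback.lift_fst, Category.assoc, hcomp j, Scheme.toIso_inv_ι_assoc]
    exact hsq₁
  · -- finite type over ℤ
    let τj : 𝔇.obj j ⟶ S₁ := τ.app j
    haveI : LocallyOfFinitePresentation τj := hfp j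
    have h1 : τj.appTop.hom.FinitePresentation :=
      (HasRingHomProperty.iff_of_isAffine (P := @LocallyOfFinitePresentation)).mp inferInstance
    have h2 : (algebraMap ℤ Γ(S₁, ⊤)).FiniteType := RingHom.finiteType_algebraMap.mpr hft₁
    have h3 := (RingHom.FiniteType.of_finitePresentation h1).comp h2
    have h4 : τj.appTop.hom.comp (algebraMap ℤ Γ(S₁, ⊤)) = algebraMap ℤ Γ(𝔇.obj j, ⊤) :=
      RingHom.ext_int _ _
    rw [h4] at h3
    exact RingHom.finiteType_algebraMap.mp h3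
  · rw [hbc (IsPullback.of_hasPullback f₁ (τ.app j)), Set.eq_univ_iff_forall]
    intro t
    by_contra ht
    have : t ∈ (⇑(𝔇.map ψ) ⁻¹' ((τ.app j₀) ⁻¹' (Eloc f₁)ᶜ) : Set (𝔇.obj j)) := by
      show (τ.app j₀) ((𝔇.map ψ) t) ∈ (Eloc f₁)ᶜ
      rw [← Scheme.Hom.comp_apply, hnat]
      exact ht
    rw [hj] at this
    exact this

end Groth.Agent.Lib.Helper12.FibreLocusApprox
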