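import Mathlib
import Groth.Agent.Lib.Helper12.LimMaxPts
import Groth.Agent.Lib.Helper12.StalkLim

/-!
# Auxiliary results for the "field point" Noetherian-type induction

* the closed subscheme cut out by the supremum of a set of ideal sheaves is the limit
  (in schemes over `T`) of the closed subschemes cut out by the members;
* the spectrum of the local ring at a maximal point is a single point.
-/

universe u

set_option backward.isDefEq.respectTransparency false

open CategoryTheory Limits AlgebraicGeometry Topology Opposite

namespace Groth.Agent.Lib.Helper12.FieldPoint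

variable {T : Scheme.{u}}

/-- The diagram of closed subschemes indexed by a set of ideal sheaves. -/
noncomputable def chainDiag (C : Set T.IdealSheafData) : (↥C)ᵒᵖ ⥤ Over T where
  obj i := Over.mk i.unop.1.subschemeι
  map {i j} m := Over.homMk (Scheme.IdealSheafData.inclusion
    (show j.unop.1 ≤ i.unop.1 from m.unop.le))
    (Scheme.IdealSheafData.inclusion_subschemeι _)
  map_id i := by
    ext1
    exact Scheme.IdealSheafData.inclusion_id _
  map_comp {i j k} m n := by
    ext1
    exact (Scheme.IdealSheafData.inclusion_comp _ _).symm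

/-- The cone over `chainDiag C` with vertex the subscheme of `sSup C`. -/
noncomputable def chainCone (C : Set T.IdealSheafData) : Cone (chainDiag C) where
  pt := Over.mk (sSup C).subschemeι
  π :=
    { app := fun i => Over.homMk (Scheme.IdealSheafData.inclusion (le_sSup i.unop.2))
        (Scheme.IdealSheafData.inclusion_subschemeι _)
      naturality := fun i j m => by
        ext1
        dsimp only [chainDiag, Functor.const_obj_map, Functor.const_obj_obj]
        rw [Category.id_comp]
        exact (Scheme.IdealSheafData.inclusion_comp _ _).symm }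

/-- `chainCone C` is a limit cone. -/
noncomputable def isLimitChainCone (C : Set T.IdealSheafData) : IsLimit (chainCone C) where
  lift s := Over.homMk (IsClosedImmersion.lift (sSup C).subschemeι s.pt.hom (by
    rw [Scheme.IdealSheafData.ker_subschemeι]
    apply sSup_le
    intro I hI
    have h1 := Over.w (s.π.app (op ⟨I, hI⟩))
    have h2 : I.subschemeι.ker ≤ ((s.π.app (op ⟨I, hI⟩)).left ≫ I.subschemeι).ker :=
      Scheme.Hom.le_ker_comp _ _
    rw [Scheme.IdealSheafData.ker_subschemeι] at h2
    refine h2.trans (le_of_eq ?_)
    exact congrArg Scheme.Hom.ker h1)) (IsClosedImmersion.lift_fac _ _ _)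
  fac s i := by
    ext1
    have : Mono i.unop.1.subschemeι := inferInstance
    rw [← cancel_mono i.unop.1.subschemeι]
    have h1 := Over.w (s.π.app i)
    have h2 := Over.w ((chainCone C).π.app i)
    dsimp only [chainDiag, chainCone, Over.mk_hom, Over.mk_left] at h1 h2 ⊢
    rw [Over.comp_left, Category.assoc]
    erw [h2, h1]
    exact IsClosedImmersion.lift_fac _ _ _
  uniq s m hm := by
    ext1
    have : Mono (sSup C).subschemeι := inferInstance
    rw [← cancel_mono (sSup C).subschemeι]
    have h1 := Over.w m
    dsimp only [chainCone, Over.mk_hom, Over.mk_left] at h1 ⊢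
    rw [h1]
    exact (IsClosedImmersion.lift_fac _ _ _).symm

instance isClosedImmersion_inclusion {I J : T.IdealSheafData} (h : I ≤ J) :
    IsClosedImmersion (Scheme.IdealSheafData.inclusion h) := by
  haveI : IsClosedImmersion (Scheme.IdealSheafData.inclusion h ≫ I.subschemeι) := by
    rw [Scheme.IdealSheafData.inclusion_subschemeι]; infer_instance
  exact IsClosedImmersion.of_comp_isClosedImmersion _ I.subschemeι

lemma isCofiltered_chain (C : Set T.IdealSheafData) (hC : IsChain (· ≤ ·) C)
    (hne : C.Nonempty) : IsCofiltered (↥C)ᵒᵖ := by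
  haveI : Nonempty ↥C := hne.to_subtype
  haveI : IsDirected ↥C (· ≤ ·) :=
    ⟨fun a b => (hC.total a.2 b.2).elim (fun h => ⟨b, h, le_rfl⟩) (fun h => ⟨a, le_rfl, h⟩)⟩
  haveI : IsFiltered ↥C := isFiltered_of_directed_le_nonempty _
  infer_instance

/-- The closed subscheme cut out by the supremum of a nonempty chain of ideal sheaves with
nonempty subschemes is nonempty (`T` quasi-compact). -/
lemma nonempty_subscheme_sSup [CompactSpace T] (C : Set T.IdealSheafData)
    (hC : IsChain (· ≤ ·) C) (hne : C.Nonempty) (h : ∀ I ∈ C, Nonempty I.subscheme) :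
    Nonempty (sSup C).subscheme := by
  haveI := isCofiltered_chain C hC hne
  haveI : IsConnected (↥C)ᵒᵖ := IsCofiltered.isConnected _
  have hlim := isLimitOfPreserves (Over.forget T) (isLimitChainCone C)
  haveI : ∀ {i j} (f : i ⟶ j), IsAffineHom ((chainDiag C ⋙ Over.forget T).map f) := by
    intro i j f
    change IsAffineHom (Scheme.IdealSheafData.inclusion _)
    infer_instance
  haveI : ∀ i, Nonempty ((chainDiag C ⋙ Over.forget T).obj i) := by
    intro i
    exact h _ i.unop.2
  haveI : ∀ i, CompactSpace ((chainDiag C ⋙ Over.forget T).obj i) := by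
    intro i
    dsimp only [chainDiag, Functor.comp_obj, Over.forget_obj, Over.mk_left]
    exact QuasiCompact.compactSpace_of_compactSpace i.unop.1.subschemeι
  exact Scheme.nonempty_of_isLimit (chainDiag C ⋙ Over.forget T) _ hlim

/-- The spectrum of the local ring at a maximal point is a single point. -/
lemma eq_closedPoint_of_maximal {Z : Scheme.{u}} (ξ : Z) (hξ : ∀ z : Z, z ⤳ ξ → z = ξ)
    (p : Spec (Z.presheaf.stalk ξ)) : p = IsLocalRing.closedPoint (Z.presheaf.stalk ξ) := by
  have h1 : Z.fromSpecStalk ξ p ∈ Set.range (Z.fromSpecStalk ξ) := ⟨p, rfl⟩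
  rw [Scheme.range_fromSpecStalk] at h1
  have h2 := hξ _ h1
  apply (Z.fromSpecStalk ξ).isEmbedding.injective
  rw [h2, Scheme.fromSpecStalk_closedPoint]

/-- The residue field point of the local ring at a maximal point is surjective. -/
lemma surjective_specMap_residue {Z : Scheme.{u}} (ξ : Z) (hξ : ∀ z : Z, z ⤳ ξ → z = ξ) :
    Surjective (Spec.map (CommRingCat.ofHom (IsLocalRing.residue (Z.presheaf.stalk ξ)))) := by
  refine ⟨fun p => ?_⟩
  obtain ⟨q⟩ : Nonempty (Spec (CommRingCat.of
    (IsLocalRing.ResidueField (Z.presheaf.stalk ξ)))) := inferInstance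
  exact ⟨q, (eq_closedPoint_of_maximal ξ hξ _).trans (eq_closedPoint_of_maximal ξ hξ p).symm⟩

instance isClosedImmersion_specMap_residue {Z : Scheme.{u}} (ξ : Z) :
    IsClosedImmersion
      (Spec.map (CommRingCat.ofHom (IsLocalRing.residue (Z.presheaf.stalk ξ)))) :=
  IsClosedImmersion.spec_of_surjective _ IsLocalRing.residue_surjective

section OverStalk

open StalkLim

variable {Z : Scheme.{u}} (a : Z ⟶ T) (ξ : Z)

/-- The diagram of affine open neighbourhoods of `ξ`, as schemes over `T`. -/
noncomputable def overDiag : AffNhd Z ξ ⥤ Over T where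
  obj W := Over.mk (W.U.ι ≫ a)
  map {W W'} f := Over.homMk (Z.homOfLE (AffNhd.le_iff.mp f.le))
    (by simp only [Over.mk_left, Over.mk_hom, Scheme.homOfLE_ι_assoc])
  map_id W := by
    ext1
    exact (StalkLim.diag Z ξ).map_id W
  map_comp f g := by
    ext1
    exact (StalkLim.diag Z ξ).map_comp f g

/-- The cone over `overDiag` with vertex `Spec 𝒪_{Z,ξ}`. -/
noncomputable def overCone : Cone (overDiag a ξ) where
  pt := Over.mk (Z.fromSpecStalk ξ ≫ a)
  π :=
    { app := fun W => Over.homMk (W.U.fromSpecStalkOfMem ξ W.mem) (by
        simp only [overDiag, Over.mk_left, Over.mk_hom]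
        rw [← Category.assoc]
        congr 1
        exact Scheme.Opens.fromSpecStalkOfMem_ι _ _ _)
      naturality := fun W W' f => by
        ext1
        exact (StalkLim.cone Z ξ).π.naturality f }

/-- `overCone` is a limit cone. -/
noncomputable def isLimitOverCone : IsLimit (overCone a ξ) := by
  haveI : IsConnected (AffNhd Z ξ) := IsCofiltered.isConnected _
  refine isLimitOfReflects (Over.forget T) ?_
  exact StalkLim.isLimitCone Z ξ

end OverStalk

end Groth.Agent.Lib.Helper12.FieldPoint
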