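import Mathlib
import Groth.Agent.Lib.Helper12.FinEtModel2

/-!
# A finite étale cover of an open realising a finite separable extension of the function field
(helper12)
-/

set_option autoImplicit false
set_option linter.style.haveILetI false
universe u
open AlgebraicGeometry CategoryTheory Limits Polynomial

namespace Groth.Agent.Lib.Helper12.FinEtCover

open Groth.Agent.Lib.Helper11.EtaleNbhd Groth.Agent.Lib.Helper12.FinEtModel

theorem irreducibleSpace_of_forall_specializes {X : Type*} [TopologicalSpace X] (u : X)
    (h : ∀ q, u ⤳ q) : IrreducibleSpace X := by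
  have hcl : closure ({u} : Set X) = Set.univ := by
    rw [Set.eq_univ_iff_forall]
    intro q
    exact specializes_iff_mem_closure.mp (h q)
  have h2 := (isIrreducible_singleton (x := u)).closure
  rw [hcl] at h2
  exact (irreducibleSpace_def _).mpr h2

theorem genericPoint_eq_of_forall_specializes {X : Type*} [TopologicalSpace X] [T0Space X]
    [QuasiSober X] [IrreducibleSpace X] (u : X) (h : ∀ q, u ⤳ q) : genericPoint X = u := by
  have hu : IsGenericPoint u (Set.univ : Set X) := by
    show closure ({u} : Set X) = Set.univ
    rw [Set.eq_univ_iff_forall]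
    intro q
    exact specializes_iff_mem_closure.mp (h q)
  exact (genericPoint_spec X).eq hu

/-- the residue field at the image of `Spec L → Spec R'` is `L` when `L` consists of fractions -/
theorem bijective_descResidueField {R' L : Type u} [CommRing R'] [Field L] (ψ : R' →+* L)
    (hgen : ∀ y : L, ∃ a b : R', ψ b ≠ 0 ∧ y = ψ a / ψ b) :
    Function.Bijective (Scheme.descResidueField
      (Scheme.stalkClosedPointTo (Spec.map (CommRingCat.ofHom ψ)))).hom := by
  set t : Spec (CommRingCat.of L) ⟶ Spec (CommRingCat.of R') := Spec.map (CommRingCat.ofHom ψ)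
    with ht
  set u := t (IsLocalRing.closedPoint L) with hu
  set θc : (Spec (CommRingCat.of R')).residueField u ⟶ CommRingCat.of L :=
    Scheme.descResidueField (Scheme.stalkClosedPointTo t) with hθc
  refine ⟨θc.hom.injective, ?_⟩
  have h3 : (Spec (CommRingCat.of R')).Γevaluation u ≫ θc =
      (Scheme.ΓSpecIso (CommRingCat.of R')).hom ≫ CommRingCat.ofHom ψ := by
    have h1 := Scheme.germ_stalkClosedPointTo_Spec (CommRingCat.ofHom ψ)
    have h2 := Scheme.residue_descResidueField (Scheme.stalkClosedPointTo t)
    rw [← h1]
    show ((Spec (CommRingCat.of R')).presheaf.germ ⊤ u trivial ≫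
      (Spec (CommRingCat.of R')).residue u) ≫ θc = _
    rw [Category.assoc, h2]
  have hkey : ∀ a : R', ψ a = θc.hom ((Spec (CommRingCat.of R')).Γevaluation u
      ((Scheme.ΓSpecIso (CommRingCat.of R')).inv a)) := by
    intro a
    have := ConcreteCategory.congr_hom h3 ((Scheme.ΓSpecIso (CommRingCat.of R')).inv a)
    rw [CommRingCat.comp_apply, CommRingCat.comp_apply, CommRingCat.hom_inv_apply] at this
    exact this.symm
  intro y
  obtain ⟨a, b, hb, rfl⟩ := hgen y
  refine ⟨((Spec (CommRingCat.of R')).Γevaluation u
      ((Scheme.ΓSpecIso (CommRingCat.of R')).inv a)) /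
    ((Spec (CommRingCat.of R')).Γevaluation u
      ((Scheme.ΓSpecIso (CommRingCat.of R')).inv b)), ?_⟩
  rw [map_div₀, ← hkey, ← hkey]

/-- the image of `Spec L → Spec B` specializes to every point when the kernel consists of
nilpotents -/
theorem specializes_of_ker_nilpotent {B L : Type u} [CommRing B] [Field L] (ψ : B →+* L)
    (hnil : ∀ b, ψ b = 0 → IsNilpotent b) (q : Spec (CommRingCat.of B)) :
    (Spec.map (CommRingCat.ofHom ψ)) (IsLocalRing.closedPoint L) ⤳ q := by
  have key : (show PrimeSpectrum B from
      (Spec.map (CommRingCat.ofHom ψ)) (IsLocalRing.closedPoint L)) ≤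
      (show PrimeSpectrum B from q) := by
    intro b hb
    have hb' : ψ b ∈ IsLocalRing.maximalIdeal L := hb
    rw [IsLocalRing.maximalIdeal_eq_bot, Ideal.mem_bot] at hb'
    obtain ⟨n, hn⟩ := hnil b hb'
    exact (show PrimeSpectrum B from q).isPrime.mem_of_pow_mem n
      (hn ▸ (show PrimeSpectrum B from q).asIdeal.zero_mem)
  exact (PrimeSpectrum.le_iff_specializes (R := B) _ _).mp key

end Groth.Agent.Lib.Helper12.FinEtCover
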