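import Mathlib
import Groth.Agent.Lib.Helper12.FinEtCover

/-!
# A finite étale cover of an open realising a finite separable extension of the function field
(helper12): the main theorem
-/

set_option autoImplicit false
set_option linter.style.haveILetI false
universe u
open AlgebraicGeometry CategoryTheory Limits Polynomial

namespace Groth.Agent.Lib.Helper12.FinEtCover

open Groth.Agent.Lib.Helper11.EtaleNbhd Groth.Agent.Lib.Helper12.FinEtModel

set_option maxHeartbeats 1600000 in
theorem exists_finEt_cover {Y : Scheme.{u}} [IrreducibleSpace Y] (L : Type u) [Field L]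
    [Algebra (Y.residueField (genericPoint Y)) L]
    [FiniteDimensional (Y.residueField (genericPoint Y)) L]
    [Algebra.IsSeparable (Y.residueField (genericPoint Y)) L] :
    ∃ (V : Y.Opens) (Y' : Scheme.{u}) (g : Y' ⟶ (V : Scheme.{u})) (_ : IrreducibleSpace Y'),
      (V : Set Y).Nonempty ∧ IsAffine Y' ∧ Surjective g ∧ IsFinite g ∧ Etale g ∧
      ∃ (h : (g ≫ V.ι) (genericPoint Y') = genericPoint Y)
        (θ : Y'.residueField (genericPoint Y') ≅ CommRingCat.of L),
        CommRingCat.ofHom (algebraMap (Y.residueField (genericPoint Y)) L) =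
          (Y.residueFieldCongr h).inv ≫ (g ≫ V.ι).residueFieldMap (genericPoint Y') ≫ θ.hom := by
  classical
  obtain ⟨W, hW, hηW⟩ : ∃ W : Y.Opens, IsAffineOpen W ∧ (genericPoint Y) ∈ W := by
    obtain ⟨_, ⟨W, hW, rfl⟩, hsW, -⟩ := Y.isBasis_affineOpens.exists_subset_of_mem_open
      (Set.mem_univ (genericPoint Y)) isOpen_univ
    exact ⟨W, hW, hsW⟩
  let ev : Γ(Y, W) →+* Y.residueField (genericPoint Y) := (Y.evaluation W (genericPoint Y) hηW).hom
  have hfrac := evaluation_fraction hW (genericPoint Y) hηW
  obtain ⟨G, β, hGm, hGmap, hβ⟩ := exists_monic_lift ev (L := L) hfrac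
  have hβint : IsIntegral (Y.residueField (genericPoint Y)) β := Algebra.IsIntegral.isIntegral β
  have hsepK : (G.map ev).Separable := by
    rw [hGmap]; exact Algebra.IsSeparable.isSeparable _ β
  have hdeg : G.natDegree ≠ 0 := by
    have : (G.map ev).natDegree = G.natDegree := hGm.natDegree_map ev
    rw [← this, hGmap]; exact (minpoly.natDegree_pos hβint).ne'
  obtain ⟨h, p, q, hh, hpq⟩ := exists_bezout ev G hGm hsepK hdeg
  let V : Y.Opens := Y.basicOpen h
  have hV : IsAffineOpen V := hW.basicOpen h
  have hηV : (genericPoint Y) ∈ V := (Y.evaluation_ne_zero_iff_mem_basicOpen (genericPoint Y) hηW h).mp hh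
  have hVW : V ≤ W := Y.basicOpen_le h
  let res : Γ(Y, W) →+* Γ(Y, V) := (Y.presheaf.map (homOfLE hVW).op).hom
  let ev₂ : Γ(Y, V) →+* Y.residueField (genericPoint Y) := (Y.evaluation V (genericPoint Y) hηV).hom
  have hevres : ev₂.comp res = ev := by
    have h1 : Y.presheaf.map (homOfLE hVW).op ≫ Y.evaluation V (genericPoint Y) hηV = Y.evaluation W (genericPoint Y) hηW := by
      rw [← Scheme.germ_residue, ← Scheme.germ_residue, ← Category.assoc,
        TopCat.Presheaf.germ_res]
    show (Y.presheaf.map (homOfLE hVW).op ≫ Y.evaluation V (genericPoint Y) hηV).hom = _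
    rw [h1]
  have hunit : IsUnit (res h) := Y.toRingedSpace.isUnit_res_basicOpen h
  have hG₂m : (G.map res).Monic := hGm.map res
  have hG₂map : (G.map res).map ev₂ = minpoly (Y.residueField (genericPoint Y)) β := by
    rw [Polynomial.map_map, hevres, hGmap]
  have hG₂sep : (G.map res).Separable := by
    obtain ⟨c, hc⟩ := hunit.exists_left_inv
    refine ⟨C c * p.map res, C c * q.map res, ?_⟩
    have := congrArg (Polynomial.map res) hpq
    simp only [Polynomial.map_add, Polynomial.map_mul, Polynomial.map_C, ← derivative_map]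
      at this
    calc C c * p.map res * G.map res + C c * q.map res * derivative (G.map res)
        = C c * (G.map res * p.map res + derivative (G.map res) * q.map res) := by ring
      _ = C c * C (res h) := by rw [this]
      _ = 1 := by rw [← C_mul, hc, C_1]
  have hnil : ∀ a, ev₂ a = 0 → IsNilpotent a := by
    intro a ha
    rw [Scheme.isNilpotent_iff_basicOpen_eq_bot_of_isCompact hV.isCompact]
    by_contra hne
    have hne' : (Set.univ ∩ (Y.basicOpen a : Set Y)).Nonempty := by
      rw [Set.univ_inter]
      exact (TopologicalSpace.Opens.ne_bot_iff_nonempty _).mp hne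
    have hmem : (genericPoint Y) ∈ Y.basicOpen a :=
      ((genericPoint_spec Y).mem_open_set_iff (Y.basicOpen a).isOpen).mpr hne'
    exact (Y.evaluation_eq_zero_iff_notMem_basicOpen (genericPoint Y) hηV a).mp ha hmem
  obtain ⟨hfin, het, hinj, ψ, hψof, hgen, hψnil⟩ :=
    exists_model ev₂ (evaluation_fraction hV (genericPoint Y) hηV) hnil (G.map res) hG₂m β hβint hG₂map hβ
      hG₂sep
  let B := AdjoinRoot (G.map res)
  let Y' : Scheme.{u} := Spec (CommRingCat.of B)
  let g₀ : Y' ⟶ Spec Γ(Y, V) := Spec.map (CommRingCat.ofHom (algebraMap Γ(Y, V) B))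
  obtain ⟨g, hg⟩ : ∃ g : Y' ⟶ (V : Scheme.{u}), g = g₀ ≫ hV.isoSpec.inv := ⟨_, rfl⟩
  have hgι : g ≫ V.ι = g₀ ≫ hV.fromSpec := by
    rw [hg, Category.assoc, IsAffineOpen.isoSpec_inv_ι]
  let t : Spec (CommRingCat.of L) ⟶ Y' := Spec.map (CommRingCat.ofHom ψ)
  let u : Y' := t (IsLocalRing.closedPoint L)
  have hspec : ∀ q : Y', u ⤳ q := specializes_of_ker_nilpotent ψ hψnil
  haveI hirr : IrreducibleSpace Y' := irreducibleSpace_of_forall_specializes u hspec
  have hgenu : genericPoint Y' = u := genericPoint_eq_of_forall_specializes u hspec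
  have hcompat : t ≫ (g ≫ V.ι) =
      Spec.map (CommRingCat.ofHom (algebraMap (Y.residueField (genericPoint Y)) L)) ≫
        Y.fromSpecResidueField (genericPoint Y) := by
    rw [hgι]
    show Spec.map (CommRingCat.ofHom ψ) ≫
      Spec.map (CommRingCat.ofHom (algebraMap Γ(Y, V) B)) ≫ hV.fromSpec = _
    rw [← Category.assoc, ← Spec.map_comp]
    have : CommRingCat.ofHom (algebraMap Γ(Y, V) B) ≫ CommRingCat.ofHom ψ =
        Y.evaluation V (genericPoint Y) hηV ≫
          CommRingCat.ofHom (algebraMap (Y.residueField (genericPoint Y)) L) := by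
      ext r
      exact hψof r
    rw [this, Spec.map_comp, Category.assoc]
    congr 1
    rw [← Scheme.germ_residue, Spec.map_comp, Category.assoc]
    show _ ≫ hV.fromSpecStalk hηV = _
    rw [hV.fromSpecStalk_eq_fromSpecStalk]
    rfl
  have hu : (g ≫ V.ι) u = genericPoint Y := by
    show (g ≫ V.ι) (t (IsLocalRing.closedPoint L)) = _
    rw [← Scheme.Hom.comp_apply, hcompat, Scheme.Hom.comp_apply,
      Scheme.fromSpecResidueField_apply]
  let θc : Y'.residueField u ⟶ CommRingCat.of L :=
    Scheme.descResidueField (Scheme.stalkClosedPointTo t)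
  have hθt : Spec.map θc ≫ Y'.fromSpecResidueField u = t :=
    Scheme.descResidueField_stalkClosedPointTo_fromSpecResidueField L _ t
  have hbij : Function.Bijective θc.hom := bijective_descResidueField ψ hgen
  haveI : IsIso θc := (ConcreteCategory.isIso_iff_bijective θc).mpr hbij
  have hθ : CommRingCat.ofHom (algebraMap (Y.residueField (genericPoint Y)) L) =
      (Y.residueFieldCongr hu).inv ≫ (g ≫ V.ι).residueFieldMap u ≫ θc := by
    have e1 : Spec.map θc ≫ Y'.fromSpecResidueField u ≫ (g ≫ V.ι) = t ≫ (g ≫ V.ι) := by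
      rw [← Category.assoc, hθt]
    apply Spec.map_injective
    rw [← cancel_mono (Y.fromSpecResidueField (genericPoint Y)), ← hcompat, Spec.map_comp,
      Spec.map_comp, Category.assoc, Category.assoc, Scheme.residueFieldCongr_inv,
      Scheme.residueFieldCongr_fromSpecResidueField,
      Scheme.Hom.SpecMap_residueFieldMap_fromSpecResidueField]
    exact e1.symm
  refine ⟨V, Y', g, hirr, ⟨genericPoint Y, hηV⟩, inferInstance, ?_, ?_, ?_, ?_⟩
  · haveI : Surjective g₀ := by
      refine ⟨fun x => ?_⟩
      have hint : (algebraMap Γ(Y, V) B).IsIntegral :=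
        algebraMap_isIntegral_iff.mpr (Algebra.IsIntegral.of_finite _ _)
      exact (RingHom.IsIntegral.comap_surjective hint hinj) x
    rw [hg]
    infer_instance
  · haveI : IsFinite g₀ := by
      rw [IsFinite.SpecMap_iff]
      exact RingHom.finite_algebraMap.mpr hfin
    rw [hg]
    infer_instance
  · haveI : Etale g₀ := by
      rw [HasRingHomProperty.Spec_iff (P := @Etale)]
      exact RingHom.etale_algebraMap.mpr het
    rw [hg]
    infer_instance
  · rw [hgenu]
    exact ⟨hu, asIso θc, hθ⟩

end Groth.Agent.Lib.Helper12.FinEtCover
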