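import Mathlib

/-!
# The subalgebra generated by a basis with integral structure constants is finite free (helper12)
-/

set_option autoImplicit false
set_option linter.style.haveILetI false
universe u

namespace Groth.Agent.Lib.Helper12.FinFreeAdjoin

variable {R K L : Type u} [CommRing R] [Field K] [Field L] [Algebra R K] [Algebra K L]
  [Algebra R L] [IsScalarTower R K L] {ι : Type*} [Fintype ι] (b : Module.Basis ι K L)

theorem smul_eq (r : R) (x : L) : r • x = (algebraMap R K r) • x := by
  rw [algebraMap_smul]

theorem toSubmodule_adjoin_eq_span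
    (hc : ∀ i j l, b.repr (b i * b j) l ∈ (algebraMap R K).range)
    (hd : ∀ l, b.repr 1 l ∈ (algebraMap R K).range) :
    Subalgebra.toSubmodule (Algebra.adjoin R (Set.range b)) = Submodule.span R (Set.range b) := by
  classical
  have hmem : ∀ x : L, (∀ l, b.repr x l ∈ (algebraMap R K).range) →
      x ∈ Submodule.span R (Set.range b) := by
    intro x hx
    choose r hr using hx
    have hsum : x = ∑ l, r l • b l := by
      conv_lhs => rw [← b.sum_repr x]
      refine Finset.sum_congr rfl (fun l _ => ?_)
      rw [smul_eq (K := K) (r l) (b l), hr]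
    rw [hsum]
    exact Submodule.sum_mem _ (fun l _ => Submodule.smul_mem _ _ (Submodule.subset_span ⟨l, rfl⟩))
  have h1 : (1 : L) ∈ Submodule.span R (Set.range b) := hmem 1 hd
  have hle : Submodule.span R (Set.range b) * Submodule.span R (Set.range b) ≤
      Submodule.span R (Set.range b) := by
    rw [Submodule.span_mul_span, Submodule.span_le]
    rintro _ ⟨_, ⟨i, rfl⟩, _, ⟨j, rfl⟩, rfl⟩
    exact hmem _ (hc i j)
  have hmul : ∀ x y : L, x ∈ Submodule.span R (Set.range b) →
      y ∈ Submodule.span R (Set.range b) → x * y ∈ Submodule.span R (Set.range b) :=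
    fun x y hx hy => hle (Submodule.mul_mem_mul hx hy)
  apply le_antisymm
  · have h2 : Algebra.adjoin R (Set.range b) ≤
        (Submodule.span R (Set.range b)).toSubalgebra h1 hmul :=
      Algebra.adjoin_le (fun x hx => Submodule.subset_span hx)
    intro x hx
    exact h2 hx
  · rw [Submodule.span_le]
    intro x hx
    exact Algebra.subset_adjoin hx

theorem finite_free_adjoin (hinj : Function.Injective (algebraMap R K))
    (hc : ∀ i j l, b.repr (b i * b j) l ∈ (algebraMap R K).range)
    (hd : ∀ l, b.repr 1 l ∈ (algebraMap R K).range) :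
    Module.Finite R ↥(Algebra.adjoin R (Set.range b)) ∧
      Module.Free R ↥(Algebra.adjoin R (Set.range b)) := by
  classical
  have hspan := toSubmodule_adjoin_eq_span b hc hd
  let v : ι → ↥(Algebra.adjoin R (Set.range b)) := fun i => ⟨b i, Algebra.subset_adjoin ⟨i, rfl⟩⟩
  have hliK : LinearIndependent K b := b.linearIndependent
  have hliR : LinearIndependent R b := by
    refine hliK.restrict_scalars ?_
    intro r s hrs
    apply hinj
    simpa [Algebra.smul_def] using hrs
  have hliv : LinearIndependent R v := by
    refine LinearIndependent.of_comp (Subalgebra.toSubmodule (Algebra.adjoin R (Set.range b))).subtype ?_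
    exact hliR
  have hspv : ⊤ ≤ Submodule.span R (Set.range v) := by
    rintro ⟨x, hx⟩ -
    have hx' : x ∈ Submodule.span R (Set.range b) := by
      rw [← hspan]
      exact hx
    have h3 : Submodule.span R (Set.range b) =
        (Submodule.span R (Set.range v)).map
          (Subalgebra.toSubmodule (Algebra.adjoin R (Set.range b))).subtype := by
      rw [Submodule.map_span, ← Set.range_comp]
      rfl
    rw [h3] at hx'
    obtain ⟨y, hy, hyx⟩ := hx'
    have : y = ⟨x, hx⟩ := Subtype.ext hyx
    rw [← this]
    exact hy
  let B := Module.Basis.mk hliv hspv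
  exact ⟨Module.Finite.of_basis B, Module.Free.of_basis B⟩

end Groth.Agent.Lib.Helper12.FinFreeAdjoin
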