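import Mathlib
import Groth.Agent.Lib.Helper28.IdealComap

/-!
# The graph of an endomorphism as the pullback of the diagonal (helper12)

Categorical and stalk-level facts used for `(ψ × id)^*[Δ] = [Γ_ψ]`.
-/

set_option autoImplicit false
universe u
open CategoryTheory CategoryTheory.Limits AlgebraicGeometry

namespace Groth.Agent.Lib.Helper12.GraphDiag

/-- The graph of `ψ` is the pullback of the diagonal along `ψ × id`. -/
theorem isPullback_graph {X S : Scheme.{u}} (f : X ⟶ S) (ψ : X ⟶ X)
    (m : pullback f f ⟶ pullback f f) (hm₁ : m ≫ pullback.fst f f = pullback.fst f f ≫ ψ)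
    (hm₂ : m ≫ pullback.snd f f = pullback.snd f f) (g : X ⟶ pullback f f)
    (hg₁ : g ≫ pullback.fst f f = 𝟙 X) (hg₂ : g ≫ pullback.snd f f = ψ) :
    IsPullback g ψ m (pullback.diagonal f) := by
  have hw : g ≫ m = ψ ≫ pullback.diagonal f := by
    apply pullback.hom_ext
    · rw [Category.assoc, hm₁, reassoc_of% hg₁, Category.assoc, pullback.diagonal_fst,
        Category.comp_id]
    · rw [Category.assoc, hm₂, hg₂, Category.assoc, pullback.diagonal_snd, Category.comp_id]
  refine ⟨⟨hw⟩, ⟨PullbackCone.IsLimit.mk hw (fun s => s.fst ≫ pullback.fst f f) ?_ ?_ ?_⟩⟩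
  · intro s
    have h1 : s.fst ≫ pullback.fst f f ≫ ψ = s.snd := by
      have := congrArg (· ≫ pullback.fst f f) s.condition
      simp only [Category.assoc, pullback.diagonal_fst, Category.comp_id] at this
      rw [← hm₁]; exact this
    have h2 : s.fst ≫ pullback.snd f f = s.snd := by
      have := congrArg (· ≫ pullback.snd f f) s.condition
      simp only [Category.assoc, pullback.diagonal_snd, Category.comp_id] at this
      rw [← hm₂]; exact this
    apply pullback.hom_ext
    · rw [Category.assoc, Category.assoc, hg₁, Category.comp_id]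
    · rw [Category.assoc, Category.assoc, hg₂, h1, h2]
  · intro s
    have := congrArg (· ≫ pullback.fst f f) s.condition
    simp only [Category.assoc, pullback.diagonal_fst, Category.comp_id] at this
    rw [Category.assoc, ← hm₁]; exact this
  · intro s l hl _
    rw [← hl, Category.assoc, hg₁, Category.comp_id]

/-- Points of the preimage of the diagonal lie on the graph. -/
theorem exists_of_isPullback {P X Y Z : Scheme.{u}} {a : P ⟶ X} {b : P ⟶ Y} {p : X ⟶ Z}
    {q : Y ⟶ Z} (h : IsPullback a b p q) (x : X) (y : Y) (hxy : p x = q y) :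
    ∃ z : P, a z = x ∧ b z = y := by
  obtain ⟨w, hw1, hw2⟩ := Scheme.Pullback.exists_preimage_pullback (f := p) (g := q) x y hxy
  refine ⟨h.isoPullback.inv w, ?_, ?_⟩
  · rw [← Scheme.Hom.comp_apply, h.isoPullback_inv_fst, hw1]
  · rw [← Scheme.Hom.comp_apply, h.isoPullback_inv_snd, hw2]

/-- The ideal sheaf of the pulled-back closed immersion. -/
theorem ker_eq_comap_of_isPullback {P X Y Z : Scheme.{u}} {a : P ⟶ X} {b : P ⟶ Y} {p : X ⟶ Z}
    {q : Y ⟶ Z} [IsClosedImmersion q] (h : IsPullback a b p q) : a.ker = q.ker.comap p := by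
  rw [← Scheme.IdealSheafData.ker_fst_of_isClosedImmersion q p, ← h.isoPullback_hom_fst,
    Scheme.Hom.ker_comp_of_isIso]

end Groth.Agent.Lib.Helper12.GraphDiag
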