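import Mathlib
import Groth.Agent.Lib.Helper28.IdealComap

/-!
# Stalk-level consequence of `g.ker = d.ker.comap m` (helper12)
-/

set_option autoImplicit false
universe u
open CategoryTheory CategoryTheory.Limits AlgebraicGeometry

namespace Groth.Agent.Lib.Helper12.GraphDiag

/-- A section killed by `d` has non-unit germs at points of the image of `d`. -/
theorem germ_mem_maximalIdeal_of_mem_ker {X' Y' : Scheme.{u}} (d : X' ⟶ Y') (V : Y'.Opens)
    (t : Γ(Y', V)) (ht : (d.app V).hom t = 0) (z : Y') (hz : z ∈ V) (x' : X') (hzx : z = d x') :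
    (Y'.presheaf.germ V z hz).hom t ∈ IsLocalRing.maximalIdeal (Y'.presheaf.stalk z) := by
  subst hzx
  rw [IsLocalRing.mem_maximalIdeal, mem_nonunits_iff]
  intro hu
  have h1 : (d.stalkMap x').hom ((Y'.presheaf.germ V (d x') hz).hom t) =
      (X'.presheaf.germ (d ⁻¹ᵁ V) x' hz).hom ((d.app V).hom t) :=
    Scheme.Hom.germ_stalkMap_apply d V x' hz t
  rw [ht, map_zero] at h1
  have h2 := hu.map (d.stalkMap x').hom
  rw [h1] at h2
  exact not_isUnit_zero h2

/-- If the ideal sheaf of `g` is the pullback along `m` of the ideal sheaf of `d`, then at a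
point `p` of the integral scheme `P` with `m (g p)` in the image of `d`, the kernel of the stalk
map of `g` is contained in the ideal generated by the maximal ideal of `O_{m (g p)}`. -/
theorem ker_stalkMap_le_map {P Y X' Y' : Scheme.{u}} (g : P ⟶ Y) (m : Y ⟶ Y') (d : X' ⟶ Y')
    [QuasiCompact g] [QuasiCompact d]
    (hker : g.ker = d.ker.comap m) [IsIntegral P] (p : P) (x' : X') (hmp : m (g p) = d x') :
    RingHom.ker (g.stalkMap p).hom ≤
      Ideal.map (m.stalkMap (g p)).hom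
        (IsLocalRing.maximalIdeal (Y'.presheaf.stalk (m (g p)))) := by
  intro a ha
  obtain ⟨V, hV, hmV⟩ : ∃ V : Y'.Opens, IsAffineOpen V ∧ m (g p) ∈ V := by
    obtain ⟨V, hV, hmV, -⟩ := TopologicalSpace.Opens.isBasis_iff_nbhd.mp Y'.isBasis_affineOpens
      (show m (g p) ∈ (⊤ : Y'.Opens) from trivial)
    exact ⟨V, hV, hmV⟩
  obtain ⟨U, hgpU, s, rfl⟩ := Y.presheaf.exists_germ_eq a
  obtain ⟨W, hW, hgpW, hWU⟩ := TopologicalSpace.Opens.isBasis_iff_nbhd.mp Y.isBasis_affineOpens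
    (show g p ∈ U ⊓ m ⁻¹ᵁ V from ⟨hgpU, hmV⟩)
  have hWU' : W ≤ U := hWU.trans inf_le_left
  have hWV : W ≤ m ⁻¹ᵁ V := hWU.trans inf_le_right
  set s' : Γ(Y, W) := (Y.presheaf.map (homOfLE hWU').op).hom s with hs'
  have hgerm : (Y.presheaf.germ W (g p) hgpW).hom s' = (Y.presheaf.germ U (g p) hgpU).hom s :=
    TopCat.Presheaf.germ_res_apply Y.presheaf (homOfLE hWU') (g p) hgpW s
  rw [← hgerm]
  rw [RingHom.mem_ker, ← hgerm] at ha
  -- the section `s'` lies in the ideal of `g`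
  have h0 : (g.app W).hom s' = 0 := by
    apply germ_injective_of_isIntegral P p (show p ∈ g ⁻¹ᵁ W from hgpW)
    rw [map_zero]
    have := Scheme.Hom.germ_stalkMap_apply g W p hgpW s'
    rw [← this]; exact ha
  have h1 : s' ∈ g.ker.ideal ⟨W, hW⟩ := by
    rw [Scheme.Hom.ker_apply]; exact h0
  rw [hker, Groth.Agent.Lib.Helper28.ideal_comap_of_le d.ker m ⟨V, hV⟩ ⟨W, hW⟩ hWV] at h1
  have h2 := Ideal.mem_map_of_mem (Y.presheaf.germ W (g p) hgpW).hom h1
  rw [Ideal.map_map] at h2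
  have hcomp : (Y.presheaf.germ W (g p) hgpW).hom.comp (m.appLE V W hWV).hom =
      (m.stalkMap (g p)).hom.comp (Y'.presheaf.germ V (m (g p)) hmV).hom := by
    ext t
    simp only [RingHom.comp_apply]
    have e1 := Scheme.Hom.germ_stalkMap_apply m V (g p) hmV t
    rw [Scheme.Hom.appLE]
    erw [e1]
    exact TopCat.Presheaf.germ_res_apply Y.presheaf (homOfLE hWV) (g p) hgpW _
  rw [hcomp, ← Ideal.map_map] at h2
  refine Ideal.map_mono ?_ h2
  rw [Ideal.map_le_iff_le_comap]
  intro t ht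
  rw [Ideal.mem_comap]
  rw [Scheme.Hom.ker_apply] at ht
  exact germ_mem_maximalIdeal_of_mem_ker d V t ht (m (g p)) hmV x' hmp

end Groth.Agent.Lib.Helper12.GraphDiag
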