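import Mathlib
import Groth.Prelude.Def_Cyc
import Groth.Agent.Lib.Helper12.GraphDiag1
import Groth.Agent.Lib.Helper12.GraphDiag2
import Groth.Agent.Lib.Helper23.WeilCohDim2
import Groth.Agent.Lib.Helper23.WeilCohGraph

/-!
# `(ψ × id)^*[Δ] = [Γ_ψ]` on a curve (helper12)
-/

set_option autoImplicit false
universe u
open CategoryTheory CategoryTheory.Limits AlgebraicGeometry

namespace Groth.Agent.Lib.Helper12.GraphDiag

/-- points other than the generic point of an integral scheme of dimension `≤ 1` are closed
(copied from `Helper23.NormDelta` to keep imports light) -/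
theorem isClosed_singleton_of_ne_genericPoint {X : Scheme.{u}} [IsIntegral X]
    (hdim : topologicalKrullDim X ≤ 1) (z : X)
    (hz : z ≠ genericPoint X) : IsClosed ({z} : Set X) := by
  have h1 : Order.krullDim (TopologicalSpace.IrreducibleCloseds X) ≤ 1 := hdim
  rw [Order.krullDim_le_one_iff] at h1
  let c : TopologicalSpace.IrreducibleCloseds X :=
    ⟨closure {z}, isIrreducible_singleton.closure, isClosed_closure⟩
  rcases h1 c with hmin | hmax
  · have hcl : closure ({z} : Set X) = {z} := by
      apply Set.Subset.antisymm _ subset_closure
      intro y hy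
      let d : TopologicalSpace.IrreducibleCloseds X :=
        ⟨closure {y}, isIrreducible_singleton.closure, isClosed_closure⟩
      have hdc : d ≤ c := by
        show closure ({y} : Set X) ⊆ closure {z}
        exact closure_minimal (Set.singleton_subset_iff.mpr hy) isClosed_closure
      have hcd : c ≤ d := hmin hdc
      have heq : closure ({z} : Set X) = closure {y} := Set.Subset.antisymm hcd hdc
      have : Inseparable z y := (inseparable_iff_closure_eq).mpr heq
      exact Set.mem_singleton_iff.mpr this.eq.symm
    rw [← hcl]
    exact isClosed_closure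
  · exfalso
    apply hz
    let T : TopologicalSpace.IrreducibleCloseds X :=
      ⟨Set.univ, IrreducibleSpace.isIrreducible_univ X, isClosed_univ⟩
    have htop : c ≤ T := fun _ _ => Set.mem_univ _
    have h2 : T ≤ c := hmax htop
    have h3 : closure ({z} : Set X) = Set.univ := by
      apply Set.eq_univ_of_univ_subset
      exact h2
    have h4 : IsGenericPoint z (Set.univ : Set X) := h3
    exact (h4.eq (genericPoint_spec X)).symm ▸ rfl

/-- the generic point of an integral scheme of dimension one is not closed -/
theorem not_isClosed_genericPoint {X : Scheme.{u}} [IsIntegral X]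
    (hdim : topologicalKrullDim X = 1) : ¬ IsClosed ({genericPoint X} : Set X) := by
  intro hx
  have h1 : closure ({genericPoint X} : Set X) = Set.univ := (genericPoint_spec X).def
  rw [hx.closure_eq] at h1
  haveI : Subsingleton X := ⟨fun a b => by
    have ha : a ∈ ({genericPoint X} : Set X) := h1 ▸ Set.mem_univ a
    have hb : b ∈ ({genericPoint X} : Set X) := h1 ▸ Set.mem_univ b
    rw [Set.mem_singleton_iff.1 ha, Set.mem_singleton_iff.1 hb]⟩
  haveI : DiscreteTopology X := inferInstance
  have h2 := topologicalKrullDim_zero_of_discreteTopology X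
  rw [hdim] at h2
  exact absurd h2 (by decide)

/-- a flat endomorphism of an integral scheme fixes the generic point -/
theorem flat_map_genericPoint {X : Scheme.{u}} [IsIntegral X] (ψ : X ⟶ X) [Flat ψ] :
    ψ (genericPoint X) = genericPoint X := by
  have hgen : GeneralizingMap ψ := Flat.generalizingMap ψ
  have h1 : genericPoint X ⤳ ψ (genericPoint X) := (genericPoint_spec X).specializes trivial
  obtain ⟨a, ha, hψa⟩ := hgen h1
  have h2 : genericPoint X ⤳ a := (genericPoint_spec X).specializes trivial
  have : a = genericPoint X := (ha.antisymm h2).eq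
  rw [← this] at hψa ⊢
  rw [hψa, this]

/-- on a curve over a field, only the generic point maps to the generic point -/
theorem eq_genericPoint_of_map_eq {k : Type u} [Field k] {X : Scheme.{u}}
    (f : X ⟶ Spec (CommRingCat.of k)) [LocallyOfFiniteType f] [IsIntegral X]
    (hdim : topologicalKrullDim X = 1) (ψ : X ⟶ X) (hψ : ψ ≫ f = f) (x : X)
    (hx : ψ x = genericPoint X) : x = genericPoint X := by
  by_contra hne
  have hcl : IsClosed ({x} : Set X) := isClosed_singleton_of_ne_genericPoint hdim.le x hne
  haveI : JacobsonSpace X := LocallyOfFiniteType.jacobsonSpace f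
  haveI : LocallyOfFiniteType (ψ ≫ f) := by rw [hψ]; infer_instance
  haveI : LocallyOfFiniteType ψ := locallyOfFiniteType_of_comp ψ f
  have h1 : ψ x ∈ closedPoints X := ψ.closePoints_subset_preimage_closedPoints hcl
  rw [hx] at h1
  exact not_isClosed_genericPoint hdim h1

end Groth.Agent.Lib.Helper12.GraphDiag
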