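import Mathlib
import Groth.Agent.S1585
import Groth.Agent.Lib.Helper4.SerreNormal
import Groth.Agent.Lib.Helper1.CurveFlat
import Groth.Agent.Lib.Helper12.GraphDiag3

/-!
# The non-regular closed points of an integral proper curve over a field are finite (helper12)

Requested by helper11 (R1 for S16302).
-/

set_option autoImplicit false
set_option linter.style.haveILetI false
universe u
open CategoryTheory CategoryTheory.Limits AlgebraicGeometry TopologicalSpace Opposite

namespace Groth.Agent.Lib.Helper12.FiniteNonreg

/-- In a Noetherian integral scheme of dimension `≤ 1`, a closed subset not containing the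
generic point is finite. -/
theorem finite_of_isClosed_of_genericPoint_notMem {X : Scheme.{u}} [IsIntegral X]
    [NoetherianSpace X] (hdim : topologicalKrullDim X ≤ 1) (Z : Set X) (hZ : IsClosed Z)
    (hη : genericPoint X ∉ Z) : Z.Finite := by
  obtain ⟨S, hS, hZS⟩ := NoetherianSpace.exists_finset_irreducible (⟨Z, hZ⟩ : Closeds X)
  have hZS' : Z = ⋃ s ∈ S, (s : Set X) := by
    have := congrArg (fun c : Closeds X => (c : Set X)) hZS
    simpa [Closeds.coe_finset_sup] using this
  rw [hZS']
  refine Set.Finite.biUnion S.finite_toSet (fun s hs => ?_)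
  have hirr : IsIrreducible (s : Set X) := hS ⟨s, hs⟩
  obtain ⟨z, hz⟩ := QuasiSober.sober hirr s.isClosed
  have hzZ : z ∈ Z := by
    rw [hZS']
    exact Set.mem_biUnion hs hz.mem
  have hzη : z ≠ genericPoint X := fun h => hη (h ▸ hzZ)
  have hcl : IsClosed ({z} : Set X) :=
    Groth.Agent.Lib.Helper12.GraphDiag.isClosed_singleton_of_ne_genericPoint hdim z hzη
  have : (s : Set X) = {z} := by
    rw [← hz.def, hcl.closure_eq]
  rw [this]
  exact Set.finite_singleton z

/-- If `ν` restricts to an isomorphism over the open `V`, its stalk maps at points over `V` are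
isomorphisms. -/
theorem isIso_stalkMap_of_isIso_restrict {X Y : Scheme.{u}} (f : X ⟶ Y) (V : Y.Opens)
    [IsIso (f ∣_ V)] (x : X) (hx : f x ∈ V) : IsIso (f.stalkMap x) := by
  have h1 : IsIso ((f ∣_ V).stalkMap ⟨x, hx⟩) := inferInstance
  exact ((MorphismProperty.isomorphisms _).arrow_mk_iso_iff
    (morphismRestrictStalkMap f V ⟨x, hx⟩)).mp h1

variable (k : Type u) [Field k] {X : Scheme.{u}} [X.Over (Spec (CommRingCat.of k))] [IsIntegral X]
  [IsProper (X ↘ Spec (CommRingCat.of k))]

include k in
/-- **R1** (helper11, S16302): the non-regular closed points of an integral proper curve over a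
field are finitely many. -/
theorem finite_nonregular (hdim : topologicalKrullDim X = 1) :
    {x : X | IsClosed ({x} : Set X) ∧ ¬ IsRegularLocalRing (X.presheaf.stalk x)}.Finite := by
  haveI : IsLocallyNoetherian X :=
    LocallyOfFiniteType.isLocallyNoetherian (X ↘ Spec (CommRingCat.of k))
  haveI : CompactSpace X := QuasiCompact.compactSpace_of_compactSpace (X ↘ Spec (CommRingCat.of k))
  haveI : IsNoetherian X := { }
  haveI : NoetherianSpace X := inferInstance
  haveI : QuasiSeparatedSpace X :=
    quasiSeparatedSpace_of_quasiSeparated (X ↘ Spec (CommRingCat.of k))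
  haveI : QuasiCompact (X.fromSpecStalk (genericPoint X)) := inferInstance
  haveI : QuasiSeparated (X.fromSpecStalk (genericPoint X)) := inferInstance
  obtain ⟨hfin, -, ⟨V, hVne, hViso⟩, hint, hnorm⟩ := Groth.Agent.S1585.result k X
  haveI := hViso
  have hηV : genericPoint X ∈ V :=
    ((genericPoint_spec X).mem_open_set_iff V.isOpen).mpr (by simpa using hVne)
  refine (finite_of_isClosed_of_genericPoint_notMem hdim.le ((V : Set X)ᶜ)
    V.isOpen.isClosed_compl (fun h => h hηV)).subset ?_
  rintro x ⟨-, hx⟩
  by_contra hxV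
  have hxV' : x ∈ V := by simpa using hxV
  apply hx
  -- `x` has a preimage in the normalization
  obtain ⟨x', rfl⟩ : ∃ x', (Curv2.normalizationι X) x' = x := by
    have hsurj : Function.Surjective (Curv2.normalizationι X ∣_ V) :=
      (ConcreteCategory.bijective_of_isIso (Curv2.normalizationι X ∣_ V).base).2
    obtain ⟨y, hy⟩ := hsurj ⟨x, hxV'⟩
    refine ⟨y.1, ?_⟩
    have := congrArg Subtype.val hy
    rwa [morphismRestrict_base_coe] at this
  haveI : IsIso ((Curv2.normalizationι X).stalkMap x') :=
    isIso_stalkMap_of_isIso_restrict (Curv2.normalizationι X) V x' hxV'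
  let e : X.presheaf.stalk ((Curv2.normalizationι X) x') ≃+*
      (Curv2.normalization X).presheaf.stalk x' :=
    (asIso ((Curv2.normalizationι X).stalkMap x')).commRingCatIsoToRingEquiv
  obtain ⟨hd, hic⟩ := hnorm x'
  haveI := hd
  haveI := hic
  haveI : IsIntegrallyClosed (X.presheaf.stalk ((Curv2.normalizationι X) x')) :=
    IsIntegrallyClosed.of_equiv e.symm
  exact Groth.Agent.Lib.Helper4.SerreNormal.isRegularLocalRing_of_normal_of_dim_le_one _
    ((Groth.Agent.Lib.Helper1.CurveFlat.ringKrullDim_stalk_le X _).trans hdim.le)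

end Groth.Agent.Lib.Helper12.FiniteNonreg
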