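import Mathlib
import Groth.Agent.Lib.Helper12.ChevalleyCor
import Groth.Agent.Lib.Helper12.ValDimSch
import Groth.Agent.Lib.Helper12.ValStalk
import Groth.Agent.Lib.Helper12.ClosedSub
import Groth.Agent.Lib.Helper12.SchemeDimIneq2

/-!
# Helper library (helper12): the special fibre of an irreducible scheme over a valuation ring is
equidimensional of the dimension of the generic fibre
-/

set_option autoImplicit false
universe u
open AlgebraicGeometry CategoryTheory TopologicalSpace

namespace Groth.Agent.Lib.Helper12.ValEquidim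

open Groth.Agent.Lib.Helper12 Groth.Agent.Lib.Helper12.SchemeDimFT
  Groth.Agent.Lib.Helper12.ChevalleyCor Groth.Agent.Lib.Helper12.SchemeDimIneq
  Groth.Agent.Lib.Helper12.ClosedSub

theorem dim_fiber_congr {X Y : Scheme.{u}} (f : X ⟶ Y) (y₁ y₂ : Y) (h : y₁ = y₂) :
    topologicalKrullDim (f.fiber y₁) = topologicalKrullDim (f.fiber y₂) := by
  subst h; rfl

/-- Every irreducible component of any fibre over a point with valuation-ring stalk has the
dimension of the generic fibre. -/
theorem dim_component_fiber {X Y : Scheme.{u}} [IrreducibleSpace X] (f : X ⟶ Y)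
    [LocallyOfFiniteType f] (s : Y)
    [IsDomain (Y.presheaf.stalk s)] [ValuationRing (Y.presheaf.stalk s)]
    (Z : Set (f.fiber s)) (hZ : Z ∈ irreducibleComponents (f.fiber s)) :
    topologicalKrullDim Z = topologicalKrullDim (f.fiber (f.base (genericPoint X))) := by
  classical
  letI ovF : (f.fiber s).Over (Spec (CommRingCat.of (Y.residueField s))) :=
    ⟨f.fiberToSpecResidueField s⟩
  haveI : LocallyOfFiniteType ((f.fiber s) ↘ Spec (CommRingCat.of (Y.residueField s))) :=
    FibreRes.locallyOfFiniteType_fiberToSpecResidueField f s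
  obtain ⟨ζ, hζ, rfl⟩ :=
    (SchemeDimFT.mem_irreducibleComponents_iff Z).mp hZ
  rw [topologicalKrullDim_closure_singleton (Y.residueField s) (f.fiber s) ζ]
  have hs : f.base (f.fiberι s ζ) = s := by
    have h3 : f.fiberι s ζ ∈ Set.range (f.fiberι s) := ⟨ζ, rfl⟩
    rw [Scheme.Hom.range_fiberι] at h3
    exact h3
  apply le_antisymm
  · -- `≤`: residue transcendence degrees do not go up under specialization
    rw [dim_generic_fiber_eq_tr f]
    haveI : IsDomain (Y.presheaf.stalk (f (f.fiberι s ζ))) := by
      rw [show f (f.fiberι s ζ) = s from hs]; infer_instance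
    haveI : ValuationRing (Y.presheaf.stalk (f (f.fiberι s ζ))) := by
      have : ∀ (y : Y) (h : y = s) [IsDomain (Y.presheaf.stalk y)],
          ValuationRing (Y.presheaf.stalk y) := by
        rintro y rfl _
        infer_instance
      exact this _ hs
    have h3 := ValDim.trn_le_of_valuationRing_stalk f (f.fiberι s ζ) (genericPoint X)
      (genericPoint_specializes _)
    rw [trn_eq_tr_of_fiber f (f.fiberι s ζ) s hs ζ rfl,
      trn_eq_tr_of_fiber f (genericPoint X) _ rfl (f.asFiber _) (f.fiberι_asFiber _)] at h3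
    exact_mod_cast h3
  · -- `≥`: Chevalley semicontinuity
    have h1 := dim_generic_fiber_le_fibreDimAt f (f.fiberι s ζ)
    rw [fibreDimAt_eq_localDim f s ζ] at h1
    have h0 : ringKrullDim ((f.fiber s).presheaf.stalk ζ) = ((0 : ℕ) : WithBot ℕ∞) := by
      rw [ringKrullDim_stalk_eq_coheight]
      have : Order.coheight ζ = 0 := by
        rw [Order.coheight_eq_zero]
        intro b hb
        have hb' : b ⤳ ζ := hb
        rw [hζ b hb']
      rw [this]; rfl
    have h2 := localDim_eq (Y.residueField s) (f.fiber s) ζ _ 0 (tr_spec _ _ ζ) h0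
    rw [h2] at h1
    simpa using h1

/-- **S7624**. -/
theorem equidim_specialFibre (R : Type u) [CommRing R] [IsDomain R] [ValuationRing R]
    (X : Scheme.{u}) [IrreducibleSpace ↥X] (f : X ⟶ Spec (CommRingCat.of R))
    [LocallyOfFiniteType f] [Surjective f]
    (Z : Set ↥(f.fiber (IsLocalRing.closedPoint R)))
    (hZ : Z ∈ irreducibleComponents ↥(f.fiber (IsLocalRing.closedPoint R))) :
    topologicalKrullDim ↥Z =
      topologicalKrullDim ↥(f.fiber (⟨⊥, Ideal.bot_prime⟩ : PrimeSpectrum R)) := by
  obtain ⟨hdom, hval⟩ := ValStalk.stalk_valuation' R (IsLocalRing.closedPoint R)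
  haveI := hdom
  haveI := hval
  rw [dim_component_fiber f (IsLocalRing.closedPoint R) Z hZ]
  apply dim_fiber_congr
  obtain ⟨a, ha⟩ := f.surjective (⟨⊥, Ideal.bot_prime⟩ : PrimeSpectrum R)
  have h1 : f.base (genericPoint X) ⤳ f.base a :=
    (genericPoint_specializes a).map f.continuous
  rw [ha] at h1
  have h2 : (f.base (genericPoint X) : PrimeSpectrum R).asIdeal ≤ ⊥ :=
    (PrimeSpectrum.le_iff_specializes (f.base (genericPoint X) : PrimeSpectrum R)
      ⟨⊥, Ideal.bot_prime⟩).mpr h1
  exact PrimeSpectrum.ext (le_bot_iff.mp h2)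

end Groth.Agent.Lib.Helper12.ValEquidim
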