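import Mathlib
import Groth.Prelude.Def_Flat
import Groth.Agent.Lib.Helper12.EquidimBC
import Groth.Agent.Lib.Helper12.ValEquidim
import Groth.Agent.Lib.Helper12.FibreDimsConstr
import Groth.Agent.Lib.Helper12.EquidimOpen
import Groth.Agent.Lib.Helper12.FlatClosureDVR
import Groth.Agent.Lib.Helper12.FibreMax

/-!
# Helper library (helper12): the flat closure over a DVR is universally equidimensional
-/

set_option autoImplicit false
universe u
open AlgebraicGeometry CategoryTheory Limits TopologicalSpace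

namespace Groth.Agent.Lib.Helper12.FlatClosEq

open Groth.Agent.Lib.Helper12 Groth.Agent.Lib.Helper12.SchemeDimFT
  Groth.Agent.Lib.Helper12.ChevalleyCor Groth.Agent.Lib.Helper12.SchemeDimIneq
  Groth.Agent.Lib.Helper12.ClosedSub Groth.Agent.Lib.Helper12.BaseChange
  Groth.Agent.Lib.Helper12.FibreMax Groth.Agent.Lib.Helper12.EquidimOpen
  Groth.Agent.Lib.Helper12.FibreDimConstr Groth.Agent.Lib.Helper12.FlatClosureDVR

section Pure

variable {X Y : Scheme.{u}} (f : X ⟶ Y)

/-- a point which is maximal in its fibre -/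
def FibMax (ζ : X) : Prop := ∀ z' : X, f z' = f ζ → z' ⤳ ζ → z' = ζ

/-- all fibres have pure dimension `r`, expressed via residue transcendence degrees -/
def PureFib (r : ℕ) : Prop := ∀ ζ : X, FibMax f ζ → trn f ζ = (r : ℕ∞)

theorem fibMax_of_isMaxPt (ξ : X) (h : IsMaxPt ξ) : FibMax f ξ := fun z' _ hz' => h z' hz'

variable [LocallyOfFiniteType f]

theorem fibreDimAt_eq_of_pureFib (r : ℕ) (h : PureFib f r) (x : X) :
    FlatMor.fibreDimAt f x = (r : WithBot ℕ∞) := by
  apply le_antisymm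
  · exact fibreDimAt_le_of_max f x r (fun z _ _ hmax => (h z hmax).le)
  · obtain ⟨z, hz1, hz2, hz3⟩ := exists_max_generization_in_fibre f x
    have h1 := trn_le_fibreDimAt_of_specializes f x z hz1 hz2
    rw [h z hz3] at h1
    exact h1

theorem pureFib_snd {Y' : Scheme.{u}} (g : Y' ⟶ Y) (r : ℕ) (h : PureFib f r) :
    PureFib (pullback.snd f g) r := by
  intro ζ' hmax
  obtain ⟨h1, h2⟩ := max_fibre_pullback f g ζ' hmax
  rw [h2]
  exact h _ h1

end Pure

section Comp

variable {X Y : Scheme.{u}} (f : X ⟶ Y)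

theorem isMaxPt_of_closure_mem {T : Type*} [TopologicalSpace T] [T0Space T] (t : T)
    (h : closure {t} ∈ irreducibleComponents T) : ∀ s : T, s ⤳ t → s = t := by
  intro s hs
  have h1 : closure ({t} : Set T) ⊆ closure {s} := specializes_iff_closure_subset.mp hs
  have h2 : closure ({s} : Set T) ⊆ closure {t} :=
    h.2 (isIrreducible_singleton.closure) h1
  have h3 : t ⤳ s := specializes_iff_closure_subset.mpr h2
  exact (hs.antisymm h3).eq

/-- A flat morphism maps irreducible components onto dense subsets of irreducible components. -/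
theorem closure_image_mem_irreducibleComponents [Flat f] (C : Set X)
    (hC : C ∈ irreducibleComponents X) :
    closure (f '' C) ∈ irreducibleComponents Y := by
  obtain ⟨ξ, hξ, rfl⟩ := (SchemeDimFT.mem_irreducibleComponents_iff C).mp hC
  have hgen : GeneralizingMap f := Flat.generalizingMap f
  have h1 : IsMaxPt (f ξ) := by
    intro t ht
    obtain ⟨t', ht', rfl⟩ := hgen ht
    rw [hξ t' ht']
  have h2 : closure (f '' closure {ξ}) = closure {f ξ} := by
    apply subset_antisymm
    · apply closure_minimal _ isClosed_closure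
      have := image_closure_subset_closure_image (s := {ξ}) f.continuous
      rwa [Set.image_singleton] at this
    · apply closure_mono
      rw [Set.singleton_subset_iff]
      exact ⟨ξ, subset_closure rfl, rfl⟩
  rw [h2]
  exact (SchemeDimFT.mem_irreducibleComponents_iff _).mpr ⟨f ξ, h1, rfl⟩

end Comp

section FlatImage

set_option backward.isDefEq.respectTransparency false in
/-- Over a DVR, the scheme-theoretic image of a quasi-compact morphism landing in the generic
fibre is flat. -/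
theorem flat_image' {R : Type u} [CommRing R] [IsDomain R] [IsDiscreteValuationRing R]
    {V W : Scheme.{u}} (g : W ⟶ Spec (CommRingCat.of R)) (ϖ : R) (hϖ : Irreducible ϖ)
    (j : V ⟶ W) [QuasiCompact j]
    (hj : (j ≫ g) ⁻¹ᵁ ((Spec (CommRingCat.of R)).basicOpen
      ((Scheme.ΓSpecIso (CommRingCat.of R)).inv.hom ϖ)) = ⊤) :
    Flat (j.imageι ≫ g) := by
  let 𝒰 : W.affineOpens → j.image.affineOpens :=
    fun A => ⟨j.imageι ⁻¹ᵁ A.1, A.2.preimage j.imageι⟩
  have h𝒰 : ⨆ A, (𝒰 A : j.image.Opens) = ⊤ := by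
    have h1 := iSup_affineOpens_eq_top W
    have h2 : (⨆ A, (𝒰 A : j.image.Opens)) =
        j.imageι ⁻¹ᵁ (⨆ A : W.affineOpens, (A : W.Opens)) := by
      rw [Scheme.Hom.preimage_iSup]
    rw [h2, h1]
    rfl
  refine HasRingHomProperty.of_iSup_eq_top (P := @Flat) 𝒰 h𝒰 fun A => ?_
  show RingHom.Flat ((j.imageι ≫ g).appLE ⊤ (j.imageι ⁻¹ᵁ A.1) le_top).hom
  rw [← RingHom.Flat.respectsIso.cancel_left_isIso (Scheme.ΓSpecIso (CommRingCat.of R)).inv]
  rw [← CommRingCat.hom_comp]
  refine flat_of_injective_of_isUnit (R := R) ϖ hϖ _ (j.toImage.app (j.imageι ⁻¹ᵁ A.1)).hom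
    (j.toImage_app_injective A) ?_
  have hk : (j.toImage ≫ j.imageι ≫ g) ⁻¹ᵁ ((Spec (CommRingCat.of R)).basicOpen
      ((Scheme.ΓSpecIso (CommRingCat.of R)).inv.hom ϖ)) = ⊤ := by
    rw [← Category.assoc, j.toImage_imageι]
    exact hj
  have h3 := isUnit_appLE (j.toImage ≫ j.imageι ≫ g)
    ((Scheme.ΓSpecIso (CommRingCat.of R)).inv.hom ϖ) hk (j.toImage ⁻¹ᵁ (j.imageι ⁻¹ᵁ A.1))
  have h4 : (j.toImage ≫ j.imageι ≫ g).appLE ⊤ (j.toImage ⁻¹ᵁ j.imageι ⁻¹ᵁ A.1) le_top =
      (j.imageι ≫ g).appLE ⊤ (j.imageι ⁻¹ᵁ A.1) le_top ≫ j.toImage.app (j.imageι ⁻¹ᵁ A.1) := by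
    rw [Scheme.Hom.app_eq_appLE, Scheme.Hom.appLE_comp_appLE]
  rw [h4] at h3
  exact h3

end FlatImage

end Groth.Agent.Lib.Helper12.FlatClosEq
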