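import Mathlib
import Groth.Agent.Lib.Helper12.FlatClosEq1

/-!
# Helper library (helper12): the flat closure over a DVR is universally equidimensional, II
-/

set_option autoImplicit false
universe u
open AlgebraicGeometry CategoryTheory Limits TopologicalSpace

namespace Groth.Agent.Lib.Helper12.FlatClosEq

open Groth.Agent.Lib.Helper12 Groth.Agent.Lib.Helper12.SchemeDimFT
  Groth.Agent.Lib.Helper12.ChevalleyCor Groth.Agent.Lib.Helper12.SchemeDimIneq
  Groth.Agent.Lib.Helper12.ClosedSub Groth.Agent.Lib.Helper12.BaseChange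
  Groth.Agent.Lib.Helper12.FibreMax Groth.Agent.Lib.Helper12.EquidimOpen
  Groth.Agent.Lib.Helper12.FibreDimConstr Groth.Agent.Lib.Helper12.FlatClosureDVR

section Main

variable {R : Type u} [CommRing R] [IsDomain R] [IsDiscreteValuationRing R]

theorem flat_and_pureFib_image {V W : Scheme.{u}} (π : W ⟶ Spec (CommRingCat.of R))
    [LocallyOfFiniteType π] (j : V ⟶ W) [QuasiCompact j]
    (hj : Set.range j = π ⁻¹' {(⟨⊥, Ideal.isPrime_bot⟩ : PrimeSpectrum R)})
    (r : ℕ)
    (H : ∀ w : W, π w = (⟨⊥, Ideal.isPrime_bot⟩ : PrimeSpectrum R) → FibMax π w →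
      trn π w = (r : ℕ∞)) :
    Flat (j.imageι ≫ π) ∧ PureFib (j.imageι ≫ π) r := by
  obtain ⟨ϖ, hϖ⟩ := IsDiscreteValuationRing.exists_irreducible R
  have hj' : (j ≫ π) ⁻¹ᵁ ((Spec (CommRingCat.of R)).basicOpen
      ((Scheme.ΓSpecIso (CommRingCat.of R)).inv.hom ϖ)) = ⊤ := by
    rw [eq_top_iff]
    intro v _
    have h1 : v ∈ genOpen (j ≫ π) ϖ := by
      rw [mem_genOpen_iff]
      have hv : π (j v) = (⟨⊥, Ideal.isPrime_bot⟩ : PrimeSpectrum R) := by
        have : j v ∈ Set.range j := ⟨v, rfl⟩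
        rw [hj] at this
        exact this
      rw [Scheme.Hom.comp_apply, hv]
      exact hϖ.ne_zero
    exact h1
  have hflat : Flat (j.imageι ≫ π) := flat_image' π ϖ hϖ j hj'
  refine ⟨hflat, ?_⟩
  set q := j.imageι ≫ π with hq
  have hgen : ∀ ζ : j.image, q ζ = (⟨⊥, Ideal.isPrime_bot⟩ : PrimeSpectrum R) → FibMax q ζ →
      trn q ζ = (r : ℕ∞) := by
    intro ζ hη hmax
    have h1 : trn q ζ = trn π (j.imageι ζ) := trn_comp_preimmersion j.imageι π ζ
    rw [h1]
    apply H
    · exact hη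
    · intro w' hw' hsp
      have hw'η : π w' = (⟨⊥, Ideal.isPrime_bot⟩ : PrimeSpectrum R) := hw'.trans hη
      have hmem : w' ∈ Set.range j := by rw [hj]; exact hw'η
      obtain ⟨v, rfl⟩ := hmem
      have h2 : j.imageι (j.toImage v) = j v := by
        rw [← Scheme.Hom.comp_apply, j.toImage_imageι]
      have h3 : j.toImage v ⤳ ζ := by
        apply j.imageι.isEmbedding.isInducing.specializes_iff.mp
        rw [h2]; exact hsp
      have h4 := hmax (j.toImage v)
        (by show π (j.imageι (j.toImage v)) = π (j.imageι ζ); rw [h2]; exact hw') h3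
      rw [← h2, h4]
  intro ζ hζ
  by_cases hη : q ζ = (⟨⊥, Ideal.isPrime_bot⟩ : PrimeSpectrum R)
  · exact hgen ζ hη hζ
  · obtain ⟨ξ, hξmax, hξsp⟩ := SchemeDimFT.exists_isMaxPt_specializes ζ
    have hqξ : q ξ = (⟨⊥, Ideal.isPrime_bot⟩ : PrimeSpectrum R) := by
      have hgenmap : GeneralizingMap q := Flat.generalizingMap q
      have h1 : (⟨⊥, Ideal.isPrime_bot⟩ : PrimeSpectrum R) ⤳ (q ξ : PrimeSpectrum R) :=
        (PrimeSpectrum.le_iff_specializes _ _).mp (bot_le (a := (q ξ : PrimeSpectrum R).asIdeal))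
      obtain ⟨ξ', hξ', h2⟩ := hgenmap h1
      rw [hξmax ξ' hξ'] at h2
      exact h2
    have hrξ : trn q ξ = (r : ℕ∞) := hgen ξ hqξ (fibMax_of_isMaxPt q ξ hξmax)
    apply le_antisymm
    · obtain ⟨hdom, hval⟩ := ValStalk.stalk_valuation' R (q ζ)
      haveI := hdom
      haveI := hval
      have := ValDim.trn_le_of_valuationRing_stalk q ζ ξ hξsp
      rw [hrξ] at this
      exact this
    · obtain ⟨ζC, hζC⟩ := exists_clSubι_eq j.image ξ ζ hξsp
      have hgp : clSubι j.image ξ (genericPoint (clSub j.image ξ)) = ξ :=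
        clSubι_genericPoint j.image ξ
      have h1 := dim_generic_fiber_le_fibreDimAt (clSubι j.image ξ ≫ q) ζC
      rw [dim_generic_fiber_eq_trn (clSubι j.image ξ ≫ q),
        trn_comp_preimmersion (clSubι j.image ξ) q, hgp, hrξ] at h1
      have hmaxC : ∀ z' : clSub j.image ξ, (clSubι j.image ξ ≫ q) z' = (clSubι j.image ξ ≫ q) ζC →
          z' ⤳ ζC → z' = ζC := by
        intro z' hz' hsp
        have h5 := hζ (clSubι j.image ξ z') (by rw [← hζC]; exact hz')
          (by rw [← hζC]; exact hsp.map (clSubι j.image ξ).continuous)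
        exact (clSubι j.image ξ).isEmbedding.injective (h5.trans hζC.symm)
      rw [fibreDimAt_eq_trn_of_max (clSubι j.image ξ ≫ q) ζC hmaxC,
        trn_comp_preimmersion (clSubι j.image ξ) q, hζC] at h1
      exact_mod_cast h1

end Main

end Groth.Agent.Lib.Helper12.FlatClosEq
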