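import Mathlib
import Groth.Agent.Lib.Helper12.FlatClosEq2

/-!
# Helper library (helper12): the flat closure over a DVR is universally equidimensional, III
-/

set_option autoImplicit false
universe u
open AlgebraicGeometry CategoryTheory Limits TopologicalSpace

namespace Groth.Agent.Lib.Helper12.FlatClosEq

open Groth.Agent.Lib.Helper12 Groth.Agent.Lib.Helper12.SchemeDimFT
  Groth.Agent.Lib.Helper12.ChevalleyCor Groth.Agent.Lib.Helper12.SchemeDimIneq
  Groth.Agent.Lib.Helper12.ClosedSub Groth.Agent.Lib.Helper12.BaseChange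
  Groth.Agent.Lib.Helper12.FibreMax Groth.Agent.Lib.Helper12.EquidimOpen
  Groth.Agent.Lib.Helper12.FibreDimConstr Groth.Agent.Lib.Helper12.FlatClosureDVR

section General

variable {R : Type u} [CommRing R] [IsDomain R] [IsDiscreteValuationRing R]

theorem main_general {V W : Scheme.{u}} (π : W ⟶ Spec (CommRingCat.of R))
    [LocallyOfFiniteType π] (j : V ⟶ W) [QuasiCompact j]
    (hj : Set.range j = π ⁻¹' {(⟨⊥, Ideal.isPrime_bot⟩ : PrimeSpectrum R)})
    (r : ℕ)
    (H : ∀ w : W, π w = (⟨⊥, Ideal.isPrime_bot⟩ : PrimeSpectrum R) → FibMax π w →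
      trn π w = (r : ℕ∞))
    (S' : Scheme.{u}) (g : S' ⟶ Spec (CommRingCat.of R)) :
    (∀ w : ↥(pullback (j.imageι ≫ π) g),
        FlatMor.fibreDimAt (pullback.snd (j.imageι ≫ π) g) w = r) ∧
      ∀ C ∈ irreducibleComponents ↥(pullback (j.imageι ≫ π) g),
        closure ((pullback.snd (j.imageι ≫ π) g).base '' C) ∈ irreducibleComponents ↥S' := by
  obtain ⟨hflat, hpure⟩ := flat_and_pureFib_image π j hj r H
  haveI := hflat
  haveI : LocallyOfFiniteType (j.imageι ≫ π) := inferInstance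
  haveI : LocallyOfFiniteType (pullback.snd (j.imageι ≫ π) g) :=
    MorphismProperty.pullback_snd (P := @LocallyOfFiniteType) _ _ inferInstance
  haveI : Flat (pullback.snd (j.imageι ≫ π) g) :=
    MorphismProperty.pullback_snd (P := @Flat) _ _ inferInstance
  exact ⟨fun w => fibreDimAt_eq_of_pureFib _ r (pureFib_snd _ g r hpure) w,
    fun C hC => closure_image_mem_irreducibleComponents _ C hC⟩

theorem trn_eq_of_dim_closure {X S : Scheme.{u}} (p : X ⟶ S) [LocallyOfFiniteType p] (z : X)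
    (r : ℕ)
    (hr : topologicalKrullDim ↥(closure ({p.asFiber z} : Set ↥(p.fiber (p.base z)))) = r) :
    trn p z = (r : ℕ∞) := by
  letI ovF : (p.fiber (p z)).Over (Spec (CommRingCat.of (S.residueField (p z)))) :=
    ⟨p.fiberToSpecResidueField (p z)⟩
  haveI : LocallyOfFiniteType
      ((p.fiber (p z)) ↘ Spec (CommRingCat.of (S.residueField (p z)))) :=
    FibreRes.locallyOfFiniteType_fiberToSpecResidueField p (p z)
  have h1 := topologicalKrullDim_closure_singleton (S.residueField (p z)) (p.fiber (p z))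
    (p.asFiber z)
  rw [hr] at h1
  rw [trn_eq_tr p z]
  have h2 : r = tr (S.residueField (p z)) (p.fiber (p z)) (p.asFiber z) := by
    exact_mod_cast h1
  rw [← h2]

theorem concrete_H {X S Z : Scheme.{u}} (p : X ⟶ S) [LocallyOfFiniteType p] (z : X) (r : ℕ)
    (hr : topologicalKrullDim ↥(closure ({p.asFiber z} : Set ↥(p.fiber (p.base z)))) = r)
    (ι : Z ⟶ X) [IsClosedImmersion ι] (hZ : Set.range ι.base = closure {z})
    (x : Spec (CommRingCat.of R) ⟶ S)
    (hx : closure {x.base ⟨⊥, Ideal.isPrime_bot⟩} ∈ irreducibleComponents ↥S)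
    (w : ↥(pullback (ι ≫ p) x))
    (hw : pullback.snd (ι ≫ p) x w = (⟨⊥, Ideal.isPrime_bot⟩ : PrimeSpectrum R))
    (hmax : FibMax (pullback.snd (ι ≫ p) x) w) :
    trn (pullback.snd (ι ≫ p) x) w = (r : ℕ∞) := by
  haveI : LocallyOfFiniteType (ι ≫ p) := inferInstance
  obtain ⟨h1, h2⟩ := max_fibre_pullback (ι ≫ p) x w hmax
  rw [h2]
  obtain ⟨z₀, hz₀⟩ : ∃ z₀ : Z, ι z₀ = z := by
    have : z ∈ Set.range ι.base := by rw [hZ]; exact subset_closure rfl
    exact this
  have hsp : z₀ ⤳ pullback.fst (ι ≫ p) x w := by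
    apply ι.isEmbedding.isInducing.specializes_iff.mp
    rw [hz₀, specializes_iff_mem_closure, ← hZ]
    exact ⟨_, rfl⟩
  have hcond : (ι ≫ p) (pullback.fst (ι ≫ p) x w) = x (pullback.snd (ι ≫ p) x w) := by
    rw [← Scheme.Hom.comp_apply, ← Scheme.Hom.comp_apply, pullback.condition]
  have hz₁ : (ι ≫ p) (pullback.fst (ι ≫ p) x w) =
      x (⟨⊥, Ideal.isPrime_bot⟩ : PrimeSpectrum R) := by
    rw [hcond, hw]
  have h3 : (ι ≫ p) z₀ = (ι ≫ p) (pullback.fst (ι ≫ p) x w) := by
    have h4 := hsp.map (ι ≫ p).continuous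
    rw [hz₁] at h4 ⊢
    exact isMaxPt_of_closure_mem _ hx _ h4
  have h4 : z₀ = pullback.fst (ι ≫ p) x w := h1 z₀ h3 hsp
  rw [← h4, trn_comp_preimmersion ι p z₀, hz₀]
  exact trn_eq_of_dim_closure p z r hr

end General

end Groth.Agent.Lib.Helper12.FlatClosEq
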