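import Mathlib
import Groth.Agent.Lib.Helper12.FlatClosEq3

/-!
# Helper library (helper12): the flat closure over a DVR is universally equidimensional, IV
-/

set_option autoImplicit false
universe u
open AlgebraicGeometry CategoryTheory Limits TopologicalSpace

namespace Groth.Agent.Lib.Helper12.FlatClosEq

open Groth.Agent.Lib.Helper12 Groth.Agent.Lib.Helper12.SchemeDimFT
  Groth.Agent.Lib.Helper12.SchemeDimIneq

section Final

variable (R : Type u) [CommRing R] [IsDomain R] [IsDiscreteValuationRing R]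

theorem range_SpecMap_fractionRing :
    Set.range (Spec.map (CommRingCat.ofHom (algebraMap R (FractionRing R)))) =
      {(⟨⊥, Ideal.isPrime_bot⟩ : PrimeSpectrum R)} := by
  have key : ∀ y : PrimeSpectrum (FractionRing R),
      Ideal.comap (algebraMap R (FractionRing R)) y.asIdeal = ⊥ := by
    intro y
    have h1 : y.asIdeal = ⊥ := (Ideal.eq_bot_or_top y.asIdeal).resolve_right y.2.ne_top
    rw [h1, ← RingHom.ker_eq_comap_bot]
    exact (RingHom.injective_iff_ker_eq_bot _).mp (IsFractionRing.injective R (FractionRing R))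
  ext t
  simp only [Set.mem_range, Set.mem_singleton_iff]
  constructor
  · rintro ⟨y, rfl⟩
    exact PrimeSpectrum.ext (key y)
  · rintro rfl
    exact ⟨(⟨⊥, Ideal.isPrime_bot⟩ : PrimeSpectrum (FractionRing R)), PrimeSpectrum.ext (key _)⟩

variable {R}

theorem main {X S Z : Scheme.{u}} (p : X ⟶ S) [LocallyOfFiniteType p] (z : X) (r : ℕ)
    (hr : topologicalKrullDim ↥(closure ({p.asFiber z} : Set ↥(p.fiber (p.base z)))) = r)
    (ι : Z ⟶ X) [IsClosedImmersion ι] (hZ : Set.range ι.base = closure {z})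
    (x : Spec (CommRingCat.of R) ⟶ S)
    (hx : closure {x.base ⟨⊥, Ideal.isPrime_bot⟩} ∈ irreducibleComponents ↥S)
    (S' : Scheme.{u}) (g : S' ⟶ Spec (CommRingCat.of R)) :
    (∀ w : ↥(pullback ((pullback.map (ι ≫ p) (Spec.map (CommRingCat.ofHom (algebraMap R (FractionRing R))) ≫ x) (ι ≫ p) x (𝟙 Z) (Spec.map (CommRingCat.ofHom (algebraMap R (FractionRing R)))) (𝟙 S) ((Category.comp_id _).trans (Category.id_comp _).symm) (Category.comp_id _)).ker.subschemeι ≫ pullback.snd (ι ≫ p) x) g),
        FlatMor.fibreDimAt (pullback.snd ((pullback.map (ι ≫ p) (Spec.map (CommRingCat.ofHom (algebraMap R (FractionRing R))) ≫ x) (ι ≫ p) x (𝟙 Z) (Spec.map (CommRingCat.ofHom (algebraMap R (FractionRing R)))) (𝟙 S) ((Category.comp_id _).trans (Category.id_comp _).symm) (Category.comp_id _)).ker.subschemeι ≫ pullback.snd (ι ≫ p) x) g) w = r) ∧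
      ∀ C ∈ irreducibleComponents ↥(pullback ((pullback.map (ι ≫ p) (Spec.map (CommRingCat.ofHom (algebraMap R (FractionRing R))) ≫ x) (ι ≫ p) x (𝟙 Z) (Spec.map (CommRingCat.ofHom (algebraMap R (FractionRing R)))) (𝟙 S) ((Category.comp_id _).trans (Category.id_comp _).symm) (Category.comp_id _)).ker.subschemeι ≫ pullback.snd (ι ≫ p) x) g),
        closure ((pullback.snd ((pullback.map (ι ≫ p) (Spec.map (CommRingCat.ofHom (algebraMap R (FractionRing R))) ≫ x) (ι ≫ p) x (𝟙 Z) (Spec.map (CommRingCat.ofHom (algebraMap R (FractionRing R)))) (𝟙 S) ((Category.comp_id _).trans (Category.id_comp _).symm) (Category.comp_id _)).ker.subschemeι ≫ pullback.snd (ι ≫ p) x) g).base '' C) ∈ irreducibleComponents ↥S' := by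
  set φK := Spec.map (CommRingCat.ofHom (algebraMap R (FractionRing R))) with hφK
  set j := pullback.map (ι ≫ p) (φK ≫ x) (ι ≫ p) x (𝟙 Z) φK (𝟙 S)
    ((Category.comp_id _).trans (Category.id_comp _).symm) (Category.comp_id _) with hjdef
  haveI : LocallyOfFiniteType (ι ≫ p) := inferInstance
  haveI : LocallyOfFiniteType (pullback.snd (ι ≫ p) x) :=
    MorphismProperty.pullback_snd (P := @LocallyOfFiniteType) _ _ inferInstance
  have hbig : IsPullback (pullback.fst (ι ≫ p) (φK ≫ x)) (pullback.snd (ι ≫ p) (φK ≫ x))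
      (ι ≫ p) (φK ≫ x) := IsPullback.of_hasPullback _ _
  have hW : IsPullback (pullback.fst (ι ≫ p) x) (pullback.snd (ι ≫ p) x) (ι ≫ p) x :=
    IsPullback.of_hasPullback _ _
  have hjfst : j ≫ pullback.fst (ι ≫ p) x = pullback.fst (ι ≫ p) (φK ≫ x) := by
    rw [hjdef, pullback.lift_fst, Category.comp_id]
  have hjsnd : j ≫ pullback.snd (ι ≫ p) x = pullback.snd (ι ≫ p) (φK ≫ x) ≫ φK := by
    rw [hjdef, pullback.lift_snd]
  have hleft : IsPullback j (pullback.snd (ι ≫ p) (φK ≫ x)) (pullback.snd (ι ≫ p) x) φK :=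
    IsPullback.of_right (by rw [hjfst]; exact hbig) hjsnd hW
  haveI : QuasiCompact φK := by rw [hφK]; infer_instance
  haveI : QuasiCompact j :=
    MorphismProperty.of_isPullback (P := @QuasiCompact) hleft.flip inferInstance
  have hj : Set.range j = pullback.snd (ι ≫ p) x ⁻¹' {(⟨⊥, Ideal.isPrime_bot⟩ : PrimeSpectrum R)} := by
    rw [hjdef, Scheme.Pullback.range_map, ← range_SpecMap_fractionRing R]
    have : Set.range (𝟙 Z : Z ⟶ Z) = Set.univ := by
      ext t; simp
    rw [this, Set.preimage_univ, Set.univ_inter]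
  exact main_general (pullback.snd (ι ≫ p) x) j hj r
    (fun w hw hmax => concrete_H p z r hr ι hZ x hx w hw hmax) S' g

end Final

end Groth.Agent.Lib.Helper12.FlatClosEq
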