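import Mathlib
import Groth.Agent.Lib.Helper12.FlatClosEq2
import Groth.Agent.Lib.Helper12.DvrCurve

/-!
# Helper library (helper12): flat morphisms of finite type over a Noetherian base with
equidimensional generic fibres are universally equidimensional
-/

set_option autoImplicit false
universe u
open AlgebraicGeometry CategoryTheory Limits TopologicalSpace

namespace Groth.Agent.Lib.Helper12.FlatClosEq

open Groth.Agent.Lib.Helper12 Groth.Agent.Lib.Helper12.SchemeDimFT
  Groth.Agent.Lib.Helper12.ChevalleyCor Groth.Agent.Lib.Helper12.SchemeDimIneq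
  Groth.Agent.Lib.Helper12.ClosedSub Groth.Agent.Lib.Helper12.BaseChange
  Groth.Agent.Lib.Helper12.FibreMax Groth.Agent.Lib.Helper12.EquidimOpen
  Groth.Agent.Lib.Helper12.FibreDimConstr Groth.Agent.Lib.Helper12.FlatClosureDVR

section DVR

variable {R : Type u} [CommRing R] [IsDomain R] [IsDiscreteValuationRing R]

/-- A flat morphism locally of finite type to the spectrum of a DVR whose generic fibre has pure
dimension `r` has all fibres of pure dimension `r`. -/
theorem pureFib_of_flat_dvr {Y : Scheme.{u}} (q : Y ⟶ Spec (CommRingCat.of R))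
    [LocallyOfFiniteType q] [Flat q] (r : ℕ)
    (hgen : ∀ ζ : Y, q ζ = (⟨⊥, Ideal.isPrime_bot⟩ : PrimeSpectrum R) → FibMax q ζ →
      trn q ζ = (r : ℕ∞)) : PureFib q r := by
  intro ζ hζ
  by_cases hη : q ζ = (⟨⊥, Ideal.isPrime_bot⟩ : PrimeSpectrum R)
  · exact hgen ζ hη hζ
  · obtain ⟨ξ, hξmax, hξsp⟩ := SchemeDimFT.exists_isMaxPt_specializes ζ
    have hqξ : q ξ = (⟨⊥, Ideal.isPrime_bot⟩ : PrimeSpectrum R) := by
      have hgenmap : GeneralizingMap q := Flat.generalizingMap q
      have h1 : (⟨⊥, Ideal.isPrime_bot⟩ : PrimeSpectrum R) ⤳ (q ξ : PrimeSpectrum R) :=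
        (PrimeSpectrum.le_iff_specializes _ _).mp (bot_le (a := (q ξ : PrimeSpectrum R).asIdeal))
      obtain ⟨ξ', hξ', h2⟩ := hgenmap h1
      rw [hξmax ξ' hξ'] at h2
      exact h2
    have hrξ : trn q ξ = (r : ℕ∞) := hgen ξ hqξ (fibMax_of_isMaxPt q ξ hξmax)
    apply le_antisymm
    · obtain ⟨hdom, hval⟩ := ValStalk.stalk_valuation' R (q ζ)
      haveI := hdom
      haveI := hval
      have := ValDim.trn_le_of_valuationRing_stalk q ζ ξ hξsp
      rw [hrξ] at this
      exact this
    · obtain ⟨ζC, hζC⟩ := exists_clSubι_eq Y ξ ζ hξsp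
      have hgp : clSubι Y ξ (genericPoint (clSub Y ξ)) = ξ :=
        clSubι_genericPoint Y ξ
      have h1 := dim_generic_fiber_le_fibreDimAt (clSubι Y ξ ≫ q) ζC
      rw [dim_generic_fiber_eq_trn (clSubι Y ξ ≫ q),
        trn_comp_preimmersion (clSubι Y ξ) q, hgp, hrξ] at h1
      have hmaxC : ∀ z' : clSub Y ξ, (clSubι Y ξ ≫ q) z' = (clSubι Y ξ ≫ q) ζC →
          z' ⤳ ζC → z' = ζC := by
        intro z' hz' hsp
        have h5 := hζ (clSubι Y ξ z') (by rw [← hζC]; exact hz')
          (by rw [← hζC]; exact hsp.map (clSubι Y ξ).continuous)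
        exact (clSubι Y ξ).isEmbedding.injective (h5.trans hζC.symm)
      rw [fibreDimAt_eq_trn_of_max (clSubι Y ξ ≫ q) ζC hmaxC,
        trn_comp_preimmersion (clSubι Y ξ) q, hζC] at h1
      exact_mod_cast h1

end DVR

section Noeth

variable {T S' : Scheme.{u}} (h : T ⟶ S') [LocallyOfFiniteType h] [Flat h]

/-- A flat morphism locally of finite type to a locally Noetherian scheme whose fibres over
maximal points have pure dimension `r` has all fibres of pure dimension `r`. -/
theorem pureFib_of_flat_noeth [IsLocallyNoetherian S'] (r : ℕ)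
    (Hgen : ∀ ζ : T, IsMaxPt (h ζ) → FibMax h ζ → trn h ζ = (r : ℕ∞)) : PureFib h r := by
  intro ζ hζ
  obtain ⟨ξ, hξmax, hξsp⟩ := SchemeDimFT.exists_isMaxPt_specializes ζ
  have hgenmap : GeneralizingMap h := Flat.generalizingMap h
  have hη' : IsMaxPt (h ξ) := by
    intro t ht
    obtain ⟨t', ht', rfl⟩ := hgenmap ht
    rw [hξmax t' ht']
  have hsp' : h ξ ⤳ h ζ := hξsp.map h.continuous
  by_cases hne : h ξ = h ζ
  · exact Hgen ζ (hne ▸ hη') hζ
  · obtain ⟨R, i1, i2, i3, γ, hγ1, hγ2⟩ := DvrCurve.exists_dvr_scheme (h ζ) (h ξ) hsp' hne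
    haveI : LocallyOfFiniteType (pullback.snd h γ) :=
      MorphismProperty.pullback_snd (P := @LocallyOfFiniteType) _ _ inferInstance
    haveI : Flat (pullback.snd h γ) :=
      MorphismProperty.pullback_snd (P := @Flat) _ _ inferInstance
    have hcond : ∀ t : ↥(pullback h γ), h (pullback.fst h γ t) = γ (pullback.snd h γ t) := by
      intro t
      rw [← Scheme.Hom.comp_apply, ← Scheme.Hom.comp_apply, pullback.condition]
    have hpure : PureFib (pullback.snd h γ) r := by
      apply pureFib_of_flat_dvr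
      intro ζ' hζ' hmax
      obtain ⟨h1, h2⟩ := max_fibre_pullback h γ ζ' hmax
      rw [h2]
      apply Hgen _ _ h1
      rw [hcond, hζ', hγ2]
      exact hη'
    obtain ⟨ζR', hζR'1, hζR'2⟩ := Scheme.Pullback.exists_preimage_pullback (f := h) (g := γ) ζ
      (IsLocalRing.closedPoint R : PrimeSpectrum R) hγ1.symm
    obtain ⟨ζR, hζR1, hζR2, hζR3⟩ := exists_max_generization_in_fibre (pullback.snd h γ) ζR'
    have h3 : pullback.fst h γ ζR ⤳ ζ := by
      have := hζR2.map (pullback.fst h γ).continuous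
      rwa [hζR'1] at this
    have h4 : h (pullback.fst h γ ζR) = h ζ := by
      rw [hcond, hζR1, ← hcond, hζR'1]
    have h5 : pullback.fst h γ ζR = ζ := hζ _ h4 h3
    obtain ⟨-, h6⟩ := max_fibre_pullback h γ ζR hζR3
    rw [← h5, ← h6]
    exact hpure ζR hζR3

/-- The conclusion in the format of the milestone statements. -/
theorem univ_equidim_of_pureFib (r : ℕ) (hpure : PureFib h r) (S'' : Scheme.{u})
    (g : S'' ⟶ S') :
    (∀ w : ↥(pullback h g), FlatMor.fibreDimAt (pullback.snd h g) w = r) ∧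
      ∀ C ∈ irreducibleComponents ↥(pullback h g),
        closure ((pullback.snd h g).base '' C) ∈ irreducibleComponents ↥S'' := by
  haveI : LocallyOfFiniteType (pullback.snd h g) :=
    MorphismProperty.pullback_snd (P := @LocallyOfFiniteType) _ _ inferInstance
  haveI : Flat (pullback.snd h g) :=
    MorphismProperty.pullback_snd (P := @Flat) _ _ inferInstance
  exact ⟨fun w => fibreDimAt_eq_of_pureFib _ r (pureFib_snd _ g r hpure) w,
    fun C hC => closure_image_mem_irreducibleComponents _ C hC⟩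

end Noeth

end Groth.Agent.Lib.Helper12.FlatClosEq
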