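import Mathlib
import Groth.Prelude.Def_BlowUp2
import Groth.Prelude.Def_Coh
import Groth.Agent.Lib.Helper12.FlatClosEq5

/-!
# Helper library (helper12): blow-ups and strict transforms, topological facts
-/

set_option autoImplicit false
universe u
open AlgebraicGeometry CategoryTheory Limits TopologicalSpace

namespace Groth.Agent.Lib.Helper12.FlatClosEq

open Groth.Agent.Lib.Helper12 Groth.Agent.Lib.Helper12.SchemeDimFT
  Groth.Agent.Lib.Helper12.SchemeDimIneq Groth.Agent.Lib.Helper12.ClosedSub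
  Groth.Agent.Lib.Helper12.BaseChange

section Basic

theorem mem_basicOpen_iff_notMem {Z : Scheme.{u}} {W : Z.Opens}
    (hW : IsAffineOpen W) (z : Z) (hz : z ∈ W) (r : Γ(Z, W)) :
    z ∈ Z.basicOpen r ↔ r ∉ (hW.primeIdealOf ⟨z, hz⟩).asIdeal := by
  have h : hW.fromSpec (hW.primeIdealOf ⟨z, hz⟩) ∈ Z.basicOpen r ↔
      hW.primeIdealOf ⟨z, hz⟩ ∈ hW.fromSpec ⁻¹ᵁ Z.basicOpen r := Iff.rfl
  rw [hW.fromSpec_primeIdealOf] at h
  rw [h, hW.fromSpec_preimage_basicOpen]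
  rfl

theorem primeIdealOf_mem_minimalPrimes_of_isMaxPt {Z : Scheme.{u}} {W : Z.Opens}
    (hW : IsAffineOpen W) (z : Z) (hzW : z ∈ W) (hz : IsMaxPt z) :
    (hW.primeIdealOf ⟨z, hzW⟩).asIdeal ∈ minimalPrimes Γ(Z, W) := by
  refine ⟨⟨(hW.primeIdealOf ⟨z, hzW⟩).isPrime, bot_le⟩, ?_⟩
  rintro q ⟨hq, -⟩ hle
  let q' : PrimeSpectrum Γ(Z, W) := ⟨q, hq⟩
  have hsp : q' ⤳ hW.primeIdealOf ⟨z, hzW⟩ := (PrimeSpectrum.le_iff_specializes _ _).1 hle
  have hsp' : hW.fromSpec q' ⤳ hW.fromSpec (hW.primeIdealOf ⟨z, hzW⟩) :=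
    hsp.map hW.fromSpec.continuous
  rw [hW.fromSpec_primeIdealOf] at hsp'
  have heq : hW.fromSpec q' = z := hz _ hsp'
  have h2 : q' = hW.primeIdealOf ⟨z, hzW⟩ := by
    apply hW.fromSpec.isOpenEmbedding.injective
    rw [hW.fromSpec_primeIdealOf, heq]
  rw [← h2]

/-- An effective Cartier divisor contains no maximal point. -/
theorem not_mem_support_of_isMaxPt {Y : Scheme.{u}} (𝓔 : Y.IdealSheafData)
    (h𝓔 : BlowUp.IsEffCartierIdeal 𝓔) (η : Y) (hη : IsMaxPt η) : η ∉ 𝓔.support := by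
  intro hmem
  obtain ⟨U, hηU, f, hf, hI⟩ := h𝓔 η
  rw [Scheme.IdealSheafData.mem_support_iff_of_mem hηU, Scheme.mem_zeroLocus_iff] at hmem
  have h1 : η ∉ Y.basicOpen f := hmem f (by rw [hI]; exact Ideal.mem_span_singleton_self f)
  rw [mem_basicOpen_iff_notMem U.2 η hηU f, not_not] at h1
  have hmin := primeIdealOf_mem_minimalPrimes_of_isMaxPt U.2 η hηU hη
  have hdis := Ideal.disjoint_nonZeroDivisors_of_mem_minimalPrimes hmin
  exact Set.disjoint_left.mp hdis h1 hf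

/-- If `g` misses the support of `𝓘` then the inverse image ideal is the unit ideal, hence
effective Cartier. -/
theorem isEffCartierIdeal_comap_of_disjoint {S Y : Scheme.{u}} (𝓘 : S.IdealSheafData)
    (g : Y ⟶ S) (hg : ∀ y : Y, g y ∉ 𝓘.support) : BlowUp.IsEffCartierIdeal (𝓘.comap g) := by
  have h1 : (𝓘.comap g).support = ⊥ := by
    rw [Scheme.IdealSheafData.support_comap]
    ext y
    simp only [Closeds.coe_preimage, Set.mem_preimage, SetLike.mem_coe, Closeds.coe_bot,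
      Set.mem_empty_iff_false, iff_false]
    exact hg y
  have h2 : 𝓘.comap g = ⊤ := (Scheme.IdealSheafData.support_eq_bot_iff _).mp h1
  intro y
  obtain ⟨_, ⟨U, hU, rfl⟩, hyU, -⟩ := Y.isBasis_affineOpens.exists_subset_of_mem_open
    (Set.mem_univ y) isOpen_univ
  refine ⟨⟨U, hU⟩, hyU, 1, one_mem _, ?_⟩
  rw [h2, Scheme.IdealSheafData.ideal_top]
  simp

end Basic

section BlowUp

variable {S S' : Scheme.{u}} (𝓘 : S.IdealSheafData) (b : S' ⟶ S)

/-- A blow-up maps maximal points to maximal points. -/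
theorem isMaxPt_map_of_isBlowUp (hb : BlowUp.IsBlowUp b 𝓘) (η' : S') (hη' : IsMaxPt η') :
    IsMaxPt (b η') := by
  obtain ⟨hcart, huniv⟩ := hb
  let U : S.Opens := 𝓘.support.compl
  have hmemU : ∀ s : S, s ∈ U ↔ s ∉ 𝓘.support := fun s => Iff.rfl
  have h1 : η' ∉ (𝓘.comap b).support := not_mem_support_of_isMaxPt _ hcart η' hη'
  have h2 : b η' ∈ U := by
    rw [hmemU]
    intro hmem
    apply h1
    rw [Scheme.IdealSheafData.support_comap]
    exact hmem
  -- the section over `U`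
  obtain ⟨h₁, hh₁, -⟩ := huniv U U.ι
    (isEffCartierIdeal_comap_of_disjoint 𝓘 U.ι (fun y => (hmemU _).mp y.2))
  -- uniqueness over `b ⁻¹ U`
  let V : S'.Opens := b ⁻¹ᵁ U
  have hV : ∀ v : V, (V.ι ≫ b) v ∉ 𝓘.support := by
    intro v
    rw [Scheme.Hom.comp_apply]
    exact (hmemU _).mp v.2
  obtain ⟨h₂, -, hh₂⟩ := huniv V (V.ι ≫ b) (isEffCartierIdeal_comap_of_disjoint 𝓘 _ hV)
  have e1 : V.ι = h₂ := hh₂ V.ι rfl
  have e2 : (b ∣_ U) ≫ h₁ = h₂ := hh₂ _ (by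
    show ((b ∣_ U) ≫ h₁) ≫ b = V.ι ≫ b
    rw [Category.assoc, hh₁, morphismRestrict_ι])
  have e3 : V.ι = (b ∣_ U) ≫ h₁ := e1.trans e2.symm
  intro t ht
  have htU : t ∈ U := ht.mem_open U.2 h2
  let tU : U := ⟨t, htU⟩
  let ηV : V := ⟨η', h2⟩
  have h3 : h₁ ((b ∣_ U) ηV) = η' := by
    have := congrArg (fun ψ : (V : Scheme.{u}) ⟶ S' => ψ ηV) e3
    simp only [Scheme.Hom.comp_apply] at this
    exact this.symm
  have h4 : ((b ∣_ U) ηV : U).1 = b η' := by
    have := congrArg (fun ψ : (V : Scheme.{u}) ⟶ S => ψ ηV) (morphismRestrict_ι b U)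
    simp only [Scheme.Hom.comp_apply] at this
    exact this
  have h5 : tU ⤳ (b ∣_ U) ηV := by
    apply U.ι.isEmbedding.isInducing.specializes_iff.mp
    show t ⤳ ((b ∣_ U) ηV : U).1
    rw [h4]
    exact ht
  have h6 : h₁ tU ⤳ η' := by
    have := h5.map h₁.continuous
    rwa [h3] at this
  have h7 : h₁ tU = η' := hη' _ h6
  have h8 : b (h₁ tU) = t := by
    have := congrArg (fun ψ : (U : Scheme.{u}) ⟶ S => ψ tU) hh₁
    simp only [Scheme.Hom.comp_apply] at this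
    exact this
  rw [← h8, h7]

end BlowUp

end Groth.Agent.Lib.Helper12.FlatClosEq
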