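import Mathlib
import Groth.Agent.Lib.Helper12.FlatClosEq3
import Groth.Agent.Lib.Helper12.FlatClosEq6

/-!
# Helper library (helper12): the strict transform along a blow-up, when flat, is universally
equidimensional
-/

set_option autoImplicit false
universe u
open AlgebraicGeometry CategoryTheory Limits TopologicalSpace

namespace Groth.Agent.Lib.Helper12.FlatClosEq

open Groth.Agent.Lib.Helper12 Groth.Agent.Lib.Helper12.SchemeDimFT
  Groth.Agent.Lib.Helper12.SchemeDimIneq Groth.Agent.Lib.Helper12.ClosedSub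
  Groth.Agent.Lib.Helper12.BaseChange

section Strict

/-- Away from the centre, every point lies in the strict transform. -/
theorem mem_support_strict {W : Scheme.{u}} (𝓔 𝒥 : W.IdealSheafData)
    (h𝒥 : ∀ (V : W.affineOpens) (a : Γ(W, V.1)), a ∈ 𝒥.ideal V ↔
      BlowUp.KilledByPowerNear 𝓔 (Coh.structureModule W) V a)
    (w : W) (hw : w ∉ 𝓔.support) : w ∈ 𝒥.support := by
  obtain ⟨_, ⟨V, hV, rfl⟩, hwV, -⟩ := W.isBasis_affineOpens.exists_subset_of_mem_open
    (Set.mem_univ w) isOpen_univ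
  rw [Scheme.IdealSheafData.mem_support_iff_of_mem (U := ⟨V, hV⟩) hwV,
    Scheme.mem_zeroLocus_iff] at hw ⊢
  push_neg at hw
  obtain ⟨e, he, hwe⟩ := hw
  intro a ha hwa
  obtain ⟨n, hn⟩ := (h𝒥 ⟨V, hV⟩ a).mp ha
  have hen : e ^ n ∈ (𝓔 ^ n).ideal ⟨V, hV⟩ := by
    rw [Scheme.IdealSheafData.ideal_pow]
    exact Ideal.pow_mem_pow he n
  have h0 : e ^ n * a = 0 := hn (e ^ n) hen
  rw [mem_basicOpen_iff_notMem hV w hwV] at hwe hwa
  have hprime := (hV.primeIdealOf ⟨w, hwV⟩).isPrime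
  have h1 : e ^ n * a ∈ (hV.primeIdealOf ⟨w, hwV⟩).asIdeal := by
    rw [h0]; exact Ideal.zero_mem _
  rcases hprime.mem_or_mem h1 with h2 | h2
  · exact hwe (hprime.mem_of_pow_mem n h2)
  · exact hwa h2

end Strict

section General

theorem concrete_H' {X S Z S' : Scheme.{u}} (p : X ⟶ S) [LocallyOfFiniteType p] (z : X) (r : ℕ)
    (hr : topologicalKrullDim ↥(closure ({p.asFiber z} : Set ↥(p.fiber (p.base z)))) = r)
    (ι : Z ⟶ X) [IsClosedImmersion ι] (hZ : Set.range ι.base = closure {z})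
    (b : S' ⟶ S) (w : ↥(pullback (ι ≫ p) b))
    (hw : IsMaxPt (b (pullback.snd (ι ≫ p) b w)))
    (hmax : FibMax (pullback.snd (ι ≫ p) b) w) :
    trn (pullback.snd (ι ≫ p) b) w = (r : ℕ∞) := by
  haveI : LocallyOfFiniteType (ι ≫ p) := inferInstance
  obtain ⟨h1, h2⟩ := max_fibre_pullback (ι ≫ p) b w hmax
  rw [h2]
  obtain ⟨z₀, hz₀⟩ : ∃ z₀ : Z, ι z₀ = z := by
    have : z ∈ Set.range ι.base := by rw [hZ]; exact subset_closure rfl
    exact this
  have hsp : z₀ ⤳ pullback.fst (ι ≫ p) b w := by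
    apply ι.isEmbedding.isInducing.specializes_iff.mp
    rw [hz₀, specializes_iff_mem_closure, ← hZ]
    exact ⟨_, rfl⟩
  have hcond : (ι ≫ p) (pullback.fst (ι ≫ p) b w) = b (pullback.snd (ι ≫ p) b w) := by
    rw [← Scheme.Hom.comp_apply, ← Scheme.Hom.comp_apply, pullback.condition]
  have h3 : (ι ≫ p) z₀ = (ι ≫ p) (pullback.fst (ι ≫ p) b w) := by
    have h4 := hsp.map (ι ≫ p).continuous
    rw [hcond] at h4 ⊢
    exact hw _ h4
  have h4 : z₀ = pullback.fst (ι ≫ p) b w := h1 z₀ h3 hsp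
  rw [← h4, trn_comp_preimmersion ι p z₀, hz₀]
  exact trn_eq_of_dim_closure p z r hr

theorem main_strict {X S Z S' : Scheme.{u}} (p : X ⟶ S) [LocallyOfFiniteType p] (z : X) (r : ℕ)
    (hr : topologicalKrullDim ↥(closure ({p.asFiber z} : Set ↥(p.fiber (p.base z)))) = r)
    (ι : Z ⟶ X) [IsClosedImmersion ι] (hZ : Set.range ι.base = closure {z})
    [IsLocallyNoetherian S'] (𝓘 : S.IdealSheafData) (b : S' ⟶ S) (hb : BlowUp.IsBlowUp b 𝓘)
    (𝒥 : (pullback (ι ≫ p) b).IdealSheafData)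
    (h𝒥 : ∀ (V : (pullback (ι ≫ p) b).affineOpens) (a : Γ(pullback (ι ≫ p) b, V.1)),
      a ∈ 𝒥.ideal V ↔
      BlowUp.KilledByPowerNear ((𝓘.comap (ι ≫ p)).comap (pullback.fst (ι ≫ p) b))
        (Coh.structureModule (pullback (ι ≫ p) b)) V a)
    [Flat (𝒥.subschemeι ≫ pullback.snd (ι ≫ p) b)]
    (S'' : Scheme.{u}) (g : S'' ⟶ S') :
    (∀ w : ↥(pullback (𝒥.subschemeι ≫ pullback.snd (ι ≫ p) b) g),
        FlatMor.fibreDimAt (pullback.snd (𝒥.subschemeι ≫ pullback.snd (ι ≫ p) b) g) w = r) ∧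
      ∀ C ∈ irreducibleComponents ↥(pullback (𝒥.subschemeι ≫ pullback.snd (ι ≫ p) b) g),
        closure ((pullback.snd (𝒥.subschemeι ≫ pullback.snd (ι ≫ p) b) g).base '' C) ∈
          irreducibleComponents ↥S'' := by
  haveI : LocallyOfFiniteType (ι ≫ p) := inferInstance
  haveI : LocallyOfFiniteType (pullback.snd (ι ≫ p) b) :=
    MorphismProperty.pullback_snd (P := @LocallyOfFiniteType) _ _ inferInstance
  haveI : LocallyOfFiniteType (𝒥.subschemeι ≫ pullback.snd (ι ≫ p) b) := inferInstance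
  apply univ_equidim_of_pureFib
  apply pureFib_of_flat_noeth
  intro ζ hζmax hζ
  have hcond : ∀ t : ↥(pullback (ι ≫ p) b),
      (ι ≫ p) (pullback.fst (ι ≫ p) b t) = b (pullback.snd (ι ≫ p) b t) := by
    intro t
    rw [← Scheme.Hom.comp_apply, ← Scheme.Hom.comp_apply, pullback.condition]
  rw [trn_comp_preimmersion 𝒥.subschemeι (pullback.snd (ι ≫ p) b) ζ]
  have hηE : (𝒥.subschemeι ≫ pullback.snd (ι ≫ p) b) ζ ∉ (𝓘.comap b).support :=
    not_mem_support_of_isMaxPt _ hb.1 _ hζmax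
  apply concrete_H' p z r hr ι hZ b
  · exact isMaxPt_map_of_isBlowUp 𝓘 b hb _ hζmax
  · intro w' hw' hsp
    have hw'E : w' ∉ ((𝓘.comap (ι ≫ p)).comap (pullback.fst (ι ≫ p) b)).support := by
      intro hmem
      apply hηE
      rw [Scheme.IdealSheafData.support_comap] at hmem ⊢
      have h1 : pullback.fst (ι ≫ p) b w' ∈ (𝓘.comap (ι ≫ p)).support := hmem
      rw [Scheme.IdealSheafData.support_comap] at h1
      have h2 : (ι ≫ p) (pullback.fst (ι ≫ p) b w') ∈ 𝓘.support := h1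
      rw [hcond, hw'] at h2
      exact h2
    have hw'J : w' ∈ 𝒥.support := mem_support_strict _ 𝒥 h𝒥 w' hw'E
    have hrange : w' ∈ Set.range 𝒥.subschemeι := by
      rw [Scheme.IdealSheafData.range_subschemeι]; exact hw'J
    obtain ⟨ζ', rfl⟩ := hrange
    have h3 : ζ' ⤳ ζ := 𝒥.subschemeι.isEmbedding.isInducing.specializes_iff.mp hsp
    have h4 := hζ ζ' hw' h3
    rw [h4]

end General

end Groth.Agent.Lib.Helper12.FlatClosEq
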