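import Mathlib
import Groth.Agent.Lib.Helper12.FlatClosEq7

/-!
# Helper library (helper12): the ideal of the strict transform pulls back to zero off the centre
-/

set_option autoImplicit false
universe u
open AlgebraicGeometry CategoryTheory Limits TopologicalSpace

namespace Groth.Agent.Lib.Helper12.FlatClosEq

section Strict

/-- The ideal of the strict transform is contained in the kernel of any morphism which misses the
centre. -/
theorem strict_le_ker {W' T : Scheme.{u}} (𝓔 𝒥 : W'.IdealSheafData)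
    (h𝒥 : ∀ (V : W'.affineOpens) (a : Γ(W', V.1)), a ∈ 𝒥.ideal V ↔
      BlowUp.KilledByPowerNear 𝓔 (Coh.structureModule W') V a)
    (k : T ⟶ W') (hk : ∀ y : T, k y ∉ 𝓔.support) : 𝒥 ≤ k.ker := by
  apply Scheme.IdealSheafData.le_ofIdeals_iff.mpr
  intro V a ha
  rw [RingHom.mem_ker]
  obtain ⟨n, hn⟩ := (h𝒥 V a).mp ha
  apply TopCat.Presheaf.section_ext T.sheaf
  intro y hy
  show T.presheaf.germ (k ⁻¹ᵁ V.1) y hy ((k.app V.1).hom a) =
    T.presheaf.germ (k ⁻¹ᵁ V.1) y hy 0
  rw [map_zero]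
  have hyV : k y ∈ V.1 := hy
  have h1 := Scheme.Hom.germ_stalkMap_apply k V.1 y hyV a
  have hw := hk y
  rw [Scheme.IdealSheafData.mem_support_iff_of_mem (U := V) hyV,
    Scheme.mem_zeroLocus_iff] at hw
  push_neg at hw
  obtain ⟨e, he, hwe⟩ := hw
  have hen : e ^ n ∈ (𝓔 ^ n).ideal V := by
    rw [Scheme.IdealSheafData.ideal_pow]
    exact Ideal.pow_mem_pow he n
  have h0 : e ^ n * a = 0 := hn (e ^ n) hen
  have hunit : IsUnit (W'.presheaf.germ V.1 (k y) hyV e) :=
    (Scheme.mem_basicOpen W' e (k y) hyV).mp hwe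
  have h2 : W'.presheaf.germ V.1 (k y) hyV a = 0 := by
    have h3 : (W'.presheaf.germ V.1 (k y) hyV e) ^ n * (W'.presheaf.germ V.1 (k y) hyV a) = 0 := by
      rw [← map_pow, ← map_mul, h0, map_zero]
    exact ((hunit.pow n).mul_right_eq_zero).mp h3
  rw [h2, map_zero] at h1
  exact h1.symm

end Strict

end Groth.Agent.Lib.Helper12.FlatClosEq
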