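import Mathlib
import Groth.Agent.Lib.Helper12.FlatClosEq8

/-!
# Helper library (helper12): a closed subscheme flat over a DVR contains the kernel of the
generic fibre
-/

set_option autoImplicit false
universe u
open AlgebraicGeometry CategoryTheory Limits TopologicalSpace

namespace Groth.Agent.Lib.Helper12.FlatClosEq

open Groth.Agent.Lib.Helper12.FlatClosureDVR

section Alg

variable {R : Type u} [CommRing R] [IsDomain R] [IsDiscreteValuationRing R]

theorem eq_zero_of_flat_of_pow_mul {B : Type u} [CommRing B] (ρ : R →+* B) (hρ : ρ.Flat)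
    (ϖ : R) (hϖ : ϖ ≠ 0) (n : ℕ) (x : B) (h : ρ ϖ ^ n * x = 0) : x = 0 := by
  letI := ρ.toAlgebra
  haveI : Module.Flat R B := hρ
  have htf := (Module.Flat.flat_iff_torsion_eq_bot_of_isBezout (R := R) (M := B)).mp inferInstance
  have hx : x ∈ Submodule.torsion R B := by
    refine ⟨⟨ϖ ^ n, mem_nonZeroDivisors_of_ne_zero (pow_ne_zero n hϖ)⟩, ?_⟩
    show (ϖ ^ n) • x = 0
    rw [Algebra.smul_def, RingHom.algebraMap_toAlgebra, map_pow]; exact h
  rw [htf] at hx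
  exact (Submodule.mem_bot R).mp hx

set_option backward.isDefEq.respectTransparency false in
theorem appLE_comp_subschemeι {W T : Scheme.{u}} (π : W ⟶ T) (I : W.IdealSheafData)
    (U : W.Opens) :
    (I.subschemeι ≫ π).appLE ⊤ (I.subschemeι ⁻¹ᵁ U) le_top =
      π.app ⊤ ≫ W.presheaf.map (homOfLE (le_top : U ≤ ⊤)).op ≫ I.subschemeι.app U := by
  rw [Scheme.Hom.comp_appLE, ← Scheme.Hom.appLE_eq_app (f := I.subschemeι) (U := U),
    Scheme.Hom.map_appLE]
  rfl

set_option backward.isDefEq.respectTransparency false in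
theorem app_eq_zero_of_pow_mul {W : Scheme.{u}} (π : W ⟶ Spec (CommRingCat.of R)) (ϖ : R)
    (hϖ : Irreducible ϖ)
    (I : W.IdealSheafData) [Flat (I.subschemeι ≫ π)] (U : W.affineOpens) (a : Γ(W, U.1)) (n : ℕ)
    (hn : ((W.presheaf.map (homOfLE (le_top : U.1 ≤ ⊤)).op).hom
      ((π.app ⊤).hom ((Scheme.ΓSpecIso (CommRingCat.of R)).inv.hom ϖ))) ^ n * a = 0) :
    (I.subschemeι.app U.1).hom a = 0 := by
  have hV' : IsAffineOpen (I.subschemeι ⁻¹ᵁ U.1) := U.2.preimage I.subschemeι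
  have hflat : RingHom.Flat ((I.subschemeι ≫ π).appLE ⊤ (I.subschemeι ⁻¹ᵁ U.1) le_top).hom :=
    HasRingHomProperty.appLE (P := @Flat) _ inferInstance ⟨⊤, isAffineOpen_top _⟩ ⟨_, hV'⟩ le_top
  have hflat' := (RingHom.Flat.respectsIso.cancel_left_isIso
    (Scheme.ΓSpecIso (CommRingCat.of R)).inv _).mpr hflat
  rw [← CommRingCat.hom_comp] at hflat'
  refine eq_zero_of_flat_of_pow_mul _ hflat' ϖ hϖ.ne_zero n _ ?_
  have h1 : ((Scheme.ΓSpecIso (CommRingCat.of R)).inv ≫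
      (I.subschemeι ≫ π).appLE ⊤ (I.subschemeι ⁻¹ᵁ U.1) le_top).hom ϖ =
      (I.subschemeι.app U.1).hom ((W.presheaf.map (homOfLE (le_top : U.1 ≤ ⊤)).op).hom
        ((π.app ⊤).hom ((Scheme.ΓSpecIso (CommRingCat.of R)).inv.hom ϖ))) := by
    rw [appLE_comp_subschemeι]
    rfl
  rw [h1, ← map_pow, ← map_mul, hn, map_zero]

/-- A closed subscheme which is flat over a DVR contains (scheme-theoretically) ... i.e. its ideal
contains the kernel of the inclusion of the generic fibre. -/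
theorem ker_genOpen_le_of_flat {W : Scheme.{u}} (π : W ⟶ Spec (CommRingCat.of R)) (ϖ : R)
    (hϖ : Irreducible ϖ)
    (I : W.IdealSheafData) [Flat (I.subschemeι ≫ π)] : (genOpen π ϖ).ι.ker ≤ I := by
  intro U a ha
  have ha' := Scheme.Hom.ideal_ker_le _ U ha
  rw [RingHom.mem_ker] at ha'
  have ha'' : (W.presheaf.map (homOfLE (x := (genOpen π ϖ).ι ''ᵁ (genOpen π ϖ).ι ⁻¹ᵁ U.1)
      (Set.image_preimage_subset _ _)).op).hom a = 0 := ha'
  obtain ⟨g, hg⟩ : ∃ g : Γ(W, ⊤),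
      g = (π.app ⊤).hom ((Scheme.ΓSpecIso (CommRingCat.of R)).inv.hom ϖ) := ⟨_, rfl⟩
  have hG : genOpen π ϖ = W.basicOpen g := by
    rw [hg]; exact Scheme.preimage_basicOpen π _
  obtain ⟨gU, hgU⟩ : ∃ gU : Γ(W, U.1),
      gU = (W.presheaf.map (homOfLE (le_top : U.1 ≤ ⊤)).op).hom g := ⟨_, rfl⟩
  have hbo : W.basicOpen gU = U.1 ⊓ W.basicOpen g := by
    rw [hgU]; exact Scheme.basicOpen_res W g (homOfLE (le_top : U.1 ≤ ⊤)).op
  have hle : W.basicOpen gU ≤ (genOpen π ϖ).ι ''ᵁ (genOpen π ϖ).ι ⁻¹ᵁ U.1 := by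
    rw [hbo, ← hG]
    intro w hw
    exact ⟨⟨w, hw.2⟩, hw.1, rfl⟩
  have H : (W.presheaf.map (homOfLE (W.basicOpen_le gU)).op).hom a = 0 := by
    have h1 : (W.presheaf.map (homOfLE (W.basicOpen_le gU)).op) =
        W.presheaf.map (homOfLE (x := (genOpen π ϖ).ι ''ᵁ (genOpen π ϖ).ι ⁻¹ᵁ U.1)
          (Set.image_preimage_subset _ _)).op ≫ W.presheaf.map (homOfLE hle).op := by
      rw [← W.presheaf.map_comp]
      rfl
    rw [h1, CommRingCat.comp_apply, ha'', map_zero]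
  obtain ⟨n, hn⟩ := exists_pow_mul_eq_zero_of_res_basicOpen_eq_zero_of_isAffineOpen W U.2 a gU H
  rw [← Scheme.IdealSheafData.ker_subschemeι_app I U, RingHom.mem_ker]
  rw [hgU, hg] at hn
  exact app_eq_zero_of_pow_mul π ϖ hϖ I U a n hn

end Alg

end Groth.Agent.Lib.Helper12.FlatClosEq
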