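import Mathlib
import Groth.Agent.Lib.Helper12.FlatClosEq4
import Groth.Agent.Lib.Helper12.FlatClosEq9
import Groth.Agent.Lib.Helper1.DVRFib

/-!
# Helper library (helper12): the flat closure along a DVR point is the base change of the strict
transform
-/

set_option autoImplicit false
universe u
open AlgebraicGeometry CategoryTheory Limits TopologicalSpace

namespace Groth.Agent.Lib.Helper12.FlatClosEq

open Groth.Agent.Lib.Helper12.FlatClosureDVR

section Cartier

variable {R : Type u} [CommRing R] [IsDomain R] [IsDiscreteValuationRing R]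

theorem isEffCartierIdeal_of_generic_not_mem (I : (Spec (CommRingCat.of R)).IdealSheafData)
    (hI : (⟨⊥, Ideal.isPrime_bot⟩ : PrimeSpectrum R) ∉ I.support) :
    BlowUp.IsEffCartierIdeal I := by
  intro x
  let U : (Spec (CommRingCat.of R)).affineOpens := ⟨⊤, isAffineOpen_top _⟩
  refine ⟨U, trivial, ?_⟩
  let e : R ≃+* Γ(Spec (CommRingCat.of R), ⊤) :=
    (Scheme.ΓSpecIso (CommRingCat.of R)).symm.commRingCatIsoToRingEquiv
  haveI : IsDomain Γ(Spec (CommRingCat.of R), ⊤) := MulEquiv.isDomain R e.symm.toMulEquiv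
  haveI : IsPrincipalIdealRing Γ(Spec (CommRingCat.of R), ⊤) :=
    IsPrincipalIdealRing.of_surjective e.toRingHom e.surjective
  obtain ⟨a, ha⟩ := (IsPrincipalIdealRing.principal (I.ideal U)).principal
  refine ⟨a, ?_, ha⟩
  apply mem_nonZeroDivisors_of_ne_zero
  rintro rfl
  have hI' : ∀ η : ↥(Spec (CommRingCat.of R)),
      η = (⟨⊥, Ideal.isPrime_bot⟩ : PrimeSpectrum R) → η ∉ I.support := by
    rintro η rfl; exact hI
  obtain ⟨η, hη⟩ : ∃ η : ↥(Spec (CommRingCat.of R)),
      η = (⟨⊥, Ideal.isPrime_bot⟩ : PrimeSpectrum R) := ⟨_, rfl⟩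
  apply hI' η hη
  rw [Scheme.IdealSheafData.mem_support_iff_of_mem (U := U) (x := η) trivial,
    Scheme.mem_zeroLocus_iff]
  intro s hs
  have hs0 : s = 0 := by
    have : s ∈ Ideal.span ({0} : Set Γ(Spec (CommRingCat.of R), ⊤)) := by
      rw [← Ideal.submodule_span_eq, ← ha]; exact hs
    simpa using this
  rw [hs0, Scheme.basicOpen_zero]
  exact fun h => h

theorem mem_genOpen_iff_eq_generic {W : Scheme.{u}} (π : W ⟶ Spec (CommRingCat.of R)) (ϖ : R)
    (hϖ : Irreducible ϖ) (w : W) :
    w ∈ genOpen π ϖ ↔ π w = (⟨⊥, Ideal.isPrime_bot⟩ : PrimeSpectrum R) := by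
  rw [mem_genOpen_iff]
  constructor
  · intro h
    apply PrimeSpectrum.ext
    by_contra hne
    have hmax : (π w : PrimeSpectrum R).asIdeal.IsMaximal :=
      (π w : PrimeSpectrum R).isPrime.isMaximal hne
    have h1 : (π w : PrimeSpectrum R).asIdeal = IsLocalRing.maximalIdeal R :=
      IsLocalRing.eq_maximalIdeal hmax
    apply h
    rw [h1, hϖ.maximalIdeal_eq]
    exact Ideal.mem_span_singleton_self ϖ
  · intro h
    rw [h]
    exact hϖ.ne_zero

end Cartier

end Groth.Agent.Lib.Helper12.FlatClosEq
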