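import Mathlib
import Groth.Agent.Lib.Helper12.FlatClosEq10

/-!
# Helper library (helper12): the flat closure along a DVR point is the base change of the strict
transform, II
-/

set_option autoImplicit false
universe u
open AlgebraicGeometry CategoryTheory Limits TopologicalSpace

namespace Groth.Agent.Lib.Helper12.FlatClosEq

open Groth.Agent.Lib.Helper12.FlatClosureDVR

section Compare

variable {R : Type u} [CommRing R] [IsDomain R] [IsDiscreteValuationRing R]

theorem main_compare {X S Z S' : Scheme.{u}}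
    (p : X ⟶ S) (ι : Z ⟶ X)
    (𝓘 : S.IdealSheafData) (b : S' ⟶ S) (hb : BlowUp.IsBlowUp b 𝓘)
    (𝒥 : (pullback (ι ≫ p) b).IdealSheafData)
    (h𝒥 : ∀ (V : (pullback (ι ≫ p) b).affineOpens) (a : Γ(pullback (ι ≫ p) b, V.1)),
      a ∈ 𝒥.ideal V ↔
      BlowUp.KilledByPowerNear ((𝓘.comap (ι ≫ p)).comap (pullback.fst (ι ≫ p) b))
        (Coh.structureModule (pullback (ι ≫ p) b)) V a)
    [Flat (𝒥.subschemeι ≫ pullback.snd (ι ≫ p) b)]
    (f : Spec (CommRingCat.of R) ⟶ S)
    (hf : f.base ⟨⊥, Ideal.isPrime_bot⟩ ∉ (𝓘.support : Set ↥S)) :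
    (∃! f' : Spec (CommRingCat.of R) ⟶ S', f' ≫ b = f) ∧
      ∀ (f' : Spec (CommRingCat.of R) ⟶ S') (hf' : f' ≫ b = f),
        (pullback.map (ι ≫ p) (Spec.map (CommRingCat.ofHom (algebraMap R (FractionRing R))) ≫ f)
          (ι ≫ p) f (𝟙 Z) (Spec.map (CommRingCat.ofHom (algebraMap R (FractionRing R)))) (𝟙 S)
          ((Category.comp_id _).trans (Category.id_comp _).symm) (Category.comp_id _)).ker =
        𝒥.comap (pullback.map (ι ≫ p) f (ι ≫ p) b (𝟙 Z) f' (𝟙 S)
          ((Category.comp_id _).trans (Category.id_comp _).symm)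
          ((Category.comp_id f).trans hf'.symm)) := by
  constructor
  · apply hb.2
    apply isEffCartierIdeal_of_generic_not_mem
    rw [Scheme.IdealSheafData.support_comap]
    exact hf
  · intro f' hf'
    obtain ⟨ϖ, hϖ⟩ := IsDiscreteValuationRing.exists_irreducible R
    set φK := Spec.map (CommRingCat.ofHom (algebraMap R (FractionRing R))) with hφK
    set j := pullback.map (ι ≫ p) (φK ≫ f) (ι ≫ p) f (𝟙 Z) φK (𝟙 S)
      ((Category.comp_id _).trans (Category.id_comp _).symm) (Category.comp_id _) with hjdef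
    set m := pullback.map (ι ≫ p) f (ι ≫ p) b (𝟙 Z) f' (𝟙 S)
      ((Category.comp_id _).trans (Category.id_comp _).symm)
      ((Category.comp_id f).trans hf'.symm) with hmdef
    -- the basic squares
    have hbig : IsPullback (pullback.fst (ι ≫ p) (φK ≫ f)) (pullback.snd (ι ≫ p) (φK ≫ f))
        (ι ≫ p) (φK ≫ f) := IsPullback.of_hasPullback _ _
    have hW : IsPullback (pullback.fst (ι ≫ p) f) (pullback.snd (ι ≫ p) f) (ι ≫ p) f :=
      IsPullback.of_hasPullback _ _
    have hW' : IsPullback (pullback.fst (ι ≫ p) b) (pullback.snd (ι ≫ p) b) (ι ≫ p) b :=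
      IsPullback.of_hasPullback _ _
    have hjfst : j ≫ pullback.fst (ι ≫ p) f = pullback.fst (ι ≫ p) (φK ≫ f) := by
      rw [hjdef, pullback.lift_fst, Category.comp_id]
    have hjsnd : j ≫ pullback.snd (ι ≫ p) f = pullback.snd (ι ≫ p) (φK ≫ f) ≫ φK := by
      rw [hjdef, pullback.lift_snd]
    have hmfst : m ≫ pullback.fst (ι ≫ p) b = pullback.fst (ι ≫ p) f := by
      rw [hmdef, pullback.lift_fst, Category.comp_id]
    have hmsnd : m ≫ pullback.snd (ι ≫ p) b = pullback.snd (ι ≫ p) f ≫ f' := by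
      rw [hmdef, pullback.lift_snd]
    have hleft : IsPullback j (pullback.snd (ι ≫ p) (φK ≫ f)) (pullback.snd (ι ≫ p) f) φK :=
      IsPullback.of_right (by rw [hjfst]; exact hbig) hjsnd hW
    have hB : IsPullback m (pullback.snd (ι ≫ p) f) (pullback.snd (ι ≫ p) b) f' :=
      IsPullback.of_right (by rw [hmfst, hf']; exact hW) hmsnd hW'
    haveI : QuasiCompact φK := by rw [hφK]; infer_instance
    haveI : IsOpenImmersion φK := by
      haveI : IsLocalization.Away ϖ (FractionRing R) :=
        Groth.Agent.Lib.Helper1.DVRFib.isLocalization_away_of_dvr R (FractionRing R) ϖ hϖ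
      rw [hφK]
      exact IsOpenImmersion.of_isLocalization ϖ
    haveI : QuasiCompact j :=
      MorphismProperty.of_isPullback (P := @QuasiCompact) hleft.flip inferInstance
    haveI : IsOpenImmersion j :=
      MorphismProperty.of_isPullback (P := @IsOpenImmersion) hleft.flip inferInstance
    have hj : Set.range j =
        pullback.snd (ι ≫ p) f ⁻¹' {(⟨⊥, Ideal.isPrime_bot⟩ : PrimeSpectrum R)} := by
      rw [hjdef, Scheme.Pullback.range_map, ← range_SpecMap_fractionRing R]
      have : Set.range (𝟙 Z : Z ⟶ Z) = Set.univ := by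
        ext t; simp
      rw [this, Set.preimage_univ, Set.univ_inter]
    apply le_antisymm
    · -- `ker j ≤ 𝒥.comap m`
      have hrange : Set.range j = Set.range (genOpen (pullback.snd (ι ≫ p) f) ϖ).ι := by
        rw [hj, Scheme.Opens.range_ι]
        ext w
        exact (mem_genOpen_iff_eq_generic _ ϖ hϖ w).symm
      have hker : j.ker = (genOpen (pullback.snd (ι ≫ p) f) ϖ).ι.ker := by
        rw [← IsOpenImmersion.isoOfRangeEq_hom_fac j _ hrange]
        exact Scheme.Hom.ker_comp_of_isIso _ _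
      rw [hker]
      haveI : Flat (pullback.fst m 𝒥.subschemeι ≫ pullback.snd (ι ≫ p) f) := by
        have hA : IsPullback (pullback.snd m 𝒥.subschemeι) (pullback.fst m 𝒥.subschemeι)
            𝒥.subschemeι m := (IsPullback.of_hasPullback m 𝒥.subschemeι).flip
        have hAB := hA.paste_vert hB
        exact MorphismProperty.of_isPullback (P := @Flat) hAB inferInstance
      haveI : Flat ((𝒥.comap m).subschemeι ≫ pullback.snd (ι ≫ p) f) := by
        rw [← Scheme.IdealSheafData.comapIso_hom_fst, Category.assoc]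
        infer_instance
      exact ker_genOpen_le_of_flat _ ϖ hϖ _
    · -- `𝒥.comap m ≤ ker j`
      rw [← Scheme.IdealSheafData.le_map_iff_comap_le, Scheme.IdealSheafData.map_ker]
      apply strict_le_ker _ 𝒥 h𝒥
      intro y hmem
      rw [Scheme.IdealSheafData.support_comap] at hmem
      have h1 : pullback.fst (ι ≫ p) b ((j ≫ m) y) ∈ (𝓘.comap (ι ≫ p)).support := hmem
      rw [Scheme.IdealSheafData.support_comap] at h1
      have h2 : (ι ≫ p) (pullback.fst (ι ≫ p) b ((j ≫ m) y)) ∈ 𝓘.support := h1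
      apply hf
      have hmor : (j ≫ m) ≫ pullback.fst (ι ≫ p) b ≫ (ι ≫ p) =
          pullback.snd (ι ≫ p) (φK ≫ f) ≫ φK ≫ f := by
        rw [Category.assoc, reassoc_of% hmfst, reassoc_of% hjfst, pullback.condition]
      have h3 : (ι ≫ p) (pullback.fst (ι ≫ p) b ((j ≫ m) y)) =
          f (φK (pullback.snd (ι ≫ p) (φK ≫ f) y)) := by
        have := congrArg (fun ψ : pullback (ι ≫ p) (φK ≫ f) ⟶ S => ψ y) hmor
        simpa only [Scheme.Hom.comp_apply] using this
      have hr : Set.range φK = {(⟨⊥, Ideal.isPrime_bot⟩ : PrimeSpectrum R)} :=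
        range_SpecMap_fractionRing R
      have h4 : φK (pullback.snd (ι ≫ p) (φK ≫ f) y) =
          (⟨⊥, Ideal.isPrime_bot⟩ : PrimeSpectrum R) := by
        have : φK (pullback.snd (ι ≫ p) (φK ≫ f) y) ∈ Set.range φK := ⟨_, rfl⟩
        rw [hr] at this
        exact this
      rw [h3, h4] at h2
      exact h2

end Compare

end Groth.Agent.Lib.Helper12.FlatClosEq
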