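import Mathlib
import Groth.Prelude.Def_Cyc
import Groth.Agent.Lib.Helper12.FlatClosEq11

/-!
# Helper library (helper12): the cycle of the flat closure is the push-forward of the cycle of the
generic fibre
-/

set_option autoImplicit false
universe u
open AlgebraicGeometry CategoryTheory Limits TopologicalSpace

namespace Groth.Agent.Lib.Helper12.FlatClosEq

open Groth.Agent.Lib.Helper12 Groth.Agent.Lib.Helper12.SchemeDimFT
open Groth.Agent.Lib.Helper12.FlatClosureDVR

section Tools

theorem length_self_of_ringEquiv' {A B : Type*} [CommRing A] [CommRing B] (e : A ≃+* B) :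
    Module.length A A = Module.length B B := by
  letI : Algebra A B := e.toRingHom.toAlgebra
  have h1 : Module.length A B = Module.length B B :=
    Module.length_eq_of_surjective (S := A) (R := B) (M := B) e.surjective
  have h2 : Module.length A A = Module.length A B := by
    let f : A ≃ₗ[A] B :=
      { e.toAddEquiv with
        map_smul' := fun a x => by
          show e (a • x) = a • e x
          rw [smul_eq_mul, map_mul, Algebra.smul_def]
          rfl }
    exact f.length_eq
  exact h2.trans h1

theorem isOpenImmersion_of_comp {V Y W : Scheme.{u}} (f : V ⟶ Y) (g : Y ⟶ W) [Mono g]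
    [IsOpenImmersion (f ≫ g)] : IsOpenImmersion f := by
  let c := pullback.snd g (f ≫ g)
  let s : V ⟶ pullback g (f ≫ g) := pullback.lift f (𝟙 V) (by simp)
  have hsc : s ≫ c = 𝟙 V := pullback.lift_snd _ _ _
  haveI : Mono c := inferInstance
  have hcs : c ≫ s = 𝟙 _ := by
    rw [← cancel_mono c, Category.assoc, hsc, Category.comp_id, Category.id_comp]
  haveI : IsIso s := ⟨c, hsc, hcs⟩
  have hf : f = s ≫ pullback.fst g (f ≫ g) := (pullback.lift_fst _ _ _).symm
  rw [hf]
  infer_instance

theorem length_stalk_toNat_eq_zero {Y : Scheme.{u}} (z : Y) (hz : ¬ IsMaxPt z) :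
    (Module.length (Y.presheaf.stalk z) (Y.presheaf.stalk z)).toNat = 0 := by
  have h : Module.length (Y.presheaf.stalk z) (Y.presheaf.stalk z) = ⊤ := by
    by_contra hne
    have hfl : IsFiniteLength (Y.presheaf.stalk z) (Y.presheaf.stalk z) :=
      Module.length_ne_top_iff.mp hne
    haveI : IsArtinianRing (Y.presheaf.stalk z) :=
      (isFiniteLength_iff_isNoetherian_isArtinian.mp hfl).2
    have h1 : ringKrullDim (Y.presheaf.stalk z) ≤ 0 := by
      have : Ring.KrullDimLE 0 (Y.presheaf.stalk z) := inferInstance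
      exact Ring.krullDimLE_iff.mp this
    rw [ringKrullDim_stalk_eq_coheight] at h1
    apply hz
    apply EquidimSub.isMaxPt_of_coheight_eq_zero
    have h2 : (Order.coheight z : WithBot ℕ∞) ≤ ((0 : ℕ∞) : WithBot ℕ∞) := h1
    have h3 : Order.coheight z ≤ 0 := by exact_mod_cast h2
    exact le_antisymm h3 bot_le
  rw [h]; rfl

end Tools

section Main

variable {R : Type u} [CommRing R] [IsDomain R] [IsDiscreteValuationRing R]

theorem subschemeFun_flatClosure {V W P PK : Scheme.{u}}
    (π : W ⟶ Spec (CommRingCat.of R))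
    (j : V ⟶ W) [IsOpenImmersion j] [QuasiCompact j]
    (hj : Set.range j = π ⁻¹' {(⟨⊥, Ideal.isPrime_bot⟩ : PrimeSpectrum R)})
    (iW : W ⟶ P) [IsClosedImmersion iW] (J : PK ⟶ P) (hJ : Function.Injective J)
    (iK : V ⟶ PK) (hiK : Function.Injective iK)
    (hcomm : iK ≫ J = j ≫ iW) (t : P) :
    Cyc.subschemeFun (fun _ => (0 : ℤ)) 0 (j.ker.subschemeι ≫ iW) t =
      ∑ᶠ t' ∈ {t' : PK | J t' = t}, Cyc.subschemeFun (fun _ => (0 : ℤ)) 0 iK t' := by
  obtain ⟨ϖ, hϖ⟩ := IsDiscreteValuationRing.exists_irreducible R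
  have hj' : (j ≫ π) ⁻¹ᵁ ((Spec (CommRingCat.of R)).basicOpen
      ((Scheme.ΓSpecIso (CommRingCat.of R)).inv.hom ϖ)) = ⊤ := by
    rw [eq_top_iff]
    intro v _
    have h1 : v ∈ genOpen (j ≫ π) ϖ := by
      rw [mem_genOpen_iff]
      have hv : π (j v) = (⟨⊥, Ideal.isPrime_bot⟩ : PrimeSpectrum R) := by
        have : j v ∈ Set.range j := ⟨v, rfl⟩
        rw [hj] at this
        exact this
      rw [Scheme.Hom.comp_apply, hv]
      exact hϖ.ne_zero
    exact h1
  haveI hflat : Flat (j.imageι ≫ π) := flat_image' π ϖ hϖ j hj'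
  have hθ : j.toImage ≫ j.imageι = j := j.toImage_imageι
  haveI : IsOpenImmersion (j.toImage ≫ j.imageι) := by rw [hθ]; infer_instance
  haveI : IsOpenImmersion j.toImage := isOpenImmersion_of_comp j.toImage j.imageι
  have hi_inj : Function.Injective (j.ker.subschemeι ≫ iW) :=
    (j.ker.subschemeι ≫ iW).isEmbedding.injective
  have hθi : ∀ z' : V, (j.ker.subschemeι ≫ iW) (j.toImage z') = J (iK z') := by
    intro z'
    have h1 : j.toImage ≫ j.ker.subschemeι ≫ iW = iK ≫ J := by
      rw [hcomm, ← Category.assoc]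
      congr 1
    have := congrArg (fun ψ : V ⟶ P => ψ z') h1
    simpa only [Scheme.Hom.comp_apply] using this
  have hlen : ∀ z' : V,
      Module.length (j.image.presheaf.stalk (j.toImage z')) (j.image.presheaf.stalk (j.toImage z')) =
        Module.length (V.presheaf.stalk z') (V.presheaf.stalk z') := fun z' =>
    length_self_of_ringEquiv' (asIso (j.toImage.stalkMap z')).commRingCatIsoToRingEquiv
  have hnot : ∀ z : j.image, z ∉ Set.range j.toImage →
      (Module.length (j.image.presheaf.stalk z) (j.image.presheaf.stalk z)).toNat = 0 := by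
    intro z hz
    apply length_stalk_toNat_eq_zero
    intro hmax
    apply hz
    have hqz : (j.imageι ≫ π) z = (⟨⊥, Ideal.isPrime_bot⟩ : PrimeSpectrum R) := by
      have hgenmap : GeneralizingMap (j.imageι ≫ π) := Flat.generalizingMap _
      have h1 : (⟨⊥, Ideal.isPrime_bot⟩ : PrimeSpectrum R) ⤳
          ((j.imageι ≫ π) z : PrimeSpectrum R) :=
        (PrimeSpectrum.le_iff_specializes _ _).mp
          (bot_le (a := ((j.imageι ≫ π) z : PrimeSpectrum R).asIdeal))
      obtain ⟨ξ', hξ', h2⟩ := hgenmap h1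
      rw [hmax ξ' hξ'] at h2
      exact h2
    have hmem : j.imageι z ∈ Set.range j := by rw [hj]; exact hqz
    obtain ⟨v, hv⟩ := hmem
    refine ⟨v, ?_⟩
    apply j.imageι.isEmbedding.injective
    rw [← hv, ← Scheme.Hom.comp_apply, hθ]
  simp only [Cyc.subschemeFun, ↓reduceIte]
  by_cases hex : ∃ z' : V, (j.ker.subschemeι ≫ iW) (j.toImage z') = t
  · obtain ⟨z', hz'⟩ := hex
    have hS1 : {z : j.ker.subscheme | (j.ker.subschemeι ≫ iW) z = t} = {j.toImage z'} := by
      ext z
      simp only [Set.mem_setOf_eq, Set.mem_singleton_iff]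
      constructor
      · intro h; exact hi_inj (h.trans hz'.symm)
      · rintro rfl; exact hz'
    have hS2 : {t' : PK | J t' = t} = {iK z'} := by
      ext t'
      simp only [Set.mem_setOf_eq, Set.mem_singleton_iff]
      constructor
      · intro h; exact hJ (h.trans (hz'.symm.trans (hθi z')))
      · rintro rfl; rw [← hθi, hz']
    have hS3 : {z'' : V | iK z'' = iK z'} = {z'} := by
      ext z''
      simp only [Set.mem_setOf_eq, Set.mem_singleton_iff]
      exact ⟨fun h => hiK h, fun h => by rw [h]⟩
    rw [hS1, finsum_mem_singleton, hS2, finsum_mem_singleton, hS3, finsum_mem_singleton]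
    exact congrArg (fun n : ℕ∞ => (n.toNat : ℤ)) (hlen z')
  · push_neg at hex
    rw [finsum_mem_eq_zero_of_forall_eq_zero, finsum_mem_eq_zero_of_forall_eq_zero]
    · intro t' ht'
      apply finsum_mem_eq_zero_of_forall_eq_zero
      intro z'' hz''
      exfalso
      exact hex z'' (by rw [hθi, hz'', ht'])
    · intro z hz
      have hzr : z ∉ Set.range j.toImage := by
        rintro ⟨z', rfl⟩; exact hex z' hz
      rw [hnot z hzr]; rfl

end Main

end Groth.Agent.Lib.Helper12.FlatClosEq
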