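import Mathlib
import Groth.Agent.Lib.Helper12.FlatClosEq12

/-!
# Helper library (helper12): the cycle of the flat closure, concrete form
-/

set_option autoImplicit false
universe u
open AlgebraicGeometry CategoryTheory Limits TopologicalSpace

namespace Groth.Agent.Lib.Helper12.FlatClosEq

section Concrete

variable {R : Type u} [CommRing R] [IsDomain R] [IsDiscreteValuationRing R]

/-- base change of a closed immersion in the first factor -/
theorem isPullback_map_left {X S Z T : Scheme.{u}} (p : X ⟶ S) (ι : Z ⟶ X) (x : T ⟶ S) :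
    IsPullback (pullback.map (ι ≫ p) x p x ι (𝟙 _) (𝟙 S) (Category.comp_id _)
        ((Category.comp_id _).trans (Category.id_comp _).symm))
      (pullback.fst (ι ≫ p) x) (pullback.fst p x) ι := by
  have hP : IsPullback (pullback.snd p x) (pullback.fst p x) x p :=
    (IsPullback.of_hasPullback p x).flip
  have hW : IsPullback (pullback.snd (ι ≫ p) x) (pullback.fst (ι ≫ p) x) x (ι ≫ p) :=
    (IsPullback.of_hasPullback (ι ≫ p) x).flip
  have h1 : pullback.map (ι ≫ p) x p x ι (𝟙 _) (𝟙 S) (Category.comp_id _)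
      ((Category.comp_id _).trans (Category.id_comp _).symm) ≫ pullback.snd p x =
      pullback.snd (ι ≫ p) x := by
    rw [pullback.lift_snd, Category.comp_id]
  have h2 : pullback.map (ι ≫ p) x p x ι (𝟙 _) (𝟙 S) (Category.comp_id _)
      ((Category.comp_id _).trans (Category.id_comp _).symm) ≫ pullback.fst p x =
      pullback.fst (ι ≫ p) x ≫ ι := by
    rw [pullback.lift_fst]
  exact IsPullback.of_right (by rw [h1]; exact hW) h2 hP

theorem main_cycle {X S Z : Scheme.{u}} (p : X ⟶ S) (ι : Z ⟶ X) [IsClosedImmersion ι]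
    (x : Spec (CommRingCat.of R) ⟶ S) (t : ↥(pullback p x)) :
    Cyc.subschemeFun (fun _ => (0 : ℤ)) 0 ((pullback.map (ι ≫ p) (Spec.map (CommRingCat.ofHom (algebraMap R (FractionRing R))) ≫ x) (ι ≫ p) x (𝟙 Z) (Spec.map (CommRingCat.ofHom (algebraMap R (FractionRing R)))) (𝟙 S) ((Category.comp_id _).trans (Category.id_comp _).symm) (Category.comp_id _)).ker.subschemeι ≫ pullback.map (ι ≫ p) x p x ι (𝟙 _) (𝟙 S) (Category.comp_id _) ((Category.comp_id _).trans (Category.id_comp _).symm)) t = ∑ᶠ t' ∈ {t' : ↥(pullback p (Spec.map (CommRingCat.ofHom (algebraMap R (FractionRing R))) ≫ x)) | (pullback.map p (Spec.map (CommRingCat.ofHom (algebraMap R (FractionRing R))) ≫ x) p x (𝟙 X) (Spec.map (CommRingCat.ofHom (algebraMap R (FractionRing R)))) (𝟙 S) ((Category.comp_id _).trans (Category.id_comp _).symm) (Category.comp_id _)) t' = t}, Cyc.subschemeFun (fun _ => (0 : ℤ)) 0 (pullback.map (ι ≫ p) (Spec.map (CommRingCat.ofHom (algebraMap R (FractionRing R))) ≫ x) p (Spec.map (CommRingCat.ofHom (algebraMap R (FractionRing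 R))) ≫ x) ι (𝟙 _) (𝟙 S) (Category.comp_id _) ((Category.comp_id _).trans (Category.id_comp _).symm)) t' := by
  obtain ⟨ϖ, hϖ⟩ := IsDiscreteValuationRing.exists_irreducible R
  set φK := Spec.map (CommRingCat.ofHom (algebraMap R (FractionRing R))) with hφK
  set j := pullback.map (ι ≫ p) (φK ≫ x) (ι ≫ p) x (𝟙 Z) φK (𝟙 S)
    ((Category.comp_id _).trans (Category.id_comp _).symm) (Category.comp_id _) with hjdef
  set J := pullback.map p (φK ≫ x) p x (𝟙 X) φK (𝟙 S)
    ((Category.comp_id _).trans (Category.id_comp _).symm) (Category.comp_id _) with hJdef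
  set iW := pullback.map (ι ≫ p) x p x ι (𝟙 _) (𝟙 S) (Category.comp_id _)
    ((Category.comp_id _).trans (Category.id_comp _).symm) with hiWdef
  set iK := pullback.map (ι ≫ p) (φK ≫ x) p (φK ≫ x) ι (𝟙 _) (𝟙 S) (Category.comp_id _)
    ((Category.comp_id _).trans (Category.id_comp _).symm) with hiKdef
  -- closed immersions
  haveI : IsClosedImmersion iW :=
    MorphismProperty.of_isPullback (P := @IsClosedImmersion) (isPullback_map_left p ι x).flip
      inferInstance
  haveI : IsClosedImmersion iK :=
    MorphismProperty.of_isPullback (P := @IsClosedImmersion)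
      (isPullback_map_left p ι (φK ≫ x)).flip inferInstance
  -- open immersions
  haveI : QuasiCompact φK := by rw [hφK]; infer_instance
  haveI : IsOpenImmersion φK := by
    haveI : IsLocalization.Away ϖ (FractionRing R) :=
      Groth.Agent.Lib.Helper1.DVRFib.isLocalization_away_of_dvr R (FractionRing R) ϖ hϖ
    rw [hφK]
    exact IsOpenImmersion.of_isLocalization ϖ
  have hleft : ∀ (q : Z ⟶ S) (j' : pullback q (φK ≫ x) ⟶ pullback q x)
      (_ : j' ≫ pullback.fst q x = pullback.fst q (φK ≫ x))
      (_ : j' ≫ pullback.snd q x = pullback.snd q (φK ≫ x) ≫ φK),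
      IsPullback j' (pullback.snd q (φK ≫ x)) (pullback.snd q x) φK := by
    intro q j' h1 h2
    exact IsPullback.of_right (by rw [h1]; exact IsPullback.of_hasPullback _ _) h2
      (IsPullback.of_hasPullback _ _)
  have hleftX : ∀ (q : X ⟶ S) (j' : pullback q (φK ≫ x) ⟶ pullback q x)
      (_ : j' ≫ pullback.fst q x = pullback.fst q (φK ≫ x))
      (_ : j' ≫ pullback.snd q x = pullback.snd q (φK ≫ x) ≫ φK),
      IsPullback j' (pullback.snd q (φK ≫ x)) (pullback.snd q x) φK := by
    intro q j' h1 h2
    exact IsPullback.of_right (by rw [h1]; exact IsPullback.of_hasPullback _ _) h2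
      (IsPullback.of_hasPullback _ _)
  have hjfst : j ≫ pullback.fst (ι ≫ p) x = pullback.fst (ι ≫ p) (φK ≫ x) := by
    rw [hjdef, pullback.lift_fst, Category.comp_id]
  have hjsnd : j ≫ pullback.snd (ι ≫ p) x = pullback.snd (ι ≫ p) (φK ≫ x) ≫ φK := by
    rw [hjdef, pullback.lift_snd]
  have hJfst : J ≫ pullback.fst p x = pullback.fst p (φK ≫ x) := by
    rw [hJdef, pullback.lift_fst, Category.comp_id]
  have hJsnd : J ≫ pullback.snd p x = pullback.snd p (φK ≫ x) ≫ φK := by
    rw [hJdef, pullback.lift_snd]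
  have hjP := hleft (ι ≫ p) j hjfst hjsnd
  have hJP := hleftX p J hJfst hJsnd
  haveI : QuasiCompact j :=
    MorphismProperty.of_isPullback (P := @QuasiCompact) hjP.flip inferInstance
  haveI : IsOpenImmersion j :=
    MorphismProperty.of_isPullback (P := @IsOpenImmersion) hjP.flip inferInstance
  haveI : IsOpenImmersion J :=
    MorphismProperty.of_isPullback (P := @IsOpenImmersion) hJP.flip inferInstance
  have hj : Set.range j =
      pullback.snd (ι ≫ p) x ⁻¹' {(⟨⊥, Ideal.isPrime_bot⟩ : PrimeSpectrum R)} := by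
    rw [hjdef, Scheme.Pullback.range_map, ← range_SpecMap_fractionRing R]
    have : Set.range (𝟙 Z : Z ⟶ Z) = Set.univ := by
      ext t; simp
    rw [this, Set.preimage_univ, Set.univ_inter]
  have hcomm : iK ≫ J = j ≫ iW := by
    apply pullback.hom_ext
    · rw [Category.assoc, Category.assoc, hJfst, hiKdef, pullback.lift_fst, hiWdef,
        pullback.lift_fst, reassoc_of% hjfst]
    · rw [Category.assoc, Category.assoc, hJsnd, hiKdef, pullback.lift_snd_assoc, hiWdef,
        pullback.lift_snd, Category.comp_id, Category.comp_id, hjsnd]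
  exact subschemeFun_flatClosure (pullback.snd (ι ≫ p) x) j hj iW J
    J.isOpenEmbedding.injective iK iK.isEmbedding.injective hcomm t

end Concrete

end Groth.Agent.Lib.Helper12.FlatClosEq
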