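import Mathlib
import Groth.Agent.Lib.Helper12.FlatDim
import Groth.Agent.Lib.Helper12.EquidimBC
import Groth.Agent.Lib.Helper12.JacLocalDim

/-!
# Helper library (helper12): fibre dimensions of flat morphisms under base change
-/

set_option autoImplicit false
universe u
open AlgebraicGeometry CategoryTheory Limits

namespace Groth.Agent.Lib.Helper12.FlatDim

open Groth.Agent.Lib.Helper12 Groth.Agent.Lib.Helper12.SchemeDimFT
  Groth.Agent.Lib.Helper12.SchemeDimIneq Groth.Agent.Lib.Helper12.Equidim

section FibEq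

variable {X Y Y' : Scheme.{u}} (f : X ⟶ Y)

/-- All points which are maximal in their fibre have relative transcendence degree `n`. -/
def FibEq (n : ℕ) : Prop :=
  ∀ z : X, (∀ z' : X, f z' = f z → z' ⤳ z → z' = z) → trn f z = n

variable [LocallyOfFiniteType f]

theorem fibEq_iff (n : ℕ) : FibEq f n ↔
    ∀ (y : Y), ∀ Z ∈ irreducibleComponents (f.fiber y : Type u),
      topologicalKrullDim Z = (n : WithBot ℕ∞) := by
  constructor
  · intro h y Z hZ
    obtain ⟨z, hz1, hz2, hz3⟩ := EquidimSub.exists_of_mem_irreducibleComponents_fiber f y Z hZ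
    rw [hz3, h z (fun z' hz' hsp => hz2 z' (hz'.trans hz1) hsp)]
    rfl
  · intro h z hmax
    letI ovF : (f.fiber (f z)).Over (Spec (CommRingCat.of (Y.residueField (f z)))) :=
      ⟨f.fiberToSpecResidueField (f z)⟩
    haveI : LocallyOfFiniteType
        ((f.fiber (f z)) ↘ Spec (CommRingCat.of (Y.residueField (f z)))) :=
      FibreRes.locallyOfFiniteType_fiberToSpecResidueField f (f z)
    have hmaxF : IsMaxPt (f.asFiber z) := by
      intro w hw
      have h2 := hw.map (f.fiberι (f z)).continuous
      rw [f.fiberι_asFiber] at h2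
      have h3 : f (f.fiberι (f z) w) = f z := EquidimSub.apply_fiberι f (f z) w
      have h4 := hmax _ h3 h2
      exact (f.fiberι (f z)).isEmbedding.injective (h4.trans (f.fiberι_asFiber z).symm)
    rw [trn_eq_tr f z, tr_eq_of_isMaxPt (Y.residueField (f z)) (f.fiber (f z)) n (h (f z)) _ hmaxF]

theorem FibEq.pullback {n : ℕ} (h : FibEq f n) (g : Y' ⟶ Y) : FibEq (pullback.snd f g) n := by
  intro z' hmax
  obtain ⟨h1, h2⟩ := BaseChange.max_fibre_pullback f g z' hmax
  rw [h2]
  exact h _ h1

end FibEq

section OverField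

variable (k : Type u) [Field k] {X Y : Scheme.{u}} (qY : Y ⟶ Spec (CommRingCat.of k))
  [LocallyOfFiniteType qY] (f : X ⟶ Y) [LocallyOfFiniteType f]

/-- Maximal points of the preimage of an irreducible closed subset under a flat morphism with
equidimensional fibres. -/
theorem tr_eq_of_max_preimage [Flat f] {n : ℕ} (h : FibEq f n) (v : Y) (w : X)
    (hw : v ⤳ f w) (hmax : ∀ t : X, v ⤳ f t → t ⤳ w → t = w) :
    letI : Y.Over (Spec (CommRingCat.of k)) := ⟨qY⟩
    letI : X.Over (Spec (CommRingCat.of k)) := ⟨f ≫ qY⟩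
    tr k X w = tr k Y v + n := by
  letI : Y.Over (Spec (CommRingCat.of k)) := ⟨qY⟩
  letI : X.Over (Spec (CommRingCat.of k)) := ⟨f ≫ qY⟩
  obtain ⟨w', hw', hfw'⟩ := Flat.generalizingMap f hw
  have hww' : w' = w := hmax w' (by rw [hfw']) hw'
  rw [hww'] at hfw'
  have h1 := h w (fun z' hz' hsp => hmax z' (by rw [hz']; exact hw) hsp)
  have hadd := tr_eq_add_trn k qY f w
  rw [h1, hfw'] at hadd
  exact_mod_cast hadd

end OverField

section Top

/-- The generic point of an irreducible component of a closed subspace. -/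
theorem exists_of_mem_irreducibleComponents_closed {T : Type u} [TopologicalSpace T]
    [QuasiSober T] [T0Space T] (S : Set T) (hS : IsClosed S) (W : Set ↥S)
    (hW : W ∈ irreducibleComponents ↥S) :
    ∃ w : T, w ∈ S ∧ (∀ t : T, t ∈ S → t ⤳ w → t = w) ∧
      topologicalKrullDim ↥W = topologicalKrullDim ↥(closure ({w} : Set T)) := by
  haveI : QuasiSober ↥S := hS.isClosedEmbedding_subtypeVal.quasiSober
  obtain ⟨w₀, hw₀⟩ := QuasiSober.sober hW.1 (isClosed_of_mem_irreducibleComponents W hW)
  have hWeq : W = closure {w₀} := hw₀.def.symm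
  subst hWeq
  have hmax := (closure_singleton_mem_irreducibleComponents_iff w₀).mp hW
  refine ⟨w₀.1, w₀.2, ?_, ?_⟩
  · intro t ht hsp
    have h1 : (⟨t, ht⟩ : ↥S) ⤳ w₀ := (subtype_specializes_iff _ _).mpr hsp
    exact congrArg Subtype.val (hmax _ h1)
  · have h1 : closure ({w₀} : Set ↥S) = Subtype.val ⁻¹' closure ({w₀.1} : Set T) := by
      rw [Topology.IsEmbedding.subtypeVal.closure_eq_preimage_closure_image, Set.image_singleton]
    rw [h1]
    exact JacLocalDim.dim_preimage_val S _
      (closure_minimal (Set.singleton_subset_iff.mpr w₀.2) hS)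

end Top

end Groth.Agent.Lib.Helper12.FlatDim
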