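import Mathlib
import Groth.Agent.Lib.Helper12.UnivOpenDim
import Groth.Agent.Lib.Helper12.EquidimOpen
import Groth.Agent.Lib.Helper12.ConstrNhds

/-!
# Fibre dimension of flat morphisms near a point (helper12)

For a flat morphism locally of finite type, the fibres over the generizations of `f x` have
dimension at least `dim_x (X_{f x})` near `x`.
-/

set_option autoImplicit false
universe u v
open AlgebraicGeometry CategoryTheory CategoryTheory.Limits IsLocalRing

namespace Groth.Agent.Lib.Helper12.FlatFibreDim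

open Groth.Agent.Lib.Helper12 Groth.Agent.Lib.Helper12.SchemeDimFT
open Groth.Agent.Lib.Helper12.SchemeDimIneq Groth.Agent.Lib.Helper12.ClosedSub
open Groth.Agent.Lib.Helper12.FibreMax Groth.Agent.Lib.Helper12.SecComp
open Groth.Agent.Lib.Helper12.ValBase Groth.Agent.Lib.Helper12.ValBaseFib
open Groth.Agent.Lib.Helper12.ValStalk Groth.Agent.Lib.Helper12.UnivOpenDim

variable {X Y : Scheme.{u}} (f : X ⟶ Y) [LocallyOfFiniteType f]

/-- If `f` is flat then the fibres over the generizations of `f x` have dimension at least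
`dim_x (X_{f x})` near a maximal point `x` of the fibre. -/
theorem le_dim_of_flat [Flat f] (x : X)
    (hmax : ∀ x' : X, f.base x' = f.base x → x ∈ closure {x'} → x' = x)
    (U : X.Opens) (hxU : x ∈ U) (y' : Y) (hy' : y' ⤳ f.base x) :
    FlatMor.fibreDimAt f x ≤ topologicalKrullDim ↥((U : Set X) ∩ f.base ⁻¹' {y'}) := by
  rw [fibreDimAt_eq_trn_of_max f x hmax]
  obtain ⟨A, _, _, _, φ, η, hφc, hφη, hηgen, hbij⟩ := exists_valuationRing_spec Y (f.base x) y' hy'
  obtain ⟨x₁, hx₁π, hx₁c, hx₁trn⟩ := exists_point_over_trn_eq f φ x (closedPoint A) hφc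
  set π := pullback.fst f φ with hπ
  set f₁ := pullback.snd f φ with hf₁
  have hcomm : ∀ t : ↥(pullback f φ), f.base (π.base t) = φ.base (f₁.base t) :=
    fun t => SecCompBC.fst_snd_apply f φ t
  haveI : Flat f₁ := inferInstance
  obtain ⟨a, hax₁, haη⟩ := Flat.generalizingMap f₁ (hηgen (f₁.base x₁))
  obtain ⟨hdom, hval⟩ := stalk_valuation' A (f₁.base x₁)
  haveI := hdom
  haveI := hval
  have h7 : trn f₁ x₁ ≤ trn f₁ a := ValDim.trn_le_of_valuationRing_stalk f₁ x₁ a hax₁
  have hbij' : ∀ t : ↥(Spec (CommRingCat.of A)), t = η →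
      Function.Bijective (φ.residueFieldMap t).hom := by
    rintro t rfl
    exact hbij
  have h8 : trn f₁ a = trn f (π.base a) := trn_pullback_of_bijective f φ a (hbij' _ haη)
  have h9 : f.base (π.base a) = y' := by rw [hcomm, haη, hφη]
  have haU : π.base a ∈ (U : Set X) := by
    have h1 : π.base a ⤳ π.base x₁ := hax₁.map π.continuous
    rw [hx₁π] at h1
    exact h1.mem_open U.2 hxU
  have h10 := trn_le_dim_inter_fibre_of_isLocallyClosed f (U : Set X) U.2.isLocallyClosed
    (π.base a) haU
  rw [h9] at h10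
  refine le_trans ?_ h10
  rw [← hx₁trn, ← h8]
  exact WithBot.coe_le_coe.mpr h7

/-- If `f` is flat, `x` is a maximal point of its fibre at which the fibre has dimension `> e`,
then over every generization of `f x` and in every neighbourhood of `x` there are points where the
fibre dimension is `> e`. -/
theorem exists_lt_fibreDimAt_of_flat [Flat f] (x : X)
    (hmax : ∀ x' : X, f.base x' = f.base x → x ∈ closure {x'} → x' = x) (e : ℕ)
    (hx : ¬ FlatMor.fibreDimAt f x ≤ (e : WithBot ℕ∞))
    (U : X.Opens) (hxU : x ∈ U) (y' : Y) (hy' : y' ⤳ f.base x) :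
    ∃ x' : X, x' ∈ U ∧ f.base x' = y' ∧ ¬ FlatMor.fibreDimAt f x' ≤ (e : WithBot ℕ∞) := by
  by_contra hcon
  push Not at hcon
  have h1 := le_dim_of_flat f x hmax U hxU y' hy'
  have h2 : topologicalKrullDim ↥((U : Set X) ∩ f.base ⁻¹' {y'}) ≤ (e : WithBot ℕ∞) := by
    apply dim_inter_fibre_le_of_isLocallyClosed f (U : Set X) U.2.isLocallyClosed y'
    rintro z ⟨hzU, hzy⟩
    exact (trn_le_fibreDimAt_of_specializes f z z rfl specializes_rfl).trans (hcon z hzU hzy)
  exact hx (h1.trans h2)

end Groth.Agent.Lib.Helper12.FlatFibreDim
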