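import Mathlib
import Groth.Agent.Lib.Helper12.FlatFibreDim
import Groth.Agent.Lib.Helper12.FibreDimFP
import Groth.Agent.Lib.Helper12.ProductDim

/-! Lower semicontinuity of the fibre dimension for flat morphisms of finite presentation. -/

set_option autoImplicit false
universe u
open AlgebraicGeometry CategoryTheory CategoryTheory.Limits Topology

namespace Groth.Agent.Lib.Helper12.FlatFibreDim

open Groth.Agent.Lib.Helper12.ConstrNhds Groth.Agent.Lib.Helper12.ChevalleyCor
open Groth.Agent.Lib.Helper12.ClosedSub Groth.Agent.Lib.Helper12.EquidimOpen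

variable {X Y : Scheme.{u}} (f : X ⟶ Y)

/-- A point where the fibre dimension exceeds `n` has a generization in its fibre, maximal there,
with the same property. -/
theorem exists_max_not_fibreDimAt_le [LocallyOfFiniteType f] (x : X) (n : ℕ)
    (hx : ¬ FlatMor.fibreDimAt f x ≤ (n : WithBot ℕ∞)) :
    ∃ z : X, f.base z = f.base x ∧
      (∀ x' : X, f.base x' = f.base z → z ∈ closure {x'} → x' = z) ∧
      ¬ FlatMor.fibreDimAt f z ≤ (n : WithBot ℕ∞) := by
  by_contra hcon
  push Not at hcon
  apply hx
  apply fibreDimAt_le_of_max f x n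
  intro z hz hzx hzmax
  have hmax : ∀ x' : X, f.base x' = f.base z → z ∈ closure {x'} → x' = z := fun x' hx' hcl =>
    hzmax x' hx' (specializes_iff_mem_closure.mpr hcl)
  have h1 := hcon z hz hmax
  rw [Groth.Agent.Lib.Helper12.UnivOpenDim.fibreDimAt_eq_trn_of_max f z hmax] at h1
  exact_mod_cast h1

theorem isOpen_image_setOf_not_fibreDimAt_le [Flat f] [LocallyOfFinitePresentation f]
    [QuasiCompact f] (n : ℕ) :
    IsOpen (f.base '' {x : X | FlatMor.fibreDimAt f x ≤ (n : WithBot ℕ∞)}ᶜ) := by
  have hW : IsLocallyConstructible {x' : X | FlatMor.fibreDimAt f x' ≤ (n : WithBot ℕ∞)} :=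
    (Groth.Agent.Lib.Helper12.FibreDimFP.isRetrocompact_setOf_fibreDimAt_le f n).isLocallyConstructible
      (Groth.Agent.Lib.Helper12.Chevalley.isOpen_setOf_fibreDimAt_le f n)
  have hC := f.isLocallyConstructible_image (isLocallyConstructible_compl hW)
  rw [isOpen_iff_mem_nhds]
  rintro s ⟨x, hx, rfl⟩
  apply mem_nhds_of_isLocallyConstructible _ hC
  intro y' hy'
  obtain ⟨z, hz, hzmax, hzdim⟩ := exists_max_not_fibreDimAt_le f x n hx
  rw [← hz] at hy'
  obtain ⟨x', -, hx'y, hx'dim⟩ := exists_lt_fibreDimAt_of_flat f z hzmax n hzdim ⊤ trivial y' hy'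
  exact ⟨x', hx'dim, hx'y⟩

/-- **Lower semicontinuity of the fibre dimension** for flat morphisms of finite presentation. -/
theorem isOpen_setOf_lt_dim_fiber [Flat f] [LocallyOfFinitePresentation f]
    [QuasiCompact f] (c : WithBot ℕ∞) :
    IsOpen {s : Y | c < topologicalKrullDim (f.fiber s)} := by
  rcases ProductDim.withBot_enat_cases c with hc | hc | ⟨k, hc⟩
  · have : {s : Y | c < topologicalKrullDim (f.fiber s)} = Set.range f.base := by
      ext s
      rw [Set.mem_setOf_eq, hc, ← zero_le_dim_fiber_iff f s, bot_lt_iff_ne_bot]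
      constructor
      · intro h
        rcases ProductDim.withBot_enat_cases (topologicalKrullDim (f.fiber s)) with h1 | h1 | ⟨j, h1⟩
        · exact absurd h1 h
        · rw [h1]; exact le_top
        · rw [h1]; exact_mod_cast Nat.zero_le j
      · intro h h0
        rw [h0] at h
        simp at h
    rw [this]
    exact f.isOpenMap.isOpen_range
  · have : {s : Y | c < topologicalKrullDim (f.fiber s)} = ∅ := by
      rw [Set.eq_empty_iff_forall_notMem]
      intro s hs
      rw [Set.mem_setOf_eq, hc] at hs
      exact absurd hs (not_lt.mpr le_top)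
    rw [this]
    exact isOpen_empty
  · have : {s : Y | c < topologicalKrullDim (f.fiber s)} =
        f.base '' {x : X | FlatMor.fibreDimAt f x ≤ (k : WithBot ℕ∞)}ᶜ := by
      ext s
      rw [Set.mem_setOf_eq, hc, lt_iff_not_ge, dim_fiber_le_iff]
      push Not
      simp only [Set.mem_image, Set.mem_compl_iff, Set.mem_setOf_eq]
      constructor
      · rintro ⟨x, hx, h⟩
        exact ⟨x, not_le.mpr h, hx⟩
      · rintro ⟨x, h, hx⟩
        exact ⟨x, hx, not_le.mp h⟩
    rw [this]
    exact isOpen_image_setOf_not_fibreDimAt_le f k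

end Groth.Agent.Lib.Helper12.FlatFibreDim
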