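import Mathlib

/-!
# A flat algebra over a reduced ring with reduced field-valued fibres is reduced (helper12)

The argument embeds the base `A` into the product `L` of all its residue fields, which is an
absolutely flat ring: all its local rings are fields.
-/

set_option autoImplicit false
universe u
open scoped TensorProduct

namespace Groth.Agent.Lib.Helper12.FlatReducedAlg

section vnr

variable {ι : Type u} (F : ι → Type u) [∀ i, Field (F i)]

/-- the local rings of a product of fields are fields -/
theorem isField_localization_pi (𝔘 : Ideal (∀ i, F i)) [𝔘.IsPrime] :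
    IsField (Localization.AtPrime 𝔘) := by
  classical
  rw [IsLocalRing.isField_iff_maximalIdeal_eq, eq_bot_iff]
  intro x hx
  obtain ⟨a, s, rfl⟩ := IsLocalization.exists_mk'_eq 𝔘.primeCompl x
  have ha : a ∈ 𝔘 := (IsLocalization.AtPrime.mk'_mem_maximal_iff _ 𝔘 a s).1 hx
  let b : ∀ i, F i := fun i => (a i)⁻¹
  have hab : a * a * b = a := by
    funext i
    show a i * a i * (a i)⁻¹ = a i
    by_cases h0 : a i = 0
    · rw [h0]; simp
    · rw [mul_inv_cancel_right₀ h0]
  have he : a * b ∈ 𝔘 := 𝔘.mul_mem_right b ha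
  have h1e : 1 - a * b ∉ 𝔘 := by
    intro h
    have : (1 : ∀ i, F i) ∈ 𝔘 := by
      have := 𝔘.add_mem h he
      rwa [sub_add_cancel] at this
    exact (Ideal.ne_top_iff_one 𝔘).1 (Ideal.IsPrime.ne_top inferInstance) this
  have hzero : (1 - a * b) * a = 0 := by
    have h : (1 - a * b) * a = a - a * a * b := by ring
    rw [h, hab, sub_self]
  show IsLocalization.mk' (Localization.AtPrime 𝔘) a s ∈ (⊥ : Ideal _)
  rw [Ideal.mem_bot, IsLocalization.mk'_eq_zero_iff]
  exact ⟨⟨1 - a * b, h1e⟩, hzero⟩

end vnr

section main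

variable {A C : Type u} [CommRing A] [CommRing C] [Algebra A C]

/-- **Reducedness of a flat algebra from its field-valued fibres.** -/
theorem isReduced_of_flat_of_forall_field [IsReduced A] [Module.Flat A C]
    (h : ∀ (K : Type u) [Field K] [Algebra A K], IsReduced (K ⊗[A] C)) : IsReduced C := by
  classical
  let L := ∀ p : PrimeSpectrum A, p.asIdeal.ResidueField
  have hinj : Function.Injective (algebraMap A L) := by
    rw [injective_iff_map_eq_zero]
    intro a ha
    have hmem : ∀ p : PrimeSpectrum A, a ∈ p.asIdeal := fun p => by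
      have h1 : algebraMap A p.asIdeal.ResidueField a = 0 := congrFun ha p
      rwa [Ideal.algebraMap_residueField_eq_zero] at h1
    have hnil : a ∈ nilradical A := by
      rw [nilradical_eq_sInf, Ideal.mem_sInf]
      intro I hI
      exact hmem ⟨I, hI⟩
    rw [nilradical_eq_zero, Ideal.zero_eq_bot, Ideal.mem_bot] at hnil
    exact hnil
  have hincl : Function.Injective
      (Algebra.TensorProduct.includeRight : C →ₐ[A] L ⊗[A] C) :=
    Algebra.TensorProduct.includeRight_injective hinj
  suffices hCL : IsReduced (L ⊗[A] C) from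
    isReduced_of_injective (Algebra.TensorProduct.includeRight : C →ₐ[A] L ⊗[A] C) hincl
  constructor
  intro n hn
  by_contra hne
  let J : Ideal L := LinearMap.ker (LinearMap.toSpanSingleton L (L ⊗[A] C) n)
  have hJ : J ≠ ⊤ := by
    intro hJ
    have h1 : (1 : L) ∈ J := by rw [hJ]; trivial
    have h2 : (1 : L) • n = 0 := h1
    rw [one_smul] at h2
    exact hne h2
  obtain ⟨𝔘, h𝔘max, hJ𝔘⟩ := Ideal.exists_le_maximal J hJ
  haveI : 𝔘.IsPrime := h𝔘max.isPrime
  let K := Localization.AtPrime 𝔘
  have hfield : IsField K := isField_localization_pi _ 𝔘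
  letI : Field K := hfield.toField
  have hred : IsReduced (K ⊗[A] C) := h K
  let e := Algebra.TensorProduct.cancelBaseChange A L L K C
  have hred' : IsReduced (K ⊗[L] (L ⊗[A] C)) :=
    isReduced_of_injective e.toRingEquiv.toRingHom e.injective
  let f : (L ⊗[A] C) →ₗ[L] K ⊗[L] (L ⊗[A] C) := TensorProduct.mk L K (L ⊗[A] C) 1
  haveI : IsLocalizedModule 𝔘.primeCompl f :=
    (isLocalizedModule_iff_isBaseChange 𝔘.primeCompl K f).2
      (TensorProduct.isBaseChange L (L ⊗[A] C) K)
  have hfn : f n = 0 := by
    have h1 : IsNilpotent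
        ((Algebra.TensorProduct.includeRight : (L ⊗[A] C) →ₐ[L] K ⊗[L] (L ⊗[A] C)) n) :=
      hn.map _
    exact h1.eq_zero
  obtain ⟨s, hs⟩ := (IsLocalizedModule.eq_zero_iff 𝔘.primeCompl f).1 hfn
  exact s.2 (hJ𝔘 (show (s : L) ∈ J from hs))

end main

end Groth.Agent.Lib.Helper12.FlatReducedAlg
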