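import Mathlib
import Groth.Agent.Lib.Helper12.FibreDimsConstr
import Groth.Agent.Lib.Helper12.FibreDimFP
import Groth.Agent.Lib.Helper12.LimProCons
import Groth.Agent.Lib.Helper12.LimPb
import Groth.Agent.Lib.Helper12.LimAffChart
import Groth.Agent.S3402
import Groth.Agent.S9358

/-!
# Relative dimension `d` in terms of local fibre dimensions; constructibility; descent
-/

universe u

set_option backward.isDefEq.respectTransparency false

open CategoryTheory Limits AlgebraicGeometry TopologicalSpace Topology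

namespace Groth.Agent.Lib.Helper12.RelDimDescend

open Groth.Agent.Lib.Helper12.FibreDimConstr Groth.Agent.Lib.Helper12.ChevalleyCor
  Groth.Agent.Lib.Helper12.Chevalley

/-- A morphism locally of finite type has relative dimension `d` iff all local fibre dimensions
are `d`. -/
theorem hasRelDim_iff {X Y : Scheme.{u}} (f : X ⟶ Y) [LocallyOfFiniteType f] (d : ℕ) :
    Cyc.HasRelDim f d ↔ ∀ x : X, FlatMor.fibreDimAt f x = (d : WithBot ℕ∞) := by
  constructor
  · intro h x
    obtain ⟨C, hC, hCe⟩ := (mem_dims_iff f (f x) (FlatMor.fibreDimAt f x)).mpr ⟨x, rfl, rfl⟩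
    rw [← hCe]
    exact h (f x) C hC
  · intro h y T hT
    obtain ⟨x, -, hx⟩ := (mem_dims_iff f y (topologicalKrullDim ↥T)).mp ⟨T, hT, rfl⟩
    rw [← hx]
    exact h x

/-- The locus where the local fibre dimension differs from `d` is pro-constructible, for a
morphism locally of finite presentation. -/
theorem isProConstructible_setOf_fibreDimAt_ne {X Y : Scheme.{u}} (f : X ⟶ Y)
    [LocallyOfFinitePresentation f] (d : ℕ) :
    ProCons.IsProConstructible {x : X | FlatMor.fibreDimAt f x ≠ (d : WithBot ℕ∞)} := by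
  have hle : ∀ n : ℕ, IsLocallyConstructible {x : X | FlatMor.fibreDimAt f x ≤ (n : WithBot ℕ∞)} :=
    fun n => ((FibreDimFP.isRetrocompact_setOf_fibreDimAt_le f n).isConstructible
      (isOpen_setOf_fibreDimAt_le f n)).isLocallyConstructible
  have h1 : IsLocallyConstructible {x : X | FlatMor.fibreDimAt f x ≤ (d : WithBot ℕ∞)}ᶜ :=
    Groth.Agent.Lib.Helper12.ConstrNhds.isLocallyConstructible_compl (hle d)
  have h2 : IsLocallyConstructible {x : X | (d : WithBot ℕ∞) ≤ FlatMor.fibreDimAt f x}ᶜ := by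
    rcases d with _ | m
    · have : {x : X | ((0 : ℕ) : WithBot ℕ∞) ≤ FlatMor.fibreDimAt f x} = Set.univ := by
        ext x
        simp only [Set.mem_setOf_eq, Set.mem_univ, iff_true]
        refine le_trans ?_ (FibreMax.trn_le_fibreDimAt_of_specializes f x x rfl specializes_rfl)
        exact WithBot.coe_le_coe.mpr zero_le
      rw [this, Set.compl_univ]
      exact IsLocallyConstructible.empty
    · have : {x : X | ((m + 1 : ℕ) : WithBot ℕ∞) ≤ FlatMor.fibreDimAt f x}ᶜ =
          {x : X | FlatMor.fibreDimAt f x ≤ m} := by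
        ext x
        simp only [Set.mem_setOf_eq, Set.mem_compl_iff]
        rw [succ_le_iff_not_le, not_not]
      rw [this]
      exact hle m
  have h3 := h1.union h2
  have : {x : X | FlatMor.fibreDimAt f x ≠ (d : WithBot ℕ∞)} =
      {x : X | FlatMor.fibreDimAt f x ≤ (d : WithBot ℕ∞)}ᶜ ∪
        {x : X | (d : WithBot ℕ∞) ≤ FlatMor.fibreDimAt f x}ᶜ := by
    ext x
    simp only [Set.mem_setOf_eq, Set.mem_union, Set.mem_compl_iff, ne_eq]
    constructor
    · intro h
      by_contra hcon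
      rw [not_or, not_not, not_not] at hcon
      exact h (le_antisymm hcon.1 hcon.2)
    · rintro (h | h) he
      · exact h he.le
      · exact h he.ge
  rw [this]
  exact ((Groth.Agent.S3402.result X _).mp h3).2

section Descend

open Groth.Agent.Lib.Helper12.PbDiag Groth.Agent.Lib.Helper12.LimData

variable {I : Type u} [SmallCategory I] [IsCofiltered I] (D : I ⥤ Scheme.{u}) (c : Cone D)
  (hc : IsLimit c) [∀ {i j : I} (f : i ⟶ j), IsAffineHom (D.map f)] (i₀ : I)
  {X₀ Y₀ : Scheme.{u}} (f₀ : X₀ ⟶ Y₀) (g₀ : Y₀ ⟶ D.obj i₀)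
  {X Y : Scheme.{u}} (f : X ⟶ Y) (g : Y ⟶ c.pt) (qY : Y ⟶ Y₀) (qX : X ⟶ X₀)
  (hY : IsPullback qY g g₀ (c.π.app i₀)) (hX : IsPullback qX f f₀ qY)

include hc hY hX in
/-- Relative dimension `d` descends to a stage. -/
theorem exists_hasRelDim_stage [CompactSpace X₀] [LocallyOfFinitePresentation f₀] (d : ℕ)
    (hd : Cyc.HasRelDim f d) :
    ∃ j : Over i₀, Cyc.HasRelDim ((pbMap D i₀ g₀ f₀).app j) d := by
  haveI hlfp : ∀ j : Over i₀, LocallyOfFinitePresentation ((pbMap D i₀ g₀ f₀).app j) := fun j =>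
    MorphismProperty.of_isPullback (P := @LocallyOfFinitePresentation)
      (isPullback_pbMap_app D i₀ g₀ f₀ j) inferInstance
  let DX := pbDiagram D i₀ (f₀ ≫ g₀)
  let cX : Cone DX := pbCone c qX (f ≫ g) (hX.paste_vert hY)
  have hcX : IsLimit cX := isLimitPbCone c hc qX (f ≫ g) (hX.paste_vert hY)
  haveI : ∀ (i j : Over i₀) (a : i ⟶ j), IsAffineHom (DX.map a) := fun i j a =>
    isAffineHom_pbDiagram_map D i₀ (f₀ ≫ g₀) a
  let j₁ : Over i₀ := Over.mk (𝟙 i₀)
  haveI : CompactSpace (DX.obj j₁) := compactSpace_pbDiagram_obj' D i₀ (f₀ ≫ g₀) j₁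
  have hsq := isPullback_pbCone_π_pbMap D c i₀ f₀ g₀ f g qY qX hY hX j₁
  haveI : LocallyOfFinitePresentation f :=
    MorphismProperty.of_isPullback (P := @LocallyOfFinitePresentation) hsq inferInstance
  let E : Set (DX.obj j₁) :=
    {x | FlatMor.fibreDimAt ((pbMap D i₀ g₀ f₀).app j₁) x ≠ (d : WithBot ℕ∞)}
  have hE : ProCons.IsProConstructible E := isProConstructible_setOf_fibreDimAt_ne _ d
  have hempty : (⇑(cX.π.app j₁) ⁻¹' E : Set cX.pt) = ∅ := by
    rw [Set.eq_empty_iff_forall_notMem]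
    intro x hx
    apply hx
    exact ((Groth.Agent.S9358.result ((pbMap D i₀ g₀ f₀).app j₁) _ _ f hsq d).1 x).symm.trans
      ((hasRelDim_iff f d).mp hd x)
  obtain ⟨j, φ, hj⟩ := LimProCons.exists_preimage_eq_empty_of_isProConstructible DX cX hcX j₁ E hE
    hempty
  refine ⟨j, (hasRelDim_iff _ d).mpr fun x => ?_⟩
  rw [(Groth.Agent.S9358.result ((pbMap D i₀ g₀ f₀).app j₁) _ _ _
    (isPullback_pbMap_map D i₀ g₀ f₀ φ) d).1 x]
  by_contra hne
  have : x ∈ (⇑(DX.map φ) ⁻¹' E : Set (DX.obj j)) := hne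
  rw [hj] at this
  exact this

end Descend

end Groth.Agent.Lib.Helper12.RelDimDescend
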