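import Mathlib
import Groth.Agent.Lib.Helper12.EquidimOpen2
import Groth.Agent.Lib.Helper12.RelDimDescend
import Groth.Agent.Lib.Helper12.WithBotENat

/-!
# Local dimension for flat morphisms of constant relative dimension
-/

set_option autoImplicit false
universe u
open AlgebraicGeometry CategoryTheory TopologicalSpace Topology

namespace Groth.Agent.Lib.Helper12.FlatRelDim

section Top

variable {T : Type*} [TopologicalSpace T]

attribute [local instance] specializationPreorder

/-- The dimension of a sober space is the supremum of the coheights of its points. -/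
theorem topologicalKrullDim_eq_iSup_coheight [QuasiSober T] [T0Space T] :
    topologicalKrullDim T = ⨆ t : T, ((Order.coheight t : ℕ∞) : WithBot ℕ∞) := by
  unfold topologicalKrullDim
  rw [Order.krullDim_eq_of_orderIso (irreducibleSetEquivPoints (α := T))]
  exact Order.krullDim_eq_iSup_coheight

end Top

/-- The dimension of an open subset is the supremum of the dimensions of the local rings at its
points. -/
theorem dim_opens_eq_iSup (X : Scheme.{u}) (U : X.Opens) :
    topologicalKrullDim (U : Set X) = ⨆ z : (U : Set X), ringKrullDim (X.presheaf.stalk z.1) := by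
  have hemb : IsOpenEmbedding (Subtype.val : ↥(U : Set X) → X) := U.2.isOpenEmbedding_subtypeVal
  haveI : QuasiSober ↥(U : Set X) := hemb.quasiSober
  rw [topologicalKrullDim_eq_iSup_coheight]
  refine iSup_congr fun z => ?_
  rw [ringKrullDim_stalk_eq_coheight, ← hemb.coheight_eq]

open Groth.Agent.Lib.Helper12.SchemeDimIneq Groth.Agent.Lib.Helper12.SchemeDimFT
  Groth.Agent.Lib.Helper12.ClosedSub

/-- Every nonempty open subset of a fibre contains a point whose residue field is algebraic over
that of the base point. -/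
theorem exists_mem_trn_eq_zero {X Y : Scheme.{u}} (f : X ⟶ Y) [LocallyOfFiniteType f]
    (U : X.Opens) (x : X) (hx : x ∈ U) :
    ∃ z : X, z ∈ U ∧ f z = f x ∧ trn f z = 0 := by
  letI ovF : (f.fiber (f x)).Over (Spec (CommRingCat.of (Y.residueField (f x)))) :=
    ⟨f.fiberToSpecResidueField (f x)⟩
  haveI : LocallyOfFiniteType
      ((f.fiber (f x)) ↘ Spec (CommRingCat.of (Y.residueField (f x)))) :=
    FibreRes.locallyOfFiniteType_fiberToSpecResidueField f (f x)
  haveI : JacobsonSpace (f.fiber (f x)) :=
    LocallyOfFiniteType.jacobsonSpace ((f.fiber (f x)) ↘ Spec (CommRingCat.of (Y.residueField (f x))))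
  let V : Set (f.fiber (f x)) := (f.fiberι (f x)) ⁻¹' (U : Set X)
  have hVo : IsOpen V := U.2.preimage (f.fiberι (f x)).continuous
  have hVne : V.Nonempty := ⟨f.asFiber x, by
    show f.fiberι (f x) (f.asFiber x) ∈ U
    rw [f.fiberι_asFiber x]; exact hx⟩
  obtain ⟨c, hcV, hcc⟩ := nonempty_inter_closedPoints hVne hVo.isLocallyClosed
  refine ⟨f.fiberι (f x) c, hcV, ?_, ?_⟩
  · have h3 : f.fiberι (f x) c ∈ Set.range (f.fiberι (f x)) := ⟨c, rfl⟩
    rw [Scheme.Hom.range_fiberι] at h3
    exact h3
  · have h3 : f (f.fiberι (f x) c) = f x := by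
      have h3 : f.fiberι (f x) c ∈ Set.range (f.fiberι (f x)) := ⟨c, rfl⟩
      rw [Scheme.Hom.range_fiberι] at h3
      exact h3
    rw [trn_eq_tr_of_fiber f (f.fiberι (f x) c) (f x) h3 c rfl,
      tr_eq_zero_of_isClosed (Y.residueField (f x)) (f.fiber (f x)) c hcc]
    rfl

section Main

variable {X Y : Scheme.{u}} [IsLocallyNoetherian Y] (f : X ⟶ Y) [Flat f] [LocallyOfFiniteType f]

/-- The dimension formula for the local rings of a flat morphism locally of finite type to a
locally Noetherian scheme. -/
theorem ringKrullDim_stalk_eq_add (z : X) :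
    ringKrullDim (X.presheaf.stalk z) =
      ringKrullDim (Y.presheaf.stalk (f.base z)) +
        ringKrullDim ((f.fiber (f.base z)).presheaf.stalk (f.asFiber z)) := by
  refine Groth.Agent.Lib.Helper12.EquidimOpen.dim_formula_of_isOpenAt f z ?_
  intro z' _ _ _ U hU
  obtain ⟨O, hOU, hO, hzO⟩ := mem_nhds_iff.mp hU
  exact Filter.mem_of_superset ((f.isOpenMap O hO).mem_nhds ⟨z', hzO, rfl⟩)
    (Set.image_mono hOU)

variable (d : ℕ) (hd : ∀ x : X, FlatMor.fibreDimAt f x = (d : WithBot ℕ∞))

include hd in
/-- For a flat morphism of relative dimension `d`, the dimension of an open subset is the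
dimension of its image plus `d`. -/
theorem dim_opens_eq_add (U : X.Opens) :
    topologicalKrullDim (U : Set X) =
      topologicalKrullDim (f.base '' (U : Set X)) + (d : WithBot ℕ∞) := by
  let V : Y.Opens := ⟨f.base '' (U : Set X), f.isOpenMap _ U.2⟩
  show topologicalKrullDim (U : Set X) = topologicalKrullDim (V : Set Y) + (d : WithBot ℕ∞)
  rw [dim_opens_eq_iSup X U, dim_opens_eq_iSup Y V]
  apply le_antisymm
  · refine iSup_le fun z => ?_
    rw [ringKrullDim_stalk_eq_add f z.1]
    have h1 : ringKrullDim (Y.presheaf.stalk (f.base z.1)) ≤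
        ⨆ w : (V : Set Y), ringKrullDim (Y.presheaf.stalk w.1) :=
      le_iSup (fun w : (V : Set Y) => ringKrullDim (Y.presheaf.stalk w.1))
        ⟨f.base z.1, z.1, z.2, rfl⟩
    have h2 : ringKrullDim ((f.fiber (f.base z.1)).presheaf.stalk (f.asFiber z.1)) ≤
        (d : WithBot ℕ∞) := by
      rw [← hd z.1, fibreDimAt_eq_trn_add f z.1]
      calc ringKrullDim ((f.fiber (f.base z.1)).presheaf.stalk (f.asFiber z.1))
          = 0 + ringKrullDim ((f.fiber (f.base z.1)).presheaf.stalk (f.asFiber z.1)) :=
            (zero_add _).symm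
        _ ≤ _ := add_le_add (by exact_mod_cast (zero_le : (0 : ℕ∞) ≤ trn f z.1)) le_rfl
    exact add_le_add h1 h2
  · refine Groth.Agent.Lib.Helper12.WithBotENat.iSup_add_nat_le _ d _ fun w => ?_
    obtain ⟨x₀, hx₀U, hx₀⟩ := w.2
    obtain ⟨z, hzU, hz, hz0⟩ := exists_mem_trn_eq_zero f U x₀ hx₀U
    have h1 : ringKrullDim ((f.fiber (f.base z)).presheaf.stalk (f.asFiber z)) =
        (d : WithBot ℕ∞) := by
      have h2 := fibreDimAt_eq_trn_add f z
      rw [hd z, hz0] at h2
      simpa using h2.symm
    have h3 := ringKrullDim_stalk_eq_add f z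
    rw [h1] at h3
    have h4 : f.base z = w.1 := hz.trans hx₀
    rw [h4] at h3
    rw [← h3]
    exact le_iSup (fun z : (U : Set X) => ringKrullDim (X.presheaf.stalk z.1)) ⟨z, hzU⟩

include hd in
/-- **Dimension formula** for a flat morphism of relative dimension `d` between locally
Noetherian schemes: `dim_x X = dim_{f x} Y + d`. -/
theorem localDim_eq_add (x : X) :
    FlatMor.localDim X x = FlatMor.localDim Y (f.base x) + (d : WithBot ℕ∞) := by
  apply le_antisymm
  · obtain ⟨⟨V₀, hyV₀⟩, hV₀⟩ := Groth.Agent.Lib.Helper9.exists_opens_localDim_eq (f.base x)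
    rw [← hV₀]
    let U : X.Opens := f ⁻¹ᵁ V₀
    refine (Groth.Agent.Lib.Helper9.localDim_le_of_mem U (x := x) hyV₀).trans ?_
    rw [dim_opens_eq_add f d hd U]
    refine add_le_add ?_ le_rfl
    have hsub : f.base '' (U : Set X) ⊆ (V₀ : Set Y) := by
      rintro _ ⟨a, ha, rfl⟩
      exact ha
    exact (Topology.IsEmbedding.inclusion hsub).isInducing.topologicalKrullDim_le
  · unfold FlatMor.localDim
    refine le_iInf fun U => ?_
    rw [dim_opens_eq_add f d hd U.1]
    refine add_le_add ?_ le_rfl
    exact iInf_le (fun V : {V : Opens Y // f.base x ∈ V} => topologicalKrullDim (V.1 : Set Y))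
      ⟨⟨f.base '' (U.1 : Set X), f.isOpenMap _ U.1.2⟩, ⟨x, U.2, rfl⟩⟩

end Main

end Groth.Agent.Lib.Helper12.FlatRelDim
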