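import Mathlib
import Groth.Prelude.Def_Cyc
import Groth.Agent.Lib.Helper12.SchemeDimIneq2
import Groth.Agent.Lib.Helper12.FlatRelDim
import Groth.Agent.Lib.Helper12.ClosedSub
import Groth.Agent.Lib.Helper12.FibreMax

/-!
# Fibres of a flat morphism of irreducible schemes over a universally catenary base are
equidimensional (helper12)
-/

set_option autoImplicit false
set_option linter.style.haveILetI false
universe u
open AlgebraicGeometry CategoryTheory Topology TopologicalSpace

namespace Groth.Agent.Lib.Helper12.FlatRelDimCyc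

open Groth.Agent.Lib.Helper12 Groth.Agent.Lib.Helper12.SchemeDimFT
  Groth.Agent.Lib.Helper12.SchemeDimIneq Groth.Agent.Lib.Helper12.ClosedSub
  Groth.Agent.Lib.Helper12.ChevalleyCor

variable {X Y : Scheme.{u}} (f : X ⟶ Y) [Flat f] [LocallyOfFiniteType f]
  [IrreducibleSpace X] [IrreducibleSpace Y]

theorem map_genericPoint_of_flat : f (genericPoint X) = genericPoint Y := by
  have h1 : genericPoint Y ⤳ f (genericPoint X) := genericPoint_specializes _
  obtain ⟨x', hx', hfx'⟩ := Flat.generalizingMap (f := f) h1
  have : x' = genericPoint X := by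
    have h2 : genericPoint X ⤳ x' := genericPoint_specializes _
    exact (hx'.antisymm h2).eq
  rw [← hfx', this]

theorem isDominant_of_flat : IsDominant f := by
  refine ⟨?_⟩
  intro y
  have h1 : genericPoint Y ⤳ y := genericPoint_specializes y
  have h2 : genericPoint Y ∈ Set.range f := ⟨genericPoint X, map_genericPoint_of_flat f⟩
  exact (specializes_iff_mem_closure.mp h1 |> fun h =>
    closure_mono (Set.singleton_subset_iff.mpr h2) h)

/-- the residue transcendence degree at a point maximal in its fibre is that of the generic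
point -/
theorem trn_eq_of_max [IsLocallyNoetherian Y]
    (hcat : ∀ y : Y, CAlg.IsUniversallyCatenary (Y.presheaf.stalk y)) (y : Y) (t : f.fiber y)
    (ht : ∀ z : f.fiber y, z ⤳ t → z = t) :
    trn f (f.fiberι y t) = trn f (genericPoint X) := by
  haveI := isDominant_of_flat f
  haveI : IsLocallyNoetherian X := LocallyOfFiniteType.isLocallyNoetherian f
  set x := f.fiberι y t with hx
  have hfx : f x = y := by
    have h3 : f.fiberι y t ∈ Set.range (f.fiberι y) := ⟨t, rfl⟩
    rw [Scheme.Hom.range_fiberι] at h3
    exact h3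
  have h1 := dim_stalk_add_trn_eq f x (hcat _)
  have h2 := FlatRelDim.ringKrullDim_stalk_eq_add f x
  -- the local ring of the fibre at `t` has dimension zero
  have h0 : ringKrullDim ((f.fiber (f x)).presheaf.stalk (f.asFiber x)) = 0 := by
    have key : ∀ (y' : Y) (hy' : y' = y) (t' : f.fiber y'), f.fiberι y' t' = x →
        ringKrullDim ((f.fiber y').presheaf.stalk t') = 0 := by
      rintro y' rfl t' ht'
      have : t' = t := (f.fiberι y').isEmbedding.injective ht'
      subst this
      rw [ringKrullDim_stalk_eq_coheight]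
      have : Order.coheight t' = 0 := by
        rw [Order.coheight_eq_zero]
        intro b hb
        have hb' : b ⤳ t' := hb
        rw [ht b hb']
      rw [this]; rfl
    exact key (f x) hfx (f.asFiber x) (f.fiberι_asFiber x)
  rw [h0, add_zero] at h2
  obtain ⟨a, ha⟩ := FibreMax.exists_nat_ringKrullDim_stalk Y (f x)
  obtain ⟨t₁, ht₁⟩ := exists_trn_eq f x
  have hgen : topologicalKrullDim (f.fiber (genericPoint Y)) =
      ((trn f (genericPoint X) : ℕ∞) : WithBot ℕ∞) := by
    rw [← dim_generic_fiber_eq_trn f]
    exact dim_fiber_congr f (map_genericPoint_of_flat f).symm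
  obtain ⟨t₂, ht₂⟩ := exists_trn_eq f (genericPoint X)
  rw [h2, ha, hgen, ht₁, ht₂] at h1
  rw [ht₁, ht₂]
  have h3 : a + t₁ = a + t₂ := by exact_mod_cast h1
  have : t₁ = t₂ := by omega
  rw [this]

/-- **S17840**. -/
theorem hasRelDim_of_flat_of_irreducible (δX : X → ℤ) (δY : Y → ℤ) (hY : Cyc.IsSetup Y δY)
    (hδ : Cyc.DeltaCompat f δX δY) :
    0 ≤ δX (genericPoint X) - δY (genericPoint Y) ∧
      Cyc.HasRelDim f (δX (genericPoint X) - δY (genericPoint Y)).toNat ∧
      ∀ x : X, topologicalKrullDim ↥(f.fiber (f x)) =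
        ((δX (genericPoint X) - δY (genericPoint Y)).toNat : WithBot ℕ∞) := by
  classical
  obtain ⟨hnoeth, hcat, -⟩ := hY
  haveI := hnoeth
  obtain ⟨n, hn1, hn2⟩ := hδ (genericPoint X)
  rw [map_genericPoint_of_flat f] at hn2
  have hd : δX (genericPoint X) - δY (genericPoint Y) = (n : ℤ) := by rw [hn2]; ring
  have htrn : trn f (genericPoint X) = (n : ℕ∞) := by
    unfold trn
    rw [hn1]
    simp
  rw [hd]
  have hcomp : ∀ (y : Y) (t : f.fiber y), (∀ z : f.fiber y, z ⤳ t → z = t) →
      letI ovF : (f.fiber y).Over (Spec (CommRingCat.of (Y.residueField y))) :=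
        ⟨f.fiberToSpecResidueField y⟩
      haveI : LocallyOfFiniteType ((f.fiber y) ↘ Spec (CommRingCat.of (Y.residueField y))) :=
        FibreRes.locallyOfFiniteType_fiberToSpecResidueField f y
      tr (Y.residueField y) (f.fiber y) t = n := by
    intro y t ht
    have h1 := trn_eq_of_max f hcat y t ht
    have hfx : f (f.fiberι y t) = y := by
      have h3 : f.fiberι y t ∈ Set.range (f.fiberι y) := ⟨t, rfl⟩
      rw [Scheme.Hom.range_fiberι] at h3
      exact h3
    rw [trn_eq_tr_of_fiber f (f.fiberι y t) y hfx t rfl, htrn] at h1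
    exact_mod_cast h1
  refine ⟨by exact_mod_cast Nat.zero_le n, ?_, ?_⟩
  · intro y T hT
    letI ovF : (f.fiber y).Over (Spec (CommRingCat.of (Y.residueField y))) :=
      ⟨f.fiberToSpecResidueField y⟩
    haveI : LocallyOfFiniteType ((f.fiber y) ↘ Spec (CommRingCat.of (Y.residueField y))) :=
      FibreRes.locallyOfFiniteType_fiberToSpecResidueField f y
    obtain ⟨t, ht, rfl⟩ := (SchemeDimFT.mem_irreducibleComponents_iff T).mp hT
    rw [topologicalKrullDim_closure_singleton (Y.residueField y) (f.fiber y) t, hcomp y t ht]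
    simp
  · intro x
    set y := f x with hy
    letI ovF : (f.fiber y).Over (Spec (CommRingCat.of (Y.residueField y))) :=
      ⟨f.fiberToSpecResidueField y⟩
    haveI : LocallyOfFiniteType ((f.fiber y) ↘ Spec (CommRingCat.of (Y.residueField y))) :=
      FibreRes.locallyOfFiniteType_fiberToSpecResidueField f y
    simp only [Int.toNat_natCast]
    apply le_antisymm
    · refine FibreRes.topologicalKrullDim_le_of_forall_tr (Y.residueField y) (f.fiber y) _ ?_
      intro z
      obtain ⟨m, hm, hmz⟩ := exists_isMaxPt_specializes z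
      have h1 := tr_le_of_specializes (Y.residueField y) (f.fiber y) m z hmz
      rw [hcomp y m hm] at h1
      exact_mod_cast h1
    · obtain ⟨m, hm, -⟩ := exists_isMaxPt_specializes (f.asFiber x)
      have h1 := FibreRes.tr_le_topologicalKrullDim (Y.residueField y) (f.fiber y) m
      rw [hcomp y m hm] at h1
      exact h1

end Groth.Agent.Lib.Helper12.FlatRelDimCyc
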