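import Mathlib

universe u

open CategoryTheory Limits AlgebraicGeometry TopologicalSpace Opposite

set_option backward.isDefEq.respectTransparency false
set_option linter.style.haveILetI false

namespace Groth.Agent.Lib.Helper12.IdealFG

open Scheme IdealSheafData

/-- An ideal sheaf which is finitely generated on affine opens defines a closed immersion of finite
presentation. -/
lemma locallyOfFinitePresentation_subschemeι {Y : Scheme.{u}} (J : Y.IdealSheafData)
    (hJ : ∀ U : Y.affineOpens, (J.ideal U).FG) : LocallyOfFinitePresentation J.subschemeι := by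
  rw [IsZariskiLocalAtSource.iff_of_openCover (P := @LocallyOfFinitePresentation)
    J.subschemeCover.openCover]
  intro U
  change LocallyOfFinitePresentation (J.subschemeCover.f U ≫ J.subschemeι)
  rw [subschemeCover_map_subschemeι, glueDataObjι_ι]
  haveI : LocallyOfFinitePresentation
      (Spec.map (CommRingCat.ofHom (Ideal.Quotient.mk (J.ideal U)))) := by
    rw [HasRingHomProperty.Spec_iff (P := @LocallyOfFinitePresentation)]
    exact RingHom.FinitePresentation.of_surjective _ Ideal.Quotient.mk_surjective
      (by
        have : RingHom.ker (Ideal.Quotient.mk (J.ideal U)) = J.ideal U := Ideal.mk_ker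
        change (RingHom.ker (Ideal.Quotient.mk (J.ideal U))).FG
        rw [this]
        exact hJ U)
  infer_instance

/-- The ideal sheaf of a closed immersion of finite presentation is finitely generated on affine
opens. -/
lemma fg_ker_ideal {Z Y : Scheme.{u}} (h : Z ⟶ Y) [IsClosedImmersion h]
    [LocallyOfFinitePresentation h] (U : Y.affineOpens) : (h.ker.ideal U).FG := by
  rw [Hom.ker_apply]
  have hU : IsAffineOpen (h ⁻¹ᵁ U.1) := U.2.preimage h
  have h1 : RingHom.FinitePresentation (h.app U.1).hom := by
    rw [Scheme.Hom.app_eq_appLE]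
    exact HasRingHomProperty.appLE (P := @LocallyOfFinitePresentation) h inferInstance U
      ⟨_, hU⟩ le_rfl
  have h2 : Function.Surjective (h.app U.1).hom := h.app_surjective U.1 U.2
  letI := (h.app U.1).hom.toAlgebra
  haveI : Algebra.FinitePresentation Γ(Y, U.1) Γ(Z, h ⁻¹ᵁ U.1) := h1
  have := Algebra.FinitePresentation.ker_fG_of_surjective
    (Algebra.ofId Γ(Y, U.1) Γ(Z, h ⁻¹ᵁ U.1)) h2
  exact this

end Groth.Agent.Lib.Helper12.IdealFG
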