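import Mathlib
import Groth.Agent.Lib.Helper12.IdealFG
import Groth.Agent.Lib.Helper12.FibreSep

/-!
# Helper library (helper12): chains of closed subschemes with smooth strata

* `rc a`: the open complement of the range of a morphism;
* `Chain t f`: `X` has a chain of `t` finitely presented closed subschemes, ending in the empty
  scheme, whose successive differences are smooth over the base;
* `Good f`: some surjective finitely presented closed subscheme of `X` admits a chain;
* these are stable under base change.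
-/

universe u

open CategoryTheory CategoryTheory.Limits AlgebraicGeometry Topology

set_option backward.isDefEq.respectTransparency false
set_option linter.style.haveILetI false

namespace Groth.Agent.Lib.Helper12.SmStrat

/-- The open complement of the range of a morphism (the interior of the complement). -/
def rc {Z X : Scheme.{u}} (a : Z ⟶ X) : X.Opens := ⟨interior (Set.range a)ᶜ, isOpen_interior⟩

lemma coe_rc {Z X : Scheme.{u}} (a : Z ⟶ X) [IsClosedImmersion a] :
    (rc a : Set X) = (Set.range a)ᶜ :=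
  (a.isClosedEmbedding.isClosed_range.isOpen_compl).interior_eq

lemma mem_rc {Z X : Scheme.{u}} (a : Z ⟶ X) [IsClosedImmersion a] (x : X) :
    x ∈ rc a ↔ x ∉ Set.range a := by
  change x ∈ (rc a : Set X) ↔ _
  rw [coe_rc]
  rfl

/-- The complement of the range is compatible with base change. -/
lemma preimage_rc {Z X Z' X' : Scheme.{u}} {a : Z ⟶ X} {a' : Z' ⟶ X'} {p' : Z' ⟶ Z} {p : X' ⟶ X}
    (sq : IsPullback p' a' a p) [IsClosedImmersion a] : p ⁻¹ᵁ rc a = rc a' := by
  haveI : IsClosedImmersion a' := MorphismProperty.of_isPullback sq inferInstance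
  ext x
  change p x ∈ rc a ↔ x ∈ rc a'
  rw [mem_rc, mem_rc, FibreSep.range_eq_preimage_of_isPullback sq]
  rfl

/-- The complements of the ranges form a cartesian square. -/
lemma exists_isPullback_rc {Z X Z' X' : Scheme.{u}} {a : Z ⟶ X} {a' : Z' ⟶ X'} {p' : Z' ⟶ Z}
    {p : X' ⟶ X} (sq : IsPullback p' a' a p) [IsClosedImmersion a] :
    ∃ r : (rc a' : Scheme.{u}) ⟶ rc a, IsPullback r (rc a').ι (rc a).ι p := by
  have h := preimage_rc sq
  obtain ⟨V, hV⟩ : ∃ V : X'.Opens, V = rc a' := ⟨_, rfl⟩
  rw [← hV]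
  rw [← hV] at h
  subst h
  exact ⟨p ∣_ rc a, isPullback_morphismRestrict p (rc a)⟩

/-- The complement of a finitely presented closed subscheme is retrocompact. -/
lemma quasiCompact_rc_ι {Z X : Scheme.{u}} (a : Z ⟶ X) [IsClosedImmersion a]
    [LocallyOfFinitePresentation a] : QuasiCompact (rc a).ι := by
  rw [quasiCompact_iff_forall_isAffineOpen]
  intro O hO
  have h1 : ((rc a).ι ⁻¹ᵁ O : Set (rc a)) = (rc a).ι ⁻¹' ((O : Set X) ∩ (rc a : Set X)) := by
    ext x
    simp only [TopologicalSpace.Opens.map_coe, Set.mem_preimage, SetLike.mem_coe, Set.mem_inter_iff]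
    exact ⟨fun h => ⟨h, x.2⟩, fun h => h.1⟩
  rw [h1, (rc a).ι.isOpenEmbedding.isInducing.isCompact_preimage_iff
    (by rw [Scheme.Opens.range_ι]; exact Set.inter_subset_right)]
  obtain ⟨s, hs⟩ := IdealFG.fg_ker_ideal a ⟨O, hO⟩
  have h2 : (O : Set X) ∩ (rc a : Set X) = ⋃ f ∈ s, (X.basicOpen f : Set X) := by
    have h3 : (a.ker.support : Set X) = Set.range a := by
      rw [Scheme.Hom.support_ker, a.isClosedEmbedding.isClosed_range.closure_eq]
    have h4 := a.ker.coe_support_inter ⟨O, hO⟩
    rw [h3, ← hs, Scheme.zeroLocus_span] at h4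
    rw [coe_rc]
    ext x
    simp only [Set.mem_inter_iff, Set.mem_compl_iff, Set.mem_iUnion, SetLike.mem_coe, exists_prop]
    constructor
    · rintro ⟨hxO, hx⟩
      by_contra hcon
      push Not at hcon
      have : x ∈ X.zeroLocus (U := O) (s : Set Γ(X, O)) ∩ (O : Set X) := by
        refine ⟨?_, hxO⟩
        rw [Scheme.mem_zeroLocus_iff]
        intro f hf
        exact hcon f hf
      rw [← h4] at this
      exact hx this.1
    · rintro ⟨f, hf, hxf⟩
      have hxO : x ∈ O := X.basicOpen_le f hxf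
      refine ⟨hxO, fun hx => ?_⟩
      have : x ∈ X.zeroLocus (U := O) (s : Set Γ(X, O)) ∩ (O : Set X) := by
        rw [← h4]; exact ⟨hx, hxO⟩
      have h5 := this.1
      rw [Scheme.mem_zeroLocus_iff] at h5
      exact h5 f hf hxf
  rw [h2]
  exact s.finite_toSet.isCompact_biUnion fun f _ => (hO.basicOpen f).isCompact


/-- `Chain t f`: there is a chain of `t` finitely presented closed subschemes
`X ⊇ Z₁ ⊇ … ⊇ Z_t = ∅` such that the successive differences are smooth over the base. -/
def Chain : ℕ → MorphismProperty Scheme.{u}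
  | 0 => fun X _ _ => IsEmpty X
  | (t + 1) => fun X _ f => ∃ (Z : Scheme.{u}) (a : Z ⟶ X), IsClosedImmersion a ∧
      LocallyOfFinitePresentation a ∧ Smooth ((rc a).ι ≫ f) ∧ Chain t (a ≫ f)

lemma chain_zero {X Y : Scheme.{u}} (f : X ⟶ Y) : Chain 0 f ↔ IsEmpty X := Iff.rfl

lemma chain_succ (t : ℕ) {X Y : Scheme.{u}} (f : X ⟶ Y) :
    Chain (t + 1) f ↔ ∃ (Z : Scheme.{u}) (a : Z ⟶ X), IsClosedImmersion a ∧
      LocallyOfFinitePresentation a ∧ Smooth ((rc a).ι ≫ f) ∧ Chain t (a ≫ f) := Iff.rfl

/-- The smooth-complement condition is stable under base change. -/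
lemma smooth_rc_of_isPullback {Z X Y Z' X' Y' : Scheme.{u}} {a : Z ⟶ X} {f : X ⟶ Y}
    {a' : Z' ⟶ X'} {f' : X' ⟶ Y'} {pZ : Z' ⟶ Z} {pX : X' ⟶ X} {pY : Y' ⟶ Y}
    (sqa : IsPullback pZ a' a pX) (sqf : IsPullback pX f' f pY) [IsClosedImmersion a]
    (h : Smooth ((rc a).ι ≫ f)) : Smooth ((rc a').ι ≫ f') := by
  obtain ⟨r, hr⟩ := exists_isPullback_rc sqa
  exact MorphismProperty.of_isPullback (P := @Smooth) (hr.paste_vert sqf) h

theorem Chain.of_isPullback : ∀ (t : ℕ) {X Y X' Y' : Scheme.{u}} {f : X ⟶ Y} {f' : X' ⟶ Y'}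
    {p : X' ⟶ X} {q : Y' ⟶ Y} (_ : IsPullback p f' f q), Chain t f → Chain t f'
  | 0, _, _, _, _, _, _, p, _, _, h => by
      rw [chain_zero] at h ⊢
      exact Function.isEmpty p
  | (t + 1), X, Y, X', Y', f, f', p, q, sq, h => by
      rw [chain_succ] at h ⊢
      obtain ⟨Z, a, h1, h2, h3, h4⟩ := h
      have sqa : IsPullback (pullback.fst a p) (pullback.snd a p) a p := IsPullback.of_hasPullback a p
      refine ⟨pullback a p, pullback.snd a p, inferInstance, inferInstance,
        smooth_rc_of_isPullback sqa sq h3, ?_⟩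
      exact Chain.of_isPullback t (sqa.paste_vert sq) h4

instance (t : ℕ) : (Chain.{u} t).IsStableUnderBaseChange where
  of_isPullback sq h := Chain.of_isPullback t sq h

/-- `Good f`: a surjective finitely presented closed subscheme of the source admits a chain with
smooth strata. -/
def Good : MorphismProperty Scheme.{u} := fun X _ f =>
  ∃ (Z : Scheme.{u}) (a : Z ⟶ X), IsClosedImmersion a ∧ LocallyOfFinitePresentation a ∧
    Surjective a ∧ ∃ t, Chain t (a ≫ f)

theorem Good.of_isPullback {X Y X' Y' : Scheme.{u}} {f : X ⟶ Y} {f' : X' ⟶ Y'}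
    {p : X' ⟶ X} {q : Y' ⟶ Y} (sq : IsPullback p f' f q) (h : Good f) : Good f' := by
  obtain ⟨Z, a, h1, h2, h3, t, h4⟩ := h
  have sqa : IsPullback (pullback.fst a p) (pullback.snd a p) a p := IsPullback.of_hasPullback a p
  exact ⟨pullback a p, pullback.snd a p, inferInstance, inferInstance, inferInstance, t,
    Chain.of_isPullback t (sqa.paste_vert sq) h4⟩

instance : Good.{u}.IsStableUnderBaseChange where
  of_isPullback sq h := Good.of_isPullback sq h

end Groth.Agent.Lib.Helper12.SmStrat
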