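import Mathlib
import Groth.Agent.Lib.Helper12.SmStrat

/-!
# Helper library (helper12): from chains of closed subschemes to chains of ideal sheaves
-/

universe u

open CategoryTheory CategoryTheory.Limits AlgebraicGeometry Topology

set_option backward.isDefEq.respectTransparency false
set_option linter.style.haveILetI false

namespace Groth.Agent.Lib.Helper12.SmStrat

/-- Transport of smoothness of an open piece of a closed subscheme to the subscheme of its
kernel. -/
lemma smooth_subscheme_of_smooth {Z P V : Scheme.{u}} (b : Z ⟶ P) [IsClosedImmersion b]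
    (h : P ⟶ V) (W : P.Opens) (W' : Z.Opens) (hW : W' = b ⁻¹ᵁ W)
    (hs : Smooth (W'.ι ≫ b ≫ h)) :
    Smooth ((b.ker.subschemeι ⁻¹ᵁ W).ι ≫ b.ker.subschemeι ≫ h) := by
  subst hW
  have e1 : b.toImage ⁻¹ᵁ (b.ker.subschemeι ⁻¹ᵁ W) = b ⁻¹ᵁ W := by
    rw [← Scheme.Hom.comp_preimage, Scheme.Hom.toImage_imageι]
  have e2 : (b.toImage ∣_ (b.ker.subschemeι ⁻¹ᵁ W)) ≫ (b.ker.subschemeι ⁻¹ᵁ W).ι =
      (b.toImage ⁻¹ᵁ (b.ker.subschemeι ⁻¹ᵁ W)).ι ≫ b.toImage := morphismRestrict_ι _ _
  have e3 : (b.ker.subschemeι ⁻¹ᵁ W).ι ≫ b.ker.subschemeι ≫ h =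
      inv (b.toImage ∣_ (b.ker.subschemeι ⁻¹ᵁ W)) ≫
        (b.toImage ⁻¹ᵁ (b.ker.subschemeι ⁻¹ᵁ W)).ι ≫ b ≫ h := by
    rw [IsIso.eq_inv_comp, ← Category.assoc, e2, Category.assoc,
      ← Category.assoc b.toImage, Scheme.Hom.toImage_imageι]
  rw [e3]
  have hs' : Smooth ((b.toImage ⁻¹ᵁ (b.ker.subschemeι ⁻¹ᵁ W)).ι ≫ b ≫ h) := by
    rw [e1]; exact hs
  infer_instance

open Scheme IdealSheafData in
/-- A chain of closed subschemes gives a chain of ideal sheaves. -/
theorem exists_ideals_of_chain : ∀ (t : ℕ) {Z P V : Scheme.{u}} (b : Z ⟶ P) (h : P ⟶ V)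
    [IsClosedImmersion b] [LocallyOfFinitePresentation b], Chain t (b ≫ h) →
    ∃ J : Fin (t + 1) → P.IdealSheafData, Monotone J ∧ J 0 = b.ker ∧ J (Fin.last t) = ⊤ ∧
      (∀ i, ∀ O : P.affineOpens, ((J i).ideal O).FG) ∧
      ∀ i : Fin t, Smooth (((J i.castSucc).subschemeι ⁻¹ᵁ (J i.succ).support.compl).ι ≫
        (J i.castSucc).subschemeι ≫ h)
  | 0, Z, P, V, b, h, _, _, hc => by
    rw [chain_zero] at hc
    haveI := hc
    refine ⟨fun _ => b.ker, monotone_const, rfl, ker_eq_top_of_isEmpty b,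
      fun _ O => IdealFG.fg_ker_ideal b O, fun i => i.elim0⟩
  | (t + 1), Z, P, V, b, h, _, _, hc => by
    rw [chain_succ] at hc
    obtain ⟨Z', a, ha1, ha2, ha3, ha4⟩ := hc
    haveI := ha1
    haveI := ha2
    have ha4' : Chain t ((a ≫ b) ≫ h) := by rw [Category.assoc]; exact ha4
    obtain ⟨J', hJ1, hJ2, hJ3, hJ4, hJ5⟩ := exists_ideals_of_chain t (a ≫ b) h ha4'
    refine ⟨Fin.cons b.ker J', ?_, ?_, ?_, ?_, ?_⟩
    · rw [Fin.monotone_iff_le_succ]
      intro i
      induction i using Fin.cases with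
      | zero =>
        rw [Fin.castSucc_zero, Fin.cons_zero, Fin.cons_succ, hJ2]
        exact Scheme.Hom.le_ker_comp a b
      | succ j =>
        rw [← Fin.succ_castSucc, Fin.cons_succ, Fin.cons_succ]
        exact hJ1 (Fin.castSucc_le_succ j)
    · exact Fin.cons_zero _ _
    · rw [← Fin.succ_last, Fin.cons_succ]
      exact hJ3
    · intro i
      induction i using Fin.cases with
      | zero => intro O; rw [Fin.cons_zero]; exact IdealFG.fg_ker_ideal b O
      | succ j => intro O; rw [Fin.cons_succ]; exact hJ4 j O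
    · intro i
      induction i using Fin.cases with
      | zero =>
        rw [Fin.castSucc_zero, Fin.cons_zero, Fin.cons_succ, hJ2]
        refine smooth_subscheme_of_smooth b h _ (rc a) ?_ ha3
        ext z
        change z ∈ rc a ↔ b z ∈ ((a ≫ b).ker.support.compl : Set P)
        rw [mem_rc, TopologicalSpace.Closeds.coe_compl, Set.mem_compl_iff,
          Scheme.Hom.support_ker, (a ≫ b).isClosedEmbedding.isClosed_range.closure_eq]
        constructor
        · rintro hz ⟨w, hw⟩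
          refine hz ⟨w, b.isClosedEmbedding.injective ?_⟩
          rw [← Scheme.Hom.comp_apply]; exact hw
        · rintro hz ⟨w, rfl⟩
          exact hz ⟨w, by rw [Scheme.Hom.comp_apply]⟩
      | succ j =>
        rw [← Fin.succ_castSucc, Fin.cons_succ, Fin.cons_succ]
        exact hJ5 j

open Scheme IdealSheafData in
/-- A smooth stratification in the sense of `Good` gives a chain of ideal sheaves of finite type
with smooth strata. -/
theorem exists_ideals_of_good {P V : Scheme.{u}} (h : P ⟶ V) (hg : Good h) :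
    ∃ (t : ℕ) (J : Fin (t + 1) → P.IdealSheafData), Monotone J ∧ J (Fin.last t) = ⊤ ∧
      ((J 0).support : Set P) = Set.univ ∧ (∀ i, ∀ O : P.affineOpens, ((J i).ideal O).FG) ∧
      ∀ i : Fin t, Smooth (((J i.castSucc).subschemeι ⁻¹ᵁ (J i.succ).support.compl).ι ≫
        (J i.castSucc).subschemeι ≫ h) := by
  obtain ⟨Z, a, h1, h2, h3, t, h4⟩ := hg
  haveI := h1
  haveI := h2
  obtain ⟨J, hJ1, hJ2, hJ3, hJ4, hJ5⟩ := exists_ideals_of_chain t a h h4
  refine ⟨t, J, hJ1, hJ3, ?_, hJ4, hJ5⟩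
  rw [hJ2, Scheme.Hom.support_ker, a.isClosedEmbedding.isClosed_range.closure_eq]
  exact Set.range_eq_univ.mpr h3.surj

end Groth.Agent.Lib.Helper12.SmStrat
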