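import Mathlib
import Groth.Agent.Lib.Helper12.SmStrat
import Groth.Agent.Lib.Helper12.SecCompBC
import Groth.Agent.Lib.Helper7.RedLib
import Groth.Agent.S2769

/-!
# Helper library (helper12): smooth stratifications over a perfect field
-/

universe u

open CategoryTheory CategoryTheory.Limits AlgebraicGeometry Topology

set_option backward.isDefEq.respectTransparency false
set_option linter.style.haveILetI false

namespace Groth.Agent.Lib.Helper12.SmStrat

/-- A reduced scheme of finite type over a perfect field has a dense open subscheme which is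
smooth. -/
theorem exists_dense_smooth (k : Type u) [Field k] [PerfectField k] {X : Scheme.{u}} [IsReduced X]
    (f : X ⟶ Spec (CommRingCat.of k)) [LocallyOfFiniteType f] [QuasiCompact f] :
    ∃ U : X.Opens, Dense (U : Set X) ∧ Smooth (U.ι ≫ f) := by
  obtain ⟨U, hU, k', _, _, _, _, Z, _, i, hi1, hi2, hi3⟩ := Groth.Agent.S2769.result k f
  refine ⟨U, hU, ?_⟩
  haveI : Algebra.IsSeparable k k' := inferInstance
  have hbij : Function.Bijective (algebraMap k k') :=
    ⟨(algebraMap k k').injective, IsPurelyInseparable.surjective_algebraMap_of_isSeparable k k'⟩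
  haveI : IsIso (CommRingCat.ofHom (algebraMap k k')) :=
    (ConcreteCategory.isIso_iff_bijective _).mpr hbij
  haveI : IsIso (Spec.map (CommRingCat.ofHom (algebraMap k k'))) := inferInstance
  haveI : IsIso (pullback.fst (U.ι ≫ f) (Spec.map (CommRingCat.ofHom (algebraMap k k')))) :=
    inferInstance
  haveI : IsReduced (pullback (U.ι ≫ f) (Spec.map (CommRingCat.ofHom (algebraMap k k')))) :=
    isReduced_of_isOpenImmersion
      (pullback.fst (U.ι ≫ f) (Spec.map (CommRingCat.ofHom (algebraMap k k'))))
  haveI : Surjective i := ⟨hi2⟩
  haveI : IsIso i := isIso_of_isClosedImmersion_of_surjective i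
  haveI := hi3
  have e : U.ι ≫ f = inv (i ≫ pullback.fst (U.ι ≫ f)
      (Spec.map (CommRingCat.ofHom (algebraMap k k')))) ≫
      (i ≫ pullback.snd (U.ι ≫ f) (Spec.map (CommRingCat.ofHom (algebraMap k k')))) ≫
      Spec.map (CommRingCat.ofHom (algebraMap k k')) := by
    rw [IsIso.eq_inv_comp, Category.assoc, Category.assoc, pullback.condition]
  rw [e]
  infer_instance

open Scheme IdealSheafData in
/-- Over a perfect field, every reduced closed subscheme of a scheme of finite type admits a chain
of closed subschemes with smooth strata. -/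
theorem exists_chain_of_perfect (k : Type u) [Field k] [PerfectField k] {X : Scheme.{u}}
    (f : X ⟶ Spec (CommRingCat.of k)) [LocallyOfFiniteType f] [QuasiCompact f]
    (T : TopologicalSpace.Closeds X) :
    ∃ t, Chain t ((vanishingIdeal T).subschemeι ≫ f) := by
  haveI : IsLocallyNoetherian X := LocallyOfFiniteType.isLocallyNoetherian f
  haveI : CompactSpace X := QuasiCompact.compactSpace_of_compactSpace f
  haveI : IsNoetherian X := {}
  induction T using WellFoundedLT.induction with
  | ind T IH =>
  by_cases hT : (T : Set X) = ∅
  · refine ⟨0, ?_⟩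
    rw [chain_zero]
    have h1 : Set.range (vanishingIdeal T).subschemeι = ∅ := by
      rw [range_subschemeι, coe_support_vanishingIdeal, hT]
    exact Set.range_eq_empty_iff.mp h1
  · haveI : IsReduced (vanishingIdeal T).subscheme :=
      Groth.Agent.Lib.Helper7.isReduced_vanishingIdeal_subscheme T
    obtain ⟨U, hUd, hUs⟩ := exists_dense_smooth k ((vanishingIdeal T).subschemeι ≫ f)
    have hrange : Set.range (vanishingIdeal T).subschemeι = (T : Set X) := by
      rw [range_subschemeι, coe_support_vanishingIdeal]
    have hcl : IsClosed ((vanishingIdeal T).subschemeι '' ((U : Set (vanishingIdeal T).subscheme)ᶜ)) :=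
      (vanishingIdeal T).subschemeι.isClosedEmbedding.isClosedMap _ U.2.isClosed_compl
    let T' : TopologicalSpace.Closeds X := ⟨_, hcl⟩
    have hT'le : T' ≤ T := by
      intro x hx
      obtain ⟨z, -, rfl⟩ := hx
      have : (vanishingIdeal T).subschemeι z ∈ Set.range (vanishingIdeal T).subschemeι := ⟨z, rfl⟩
      rw [hrange] at this
      exact this
    have hT'lt : T' < T := by
      refine lt_of_le_of_ne hT'le fun heq => ?_
      obtain ⟨x, hx⟩ := Set.nonempty_iff_ne_empty.mpr hT
      rw [← hrange] at hx
      obtain ⟨z, rfl⟩ := hx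
      haveI : Nonempty (vanishingIdeal T).subscheme := ⟨z⟩
      obtain ⟨u, hu⟩ := hUd.nonempty
      have h1 : (vanishingIdeal T).subschemeι u ∈ (T : Set X) := by
        rw [← hrange]; exact ⟨u, rfl⟩
      have h1' : (vanishingIdeal T).subschemeι u ∈ (T' : Set X) := by
        have e : (T' : Set X) = (T : Set X) :=
          congrArg (fun C : TopologicalSpace.Closeds X => (C : Set X)) heq
        rw [e]; exact h1
      obtain ⟨z', hz', hz'u⟩ := h1'
      have := (vanishingIdeal T).subschemeι.isClosedEmbedding.injective hz'u
      exact hz' (this ▸ hu)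
    obtain ⟨t', ht'⟩ := IH T' hT'lt
    have hle : vanishingIdeal T ≤ vanishingIdeal T' := vanishingIdeal_antimono hT'le
    haveI : IsClosedImmersion (inclusion hle) := by
      have : IsClosedImmersion (inclusion hle ≫ (vanishingIdeal T).subschemeι) := by
        rw [inclusion_subschemeι]; infer_instance
      exact IsClosedImmersion.of_comp (inclusion hle) (vanishingIdeal T).subschemeι
    haveI : IsLocallyNoetherian (vanishingIdeal T).subscheme :=
      LocallyOfFiniteType.isLocallyNoetherian (vanishingIdeal T).subschemeι
    haveI : LocallyOfFinitePresentation (inclusion hle) :=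
      Groth.Agent.Lib.Helper12.SecCompBC.locallyOfFinitePresentation_of_isLocallyNoetherian _
    have hrc : rc (inclusion hle) = U := by
      ext z
      change z ∈ rc (inclusion hle) ↔ z ∈ U
      rw [mem_rc]
      have hr' : Set.range (vanishingIdeal T').subschemeι = (T' : Set X) := by
        rw [range_subschemeι, coe_support_vanishingIdeal]
      constructor
      · intro hz
        by_contra hzU
        apply hz
        have h2 : (vanishingIdeal T).subschemeι z ∈ (T' : Set X) := ⟨z, hzU, rfl⟩
        rw [← hr'] at h2
        obtain ⟨w, hw⟩ := h2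
        refine ⟨w, (vanishingIdeal T).subschemeι.isClosedEmbedding.injective ?_⟩
        rw [← Scheme.Hom.comp_apply, inclusion_subschemeι]
        exact hw
      · rintro hzU ⟨w, rfl⟩
        have h2 : (vanishingIdeal T).subschemeι (inclusion hle w) ∈ (T' : Set X) := by
          rw [← hr', ← Scheme.Hom.comp_apply, inclusion_subschemeι]
          exact ⟨w, rfl⟩
        obtain ⟨z', hz', hz'w⟩ := h2
        have := (vanishingIdeal T).subschemeι.isClosedEmbedding.injective hz'w
        exact hz' (this ▸ hzU)
    refine ⟨t' + 1, ?_⟩
    rw [chain_succ]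
    refine ⟨_, inclusion hle, inferInstance, inferInstance, ?_, ?_⟩
    · rw [hrc]; exact hUs
    · rw [inclusion_subschemeι_assoc]; exact ht'

open Scheme IdealSheafData in
/-- A scheme of finite type over a perfect field admits a smooth stratification. -/
theorem good_of_perfect (k : Type u) [Field k] [PerfectField k] {X : Scheme.{u}}
    (f : X ⟶ Spec (CommRingCat.of k)) [LocallyOfFiniteType f] [QuasiCompact f] : Good f := by
  haveI : IsLocallyNoetherian X := LocallyOfFiniteType.isLocallyNoetherian f
  obtain ⟨t, ht⟩ := exists_chain_of_perfect k f ⊤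
  refine ⟨_, (vanishingIdeal (⊤ : TopologicalSpace.Closeds X)).subschemeι, inferInstance,
    Groth.Agent.Lib.Helper12.SecCompBC.locallyOfFinitePresentation_of_isLocallyNoetherian _,
    ⟨fun x => ?_⟩, t, ht⟩
  have h1 : Set.range (vanishingIdeal (⊤ : TopologicalSpace.Closeds X)).subschemeι =
      Set.univ := by
    rw [range_subschemeι, coe_support_vanishingIdeal]; rfl
  exact h1.ge (Set.mem_univ x)

end Groth.Agent.Lib.Helper12.SmStrat
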