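import Mathlib
import Groth.Agent.Lib.Helper12.SmStrat
import Groth.Agent.Lib.Helper12.StratTowerLoc
import Groth.Agent.Lib.Helper12.ConsPairProper
import Groth.Agent.Lib.Helper12.LimAffChart
import Groth.Agent.S9191
import Groth.Agent.S0591

/-!
# Helper library (helper12): chains with smooth strata descend through limits
-/

universe u

open CategoryTheory CategoryTheory.Limits AlgebraicGeometry Topology

set_option backward.isDefEq.respectTransparency false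
set_option linter.style.haveILetI false

namespace Groth.Agent.Lib.Helper12.SmStrat

open Groth.Agent.Lib.Helper12.ConsMorGen Groth.Agent.Lib.Helper12.ConsPairGen
  Groth.Agent.Lib.Helper12.PbDiag Groth.Agent.Lib.Helper12.StratTower
  Groth.Agent.Lib.Helper12.StratQBC

theorem descendsLim_smooth : DescendsLim @Smooth := by
  intro I _ _ D c hc _ i₀ _ _ X₀ Y₀ f₀ g₀ _ _ _ _ _ _ X Y f g qY qX hY hX hf
  haveI : Smooth f := hf
  haveI : CompactSpace Y₀ := QuasiCompact.compactSpace_of_compactSpace g₀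
  haveI : QuasiSeparatedSpace Y₀ := quasiSeparatedSpace_of_quasiSeparated g₀
  haveI : CompactSpace X₀ := QuasiCompact.compactSpace_of_compactSpace (f₀ ≫ g₀)
  haveI : QuasiSeparatedSpace X₀ := quasiSeparatedSpace_of_quasiSeparated (f₀ ≫ g₀)
  haveI : LocallyOfFinitePresentation f₀ :=
    Groth.Agent.Lib.Helper12.FibreDominant.locallyOfFinitePresentation_of_comp f₀ g₀
  exact Groth.Agent.S9191.result D c hc i₀ f₀ g₀ f g qY qX hY hX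

/-- Reduction of descent through limits to the case where an auxiliary finitely presented object
over the source is already defined at the given stage. -/
theorem descendsLim_of_core (Q : MorphismProperty Scheme.{u})
    (P : ∀ ⦃Z X Y : Scheme.{u}⦄, (Z ⟶ X) → (X ⟶ Y) → Prop)
    (hQP : ∀ ⦃X Y : Scheme.{u}⦄ (f : X ⟶ Y), Q f → ∃ (Z : Scheme.{u}) (a : Z ⟶ X),
      LocallyOfFinitePresentation a ∧ QuasiCompact a ∧ QuasiSeparated a ∧ P a f)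
    (core : ∀ {I : Type u} [SmallCategory I] [IsCofiltered I] (D : I ⥤ Scheme.{u}) (c : Cone D)
      (_ : IsLimit c) [∀ (i j : I) (f : i ⟶ j), IsAffineHom (D.map f)] (i₀ : I)
      [CompactSpace (D.obj i₀)] [QuasiSeparatedSpace (D.obj i₀)] {Z₀ X₀ Y₀ : Scheme.{u}}
      (a₀ : Z₀ ⟶ X₀) (f₀ : X₀ ⟶ Y₀) (g₀ : Y₀ ⟶ D.obj i₀)
      [LocallyOfFinitePresentation g₀] [QuasiCompact g₀] [QuasiSeparated g₀]
      [LocallyOfFinitePresentation (f₀ ≫ g₀)] [QuasiCompact (f₀ ≫ g₀)] [QuasiSeparated (f₀ ≫ g₀)]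
      [LocallyOfFinitePresentation a₀] [QuasiCompact a₀] [QuasiSeparated a₀]
      {Z X Y : Scheme.{u}} (a : Z ⟶ X) (f : X ⟶ Y) (g : Y ⟶ c.pt) (qY : Y ⟶ Y₀) (qX : X ⟶ X₀)
      (qZ : Z ⟶ Z₀) (_ : IsPullback qY g g₀ (c.π.app i₀)) (_ : IsPullback qX f f₀ qY)
      (_ : IsPullback qZ a a₀ qX), P a f →
      ∃ (i : I) (φ : i ⟶ i₀) (Xi Yi : Scheme.{u}) (fi : Xi ⟶ Yi) (gi : Yi ⟶ D.obj i)
        (pY : Yi ⟶ Y₀) (pX : Xi ⟶ X₀),
        IsPullback pY gi g₀ (D.map φ) ∧ IsPullback pX fi f₀ pY ∧ Q fi) :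
    DescendsLim Q := by
  intro I _ _ D c hc _ i₀ _ _ X₀ Y₀ f₀ g₀ _ _ _ _ _ _ X Y f g qY qX hY hX hf
  haveI hD : ∀ {i j : I} (f : i ⟶ j), IsAffineHom (D.map f) := fun f => inferInstance
  obtain ⟨Z, a, _, _, _, hP⟩ := hQP f hf
  haveI : ∀ (i j : Over i₀) (m : i ⟶ j), IsAffineHom ((pbDiagram D i₀ (f₀ ≫ g₀)).map m) :=
    fun i j m => inferInstance
  haveI : ∀ j : Over i₀, CompactSpace ((pbDiagram D i₀ (f₀ ≫ g₀)).obj j) :=
    fun j => compactSpace_pbDiagram_obj D i₀ (f₀ ≫ g₀) j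
  haveI : ∀ j : Over i₀, QuasiSeparatedSpace ((pbDiagram D i₀ (f₀ ≫ g₀)).obj j) :=
    fun j => quasiSeparatedSpace_pbDiagram_obj D i₀ (f₀ ≫ g₀) j
  obtain ⟨j, Zj, aj, gZ, _, _, _, sq⟩ := Groth.Agent.S0591.result (pbDiagram D i₀ (f₀ ≫ g₀))
    (pbCone c qX (f ≫ g) (hX.paste_vert hY)) (isLimitPbCone c hc qX (f ≫ g) (hX.paste_vert hY)) Z a
  haveI : CompactSpace (D.obj j.left) := QuasiCompact.compactSpace_of_compactSpace (D.map j.hom)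
  haveI : QuasiSeparatedSpace (D.obj j.left) :=
    quasiSeparatedSpace_of_quasiSeparated (D.map j.hom)
  have e1 : (pbMap D i₀ g₀ f₀).app j ≫ pullback.snd g₀ (D.map j.hom) =
      pullback.snd (f₀ ≫ g₀) (D.map j.hom) := pbMap_app_snd D i₀ g₀ f₀ j
  haveI : LocallyOfFinitePresentation
      ((pbMap D i₀ g₀ f₀).app j ≫ pullback.snd g₀ (D.map j.hom)) := by rw [e1]; infer_instance
  haveI : QuasiCompact
      ((pbMap D i₀ g₀ f₀).app j ≫ pullback.snd g₀ (D.map j.hom)) := by rw [e1]; infer_instance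
  haveI : QuasiSeparated
      ((pbMap D i₀ g₀ f₀).app j ≫ pullback.snd g₀ (D.map j.hom)) := by rw [e1]; infer_instance
  obtain ⟨i, φ, Xi, Yi, fi, gi, pY, pX, hpY, hpX, hQi⟩ := core D c hc j.left aj
    ((pbMap D i₀ g₀ f₀).app j) (pullback.snd g₀ (D.map j.hom)) a f g
    ((pbCone c qY g hY).π.app j) ((pbCone c qX (f ≫ g) (hX.paste_vert hY)).π.app j) gZ
    (isPullback_pbCone_π c qY g hY j)
    (LimData.isPullback_pbCone_π_pbMap D c i₀ f₀ g₀ f g qY qX hY hX j) sq hP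
  refine ⟨i, φ ≫ j.hom, Xi, Yi, fi, gi, pY ≫ pullback.fst g₀ (D.map j.hom),
    pX ≫ pullback.fst (f₀ ≫ g₀) (D.map j.hom), ?_, ?_, hQi⟩
  · rw [D.map_comp]
    exact hpY.paste_horiz (IsPullback.of_hasPullback g₀ (D.map j.hom))
  · exact hpX.paste_horiz (isPullback_pbMap_app D i₀ g₀ f₀ j)


section tower

variable {I : Type u} [SmallCategory I] (D : I ⥤ Scheme.{u}) (i₀ : I)
  {Z₀ X₀ Y₀ : Scheme.{u}} (a₀ : Z₀ ⟶ X₀) (f₀ : X₀ ⟶ Y₀) (g₀ : Y₀ ⟶ D.obj i₀)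

/-- The stage maps of the canonical tower. -/
noncomputable abbrev fS (k : Over i₀) :
    pullback (f₀ ≫ g₀) (D.map k.hom) ⟶ pullback g₀ (D.map k.hom) := (pbMap D i₀ g₀ f₀).app k

/-- The stage maps of the canonical tower. -/
noncomputable abbrev aS (k : Over i₀) :
    pullback (a₀ ≫ f₀ ≫ g₀) (D.map k.hom) ⟶ pullback (f₀ ≫ g₀) (D.map k.hom) :=
  (pbMap D i₀ (f₀ ≫ g₀) a₀).app k

lemma sqZ (k : Over i₀) : IsPullback (pullback.fst (a₀ ≫ f₀ ≫ g₀) (D.map k.hom))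
    (aS D i₀ a₀ f₀ g₀ k) a₀ (pullback.fst (f₀ ≫ g₀) (D.map k.hom)) :=
  isPullback_pbMap_app D i₀ (f₀ ≫ g₀) a₀ k

lemma sqX (k : Over i₀) : IsPullback (pullback.fst (f₀ ≫ g₀) (D.map k.hom))
    (fS D i₀ f₀ g₀ k) f₀ (pullback.fst g₀ (D.map k.hom)) :=
  isPullback_pbMap_app D i₀ g₀ f₀ k

lemma trZ {k' k : Over i₀} (m : k' ⟶ k) :
    IsPullback ((pbDiagram D i₀ (a₀ ≫ f₀ ≫ g₀)).map m) (aS D i₀ a₀ f₀ g₀ k')
      (aS D i₀ a₀ f₀ g₀ k) ((pbDiagram D i₀ (f₀ ≫ g₀)).map m) :=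
  isPullback_pbMap_map D i₀ (f₀ ≫ g₀) a₀ m

lemma trX {k' k : Over i₀} (m : k' ⟶ k) :
    IsPullback ((pbDiagram D i₀ (f₀ ≫ g₀)).map m) (fS D i₀ f₀ g₀ k')
      (fS D i₀ f₀ g₀ k) ((pbDiagram D i₀ g₀).map m) :=
  isPullback_pbMap_map D i₀ g₀ f₀ m

lemma trY {k' k : Over i₀} (m : k' ⟶ k) :
    IsPullback ((pbDiagram D i₀ g₀).map m) (pullback.snd g₀ (D.map k'.hom))
      (pullback.snd g₀ (D.map k.hom)) (D.map m.left) :=
  isPullback_pbDiagram_map D i₀ g₀ m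

end tower

/-- The core of the descent of chains: the case where the first closed subscheme is defined at the
given stage. -/
theorem chainCore (t : ℕ) (IH : DescendsLim (Chain.{u} t))
    {I : Type u} [SmallCategory I] [IsCofiltered I] (D : I ⥤ Scheme.{u}) (c : Cone D)
    (hc : IsLimit c) [∀ (i j : I) (f : i ⟶ j), IsAffineHom (D.map f)] (i₀ : I)
    [CompactSpace (D.obj i₀)] [QuasiSeparatedSpace (D.obj i₀)] {Z₀ X₀ Y₀ : Scheme.{u}}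
    (a₀ : Z₀ ⟶ X₀) (f₀ : X₀ ⟶ Y₀) (g₀ : Y₀ ⟶ D.obj i₀)
    [LocallyOfFinitePresentation g₀] [QuasiCompact g₀] [QuasiSeparated g₀]
    [LocallyOfFinitePresentation (f₀ ≫ g₀)] [QuasiCompact (f₀ ≫ g₀)] [QuasiSeparated (f₀ ≫ g₀)]
    [LocallyOfFinitePresentation a₀] [QuasiCompact a₀] [QuasiSeparated a₀]
    {Z X Y : Scheme.{u}} (a : Z ⟶ X) (f : X ⟶ Y) (g : Y ⟶ c.pt) (qY : Y ⟶ Y₀) (qX : X ⟶ X₀)
    (qZ : Z ⟶ Z₀) (hY : IsPullback qY g g₀ (c.π.app i₀)) (hX : IsPullback qX f f₀ qY)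
    (hZ : IsPullback qZ a a₀ qX)
    (hP : IsClosedImmersion a ∧ Smooth ((rc a).ι ≫ f) ∧ Chain t (a ≫ f)) :
    ∃ k : Over i₀, IsClosedImmersion (aS D i₀ a₀ f₀ g₀ k) ∧
      Smooth ((rc (aS D i₀ a₀ f₀ g₀ k)).ι ≫ fS D i₀ f₀ g₀ k) ∧
      Chain t (aS D i₀ a₀ f₀ g₀ k ≫ fS D i₀ f₀ g₀ k) := by
  haveI hD : ∀ {i j : I} (f : i ⟶ j), IsAffineHom (D.map f) := fun f => inferInstance
  obtain ⟨hcl, hsm, hch⟩ := hP
  haveI := hcl
  -- (a) the closed immersion at a stage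
  obtain ⟨i₁, φ₁, Zi, Xi, ai, gi', pX', pZ', s1, s2, hcl₁⟩ :=
    descendsLim_isClosedImmersion D c hc i₀ a₀ (f₀ ≫ g₀) a (f ≫ g) qX qZ (hX.paste_vert hY) hZ hcl
  obtain ⟨k₁, hk₁⟩ : ∃ k₁ : Over i₀, k₁ = Over.mk φ₁ := ⟨_, rfl⟩
  have hcl_k₁ : IsClosedImmersion (aS D i₀ a₀ f₀ g₀ k₁) := by
    subst hk₁
    exact (HasQBC.iff_of_isPullback (Q := @IsClosedImmersion)
      (IsPullback.of_hasPullback (f₀ ≫ g₀) (D.map φ₁)) (sqZ D i₀ a₀ f₀ g₀ (Over.mk φ₁))).mp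
      ⟨Zi, Xi, ai, gi', pZ', pX', s1, s2, hcl₁⟩
  -- (b) the chain on the closed subscheme at a stage
  haveI : LocallyOfFinitePresentation ((a₀ ≫ f₀) ≫ g₀) := by
    rw [Category.assoc]; infer_instance
  haveI : QuasiCompact ((a₀ ≫ f₀) ≫ g₀) := by rw [Category.assoc]; infer_instance
  haveI : QuasiSeparated ((a₀ ≫ f₀) ≫ g₀) := by rw [Category.assoc]; infer_instance
  obtain ⟨i_b, φ_b, Zb, Yb, fb, gb, pYb, pZb, sb1, sb2, hchb⟩ :=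
    IH D c hc i₀ (a₀ ≫ f₀) g₀ (a ≫ f) g qY qZ hY (hZ.paste_vert hX) hch
  have Hb : HasQBC (Chain t) (a₀ ≫ f₀) g₀ (D.map φ_b) :=
    ⟨Zb, Yb, fb, gb, pZb, pYb, sb1, sb2, hchb⟩
  -- (c) smoothness of the complement at a stage
  haveI := hcl_k₁
  haveI : LocallyOfFinitePresentation (aS D i₀ a₀ f₀ g₀ k₁) :=
    MorphismProperty.of_isPullback (P := @LocallyOfFinitePresentation) (sqZ D i₀ a₀ f₀ g₀ k₁)
      inferInstance
  haveI qcW : QuasiCompact (rc (aS D i₀ a₀ f₀ g₀ k₁)).ι := quasiCompact_rc_ι _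
  have sqZinf := LimData.isPullback_pbCone_π_pbMap D c i₀ a₀ (f₀ ≫ g₀) a (f ≫ g) qX qZ
    (hX.paste_vert hY) hZ k₁
  have sqXinf := LimData.isPullback_pbCone_π_pbMap D c i₀ f₀ g₀ f g qY qX hY hX k₁
  obtain ⟨r, hr⟩ := exists_isPullback_rc sqZinf
  have hX' := hr.paste_vert sqXinf
  have hY' := isPullback_pbCone_π c qY g hY k₁
  haveI : CompactSpace (D.obj k₁.left) := QuasiCompact.compactSpace_of_compactSpace (D.map k₁.hom)
  haveI : QuasiSeparatedSpace (D.obj k₁.left) :=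
    quasiSeparatedSpace_of_quasiSeparated (D.map k₁.hom)
  have e1 : ((rc (aS D i₀ a₀ f₀ g₀ k₁)).ι ≫ fS D i₀ f₀ g₀ k₁) ≫ pullback.snd g₀ (D.map k₁.hom) =
      (rc (aS D i₀ a₀ f₀ g₀ k₁)).ι ≫ pullback.snd (f₀ ≫ g₀) (D.map k₁.hom) := by
    rw [Category.assoc, pbMap_app_snd]
  haveI : LocallyOfFinitePresentation (((rc (aS D i₀ a₀ f₀ g₀ k₁)).ι ≫ fS D i₀ f₀ g₀ k₁) ≫
      pullback.snd g₀ (D.map k₁.hom)) := by rw [e1]; infer_instance
  haveI : QuasiCompact (((rc (aS D i₀ a₀ f₀ g₀ k₁)).ι ≫ fS D i₀ f₀ g₀ k₁) ≫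
      pullback.snd g₀ (D.map k₁.hom)) := by rw [e1]; infer_instance
  haveI : QuasiSeparated (((rc (aS D i₀ a₀ f₀ g₀ k₁)).ι ≫ fS D i₀ f₀ g₀ k₁) ≫
      pullback.snd g₀ (D.map k₁.hom)) := by rw [e1]; infer_instance
  obtain ⟨i₂, φ₂, W₂, Y₂, w₂, g₂, pY₂, pW₂, t1, t2, hsm₂⟩ :=
    descendsLim_smooth D c hc k₁.left ((rc (aS D i₀ a₀ f₀ g₀ k₁)).ι ≫ fS D i₀ f₀ g₀ k₁)
      (pullback.snd g₀ (D.map k₁.hom)) ((rc a).ι ≫ f) g _ r hY' hX' hsm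
  have Hc : HasQBC @Smooth ((rc (aS D i₀ a₀ f₀ g₀ k₁)).ι ≫ fS D i₀ f₀ g₀ k₁)
      (pullback.snd g₀ (D.map k₁.hom)) (D.map φ₂) :=
    ⟨W₂, Y₂, w₂, g₂, pW₂, pY₂, t1, t2, hsm₂⟩
  -- (d) a common stage
  let k₂ : Over i₀ := Over.mk (φ₂ ≫ k₁.hom)
  let m₂ : k₂ ⟶ k₁ := Over.homMk φ₂ rfl
  let k_b : Over i₀ := Over.mk φ_b
  let k : Over i₀ := IsCofiltered.min k₂ k_b
  let m : k ⟶ k₂ := IsCofiltered.minToLeft k₂ k_b
  let mb : k ⟶ k_b := IsCofiltered.minToRight k₂ k_b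
  refine ⟨k, ?_, ?_, ?_⟩
  · exact MorphismProperty.of_isPullback (P := @IsClosedImmersion)
      (trZ D i₀ a₀ f₀ g₀ (m ≫ m₂)) hcl_k₁
  · have Hc' := Hc.comp (D.map m.left)
    have e : D.map (m ≫ m₂).left = D.map m.left ≫ D.map φ₂ := by
      rw [Over.comp_left, D.map_comp]
      rfl
    have hYk := trY D i₀ g₀ (m ≫ m₂)
    rw [e] at hYk
    obtain ⟨r', hr'⟩ := exists_isPullback_rc (trZ D i₀ a₀ f₀ g₀ (m ≫ m₂))
    exact (HasQBC.iff_of_isPullback hYk (hr'.paste_vert (trX D i₀ f₀ g₀ (m ≫ m₂)))).mp Hc'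
  · have Hb' := Hb.comp (D.map mb.left)
    have e : D.map mb.left ≫ D.map φ_b = D.map k.hom := by
      rw [← D.map_comp]
      congr 1
      exact Over.w mb
    rw [e] at Hb'
    exact (HasQBC.iff_of_isPullback (IsPullback.of_hasPullback g₀ (D.map k.hom))
      ((sqZ D i₀ a₀ f₀ g₀ k).paste_vert (sqX D i₀ f₀ g₀ k))).mp Hb'


/-- A base change with property `Q` at some stage gives the property at all later stages, for any
choice of the base change. -/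
lemma HasQBC.canon {Q : MorphismProperty Scheme.{u}} [Q.IsStableUnderBaseChange]
    {I : Type u} [SmallCategory I] (D : I ⥤ Scheme.{u}) {i₀ : I} {X₀ Y₀ : Scheme.{u}}
    {f₀ : X₀ ⟶ Y₀} {g₀ : Y₀ ⟶ D.obj i₀} {k' : Over i₀} {i : I} {φ : i ⟶ i₀}
    (m : k' ⟶ Over.mk φ) (H : HasQBC Q f₀ g₀ (D.map φ)) {X' Y' : Scheme.{u}} {f' : X' ⟶ Y'}
    {g' : Y' ⟶ D.obj k'.left} {eX : X' ⟶ X₀} {eY : Y' ⟶ Y₀}
    (hY : IsPullback eY g' g₀ (D.map k'.hom)) (hX : IsPullback eX f' f₀ eY) : Q f' := by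
  have H' := H.comp (D.map m.left)
  have e : D.map m.left ≫ D.map φ = D.map k'.hom := by
    rw [← D.map_comp]
    congr 1
    exact Over.w m
  rw [e] at H'
  exact (HasQBC.iff_of_isPullback hY hX).mp H'

theorem descendsLim_chain_zero : DescendsLim (Chain.{u} 0) := by
  intro I _ _ D c hc _ i₀ _ _ X₀ Y₀ f₀ g₀ _ _ _ _ _ _ X Y f g qY qX hY hX hf
  haveI hD : ∀ {i j : I} (f : i ⟶ j), IsAffineHom (D.map f) := fun f => inferInstance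
  rw [chain_zero] at hf
  obtain ⟨k, hk⟩ : ∃ k : Over i₀, IsEmpty ↥(pullback (f₀ ≫ g₀) (D.map k.hom)) := by
    by_contra hcon
    push Not at hcon
    haveI : ∀ k : Over i₀, Nonempty ↥((pbDiagram D i₀ (f₀ ≫ g₀)).obj k) :=
      fun k => hcon k
    haveI : ∀ k : Over i₀, CompactSpace ↥((pbDiagram D i₀ (f₀ ≫ g₀)).obj k) :=
      fun k => compactSpace_pbDiagram_obj D i₀ (f₀ ≫ g₀) k
    have hne := Scheme.nonempty_of_isLimit (pbDiagram D i₀ (f₀ ≫ g₀))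
      (pbCone c qX (f ≫ g) (hX.paste_vert hY)) (isLimitPbCone c hc qX (f ≫ g) (hX.paste_vert hY))
    exact (not_isEmpty_iff.mpr hne) hf
  exact ⟨k.left, k.hom, _, _, fS D i₀ f₀ g₀ k, pullback.snd g₀ (D.map k.hom),
    pullback.fst g₀ _, pullback.fst (f₀ ≫ g₀) _, IsPullback.of_hasPullback _ _,
    sqX D i₀ f₀ g₀ k, hk⟩

theorem descendsLim_chain (t : ℕ) : DescendsLim (Chain.{u} t) := by
  induction t with
  | zero => exact descendsLim_chain_zero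
  | succ t IH =>
    refine descendsLim_of_core (Chain (t + 1))
      (fun Z X Y a f => IsClosedImmersion a ∧ Smooth ((rc a).ι ≫ f) ∧ Chain t (a ≫ f)) ?_ ?_
    · intro X Y f hf
      rw [chain_succ] at hf
      obtain ⟨Z, a, h1, h2, h3, h4⟩ := hf
      exact ⟨Z, a, h2, inferInstance, inferInstance, h1, h3, h4⟩
    · intro I _ _ D c hc _ i₀ _ _ Z₀ X₀ Y₀ a₀ f₀ g₀ _ _ _ _ _ _ _ _ _ Z X Y a f g qY qX qZ hY hX hZ hP
      obtain ⟨k, h1, h2, h3⟩ := chainCore t IH D c hc i₀ a₀ f₀ g₀ a f g qY qX qZ hY hX hZ hP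
      refine ⟨k.left, k.hom, _, _, fS D i₀ f₀ g₀ k, pullback.snd g₀ (D.map k.hom),
        pullback.fst g₀ _, pullback.fst (f₀ ≫ g₀) _, IsPullback.of_hasPullback _ _,
        sqX D i₀ f₀ g₀ k, ?_⟩
      rw [chain_succ]
      exact ⟨_, aS D i₀ a₀ f₀ g₀ k, h1, MorphismProperty.of_isPullback
        (P := @LocallyOfFinitePresentation) (sqZ D i₀ a₀ f₀ g₀ k) inferInstance, h2, h3⟩

theorem descendsLim_good : DescendsLim Good.{u} := by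
  refine descendsLim_of_core Good
    (fun Z X Y a f => IsClosedImmersion a ∧ Surjective a ∧ ∃ t, Chain t (a ≫ f)) ?_ ?_
  · intro X Y f hf
    obtain ⟨Z, a, h1, h2, h3, t, h4⟩ := hf
    exact ⟨Z, a, h2, inferInstance, inferInstance, h1, h3, t, h4⟩
  · intro I _ _ D c hc _ i₀ _ _ Z₀ X₀ Y₀ a₀ f₀ g₀ _ _ _ _ _ _ _ _ _ Z X Y a f g qY qX qZ hY hX hZ hP
    haveI hD : ∀ {i j : I} (f : i ⟶ j), IsAffineHom (D.map f) := fun f => inferInstance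
    obtain ⟨hcl, hsurj, t, hch⟩ := hP
    obtain ⟨i₁, φ₁, Zi, Xi, ai, gi', pX', pZ', s1, s2, hcl₁⟩ :=
      (DescendsLim.inf descendsLim_isClosedImmersion descendsLim_surjective) D c hc i₀ a₀
        (f₀ ≫ g₀) a (f ≫ g) qX qZ (hX.paste_vert hY) hZ ⟨hcl, hsurj⟩
    have Ha : HasQBC (@IsClosedImmersion ⊓ @Surjective) a₀ (f₀ ≫ g₀) (D.map φ₁) :=
      ⟨Zi, Xi, ai, gi', pZ', pX', s1, s2, hcl₁⟩
    haveI : LocallyOfFinitePresentation ((a₀ ≫ f₀) ≫ g₀) := by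
      rw [Category.assoc]; infer_instance
    haveI : QuasiCompact ((a₀ ≫ f₀) ≫ g₀) := by rw [Category.assoc]; infer_instance
    haveI : QuasiSeparated ((a₀ ≫ f₀) ≫ g₀) := by rw [Category.assoc]; infer_instance
    obtain ⟨i_b, φ_b, Zb, Yb, fb, gb, pYb, pZb, sb1, sb2, hchb⟩ :=
      descendsLim_chain t D c hc i₀ (a₀ ≫ f₀) g₀ (a ≫ f) g qY qZ hY (hZ.paste_vert hX) hch
    have Hb : HasQBC (Chain t) (a₀ ≫ f₀) g₀ (D.map φ_b) :=
      ⟨Zb, Yb, fb, gb, pZb, pYb, sb1, sb2, hchb⟩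
    let k₁ : Over i₀ := Over.mk φ₁
    let k_b : Over i₀ := Over.mk φ_b
    let k : Over i₀ := IsCofiltered.min k₁ k_b
    let m : k ⟶ k₁ := IsCofiltered.minToLeft k₁ k_b
    let mb : k ⟶ k_b := IsCofiltered.minToRight k₁ k_b
    have h1 := HasQBC.canon D m Ha (IsPullback.of_hasPullback (f₀ ≫ g₀) (D.map k.hom))
      (sqZ D i₀ a₀ f₀ g₀ k)
    have h2 := HasQBC.canon D mb Hb (IsPullback.of_hasPullback g₀ (D.map k.hom))
      ((sqZ D i₀ a₀ f₀ g₀ k).paste_vert (sqX D i₀ f₀ g₀ k))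
    exact ⟨k.left, k.hom, _, _, fS D i₀ f₀ g₀ k, pullback.snd g₀ (D.map k.hom),
      pullback.fst g₀ _, pullback.fst (f₀ ≫ g₀) _, IsPullback.of_hasPullback _ _,
      sqX D i₀ f₀ g₀ k, _, aS D i₀ a₀ f₀ g₀ k, h1.1, MorphismProperty.of_isPullback
        (P := @LocallyOfFinitePresentation) (sqZ D i₀ a₀ f₀ g₀ k) inferInstance, h1.2, t, h2⟩

end Groth.Agent.Lib.Helper12.SmStrat
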