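import Mathlib
import Groth.Agent.Lib.Helper12.SmStratLim
import Groth.Agent.Lib.Helper12.SmStratField

/-!
# Helper library (helper12): smooth stratification over a finite purely inseparable extension
-/

universe u

open CategoryTheory CategoryTheory.Limits AlgebraicGeometry Topology

set_option backward.isDefEq.respectTransparency false
set_option linter.style.haveILetI false

namespace Groth.Agent.Lib.Helper12.SmStrat

open Groth.Agent.Lib.Helper12.ConsMorGen Groth.Agent.Lib.Helper12.ConsPairGen
  Groth.Agent.Lib.Helper12.StratTowerLoc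

/-- A scheme of finite type over a field admits a smooth stratification after a finite purely
inseparable extension of the field. -/
theorem field_stage (K : Type u) [Field K] {X : Scheme.{u}} (f : X ⟶ Spec (CommRingCat.of K))
    [LocallyOfFinitePresentation f] [QuasiCompact f] [QuasiSeparated f] :
    ∃ (K' : Type u) (_ : Field K') (_ : Algebra K K'), FiniteDimensional K K' ∧
      IsPurelyInseparable K K' ∧
      Good (pullback.snd f (Spec.map (CommRingCat.ofHom (algebraMap K K')))) := by
  -- the perfect closure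
  let Ω : Type u := ↥(perfectClosure K (AlgebraicClosure K))
  let p : Spec (CommRingCat.of Ω) ⟶ Spec (CommRingCat.of K) :=
    Spec.map (CommRingCat.ofHom (algebraMap K Ω))
  have hΩ : Good (pullback.snd f p) := good_of_perfect Ω (pullback.snd f p)
  obtain ⟨J, _, _, 𝔇, τ, π, hπ, h1, h2, h3⟩ := exists_system_of_affine p
  haveI := h1
  obtain ⟨j₀⟩ := IsCofiltered.nonempty (C := J)
  haveI : LocallyOfFinitePresentation (f ≫ 𝟙 (Spec (CommRingCat.of K))) := by
    rw [Category.comp_id]; infer_instance
  haveI : QuasiCompact (f ≫ 𝟙 (Spec (CommRingCat.of K))) := by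
    rw [Category.comp_id]; infer_instance
  haveI : QuasiSeparated (f ≫ 𝟙 (Spec (CommRingCat.of K))) := by
    rw [Category.comp_id]; infer_instance
  have H0 : HasQBC Good f (𝟙 (Spec (CommRingCat.of K))) p :=
    ⟨_, _, pullback.snd f p, 𝟙 _, pullback.fst f p, p, IsPullback.of_vert_isIso ⟨by simp⟩,
      IsPullback.of_hasPullback f p, hΩ⟩
  have H1 : HasQBC Good f (𝟙 (Spec (CommRingCat.of K)))
      ((Cone.mk _ π).π.app j₀ ≫ τ.app j₀) := H0.of_eq (h3 j₀).symm
  obtain ⟨j, Hj⟩ := HasQBC.exists_stage descendsLim_good f (𝟙 _) 𝔇 τ (Cone.mk _ π) hπ j₀ H1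
  -- the stage is the spectrum of a finitely generated `K`-algebra
  let R : CommRingCat.{u} := Γ(𝔇.obj j, ⊤)
  let e : 𝔇.obj j ≅ Spec R := (𝔇.obj j).isoSpec
  let α₀ : CommRingCat.of K ⟶ R := Spec.preimage (e.inv ≫ τ.app j)
  have hα₀ : Spec.map α₀ = e.inv ≫ τ.app j := Spec.map_preimage _
  let ψ : R ⟶ CommRingCat.of Ω := Spec.preimage (π.app j ≫ e.hom)
  have hψ : Spec.map ψ = π.app j ≫ e.hom := Spec.map_preimage _
  have hcompat : α₀ ≫ ψ = CommRingCat.ofHom (algebraMap K Ω) := by
    apply Spec.map_injective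
    rw [Spec.map_comp, hψ, hα₀, Category.assoc, e.hom_inv_id_assoc]
    exact h3 j
  have hft : α₀.hom.FiniteType := by
    rw [← HasRingHomProperty.Spec_iff (P := @LocallyOfFiniteType), hα₀]
    haveI := h2 j
    infer_instance
  letI : Algebra K R := α₀.hom.toAlgebra
  haveI : Algebra.FiniteType K R := hft
  obtain ⟨s, hs⟩ := (Algebra.FiniteType.out : (⊤ : Subalgebra K R).FG)
  let ψ' : R →ₐ[K] Ω :=
    { ψ.hom with
      commutes' := fun x => by
        have := congrArg (fun g : CommRingCat.of K ⟶ CommRingCat.of Ω => g.hom x) hcompat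
        exact this }
  let K' : IntermediateField K Ω := IntermediateField.adjoin K (ψ' '' (s : Set R))
  have hrange : ∀ r : R, ψ' r ∈ K'.toSubalgebra := by
    intro r
    have hr : r ∈ Algebra.adjoin K (s : Set R) := by rw [hs]; trivial
    have h4 : ψ' r ∈ (Algebra.adjoin K (s : Set R)).map ψ' := ⟨r, hr, rfl⟩
    rw [AlgHom.map_adjoin] at h4
    exact IntermediateField.algebra_adjoin_le_adjoin K _ h4
  let χ : R →ₐ[K] K' := ψ'.codRestrict K'.toSubalgebra hrange
  haveI : Algebra.IsIntegral K Ω := inferInstance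
  haveI hfin : FiniteDimensional K K' :=
    IntermediateField.finiteDimensional_adjoin (fun x _ => Algebra.IsIntegral.isIntegral x)
  haveI hpi : IsPurelyInseparable K K' := IsPurelyInseparable.tower_bot K K' Ω
  refine ⟨K', inferInstance, inferInstance, hfin, hpi, ?_⟩
  have hχ : α₀ ≫ CommRingCat.ofHom χ.toRingHom = CommRingCat.ofHom (algebraMap K K') := by
    apply CommRingCat.hom_ext
    apply RingHom.ext
    intro x
    exact χ.commutes x
  have H2 := Hj.comp (Spec.map (CommRingCat.ofHom χ.toRingHom) ≫ e.inv)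
  have e2 : (Spec.map (CommRingCat.ofHom χ.toRingHom) ≫ e.inv) ≫ τ.app j =
      Spec.map (CommRingCat.ofHom (algebraMap K K')) := by
    rw [Category.assoc, ← hα₀, ← Spec.map_comp, hχ]
  rw [e2] at H2
  have hY : IsPullback (Spec.map (CommRingCat.ofHom (algebraMap K K'))) (𝟙 _) (𝟙 _)
      (Spec.map (CommRingCat.ofHom (algebraMap K K'))) := IsPullback.of_vert_isIso ⟨by simp⟩
  exact (HasQBC.iff_of_isPullback hY (IsPullback.of_hasPullback f _)).mp H2

end Groth.Agent.Lib.Helper12.SmStrat
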