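import Mathlib
import Groth.Agent.Lib.Helper12.SmStratStage
import Groth.Agent.Lib.Helper12.SmStratIdeal
import Groth.Agent.Lib.Helper12.StalkLim

/-!
# Helper library (helper12): smooth stratification near a generic point of a reduced scheme
-/

universe u

open CategoryTheory CategoryTheory.Limits AlgebraicGeometry Topology

set_option backward.isDefEq.respectTransparency false
set_option linter.style.haveILetI false

namespace Groth.Agent.Lib.Helper12.SmStrat

open Groth.Agent.Lib.Helper12.ConsMorGen Groth.Agent.Lib.Helper12.ConsPairGen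
  Groth.Agent.Lib.Helper12.StratTowerLoc Groth.Agent.Lib.Helper12.StratTowerField
  Groth.Agent.Lib.Helper12

/-- Transfer of `Good` between two base changes of the same morphism along equal maps. -/
lemma Good.of_two {X S T P P' : Scheme.{u}} {f : X ⟶ S} {w w' : T ⟶ S} (hw : w = w')
    {p₁ : P ⟶ X} {p₂ : P ⟶ T} (sq : IsPullback p₁ p₂ f w) {p₁' : P' ⟶ X} {p₂' : P' ⟶ T}
    (sq' : IsPullback p₁' p₂' f w') (h : Good p₂) : Good p₂' := by
  subst hw
  have hY : IsPullback w (𝟙 T) (𝟙 S) w := IsPullback.of_vert_isIso ⟨by simp⟩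
  exact (HasQBC.iff_of_isPullback hY sq').mp ((HasQBC.iff_of_isPullback hY sq).mpr h)

/-- The smooth stratification near a generic point of a reduced scheme, in terms of `Good`. -/
theorem exists_good_near_generic {X S : Scheme.{u}} (f : X ⟶ S) [LocallyOfFinitePresentation f]
    [QuasiCompact f] [QuasiSeparated f] [IsReduced S] (η : S)
    (hη : closure {η} ∈ irreducibleComponents S) :
    ∃ (U : S.Opens) (V : Scheme.{u}) (v : V ⟶ (U : Scheme.{u})), η ∈ U ∧ Surjective v ∧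
      UniversallyInjective v ∧ IsFinite v ∧ Flat v ∧ LocallyOfFinitePresentation v ∧
      Good (pullback.snd f (v ≫ U.ι)) := by
  have hK : IsField (S.presheaf.stalk η) :=
    isField_stalk_of_closure_mem_irreducibleComponents S η hη
  letI : Field (S.presheaf.stalk η) := hK.toField
  obtain ⟨K', _, _, hfin, hpi, hG⟩ :=
    field_stage (S.presheaf.stalk η) (pullback.snd f (S.fromSpecStalk η))
  obtain ⟨vK, hvKdef⟩ : ∃ vK : Spec (CommRingCat.of K') ⟶ Spec (S.presheaf.stalk η),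
      vK = Spec.map (CommRingCat.ofHom (algebraMap (S.presheaf.stalk η) K')) := ⟨_, rfl⟩
  rw [← hvKdef] at hG
  have hvK : Qg vK := by
    rw [hvKdef]
    exact ⟨⟨⟨isFinite_specMap, surjective_specMap_field _⟩, flat_specMap⟩,
      universallyInjective_specMap⟩
  haveI : LocallyOfFinitePresentation vK := by
    rw [hvKdef, HasRingHomProperty.Spec_iff (P := @LocallyOfFinitePresentation)]
    haveI : Algebra.FinitePresentation (S.presheaf.stalk η) K' :=
      Algebra.FinitePresentation.of_finiteType.mp inferInstance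
    exact RingHom.finitePresentation_algebraMap.mpr inferInstance
  haveI : IsFinite vK := hvK.1.1.1
  -- descend the finite purely inseparable cover
  obtain ⟨W₁, V₁, v₁, gV, hv₁a, hv₁b, hv₁c, sq₁⟩ := Groth.Agent.S0591.result (StalkLim.diag S η)
    (StalkLim.cone S η) (StalkLim.isLimitCone S η) (Spec (CommRingCat.of K')) vK
  haveI := hv₁a
  haveI := hv₁b
  haveI := hv₁c
  have hY₁ : IsPullback ((StalkLim.cone S η).π.app W₁) (𝟙 (StalkLim.cone S η).pt)
      (𝟙 ((StalkLim.diag S η).obj W₁)) ((StalkLim.cone S η).π.app W₁) :=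
    IsPullback.id_vert _
  haveI : LocallyOfFinitePresentation (v₁ ≫ 𝟙 ((StalkLim.diag S η).obj W₁)) := by
    rw [Category.comp_id]; infer_instance
  haveI : QuasiCompact (v₁ ≫ 𝟙 ((StalkLim.diag S η).obj W₁)) := by
    rw [Category.comp_id]; infer_instance
  haveI : QuasiSeparated (v₁ ≫ 𝟙 ((StalkLim.diag S η).obj W₁)) := by
    rw [Category.comp_id]; infer_instance
  obtain ⟨W₂, φ₂, V₂', Y₂', v₂', g₂', pY₂, pX₂, s1, s2, hQ₂⟩ :=
    descendsLim_Qg (StalkLim.diag S η) (StalkLim.cone S η) (StalkLim.isLimitCone S η) W₁ v₁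
      (𝟙 _) vK (𝟙 _) ((StalkLim.cone S η).π.app W₁) gV hY₁ sq₁ hvK
  have Hv : HasQBC Qg v₁ (𝟙 ((StalkLim.diag S η).obj W₁)) ((StalkLim.diag S η).map φ₂) :=
    ⟨V₂', Y₂', v₂', g₂', pX₂, pY₂, s1, s2, hQ₂⟩
  have hY₂ : IsPullback ((StalkLim.diag S η).map φ₂) (𝟙 ((StalkLim.diag S η).obj W₂))
      (𝟙 ((StalkLim.diag S η).obj W₁)) ((StalkLim.diag S η).map φ₂) :=
    IsPullback.id_vert _
  have hQv₂ : Qg (pullback.snd v₁ ((StalkLim.diag S η).map φ₂)) :=
    (HasQBC.iff_of_isPullback hY₂ (IsPullback.of_hasPullback v₁ _)).mp Hv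
  have sqV₂ := isPullback_stage (StalkLim.diag S η) (StalkLim.cone S η) φ₂ vK v₁ gV sq₁
  -- descend the stratification
  obtain ⟨v₂, hv₂def⟩ : ∃ v₂ : pullback v₁ ((StalkLim.diag S η).map φ₂) ⟶
      (StalkLim.diag S η).obj W₂, v₂ = pullback.snd v₁ ((StalkLim.diag S η).map φ₂) := ⟨_, rfl⟩
  rw [← hv₂def] at hQv₂ sqV₂
  haveI : LocallyOfFinitePresentation v₂ := by rw [hv₂def]; infer_instance
  haveI : IsFinite v₂ := hQv₂.1.1.1
  obtain ⟨qV₂, hqV₂⟩ : ∃ qV₂ : Spec (CommRingCat.of K') ⟶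
      pullback v₁ ((StalkLim.diag S η).map φ₂),
      IsPullback qV₂ vK v₂ ((StalkLim.cone S η).π.app W₂) := ⟨_, sqV₂⟩
  have hι : (StalkLim.cone S η).π.app W₂ ≫ W₂.U.ι = S.fromSpecStalk η :=
    Scheme.Opens.fromSpecStalkOfMem_ι W₂.U η W₂.mem
  have hGX : Good (pullback.snd (pullback.snd f (v₂ ≫ W₂.U.ι)) qV₂) := by
    refine Good.of_two (w := vK ≫ S.fromSpecStalk η) (w' := qV₂ ≫ v₂ ≫ W₂.U.ι) ?_
      ((IsPullback.of_hasPullback (pullback.snd f (S.fromSpecStalk η)) vK).paste_horiz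
        (IsPullback.of_hasPullback f (S.fromSpecStalk η)))
      ((IsPullback.of_hasPullback (pullback.snd f (v₂ ≫ W₂.U.ι)) qV₂).paste_horiz
        (IsPullback.of_hasPullback f (v₂ ≫ W₂.U.ι))) hG
    rw [← Category.assoc, hqV₂.w, Category.assoc, hι]
  obtain ⟨W₃, φ₃, Xi, Yi, fi, gi, pY, pX, t1, t2, hGi⟩ :=
    descendsLim_good (StalkLim.diag S η) (StalkLim.cone S η) (StalkLim.isLimitCone S η) W₂
      (pullback.snd f (v₂ ≫ W₂.U.ι)) v₂ (pullback.snd (pullback.snd f (v₂ ≫ W₂.U.ι)) qV₂) vK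
      qV₂ (pullback.fst (pullback.snd f (v₂ ≫ W₂.U.ι)) qV₂) hqV₂
      (IsPullback.of_hasPullback _ _) hGX
  have hQgi : Qg gi := MorphismProperty.of_isPullback (P := Qg) t1 hQv₂
  refine ⟨W₃.U, Yi, gi, W₃.mem, hQgi.1.1.2, hQgi.2, hQgi.1.1.1, hQgi.1.2,
    MorphismProperty.of_isPullback (P := @LocallyOfFinitePresentation) t1 inferInstance, ?_⟩
  refine Good.of_two (w := pY ≫ v₂ ≫ W₂.U.ι) (w' := gi ≫ W₃.U.ι) ?_
    (t2.paste_horiz (IsPullback.of_hasPullback f (v₂ ≫ W₂.U.ι)))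
    (IsPullback.of_hasPullback f (gi ≫ W₃.U.ι)) hGi
  have e3 : (StalkLim.diag S η).map φ₃ ≫ W₂.U.ι = W₃.U.ι :=
    Scheme.homOfLE_ι S (StalkLim.AffNhd.le_iff.mp φ₃.le)
  rw [← Category.assoc, t1.w, Category.assoc, e3]

end Groth.Agent.Lib.Helper12.SmStrat
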