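import Mathlib
import Groth.Agent.Lib.Helper12.SmStratMain

/-!
# Helper library (helper12): stratifications of the base with smooth stratifications upstairs

* `St f w`: after a surjective finite locally free base change `T ⟶ U`, the base change of `f`
  along `T ⟶ U ⟶ S` admits a smooth stratification (`Good`);
* `BChain t f`: the base `S` has a chain of `t` finitely presented closed subschemes ending in the
  empty scheme such that `St` holds on the successive differences;
* `BGood f`: some surjective finitely presented closed subscheme of `S` admits such a chain.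
-/

universe u

open CategoryTheory CategoryTheory.Limits AlgebraicGeometry Topology

set_option backward.isDefEq.respectTransparency false
set_option linter.style.haveILetI false

namespace Groth.Agent.Lib.Helper12.SmStrat

open Groth.Agent.Lib.Helper12.ConsMorGen

/-- After a surjective finite locally free base change `T ⟶ U`, the base change of `f` along
`T ⟶ U ⟶ S` admits a smooth stratification. -/
def St {X S U : Scheme.{u}} (f : X ⟶ S) (w : U ⟶ S) : Prop :=
  ∃ (T : Scheme.{u}) (v : T ⟶ U), Surjective v ∧ IsFinite v ∧ Flat v ∧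
    LocallyOfFinitePresentation v ∧ Good (pullback.snd f (v ≫ w))

lemma hasQBC_of_snd {Q : MorphismProperty Scheme.{u}} {X S T : Scheme.{u}} (f : X ⟶ S)
    (a : T ⟶ S) (h : Q (pullback.snd f a)) : HasQBC Q f (𝟙 S) a :=
  ⟨_, _, pullback.snd f a, 𝟙 T, pullback.fst f a, a, IsPullback.id_vert a,
    IsPullback.of_hasPullback f a, h⟩

lemma snd_of_hasQBC {Q : MorphismProperty Scheme.{u}} [Q.IsStableUnderBaseChange]
    {X S T : Scheme.{u}} (f : X ⟶ S) (a : T ⟶ S) (h : HasQBC Q f (𝟙 S) a) :
    Q (pullback.snd f a) :=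
  (HasQBC.iff_of_isPullback (IsPullback.id_vert a) (IsPullback.of_hasPullback f a)).mp h

/-- Base change of `HasQBC` over the identity along a cartesian square. -/
lemma hasQBC_of_isPullback {Q : MorphismProperty Scheme.{u}} {X S X' S' T : Scheme.{u}}
    {f : X ⟶ S} {f' : X' ⟶ S'} {p : X' ⟶ X} {q : S' ⟶ S} (sq : IsPullback p f' f q)
    (a : T ⟶ S') (h : HasQBC Q f (𝟙 S) (a ≫ q)) : HasQBC Q f' (𝟙 S') a :=
  HasQBC.to_isPullback (IsPullback.id_vert q) sq h

/-- The converse direction. -/
lemma hasQBC_to_isPullback {Q : MorphismProperty Scheme.{u}} {X S X' S' T : Scheme.{u}}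
    {f : X ⟶ S} {f' : X' ⟶ S'} {p : X' ⟶ X} {q : S' ⟶ S} (sq : IsPullback p f' f q)
    (a : T ⟶ S') (h : HasQBC Q f' (𝟙 S') a) : HasQBC Q f (𝟙 S) (a ≫ q) :=
  HasQBC.of_isPullback (IsPullback.id_vert q) sq h

theorem St.of_isPullback {X S X' S' U U' : Scheme.{u}} {f : X ⟶ S} {f' : X' ⟶ S'} {p : X' ⟶ X}
    {q : S' ⟶ S} (sq : IsPullback p f' f q) {w : U ⟶ S} {w' : U' ⟶ S'} (r : U' ⟶ U)
    (hr : r ≫ w = w' ≫ q) (h : St f w) : St f' w' := by
  obtain ⟨T, v, h1, h2, h3, h4, h5⟩ := h
  haveI := h1
  haveI := h2
  haveI := h3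
  haveI := h4
  refine ⟨pullback v r, pullback.snd v r, inferInstance, inferInstance, inferInstance,
    inferInstance, ?_⟩
  apply snd_of_hasQBC
  apply hasQBC_of_isPullback sq
  have H2 := (hasQBC_of_snd f (v ≫ w) h5).comp (pullback.fst v r)
  refine H2.of_eq ?_
  rw [← Category.assoc, pullback.condition, Category.assoc, hr, Category.assoc]

/-- `BChain t f`: there is a chain of `t` finitely presented closed subschemes
`S ⊇ Z₁ ⊇ … ⊇ Z_t = ∅` such that over each successive difference, after a finite locally free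
surjective base change, the base change of `f` admits a smooth stratification. -/
def BChain : ℕ → MorphismProperty Scheme.{u}
  | 0 => fun _ S _ => IsEmpty S
  | (t + 1) => fun _ S f => ∃ (Z : Scheme.{u}) (a : Z ⟶ S), IsClosedImmersion a ∧
      LocallyOfFinitePresentation a ∧ St f (rc a).ι ∧ BChain t (pullback.snd f a)

lemma bchain_zero {X S : Scheme.{u}} (f : X ⟶ S) : BChain 0 f ↔ IsEmpty S := Iff.rfl

lemma bchain_succ (t : ℕ) {X S : Scheme.{u}} (f : X ⟶ S) :
    BChain (t + 1) f ↔ ∃ (Z : Scheme.{u}) (a : Z ⟶ S), IsClosedImmersion a ∧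
      LocallyOfFinitePresentation a ∧ St f (rc a).ι ∧ BChain t (pullback.snd f a) := Iff.rfl

theorem bchain_isStableUnderBaseChange : ∀ t : ℕ, (BChain.{u} t).IsStableUnderBaseChange
  | 0 => ⟨fun {X' X S' S} q f p f' _ h => by
      rw [bchain_zero] at h ⊢
      exact Function.isEmpty q⟩
  | (t + 1) => by
    haveI := bchain_isStableUnderBaseChange t
    refine ⟨fun {X' X S' S} q f p f' sq h => ?_⟩
    rw [bchain_succ] at h ⊢
    obtain ⟨Z, a, h1, h2, h3, h4⟩ := h
    haveI := h1
    haveI := h2
    have sqa : IsPullback (pullback.fst a q) (pullback.snd a q) a q :=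
      IsPullback.of_hasPullback a q
    obtain ⟨r, hr⟩ := exists_isPullback_rc sqa
    refine ⟨pullback a q, pullback.snd a q, inferInstance, inferInstance,
      St.of_isPullback sq r hr.w h3, ?_⟩
    apply snd_of_hasQBC
    apply hasQBC_of_isPullback sq
    exact ((hasQBC_of_snd f a h4).comp (pullback.fst a q)).of_eq pullback.condition

instance (t : ℕ) : (BChain.{u} t).IsStableUnderBaseChange := bchain_isStableUnderBaseChange t

/-- `BGood f`: a surjective finitely presented closed subscheme of the base admits a chain as in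
`BChain`. -/
def BGood : MorphismProperty Scheme.{u} := fun _ S f =>
  ∃ (Z : Scheme.{u}) (a : Z ⟶ S), IsClosedImmersion a ∧ LocallyOfFinitePresentation a ∧
    Surjective a ∧ ∃ t, BChain t (pullback.snd f a)

theorem BGood.of_isPullback {X S X' S' : Scheme.{u}} {f : X ⟶ S} {f' : X' ⟶ S'}
    {p : X' ⟶ X} {q : S' ⟶ S} (sq : IsPullback p f' f q) (h : BGood f) : BGood f' := by
  obtain ⟨Z, a, h1, h2, h3, t, h4⟩ := h
  refine ⟨pullback a q, pullback.snd a q, inferInstance, inferInstance, inferInstance, t, ?_⟩
  apply snd_of_hasQBC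
  apply hasQBC_of_isPullback sq
  exact ((hasQBC_of_snd f a h4).comp (pullback.fst a q)).of_eq pullback.condition

end Groth.Agent.Lib.Helper12.SmStrat
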