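import Mathlib
import Groth.Agent.Lib.Helper12.SmStratBase
import Groth.Agent.Lib.Helper12.ApproxWrap
import Groth.Agent.S0590
import Groth.Agent.S0591

/-!
# Helper library (helper12): global smooth stratifications

* `exists_bchain_of_isNoetherian`: Noetherian induction;
* `bgood_of_qcqs`: the general case by Noetherian approximation.
-/

universe u

open CategoryTheory CategoryTheory.Limits AlgebraicGeometry Topology

set_option backward.isDefEq.respectTransparency false
set_option linter.style.haveILetI false

namespace Groth.Agent.Lib.Helper12.SmStrat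

open Groth.Agent.Lib.Helper12.ConsMorGen Groth.Agent.Lib.Helper12

open Scheme IdealSheafData in
/-- Noetherian induction: over a Noetherian base, the base change of a finitely presented morphism
to any reduced closed subscheme admits a chain as in `BChain`. -/
theorem exists_bchain_of_isNoetherian {X S : Scheme.{u}} (f : X ⟶ S)
    [LocallyOfFinitePresentation f] [QuasiCompact f] [QuasiSeparated f] [IsNoetherian S]
    (C : TopologicalSpace.Closeds S) :
    ∃ t, BChain t (pullback.snd f (vanishingIdeal C).subschemeι) := by
  induction C using WellFoundedLT.induction with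
  | ind C IH =>
  by_cases hC : (C : Set S) = ∅
  · refine ⟨0, ?_⟩
    rw [bchain_zero]
    have h1 : Set.range (vanishingIdeal C).subschemeι = ∅ := by
      rw [range_subschemeι, coe_support_vanishingIdeal, hC]
    exact Set.range_eq_empty_iff.mp h1
  · haveI : IsReduced (vanishingIdeal C).subscheme :=
      Groth.Agent.Lib.Helper7.isReduced_vanishingIdeal_subscheme C
    have hrange : Set.range (vanishingIdeal C).subschemeι = (C : Set S) := by
      rw [range_subschemeι, coe_support_vanishingIdeal]
    obtain ⟨x, hx⟩ := Set.nonempty_iff_ne_empty.mpr hC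
    rw [← hrange] at hx
    obtain ⟨z, rfl⟩ := hx
    obtain ⟨η, hη⟩ := QuasiSober.sober (isIrreducible_irreducibleComponent (x := z))
      isClosed_irreducibleComponent
    have hηc : closure {η} ∈ irreducibleComponents (vanishingIdeal C).subscheme := by
      rw [hη.def]; exact irreducibleComponent_mem_irreducibleComponents z
    obtain ⟨U, V, v, hηU, hv1, -, hv3, hv4, hv5, hG⟩ :=
      exists_good_near_generic (pullback.snd f (vanishingIdeal C).subschemeι) η hηc
    have hcl : IsClosed ((vanishingIdeal C).subschemeι ''
        ((U : Set (vanishingIdeal C).subscheme)ᶜ)) :=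
      (vanishingIdeal C).subschemeι.isClosedEmbedding.isClosedMap _ U.2.isClosed_compl
    let C' : TopologicalSpace.Closeds S := ⟨_, hcl⟩
    have hC'le : C' ≤ C := by
      intro x hx
      obtain ⟨z, -, rfl⟩ := hx
      have : (vanishingIdeal C).subschemeι z ∈ Set.range (vanishingIdeal C).subschemeι :=
        ⟨z, rfl⟩
      rw [hrange] at this
      exact this
    have hC'lt : C' < C := by
      refine lt_of_le_of_ne hC'le fun heq => ?_
      have h1 : (vanishingIdeal C).subschemeι η ∈ (C : Set S) := by
        rw [← hrange]; exact ⟨η, rfl⟩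
      have h1' : (vanishingIdeal C).subschemeι η ∈ (C' : Set S) := by
        have e : (C' : Set S) = (C : Set S) :=
          congrArg (fun D : TopologicalSpace.Closeds S => (D : Set S)) heq
        rw [e]; exact h1
      obtain ⟨z', hz', hz'u⟩ := h1'
      have := (vanishingIdeal C).subschemeι.isClosedEmbedding.injective hz'u
      exact hz' (this ▸ hηU)
    obtain ⟨t', ht'⟩ := IH C' hC'lt
    have hle : vanishingIdeal C ≤ vanishingIdeal C' := vanishingIdeal_antimono hC'le
    haveI : IsClosedImmersion (inclusion hle) := by
      have : IsClosedImmersion (inclusion hle ≫ (vanishingIdeal C).subschemeι) := by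
        rw [inclusion_subschemeι]; infer_instance
      exact IsClosedImmersion.of_comp (inclusion hle) (vanishingIdeal C).subschemeι
    haveI : IsLocallyNoetherian (vanishingIdeal C).subscheme :=
      LocallyOfFiniteType.isLocallyNoetherian (vanishingIdeal C).subschemeι
    haveI : LocallyOfFinitePresentation (inclusion hle) :=
      Groth.Agent.Lib.Helper12.SecCompBC.locallyOfFinitePresentation_of_isLocallyNoetherian _
    have hrc : rc (inclusion hle) = U := by
      ext z
      change z ∈ rc (inclusion hle) ↔ z ∈ U
      rw [mem_rc]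
      have hr' : Set.range (vanishingIdeal C').subschemeι = (C' : Set S) := by
        rw [range_subschemeι, coe_support_vanishingIdeal]
      constructor
      · intro hz
        by_contra hzU
        apply hz
        have h2 : (vanishingIdeal C).subschemeι z ∈ (C' : Set S) := ⟨z, hzU, rfl⟩
        rw [← hr'] at h2
        obtain ⟨w, hw⟩ := h2
        refine ⟨w, (vanishingIdeal C).subschemeι.isClosedEmbedding.injective ?_⟩
        rw [← Scheme.Hom.comp_apply, inclusion_subschemeι]
        exact hw
      · rintro hzU ⟨w, rfl⟩
        have h2 : (vanishingIdeal C).subschemeι (inclusion hle w) ∈ (C' : Set S) := by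
          rw [← hr', ← Scheme.Hom.comp_apply, inclusion_subschemeι]
          exact ⟨w, rfl⟩
        obtain ⟨z', hz', hz'w⟩ := h2
        have := (vanishingIdeal C).subschemeι.isClosedEmbedding.injective hz'w
        exact hz' (this ▸ hzU)
    refine ⟨t' + 1, ?_⟩
    rw [bchain_succ]
    refine ⟨_, inclusion hle, inferInstance, inferInstance, ?_, ?_⟩
    · rw [hrc]; exact ⟨V, v, hv1, hv3, hv4, hv5, hG⟩
    · apply snd_of_hasQBC
      apply hasQBC_of_isPullback (IsPullback.of_hasPullback f (vanishingIdeal C).subschemeι)
      exact (hasQBC_of_snd f _ ht').of_eq (inclusion_subschemeι hle).symm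

open Scheme IdealSheafData in
/-- Over a Noetherian base every finitely presented morphism admits a stratification of the base
with smooth stratifications upstairs. -/
theorem bgood_of_isNoetherian {X S : Scheme.{u}} (f : X ⟶ S)
    [LocallyOfFinitePresentation f] [QuasiCompact f] [QuasiSeparated f] [IsNoetherian S] :
    BGood f := by
  obtain ⟨t, ht⟩ := exists_bchain_of_isNoetherian f ⊤
  refine ⟨_, (vanishingIdeal (⊤ : TopologicalSpace.Closeds S)).subschemeι, inferInstance,
    Groth.Agent.Lib.Helper12.SecCompBC.locallyOfFinitePresentation_of_isLocallyNoetherian _,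
    ⟨fun x => ?_⟩, t, ht⟩
  have h1 : Set.range (vanishingIdeal (⊤ : TopologicalSpace.Closeds S)).subschemeι =
      Set.univ := by
    rw [range_subschemeι, coe_support_vanishingIdeal]; rfl
  exact h1.ge (Set.mem_univ x)

/-- Noetherian approximation of a finitely presented morphism over a quasi-compact
quasi-separated base. -/
theorem exists_noetherian_approx {X S : Scheme.{u}} (f : X ⟶ S)
    [LocallyOfFinitePresentation f] [QuasiCompact f] [QuasiSeparated f] [CompactSpace S]
    [QuasiSeparatedSpace S] :
    ∃ (S₀ X₀ : Scheme.{u}) (f₀ : X₀ ⟶ S₀) (g : S ⟶ S₀) (g' : X ⟶ X₀), IsNoetherian S₀ ∧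
      LocallyOfFiniteType (specULiftZIsTerminal.from S₀) ∧
      LocallyOfFinitePresentation f₀ ∧ QuasiCompact f₀ ∧ QuasiSeparated f₀ ∧
      IsPullback g' f f₀ g := by
  obtain ⟨A, iA1, iA2, iA3, D, c, hc, haff, hft, ⟨e⟩⟩ := Groth.Agent.S0590.result S
  haveI : ∀ (a b : Aᵒᵖ) (m : a ⟶ b), IsAffineHom (D.map m) := fun a b m => haff a b m
  haveI : ∀ a, CompactSpace (D.obj a) := fun a => (hft a).1
  haveI : ∀ a, QuasiSeparatedSpace (D.obj a) := fun a => by
    haveI := (hft a).2
    exact ApproxWrap.quasiSeparatedSpace_of_lft
  obtain ⟨f', hf'⟩ : ∃ f' : X ⟶ c.pt, f' = f ≫ e.inv := ⟨_, rfl⟩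
  haveI : LocallyOfFinitePresentation f' := by rw [hf']; infer_instance
  haveI : QuasiCompact f' := by rw [hf']; infer_instance
  haveI : QuasiSeparated f' := by rw [hf']; infer_instance
  obtain ⟨i, Xi, fi, g, h1, h2, h3, sq⟩ := Groth.Agent.S0591.result D c hc X f'
  haveI := (hft i).2
  haveI : IsLocallyNoetherian (D.obj i) :=
    LocallyOfFiniteType.isLocallyNoetherian (specULiftZIsTerminal.from (D.obj i))
  refine ⟨D.obj i, Xi, fi, e.inv ≫ c.π.app i, g, ⟨⟩, (hft i).2, h1, h2, h3, ?_⟩
  have sq0 : IsPullback (𝟙 X) f f' e.inv := IsPullback.of_horiz_isIso ⟨by rw [hf']; simp⟩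
  have := sq0.paste_horiz sq
  rwa [Category.id_comp] at this

/-- Every finitely presented morphism over a quasi-compact quasi-separated base admits a
stratification of the base with smooth stratifications upstairs. -/
theorem bgood_of_qcqs {X S : Scheme.{u}} (f : X ⟶ S)
    [LocallyOfFinitePresentation f] [QuasiCompact f] [QuasiSeparated f] [CompactSpace S]
    [QuasiSeparatedSpace S] : BGood f := by
  obtain ⟨S₀, X₀, f₀, g, g', h1, -, h2, h3, h4, sq⟩ := exists_noetherian_approx f
  haveI := h1
  haveI := h2
  haveI := h3
  haveI := h4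
  exact BGood.of_isPullback sq (bgood_of_isNoetherian f₀)

end Groth.Agent.Lib.Helper12.SmStrat
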