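import Mathlib
import Groth.Agent.Lib.Helper12.SmStratNoeth

/-!
# Helper library (helper12): from stratifications of the base to chains of ideal sheaves
-/

universe u

open CategoryTheory CategoryTheory.Limits AlgebraicGeometry Topology

set_option backward.isDefEq.respectTransparency false
set_option linter.style.haveILetI false

namespace Groth.Agent.Lib.Helper12.SmStrat

open Groth.Agent.Lib.Helper12.ConsMorGen Groth.Agent.Lib.Helper12

/-- An open piece of a closed subscheme is isomorphic to the corresponding open piece of the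
subscheme of its kernel. -/
lemma exists_iso_stratum {Z P : Scheme.{u}} (b : Z ⟶ P) [IsClosedImmersion b]
    (W : P.Opens) (W' : Z.Opens) (hW : W' = b ⁻¹ᵁ W) :
    ∃ φ : (W' : Scheme.{u}) ⟶ ↑(b.ker.subschemeι ⁻¹ᵁ W), IsIso φ ∧
      φ ≫ (b.ker.subschemeι ⁻¹ᵁ W).ι ≫ b.ker.subschemeι = W'.ι ≫ b := by
  have e1 : W' = b.toImage ⁻¹ᵁ (b.ker.subschemeι ⁻¹ᵁ W) := by
    rw [hW, ← Scheme.Hom.comp_preimage, Scheme.Hom.toImage_imageι]
  subst e1
  refine ⟨b.toImage ∣_ (b.ker.subschemeι ⁻¹ᵁ W), inferInstance, ?_⟩
  rw [← Category.assoc, morphismRestrict_ι, Category.assoc, Scheme.Hom.toImage_imageι]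

open Scheme IdealSheafData in
/-- A chain of closed subschemes of the base as in `BChain` gives a chain of ideal sheaves. -/
theorem exists_ideals_of_bchain : ∀ (t : ℕ) {X S Z : Scheme.{u}} (f : X ⟶ S) (b : Z ⟶ S)
    [IsClosedImmersion b] [LocallyOfFinitePresentation b], BChain t (pullback.snd f b) →
    ∃ I : Fin (t + 1) → S.IdealSheafData, Monotone I ∧ I 0 = b.ker ∧ I (Fin.last t) = ⊤ ∧
      (∀ i, ∀ O : S.affineOpens, ((I i).ideal O).FG) ∧
      ∀ i : Fin t, ∃ (T : Scheme.{u})
        (v : T ⟶ ↑((I i.castSucc).subschemeι ⁻¹ᵁ (I i.succ).support.compl)),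
        Surjective v ∧ IsFinite v ∧ Flat v ∧ LocallyOfFinitePresentation v ∧
        Good (pullback.snd f (v ≫ ((I i.castSucc).subschemeι ⁻¹ᵁ (I i.succ).support.compl).ι ≫
          (I i.castSucc).subschemeι))
  | 0, X, S, Z, f, b, _, _, hc => by
    rw [bchain_zero] at hc
    haveI := hc
    refine ⟨fun _ => b.ker, monotone_const, rfl, ker_eq_top_of_isEmpty b,
      fun _ O => IdealFG.fg_ker_ideal b O, fun i => i.elim0⟩
  | (t + 1), X, S, Z, f, b, _, _, hc => by
    rw [bchain_succ] at hc
    obtain ⟨Z', a, ha1, ha2, ha3, ha4⟩ := hc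
    haveI := ha1
    haveI := ha2
    have ha4' : BChain t (pullback.snd f (a ≫ b)) := by
      apply snd_of_hasQBC
      exact hasQBC_to_isPullback (IsPullback.of_hasPullback f b) a (hasQBC_of_snd _ a ha4)
    obtain ⟨I', hI1, hI2, hI3, hI4, hI5⟩ := exists_ideals_of_bchain t f (a ≫ b) ha4'
    refine ⟨Fin.cons b.ker I', ?_, ?_, ?_, ?_, ?_⟩
    · rw [Fin.monotone_iff_le_succ]
      intro i
      induction i using Fin.cases with
      | zero =>
        rw [Fin.castSucc_zero, Fin.cons_zero, Fin.cons_succ, hI2]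
        exact Scheme.Hom.le_ker_comp a b
      | succ j =>
        rw [← Fin.succ_castSucc, Fin.cons_succ, Fin.cons_succ]
        exact hI1 (Fin.castSucc_le_succ j)
    · exact Fin.cons_zero _ _
    · rw [← Fin.succ_last, Fin.cons_succ]
      exact hI3
    · intro i
      induction i using Fin.cases with
      | zero => intro O; rw [Fin.cons_zero]; exact IdealFG.fg_ker_ideal b O
      | succ j => intro O; rw [Fin.cons_succ]; exact hI4 j O
    · intro i
      induction i using Fin.cases with
      | zero =>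
        rw [Fin.castSucc_zero, Fin.cons_zero, Fin.cons_succ, hI2]
        obtain ⟨T, v, hv1, hv2, hv3, hv4, hG⟩ := ha3
        haveI := hv1
        haveI := hv2
        haveI := hv3
        haveI := hv4
        have hW : rc a = b ⁻¹ᵁ (a ≫ b).ker.support.compl := by
          ext z
          change z ∈ rc a ↔ b z ∈ ((a ≫ b).ker.support.compl : Set S)
          rw [mem_rc, TopologicalSpace.Closeds.coe_compl, Set.mem_compl_iff,
            Scheme.Hom.support_ker, (a ≫ b).isClosedEmbedding.isClosed_range.closure_eq]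
          constructor
          · rintro hz ⟨w, hw⟩
            refine hz ⟨w, b.isClosedEmbedding.injective ?_⟩
            rw [← Scheme.Hom.comp_apply]; exact hw
          · rintro hz ⟨w, rfl⟩
            exact hz ⟨w, by rw [Scheme.Hom.comp_apply]⟩
        obtain ⟨φ, hφ1, hφ2⟩ := exists_iso_stratum b _ (rc a) hW
        haveI := hφ1
        refine ⟨T, v ≫ φ, inferInstance, inferInstance, inferInstance, inferInstance, ?_⟩
        apply snd_of_hasQBC
        have H := hasQBC_to_isPullback (IsPullback.of_hasPullback f b) (v ≫ (rc a).ι)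
          (hasQBC_of_snd _ _ hG)
        refine H.of_eq ?_
        rw [Category.assoc, Category.assoc, hφ2]
      | succ j =>
        rw [← Fin.succ_castSucc, Fin.cons_succ, Fin.cons_succ]
        exact hI5 j

/-- A stratification of the base in the sense of `BGood` gives a chain of ideal sheaves of finite
type on the base, the first of which cuts out a thickening. -/
theorem exists_ideals_of_bgood {X S : Scheme.{u}} (f : X ⟶ S) (hg : BGood f) :
    ∃ (t : ℕ) (I : Fin (t + 1) → S.IdealSheafData), Monotone I ∧ I (Fin.last t) = ⊤ ∧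
      ((I 0).support : Set S) = Set.univ ∧ (∀ i, ∀ O : S.affineOpens, ((I i).ideal O).FG) ∧
      ∀ i : Fin t, ∃ (T : Scheme.{u})
        (v : T ⟶ ↑((I i.castSucc).subschemeι ⁻¹ᵁ (I i.succ).support.compl)),
        Surjective v ∧ IsFinite v ∧ Flat v ∧ LocallyOfFinitePresentation v ∧
        Good (pullback.snd f (v ≫ ((I i.castSucc).subschemeι ⁻¹ᵁ (I i.succ).support.compl).ι ≫
          (I i.castSucc).subschemeι)) := by
  obtain ⟨Z, a, h1, h2, h3, t, h4⟩ := hg
  haveI := h1
  haveI := h2
  obtain ⟨I, hI1, hI2, hI3, hI4, hI5⟩ := exists_ideals_of_bchain t f a h4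
  refine ⟨t, I, hI1, hI3, ?_, hI4, hI5⟩
  rw [hI2, Scheme.Hom.support_ker, a.isClosedEmbedding.isClosed_range.closure_eq]
  exact Set.range_eq_univ.mpr h3.surj

end Groth.Agent.Lib.Helper12.SmStrat
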