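import Mathlib
import Groth.Agent.Lib.Helper12.SmStratBaseIdeal

/-!
# Helper library (helper12): stratifications adapted to a sieve

For a sieve `Φ` on a scheme `S` (a class of morphisms into `S` closed under precomposition):

* `PChain Φ t Z b`: the scheme `Z` over `S` has a chain of `t` finitely presented closed subschemes
  ending in the empty scheme whose successive differences belong to `Φ`;
* `PChain.of_isPullback`: base change;
* `Generic Φ`: every integral scheme over `S` has a nonempty open subscheme in `Φ`;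
* `exists_pchain_of_isNoetherian`: Noetherian induction;
* `exists_ideals_of_pchain`: translation into chains of ideal sheaves of finite type.
-/

universe u

open CategoryTheory CategoryTheory.Limits AlgebraicGeometry Topology TopologicalSpace

set_option backward.isDefEq.respectTransparency false
set_option linter.style.haveILetI false

namespace Groth.Agent.Lib.Helper12.SieveStrat

open Groth.Agent.Lib.Helper12.SmStrat Groth.Agent.Lib.Helper12

/-- `PChain Φ t Z b`: there is a chain of `t` finitely presented closed subschemes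
`Z ⊇ Z₁ ⊇ … ⊇ Z_t = ∅` whose successive differences (as schemes over `S`) belong to `Φ`. -/
def PChain {S : Scheme.{u}} (Φ : Sieve S) : ℕ → ∀ (Z : Scheme.{u}), (Z ⟶ S) → Prop
  | 0, Z, _ => IsEmpty Z
  | (t + 1), Z, b => ∃ (Z' : Scheme.{u}) (a : Z' ⟶ Z), IsClosedImmersion a ∧
      LocallyOfFinitePresentation a ∧ Φ ((rc a).ι ≫ b) ∧ PChain Φ t Z' (a ≫ b)

lemma pchain_zero {S : Scheme.{u}} (Φ : Sieve S) {Z : Scheme.{u}} (b : Z ⟶ S) :
    PChain Φ 0 Z b ↔ IsEmpty Z := Iff.rfl

lemma pchain_succ {S : Scheme.{u}} (Φ : Sieve S) (t : ℕ) {Z : Scheme.{u}} (b : Z ⟶ S) :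
    PChain Φ (t + 1) Z b ↔ ∃ (Z' : Scheme.{u}) (a : Z' ⟶ Z), IsClosedImmersion a ∧
      LocallyOfFinitePresentation a ∧ Φ ((rc a).ι ≫ b) ∧ PChain Φ t Z' (a ≫ b) := Iff.rfl

theorem PChain.mono {S : Scheme.{u}} {Φ Ψ : Sieve S} (hle : Φ ≤ Ψ) :
    ∀ (t : ℕ) {Z : Scheme.{u}} (b : Z ⟶ S), PChain Φ t Z b → PChain Ψ t Z b
  | 0, _, _, h => h
  | (t + 1), Z, b, h => by
    rw [pchain_succ] at h ⊢
    obtain ⟨Z', a, h1, h2, h3, h4⟩ := h
    exact ⟨Z', a, h1, h2, hle _ h3, PChain.mono hle t _ h4⟩

theorem PChain.of_isPullback {S S' : Scheme.{u}} (Φ : Sieve S) (h : S' ⟶ S) :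
    ∀ (t : ℕ) {Z Z' : Scheme.{u}} {b : Z ⟶ S} {b' : Z' ⟶ S'} {p : Z' ⟶ Z}
      (_ : IsPullback p b' b h), PChain Φ t Z b → PChain (Φ.pullback h) t Z' b'
  | 0, _, _, _, _, p, _, hc => by
    rw [pchain_zero] at hc ⊢
    exact Function.isEmpty p
  | (t + 1), Z, Z', b, b', p, sq, hc => by
    rw [pchain_succ] at hc ⊢
    obtain ⟨Z₁, a, h1, h2, h3, h4⟩ := hc
    haveI := h1
    haveI := h2
    have sqa : IsPullback (pullback.fst a p) (pullback.snd a p) a p :=
      IsPullback.of_hasPullback a p
    obtain ⟨r, hr⟩ := exists_isPullback_rc sqa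
    refine ⟨pullback a p, pullback.snd a p, inferInstance, inferInstance, ?_,
      PChain.of_isPullback Φ h t (sqa.paste_vert sq) h4⟩
    rw [Sieve.pullback_apply]
    have e : ((rc (pullback.snd a p)).ι ≫ b') ≫ h = r ≫ (rc a).ι ≫ b := by
      rw [Category.assoc, ← sq.w, ← Category.assoc, ← hr.w, Category.assoc]
    rw [e]
    exact Φ.downward_closed h3 r

/-- Every integral scheme over `S` has a nonempty open subscheme belonging to the sieve. -/
def Generic {S : Scheme.{u}} (Φ : Sieve S) : Prop :=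
  ∀ (Z : Scheme.{u}) [IsIntegral Z] (z : Z ⟶ S),
    ∃ U : Z.Opens, (U : Set Z).Nonempty ∧ Φ (U.ι ≫ z)

lemma Generic.pullback {S S' : Scheme.{u}} {Φ : Sieve S} (hΦ : Generic Φ) (h : S' ⟶ S) :
    Generic (Φ.pullback h) := by
  intro Z _ z
  obtain ⟨U, hU, hΦU⟩ := hΦ Z (z ≫ h)
  refine ⟨U, hU, ?_⟩
  rw [Sieve.pullback_apply, Category.assoc]
  exact hΦU

lemma Generic.inf {S : Scheme.{u}} {Φ Ψ : Sieve S} (hΦ : Generic Φ) (hΨ : Generic Ψ) :
    Generic (Φ ⊓ Ψ) := by
  intro Z _ z
  obtain ⟨U, hU, hΦU⟩ := hΦ Z z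
  obtain ⟨V, hV, hΨV⟩ := hΨ Z z
  refine ⟨U ⊓ V, ?_, ?_, ?_⟩
  · exact (IrreducibleSpace.isIrreducible_univ Z).2 U V U.2 V.2
      (by rwa [Set.univ_inter]) (by rwa [Set.univ_inter]) |>.imp fun x hx => hx.2
  · have e : (U ⊓ V).ι = Z.homOfLE (inf_le_left : U ⊓ V ≤ U) ≫ U.ι := by
      rw [Scheme.homOfLE_ι]
    rw [e, Category.assoc]
    exact Φ.downward_closed hΦU _
  · have e : (U ⊓ V).ι = Z.homOfLE (inf_le_right : U ⊓ V ≤ V) ≫ V.ι := by
      rw [Scheme.homOfLE_ι]
    rw [e, Category.assoc]
    exact Ψ.downward_closed hΨV _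

/-- A nonempty Noetherian quasi-sober space has a nonempty irreducible open subset. -/
lemma exists_irreducible_open (Z : Type*) [TopologicalSpace Z] [NoetherianSpace Z] [QuasiSober Z]
    [Nonempty Z] : ∃ U : Opens Z, IsIrreducible (U : Set Z) := by
  classical
  obtain ⟨z⟩ : Nonempty Z := inferInstance
  have hfin : (irreducibleComponents Z).Finite := NoetherianSpace.finite_irreducibleComponents
  have hZ₀ : irreducibleComponent z ∈ irreducibleComponents Z :=
    irreducibleComponent_mem_irreducibleComponents z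
  obtain ⟨η, hη⟩ := QuasiSober.sober (isIrreducible_irreducibleComponent (x := z))
    isClosed_irreducibleComponent
  let W : Set Z := (⋃ Z' ∈ {Z' ∈ irreducibleComponents Z | Z' ≠ irreducibleComponent z}, Z')ᶜ
  have hWopen : IsOpen W :=
    (Set.Finite.isClosed_biUnion (hfin.subset fun _ h => h.1)
      (fun Z' h => isClosed_of_mem_irreducibleComponents _ h.1)).isOpen_compl
  have hηW : η ∈ W := by
    intro h
    simp only [Set.mem_iUnion, Set.mem_setOf_eq, exists_prop] at h
    obtain ⟨Z', ⟨hZ', hne⟩, hmem⟩ := h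
    apply hne
    have hsub : irreducibleComponent z ⊆ Z' := by
      rw [← hη.def]
      exact closure_minimal (Set.singleton_subset_iff.mpr hmem)
        (isClosed_of_mem_irreducibleComponents _ hZ')
    exact Set.Subset.antisymm (hZ₀.2 hZ'.1 hsub) hsub |>.symm ▸ rfl
  have hWZ : W ⊆ irreducibleComponent z := by
    intro x hx
    by_contra hxZ
    apply hx
    simp only [Set.mem_iUnion, Set.mem_setOf_eq, exists_prop]
    refine ⟨irreducibleComponent x, ⟨irreducibleComponent_mem_irreducibleComponents x, ?_⟩,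
      mem_irreducibleComponent⟩
    intro h
    apply hxZ
    rw [← h]
    exact mem_irreducibleComponent
  exact ⟨⟨W, hWopen⟩, ⟨η, hηW⟩,
    (isIrreducible_irreducibleComponent (x := z)).isPreirreducible.open_subset hWopen hWZ⟩

open Scheme IdealSheafData in
/-- Noetherian induction: over a Noetherian base, every reduced closed subscheme admits a chain
adapted to a generic sieve. -/
theorem exists_pchain_of_isNoetherian {S : Scheme.{u}} [IsNoetherian S] (Φ : Sieve S)
    (hΦ : Generic Φ) (C : TopologicalSpace.Closeds S) :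
    ∃ t, PChain Φ t _ (vanishingIdeal C).subschemeι := by
  induction C using WellFoundedLT.induction with
  | ind C IH =>
  by_cases hC : (C : Set S) = ∅
  · refine ⟨0, ?_⟩
    rw [pchain_zero]
    have h1 : Set.range (vanishingIdeal C).subschemeι = ∅ := by
      rw [range_subschemeι, coe_support_vanishingIdeal, hC]
    exact Set.range_eq_empty_iff.mp h1
  · haveI : IsReduced (vanishingIdeal C).subscheme :=
      Groth.Agent.Lib.Helper7.isReduced_vanishingIdeal_subscheme C
    have hrange : Set.range (vanishingIdeal C).subschemeι = (C : Set S) := by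
      rw [range_subschemeι, coe_support_vanishingIdeal]
    obtain ⟨x, hx⟩ := Set.nonempty_iff_ne_empty.mpr hC
    rw [← hrange] at hx
    obtain ⟨z, rfl⟩ := hx
    haveI : Nonempty (vanishingIdeal C).subscheme := ⟨z⟩
    haveI : IsLocallyNoetherian (vanishingIdeal C).subscheme :=
      LocallyOfFiniteType.isLocallyNoetherian (vanishingIdeal C).subschemeι
    haveI : CompactSpace (vanishingIdeal C).subscheme :=
      QuasiCompact.compactSpace_of_compactSpace (vanishingIdeal C).subschemeι
    haveI : IsNoetherian (vanishingIdeal C).subscheme := {}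
    obtain ⟨U₁, hU₁⟩ : ∃ U₁ : (vanishingIdeal C).subscheme.Opens,
        IsIrreducible (U₁ : Set (vanishingIdeal C).subscheme) :=
      exists_irreducible_open (vanishingIdeal C).subscheme
    haveI : IrreducibleSpace (U₁ : Scheme.{u}) := Subtype.irreducibleSpace hU₁
    haveI : IsIntegral (U₁ : Scheme.{u}) := isIntegral_of_irreducibleSpace_of_isReduced _
    obtain ⟨U₂, ⟨u₂, hu₂⟩, hΦU⟩ := hΦ (U₁ : Scheme.{u}) (U₁.ι ≫ (vanishingIdeal C).subschemeι)
    have hΦU'' : Φ ((U₁.ι ''ᵁ U₂).ι ≫ (vanishingIdeal C).subschemeι) := by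
      have e : (U₁.ι ''ᵁ U₂).ι ≫ (vanishingIdeal C).subschemeι =
          (U₁.ι.isoImage U₂).inv ≫ U₂.ι ≫ U₁.ι ≫ (vanishingIdeal C).subschemeι := by
        rw [← Scheme.Hom.isoImage_inv_ι, Category.assoc, Category.assoc]
      rw [e]
      exact Φ.downward_closed hΦU _
    obtain ⟨U, hUdef⟩ : ∃ U : (vanishingIdeal C).subscheme.Opens, U = U₁.ι ''ᵁ U₂ := ⟨_, rfl⟩
    have hΦU' : Φ (U.ι ≫ (vanishingIdeal C).subschemeι) := by
      rw [hUdef]; exact hΦU''
    have hηU : U₁.ι u₂ ∈ U := by
      rw [hUdef]; exact ⟨u₂, hu₂, rfl⟩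
    obtain ⟨η, hηdef⟩ : ∃ η : (vanishingIdeal C).subscheme, η = U₁.ι u₂ := ⟨_, rfl⟩
    rw [← hηdef] at hηU
    have hcl : IsClosed ((vanishingIdeal C).subschemeι ''
        ((U : Set (vanishingIdeal C).subscheme)ᶜ)) :=
      (vanishingIdeal C).subschemeι.isClosedEmbedding.isClosedMap _ U.2.isClosed_compl
    let C' : TopologicalSpace.Closeds S := ⟨_, hcl⟩
    have hC'le : C' ≤ C := by
      intro x hx
      obtain ⟨z, -, rfl⟩ := hx
      have : (vanishingIdeal C).subschemeι z ∈ Set.range (vanishingIdeal C).subschemeι :=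
        ⟨z, rfl⟩
      rw [hrange] at this
      exact this
    have hC'lt : C' < C := by
      refine lt_of_le_of_ne hC'le fun heq => ?_
      have h1 : (vanishingIdeal C).subschemeι η ∈ (C : Set S) := by
        rw [← hrange]; exact ⟨η, rfl⟩
      have h1' : (vanishingIdeal C).subschemeι η ∈ (C' : Set S) := by
        have e : (C' : Set S) = (C : Set S) :=
          congrArg (fun D : TopologicalSpace.Closeds S => (D : Set S)) heq
        rw [e]; exact h1
      obtain ⟨z', hz', hz'u⟩ := h1'
      have := (vanishingIdeal C).subschemeι.isClosedEmbedding.injective hz'u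
      exact hz' (this ▸ hηU)
    obtain ⟨t', ht'⟩ := IH C' hC'lt
    have hle : vanishingIdeal C ≤ vanishingIdeal C' := vanishingIdeal_antimono hC'le
    haveI : IsClosedImmersion (inclusion hle) := by
      have : IsClosedImmersion (inclusion hle ≫ (vanishingIdeal C).subschemeι) := by
        rw [inclusion_subschemeι]; infer_instance
      exact IsClosedImmersion.of_comp (inclusion hle) (vanishingIdeal C).subschemeι
    haveI : LocallyOfFinitePresentation (inclusion hle) :=
      Groth.Agent.Lib.Helper12.SecCompBC.locallyOfFinitePresentation_of_isLocallyNoetherian _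
    have hrc : rc (inclusion hle) = U := by
      ext z
      change z ∈ rc (inclusion hle) ↔ z ∈ U
      rw [mem_rc]
      have hr' : Set.range (vanishingIdeal C').subschemeι = (C' : Set S) := by
        rw [range_subschemeι, coe_support_vanishingIdeal]
      constructor
      · intro hz
        by_contra hzU
        apply hz
        have h2 : (vanishingIdeal C).subschemeι z ∈ (C' : Set S) := ⟨z, hzU, rfl⟩
        rw [← hr'] at h2
        obtain ⟨w, hw⟩ := h2
        refine ⟨w, (vanishingIdeal C).subschemeι.isClosedEmbedding.injective ?_⟩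
        rw [← Scheme.Hom.comp_apply, inclusion_subschemeι]
        exact hw
      · rintro hzU ⟨w, rfl⟩
        have h2 : (vanishingIdeal C).subschemeι (inclusion hle w) ∈ (C' : Set S) := by
          rw [← hr', ← Scheme.Hom.comp_apply, inclusion_subschemeι]
          exact ⟨w, rfl⟩
        obtain ⟨z', hz', hz'w⟩ := h2
        have := (vanishingIdeal C).subschemeι.isClosedEmbedding.injective hz'w
        exact hz' (this ▸ hzU)
    refine ⟨t' + 1, ?_⟩
    rw [pchain_succ]
    refine ⟨_, inclusion hle, inferInstance, inferInstance, ?_, ?_⟩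
    · rw [hrc]; exact hΦU'
    · rw [inclusion_subschemeι]; exact ht'

open Scheme IdealSheafData in
/-- A chain adapted to a sieve gives a chain of ideal sheaves of finite type whose strata belong to
the sieve. -/
theorem exists_ideals_of_pchain {S : Scheme.{u}} (Φ : Sieve S) :
    ∀ (t : ℕ) {Z : Scheme.{u}} (b : Z ⟶ S) [IsClosedImmersion b]
    [LocallyOfFinitePresentation b], PChain Φ t Z b →
    ∃ I : Fin (t + 1) → S.IdealSheafData, Monotone I ∧ I 0 = b.ker ∧ I (Fin.last t) = ⊤ ∧
      (∀ i, ∀ O : S.affineOpens, ((I i).ideal O).FG) ∧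
      ∀ i : Fin t, Φ (((I i.castSucc).subschemeι ⁻¹ᵁ (I i.succ).support.compl).ι ≫
          (I i.castSucc).subschemeι)
  | 0, Z, b, _, _, hc => by
    rw [pchain_zero] at hc
    haveI := hc
    refine ⟨fun _ => b.ker, monotone_const, rfl, ker_eq_top_of_isEmpty b,
      fun _ O => IdealFG.fg_ker_ideal b O, fun i => i.elim0⟩
  | (t + 1), Z, b, _, _, hc => by
    rw [pchain_succ] at hc
    obtain ⟨Z', a, ha1, ha2, ha3, ha4⟩ := hc
    haveI := ha1
    haveI := ha2
    obtain ⟨I', hI1, hI2, hI3, hI4, hI5⟩ := exists_ideals_of_pchain Φ t (a ≫ b) ha4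
    refine ⟨Fin.cons b.ker I', ?_, ?_, ?_, ?_, ?_⟩
    · rw [Fin.monotone_iff_le_succ]
      intro i
      induction i using Fin.cases with
      | zero =>
        rw [Fin.castSucc_zero, Fin.cons_zero, Fin.cons_succ, hI2]
        exact Scheme.Hom.le_ker_comp a b
      | succ j =>
        rw [← Fin.succ_castSucc, Fin.cons_succ, Fin.cons_succ]
        exact hI1 (Fin.castSucc_le_succ j)
    · exact Fin.cons_zero _ _
    · rw [← Fin.succ_last, Fin.cons_succ]
      exact hI3
    · intro i
      induction i using Fin.cases with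
      | zero => intro O; rw [Fin.cons_zero]; exact IdealFG.fg_ker_ideal b O
      | succ j => intro O; rw [Fin.cons_succ]; exact hI4 j O
    · intro i
      induction i using Fin.cases with
      | zero =>
        rw [Fin.castSucc_zero, Fin.cons_zero, Fin.cons_succ, hI2]
        have hW : rc a = b ⁻¹ᵁ (a ≫ b).ker.support.compl := by
          ext z
          change z ∈ rc a ↔ b z ∈ ((a ≫ b).ker.support.compl : Set S)
          rw [mem_rc, TopologicalSpace.Closeds.coe_compl, Set.mem_compl_iff,
            Scheme.Hom.support_ker, (a ≫ b).isClosedEmbedding.isClosed_range.closure_eq]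
          constructor
          · rintro hz ⟨w, hw⟩
            refine hz ⟨w, b.isClosedEmbedding.injective ?_⟩
            rw [← Scheme.Hom.comp_apply]; exact hw
          · rintro hz ⟨w, rfl⟩
            exact hz ⟨w, by rw [Scheme.Hom.comp_apply]⟩
        obtain ⟨φ, hφ1, hφ2⟩ := exists_iso_stratum b _ (rc a) hW
        haveI := hφ1
        have e : (b.ker.subschemeι ⁻¹ᵁ (a ≫ b).ker.support.compl).ι ≫ b.ker.subschemeι =
            inv φ ≫ (rc a).ι ≫ b := by
          rw [IsIso.eq_inv_comp, hφ2]
        rw [e]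
        exact Φ.downward_closed ha3 _
      | succ j =>
        rw [← Fin.succ_castSucc, Fin.cons_succ, Fin.cons_succ]
        exact hI5 j

/-- Over a Noetherian base, a generic sieve admits a stratification by ideal sheaves. -/
theorem exists_chain_of_isNoetherian {S : Scheme.{u}} [IsNoetherian S] (Φ : Sieve S)
    (hΦ : Generic Φ) :
    ∃ (Z : Scheme.{u}) (a : Z ⟶ S), IsClosedImmersion a ∧ LocallyOfFinitePresentation a ∧
      Surjective a ∧ ∃ t, PChain Φ t Z a := by
  obtain ⟨t, ht⟩ := exists_pchain_of_isNoetherian Φ hΦ ⊤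
  refine ⟨_, (Scheme.IdealSheafData.vanishingIdeal (⊤ : TopologicalSpace.Closeds S)).subschemeι,
    inferInstance,
    Groth.Agent.Lib.Helper12.SecCompBC.locallyOfFinitePresentation_of_isLocallyNoetherian _,
    ⟨fun x => ?_⟩, t, ht⟩
  have h1 : Set.range
      (Scheme.IdealSheafData.vanishingIdeal (⊤ : TopologicalSpace.Closeds S)).subschemeι =
      Set.univ := by
    rw [Scheme.IdealSheafData.range_subschemeι, Scheme.IdealSheafData.coe_support_vanishingIdeal]
    rfl
  exact h1.ge (Set.mem_univ x)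

/-- If the pullback of a generic sieve on a Noetherian scheme is contained in `Ψ`, then `Ψ` admits
a stratification by ideal sheaves of finite type, the first of which cuts out a thickening. -/
theorem exists_ideals_of_generic {S S₁ : Scheme.{u}} [IsNoetherian S₁] (g : S ⟶ S₁)
    (Φ : Sieve S₁) (hΦ : Generic Φ) (Ψ : Sieve S) (hle : Φ.pullback g ≤ Ψ) :
    ∃ (t : ℕ) (I : Fin (t + 1) → S.IdealSheafData), Monotone I ∧ I (Fin.last t) = ⊤ ∧
      ((I 0).support : Set S) = Set.univ ∧ (∀ i, ∀ O : S.affineOpens, ((I i).ideal O).FG) ∧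
      ∀ i : Fin t, Ψ (((I i.castSucc).subschemeι ⁻¹ᵁ (I i.succ).support.compl).ι ≫
          (I i.castSucc).subschemeι) := by
  obtain ⟨Z, a, h1, h2, h3, t, h4⟩ := exists_chain_of_isNoetherian Φ hΦ
  have h5 : PChain Ψ t _ (pullback.snd a g) :=
    PChain.mono hle t _ (PChain.of_isPullback Φ g t (IsPullback.of_hasPullback a g) h4)
  obtain ⟨I, hI1, hI2, hI3, hI4, hI5⟩ := exists_ideals_of_pchain Ψ t (pullback.snd a g) h5
  refine ⟨t, I, hI1, hI3, ?_, hI4, hI5⟩
  rw [hI2, Scheme.Hom.support_ker,
    (pullback.snd a g).isClosedEmbedding.isClosed_range.closure_eq]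
  haveI := h3
  have hs : Surjective (pullback.snd a g) := inferInstance
  exact Set.range_eq_univ.mpr hs.surj

end Groth.Agent.Lib.Helper12.SieveStrat
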