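import Mathlib
import Groth.Agent.Lib.Helper12.SieveStrat
import Groth.Agent.Lib.Helper17.FlatStageRelPt
import Groth.Agent.Lib.Helper17.PbFinite
import Groth.Agent.Lib.Helper28.GenFlatMod
import Groth.Agent.S9350

/-!
# Helper library (helper12): the sieve of base changes over which a module becomes flat

For `f : X ⟶ S`, `q : X ⟶ X₀` and a quasi-coherent module `F₀` on `X₀`, `flatSieve f q F₀` is the
sieve on `S` of all `w : U ⟶ S` such that the pullback of `F₀` to `X ×_S U` is flat over `U`.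
-/

universe u

open CategoryTheory CategoryTheory.Limits AlgebraicGeometry Topology TopologicalSpace

set_option backward.isDefEq.respectTransparency false
set_option linter.style.haveILetI false

namespace Groth.Agent.Lib.Helper12.FlatSieve

open Groth.Agent.Lib.Helper17 Groth.Agent.Lib.Helper12

variable {X S X₀ : Scheme.{u}}

/-- The canonical map between base changes. -/
noncomputable def bc (f : X ⟶ S) {U U' : Scheme.{u}} (r : U' ⟶ U) (w : U ⟶ S) :
    pullback f (r ≫ w) ⟶ pullback f w :=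
  pullback.lift (pullback.fst f (r ≫ w)) (pullback.snd f (r ≫ w) ≫ r)
    (by rw [pullback.condition, Category.assoc])

@[reassoc]
lemma bc_fst (f : X ⟶ S) {U U' : Scheme.{u}} (r : U' ⟶ U) (w : U ⟶ S) :
    bc f r w ≫ pullback.fst f w = pullback.fst f (r ≫ w) := pullback.lift_fst _ _ _

@[reassoc]
lemma bc_snd (f : X ⟶ S) {U U' : Scheme.{u}} (r : U' ⟶ U) (w : U ⟶ S) :
    bc f r w ≫ pullback.snd f w = pullback.snd f (r ≫ w) ≫ r := pullback.lift_snd _ _ _

lemma isPullback_bc (f : X ⟶ S) {U U' : Scheme.{u}} (r : U' ⟶ U) (w : U ⟶ S) :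
    IsPullback (bc f r w) (pullback.snd f (r ≫ w)) (pullback.snd f w) r := by
  refine IsPullback.of_right ?_ (bc_snd f r w) (IsPullback.of_hasPullback f w)
  rw [bc_fst]
  exact IsPullback.of_hasPullback f (r ≫ w)

/-- Pointwise base change of relative flatness. -/
lemma flatAt_bc (f : X ⟶ S) (q : X ⟶ X₀) (F₀ : X₀.Modules) [F₀.IsQuasicoherent]
    {U U' : Scheme.{u}} (r : U' ⟶ U) (w : U ⟶ S) (x' : ↑(pullback f (r ≫ w)))
    (h : FlatMod.IsFlatOverAt (pullback.snd f w)
      ((Scheme.Modules.pullback (pullback.fst f w ≫ q)).obj F₀) (bc f r w x')) :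
    FlatMod.IsFlatOverAt (pullback.snd f (r ≫ w))
      ((Scheme.Modules.pullback (pullback.fst f (r ≫ w) ≫ q)).obj F₀) x' :=
  FlatStageRelPt.isFlatOverAt_of_isPullback (isPullback_bc f r w) (pullback.fst f w ≫ q) _
    (by rw [← Category.assoc, bc_fst]) F₀ x' h

/-- The sieve of all `w : U ⟶ S` such that the pullback of `F₀` to `X ×_S U` is flat over `U`. -/
def flatSieve (f : X ⟶ S) (q : X ⟶ X₀) (F₀ : X₀.Modules) [F₀.IsQuasicoherent] : Sieve S where
  arrows U := {w | FlatMod.IsFlatOver (pullback.snd f w)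
    ((Scheme.Modules.pullback (pullback.fst f w ≫ q)).obj F₀)}
  downward_closed := by
    intro U U' w hw r x'
    exact flatAt_bc f q F₀ r w x' (hw _)

lemma flatSieve_apply (f : X ⟶ S) (q : X ⟶ X₀) (F₀ : X₀.Modules) [F₀.IsQuasicoherent]
    {U : Scheme.{u}} (w : U ⟶ S) :
    flatSieve f q F₀ w ↔ FlatMod.IsFlatOver (pullback.snd f w)
      ((Scheme.Modules.pullback (pullback.fst f w ≫ q)).obj F₀) := Iff.rfl

lemma flatSieve_id_apply (f : X ⟶ S) (F : X.Modules) [F.IsQuasicoherent]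
    {U : Scheme.{u}} (w : U ⟶ S) :
    flatSieve f (𝟙 X) F w ↔ FlatMod.IsFlatOver (pullback.snd f w)
      ((Scheme.Modules.pullback (pullback.fst f w)).obj F) := by
  rw [flatSieve_apply, Category.comp_id]

/-- Change of model. -/
lemma flatSieve_pullback_le {X₁ S₁ : Scheme.{u}} {f : X ⟶ S} {f₁ : X₁ ⟶ S₁} {g' : X ⟶ X₁}
    {g : S ⟶ S₁} (sq : IsPullback g' f f₁ g) (q₁ : X₁ ⟶ X₀) (F₀ : X₀.Modules)
    [F₀.IsQuasicoherent] :
    (flatSieve f₁ q₁ F₀).pullback g ≤ flatSieve f (g' ≫ q₁) F₀ := by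
  intro U w hw
  rw [Sieve.pullback_apply, flatSieve_apply] at hw
  rw [flatSieve_apply]
  obtain ⟨a, ha1, ha2⟩ : ∃ a : pullback f w ⟶ pullback f₁ (w ≫ g),
      a ≫ pullback.fst f₁ (w ≫ g) = pullback.fst f w ≫ g' ∧
      a ≫ pullback.snd f₁ (w ≫ g) = pullback.snd f w :=
    ⟨pullback.lift (pullback.fst f w ≫ g') (pullback.snd f w)
      (by rw [Category.assoc, sq.w, ← Category.assoc, pullback.condition, Category.assoc]),
      pullback.lift_fst _ _ _, pullback.lift_snd _ _ _⟩
  have hsq : IsPullback a (pullback.snd f w) (pullback.snd f₁ (w ≫ g)) (𝟙 U) := by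
    refine IsPullback.of_right ?_ (by rw [ha2, Category.comp_id])
      (IsPullback.of_hasPullback f₁ (w ≫ g))
    rw [ha1, Category.id_comp]
    exact (IsPullback.of_hasPullback f w).paste_horiz sq
  exact FlatStageRel.isFlatOver_of_isPullback hsq (pullback.fst f₁ (w ≫ g) ≫ q₁) _
    (by rw [← Category.assoc, ha1, Category.assoc]) F₀ hw

/-- Change of module along an isomorphism. -/
lemma flatSieve_le_of_iso (f : X ⟶ S) (q : X ⟶ X₀) (F₀ : X₀.Modules) [F₀.IsQuasicoherent]
    (F : X.Modules) [F.IsQuasicoherent] (e : (Scheme.Modules.pullback q).obj F₀ ≅ F) :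
    flatSieve f q F₀ ≤ flatSieve f (𝟙 X) F := by
  intro U w hw x
  refine PbFlatOver.isFlatOverAt_of_iso _ ?_ x (hw x)
  exact ((Scheme.Modules.pullbackComp (pullback.fst f w) q).app F₀).symm ≪≫
    (Scheme.Modules.pullback (pullback.fst f w)).mapIso e ≪≫
    (Scheme.Modules.pullbackCongr (Category.comp_id (pullback.fst f w)).symm).app F

/-- Change of the source along a flat surjective morphism. -/
lemma flatSieve_comp_le {X' : Scheme.{u}} (π : X' ⟶ X) [Flat π] [Surjective π] (f : X ⟶ S)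
    (q : X ⟶ X₀) (F₀ : X₀.Modules) [F₀.IsQuasicoherent] :
    flatSieve (π ≫ f) (π ≫ q) F₀ ≤ flatSieve f q F₀ := by
  intro U w hw x
  rw [flatSieve_apply] at hw
  obtain ⟨m, hm1, hm2⟩ : ∃ m : pullback (π ≫ f) w ⟶ pullback f w,
      m ≫ pullback.fst f w = pullback.fst (π ≫ f) w ≫ π ∧
      m ≫ pullback.snd f w = pullback.snd (π ≫ f) w :=
    ⟨pullback.lift (pullback.fst (π ≫ f) w ≫ π) (pullback.snd (π ≫ f) w)
      (by rw [Category.assoc, pullback.condition]),
      pullback.lift_fst _ _ _, pullback.lift_snd _ _ _⟩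
  have hsq : IsPullback (pullback.fst (π ≫ f) w) m π (pullback.fst f w) := by
    refine IsPullback.of_bot ?_ hm1.symm (IsPullback.of_hasPullback f w)
    rw [hm2]
    exact IsPullback.of_hasPullback (π ≫ f) w
  haveI : Flat m := MorphismProperty.of_isPullback (P := @Flat) hsq inferInstance
  haveI : Surjective m := MorphismProperty.of_isPullback (P := @Surjective) hsq inferInstance
  obtain ⟨x', rfl⟩ := (inferInstance : Surjective m).surj x
  haveI hG : ((Scheme.Modules.pullback (pullback.fst f w ≫ q)).obj F₀).IsQuasicoherent :=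
    PbStalk.isQuasicoherent_pullback _ F₀
  refine (Groth.Agent.S9350.result m (pullback.snd f w) _ hG x' (Flat.stalkMap m x')).mpr ?_
  rw [hm2]
  refine PbFlatOver.isFlatOverAt_of_iso _ ?_ x' (hw x')
  exact (Scheme.Modules.pullbackCongr (show pullback.fst (π ≫ f) w ≫ π ≫ q =
      m ≫ pullback.fst f w ≫ q by rw [← Category.assoc m, hm1, Category.assoc])).app F₀ ≪≫
    ((Scheme.Modules.pullbackComp m (pullback.fst f w ≫ q)).app F₀).symm

/-- Generic flatness: the flatness sieve of a quasi-coherent module of finite type along a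
quasi-compact morphism locally of finite type is generic. -/
theorem generic_flatSieve {X₁ S₁ : Scheme.{u}} (f₁ : X₁ ⟶ S₁) [LocallyOfFiniteType f₁]
    [QuasiCompact f₁] (q₁ : X₁ ⟶ X₀) (F₀ : X₀.Modules) [F₀.IsQuasicoherent] [F₀.IsFiniteType] :
    SieveStrat.Generic (flatSieve f₁ q₁ F₀) := by
  intro Z _ z
  haveI : ((Scheme.Modules.pullback (pullback.fst f₁ z ≫ q₁)).obj F₀).IsQuasicoherent :=
    PbStalk.isQuasicoherent_pullback _ F₀
  haveI : ((Scheme.Modules.pullback (pullback.fst f₁ z ≫ q₁)).obj F₀).IsFiniteType :=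
    PbFinite.isFiniteType_pullback _ F₀
  obtain ⟨U, hU, hflat⟩ := Groth.Agent.Lib.Helper28.GenFlatMod.generic_flat_module
    (pullback.snd f₁ z) ((Scheme.Modules.pullback (pullback.fst f₁ z ≫ q₁)).obj F₀)
  refine ⟨U, hU, fun x' => ?_⟩
  apply flatAt_bc f₁ q₁ F₀ U.ι z x'
  apply hflat
  have h1 : (bc f₁ U.ι z ≫ pullback.snd f₁ z) x' = (pullback.snd f₁ (U.ι ≫ z) ≫ U.ι) x' := by
    rw [bc_snd]
  rw [Scheme.Hom.comp_apply, Scheme.Hom.comp_apply] at h1
  rw [h1]
  exact (pullback.snd f₁ (U.ι ≫ z) x').2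

end Groth.Agent.Lib.Helper12.FlatSieve
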