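import Mathlib
import Groth.Agent.Lib.Helper12.FpLimit

/-!
# Affine schemes as limits of affine schemes of finite type over `ℤ`
-/

universe u
set_option backward.isDefEq.respectTransparency false
set_option linter.style.haveILetI false
open CategoryTheory Limits AlgebraicGeometry

namespace Groth.Agent.Lib.Helper12.ZLimit

instance : IsNoetherianRing (ULift.{u} ℤ) :=
  isNoetherianRing_of_ringEquiv ℤ (ULift.ringEquiv : ULift.{u} ℤ ≃+* ℤ).symm

lemma finiteType_iff {A : Type u} [CommRing A] (θ : ULift.{u} ℤ →+* A) :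
    θ.FinitePresentation ↔ Algebra.FiniteType ℤ A := by
  have hcomp : algebraMap ℤ A = θ.comp (algebraMap ℤ (ULift.{u} ℤ)) :=
    Subsingleton.elim (α := ℤ →+* A) _ _
  rw [← RingHom.FinitePresentation.of_finiteType, ← RingHom.finiteType_algebraMap, hcomp]
  refine ⟨fun h => h.comp (RingHom.FiniteType.of_surjective _ ?_),
    fun h => RingHom.FiniteType.of_comp_finiteType h⟩
  intro x
  exact ⟨x.down, by ext; simp⟩

/-- The structure morphism of an affine scheme as `Spec` of a ring map. -/
lemma from_eq (S : Scheme.{u}) [IsAffine S] :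
    ∃ θ : CommRingCat.of (ULift.{u} ℤ) ⟶ Γ(S, ⊤),
      specULiftZIsTerminal.from S = S.isoSpec.hom ≫ Spec.map θ := by
  obtain ⟨θ, hθ⟩ := Spec.map_surjective (S.isoSpec.inv ≫ specULiftZIsTerminal.from S)
  exact ⟨θ, specULiftZIsTerminal.hom_ext _ _⟩

lemma lfp_of_finiteType (S : Scheme.{u}) [IsAffine S] (h : Algebra.FiniteType ℤ Γ(S, ⊤)) :
    LocallyOfFinitePresentation (specULiftZIsTerminal.from S) := by
  obtain ⟨θ, hθ⟩ := from_eq S
  rw [hθ]
  have : LocallyOfFinitePresentation (Spec.map θ) := by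
    rw [HasRingHomProperty.Spec_iff (P := @LocallyOfFinitePresentation)]
    exact (finiteType_iff θ.hom).mpr h
  infer_instance

lemma finiteType_of_lfp (S : Scheme.{u}) [IsAffine S]
    [LocallyOfFinitePresentation (specULiftZIsTerminal.from S)] :
    Algebra.FiniteType ℤ Γ(S, ⊤) := by
  obtain ⟨θ, hθ⟩ := from_eq S
  have h1 : LocallyOfFinitePresentation (Spec.map θ) := by
    have : Spec.map θ = S.isoSpec.inv ≫ specULiftZIsTerminal.from S := by
      rw [hθ, Iso.inv_hom_id_assoc]
    rw [this]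
    infer_instance
  have h2 : θ.hom.FinitePresentation :=
    (HasRingHomProperty.Spec_iff (P := @LocallyOfFinitePresentation)).mp h1
  exact (finiteType_iff θ.hom).mp h2

/-- An affine scheme is a cofiltered limit of affine schemes of finite type over `ℤ`. -/
theorem exists_limit (S : Scheme.{u}) [IsAffine S] :
    ∃ (J : Type u) (_ : SmallCategory J) (_ : IsCofiltered J) (𝔇 : J ⥤ Scheme.{u})
      (π : (Functor.const J).obj S ⟶ 𝔇) (_ : IsLimit (Cone.mk _ π)),
      (∀ j, IsAffine (𝔇.obj j)) ∧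
        ∀ j, LocallyOfFinitePresentation (specULiftZIsTerminal.from (𝔇.obj j)) := by
  obtain ⟨θ, -⟩ := from_eq S
  obtain ⟨J, _, _, 𝔇, τ, π, hπ, h1, h2, h3⟩ := FpLimit.exists_limit_of_ringHom θ
  let c : Cone 𝔇 := Cone.mk _ π
  refine ⟨J, inferInstance, inferInstance, 𝔇, (c.extend S.isoSpec.hom).π,
    (IsLimit.extendIso (s := c) S.isoSpec.hom hπ : IsLimit (c.extend S.isoSpec.hom)), h1,
    fun j => ?_⟩
  have : specULiftZIsTerminal.from (𝔇.obj j) = τ.app j := specULiftZIsTerminal.hom_ext _ _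
  rw [this]
  exact h2 j

end Groth.Agent.Lib.Helper12.ZLimit
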