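import Mathlib
import Groth.Agent.Lib.Helper12.FlatSieve
import Groth.Agent.Lib.Helper12.PbDiag
import Groth.Agent.Lib.Helper12.ZLimit
import Groth.Agent.Lib.Helper12.ApproxHom
import Groth.Agent.Lib.Helper17.NoethApproxMod

/-!
# Helper library (helper12): Noetherian models for the flatness sieve of a finitely presented
module
-/

universe u

open CategoryTheory CategoryTheory.Limits AlgebraicGeometry Topology TopologicalSpace

set_option backward.isDefEq.respectTransparency false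
set_option linter.style.haveILetI false

namespace Groth.Agent.Lib.Helper12.FlatSieve

open Groth.Agent.Lib.Helper17 Groth.Agent.Lib.Helper12

/-- A Noetherian model of a finitely presented morphism with affine source together with a
finitely presented module. -/
theorem exists_model_of_isAffine {X S : Scheme.{u}} [IsAffine X] (f : X ⟶ S)
    [LocallyOfFinitePresentation f] [QuasiCompact f] [QuasiSeparated f] [CompactSpace S]
    [QuasiSeparatedSpace S] (F : X.Modules) [F.IsQuasicoherent]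
    [SheafOfModules.IsFinitePresentation (R := X.ringCatSheaf) F] :
    ∃ (S₁ X₁ X₀ : Scheme.{u}) (f₁ : X₁ ⟶ S₁) (g : S ⟶ S₁) (g' : X ⟶ X₁) (q₁ : X₁ ⟶ X₀)
      (F₀ : X₀.Modules), IsNoetherian S₁ ∧ LocallyOfFiniteType f₁ ∧ QuasiCompact f₁ ∧
      IsPullback g' f f₁ g ∧ F₀.IsQuasicoherent ∧ F₀.IsFiniteType ∧
      Nonempty ((Scheme.Modules.pullback (g' ≫ q₁)).obj F₀ ≅ F) := by
  obtain ⟨X₀, S₀, f₀, g₀, k, hX₀, hS₀, sq₀, hft, hlft, F₀, hcoh, -, ⟨e⟩⟩ :=
    NoethApproxMod.exists_model (𝟙 X) F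
  haveI := hX₀
  haveI := hS₀
  haveI := hlft
  haveI : LocallyOfFinitePresentation (specULiftZIsTerminal.from S₀) :=
    ZLimit.lfp_of_finiteType S₀ hft
  haveI : LocallyOfFinitePresentation (specULiftZIsTerminal.from X₀) := by
    rw [LocallyOfFinitePresentation.iff_locallyOfFiniteType]
    have : specULiftZIsTerminal.from X₀ = f₀ ≫ specULiftZIsTerminal.from S₀ :=
      specULiftZIsTerminal.hom_ext _ _
    rw [this]
    infer_instance
  obtain ⟨A, iA1, iA2, iA3, D, c, hc, haff, hft', ⟨eS⟩⟩ := Groth.Agent.S0590.result S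
  haveI : ∀ (a b : Aᵒᵖ) (m : a ⟶ b), IsAffineHom (D.map m) := fun a b m => haff a b m
  haveI : ∀ {a b : Aᵒᵖ} (m : a ⟶ b), IsAffineHom (D.map m) := fun {a b} m => haff a b m
  haveI : ∀ a, CompactSpace (D.obj a) := fun a => (hft' a).1
  haveI : ∀ a, QuasiSeparatedSpace (D.obj a) := fun a => by
    haveI := (hft' a).2
    exact ApproxWrap.quasiSeparatedSpace_of_lft
  obtain ⟨f', hf'⟩ : ∃ f' : X ⟶ c.pt, f' = f ≫ eS.inv := ⟨_, rfl⟩
  haveI : LocallyOfFinitePresentation f' := by rw [hf']; infer_instance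
  haveI : QuasiCompact f' := by rw [hf']; infer_instance
  haveI : QuasiSeparated f' := by rw [hf']; infer_instance
  obtain ⟨i₀, Xi, fi, gi, h1, h2, h3, sq⟩ := Groth.Agent.S0591.result D c hc X f'
  haveI := h1
  haveI := h2
  haveI := h3
  have hlim := PbDiag.isLimitPbCone c hc gi f' sq
  haveI : ∀ j, CompactSpace ((PbDiag.pbDiagram D i₀ fi).obj j) := fun j =>
    PbDiag.compactSpace_pbDiagram_obj D i₀ fi j
  haveI : ∀ j, QuasiSeparatedSpace ((PbDiag.pbDiagram D i₀ fi).obj j) := fun j =>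
    PbDiag.quasiSeparatedSpace_pbDiagram_obj D i₀ fi j
  obtain ⟨j, q₁, hq1, -⟩ := Scheme.exists_π_app_comp_eq_of_locallyOfFinitePresentation
    (PbDiag.pbDiagram D i₀ fi) (ApproxHom.toZ _) (specULiftZIsTerminal.from X₀)
    (PbDiag.pbCone c gi f' sq) hlim k (by ext j : 2; exact specULiftZIsTerminal.hom_ext _ _)
  haveI := (hft' j.left).2
  haveI : IsLocallyNoetherian (D.obj j.left) :=
    LocallyOfFiniteType.isLocallyNoetherian (specULiftZIsTerminal.from (D.obj j.left))
  refine ⟨D.obj j.left, pullback fi (D.map j.hom), X₀, pullback.snd fi (D.map j.hom),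
    eS.inv ≫ c.π.app j.left, (PbDiag.pbCone c gi f' sq).π.app j, q₁, F₀, ⟨⟩, inferInstance,
    inferInstance, ?_, hcoh.1, hcoh.2, ⟨?_⟩⟩
  · have sq0 : IsPullback (𝟙 X) f f' eS.inv := IsPullback.of_horiz_isIso ⟨by rw [hf']; simp⟩
    have := sq0.paste_horiz (PbDiag.isPullback_pbCone_π c gi f' sq j)
    rwa [Category.id_comp] at this
  · exact (Scheme.Modules.pullbackCongr hq1).app F₀ ≪≫ e

/-- A compact scheme receives a flat surjective morphism of finite presentation from an affine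
scheme. -/
theorem exists_affine_flat_cover (X : Scheme.{u}) [CompactSpace X] :
    ∃ (X' : Scheme.{u}) (π : X' ⟶ X), IsAffine X' ∧ Flat π ∧ Surjective π ∧
      LocallyOfFinitePresentation π := by
  classical
  obtain ⟨t, ht⟩ := isCompact_univ.elim_finite_subcover (fun U : X.affineOpens => (U.1 : Set X))
    (fun U => U.1.2) (fun x _ => by
      obtain ⟨U, hU, hxU, -⟩ := Opens.isBasis_iff_nbhd.mp X.isBasis_affineOpens
        (show x ∈ (⊤ : X.Opens) from trivial)
      exact Set.mem_iUnion.mpr ⟨⟨U, hU⟩, hxU⟩)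
  haveI : ∀ i : t, IsAffine ((fun U : t => ((U.1.1 : X.Opens) : Scheme.{u})) i) := fun i => i.1.2
  refine ⟨∐ fun U : t => ((U.1.1 : X.Opens) : Scheme.{u}),
    Sigma.desc fun U : t => (U.1.1 : X.Opens).ι, inferInstance,
    IsZariskiLocalAtSource.sigmaDesc (P := @Flat) fun i => inferInstance, ⟨fun x => ?_⟩,
    IsZariskiLocalAtSource.sigmaDesc (P := @LocallyOfFinitePresentation) fun i => inferInstance⟩
  have hx := ht (Set.mem_univ x)
  simp only [Set.mem_iUnion, exists_prop] at hx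
  obtain ⟨U, hUt, hxU⟩ := hx
  refine ⟨Sigma.ι (fun U : t => ((U.1.1 : X.Opens) : Scheme.{u})) ⟨U, hUt⟩ ⟨x, hxU⟩, ?_⟩
  rw [← Scheme.Hom.comp_apply, Sigma.ι_desc]
  rfl

/-- The flatness sieve of a finitely presented module along a finitely presented morphism over a
quasi-compact quasi-separated base contains the pullback of a generic sieve on a Noetherian
scheme. -/
theorem exists_generic_le_flatSieve {X S : Scheme.{u}} (f : X ⟶ S)
    [LocallyOfFinitePresentation f] [QuasiCompact f] [QuasiSeparated f] [CompactSpace S]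
    [QuasiSeparatedSpace S] (F : X.Modules) [F.IsQuasicoherent]
    [SheafOfModules.IsFinitePresentation (R := X.ringCatSheaf) F] :
    ∃ (S₁ : Scheme.{u}) (g : S ⟶ S₁) (Φ : Sieve S₁), IsNoetherian S₁ ∧ SieveStrat.Generic Φ ∧
      Φ.pullback g ≤ flatSieve f (𝟙 X) F := by
  haveI : CompactSpace X := QuasiCompact.compactSpace_of_compactSpace f
  obtain ⟨X', π, hX', hπ1, hπ2, hπ3⟩ := exists_affine_flat_cover X
  haveI := hX'
  haveI := hπ1
  haveI := hπ2
  haveI := hπ3
  haveI : ((Scheme.Modules.pullback π).obj F).IsQuasicoherent :=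
    PbStalk.isQuasicoherent_pullback π F
  haveI : SheafOfModules.IsFinitePresentation (R := X'.ringCatSheaf)
      ((Scheme.Modules.pullback π).obj F) := PbFinite.isFinitePresentation_pullback π F
  obtain ⟨S₁, X₁, X₀, f₁, g, g', q₁, F₀, hS₁, hf₁, hf₁', sq, hF₀, hF₀', ⟨e⟩⟩ :=
    exists_model_of_isAffine (π ≫ f) ((Scheme.Modules.pullback π).obj F)
  haveI := hf₁
  haveI := hf₁'
  haveI := hF₀
  haveI := hF₀'
  refine ⟨S₁, g, flatSieve f₁ q₁ F₀, hS₁, generic_flatSieve f₁ q₁ F₀, ?_⟩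
  refine (flatSieve_pullback_le sq q₁ F₀).trans ?_
  refine (flatSieve_le_of_iso (π ≫ f) (g' ≫ q₁) F₀ _ e).trans ?_
  -- `flatSieve (π ≫ f) (𝟙 X') (π^* F) ≤ flatSieve f (𝟙 X) F`
  intro U w hw
  have h1 : flatSieve (π ≫ f) (π ≫ 𝟙 X) F w := by
    rw [flatSieve_apply] at hw ⊢
    intro x
    refine PbFlatOver.isFlatOverAt_of_iso _ ?_ x (hw x)
    exact (Scheme.Modules.pullbackComp (pullback.fst (π ≫ f) w ≫ 𝟙 X') π).app F ≪≫
      (Scheme.Modules.pullbackCongr (by simp)).app F
  exact flatSieve_comp_le π f (𝟙 X) F w h1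

end Groth.Agent.Lib.Helper12.FlatSieve
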