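import Mathlib
import Groth.Prelude.Def_Found
import Groth.Prelude.Def_EGA43
import Groth.Agent.Lib.Helper12.FourCond

/-!
# Helper library (helper12): variant of the four conditions (EGA IV 13.3-type)
-/

set_option autoImplicit false
universe u v
open Polynomial Cardinal AlgebraicGeometry CategoryTheory TopologicalSpace

namespace Groth.Agent.Lib.Helper12.FourCond

open Groth.Agent.Lib.Helper12.OrdTools Groth.Agent.Lib.Helper12.DimIneq
open Groth.Agent.Lib.Helper12 Groth.Agent.Lib.Helper12.SchemeDimFT
open Groth.Agent.Lib.Helper12.ChevalleyCor Groth.Agent.Lib.Helper12.SchemeDimIneq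
open Groth.Agent.Lib.Helper14 Order Groth.Agent.Lib.Helper12.Equidim
open Groth.Agent.Lib.Helper12.ClosedSub Groth.Agent.Lib.Helper12.JacDim
open Groth.Agent.Lib.Helper12.FibreMax Groth.Agent.Lib.Helper12.EquidimSub
open Groth.Agent.Lib.Helper12.EquidimHyp Groth.Agent.Lib.Helper12.EquidimPt

section Main2

variable {X Y : Scheme.{u}}

theorem four_conditions' [IsLocallyNoetherian Y] (f : X ⟶ Y) [LocallyOfFiniteType f] (x : X)
    (X' : Closeds X) (hirr : IsIrreducible (X' : Set X)) (hx : x ∈ X')
    (w : ↥(Scheme.IdealSheafData.vanishingIdeal X').subscheme)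
    (hw : (Scheme.IdealSheafData.vanishingIdeal X').subschemeι w = x)
    (C : Closeds Y) (hC : (C : Set Y) = closure (f.base '' (X' : Set X)))
    (v : ↥(Scheme.IdealSheafData.vanishingIdeal C).subscheme)
    (hv : (Scheme.IdealSheafData.vanishingIdeal C).subschemeι v = f x)
    (η' : Y) (hη' : closure ({η'} : Set Y) = closure (f.base '' (X' : Set X)))
    (hdB : ringKrullDim (X.presheaf.stalk x) = ringKrullDim (Y.presheaf.stalk (f.base x)) +
          ringKrullDim ((f.fiber (f.base x)).presheaf.stalk (f.asFiber x))) :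
    ((ringKrullDim ((Scheme.IdealSheafData.vanishingIdeal C).subscheme.presheaf.stalk v) =
          ringKrullDim (Y.presheaf.stalk (f.base x)) ∧
        FlatMor.localDim ↥((X' : Set X) ∩ f.base ⁻¹' {f.base x}) ⟨x, ⟨hx, rfl⟩⟩ =
          FlatMor.fibreDimAt f x ∧
        FlatMor.fibreDimAt ((Scheme.IdealSheafData.vanishingIdeal X').subschemeι ≫ f) w =
          topologicalKrullDim ↥((X' : Set X) ∩ f.base ⁻¹' {η'}) ∧
        ringKrullDim ((Scheme.IdealSheafData.vanishingIdeal X').subscheme.presheaf.stalk w) =
          ringKrullDim ((Scheme.IdealSheafData.vanishingIdeal C).subscheme.presheaf.stalk v) +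
          ringKrullDim ((((Scheme.IdealSheafData.vanishingIdeal X').subschemeι ≫ f).fiber
          (((Scheme.IdealSheafData.vanishingIdeal X').subschemeι ≫ f).base w)).presheaf.stalk
            (((Scheme.IdealSheafData.vanishingIdeal X').subschemeι ≫ f).asFiber w))) ↔
      ringKrullDim ((Scheme.IdealSheafData.vanishingIdeal X').subscheme.presheaf.stalk w) =
        ringKrullDim (X.presheaf.stalk x)) := by
  rw [hdB, four_conditions f x X' hirr w hw C hC v hv η' hη']
  have h1 := localDim_inter_fibre_eq (Scheme.IdealSheafData.vanishingIdeal X').subschemeι f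
    (Scheme.IdealSheafData.vanishingIdeal X').subschemeι.isEmbedding (X' : Set X)
    (by rw [Scheme.IdealSheafData.range_subschemeι]
        exact Scheme.IdealSheafData.coe_support_vanishingIdeal _) w x hw hx
  have h2 := fibreDimAt_eq_trn_add ((Scheme.IdealSheafData.vanishingIdeal X').subschemeι ≫ f) w
  have h3 := fibreDimAt_eq_trn_add f x
  have h4 := trn_comp_preimmersion (Scheme.IdealSheafData.vanishingIdeal X').subschemeι f w
  rw [hw] at h4
  obtain ⟨t, ht⟩ := exists_trn_eq f x
  rw [h4, ht] at h2
  rw [ht] at h3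
  have key : FlatMor.localDim ↥((X' : Set X) ∩ f.base ⁻¹' {f.base x}) ⟨x, ⟨hx, rfl⟩⟩ =
        FlatMor.fibreDimAt f x ↔
      ringKrullDim ((((Scheme.IdealSheafData.vanishingIdeal X').subschemeι ≫ f).fiber
          (((Scheme.IdealSheafData.vanishingIdeal X').subschemeι ≫ f).base w)).presheaf.stalk
            (((Scheme.IdealSheafData.vanishingIdeal X').subschemeι ≫ f).asFiber w)) =
        ringKrullDim ((f.fiber (f.base x)).presheaf.stalk (f.asFiber x)) := by
    rw [h1, h2, h3]
    constructor
    · intro h
      apply le_antisymm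
      · exact le_of_nat_add_le t _ _ (by exact_mod_cast h.le)
      · exact le_of_nat_add_le t _ _ (by exact_mod_cast h.ge)
    · intro h
      rw [h]
  rw [key]

end Main2

end Groth.Agent.Lib.Helper12.FourCond
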