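import Mathlib
import Groth.Agent.Lib.Helper12.N2Univ
import Groth.Agent.Lib.Helper12.NagataLoc

/-! Discrete valuation rings of function fields of one variable are N-2. -/

set_option autoImplicit false
universe u v
open Function Groth.Agent.Lib.Helper12.N2 IntermediateField

namespace Groth.Agent.Lib.Helper12.FunFldFin

open IntermediateField.algebraAdjoinAdjoin

/-- `k[t]` inside `K`. -/
abbrev A0 (k : Type v) {K : Type u} [Field k] [Field K] [Algebra k K] (t : K) : Subalgebra k K :=
  Algebra.adjoin k ({t} : Set K)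

/-- The integral closure of `k[t]` in `K`. -/
abbrev B0 (k : Type v) {K : Type u} [Field k] [Field K] [Algebra k K] (t : K) :
    Subalgebra (A0 k t) K :=
  integralClosure (A0 k t) K

section
variable (k : Type v) {K : Type u} [Field k] [Field K] [Algebra k K]

theorem N2'_adjoin (t : K) : N2' (A0 k t) := by
  haveI : Algebra.FiniteType k (A0 k t) :=
    (Subalgebra.fg_iff_finiteType _).1 ⟨{t}, by simp⟩
  exact N2Univ.N2'_of_finiteType' k _

theorem isPrincipalIdealRing_adjoin (t : K) : IsPrincipalIdealRing (A0 k t) := by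
  let g : A0 k t := ⟨t, Algebra.self_mem_adjoin_singleton k t⟩
  have hsurj : Surjective (Polynomial.aeval (R := k) g) := by
    rw [← AlgHom.range_eq_top, ← Algebra.adjoin_singleton_eq_range_aeval]
    have := Algebra.adjoin_adjoin_coe_preimage (R := k) (s := ({t} : Set K))
    convert this using 2
    ext x
    simp [g, Subtype.ext_iff]
  exact IsPrincipalIdealRing.of_surjective (Polynomial.aeval (R := k) g).toRingHom hsurj

theorem finite_integralClosure_adjoin (t : K) [FiniteDimensional k⟮t⟯ K] :
    Module.Finite (A0 k t) (B0 k t) := by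
  have hfg : FinGen (A0 k t) K := finGen_of_finiteDimensional _ k⟮t⟯ K
  exact N2'_adjoin k t K (fun a b h => Subtype.ext h) hfg

end

section
variable {k : Type v} {K : Type u} [Field k] [Field K] [Algebra k K]
variable (w : Valuation K (WithZero (Multiplicative ℤ)))

theorem le_one_of_isIntegral (hw1 : ∀ c : k, w (algebraMap k K c) ≤ 1) (t : K) (ht : w t ≤ 1)
    (y : K) (hy : IsIntegral (A0 k t) y) : w y ≤ 1 := by
  have hA : ∀ a ∈ A0 k t, w a ≤ 1 := by
    intro a ha
    induction ha using Algebra.adjoin_induction with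
    | mem x hx => rw [Set.mem_singleton_iff] at hx; rw [hx]; exact ht
    | algebraMap r => exact hw1 r
    | add x y _ _ hx hy => exact (w.map_add x y).trans (max_le hx hy)
    | mul x y _ _ hx hy => rw [map_mul]; exact mul_le_one' hx hy
  let φ : A0 k t →+* w.valuationSubring :=
    (algebraMap (A0 k t) K).codRestrict w.valuationSubring
      (fun a => (Valuation.mem_valuationSubring_iff w _).2 (hA a a.2))
  letI : Algebra (A0 k t) w.valuationSubring := φ.toAlgebra
  haveI : IsScalarTower (A0 k t) w.valuationSubring K :=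
    IsScalarTower.of_algebraMap_eq (fun _ => rfl)
  have := (Valuation.valuationSubring.integers w).mem_of_integral
    (hy.tower_top (A := w.valuationSubring))
  exact this

theorem N2'_valuationSubring (hw1 : ∀ c : k, w (algebraMap k K c) ≤ 1) (hsurj : Surjective w)
    (t : K) (ht : w t ≤ 1) [FiniteDimensional k⟮t⟯ K] : N2' w.valuationSubring := by
  classical
  haveI hPID : IsPrincipalIdealRing (A0 k t) := isPrincipalIdealRing_adjoin k t
  haveI hfin : Module.Finite (A0 k t) (B0 k t) := finite_integralClosure_adjoin k t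
  have hNA : N2' (A0 k t) := N2'_adjoin k t
  have hinjAB : Injective (algebraMap (A0 k t) (B0 k t)) := by
    intro a b hab
    have := congrArg (algebraMap (B0 k t) K) hab
    exact Subtype.ext this
  have hNB : N2' (B0 k t) := N2'_of_finite_injective (A0 k t) (B0 k t) hinjAB hNA
  haveI : IsNoetherianRing (A0 k t) := inferInstance
  haveI : IsNoetherianRing (B0 k t) := IsNoetherianRing.of_finite (A0 k t) (B0 k t)
  haveI : IsFractionRing (B0 k t) K := integralClosure.isFractionRing_of_finite_extension k⟮t⟯ K
  haveI : IsIntegrallyClosed (B0 k t) := integralClosure.isIntegrallyClosedOfFiniteExtension k⟮t⟯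
  haveI : Ring.DimensionLEOne (A0 k t) := Ring.DimensionLEOne.principal_ideal_ring _
  haveI : Ring.DimensionLEOne (B0 k t) := Ring.DimensionLEOne.integralClosure _ _
  haveI : IsDedekindDomain (B0 k t) :=
    (isDedekindDomain_iff (B0 k t) K).2 ⟨inferInstance, inferInstance, inferInstance,
      fun {x} hx => (isIntegrallyClosed_iff K).mp inferInstance hx⟩
  have hBO : ∀ b : B0 k t, w (b : K) ≤ 1 := fun b => le_one_of_isIntegral w hw1 t ht b.1 b.2
  -- the center of the valuation on `B0`
  let q : Ideal (B0 k t) :=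
    { carrier := {b | w (b : K) < 1}
      add_mem' := fun {a b} ha hb => by
        show w ((a + b : B0 k t) : K) < 1
        rw [Subalgebra.coe_add]
        exact w.map_add_lt ha hb
      zero_mem' := by
        show w ((0 : B0 k t) : K) < 1
        simp
      smul_mem' := fun c x hx => by
        show w ((c * x : B0 k t) : K) < 1
        rw [Subalgebra.coe_mul, map_mul]
        calc w (c : K) * w (x : K) ≤ 1 * w (x : K) := mul_le_mul' (hBO c) le_rfl
          _ = w (x : K) := one_mul _
          _ < 1 := hx }
  have hq_mem : ∀ b : B0 k t, b ∈ q ↔ w (b : K) < 1 := fun b => Iff.rfl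
  have hq_one : ∀ b : B0 k t, b ∉ q → w (b : K) = 1 := fun b hb =>
    le_antisymm (hBO b) (not_lt.1 hb)
  haveI hqprime : q.IsPrime := by
    rw [Ideal.isPrime_iff]
    refine ⟨?_, ?_⟩
    · rw [Ideal.ne_top_iff_one, hq_mem]
      simp
    · intro x y hxy
      by_contra hcon
      rw [not_or] at hcon
      rw [hq_mem, Subalgebra.coe_mul, map_mul, hq_one x hcon.1, hq_one y hcon.2, one_mul] at hxy
      exact lt_irrefl _ hxy
  have hq0 : q ≠ ⊥ := by
    intro hbot
    have hall : ∀ b : B0 k t, b ≠ 0 → w (b : K) = 1 := by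
      intro b hb
      apply hq_one
      rw [hbot, Ideal.mem_bot]; exact hb
    obtain ⟨y, hy⟩ := hsurj (WithZero.exp (1 : ℤ))
    have hy0 : y ≠ 0 := by
      rintro rfl
      rw [map_zero] at hy
      exact WithZero.exp_ne_zero.symm hy
    obtain ⟨a, s, hs, rfl⟩ := IsFractionRing.div_surjective (A := B0 k t) y
    have hs0 : s ≠ 0 := nonZeroDivisors.ne_zero hs
    have ha0 : a ≠ 0 := by
      rintro rfl; apply hy0; simp
    rw [map_div₀, show algebraMap (B0 k t) K a = (a : K) from rfl,
      show algebraMap (B0 k t) K s = (s : K) from rfl, hall a ha0, hall s hs0, div_one] at hy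
    have := congrArg WithZero.log hy
    simp at this
  have hle : q.primeCompl ≤ nonZeroDivisors (B0 k t) := q.primeCompl_le_nonZeroDivisors
  let Bq : Subalgebra (B0 k t) K := Localization.subalgebra.ofField K q.primeCompl hle
  haveI : IsLocalization.AtPrime Bq q :=
    Localization.subalgebra.isLocalization_ofField K q.primeCompl hle
  haveI : IsDiscreteValuationRing Bq :=
    IsLocalization.AtPrime.isDiscreteValuationRing_of_dedekind_domain (B0 k t) hq0 Bq
  have hkey : ∀ y : K, w y ≤ 1 → ∃ b s : B0 k t, s ∉ q ∧ y * (s : K) = (b : K) := by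
    intro y hy
    have hmem : ∀ z : K, z ∈ Bq → ∃ a s : B0 k t, s ∉ q ∧ z * (s : K) = (a : K) := by
      rintro z ⟨a, s, hs, rfl⟩
      refine ⟨a, s, hs, ?_⟩
      have hs0 : algebraMap (B0 k t) K s ≠ 0 := by
        intro h
        have hs1 := hq_one s hs
        rw [show (s : K) = algebraMap (B0 k t) K s from rfl, h, map_zero] at hs1
        exact zero_ne_one hs1
      show algebraMap _ K a * (algebraMap _ K s)⁻¹ * algebraMap (B0 k t) K s = algebraMap _ K a
      rw [inv_mul_cancel_right₀ hs0]
    rcases ValuationRing.isInteger_or_isInteger Bq y with ⟨z, hz⟩ | ⟨z, hz⟩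
    · exact hmem y (by rw [← hz]; exact z.2)
    · by_cases hy0 : y = 0
      · refine ⟨0, 1, ?_, by simp [hy0]⟩
        rw [hq_mem]; simp
      obtain ⟨a, s, hs, has⟩ := hmem y⁻¹ (by rw [← hz]; exact z.2)
      by_cases haq : a ∈ q
      · exfalso
        have h1 : w y⁻¹ * w (s : K) = w (a : K) := by rw [← map_mul, has]
        rw [hq_one s hs, mul_one] at h1
        have h2 : w y⁻¹ < 1 := by rw [h1]; exact haq
        have h3 : w y * w y⁻¹ = 1 := by rw [← map_mul, mul_inv_cancel₀ hy0, map_one]
        have h4 : w y * w y⁻¹ ≤ 1 * w y⁻¹ := mul_le_mul' hy le_rfl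
        rw [h3, one_mul] at h4
        exact not_lt.2 h4 h2
      · refine ⟨s, a, haq, ?_⟩
        rw [← has, ← mul_assoc, mul_inv_cancel₀ hy0, one_mul]
  let φ : B0 k t →+* w.valuationSubring :=
    (algebraMap (B0 k t) K).codRestrict w.valuationSubring
      (fun b => (Valuation.mem_valuationSubring_iff w _).2 (hBO b))
  letI : Algebra (B0 k t) w.valuationSubring := φ.toAlgebra
  haveI : IsLocalization q.primeCompl w.valuationSubring := by
    rw [isLocalization_iff]
    refine ⟨?_, ?_, ?_⟩
    · rintro ⟨s, hs⟩
      have hs1 : w (s : K) = 1 := hq_one s hs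
      have hs0 : (s : K) ≠ 0 := by
        intro h; rw [h, map_zero] at hs1; exact zero_ne_one hs1
      refine isUnit_iff_exists_inv.2 ⟨⟨(s : K)⁻¹,
        (Valuation.mem_valuationSubring_iff w _).2 (by rw [map_inv₀, hs1, inv_one])⟩, ?_⟩
      apply Subtype.ext
      show (s : K) * (s : K)⁻¹ = 1
      exact mul_inv_cancel₀ hs0
    · intro z
      obtain ⟨b, s, hs, hbs⟩ := hkey z.1 ((Valuation.mem_valuationSubring_iff w _).1 z.2)
      exact ⟨(b, ⟨s, hs⟩), Subtype.ext hbs⟩
    · intro x y hxy
      refine ⟨1, ?_⟩
      have : (x : K) = (y : K) := congrArg (Subtype.val : w.valuationSubring → K) hxy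
      rw [Subtype.ext this]
  rw [← NagataLoc.isN2_iff_N2'] at hNB ⊢
  exact Groth.Agent.S9392.result (B0 k t) q.primeCompl w.valuationSubring hNB

end

end Groth.Agent.Lib.Helper12.FunFldFin
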