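import Mathlib
import Groth.Agent.Lib.Helper12.GeomCompLevel
import Groth.Agent.Lib.Helper12.GeomCompStruct

/-!
# Components at a saturated finite level are geometrically irreducible (helper12)
-/

set_option autoImplicit false
set_option linter.style.haveILetI false
universe u

open CategoryTheory CategoryTheory.Limits AlgebraicGeometry
open Groth.Agent.Lib.Helper11.FBaseLib Groth.Agent.Lib.Helper11.FBaseLib2
  Groth.Agent.Lib.Helper11.BcLevels

namespace Groth.Agent.Lib.Helper12.GIComp1

variable {k : Type u} [Field k] {X : Scheme.{u}} (f : X ⟶ Spec (CommRingCat.of k))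
  (K : Type u) [Field K] [Algebra k K]

/-- saturation passes to higher levels -/
theorem saturated_of_le (L₁ L : IntermediateField k K) (hle : L₁ ≤ L) (Z : Set ↥(FBase.bc f K))
    (h : ⇑(bcHom f L₁.val) ⁻¹' (⇑(bcHom f L₁.val) '' Z) = Z) :
    ⇑(bcHom f L.val) ⁻¹' (⇑(bcHom f L.val) '' Z) = Z := by
  have htr : ∀ z : ↥(FBase.bc f K),
      (bcHom f (IntermediateField.inclusion hle)) ((bcHom f L.val) z) =
        (bcHom f L₁.val) z := fun z =>
    bcHom_comp_apply f (IntermediateField.inclusion hle) L.val z
  apply Set.Subset.antisymm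
  · intro z hz
    obtain ⟨z', hz', hzz'⟩ := hz
    rw [← h]
    refine ⟨z', hz', ?_⟩
    rw [← htr z', ← htr z, hzz']
  · exact Set.subset_preimage_image _ _

variable [Algebra.IsAlgebraic k K]

theorem isIrreducible_preimage_of_mem_irreducibleComponents (L : IntermediateField k K)
    (hsat : ∀ Z ∈ irreducibleComponents ↥(FBase.bc f K),
      ⇑(bcHom f L.val) ⁻¹' (⇑(bcHom f L.val) '' Z) = Z)
    (C : Set ↥(FBase.bc f ↥L)) (hC : C ∈ irreducibleComponents ↥(FBase.bc f ↥L)) :
    IsIrreducible (⇑(bcHom f L.val) ⁻¹' C) := by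
  haveI : Algebra.IsIntegral k K := Algebra.IsAlgebraic.isIntegral
  haveI : IsIntegralHom (bcHom f L.val) := isIntegralHom_bcHom f L.val
  haveI : Surjective (bcHom f L.val) := bcHom_of f L.val @Surjective inferInstance
  have hclosedmap : IsClosedMap (bcHom f L.val) := (bcHom f L.val).isClosedMap
  -- generic point of `C`
  have hCirr : IsIrreducible C := hC.1
  have hCcl : IsClosed C := isClosed_of_mem_irreducibleComponents C hC
  obtain ⟨c, hc⟩ := QuasiSober.sober hCirr hCcl
  obtain ⟨z, hz⟩ := (bcHom f L.val).surjective c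
  have hZmem := irreducibleComponent_mem_irreducibleComponents z
  have hZirr : IsIrreducible (irreducibleComponent z) := isIrreducible_irreducibleComponent
  have hZcl : IsClosed (irreducibleComponent z) := isClosed_irreducibleComponent
  have himg_irr : IsIrreducible (⇑(bcHom f L.val) '' irreducibleComponent z) :=
    hZirr.image _ (bcHom f L.val).continuous.continuousOn
  have himg_cl : IsClosed (⇑(bcHom f L.val) '' irreducibleComponent z) := hclosedmap _ hZcl
  have hsub : C ⊆ ⇑(bcHom f L.val) '' irreducibleComponent z := by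
    rw [← hc.def]
    apply himg_cl.closure_subset_iff.mpr
    rw [Set.singleton_subset_iff]
    exact ⟨z, mem_irreducibleComponent, hz⟩
  have heq : C = ⇑(bcHom f L.val) '' irreducibleComponent z :=
    hC.eq_of_subset himg_irr hsub
  rw [heq, hsat _ hZmem]
  exact hZirr

theorem irreducibleSpace_pullback_of_isIrreducible_preimage {X' Q W : Scheme.{u}} (m : W ⟶ X')
    [IsClosedImmersion m] (a : Q ⟶ X') (h : IsIrreducible (a ⁻¹' Set.range m)) :
    IrreducibleSpace ↥(pullback m a) := by
  have h1 := Scheme.Pullback.range_snd m a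
  have hemb : Topology.IsEmbedding (pullback.snd m a) := (pullback.snd m a).isEmbedding
  haveI : IrreducibleSpace ↥(Set.range (pullback.snd m a)) := by
    rw [h1]
    exact isIrreducible_iff_irreducibleSpace.mp h
  exact (hemb.toHomeomorph.irreducibleSpace_iff).mpr inferInstance

open Groth.Agent.Lib.Helper12.GeomCompStruct Groth.Agent.Lib.Helper12.GeomIrrBasic in
theorem geometricallyIrreducible_of_component [IsSepClosed K] (L : IntermediateField k K)
    (hsat : ∀ Z ∈ irreducibleComponents ↥(FBase.bc f K),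
      ⇑(bcHom f L.val) ⁻¹' (⇑(bcHom f L.val) '' Z) = Z)
    {W : Scheme.{u}} (m : W ⟶ FBase.bc f ↥L) [IsClosedImmersion m]
    (hm : Set.range m ∈ irreducibleComponents ↥(FBase.bc f ↥L)) :
    GeometricallyIrreducible (m ≫ FBase.bcStr f ↥L) := by
  have hirr := isIrreducible_preimage_of_mem_irreducibleComponents f K L hsat _ hm
  haveI : IrreducibleSpace ↥(pullback m (bcHom f L.val)) :=
    irreducibleSpace_pullback_of_isIrreducible_preimage m (bcHom f L.val) hirr
  have hsq : IsPullback (pullback.fst m (bcHom f L.val))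
      (pullback.snd m (bcHom f L.val) ≫ FBase.bcStr f K) (m ≫ FBase.bcStr f ↥L)
      (Spec.map (CommRingCat.ofHom ((L.val : ↥L →ₐ[k] K) : ↥L →+* K))) :=
    (IsPullback.of_hasPullback m (bcHom f L.val)).paste_vert (isPullback_bcHom f L.val)
  rw [← GI_eq_univ_iff]
  ext s
  simp only [Set.mem_univ, iff_true]
  obtain ⟨t⟩ : Nonempty ↥(Spec (CommRingCat.of K)) := inferInstance
  have h2 := mem_GI_of_isPullback_isSepClosed (m ≫ FBase.bcStr f ↥L)
    (Spec.map (CommRingCat.ofHom ((L.val : ↥L →ₐ[k] K) : ↥L →+* K)))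
    (pullback.fst m (bcHom f L.val)) (pullback.snd m (bcHom f L.val) ≫ FBase.bcStr f K) hsq t
  have hs : s = (Spec.map (CommRingCat.ofHom ((L.val : ↥L →ₐ[k] K) : ↥L →+* K))) t :=
    Subsingleton.elim _ _
  rw [hs]
  exact h2

end Groth.Agent.Lib.Helper12.GIComp1
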