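import Mathlib
import Groth.Agent.Lib.Helper14.DenseSmooth
import Groth.Agent.Lib.Helper14.SmoothInsepSch
import Groth.Agent.Lib.Helper7.RedLib
import Groth.Agent.Lib.Helper11.BcLevels
import Groth.Prelude.Def_FDesc

/-!
# Components of a geometrically reduced scheme over a field are geometrically reduced (helper12)
-/

set_option autoImplicit false
set_option linter.style.haveILetI false
universe u

open CategoryTheory CategoryTheory.Limits AlgebraicGeometry TopologicalSpace

namespace Groth.Agent.Lib.Helper12.GIComp2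

open Groth.Agent.Lib.Helper14.DenseSmooth

theorem geometricallyReduced_comp_of_component {F : Type u} [Field F] {N W : Scheme.{u}}
    (g : N ⟶ Spec (CommRingCat.of F)) [LocallyOfFiniteType g] [QuasiCompact g]
    [GeometricallyReduced g] (m : W ⟶ N) [IsClosedImmersion m] [IsIntegral W]
    (hm : Set.range m ∈ irreducibleComponents ↥N) : GeometricallyReduced (m ≫ g) := by
  classical
  haveI : IsNoetherian N :=
    Groth.Agent.Lib.Helper14.SmoothInsepSch.isNoetherian_of_lft_qc F g
  haveI : AlgebraicGeometry.IsReduced N :=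
    GeometricallyReduced.isReduced_of_flat_of_isLocallyNoetherian g
  obtain ⟨U, hUd, hUs⟩ := (geomReduced_iff_dense_smooth F g).mp inferInstance
  haveI := hUs
  set C := Set.range m with hCdef
  have hCirr : IsIrreducible C := hm.1
  have hCcl : IsClosed C := isClosed_of_mem_irreducibleComponents C hm
  obtain ⟨c, hc⟩ := QuasiSober.sober hCirr hCcl
  have hcU : c ∈ U := genericPoint_mem_of_dense U hUd C hm c hc
  have hfin : (irreducibleComponents ↥N).Finite :=
    TopologicalSpace.NoetherianSpace.finite_irreducibleComponents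
  let Others : Set ↥N := ⋃ D ∈ (irreducibleComponents ↥N \ {C}), D
  have hOcl : IsClosed Others :=
    (hfin.subset Set.diff_subset).isClosed_biUnion
      (fun D hD => isClosed_of_mem_irreducibleComponents D hD.1)
  have hcO : c ∉ Others := by
    intro hcO
    simp only [Others, Set.mem_iUnion] at hcO
    obtain ⟨D, hD, hcD⟩ := hcO
    have hDcl : IsClosed D := isClosed_of_mem_irreducibleComponents D hD.1
    have hsub : C ⊆ D := by
      rw [← hc.def]
      exact hDcl.closure_subset_iff.mpr (Set.singleton_subset_iff.mpr hcD)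
    exact hD.2 (hm.eq_of_subset hD.1.1 hsub).symm
  obtain ⟨N0, hN0⟩ : ∃ N0 : N.Opens, (N0 : Set N) = (U : Set N) ∩ Othersᶜ :=
    ⟨⟨(U : Set N) ∩ Othersᶜ, U.2.inter hOcl.isOpen_compl⟩, rfl⟩
  have hN0C : (N0 : Set N) ⊆ C := by
    intro x hx
    rw [hN0] at hx
    by_contra hxC
    apply hx.2
    simp only [Others, Set.mem_iUnion]
    refine ⟨irreducibleComponent x, ⟨irreducibleComponent_mem_irreducibleComponents x, ?_⟩,
      mem_irreducibleComponent⟩
    intro heq
    apply hxC
    rw [← (Set.mem_singleton_iff.mp heq)]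
    exact mem_irreducibleComponent
  have hcN0 : c ∈ N0 := by
    show c ∈ (N0 : Set N)
    rw [hN0]
    exact ⟨hcU, hcO⟩
  have hN0U : N0 ≤ U := by
    intro x hx
    have hx' : x ∈ (N0 : Set N) := hx
    rw [hN0] at hx'
    exact hx'.1
  -- the restriction of `m` over `N0` is an isomorphism
  haveI : Surjective (m ∣_ N0) := by
    refine ⟨fun y => ?_⟩
    obtain ⟨w, hw⟩ : y.1 ∈ Set.range m := hN0C y.2
    have hwN0 : w ∈ m ⁻¹ᵁ N0 := by
      show m w ∈ N0
      rw [hw]
      exact y.2
    refine ⟨⟨w, hwN0⟩, Subtype.ext ?_⟩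
    rw [morphismRestrict_base_coe]
    exact hw
  haveI : IsIso (m ∣_ N0) := isIso_of_isClosedImmersion_of_surjective _
  haveI : Smooth (N0.ι ≫ g) := by
    have h1 : N0.ι ≫ g = N.homOfLE hN0U ≫ (U.ι ≫ g) := by
      rw [← Category.assoc, Scheme.homOfLE_ι]
    rw [h1]
    infer_instance
  haveI : Smooth ((m ⁻¹ᵁ N0).ι ≫ (m ≫ g)) := by
    have h1 : (m ⁻¹ᵁ N0).ι ≫ (m ≫ g) = (m ∣_ N0) ≫ (N0.ι ≫ g) := by
      rw [← Category.assoc, ← morphismRestrict_ι, Category.assoc]
    rw [h1]
    infer_instance
  refine (geomReduced_iff_dense_smooth F (m ≫ g)).mpr ⟨m ⁻¹ᵁ N0, ?_, inferInstance⟩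
  obtain ⟨w0, hw0⟩ : c ∈ Set.range m := hc.mem
  have hne : ((m ⁻¹ᵁ N0 : W.Opens) : Set W).Nonempty := by
    refine ⟨w0, ?_⟩
    show m w0 ∈ N0
    rw [hw0]
    exact hcN0
  exact (m ⁻¹ᵁ N0).2.dense hne

/-- a surjective closed immersion is a homeomorphism; preimages of components are components -/
theorem preimage_mem_irreducibleComponents_of_surjective_closedImmersion {A B : Scheme.{u}}
    (n : A ⟶ B) [IsClosedImmersion n] (hn : Function.Surjective n) (C : Set ↥B)
    (hC : C ∈ irreducibleComponents ↥B) : n ⁻¹' C ∈ irreducibleComponents ↥A := by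
  have hhomeo : IsHomeomorph n :=
    isHomeomorph_iff_isEmbedding_surjective.mpr ⟨n.isEmbedding, hn⟩
  have hoe : Topology.IsOpenEmbedding n := hhomeo.isOpenEmbedding
  obtain ⟨x, hx⟩ := hC.1.1
  exact preimage_mem_irreducibleComponents hC hoe ⟨x, hx, hn x⟩

open Groth.Agent.Lib.Helper11.BcLevels Groth.Agent.Lib.Helper7 in
theorem geometricallyReduced_of_component_of_level {k : Type u} [Field k] {X : Scheme.{u}}
    (f : X ⟶ Spec (CommRingCat.of k)) [LocallyOfFiniteType f] [QuasiCompact f]
    (k' : Type u) [Field k'] [Algebra k k']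
    (hk' : GeometricallyReduced ((FBase.bc f k').nilradical.subschemeι ≫ FBase.bcStr f k'))
    (L : Type u) [Field L] [Algebra k L] (τ : k' →ₐ[k] L)
    {W : Scheme.{u}} [IsIntegral W] (m : W ⟶ FBase.bc f L) [IsClosedImmersion m]
    (hm : Set.range m ∈ irreducibleComponents ↥(FBase.bc f L)) :
    GeometricallyReduced (m ≫ FBase.bcStr f L) := by
  haveI := hk'
  haveI : LocallyOfFiniteType (FBase.bcStr f k') :=
    MorphismProperty.pullback_snd (P := @LocallyOfFiniteType) _ _ inferInstance
  haveI : QuasiCompact (FBase.bcStr f k') :=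
    MorphismProperty.pullback_snd (P := @QuasiCompact) _ _ inferInstance
  have hτ := isPullback_bcHom f τ
  have hw : (pullback.fst ((FBase.bc f k').nilradical.subschemeι ≫ FBase.bcStr f k')
      (Spec.map (CommRingCat.ofHom (τ : k' →+* L))) ≫ (FBase.bc f k').nilradical.subschemeι) ≫
        FBase.bcStr f k' =
      pullback.snd ((FBase.bc f k').nilradical.subschemeι ≫ FBase.bcStr f k')
        (Spec.map (CommRingCat.ofHom (τ : k' →+* L))) ≫
          Spec.map (CommRingCat.ofHom (τ : k' →+* L)) := by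
    rw [Category.assoc]
    exact pullback.condition
  have hn1 : hτ.lift _ _ hw ≫ bcHom f τ = pullback.fst _ _ ≫ (FBase.bc f k').nilradical.subschemeι :=
    hτ.lift_fst _ _ hw
  have hn2 : hτ.lift _ _ hw ≫ FBase.bcStr f L = pullback.snd _ _ := hτ.lift_snd _ _ hw
  have hsq : IsPullback (hτ.lift _ _ hw)
      (pullback.fst ((FBase.bc f k').nilradical.subschemeι ≫ FBase.bcStr f k')
        (Spec.map (CommRingCat.ofHom (τ : k' →+* L)))) (bcHom f τ)
      (FBase.bc f k').nilradical.subschemeι := by
    refine IsPullback.of_right ?_ hn1 hτ.flip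
    rw [hn2]
    exact (IsPullback.of_hasPullback _ _).flip
  haveI : IsClosedImmersion (hτ.lift _ _ hw) :=
    MorphismProperty.of_isPullback (P := @IsClosedImmersion) hsq.flip inferInstance
  haveI : Surjective (FBase.bc f k').nilradical.subschemeι :=
    ⟨subschemeι_nilradical_surjective _⟩
  haveI : Surjective (hτ.lift _ _ hw) :=
    MorphismProperty.of_isPullback (P := @Surjective) hsq.flip inferInstance
  have hnsurj : Function.Surjective (hτ.lift _ _ hw) := (hτ.lift _ _ hw).surjective
  obtain ⟨m', hm'⟩ := exists_lift_of_isReduced_of_range_subset m (hτ.lift _ _ hw)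
    (fun x _ => hnsurj x)
  haveI : IsClosedImmersion (m' ≫ hτ.lift _ _ hw) := by rw [hm']; infer_instance
  haveI : IsClosedImmersion m' := IsClosedImmersion.of_comp_isClosedImmersion m' (hτ.lift _ _ hw)
  have hpt : ∀ w : W, (hτ.lift _ _ hw) (m' w) = m w := by
    intro w
    have hc := congrArg (fun ψ : W ⟶ FBase.bc f L => ψ w) hm'
    exact (Scheme.Hom.comp_apply _ _ _).symm.trans hc
  have hrange : Set.range m' = (hτ.lift _ _ hw) ⁻¹' Set.range m := by
    ext y
    constructor
    · rintro ⟨w, rfl⟩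
      exact ⟨w, (hpt w).symm⟩
    · rintro ⟨w, hw'⟩
      refine ⟨w, (hτ.lift _ _ hw).isClosedEmbedding.injective ?_⟩
      rw [hpt, hw']
  have hm'comp : Set.range m' ∈ irreducibleComponents _ := by
    rw [hrange]
    exact preimage_mem_irreducibleComponents_of_surjective_closedImmersion _ hnsurj _ hm
  have hfinal := geometricallyReduced_comp_of_component
    (pullback.snd ((FBase.bc f k').nilradical.subschemeι ≫ FBase.bcStr f k')
      (Spec.map (CommRingCat.ofHom (τ : k' →+* L)))) m' hm'comp
  have heq : m' ≫ pullback.snd ((FBase.bc f k').nilradical.subschemeι ≫ FBase.bcStr f k')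
      (Spec.map (CommRingCat.ofHom (τ : k' →+* L))) = m ≫ FBase.bcStr f L := by
    rw [← hn2, ← Category.assoc, hm']
  rw [← heq]
  exact hfinal

end Groth.Agent.Lib.Helper12.GIComp2
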