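import Mathlib
import Groth.Agent.Lib.Helper12.GIComp1
import Groth.Agent.Lib.Helper12.GIComp2
import Groth.Agent.Lib.Helper14.GeomRedFinite

/-!
# A finite extension over which all irreducible components are geometrically integral (helper12)
-/

set_option autoImplicit false
set_option linter.style.haveILetI false
universe u

open CategoryTheory CategoryTheory.Limits AlgebraicGeometry
open Groth.Agent.Lib.Helper11.BcLevels

namespace Groth.Agent.Lib.Helper12.GIComp3

theorem exists_level {k : Type u} [Field k] {X : Scheme.{u}} (f : X ⟶ Spec (CommRingCat.of k))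
    [LocallyOfFiniteType f] [QuasiCompact f] :
    ∃ (L : IntermediateField k (AlgebraicClosure k)) (_ : FiniteDimensional k L),
      ∀ (W : Scheme.{u}) [IsIntegral W] (m : W ⟶ FBase.bc f ↥L) [IsClosedImmersion m],
        Set.range m ∈ irreducibleComponents ↥(FBase.bc f ↥L) →
          GeometricallyIntegral (m ≫ FBase.bcStr f ↥L) := by
  classical
  obtain ⟨L₁, hL₁, hsat₁⟩ :=
    Groth.Agent.Lib.Helper12.GeomCompLevel.exists_level_saturated f (AlgebraicClosure k)
  haveI : IsNoetherian X := Groth.Agent.Lib.Helper14.SmoothInsepSch.isNoetherian_of_lft_qc k f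
  have hirr : (irreducibleComponents (X : Type u)).Finite :=
    TopologicalSpace.NoetherianSpace.finite_irreducibleComponents
  obtain ⟨k', _, _, hfin, hpi, hgr⟩ := Groth.Agent.Lib.Helper14.GeomRedFinite.main f hirr
  haveI := hfin
  let σ : k' →ₐ[k] AlgebraicClosure k := IsAlgClosed.lift
  let τ₀ : k' →ₐ[k] ↥σ.fieldRange :=
    σ.codRestrict σ.fieldRange.toSubalgebra (fun x => ⟨x, rfl⟩)
  have hτ₀ : Function.Surjective τ₀ := by
    rintro ⟨y, x, rfl⟩
    exact ⟨x, rfl⟩
  haveI : FiniteDimensional k ↥σ.fieldRange := Module.Finite.of_surjective τ₀.toLinearMap hτ₀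
  haveI := hL₁
  refine ⟨L₁ ⊔ σ.fieldRange, inferInstance, ?_⟩
  intro W _ m _ hm
  let τ : k' →ₐ[k] ↥(L₁ ⊔ σ.fieldRange) :=
    (IntermediateField.inclusion (le_sup_right : σ.fieldRange ≤ L₁ ⊔ σ.fieldRange)).comp τ₀
  haveI : GeometricallyIrreducible (m ≫ FBase.bcStr f ↥(L₁ ⊔ σ.fieldRange)) :=
    Groth.Agent.Lib.Helper12.GIComp1.geometricallyIrreducible_of_component f
      (AlgebraicClosure k) (L₁ ⊔ σ.fieldRange)
      (fun Z hZ => Groth.Agent.Lib.Helper12.GIComp1.saturated_of_le f (AlgebraicClosure k) L₁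
        (L₁ ⊔ σ.fieldRange) le_sup_left Z (hsat₁ Z hZ)) m hm
  haveI : GeometricallyReduced (m ≫ FBase.bcStr f ↥(L₁ ⊔ σ.fieldRange)) :=
    Groth.Agent.Lib.Helper12.GIComp2.geometricallyReduced_of_component_of_level f k' hgr
      ↥(L₁ ⊔ σ.fieldRange) τ m hm
  exact GeometricallyIntegral.of_geometricallyReduced_of_geometricallyIrreducible _

end Groth.Agent.Lib.Helper12.GIComp3
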