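import Mathlib
import Groth.Agent.Lib.Helper12.FibMaxPt
import Groth.Agent.Lib.Helper12.GeomRedGen
import Groth.Agent.Lib.Helper12.GeomIrrBasic
import Groth.Agent.Lib.Helper15.MaxPts

/-!
# Components whose generic fibre components are geometrically integral (helper12)
-/

set_option autoImplicit false
set_option linter.style.haveILetI false
universe u
open AlgebraicGeometry CategoryTheory Limits Topology

namespace Groth.Agent.Lib.Helper12.GIKey

open Groth.Agent.Lib.Helper12.GeomRedGen Groth.Agent.Lib.Helper12.GeomIrrBasic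

/-- all irreducible components of the fibre over `η`, with their reduced structure, are
geometrically integral -/
def AllCompGI {Y T : Scheme.{u}} (p : Y ⟶ T) (η : T) : Prop :=
  ∀ (W : Scheme.{u}) [IsIntegral W] (m : W ⟶ p.fiber η) [IsClosedImmersion m],
    Set.range m ∈ irreducibleComponents ↥(p.fiber η) →
      GeometricallyIntegral (m ≫ p.fiberToSpecResidueField η)

theorem mem_E_GI_of_allCompGI {Y T Z : Scheme.{u}} (p : Y ⟶ T) (z : Y) (c : Z ⟶ Y)
    [IsClosedImmersion c] [IsReduced Z] (hZ : Set.range c = closure {z})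
    (hz : closure {z} ∈ irreducibleComponents ↥Y) (H : AllCompGI p (p z)) :
    p z ∈ E (c ≫ p) ∧ p z ∈ GI (c ≫ p) := by
  obtain ⟨hint, hgen⟩ := Groth.Agent.Lib.Helper12.FibMaxPt.isIntegral_of_range z c hZ
  haveI := hint
  have hs : (c ≫ p) (genericPoint Z) = p z := by
    refine (Scheme.Hom.comp_apply _ _ _).trans ?_
    rw [hgen]
  haveI : IsIntegral ((c ≫ p).fiber (p z)) :=
    Groth.Agent.Lib.Helper12.FibMaxPt.isIntegral_fiber_of_generic (c ≫ p) (p z) hs
  let m : (c ≫ p).fiber (p z) ⟶ p.fiber (p z) :=
    pullback.map (c ≫ p) (T.fromSpecResidueField (p z)) p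
      (T.fromSpecResidueField (p z)) c (𝟙 _) (𝟙 T) (Category.comp_id _)
      ((Category.comp_id _).trans (Category.id_comp _).symm)
  have hm1 : m ≫ pullback.fst p (T.fromSpecResidueField (p z)) =
      pullback.fst (c ≫ p) (T.fromSpecResidueField (p z)) ≫ c := pullback.lift_fst _ _ _
  have hm2 : m ≫ pullback.snd p (T.fromSpecResidueField (p z)) =
      pullback.snd (c ≫ p) (T.fromSpecResidueField (p z)) :=
    (pullback.lift_snd _ _ _).trans (Category.comp_id _)
  have hsq : IsPullback m (pullback.fst (c ≫ p) (T.fromSpecResidueField (p z)))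
      (pullback.fst p (T.fromSpecResidueField (p z))) c := by
    refine IsPullback.of_right ?_ hm1 (IsPullback.of_hasPullback p _).flip
    rw [hm2]
    exact (IsPullback.of_hasPullback (c ≫ p) _).flip
  haveI : IsClosedImmersion m :=
    MorphismProperty.of_isPullback (P := @IsClosedImmersion) hsq.flip inferInstance
  have hrange : Set.range m = closure {p.asFiber z} :=
    Groth.Agent.Lib.Helper12.FibMaxPt.range_map_eq p z c hZ
  have hcomp : closure {p.asFiber z} ∈ irreducibleComponents ↥(p.fiber (p z)) := by
    rw [Groth.Agent.Lib.Helper15.NT.closure_singleton_mem_irreducibleComponents_iff]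
    intro t' ht'
    have h1 : (p.fiberι (p z)) t' ⤳ z := by
      have := ht'.map (p.fiberι (p z)).continuous
      rwa [Scheme.Hom.fiberι_asFiber] at this
    have h2 : z ⤳ (p.fiberι (p z)) t' :=
      (Groth.Agent.Lib.Helper15.NT.closure_singleton_mem_irreducibleComponents_iff z).1 hz _ h1
    rw [← (p.fiberι (p z)).isEmbedding.isInducing.specializes_iff, Scheme.Hom.fiberι_asFiber]
    exact h2
  have hGI : GeometricallyIntegral (m ≫ p.fiberToSpecResidueField (p z)) :=
    H _ m (hrange ▸ hcomp)
  have hGI' : GeometricallyIntegral ((c ≫ p).fiberToSpecResidueField (p z)) := by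
    have : m ≫ p.fiberToSpecResidueField (p z) = (c ≫ p).fiberToSpecResidueField (p z) := hm2
    rwa [this] at hGI
  exact ⟨(mem_E _ _).2 inferInstance, (mem_GI _ _).2 inferInstance⟩

end Groth.Agent.Lib.Helper12.GIKey
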