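import Mathlib
import Groth.Agent.Lib.Helper12.GeomIrrInd
import Groth.Agent.Lib.Helper12.GeomIrrNeg
import Groth.Agent.Lib.Helper12.ConsPropGen
import Groth.Agent.Lib.Helper12.FpDesc

/-!
# Local constructibility of the locus of geometrically irreducible fibres (helper12)
-/

set_option autoImplicit false
set_option linter.style.haveILetI false
universe u
open AlgebraicGeometry CategoryTheory Limits Topology

namespace Groth.Agent.Lib.Helper12.GeomIrrCons

open ConsProp Groth.Agent.Lib.Helper12.GeomIrrBasic

theorem isCons_PGI : IsCons PGI.{u} := by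
  refine ⟨isFieldStable_PGI, fun X S u _ _ _ _ => ?_⟩
  rw [locus_PGI]
  by_cases hη : genericPoint S ∈ GI u
  · left
    exact Groth.Agent.Lib.Helper12.GeomIrrInd.geomIrr_near_generic_noeth u hη
  · right
    exact Groth.Agent.Lib.Helper12.GeomIrrNeg.not_geomIrr_near_generic u hη

/-- Noetherian base. -/
theorem isConstructible_GI_noetherian {X S : Scheme.{u}} [IsNoetherian S] (u : X ⟶ S)
    [LocallyOfFiniteType u] [QuasiCompact u] : IsConstructible (GI u) :=
  Groth.Agent.Lib.Helper12.ConsPropNoeth.isConstructible_locus isCons_PGI u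

section fp

open Groth.Agent.Lib.Helper12.ConsPropGen Groth.Agent.Lib.Helper12.FpDesc

/-- Finite presentation, over an affine open of the base. -/
theorem isConstructible_preimage_GI_fp {X S : Scheme.{u}} (u : X ⟶ S)
    [LocallyOfFinitePresentation u] [QuasiCompact u] [QuasiSeparated u]
    (V : S.Opens) (hV : IsAffineOpen V) : IsConstructible (V.ι ⁻¹' GI u) := by
  obtain ⟨J, _, _, 𝔇, π, hπ, haff, hnoeth⟩ := exists_noetherian_limit V hV
  haveI : ∀ {i j : J} (a : i ⟶ j), IsAffineHom (𝔇.map a) := fun a => inferInstance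
  haveI : ∀ (i j : J) (a : i ⟶ j), IsAffineHom (𝔇.map a) := fun _ _ a => inferInstance
  obtain ⟨i₁, X₁, x₁, qX₁, _, _, _, sq⟩ := descends_of_fp (D := 𝔇) (c := Cone.mk _ π) hπ
    (pullback.snd u V.ι)
  haveI := hnoeth i₁
  have h1 : V.ι ⁻¹' GI u = GI (pullback.snd u V.ι) :=
    (GI_pullback (IsPullback.of_hasPullback u V.ι)).symm
  have h2 : GI (pullback.snd u V.ι) = (π.app i₁) ⁻¹' GI x₁ := GI_pullback sq
  rw [h1, h2]
  exact (π.app i₁).isConstructible_preimage (isConstructible_GI_noetherian x₁)

/-- **Local constructibility of the locus of geometrically irreducible fibres**, for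
quasi-compact quasi-separated morphisms locally of finite presentation. -/
theorem isLocallyConstructible_GI {X Y : Scheme.{u}} (f : X ⟶ Y) [QuasiCompact f]
    [QuasiSeparated f] [LocallyOfFinitePresentation f] : IsLocallyConstructible (GI f) := by
  refine IsLocallyConstructible.of_isOpenCover (U := fun V : Y.affineOpens => V.1)
    (TopologicalSpace.IsOpenCover.mk (iSup_affineOpens_eq_top Y)) fun V => ?_
  exact (isConstructible_preimage_GI_fp f V.1 V.2).isLocallyConstructible

end fp

end Groth.Agent.Lib.Helper12.GeomIrrCons
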