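import Mathlib
import Groth.Agent.Lib.Helper12.GIKey1
import Groth.Agent.Lib.Helper12.GeomRedCons
import Groth.Agent.Lib.Helper12.GeomIrrCons
import Groth.Agent.Lib.Helper12.ConstrNhds
import Groth.Agent.Lib.Helper28.GenFlatScheme
import Groth.Agent.Lib.Helper7.RedLib

/-!
# Spreading out: components are flat with geometrically integral fibres near the generic point
(helper12)
-/

set_option autoImplicit false
set_option linter.style.haveILetI false
universe u
open AlgebraicGeometry CategoryTheory Limits Topology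

namespace Groth.Agent.Lib.Helper12.GIKey

open Groth.Agent.Lib.Helper12.GeomRedGen Groth.Agent.Lib.Helper12.GeomIrrBasic

/-- what we want over an open `U` for the closed subset `C` -/
def GoodFor {Y T : Scheme.{u}} (p : Y ⟶ T) (C : Set Y) (U : T.Opens) : Prop :=
  ∀ (T' P : Scheme.{u}) (j : T' ⟶ T) [IsOpenImmersion j] (a' : P ⟶ Y) (b' : P ⟶ T'),
    IsPullback a' b' p j → Set.range j ⊆ (U : Set T) →
    ∀ (G : Scheme.{u}) (ιG : G ⟶ P) [IsClosedImmersion ιG] [IsReduced G],
      Set.range ιG = a' ⁻¹' C → (Set.range ιG).Nonempty →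
        Flat (ιG ≫ b') ∧ GeometricallyIntegral (ιG ≫ b')

theorem goodFor_of_ne {Y T : Scheme.{u}} [IrreducibleSpace T] (p : Y ⟶ T) (z : Y) (η : T)
    (hη : η = genericPoint T) (hne : p z ≠ η) :
    ∃ U : T.Opens, η ∈ U ∧ GoodFor p (closure {z}) U := by
  refine ⟨⟨(closure {p z})ᶜ, isClosed_closure.isOpen_compl⟩, ?_, ?_⟩
  · intro hmem
    apply hne
    have h1 : p z ⤳ η := specializes_iff_mem_closure.2 hmem
    have h2 : η ⤳ p z := by
      rw [hη]
      exact (genericPoint_spec T).specializes (Set.mem_univ _)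
    exact (h1.antisymm h2).eq
  · intro T' P j _ a' b' sq hj G ιG _ _ hr hne'
    exfalso
    obtain ⟨x, hx⟩ := hne'
    rw [hr] at hx
    have h1 : z ⤳ a' x := specializes_iff_mem_closure.2 hx
    have h2 : p z ⤳ p (a' x) := h1.map p.continuous
    have h3 : p (a' x) = j (b' x) := by
      have hc := congrArg (fun φ : P ⟶ T => φ x) sq.w
      exact ((Scheme.Hom.comp_apply _ _ _).symm.trans hc).trans (Scheme.Hom.comp_apply _ _ _)
    have h4 : j (b' x) ∈ (closure {p z})ᶜ := hj ⟨b' x, rfl⟩
    apply h4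
    rw [← h3]
    exact specializes_iff_mem_closure.1 h2

set_option maxHeartbeats 1600000 in
theorem goodFor_of_eq {Y T : Scheme.{u}} [IsIntegral T] [IsNoetherian T] (p : Y ⟶ T)
    [LocallyOfFiniteType p] [QuasiCompact p] (z : Y)
    (hz : closure {z} ∈ irreducibleComponents ↥Y) (η : T) (hη : η = genericPoint T)
    (heq : p z = η) (H : AllCompGI p η) :
    ∃ U : T.Opens, η ∈ U ∧ GoodFor p (closure {z}) U := by
  subst heq
  let C : TopologicalSpace.Closeds Y := ⟨closure {z}, isClosed_closure⟩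
  let I := Scheme.IdealSheafData.vanishingIdeal (X := Y) C
  let c : I.subscheme ⟶ Y := I.subschemeι
  have hrange : Set.range c = closure {z} := by
    rw [Scheme.IdealSheafData.range_subschemeι, Scheme.IdealSheafData.coe_support_vanishingIdeal]
    rfl
  haveI : IsReduced I.subscheme := Groth.Agent.Lib.Helper7.isReduced_vanishingIdeal_subscheme C
  obtain ⟨hE, hGI⟩ := mem_E_GI_of_allCompGI p z c hrange hz H
  have hgen : ∀ w : T, w ⤳ p z → w = p z := by
    intro w hw
    have h2 : p z ⤳ w := by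
      rw [hη]
      exact (genericPoint_spec T).specializes (Set.mem_univ _)
    exact (hw.antisymm h2).eq
  have hEn : E (c ≫ p) ∈ nhds (p z) :=
    Groth.Agent.Lib.Helper12.ConstrNhds.mem_nhds_of_isLocallyConstructible _
      (Groth.Agent.Lib.Helper12.GeomRedCons.isConstructible_E_noetherian
        (c ≫ p)).isLocallyConstructible _ (fun w hw => by rw [hgen w hw]; exact hE)
  have hGIn : GI (c ≫ p) ∈ nhds (p z) :=
    Groth.Agent.Lib.Helper12.ConstrNhds.mem_nhds_of_isLocallyConstructible _
      (Groth.Agent.Lib.Helper12.GeomIrrCons.isConstructible_GI_noetherian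
        (c ≫ p)).isLocallyConstructible _ (fun w hw => by rw [hgen w hw]; exact hGI)
  obtain ⟨O₁, hO₁E, hO₁o, hO₁η⟩ := mem_nhds_iff.1 hEn
  obtain ⟨O₂, hO₂E, hO₂o, hO₂η⟩ := mem_nhds_iff.1 hGIn
  obtain ⟨Ufl, hUd, hUflat, -⟩ := Groth.Agent.Lib.Helper28.GenFlat.generic_flat (c ≫ p)
  have hηU : p z ∈ Ufl := by
    obtain ⟨y, hy⟩ := hUd.nonempty
    rw [hη]
    exact ((genericPoint_spec T).mem_open_set_iff Ufl.isOpen).2 ⟨y, Set.mem_univ _, hy⟩
  refine ⟨(⟨O₁, hO₁o⟩ ⊓ ⟨O₂, hO₂o⟩) ⊓ Ufl, ⟨⟨hO₁η, hO₂η⟩, hηU⟩, ?_⟩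
  intro T' P j _ a' b' sq hj G ιG _ _ hr hne'
  have hj1 : ∀ t : T', j t ∈ E (c ≫ p) := fun t => hO₁E (hj ⟨t, rfl⟩).1.1
  have hj2 : ∀ t : T', j t ∈ GI (c ≫ p) := fun t => hO₂E (hj ⟨t, rfl⟩).1.2
  have hj3 : Set.range j ⊆ Set.range Ufl.ι := by
    rw [Scheme.Opens.range_ι]
    exact fun t ht => (hj ht).2
  haveI : IsOpenImmersion a' :=
    MorphismProperty.of_isPullback (P := @IsOpenImmersion) sq.flip inferInstance
  let n : pullback c a' ⟶ P := pullback.snd c a'
  haveI : IsReduced (pullback c a') := isReduced_of_isOpenImmersion (pullback.fst c a')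
  have hrn : Set.range n = a' ⁻¹' closure {z} := by
    rw [Scheme.Pullback.range_snd, hrange]
  obtain ⟨θ, hθ⟩ := Groth.Agent.Lib.Helper7.exists_lift_of_isReduced_of_range_subset ιG n
    (by rw [hr, hrn])
  haveI : IsClosedImmersion (θ ≫ n) := by rw [hθ]; infer_instance
  haveI : IsClosedImmersion θ := IsClosedImmersion.of_comp θ n
  haveI : Surjective θ := by
    refine ⟨fun y => ?_⟩
    have hy : n y ∈ Set.range ιG := by
      rw [hr, ← hrn]
      exact ⟨y, rfl⟩
    obtain ⟨x, hx⟩ := hy
    refine ⟨x, n.isEmbedding.injective ?_⟩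
    rw [← hx, ← hθ]
    exact (Scheme.Hom.comp_apply _ _ _).symm
  haveI : IsIso θ := isIso_of_isClosedImmersion_of_surjective θ
  have hpb : IsPullback (pullback.fst c a') (n ≫ b') (c ≫ p) j :=
    (IsPullback.of_hasPullback c a').paste_vert sq
  -- flatness
  have hflat : Flat (n ≫ b') := by
    let j' : T' ⟶ Ufl := IsOpenImmersion.lift Ufl.ι j hj3
    have hj' : j' ≫ Ufl.ι = j := IsOpenImmersion.lift_fac _ _ _
    have R : IsPullback ((c ≫ p) ⁻¹ᵁ Ufl).ι ((c ≫ p) ∣_ Ufl) (c ≫ p) Ufl.ι :=
      (isPullback_morphismRestrict (c ≫ p) Ufl).flip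
    have w : pullback.fst c a' ≫ (c ≫ p) = ((n ≫ b') ≫ j') ≫ Ufl.ι := by
      rw [Category.assoc (n ≫ b'), hj']
      exact hpb.w
    have L : IsPullback (R.lift (pullback.fst c a') ((n ≫ b') ≫ j') w) (n ≫ b')
        ((c ≫ p) ∣_ Ufl) j' := by
      refine IsPullback.of_right ?_ (R.lift_snd _ _ _) R
      rw [R.lift_fst, hj']
      exact hpb
    exact MorphismProperty.of_isPullback (P := @Flat) L hUflat
  haveI : GeometricallyReduced (n ≫ b') := by
    rw [geometricallyReduced_iff, geometrically_iff_forall_fiberToSpecResidueField]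
    intro t
    have h1 : GeometricallyReduced ((n ≫ b').fiberToSpecResidueField t) :=
      (mem_E_pullback hpb t).2 (hj1 t)
    rw [geometricallyReduced_iff] at h1
    exact h1
  haveI : GeometricallyIrreducible (n ≫ b') := by
    rw [← GI_eq_univ_iff, GI_pullback hpb]
    ext t
    simp only [Set.mem_preimage, Set.mem_univ, iff_true]
    exact hj2 t
  have hgi : GeometricallyIntegral (n ≫ b') :=
    GeometricallyIntegral.of_geometricallyReduced_of_geometricallyIrreducible _
  have hcomp : ιG ≫ b' = θ ≫ (n ≫ b') := by rw [← Category.assoc, hθ]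
  rw [hcomp]
  exact ⟨(MorphismProperty.cancel_left_of_respectsIso @Flat θ _).2 hflat,
    (MorphismProperty.cancel_left_of_respectsIso @GeometricallyIntegral θ _).2 hgi⟩

set_option maxHeartbeats 1600000 in
/-- **Key lemma**: near the generic point, every irreducible component (with reduced structure) of
the family is flat with geometrically integral fibres, provided this holds for the components of
the generic fibre. -/
theorem key {Y T : Scheme.{u}} [IsIntegral T] [IsNoetherian T] (p : Y ⟶ T)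
    [LocallyOfFiniteType p] [QuasiCompact p] (η : T) (hη : η = genericPoint T)
    (H : AllCompGI p η) :
    ∃ U : T.Opens, η ∈ U ∧
      ∀ (T' P : Scheme.{u}) (j : T' ⟶ T) [IsOpenImmersion j] (a' : P ⟶ Y) (b' : P ⟶ T'),
        IsPullback a' b' p j → Set.range j ⊆ (U : Set T) →
        ∀ (G : Scheme.{u}) (ιG : G ⟶ P) [IsClosedImmersion ιG] [IsReduced G],
          Set.range ιG ∈ irreducibleComponents ↥P →
            Flat (ιG ≫ b') ∧ GeometricallyIntegral (ιG ≫ b') := by
  classical
  haveI : CompactSpace Y := QuasiCompact.compactSpace_of_compactSpace p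
  haveI : IsLocallyNoetherian Y := LocallyOfFiniteType.isLocallyNoetherian p
  haveI : IsNoetherian Y := {}
  have hfin : (irreducibleComponents ↥Y).Finite :=
    TopologicalSpace.NoetherianSpace.finite_irreducibleComponents
  have hex : ∀ C : Set Y, ∃ U : T.Opens, η ∈ U ∧
      (C ∈ irreducibleComponents ↥Y → GoodFor p C U) := by
    intro C
    by_cases hC : C ∈ irreducibleComponents ↥Y
    · obtain ⟨z, hzC⟩ := QuasiSober.sober hC.1 (isClosed_of_mem_irreducibleComponents C hC)
      have hCz : C = closure {z} := hzC.def.symm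
      subst hCz
      by_cases hpz : p z = η
      · obtain ⟨U, hU, hgood⟩ := goodFor_of_eq p z hC η hη hpz H
        exact ⟨U, hU, fun _ => hgood⟩
      · obtain ⟨U, hU, hgood⟩ := goodFor_of_ne p z η hη hpz
        exact ⟨U, hU, fun _ => hgood⟩
    · exact ⟨⊤, trivial, fun h => absurd h hC⟩
  choose UC hUCη hUCgood using hex
  have hopen : IsOpen (⋂ C ∈ irreducibleComponents ↥Y, (UC C : Set T)) :=
    hfin.isOpen_biInter (fun C _ => (UC C).isOpen)
  refine ⟨⟨_, hopen⟩, ?_, ?_⟩
  · show η ∈ ⋂ C ∈ irreducibleComponents ↥Y, (UC C : Set T)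
    exact Set.mem_iInter₂.2 (fun C _ => hUCη C)
  · intro T' P j _ a' b' sq hj G ιG _ _ hD
    haveI : IsOpenImmersion a' :=
      MorphismProperty.of_isPullback (P := @IsOpenImmersion) sq.flip inferInstance
    obtain ⟨d, hd⟩ := QuasiSober.sober hD.1 (isClosed_of_mem_irreducibleComponents _ hD)
    let C := irreducibleComponent (a' d)
    have hC : C ∈ irreducibleComponents ↥Y := irreducibleComponent_mem_irreducibleComponents _
    have hCcl : IsClosed C := isClosed_of_mem_irreducibleComponents C hC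
    have hpre : a' ⁻¹' C ∈ irreducibleComponents ↥P :=
      preimage_mem_irreducibleComponents hC a'.isOpenEmbedding
        ⟨a' d, mem_irreducibleComponent, ⟨d, rfl⟩⟩
    have hsub : Set.range ιG ⊆ a' ⁻¹' C := by
      rw [← hd.def]
      refine (hCcl.preimage a'.continuous).closure_subset_iff.2 ?_
      rw [Set.singleton_subset_iff]
      exact mem_irreducibleComponent
    have heq : Set.range ιG = a' ⁻¹' C := Set.Subset.antisymm hsub (hD.2 hpre.1 hsub)
    have hjC : Set.range j ⊆ (UC C : Set T) := fun t ht => Set.mem_iInter₂.1 (hj ht) C hC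
    exact hUCgood C hC T' P j a' b' sq hjC G ιG heq hD.1.1

end Groth.Agent.Lib.Helper12.GIKey
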