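import Mathlib
import Groth.Agent.Lib.Helper12.GeomCompStruct
import Groth.Agent.Lib.Helper12.FinFreeAdjoin
import Groth.Agent.Lib.Helper12.InsepModel
import Groth.Agent.Lib.Helper12.GenRedModel

/-!
# A finite free integral model of a finite extension of the function field (helper12)
-/

set_option autoImplicit false
set_option linter.style.haveILetI false
universe u
open AlgebraicGeometry CategoryTheory Limits Topology TensorProduct

namespace Groth.Agent.Lib.Helper12.GIModel

open Groth.Agent.Lib.Helper11.FBaseLib Groth.Agent.Lib.Helper11.FBaseLib2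
  Groth.Agent.Lib.Helper12.GenRedModel

theorem mem_range_of_div {R K : Type*} [CommRing R] [Field K] (ev : R →+* K) (u v : R)
    (hv : IsUnit v) : ev u / ev v ∈ ev.range := by
  obtain ⟨w, rfl⟩ := hv
  refine ⟨u * ↑w⁻¹, ?_⟩
  rw [map_mul, div_eq_mul_inv]
  congr 1
  apply eq_inv_of_mul_eq_one_left
  rw [← map_mul, Units.inv_mul, map_one]

set_option maxHeartbeats 1600000 in
theorem exists_finite_free_model {X S : Scheme.{u}} (f : X ⟶ S) [IsIntegral S] [IsNoetherian S]
    [LocallyOfFiniteType f] [QuasiCompact f]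
    (L : Type u) [Field L] [Algebra (S.residueField (genericPoint S)) L]
    [FiniteDimensional (S.residueField (genericPoint S)) L] :
    ∃ (V₀ : S.Opens) (A' : Type u) (_ : CommRing A') (_ : IsDomain A') (_ : IsNoetherianRing A')
      (_ : Algebra A' L) (_ : IsFractionRing A' L)
      (h₀ : Spec (.of A') ⟶ (V₀ : Scheme.{u}))
      (aL : FBase.bc (k := S.residueField (genericPoint S))
        (f.fiberToSpecResidueField (genericPoint S)) L ⟶ pullback f (h₀ ≫ V₀.ι)),
      genericPoint S ∈ V₀ ∧ IsFinite h₀ ∧ Flat h₀ ∧ Surjective h₀ ∧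
      (∀ t, (h₀ ≫ V₀.ι) t = genericPoint S → t = genericPoint (Spec (.of A'))) ∧
      IsPullback aL (FBase.bcStr (k := S.residueField (genericPoint S))
        (f.fiberToSpecResidueField (genericPoint S)) L) (pullback.snd f (h₀ ≫ V₀.ι))
        (Spec.map (CommRingCat.ofHom (algebraMap A' L))) := by
  classical
  let K := S.residueField (genericPoint S)
  let fη : f.fiber (genericPoint S) ⟶ Spec (CommRingCat.of K) :=
    f.fiberToSpecResidueField (genericPoint S)
  obtain ⟨_, ⟨W, hW, rfl⟩, hηW, -⟩ :=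
    S.isBasis_affineOpens.exists_subset_of_mem_open (Set.mem_univ (genericPoint S)) isOpen_univ
  obtain ⟨W, rfl⟩ : ∃ W' : S.Opens, W' = W := ⟨W, rfl⟩
  let ev₀ : Γ(S, W) →+* K := (S.evaluation W (genericPoint S) hηW).hom
  let b := Module.finBasis K L
  have hc := fun i j l => evaluation_fraction hW (genericPoint S) hηW (b.repr (b i * b j) l)
  have hd := fun l => evaluation_fraction hW (genericPoint S) hηW (b.repr 1 l)
  choose cu cv hcv hcuv using hc
  choose du dv hdv hduv using hd
  let g : Γ(S, W) := (∏ i, ∏ j, ∏ l, cv i j l) * ∏ l, dv l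
  have hg : ev₀ g ≠ 0 := by
    show ev₀ ((∏ i, ∏ j, ∏ l, cv i j l) * ∏ l, dv l) ≠ 0
    rw [map_mul]
    simp only [map_prod]
    refine mul_ne_zero ?_ ?_
    · exact Finset.prod_ne_zero_iff.2 fun i _ => Finset.prod_ne_zero_iff.2 fun j _ =>
        Finset.prod_ne_zero_iff.2 fun l _ => hcv i j l
    · exact Finset.prod_ne_zero_iff.2 fun l _ => hdv l
  let V₀ : S.Opens := S.basicOpen g
  have hV₀ : IsAffineOpen V₀ := hW.basicOpen g
  have hηV₀ : genericPoint S ∈ V₀ := (S.evaluation_ne_zero_iff_mem_basicOpen _ hηW g).1 hg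
  have hle : V₀ ≤ W := S.basicOpen_le g
  let res : Γ(S, W) →+* Γ(S, V₀) := (S.presheaf.map (homOfLE hle).op).hom
  let R := Γ(S, V₀)
  haveI : IsNoetherianRing R := IsLocallyNoetherian.component_noetherian ⟨V₀, hV₀⟩
  let ev : R →+* K := (S.evaluation V₀ (genericPoint S) hηV₀).hom
  have hevres : ∀ x, ev (res x) = ev₀ x := by
    intro x
    show (S.residue _).hom ((S.presheaf.germ V₀ _ hηV₀).hom
      ((S.presheaf.map (homOfLE hle).op).hom x)) = _
    rw [TopCat.Presheaf.germ_res_apply]
    rfl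
  have hgunit : IsUnit (res g) := S.toRingedSpace.isUnit_res_basicOpen g
  have hcvunit : ∀ i j l, IsUnit (res (cv i j l)) := by
    intro i j l
    refine isUnit_of_dvd_unit (map_dvd res ?_) hgunit
    refine Dvd.dvd.mul_right ?_ _
    exact (Finset.dvd_prod_of_mem _ (Finset.mem_univ l)).trans
      ((Finset.dvd_prod_of_mem (fun j => ∏ l, cv i j l) (Finset.mem_univ j)).trans
        (Finset.dvd_prod_of_mem (fun i => ∏ j, ∏ l, cv i j l) (Finset.mem_univ i)))
  have hdvunit : ∀ l, IsUnit (res (dv l)) := by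
    intro l
    refine isUnit_of_dvd_unit (map_dvd res ?_) hgunit
    refine Dvd.dvd.mul_left ?_ _
    exact Finset.dvd_prod_of_mem _ (Finset.mem_univ l)
  letI algRK : Algebra R K := ev.toAlgebra
  letI algRL : Algebra R L := ((algebraMap K L).comp ev).toAlgebra
  haveI : IsScalarTower R K L := IsScalarTower.of_algebraMap_eq (fun _ => rfl)
  have hc' : ∀ i j l, b.repr (b i * b j) l ∈ (algebraMap R K).range := by
    intro i j l
    rw [hcuv i j l, ← hevres, ← hevres]
    exact mem_range_of_div ev _ _ (hcvunit i j l)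
  have hd' : ∀ l, b.repr 1 l ∈ (algebraMap R K).range := by
    intro l
    rw [hduv l, ← hevres, ← hevres]
    exact mem_range_of_div ev _ _ (hdvunit l)
  have hinj : Function.Injective (algebraMap R K) := by
    refine (injective_iff_map_eq_zero ev).2 fun x hx => ?_
    exact (isNilpotent_of_evaluation_generic_eq_zero hV₀ hηV₀ x hx).eq_zero
  obtain ⟨hfin, hfree⟩ := FinFreeAdjoin.finite_free_adjoin b hinj hc' hd'
  have hfrac : ∀ x : K, ∃ u v : R, algebraMap R K v ≠ 0 ∧
      x = algebraMap R K u / algebraMap R K v := evaluation_fraction hV₀ (genericPoint S) hηV₀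
  let A' := Algebra.adjoin R (Set.range b)
  haveI hFR : IsFractionRing A' L := InsepModel.isFractionRing_adjoin b hfrac
  haveI : Module.Finite R A' := hfin
  haveI : Module.Free R A' := hfree
  haveI : IsNoetherianRing A' := Algebra.FiniteType.isNoetherianRing R A'
  let ψ : Γ(S, V₀) ⟶ CommRingCat.of A' := CommRingCat.ofHom (algebraMap R A')
  let h₀ : Spec (CommRingCat.of A') ⟶ V₀.toScheme := Spec.map ψ ≫ hV₀.isoSpec.inv
  let φ₁ : Spec (CommRingCat.of A') ⟶ S := h₀ ≫ V₀.ι
  have hinjA : Function.Injective (algebraMap R A') := by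
    have h1 : Function.Injective (algebraMap R L) :=
      (algebraMap K L).injective.comp hinj
    exact Function.Injective.of_comp (f := Subtype.val) h1
  haveI : FaithfulSMul R A' := (faithfulSMul_iff_algebraMap_injective R A').2 hinjA
  haveI : Algebra.IsIntegral R A' := Algebra.IsIntegral.of_finite R A'
  haveI hfinψ : IsFinite (Spec.map ψ) :=
    (IsFinite.SpecMap_iff ψ).2 (RingHom.finite_algebraMap.2 hfin)
  haveI hflatψ : Flat (Spec.map ψ) :=
    Flat.SpecMap_iff.2 (RingHom.flat_algebraMap_iff.2 inferInstance)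
  haveI hsurjψ : Surjective (Spec.map ψ) := ⟨Algebra.IsIntegral.comap_surjective R A'⟩
  haveI hfin₀ : IsFinite h₀ := by
    show IsFinite (Spec.map ψ ≫ hV₀.isoSpec.inv)
    infer_instance
  haveI hflat₀ : Flat h₀ := by
    show Flat (Spec.map ψ ≫ hV₀.isoSpec.inv)
    infer_instance
  haveI hsurj₀ : Surjective h₀ := by
    show Surjective (Spec.map ψ ≫ hV₀.isoSpec.inv)
    infer_instance
  let ιL : Spec (.of L) ⟶ Spec (.of A') := Spec.map (CommRingCat.ofHom (algebraMap A' L))
  let ρ := S.fromSpecResidueField (genericPoint S)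
  let mL : Spec (.of L) ⟶ Spec (S.residueField (genericPoint S)) :=
    Spec.map (CommRingCat.ofHom (algebraMap K L))
  have compat : Spec.map (S.evaluation V₀ (genericPoint S) hηV₀) ≫ hV₀.fromSpec = ρ := by
    show _ = Spec.map (S.residue (genericPoint S)) ≫ S.fromSpecStalk (genericPoint S)
    rw [← hV₀.fromSpecStalk_eq_fromSpecStalk hηV₀, IsAffineOpen.fromSpecStalk,
      ← Spec.map_comp_assoc]
    rfl
  have hφ₁ : φ₁ = Spec.map ψ ≫ hV₀.fromSpec := by
    show (Spec.map ψ ≫ hV₀.isoSpec.inv) ≫ V₀.ι = _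
    rw [Category.assoc, hV₀.isoSpec_inv_ι]
  have hcompL : ιL ≫ φ₁ = mL ≫ ρ := by
    have hring : ψ ≫ CommRingCat.ofHom (algebraMap A' L) =
        S.evaluation V₀ (genericPoint S) hηV₀ ≫ CommRingCat.ofHom (algebraMap K L) := rfl
    rw [hφ₁, ← compat, ← Spec.map_comp_assoc, ← Spec.map_comp_assoc, hring]
  -- uniqueness of the point over the generic point
  haveI : Nonempty ↥(V₀ : Scheme.{u}) := ⟨⟨genericPoint S, hηV₀⟩⟩
  haveI : IsDomain R := IsIntegral.component_integral (X := S) V₀
  have huniq : ∀ t, φ₁ t = genericPoint S → t = genericPoint (Spec (.of A')) := by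
    intro t ht
    rw [hφ₁, Scheme.Hom.comp_apply] at ht
    have h1 : hV₀.fromSpec (genericPoint (Spec Γ(S, V₀))) = genericPoint S :=
      genericPoint_eq_of_isOpenImmersion hV₀.fromSpec
    have h2 : Spec.map ψ t = genericPoint (Spec Γ(S, V₀)) :=
      hV₀.fromSpec.isOpenEmbedding.injective (ht.trans h1.symm)
    rw [genericPoint_eq_bot_of_affine] at h2 ⊢
    apply PrimeSpectrum.ext
    have h3 : Ideal.comap (algebraMap R A') t.asIdeal = ⊥ := congrArg PrimeSpectrum.asIdeal h2
    exact Ideal.eq_bot_of_comap_eq_bot h3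
  -- the square
  have hfib : IsPullback (f.fiberι (genericPoint S)) fη f ρ := IsPullback.of_hasPullback _ _
  have bigL : IsPullback (FBase.bcπ fη L ≫ f.fiberι (genericPoint S)) (FBase.bcStr fη L) f
      (ιL ≫ φ₁) := by
    rw [hcompL]
    exact (isPullback_bc fη L).paste_horiz hfib
  have wL : (FBase.bcπ fη L ≫ f.fiberι (genericPoint S)) ≫ f =
      (FBase.bcStr fη L ≫ ιL) ≫ φ₁ := by
    simpa only [Category.assoc] using bigL.w
  have sqL : IsPullback (pullback.lift _ _ wL) (FBase.bcStr fη L) (pullback.snd f φ₁) ιL := by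
    refine IsPullback.of_right ?_ (pullback.lift_snd _ _ _) (IsPullback.of_hasPullback f φ₁)
    rw [pullback.lift_fst]
    exact bigL
  exact ⟨V₀, A', inferInstance, inferInstance, inferInstance, inferInstance, hFR, h₀,
    pullback.lift _ _ wL, hηV₀, hfin₀, hflat₀, hsurj₀, huniq, sqL⟩

end Groth.Agent.Lib.Helper12.GIModel
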