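import Mathlib

/-!
# Transporting "all components geometrically integral" to the fibre over the generic point
(helper12)
-/

set_option autoImplicit false
set_option linter.style.haveILetI false
universe u
open AlgebraicGeometry CategoryTheory Limits Topology

namespace Groth.Agent.Lib.Helper12.GITransport

theorem image_mem_irreducibleComponents_of_homeomorph {A B : Type*} [TopologicalSpace A]
    [TopologicalSpace B] (h : A ≃ₜ B) {T : Set A} (hT : T ∈ irreducibleComponents A) :
    h '' T ∈ irreducibleComponents B := by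
  rw [Homeomorph.image_eq_preimage_symm]
  refine preimage_mem_irreducibleComponents hT h.symm.isOpenEmbedding ?_
  rw [h.symm.surjective.range_eq, Set.inter_univ]
  exact hT.1.1

theorem range_comp_iso_mem_irreducibleComponents {W F Q : Scheme.{u}} (m : W ⟶ F) (e : F ≅ Q)
    (h : Set.range m ∈ irreducibleComponents ↥F) :
    Set.range (m ≫ e.hom) ∈ irreducibleComponents ↥Q := by
  have h1 : Set.range (m ≫ e.hom) = (Scheme.homeoOfIso e) '' Set.range m := by
    ext q
    constructor
    · rintro ⟨w, rfl⟩
      exact ⟨m w, ⟨w, rfl⟩, (Scheme.Hom.comp_apply _ _ _).symm⟩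
    · rintro ⟨_, ⟨w, rfl⟩, rfl⟩
      exact ⟨w, Scheme.Hom.comp_apply _ _ _⟩
  rw [h1]
  exact image_mem_irreducibleComponents_of_homeomorph _ h

/-- The residue field at the image of `Spec (Frac A) ⟶ Spec A` is `Frac A`. -/
theorem isIso_descResidueField {A L : Type u} [CommRing A] [IsDomain A] [Field L] [Algebra A L]
    [IsFractionRing A L] :
    IsIso ((Spec (.of A)).descResidueField (Scheme.stalkClosedPointTo
      (Spec.map (CommRingCat.ofHom (algebraMap A L))))) := by
  set ιL : Spec (.of L) ⟶ Spec (.of A) := Spec.map (CommRingCat.ofHom (algebraMap A L)) with hιL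
  set η' := ιL (IsLocalRing.closedPoint L) with hη'
  set φ := (Spec (.of A)).descResidueField (Scheme.stalkClosedPointTo ιL) with hφdef
  have hφ : Spec.map φ ≫ (Spec (.of A)).fromSpecResidueField η' = ιL :=
    Scheme.descResidueField_stalkClosedPointTo_fromSpecResidueField L _ ιL
  have hcomp : CommRingCat.ofHom (algebraMap A L) =
      ((Scheme.ΓSpecIso (.of A)).inv ≫ (Spec (.of A)).presheaf.germ ⊤ η' trivial) ≫
        (Spec (.of A)).residue η' ≫ φ := by
    apply Spec.map_injective
    rw [Spec.map_comp, Spec.map_comp, ← AlgebraicGeometry.Spec.fromSpecStalk_eq, Category.assoc]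
    exact hφ.symm
  have hval : ∀ a : A, φ.hom (((Spec (.of A)).residue η').hom
      (((Scheme.ΓSpecIso (.of A)).inv ≫ (Spec (.of A)).presheaf.germ ⊤ η' trivial).hom a)) =
      algebraMap A L a := by
    intro a
    have := congrArg (fun ψ => ψ.hom a) hcomp
    exact this.symm
  rw [ConcreteCategory.isIso_iff_bijective]
  refine ⟨φ.hom.injective, ?_⟩
  intro ℓ
  obtain ⟨x, y, hy, rfl⟩ := IsFractionRing.div_surjective (A := A) ℓ
  refine ⟨((Spec (.of A)).residue η').hom
      (((Scheme.ΓSpecIso (.of A)).inv ≫ (Spec (.of A)).presheaf.germ ⊤ η' trivial).hom x) /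
    ((Spec (.of A)).residue η').hom
      (((Scheme.ΓSpecIso (.of A)).inv ≫ (Spec (.of A)).presheaf.germ ⊤ η' trivial).hom y), ?_⟩
  show φ.hom _ = _
  rw [map_div₀, hval, hval]

theorem closedPoint_map_eq_genericPoint {A L : Type u} [CommRing A] [IsDomain A] [Field L]
    [Algebra A L] [IsFractionRing A L] (t : Spec (.of L)) :
    (Spec.map (CommRingCat.ofHom (algebraMap A L))) t = genericPoint (Spec (.of A)) := by
  rw [genericPoint_eq_bot_of_affine]
  apply PrimeSpectrum.ext
  show Ideal.comap (algebraMap A L) t.asIdeal = ⊥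
  rw [eq_bot_iff]
  intro x hx
  have hx' : algebraMap A L x ∈ t.asIdeal := hx
  by_contra hne
  have hne' : algebraMap A L x ≠ 0 := by
    intro h0
    apply hne
    rw [Ideal.mem_bot]
    exact (IsFractionRing.injective A L) (h0.trans (map_zero _).symm)
  exact t.2.ne_top (Ideal.eq_top_of_isUnit_mem _ hx' (IsUnit.mk0 _ hne'))

/-- transport of the hypothesis "all irreducible components are geometrically integral" from a
model of the generic fibre to the fibre over the generic point -/
theorem components_fiber_of_fractionRing {A L : Type u} [CommRing A] [IsDomain A] [Field L]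
    [Algebra A L] [IsFractionRing A L] {Y Q : Scheme.{u}} (p : Y ⟶ Spec (.of A)) (a : Q ⟶ Y)
    (b : Q ⟶ Spec (.of L))
    (hsq : IsPullback a b p (Spec.map (CommRingCat.ofHom (algebraMap A L))))
    (HQ : ∀ (W : Scheme.{u}) [IsIntegral W] (m : W ⟶ Q) [IsClosedImmersion m],
      Set.range m ∈ irreducibleComponents ↥Q → GeometricallyIntegral (m ≫ b)) :
    ∃ η' : Spec (.of A), η' = genericPoint (Spec (.of A)) ∧
      ∀ (W : Scheme.{u}) [IsIntegral W] (m : W ⟶ p.fiber η') [IsClosedImmersion m],
        Set.range m ∈ irreducibleComponents ↥(p.fiber η') →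
          GeometricallyIntegral (m ≫ p.fiberToSpecResidueField η') := by
  set ιL : Spec (.of L) ⟶ Spec (.of A) := Spec.map (CommRingCat.ofHom (algebraMap A L)) with hιL
  refine ⟨ιL (IsLocalRing.closedPoint L), closedPoint_map_eq_genericPoint _, ?_⟩
  set η' := ιL (IsLocalRing.closedPoint L) with hη'
  set φ := (Spec (.of A)).descResidueField (Scheme.stalkClosedPointTo ιL) with hφdef
  have hφ : Spec.map φ ≫ (Spec (.of A)).fromSpecResidueField η' = ιL :=
    Scheme.descResidueField_stalkClosedPointTo_fromSpecResidueField L _ ιL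
  haveI : IsIso φ := isIso_descResidueField
  let ε : Spec (.of L) ≅ Spec ((Spec (.of A)).residueField η') := asIso (Spec.map φ)
  have hsq' : IsPullback a (b ≫ ε.hom) p ((Spec (.of A)).fromSpecResidueField η') := by
    refine IsPullback.of_iso hsq (Iso.refl _) (Iso.refl _) ε (Iso.refl _) ?_ ?_ ?_ ?_
    · simp
    · simp
    · simp
    · simp only [Iso.refl_hom, Category.comp_id]
      exact hφ.symm
  let e : Q ≅ p.fiber η' := hsq'.isoPullback
  have he2 : e.hom ≫ p.fiberToSpecResidueField η' = b ≫ ε.hom := hsq'.isoPullback_hom_snd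
  intro W _ m _ hm
  have h1 : Set.range (m ≫ e.inv) ∈ irreducibleComponents ↥Q :=
    range_comp_iso_mem_irreducibleComponents m e.symm hm
  have h2 : GeometricallyIntegral ((m ≫ e.inv) ≫ b) := HQ W (m ≫ e.inv) h1
  have h3 : m ≫ p.fiberToSpecResidueField η' = ((m ≫ e.inv) ≫ b) ≫ ε.hom := by
    rw [Category.assoc, Category.assoc, ← he2, Iso.inv_hom_id_assoc]
  rw [h3]
  exact (MorphismProperty.cancel_right_of_respectsIso @GeometricallyIntegral _ ε.hom).2 h2

end Groth.Agent.Lib.Helper12.GITransport
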