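import Mathlib
import Groth.Agent.Lib.Helper12.GIComp3
import Groth.Agent.Lib.Helper12.GIModel
import Groth.Agent.Lib.Helper12.GITransport
import Groth.Agent.Lib.Helper12.GIKey2

/-!
# Finite flat covers making the irreducible components geometrically integral (helper12)
-/

set_option autoImplicit false
set_option linter.style.haveILetI false
universe u
open AlgebraicGeometry CategoryTheory Limits Topology

namespace Groth.Agent.Lib.Helper12.GIMain

open Groth.Agent.Lib.Helper11.BcLevels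

set_option maxHeartbeats 1600000 in
theorem main {X S : Scheme.{u}} [IsNoetherian S] [IsIntegral S]
    (f : X ⟶ S) [LocallyOfFiniteType f] [QuasiCompact f] :
    ∃ (V : S.Opens) (S' : Scheme.{u}) (h : S' ⟶ (V : Scheme.{u})), (V : Set S).Nonempty ∧
      IsIntegral S' ∧ IsFinite h ∧ Flat h ∧ Surjective h ∧
      ∀ (Z : Scheme.{u}) (i : Z ⟶ pullback f (h ≫ V.ι)) [IsClosedImmersion i] [IsReduced Z],
        Set.range i.base ∈ irreducibleComponents ↥(pullback f (h ≫ V.ι)) →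
          Flat (i ≫ pullback.snd f (h ≫ V.ι)) ∧
            GeometricallyIntegral (i ≫ pullback.snd f (h ≫ V.ι)) := by
  classical
  let fη := f.fiberToSpecResidueField (genericPoint S)
  haveI : LocallyOfFiniteType fη :=
    MorphismProperty.pullback_snd (P := @LocallyOfFiniteType) _ _ inferInstance
  haveI : QuasiCompact fη :=
    MorphismProperty.pullback_snd (P := @QuasiCompact) _ _ inferInstance
  obtain ⟨L, hLfin, HL⟩ := Groth.Agent.Lib.Helper12.GIComp3.exists_level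
    (k := S.residueField (genericPoint S)) fη
  haveI := hLfin
  obtain ⟨V₀, A', _, _, _, _, hFR, h₀, aL, hηV₀, hfin₀, hflat₀, hsurj₀, huniq, sqL⟩ :=
    Groth.Agent.Lib.Helper12.GIModel.exists_finite_free_model f ↥L
  haveI := hFR
  haveI := hfin₀
  haveI := hflat₀
  haveI := hsurj₀
  let φ₁ : Spec (.of A') ⟶ S := h₀ ≫ V₀.ι
  let p : pullback f φ₁ ⟶ Spec (.of A') := pullback.snd f φ₁
  obtain ⟨η', hη', H⟩ := Groth.Agent.Lib.Helper12.GITransport.components_fiber_of_fractionRing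
    p aL (FBase.bcStr (k := S.residueField (genericPoint S)) fη ↥L) sqL HL
  obtain ⟨U, hηU, hkey⟩ := Groth.Agent.Lib.Helper12.GIKey.key p η' hη' H
  -- shrink the base
  have hclosed : IsClosed (h₀ '' ((U : Set (Spec (.of A')))ᶜ)) :=
    h₀.isClosedMap _ U.isOpen.isClosed_compl
  let V' : (V₀ : Scheme.{u}).Opens := ⟨(h₀ '' ((U : Set (Spec (.of A')))ᶜ))ᶜ, hclosed.isOpen_compl⟩
  have hV'U : ∀ t : Spec (.of A'), h₀ t ∈ V' → t ∈ U := by
    intro t ht
    by_contra htU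
    exact ht ⟨t, htU, rfl⟩
  let η₀ : (V₀ : Scheme.{u}) := ⟨genericPoint S, hηV₀⟩
  have hη₀ : ∀ t : Spec (.of A'), h₀ t = η₀ → t = η' := by
    intro t ht
    rw [hη']
    apply huniq
    refine (Scheme.Hom.comp_apply _ _ _).trans ?_
    rw [ht]
    rfl
  have hη₀V' : η₀ ∈ V' := by
    rintro ⟨t, htU, ht⟩
    rw [hη₀ t ht] at htU
    exact htU hηU
  obtain ⟨t₀, ht₀⟩ := hsurj₀.surj η₀
  have ht₀' : t₀ = η' := hη₀ t₀ ht₀
  let V : S.Opens := V₀.ι ''ᵁ V'
  let j : (h₀ ⁻¹ᵁ V').toScheme ⟶ Spec (.of A') := (h₀ ⁻¹ᵁ V').ι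
  obtain ⟨h, hh⟩ : ∃ h' : (h₀ ⁻¹ᵁ V').toScheme ⟶ (V : Scheme.{u}),
      h' = (h₀ ∣_ V') ≫ (V₀.ι.isoImage V').hom := ⟨_, rfl⟩
  have hjφ : h ≫ V.ι = j ≫ φ₁ := by
    rw [hh]
    show ((h₀ ∣_ V') ≫ (V₀.ι.isoImage V').hom) ≫ (V₀.ι ''ᵁ V').ι = (h₀ ⁻¹ᵁ V').ι ≫ h₀ ≫ V₀.ι
    rw [Category.assoc, Scheme.Hom.isoImage_hom_ι, ← Category.assoc, morphismRestrict_ι,
      Category.assoc]
  have hVne : (V : Set S).Nonempty := by
    refine ⟨genericPoint S, ?_⟩
    exact ⟨η₀, hη₀V', rfl⟩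
  haveI : Nonempty ↥((h₀ ⁻¹ᵁ V').toScheme) := by
    refine ⟨⟨t₀, ?_⟩⟩
    show h₀ t₀ ∈ V'
    rw [ht₀]
    exact hη₀V'
  haveI hint : IsIntegral ((h₀ ⁻¹ᵁ V').toScheme) := isIntegral_of_isOpenImmersion j
  have hres : IsPullback (h₀ ∣_ V') (h₀ ⁻¹ᵁ V').ι V'.ι h₀ := isPullback_morphismRestrict h₀ V'
  haveI hfinr : IsFinite (h₀ ∣_ V') :=
    MorphismProperty.of_isPullback (P := @IsFinite) hres.flip inferInstance
  haveI hflatr : Flat (h₀ ∣_ V') :=
    MorphismProperty.of_isPullback (P := @Flat) hres.flip inferInstance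
  haveI hsurjr : Surjective (h₀ ∣_ V') :=
    MorphismProperty.of_isPullback (P := @Surjective) hres.flip inferInstance
  have hfinh : IsFinite h := by
    rw [hh]
    infer_instance
  have hflath : Flat h := by
    rw [hh]
    infer_instance
  have hsurjh : Surjective h := by
    rw [hh]
    infer_instance
  refine ⟨V, (h₀ ⁻¹ᵁ V').toScheme, h, hVne, hint, hfinh, hflath, hsurjh, ?_⟩
  intro Z i _ _ hi
  have w : pullback.fst f (h ≫ V.ι) ≫ f = (pullback.snd f (h ≫ V.ι) ≫ j) ≫ φ₁ := by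
    have h1 : (pullback.snd f (h ≫ V.ι) ≫ j) ≫ φ₁ =
        pullback.snd f (h ≫ V.ι) ≫ (h ≫ V.ι) := by
      rw [Category.assoc]
      exact congrArg (fun q => pullback.snd f (h ≫ V.ι) ≫ q) hjφ.symm
    rw [h1]
    exact pullback.condition
  have sq : IsPullback (pullback.lift (pullback.fst f (h ≫ V.ι))
      (pullback.snd f (h ≫ V.ι) ≫ j) w) (pullback.snd f (h ≫ V.ι)) p j := by
    refine IsPullback.of_right ?_ (pullback.lift_snd _ _ _) (IsPullback.of_hasPullback f φ₁)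
    rw [pullback.lift_fst]
    have h2 := IsPullback.of_hasPullback f (h ≫ V.ι)
    exact hjφ ▸ h2
  have hjU : Set.range j ⊆ (U : Set (Spec (.of A'))) := by
    rintro _ ⟨t, rfl⟩
    exact hV'U _ t.2
  exact hkey _ _ j _ _ sq hjU Z i hi

end Groth.Agent.Lib.Helper12.GIMain
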