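import Mathlib
import Groth.Prelude
import Groth.Agent.S1335
import Groth.Agent.S1339
import Groth.Agent.Lib.Helper16.ValCrit5
import Groth.Agent.Lib.Helper11.CountComp
import Groth.Agent.Lib.Helper12.LimConstr

/-!
# Connectedness of geometric fibres and the number of geometric connected components; descent of
connected geometric fibres in cofiltered limits (helper12)
-/

set_option autoImplicit false
set_option linter.style.haveILetI false
universe u
open CategoryTheory CategoryTheory.Limits AlgebraicGeometry TopologicalSpace Topology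

namespace Groth.Agent.Lib.Helper12.GeomConnLim

theorem preconnectedSpace_iff_card_le_one (T : Type*) [TopologicalSpace T] :
    PreconnectedSpace T ↔ ENat.card (_root_.ConnectedComponents T) ≤ 1 := by
  rw [ENat.card_le_one_iff_subsingleton]
  constructor
  · intro h
    infer_instance
  · intro h
    rw [preconnectedSpace_iff_connectedComponent]
    intro x
    rw [Set.eq_univ_iff_forall]
    intro y
    have h1 : (x : _root_.ConnectedComponents T) = y := Subsingleton.elim _ _
    rw [ConnectedComponents.coe_eq_coe] at h1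
    rw [h1]
    exact mem_connectedComponent

/-- For a geometric point `t : Spec Ω ⟶ Y` with `Ω` algebraically closed, the geometric fibre
`X ×_Y Spec Ω` is (pre)connected iff the number of geometric connected components of the fibre
over the image point is at most one. -/
theorem preconnectedSpace_pullback_iff {X Y : Scheme.{u}} (f : X ⟶ Y) (Ω : Type u) [Field Ω]
    [IsAlgClosed Ω] (t : Spec (CommRingCat.of Ω) ⟶ Y) (pt : ↥(Spec (CommRingCat.of Ω))) :
    PreconnectedSpace ↥(pullback f t) ↔ MoreMor.nGeomConnComp f (t.base pt) ≤ 1 := by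
  have hc : IsPullback (pullback.fst f t) (pullback.snd f t) f t := IsPullback.of_hasPullback f t
  rw [← Groth.Agent.S1335.result f (pullback.snd f t) (pullback.fst f t) t hc pt,
    preconnectedSpace_iff_card_le_one]
  unfold MoreMor.nGeomConnComp
  suffices h : Nonempty (↥(MoreMor.geomFiber (pullback.snd f t) pt) ≃ₜ ↥(pullback f t)) by
    obtain ⟨e⟩ := h
    rw [Groth.Agent.Lib.Helper11.CountComp.card_connectedComponents_of_homeomorph e]
  -- the residue field at the point is separably closed
  haveI hiso : IsIso ((Spec (CommRingCat.of Ω)).fromSpecResidueField pt) :=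
    Groth.Agent.Lib.Helper16.ValCrit.isIso_fromSpecResidueField_field pt
  obtain ⟨ρ, hρ⟩ : ∃ ρ : CommRingCat.of Ω ⟶ (Spec (CommRingCat.of Ω)).residueField pt,
    ρ = Spec.preimage ((Spec (CommRingCat.of Ω)).fromSpecResidueField pt) := ⟨_, rfl⟩
  have hρmap : Spec.map ρ = (Spec (CommRingCat.of Ω)).fromSpecResidueField pt := by
    rw [hρ, Spec.map_preimage]
  haveI : IsIso (Spec.map ρ) := by rw [hρmap]; infer_instance
  haveI : IsIso ρ := by
    have h1 : IsIso (Scheme.Spec.map ρ.op) := ‹IsIso (Spec.map ρ)›
    have h2 : IsIso ρ.op := Spec.fullyFaithful.isIso_of_isIso_map ρ.op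
    exact isIso_of_op ρ
  have hbij : Function.Bijective ρ.hom := ConcreteCategory.bijective_of_isIso ρ
  let e : Ω ≃+* (Spec (CommRingCat.of Ω)).residueField pt := RingEquiv.ofBijective ρ.hom hbij
  haveI : IsAlgClosed ((Spec (CommRingCat.of Ω)).residueField pt) := IsAlgClosed.of_ringEquiv _ _ e
  haveI : IsSepClosed ((Spec (CommRingCat.of Ω)).residueField pt) := inferInstance
  have hbij2 : Function.Bijective (algebraMap ((Spec (CommRingCat.of Ω)).residueField pt)
      (SeparableClosure ((Spec (CommRingCat.of Ω)).residueField pt))) :=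
    ⟨FaithfulSMul.algebraMap_injective _ _, IsSepClosed.algebraMap_surjective _ _⟩
  haveI : IsIso (CommRingCat.ofHom (algebraMap ((Spec (CommRingCat.of Ω)).residueField pt)
      (SeparableClosure ((Spec (CommRingCat.of Ω)).residueField pt)))) := by
    rw [ConcreteCategory.isIso_iff_bijective]
    exact hbij2
  haveI : IsIso (Spec.map (CommRingCat.ofHom (algebraMap
      ((Spec (CommRingCat.of Ω)).residueField pt)
      (SeparableClosure ((Spec (CommRingCat.of Ω)).residueField pt))))) := inferInstance
  haveI h1 : IsIso (pullback.fst ((pullback.snd f t).fiberToSpecResidueField pt)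
      (Spec.map (CommRingCat.ofHom (algebraMap ((Spec (CommRingCat.of Ω)).residueField pt)
        (SeparableClosure ((Spec (CommRingCat.of Ω)).residueField pt)))))) :=
    @pullback_fst_iso_of_right_iso Scheme _ _ _ _ _ _ this
  haveI h2 : IsIso ((pullback.snd f t).fiberι pt) := by
    change IsIso (pullback.fst (pullback.snd f t) ((Spec (CommRingCat.of Ω)).fromSpecResidueField pt))
    infer_instance
  exact ⟨(asIso (pullback.fst ((pullback.snd f t).fiberToSpecResidueField pt)
      (Spec.map (CommRingCat.ofHom (algebraMap ((Spec (CommRingCat.of Ω)).residueField pt)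
        (SeparableClosure ((Spec (CommRingCat.of Ω)).residueField pt))))) ≫
          (pullback.snd f t).fiberι pt)).hom.homeomorph⟩

theorem preconnectedSpace_of_homeomorph {A B : Type*} [TopologicalSpace A] [TopologicalSpace B]
    (e : A ≃ₜ B) (h : PreconnectedSpace A) : PreconnectedSpace B := by
  rw [preconnectedSpace_iff_card_le_one] at h ⊢
  rwa [← Groth.Agent.Lib.Helper11.CountComp.card_connectedComponents_of_homeomorph e]

/-- **Connected geometric fibres descend in a cofiltered limit of Noetherian schemes.** -/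
theorem exists_stage_preconnected {I : Type u} [SmallCategory I] [IsCofiltered I]
    (D : I ⥤ Scheme.{u}) (c : Cone D) (hc : IsLimit c)
    [∀ (i j : I) (a : i ⟶ j), IsAffineHom (D.map a)] [∀ i : I, IsNoetherian (D.obj i)]
    (i₀ : I) {X₀ : Scheme.{u}} (f₀ : X₀ ⟶ D.obj i₀) [QuasiCompact f₀] [LocallyOfFiniteType f₀]
    {X : Scheme.{u}} (f : X ⟶ c.pt) (q : X ⟶ X₀) (hX : IsPullback q f f₀ (c.π.app i₀))
    (hconn : ∀ (Ω : Type u) [Field Ω] [IsAlgClosed Ω] (t : Spec (CommRingCat.of Ω) ⟶ c.pt),
      PreconnectedSpace ↥(pullback f t)) :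
    ∃ (i : I) (a : i ⟶ i₀), ∀ (Ω : Type u) [Field Ω] [IsAlgClosed Ω]
      (t : Spec (CommRingCat.of Ω) ⟶ D.obj i), PreconnectedSpace ↥(pullback f₀ (t ≫ D.map a)) := by
  haveI : ∀ {i j : I} (a : i ⟶ j), IsAffineHom (D.map a) := fun a => inferInstance
  haveI : LocallyOfFinitePresentation f₀ := inferInstance
  haveI : IsLocallyNoetherian X₀ := LocallyOfFiniteType.isLocallyNoetherian f₀
  haveI : QuasiSeparatedSpace X₀ := inferInstance
  haveI : QuasiSeparated f₀ := inferInstance
  set C : Set (D.obj i₀) := {s | ¬ MoreMor.nGeomConnComp f₀ s ≤ 1} with hC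
  have hCc : IsConstructible C := by
    have h0 := Groth.Agent.S1339.result f₀ 0
    have h1 := Groth.Agent.S1339.result f₀ 1
    have hCeq : C = ({s | MoreMor.nGeomConnComp f₀ s = 0} ∪
        {s | MoreMor.nGeomConnComp f₀ s = 1})ᶜ := by
      ext s
      simp only [hC, Set.mem_setOf_eq, Set.mem_compl_iff, Set.mem_union]
      rw [not_iff_not]
      constructor
      · intro h
        rcases (ENat.le_one_iff_eq_zero_or_eq_one).mp h with h | h
        · exact Or.inl h
        · exact Or.inr h
      · rintro (h | h)
        · rw [h]; exact zero_le_one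
        · rw [h]
    rw [hCeq]
    exact ((h0.union h1).isConstructible).compl
  have hempty : (c.π.app i₀).base ⁻¹' C = ∅ := by
    ext s'
    simp only [Set.mem_preimage, Set.mem_empty_iff_false, iff_false]
    intro hs'
    let Ω := AlgebraicClosure (c.pt.residueField s')
    let t : Spec (CommRingCat.of Ω) ⟶ c.pt :=
      Spec.map (CommRingCat.ofHom (algebraMap (c.pt.residueField s') Ω)) ≫
        c.pt.fromSpecResidueField s'
    have h1 := hconn Ω t
    have hpaste : IsPullback (pullback.fst f t ≫ q) (pullback.snd f t) f₀ (t ≫ c.π.app i₀) :=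
      (IsPullback.of_hasPullback f t).paste_horiz hX
    have h2 : PreconnectedSpace ↥(pullback f₀ (t ≫ c.π.app i₀)) :=
      preconnectedSpace_of_homeomorph hpaste.isoPullback.hom.homeomorph h1
    let pt : ↥(Spec (CommRingCat.of Ω)) := IsLocalRing.closedPoint Ω
    rw [preconnectedSpace_pullback_iff f₀ Ω (t ≫ c.π.app i₀) pt] at h2
    have hpt : (t ≫ c.π.app i₀).base pt = (c.π.app i₀).base s' := by
      rw [Scheme.Hom.comp_base, TopCat.comp_app]
      congr 1
      show (c.pt.fromSpecResidueField s').base _ = s'
      exact Scheme.fromSpecResidueField_apply _ _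
    rw [hpt] at h2
    exact hs' h2
  obtain ⟨j, φ, hj⟩ := LimConstr.exists_preimage_eq_empty D c hc i₀ C hCc hempty
  refine ⟨j, φ, fun Ω _ _ t => ?_⟩
  let pt : ↥(Spec (CommRingCat.of Ω)) := IsLocalRing.closedPoint Ω
  rw [preconnectedSpace_pullback_iff f₀ Ω (t ≫ D.map φ) pt]
  by_contra hcon
  have hmem : t.base pt ∈ (D.map φ).base ⁻¹' C := by
    show ¬ MoreMor.nGeomConnComp f₀ ((D.map φ).base (t.base pt)) ≤ 1
    exact hcon
  rw [hj] at hmem
  exact hmem

end Groth.Agent.Lib.Helper12.GeomConnLim
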