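import Mathlib
import Groth.Prelude.Def_MoreMor
import Groth.Agent.Lib.Helper12.GeomCompConn
import Groth.Agent.Lib.Helper12.FibreInvCons

/-!
# The locus of geometrically connected fibres (helper12)
-/

set_option autoImplicit false
set_option linter.style.haveILetI false
universe u
open AlgebraicGeometry CategoryTheory Limits Topology

namespace Groth.Agent.Lib.Helper12.GeomConnLocus

/-- the locus of points with geometrically connected fibre -/
def GC {X Y : Scheme.{u}} (f : X ⟶ Y) : Set Y :=
  {y | GeometricallyConnected (f.fiberToSpecResidueField y)}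

theorem mem_GC_iff {X Y : Scheme.{u}} (f : X ⟶ Y) (y : Y) :
    y ∈ GC f ↔ MoreMor.nGeomConnComp f y = 1 := by
  unfold MoreMor.nGeomConnComp
  rw [ENat.card_eq_one_iff_unique]
  constructor
  · intro h
    haveI : GeometricallyConnected (f.fiberToSpecResidueField y) := h
    haveI : ConnectedSpace ↥(MoreMor.geomFiber f y) :=
      GeometricallyConnected.geometrically_connectedSpace _ _ _ (IsPullback.of_hasPullback _ _)
    obtain ⟨z⟩ : Nonempty ↥(MoreMor.geomFiber f y) := inferInstance
    exact ⟨⟨⟨(z : _root_.ConnectedComponents ↥(MoreMor.geomFiber f y))⟩,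
      fun a => Subsingleton.elim _ _⟩⟩
  · rintro ⟨hu⟩
    haveI : Nonempty ↥(MoreMor.geomFiber f y) :=
      ConnectedComponents.nonempty_iff_nonempty.mp ⟨hu.default⟩
    haveI : PreconnectedSpace ↥(MoreMor.geomFiber f y) := by
      rw [preconnectedSpace_iff_connectedComponent]
      intro x
      rw [Set.eq_univ_iff_forall]
      intro z
      have h1 : (z : _root_.ConnectedComponents ↥(MoreMor.geomFiber f y)) = x :=
        (hu.uniq _).trans (hu.uniq _).symm
      exact ConnectedComponents.coe_eq_coe'.mp h1
    haveI : ConnectedSpace ↥(FBase.bc (k := Y.residueField y) (f.fiberToSpecResidueField y)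
        (SeparableClosure (Y.residueField y))) :=
      (ConnectedSpace.mk ‹_› : ConnectedSpace ↥(MoreMor.geomFiber f y))
    exact Groth.Agent.Lib.Helper11.GeomSep.geometricallyConnected_of_sepClosure
      (k := Y.residueField y) (f.fiberToSpecResidueField y)

theorem GC_eq {X Y : Scheme.{u}} (f : X ⟶ Y) : GC f = {y | MoreMor.nGeomConnComp f y = 1} := by
  ext y
  exact mem_GC_iff f y

theorem GC_pullback {X Y X' Y' : Scheme.{u}} {f : X ⟶ Y} {g : Y' ⟶ Y} {f' : X' ⟶ Y'}
    {g' : X' ⟶ X} (hc : IsPullback g' f' f g) : GC f' = g ⁻¹' GC f := by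
  ext y'
  rw [Set.mem_preimage, mem_GC_iff, mem_GC_iff, Groth.Agent.S1335.result f f' g' g hc y']

theorem GC_eq_univ_iff {X Y : Scheme.{u}} (f : X ⟶ Y) :
    GC f = Set.univ ↔ GeometricallyConnected f := by
  rw [geometricallyConnected_iff, geometrically_iff_forall_fiberToSpecResidueField,
    Set.eq_univ_iff_forall]
  exact forall_congr' fun y => geometricallyConnected_iff _

theorem isConstructible_GC_noetherian {X S : Scheme.{u}} [IsNoetherian S] (f : X ⟶ S)
    [LocallyOfFiniteType f] [QuasiCompact f] : IsConstructible (GC f) := by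
  rw [GC_eq]
  exact Groth.Agent.Lib.Helper12.FibreInvCons.isConstructible_level_noeth
    (fun {X S} f s => MoreMor.nGeomConnComp f s)
    (fun {X Y X' Y' f g f' g'} hc y' => Groth.Agent.S1335.result f f' g' g hc y')
    (fun {X S} f _ _ _ _ =>
      Groth.Agent.Lib.Helper12.GeomCompConn.nGeomConnComp_const_near_generic f) 1 f

/-- geometric connectedness of the generic fibre spreads out -/
theorem geomConn_near_generic {X Y : Scheme.{u}} (f : X ⟶ Y) [IrreducibleSpace Y]
    [LocallyOfFiniteType f] [QuasiCompact f] (h : genericPoint Y ∈ GC f) :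
    ∃ V : Y.Opens, (V : Set Y).Nonempty ∧ ∀ y ∈ V, y ∈ GC f := by
  obtain ⟨V, hVsub, hηV, hVopen, hV⟩ :=
    Groth.Agent.Lib.Helper12.FibreInvCons.const_near_point_of_closure
      (fun {X S} f s => MoreMor.nGeomConnComp f s)
      (fun {X Y X' Y' f g f' g'} hc y' => Groth.Agent.S1335.result f f' g' g hc y')
      (fun {X S} f _ _ _ _ =>
        Groth.Agent.Lib.Helper12.GeomCompConn.nGeomConnComp_const_near_generic f)
      f (genericPoint Y)
  have hcl : closure ({genericPoint Y} : Set Y) = Set.univ := (genericPoint_spec Y).def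
  have hopen : IsOpen V := by
    have h1 : V = Subtype.val '' (Subtype.val ⁻¹' V : Set ↥(closure ({genericPoint Y} : Set Y))) := by
      rw [Subtype.image_preimage_coe, Set.inter_eq_right.mpr hVsub]
    rw [h1]
    exact (hcl ▸ isOpen_univ : IsOpen (closure ({genericPoint Y} : Set Y))).isOpenMap_subtype_val _
      hVopen
  refine ⟨⟨V, hopen⟩, ⟨_, hηV⟩, fun y hy => ?_⟩
  rw [mem_GC_iff, hV y hy]
  exact (mem_GC_iff f _).mp h

end Groth.Agent.Lib.Helper12.GeomConnLocus
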