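import Mathlib
import Groth.Prelude.Def_MoreMor
import Groth.Agent.Lib.Helper11.CountComp

/-!
# The number of geometric irreducible components of a fibre computed on any separably closed
point (helper12)
-/

set_option autoImplicit false
set_option linter.style.haveILetI false
universe u
open AlgebraicGeometry CategoryTheory Limits

namespace Groth.Agent.Lib.Helper12.GeomCountPt

open Groth.Agent.Lib.Helper11.CountComp

set_option backward.isDefEq.respectTransparency false in
theorem encard_irr_pullback_eq {X Y : Scheme.{u}} (f : X ⟶ Y) {Ω : Type u} [Field Ω]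
    [IsSepClosed Ω] (w : Spec (.of Ω) ⟶ Y) (y : Y) (hw : w (IsLocalRing.closedPoint Ω) = y) :
    (irreducibleComponents ↥(pullback f w)).encard = MoreMor.nGeomIrredComp f y := by
  obtain ⟨⟨y', φ⟩, rfl⟩ := (Scheme.SpecToEquivOfField _ _).symm.surjective w
  have hy : y' = y := by
    rw [← hw]
    simp [Scheme.SpecToEquivOfField]
  subst hy
  letI : Algebra (Y.residueField y') Ω := φ.hom.toAlgebra
  have hw' : (Scheme.SpecToEquivOfField Ω Y).symm ⟨y', φ⟩ =
      Spec.map (CommRingCat.ofHom (algebraMap (Y.residueField y') Ω)) ≫
        Y.fromSpecResidueField y' := by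
    simp [Scheme.SpecToEquivOfField]
    rfl
  let e : pullback f ((Scheme.SpecToEquivOfField Ω Y).symm ⟨y', φ⟩) ≅
      FBase.bc (k := Y.residueField y') (f.fiberToSpecResidueField y') Ω :=
    pullback.congrHom rfl hw' ≪≫
      (pullbackLeftPullbackSndIso f (Y.fromSpecResidueField y')
        (Spec.map (CommRingCat.ofHom (algebraMap (Y.residueField y') Ω)))).symm
  rw [encard_irreducibleComponents_of_homeomorph e.hom.homeomorph]
  exact encard_irr_eq (κ := Y.residueField y') (f.fiberToSpecResidueField y') Ω (SeparableClosure (Y.residueField y'))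

end Groth.Agent.Lib.Helper12.GeomCountPt
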