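import Mathlib
import Groth.Agent.Lib.Helper11.FibreCount

set_option autoImplicit false
set_option linter.style.haveILetI false
universe u
open TensorProduct CategoryTheory Limits AlgebraicGeometry

/-!
# Number of geometric points over a closed point of a scheme over a perfect field (helper12)
-/

namespace Groth.Agent.Lib.Helper12.GeomFibCount

open Groth.Agent.Lib.Helper11.FibreCount

variable {k : Type u} [Field k] [PerfectField k]

theorem finite_residueField {X : Scheme.{u}} (sX : X ⟶ Spec (CommRingCat.of k))
    [LocallyOfFiniteType sX] (x : X) (hx : IsClosed ({x} : Set X)) (φ : k →+* X.residueField x)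
    (hφ : Spec.map (CommRingCat.ofHom φ) = X.fromSpecResidueField x ≫ sX) : φ.Finite := by
  haveI : IsClosedImmersion (X.fromSpecResidueField x) :=
    isClosed_singleton_iff_isClosedImmersion.mp hx
  have h1 : LocallyOfFiniteType (Spec.map (CommRingCat.ofHom φ)) := by
    rw [hφ]
    infer_instance
  have h2 : φ.FiniteType := by
    have := (HasRingHomProperty.Spec_iff (P := @LocallyOfFiniteType)).mp h1
    exact this
  exact RingHom.finite_iff_finiteType_of_isJacobsonRing.mpr h2

theorem encard_fibre_eq_finrank {X : Scheme.{u}} (sX : X ⟶ Spec (CommRingCat.of k))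
    [LocallyOfFiniteType sX] (x : X) (hx : IsClosed ({x} : Set X)) (φ : k →+* X.residueField x)
    (hφ : Spec.map (CommRingCat.ofHom φ) = X.fromSpecResidueField x ≫ sX) :
    ((pullback.fst sX (Spec.map (CommRingCat.ofHom (algebraMap k (AlgebraicClosure k))))) ⁻¹'
      {x}).encard = ((@Module.finrank k (X.residueField x) _ _ φ.toAlgebra.toModule : ℕ) : ℕ∞) := by
  letI : Algebra k (X.residueField x) := φ.toAlgebra
  haveI : Module.Finite k (X.residueField x) := finite_residueField sX x hx φ hφ
  haveI : Algebra.IsSeparable k (X.residueField x) := inferInstance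
  have h1 := encard_fibre_eq sX x φ hφ (AlgebraicClosure k)
  have h2 : ((pullback.fst sX (Spec.map (CommRingCat.ofHom (algebraMap k (AlgebraicClosure k))))) ⁻¹'
      {x}).encard = ENat.card (PrimeSpectrum ((X.residueField x) ⊗[k] (AlgebraicClosure k))) := h1
  rw [h2]
  let τ₀ : X.residueField x →ₐ[k] AlgebraicClosure k :=
    IsAlgClosed.lift (R := k) (S := X.residueField x) (M := AlgebraicClosure k)
  have h3 := card_primeSpectrum_tensor_of_normal (k := k) (X.residueField x) (AlgebraicClosure k) τ₀
  rw [← h3]
  exact ENat.card_congr (PrimeSpectrum.comapEquiv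
    (Algebra.TensorProduct.comm k (X.residueField x) (AlgebraicClosure k)).toRingEquiv).toEquiv

theorem main {X Y : Scheme.{u}}
    (sX : X ⟶ Spec (CommRingCat.of k)) (sY : Y ⟶ Spec (CommRingCat.of k))
    [LocallyOfFiniteType sX] [LocallyOfFiniteType sY]
    (φ : X ⟶ Y) (hφ : φ ≫ sY = sX) [IsFinite φ]
    (φbar : pullback sX (Spec.map (CommRingCat.ofHom (algebraMap k (AlgebraicClosure k)))) ⟶
      pullback sY (Spec.map (CommRingCat.ofHom (algebraMap k (AlgebraicClosure k)))))
    (h1 : φbar ≫ pullback.fst sY (Spec.map (CommRingCat.ofHom (algebraMap k (AlgebraicClosure k)))) =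
      pullback.fst sX (Spec.map (CommRingCat.ofHom (algebraMap k (AlgebraicClosure k)))) ≫ φ)
    (x : X) (hx : IsClosed ({x} : Set X)) :
    ((pullback.fst sY (Spec.map (CommRingCat.ofHom (algebraMap k (AlgebraicClosure k))))) ⁻¹'
        {φ x}).encard ≤
      ((pullback.fst sX (Spec.map (CommRingCat.ofHom (algebraMap k (AlgebraicClosure k))))) ⁻¹'
        {x}).encard ∧
    (((pullback.fst sY (Spec.map (CommRingCat.ofHom (algebraMap k (AlgebraicClosure k))))) ⁻¹'
        {φ x}).encard =
      ((pullback.fst sX (Spec.map (CommRingCat.ofHom (algebraMap k (AlgebraicClosure k))))) ⁻¹'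
        {x}).encard ↔ Function.Bijective (φ.residueFieldMap x).hom) ∧
    (Set.InjOn φbar
        ((pullback.fst sX (Spec.map (CommRingCat.ofHom (algebraMap k (AlgebraicClosure k))))) ⁻¹'
          {x}) →
      ((pullback.fst sY (Spec.map (CommRingCat.ofHom (algebraMap k (AlgebraicClosure k))))) ⁻¹'
        {φ x}).encard =
      ((pullback.fst sX (Spec.map (CommRingCat.ofHom (algebraMap k (AlgebraicClosure k))))) ⁻¹'
        {x}).encard) := by
  have hy : IsClosed ({φ x} : Set Y) := by
    have h := φ.isClosedMap _ hx
    rwa [Set.image_singleton] at h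
  obtain ⟨ψx, hψx⟩ := Spec.map_surjective (X.fromSpecResidueField x ≫ sX)
  obtain ⟨ψy, hψy⟩ := Spec.map_surjective (Y.fromSpecResidueField (φ x) ≫ sY)
  have hcomp : ψx = ψy ≫ φ.residueFieldMap x := by
    apply Spec.map_injective
    rw [Spec.map_comp, hψx, hψy, ← Category.assoc,
      Scheme.Hom.SpecMap_residueFieldMap_fromSpecResidueField, Category.assoc, hφ]
  have hψx' : Spec.map (CommRingCat.ofHom ψx.hom) = X.fromSpecResidueField x ≫ sX := hψx
  have hψy' : Spec.map (CommRingCat.ofHom ψy.hom) = Y.fromSpecResidueField (φ x) ≫ sY := hψy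
  have hNx := encard_fibre_eq_finrank sX x hx ψx.hom hψx'
  have hNy := encard_fibre_eq_finrank sY (φ x) hy ψy.hom hψy'
  letI : Algebra k (X.residueField x) := ψx.hom.toAlgebra
  letI : Algebra k (Y.residueField (φ x)) := ψy.hom.toAlgebra
  haveI : Module.Finite k (X.residueField x) := finite_residueField sX x hx ψx.hom hψx'
  haveI : Module.Finite k (Y.residueField (φ x)) := finite_residueField sY (φ x) hy ψy.hom hψy'
  let ℓ : Y.residueField (φ x) →ₐ[k] X.residueField x :=
    { (φ.residueFieldMap x).hom with
      commutes' := fun c => by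
        show (φ.residueFieldMap x).hom (ψy.hom c) = ψx.hom c
        rw [hcomp]
        rfl }
  have hinj : Function.Injective ℓ := ℓ.toRingHom.injective
  have hle : Module.finrank k (Y.residueField (φ x)) ≤ Module.finrank k (X.residueField x) :=
    LinearMap.finrank_le_finrank_of_injective (f := ℓ.toLinearMap) hinj
  have e1 : ((pullback.fst sY (Spec.map (CommRingCat.ofHom (algebraMap k (AlgebraicClosure k))))) ⁻¹'
        {φ x}).encard ≤
      ((pullback.fst sX (Spec.map (CommRingCat.ofHom (algebraMap k (AlgebraicClosure k))))) ⁻¹'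
        {x}).encard := by
    rw [hNx, hNy]
    exact_mod_cast hle
  refine ⟨e1, ?_, ?_⟩
  · rw [hNx, hNy, Nat.cast_inj]
    constructor
    · intro heq
      have hs : Function.Surjective ℓ.toLinearMap :=
        (LinearMap.injective_iff_surjective_of_finrank_eq_finrank heq).mp hinj
      exact ⟨hinj, hs⟩
    · intro hb
      exact (LinearEquiv.ofBijective ℓ.toLinearMap hb).finrank_eq
  · intro hinjOn
    refine le_antisymm e1 (Set.encard_le_encard_of_injOn ?_ hinjOn)
    intro z hz
    have hz' : (pullback.fst sX (Spec.map (CommRingCat.ofHom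
      (algebraMap k (AlgebraicClosure k))))) z = x := hz
    have hc := congrArg (fun ψ : pullback sX (Spec.map (CommRingCat.ofHom
      (algebraMap k (AlgebraicClosure k)))) ⟶ Y => ψ z) h1
    have hc' : (pullback.fst sY (Spec.map (CommRingCat.ofHom
        (algebraMap k (AlgebraicClosure k))))) (φbar z) =
        φ ((pullback.fst sX (Spec.map (CommRingCat.ofHom
          (algebraMap k (AlgebraicClosure k))))) z) :=
      ((Scheme.Hom.comp_apply _ _ _).symm.trans hc).trans (Scheme.Hom.comp_apply _ _ _)
    show (pullback.fst sY (Spec.map (CommRingCat.ofHom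
        (algebraMap k (AlgebraicClosure k))))) (φbar z) = φ x
    rw [hc', hz']

end Groth.Agent.Lib.Helper12.GeomFibCount
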