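import Mathlib
import Groth.Agent.Lib.Helper12.GeomIrrGen
import Groth.Agent.Lib.Helper12.IrrDVRa

set_option autoImplicit false
set_option linter.style.haveILetI false
universe u
open TensorProduct Topology AlgebraicGeometry CategoryTheory Limits

/-!
# A proper flat scheme over a DVR with integral closed fibre is irreducible (helper12)
-/

namespace Groth.Agent.Lib.Helper12.IrrDVR

section dvr
variable {R : Type u} [CommRing R] [IsDomain R] [IsDiscreteValuationRing R]
  {W : Scheme.{u}} (g : W ⟶ Spec (CommRingCat.of R))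

set_option backward.isDefEq.respectTransparency false in
theorem isMaxPt_unique [Flat g] [LocallyOfFiniteType g]
    [IsIntegral (pullback g (Spec.map (CommRingCat.ofHom
      (algebraMap R (IsLocalRing.ResidueField R)))))]
    (x : W) (hx : g x = (IsLocalRing.closedPoint R : PrimeSpectrum R))
    (ξ ξ' : W) (hξ : IsMaxPt ξ) (hξ' : IsMaxPt ξ') (h : ξ ⤳ x) (h' : ξ' ⤳ x) : ξ = ξ' := by
  haveI : IsLocallyNoetherian W := LocallyOfFiniteType.isLocallyNoetherian g
  obtain ⟨_, ⟨U, hU0, rfl⟩, hxU, -⟩ := W.isBasis_affineOpens.exists_subset_of_mem_open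
    (Set.mem_univ x) isOpen_univ
  obtain ⟨U, rfl⟩ : ∃ U' : W.Opens, U' = U := ⟨U, rfl⟩
  have hU : IsAffineOpen U := hU0
  obtain ⟨φ, hφ⟩ := Spec.map_surjective (hU.fromSpec ≫ g)
  letI : Algebra R Γ(W, U) := φ.hom.toAlgebra
  have hjW : hU.fromSpec ≫ g = Spec.map (CommRingCat.ofHom (algebraMap R Γ(W, U))) := hφ.symm
  haveI : IsNoetherianRing Γ(W, U) := IsLocallyNoetherian.component_noetherian ⟨U, hU⟩
  haveI : Module.Flat R Γ(W, U) := by
    have h1 : Flat (hU.fromSpec ≫ g) := inferInstance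
    rw [hjW, HasRingHomProperty.Spec_iff (P := @Flat)] at h1
    exact h1
  -- points
  have hemb : Topology.IsOpenEmbedding hU.fromSpec := hU.fromSpec.isOpenEmbedding
  have hrange : Set.range hU.fromSpec = (U : Set W) := hU.range_fromSpec
  obtain ⟨q, hq⟩ : x ∈ Set.range hU.fromSpec := by rw [hrange]; exact hxU
  obtain ⟨p, hp⟩ : ξ ∈ Set.range hU.fromSpec := by rw [hrange]; exact h.mem_open U.2 hxU
  obtain ⟨p', hp'⟩ : ξ' ∈ Set.range hU.fromSpec := by rw [hrange]; exact h'.mem_open U.2 hxU
  have hpq : p ⤳ q := by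
    rw [← hemb.isInducing.specializes_iff, hp, hq]
    exact h
  have hp'q : p' ⤳ q := by
    rw [← hemb.isInducing.specializes_iff, hp', hq]
    exact h'
  -- uniformizer
  obtain ⟨ϖ, hϖ⟩ := IsDiscreteValuationRing.exists_irreducible R
  have hm : IsLocalRing.maximalIdeal R = Ideal.span {ϖ} := hϖ.maximalIdeal_eq
  have hq1 : algebraMap R Γ(W, U) ϖ ∈ q.asIdeal := by
    have h1 : Spec.map (CommRingCat.ofHom (algebraMap R Γ(W, U))) q =
        (IsLocalRing.closedPoint R : PrimeSpectrum R) := by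
      rw [← hjW]
      refine (Scheme.Hom.comp_apply _ _ _).trans ?_
      exact (congrArg g hq).trans hx
    have h2 : Ideal.comap (algebraMap R Γ(W, U)) q.asIdeal = IsLocalRing.maximalIdeal R :=
      congrArg PrimeSpectrum.asIdeal h1
    have h3 : ϖ ∈ Ideal.comap (algebraMap R Γ(W, U)) q.asIdeal := by
      rw [h2, hm]
      exact Ideal.mem_span_singleton_self ϖ
    exact h3
  have hmap : Ideal.map (algebraMap R Γ(W, U)) (IsLocalRing.maximalIdeal R) =
      Ideal.span {algebraMap R Γ(W, U) ϖ} := by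
    rw [hm, Ideal.map_span, Set.image_singleton]
  have hPprime : (Ideal.span {algebraMap R Γ(W, U) ϖ}).IsPrime := by
    have hne : Ideal.map (algebraMap R Γ(W, U)) (IsLocalRing.maximalIdeal R) ≠ ⊤ := by
      rw [hmap]
      intro htop
      have hle : Ideal.span {algebraMap R Γ(W, U) ϖ} ≤ q.asIdeal :=
        Ideal.span_le.mpr (Set.singleton_subset_iff.mpr hq1)
      rw [htop] at hle
      exact q.isPrime.ne_top (top_le_iff.mp hle)
    let e := Algebra.TensorProduct.quotIdealMapEquivTensorQuot Γ(W, U) (IsLocalRing.maximalIdeal R)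
    haveI : Nontrivial (Γ(W, U) ⧸ Ideal.map (algebraMap R Γ(W, U)) (IsLocalRing.maximalIdeal R)) :=
      Ideal.Quotient.nontrivial_iff.mpr hne
    have hnt : Nontrivial (Γ(W, U) ⊗[R] (R ⧸ IsLocalRing.maximalIdeal R)) :=
      e.injective.nontrivial
    haveI hnt' : Nontrivial (Γ(W, U) ⊗[R] IsLocalRing.ResidueField R) := hnt
    have hdom : IsDomain (Γ(W, U) ⊗[R] IsLocalRing.ResidueField R) :=
      Groth.Agent.Lib.Helper12.GeomIrrGen.isDomain_of_isIntegral g hU.fromSpec hjW
    haveI hdom' : IsDomain (Γ(W, U) ⊗[R] (R ⧸ IsLocalRing.maximalIdeal R)) := hdom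
    haveI : IsDomain (Γ(W, U) ⧸ Ideal.map (algebraMap R Γ(W, U)) (IsLocalRing.maximalIdeal R)) :=
      e.toRingEquiv.toMulEquiv.isDomain
    rw [← hmap]
    exact (Ideal.Quotient.isDomain_iff_prime _).mp inferInstance
  haveI := isDomain_atPrime ϖ hϖ.ne_zero hPprime q.asIdeal hq1
  have hker_prime : (RingHom.ker (algebraMap Γ(W, U) (Localization.AtPrime q.asIdeal))).IsPrime :=
    RingHom.ker_isPrime _
  let p₀ : PrimeSpectrum Γ(W, U) :=
    ⟨RingHom.ker (algebraMap Γ(W, U) (Localization.AtPrime q.asIdeal)), hker_prime⟩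
  have key : ∀ (r : PrimeSpectrum Γ(W, U)), r ⤳ q → IsMaxPt (hU.fromSpec r) → r = p₀ := by
    intro r hrq hmax
    have hrq' : r.asIdeal ≤ q.asIdeal := (PrimeSpectrum.le_iff_specializes r q).mpr hrq
    have hle : p₀.asIdeal ≤ r.asIdeal := by
      intro b hb
      have hb' : algebraMap Γ(W, U) (Localization.AtPrime q.asIdeal) b = 0 := hb
      obtain ⟨⟨s, hs⟩, hsb⟩ :=
        (IsLocalization.map_eq_zero_iff q.asIdeal.primeCompl (Localization.AtPrime q.asIdeal) b).mp
          hb'
      have h1 : s * b ∈ r.asIdeal := by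
        rw [hsb]
        exact zero_mem _
      rcases r.isPrime.mem_or_mem h1 with h2 | h2
      · exact absurd (hrq' h2) hs
      · exact h2
    have hsp : p₀ ⤳ r := (PrimeSpectrum.le_iff_specializes p₀ r).mp hle
    have h3 := hmax _ (hsp.map hU.fromSpec.continuous)
    exact (hemb.injective h3).symm
  rw [← hp, ← hp', key p hpq (hp ▸ hξ), key p' hp'q (hp' ▸ hξ')]

theorem range_specMap_residueField (s : Spec (CommRingCat.of R))
    (hs : s = (IsLocalRing.closedPoint R : PrimeSpectrum R)) :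
    Set.range (Spec.map (CommRingCat.ofHom (algebraMap R (IsLocalRing.ResidueField R)))) = {s} := by
  have key : ∀ t : Spec (CommRingCat.of (IsLocalRing.ResidueField R)),
      Spec.map (CommRingCat.ofHom (algebraMap R (IsLocalRing.ResidueField R))) t = s := by
    intro t
    rw [hs]
    apply PrimeSpectrum.ext
    show Ideal.comap (algebraMap R (IsLocalRing.ResidueField R)) t.asIdeal =
      IsLocalRing.maximalIdeal R
    have ht : t.asIdeal = ⊥ := (Ideal.eq_bot_or_top t.asIdeal).resolve_right t.isPrime.ne_top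
    rw [ht, ← RingHom.ker_eq_comap_bot]
    exact IsLocalRing.ker_residue
  ext z
  constructor
  · rintro ⟨t, rfl⟩
    exact key t
  · intro hz
    rw [Set.mem_singleton_iff] at hz
    exact ⟨⟨⊥, Ideal.isPrime_bot⟩, (key _).trans hz.symm⟩

/-- **Irreducibility of the total space**: a proper flat scheme over a discrete valuation ring
whose closed fibre is integral is irreducible. -/
theorem irreducibleSpace_of_closedFibre [IsProper g] [Flat g]
    [IsIntegral (pullback g (Spec.map (CommRingCat.ofHom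
      (algebraMap R (IsLocalRing.ResidueField R)))))] : IrreducibleSpace W := by
  obtain ⟨s, hs⟩ : ∃ s : Spec (CommRingCat.of R), s = (IsLocalRing.closedPoint R : PrimeSpectrum R) :=
    ⟨_, rfl⟩
  obtain ⟨y, hy⟩ : ∃ y, y = Spec.map (CommRingCat.ofHom
    (algebraMap R (IsLocalRing.ResidueField R))) := ⟨_, rfl⟩
  have hrange_y : Set.range y = {s} := by rw [hy]; exact range_specMap_residueField s hs
  have hWs : IsIrreducible (g ⁻¹' {s}) := by
    have h1 : Set.range (pullback.fst g y) = g ⁻¹' (Set.range y) := Scheme.Pullback.range_fst g y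
    rw [← hrange_y, ← h1, ← Set.image_univ]
    haveI : IrreducibleSpace ↥(pullback g y) := by rw [hy]; infer_instance
    exact (IrreducibleSpace.isIrreducible_univ _).image _
      (pullback.fst g y).continuous.continuousOn
  have hs_closed : IsClosed ({s} : Set (Spec (CommRingCat.of R))) := by
    rw [hs]
    exact IsLocalRing.isClosed_singleton_closedPoint R
  have hWs_closed : IsClosed (g ⁻¹' {s}) := hs_closed.preimage g.continuous
  obtain ⟨ζ, hζ⟩ := QuasiSober.sober hWs hWs_closed
  obtain ⟨ξ₀, hξ₀max, hξ₀⟩ := exists_isMaxPt_specializes ζ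
  apply irreducibleSpace_of_forall_specializes ξ₀
  intro w
  obtain ⟨ξ, hξmax, hξw⟩ := exists_isMaxPt_specializes w
  obtain ⟨x, hx1, hx2⟩ : ∃ x, ξ ⤳ x ∧ g x = s := by
    have hcl : IsClosed (g '' closure {ξ}) := g.isClosedMap _ isClosed_closure
    have hmem : g ξ ∈ g '' closure {ξ} := ⟨ξ, subset_closure rfl, rfl⟩
    have hsp : (g ξ : PrimeSpectrum R) ⤳ (IsLocalRing.closedPoint R : PrimeSpectrum R) :=
      IsLocalRing.specializes_closedPoint _
    have h1 : s ∈ g '' closure {ξ} := by
      rw [hs]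
      exact hsp.mem_closed hcl hmem
    obtain ⟨x, hx, hxs⟩ := h1
    exact ⟨x, specializes_iff_mem_closure.mpr hx, hxs⟩
  have hζx : ζ ⤳ x := by
    rw [specializes_iff_mem_closure, hζ.def]
    exact hx2
  have h2 : ξ = ξ₀ := isMaxPt_unique g x (hx2.trans hs) ξ ξ₀ hξmax hξ₀max hx1 (hξ₀.trans hζx)
  rw [← h2]
  exact hξw

end dvr

end Groth.Agent.Lib.Helper12.IrrDVR
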