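import Mathlib
import Groth.Agent.Lib.Helper12.IrrDVRb
import Groth.Agent.Lib.Helper12.GeomRedOpen
import Groth.Agent.Lib.Helper11.GeomSep
import Groth.Agent.Lib.Helper1.DVRFib
import Groth.Agent.Lib.Helper7.KADvr2

set_option autoImplicit false
set_option linter.style.haveILetI false
universe u
open TensorProduct Topology AlgebraicGeometry CategoryTheory Limits

/-!
# Geometric irreducibility of the generic fibre of a proper flat scheme over a DVR with
geometrically integral closed fibre (helper12)
-/

namespace Groth.Agent.Lib.Helper12.IrrDVR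

open Groth.Agent.Lib.Helper12.GeomIrrBasic Groth.Agent.Lib.Helper12.GeomRedGen
  Groth.Agent.Lib.Helper12.GeomIrrPt

theorem irreducibleSpace_of_isOpenImmersion {Z W : Scheme.{u}} (a : Z ⟶ W) [IsOpenImmersion a]
    [IrreducibleSpace W] [Nonempty Z] : IrreducibleSpace Z := by
  have h1 : IsPreirreducible (a ⁻¹' (Set.univ : Set W)) :=
    (IrreducibleSpace.isIrreducible_univ W).isPreirreducible.preimage a.isOpenEmbedding
  rw [Set.preimage_univ] at h1
  exact (irreducibleSpace_def Z).mpr ⟨Set.univ_nonempty, h1⟩

section dvr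
variable {R : Type u} [CommRing R] [IsDomain R] [IsDiscreteValuationRing R]
  {W : Scheme.{u}} (g : W ⟶ Spec (CommRingCat.of R))

/-- the generic fibre of a flat morphism with nonempty closed fibre is nonempty -/
theorem exists_generic_of_flat [Flat g] (w₀ : W) :
    ∃ w₁ : W, g w₁ = (⟨⊥, Ideal.isPrime_bot⟩ : PrimeSpectrum R) := by
  have hgen : GeneralizingMap g := Flat.generalizingMap g
  have hsp : (⟨⊥, Ideal.isPrime_bot⟩ : PrimeSpectrum R) ⤳ (g w₀ : PrimeSpectrum R) :=
    (PrimeSpectrum.le_iff_specializes (⟨⊥, Ideal.isPrime_bot⟩ : PrimeSpectrum R)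
      (g w₀ : PrimeSpectrum R)).mp (show (⊥ : Ideal R) ≤ _ from bot_le)
  obtain ⟨w₁, -, hw₁⟩ := hgen hsp
  exact ⟨w₁, hw₁⟩

set_option backward.isDefEq.respectTransparency false in
set_option maxHeartbeats 1000000 in
/-- **Key step**: for a proper flat scheme over a discrete valuation ring, if the closed fibre is
geometrically integral then the generic fibre is geometrically irreducible. -/
theorem generic_mem_GI [IsProper g] [Flat g]
    (hE : (IsLocalRing.closedPoint R : PrimeSpectrum R) ∈ E g)
    (hGI : (IsLocalRing.closedPoint R : PrimeSpectrum R) ∈ GI g) :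
    (⟨⊥, Ideal.isPrime_bot⟩ : PrimeSpectrum R) ∈ GI g := by
  let K := FractionRing R
  let hK : Spec (CommRingCat.of K) ⟶ Spec (CommRingCat.of R) :=
    Spec.map (CommRingCat.ofHom (algebraMap R K))
  let gK : pullback g hK ⟶ Spec (CommRingCat.of K) := pullback.snd g hK
  have hKpt : ∀ t : Spec (CommRingCat.of K), hK t = (⟨⊥, Ideal.isPrime_bot⟩ : PrimeSpectrum R) := by
    intro t
    apply PrimeSpectrum.ext
    show Ideal.comap (algebraMap R K) t.asIdeal = ⊥
    have ht : t.asIdeal = ⊥ := (Ideal.eq_bot_or_top t.asIdeal).resolve_right t.isPrime.ne_top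
    rw [ht, ← RingHom.ker_eq_comap_bot,
      (RingHom.injective_iff_ker_eq_bot _).1 (IsFractionRing.injective R K)]
  suffices hgi : GeometricallyIrreducible gK by
    let t : Spec (CommRingCat.of K) := IsLocalRing.closedPoint K
    have h1 : t ∈ GI gK := by
      rw [mem_GI]
      infer_instance
    have h2 := (mem_GI_pullback (IsPullback.of_hasPullback g hK) t).1 h1
    rw [hKpt t] at h2
    exact h2
  -- the closed fibre is nonempty, hence so is the generic fibre
  obtain ⟨w₀⟩ : Nonempty ↥(g.fiber (IsLocalRing.closedPoint R : PrimeSpectrum R)) := by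
    rw [mem_GI] at hGI
    haveI := hGI
    haveI : IrreducibleSpace ↥(g.fiber (IsLocalRing.closedPoint R : PrimeSpectrum R)) :=
      GeometricallyIrreducible.irreducibleSpace_of_subsingleton
        (g.fiberToSpecResidueField (IsLocalRing.closedPoint R : PrimeSpectrum R))
    infer_instance
  obtain ⟨w₁, hw₁⟩ := exists_generic_of_flat g (g.fiberι _ w₀)
  haveI : IrreducibleSpace ↥(FBase.bc gK (SeparableClosure K)) := by
    apply Groth.Agent.Lib.Helper11.GeomSep.irreducibleSpace_of_levels gK (SeparableClosure K)
    intro L hL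
    letI : Algebra R L := ((algebraMap K L).comp (algebraMap R K)).toAlgebra
    haveI : IsScalarTower R K L := IsScalarTower.of_algebraMap_eq (fun _ => rfl)
    have hfg : (⊤ : IntermediateField K L).FG := IntermediateField.fg_of_noetherian ⊤
    obtain ⟨R', hdvr, hR', hlt⟩ := Groth.Agent.Lib.Helper7.exists_dvr_dominating R K L hfg
      (IsLocalRing.maximalIdeal R) (IsDiscreteValuationRing.not_a_field R)
    haveI : IsDiscreteValuationRing R' := hdvr
    let ψ : R →+* R' := (algebraMap R L).codRestrict R'.toSubring hR'
    let u : Spec (CommRingCat.of R') ⟶ Spec (CommRingCat.of R) := Spec.map (CommRingCat.ofHom ψ)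
    have hu : u (IsLocalRing.closedPoint R' : PrimeSpectrum R') =
        (IsLocalRing.closedPoint R : PrimeSpectrum R) := by
      apply PrimeSpectrum.ext
      show Ideal.comap ψ (IsLocalRing.maximalIdeal R') = IsLocalRing.maximalIdeal R
      apply le_antisymm
      · apply IsLocalRing.le_maximalIdeal
        exact Ideal.comap_ne_top _ (Ideal.IsPrime.ne_top inferInstance)
      · intro a ha
        show ψ a ∈ IsLocalRing.maximalIdeal R'
        have h1 := hlt a ha
        rw [IsLocalRing.mem_maximalIdeal, mem_nonunits_iff]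
        exact (R'.valuation_lt_one_iff ⟨algebraMap R L a, hR' a⟩).mpr h1
    let gR : pullback g u ⟶ Spec (CommRingCat.of R') := pullback.snd g u
    have hclE : (IsLocalRing.closedPoint R' : PrimeSpectrum R') ∈ E gR := by
      refine (mem_E_pullback (IsPullback.of_hasPullback g u) _).mpr ?_
      rw [hu]
      exact hE
    have hclGI : (IsLocalRing.closedPoint R' : PrimeSpectrum R') ∈ GI gR := by
      refine (mem_GI_pullback (IsPullback.of_hasPullback g u) _).mpr ?_
      rw [hu]
      exact hGI
    let y' : Spec (CommRingCat.of (IsLocalRing.ResidueField R')) ⟶ Spec (CommRingCat.of R') :=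
      Spec.map (CommRingCat.ofHom (algebraMap R' (IsLocalRing.ResidueField R')))
    have hy' : ∀ t, y' t = (IsLocalRing.closedPoint R' : PrimeSpectrum R') := fun t => by
      have h0 := range_specMap_residueField (R := R') _ rfl
      have h1 : y' t ∈ Set.range y' := ⟨t, rfl⟩
      rw [h0] at h1
      exact h1
    haveI : IsReduced (pullback gR y') :=
      isReduced_pullback_of_mem_E gR y' (fun t => by rw [hy' t]; exact hclE)
    haveI : IrreducibleSpace ↥(pullback gR y') :=
      irreducibleSpace_pullback_of_mem_GI gR y' (fun t => by rw [hy' t]; exact hclGI)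
    haveI : IsIntegral (pullback gR y') := isIntegral_of_irreducibleSpace_of_isReduced _
    haveI : IrreducibleSpace ↥(pullback g u) := irreducibleSpace_of_closedFibre gR
    let j : Spec (CommRingCat.of L) ⟶ Spec (CommRingCat.of R') :=
      Spec.map (CommRingCat.ofHom (algebraMap R' L))
    haveI : IsOpenImmersion j := by
      obtain ⟨ϖ, hϖ⟩ := IsDiscreteValuationRing.exists_irreducible R'
      haveI : IsLocalization.Away ϖ L :=
        Groth.Agent.Lib.Helper1.DVRFib.isLocalization_away_of_dvr R' L ϖ hϖ
      exact IsOpenImmersion.of_isLocalization ϖ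
    let jK : Spec (CommRingCat.of L) ⟶ Spec (CommRingCat.of K) :=
      Spec.map (CommRingCat.ofHom (algebraMap K L))
    have hcomp : jK ≫ hK = j ≫ u := by
      simp only [jK, hK, j, u, ← Spec.map_comp, ← CommRingCat.ofHom_comp]
      rfl
    show IrreducibleSpace ↥(pullback gK jK)
    have big : IsPullback (pullback.fst gK jK ≫ pullback.fst g hK) (pullback.snd gK jK) g
        (jK ≫ hK) :=
      (IsPullback.of_hasPullback gK jK).paste_horiz (IsPullback.of_hasPullback g hK)
    rw [hcomp] at big
    have w : (pullback.fst gK jK ≫ pullback.fst g hK) ≫ g = (pullback.snd gK jK ≫ j) ≫ u := by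
      have := big.w
      simpa only [Category.assoc] using this
    have sq : IsPullback (pullback.lift _ _ w) (pullback.snd gK jK) gR j := by
      refine IsPullback.of_right ?_ (pullback.lift_snd _ _ _) (IsPullback.of_hasPullback g u)
      rw [pullback.lift_fst]
      exact big
    haveI : IsOpenImmersion (pullback.lift _ _ w) :=
      MorphismProperty.of_isPullback (P := @IsOpenImmersion) sq.flip inferInstance
    haveI : Nonempty ↥(pullback gK jK) := by
      obtain ⟨tK⟩ : Nonempty (Spec (CommRingCat.of K)) := inferInstance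
      obtain ⟨z₁, hz₁, -⟩ := Scheme.Pullback.exists_preimage_pullback (f := g) (g := hK) w₁ tK
        (by rw [hw₁, hKpt])
      obtain ⟨tL⟩ : Nonempty (Spec (CommRingCat.of L)) := inferInstance
      obtain ⟨z₂, -, -⟩ := Scheme.Pullback.exists_preimage_pullback (f := gK) (g := jK) z₁ tL
        (Subsingleton.elim _ _)
      exact ⟨z₂⟩
    exact irreducibleSpace_of_isOpenImmersion (pullback.lift _ _ w)
  exact Groth.Agent.Lib.Helper11.GeomSep.geometricallyIrreducible_of_sepClosure gK

end dvr

end Groth.Agent.Lib.Helper12.IrrDVR
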