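import Mathlib
import Groth.Agent.Lib.Helper12.IrrDVRc
import Groth.Agent.Lib.Helper12.DvrCurve
import Groth.Agent.Lib.Helper12.GeomIrrCons
import Groth.Agent.Lib.Helper12.GeomRedOpen

/-!
# Openness of the locus of geometrically integral fibres of a proper flat morphism
(EGA IV 12.2.4 (viii)) (helper12)
-/

set_option autoImplicit false
set_option linter.style.haveILetI false
universe u
open TensorProduct Topology AlgebraicGeometry CategoryTheory Limits

namespace Groth.Agent.Lib.Helper12.GeomIntOpen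

open Groth.Agent.Lib.Helper12.GeomIrrBasic Groth.Agent.Lib.Helper12.GeomRedGen
  Groth.Agent.Lib.Helper12.GeomIrrPt Groth.Agent.Lib.Helper12.IrrDVR
  Groth.Agent.Lib.Helper12.GeomRedOpen Groth.Agent.Lib.Helper12.GeomRedCons
  Groth.Agent.Lib.Helper12.GeomIrrCons

section noeth

variable {A : Type u} [CommRing A] [IsNoetherianRing A]

set_option backward.isDefEq.respectTransparency false in
theorem mem_GI_of_specializes {X : Scheme.{u}} (f : X ⟶ Spec (CommRingCat.of A)) [Flat f]
    [IsProper f] (y y' : PrimeSpectrum A) (h : y' ⤳ y) (hyE : y ∈ E f) (hyGI : y ∈ GI f) :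
    y' ∈ GI f := by
  by_cases hne : y' = y
  · rw [hne]; exact hyGI
  obtain ⟨R, i1, i2, i3, ψ, h1, h2⟩ :=
    Groth.Agent.Lib.Helper12.DvrCurve.exists_dvr_spec y y' h hne
  let γ : Spec (CommRingCat.of R) ⟶ Spec (CommRingCat.of A) := Spec.map (CommRingCat.ofHom ψ)
  have hγ1 : γ (IsLocalRing.closedPoint R : PrimeSpectrum R) = y := PrimeSpectrum.ext h1
  have hγ2 : γ (⟨⊥, Ideal.isPrime_bot⟩ : PrimeSpectrum R) = y' := by
    apply PrimeSpectrum.ext
    rw [← h2, RingHom.ker_eq_comap_bot]
    rfl
  have sq := IsPullback.of_hasPullback f γ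
  have hclE : (IsLocalRing.closedPoint R : PrimeSpectrum R) ∈ E (pullback.snd f γ) := by
    refine (mem_E_pullback sq _).mpr ?_
    rw [hγ1]; exact hyE
  have hclGI : (IsLocalRing.closedPoint R : PrimeSpectrum R) ∈ GI (pullback.snd f γ) := by
    refine (mem_GI_pullback sq _).mpr ?_
    rw [hγ1]; exact hyGI
  have hgen := generic_mem_GI (pullback.snd f γ) hclE hclGI
  have := (mem_GI_pullback sq _).mp hgen
  rw [hγ2] at this
  exact this

theorem isOpen_inter_spec {X : Scheme.{u}} (f : X ⟶ Spec (CommRingCat.of A)) [Flat f]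
    [IsProper f] : IsOpen (E f ∩ GI f) := by
  haveI : IsNoetherian (Spec (CommRingCat.of A)) := inferInstance
  have hc : IsConstructible (E f ∩ GI f) :=
    (isConstructible_E_noetherian f).inter (isConstructible_GI_noetherian f)
  refine PrimeSpectrum.isOpen_of_stableUnderGeneralization_of_isConstructible (R := A) ?_ hc
  intro y y' h hy
  exact ⟨mem_E_of_specializes f y y' h hy.1, mem_GI_of_specializes f y y' h hy.1 hy.2⟩

end noeth

/-- Noetherian affine base scheme. -/
theorem isOpen_inter_of_isNoetherian {X S : Scheme.{u}} [IsAffine S] [IsNoetherian S] (f : X ⟶ S)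
    [Flat f] [IsProper f] : IsOpen (E f ∩ GI f) := by
  haveI : IsNoetherianRing Γ(S, ⊤) :=
    IsLocallyNoetherian.component_noetherian ⟨⊤, isAffineOpen_top S⟩
  have h1 : IsOpen (E (f ≫ S.isoSpec.hom) ∩ GI (f ≫ S.isoSpec.hom)) :=
    isOpen_inter_spec (A := Γ(S, ⊤)) (f ≫ S.isoSpec.hom)
  have hsq : IsPullback (𝟙 X) f (f ≫ S.isoSpec.hom) S.isoSpec.hom :=
    IsPullback.of_horiz_isIso ⟨by simp⟩
  have h2 : E f ∩ GI f =
      S.isoSpec.hom ⁻¹' (E (f ≫ S.isoSpec.hom) ∩ GI (f ≫ S.isoSpec.hom)) := by
    ext y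
    exact and_congr (mem_E_pullback hsq y) (mem_GI_pullback hsq y)
  rw [h2]
  exact h1.preimage S.isoSpec.hom.continuous

/-- **Openness of the locus of geometrically integral fibres** (as the intersection of the loci of
geometrically reduced and of geometrically irreducible fibres) for a flat proper morphism of finite
presentation. -/
theorem isOpen_inter {X Y : Scheme.{u}} (f : X ⟶ Y) [Flat f] [IsProper f]
    [LocallyOfFinitePresentation f] : IsOpen (E f ∩ GI f) := by
  rw [isOpen_iff_forall_mem_open]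
  intro y hy
  obtain ⟨_, ⟨V, hV, rfl⟩, hyV, -⟩ :=
    Y.isBasis_affineOpens.exists_subset_of_mem_open (Set.mem_univ y) isOpen_univ
  obtain ⟨V, rfl⟩ : ∃ V' : Y.Opens, V' = V := ⟨V, rfl⟩
  let h : pullback f V.ι ⟶ V.toScheme := pullback.snd f V.ι
  obtain ⟨S₀, X₀, f₀, g, g', hS₀, hN, hsq, _, _, _⟩ :=
    Groth.Agent.Lib.Helper12.FlatProperApprox.exists_model V hV h
  have h1 : IsOpen (E f₀ ∩ GI f₀) := isOpen_inter_of_isNoetherian f₀
  have h2 : E h ∩ GI h = g ⁻¹' (E f₀ ∩ GI f₀) := by
    ext z
    exact and_congr (mem_E_pullback hsq z) (mem_GI_pullback hsq z)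
  have h3 : V.ι ⁻¹' (E f ∩ GI f) = E h ∩ GI h := by
    ext z
    exact (and_congr (mem_E_pullback (IsPullback.of_hasPullback f V.ι) z)
      (mem_GI_pullback (IsPullback.of_hasPullback f V.ι) z)).symm
  have h4 : IsOpen (V.ι ⁻¹' (E f ∩ GI f)) := by
    rw [h3, h2]
    exact h1.preimage g.continuous
  refine ⟨V.ι '' (V.ι ⁻¹' (E f ∩ GI f)), Set.image_preimage_subset _ _,
    V.ι.isOpenEmbedding.isOpenMap _ h4, ⟨⟨y, hyV⟩, hy, rfl⟩⟩

/-- **EGA IV 12.2.4 (viii)**: the locus of geometrically integral fibres of a proper flat morphism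
of finite presentation is open. -/
theorem isOpen_setOf_geometricallyIntegral {X Y : Scheme.{u}} (f : X ⟶ Y) [IsProper f] [Flat f]
    [LocallyOfFinitePresentation f] :
    IsOpen {y : Y | GeometricallyIntegral (f.fiberToSpecResidueField y)} := by
  have h : {y : Y | GeometricallyIntegral (f.fiberToSpecResidueField y)} = E f ∩ GI f := by
    ext y
    constructor
    · intro hy
      have hy' : GeometricallyIntegral (f.fiberToSpecResidueField y) := hy
      exact ⟨(inferInstance : GeometricallyReduced (f.fiberToSpecResidueField y)),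
        (inferInstance : GeometricallyIrreducible (f.fiberToSpecResidueField y))⟩
    · rintro ⟨h1, h2⟩
      have h1' : GeometricallyReduced (f.fiberToSpecResidueField y) := h1
      have h2' : GeometricallyIrreducible (f.fiberToSpecResidueField y) := h2
      exact GeometricallyIntegral.of_geometricallyReduced_of_geometricallyIrreducible _
  rw [h]
  exact isOpen_inter f

end Groth.Agent.Lib.Helper12.GeomIntOpen
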