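import Mathlib
import Groth.Agent.Lib.Helper12.GeomCompStruct

/-!
# Geometric irreducibility of the components of a fibre after a residue field extension containing
a level at which the geometric components are defined (helper12)
-/

set_option autoImplicit false
set_option linter.style.haveILetI false
universe u
open AlgebraicGeometry CategoryTheory Limits Topology TensorProduct

namespace Groth.Agent.Lib.Helper12.GeomIrrBaseChange

open Groth.Agent.Lib.Helper12.GeomIrrBasic Groth.Agent.Lib.Helper12.GeomIrrPt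
  Groth.Agent.Lib.Helper11.FBaseLib Groth.Agent.Lib.Helper11.FBaseLib2
  Groth.Agent.Lib.Helper11.BcLevels Groth.Agent.Lib.Helper12.GeomCompStruct

theorem isIrreducible_preimage_of_saturated {Q W XL : Type*} [TopologicalSpace Q]
    [TopologicalSpace W] [TopologicalSpace XL] [QuasiSober W]
    (a : Q → W) (ha : Continuous a) (hs : Function.Surjective a) (r : W → XL) (hr : Continuous r)
    (hsat : ∀ C ∈ irreducibleComponents Q, ∃ D : Set XL, IsClosed D ∧ (r ∘ a) ⁻¹' D = C)
    (Z : Set W) (hZ : Z ∈ irreducibleComponents W) : IsIrreducible (a ⁻¹' Z) := by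
  obtain ⟨C, hC, hCZ⟩ := exists_irreducibleComponent_closure_image ha hs Z hZ
  obtain ⟨D, hD, hDC⟩ := hsat C hC
  have hsub : a '' C ⊆ r ⁻¹' D := by
    rintro _ ⟨c, hc, rfl⟩
    rw [← hDC] at hc
    exact hc
  have hZD : Z ⊆ r ⁻¹' D := by
    rw [← hCZ]
    exact closure_minimal hsub (hD.preimage hr)
  have heq : a ⁻¹' Z = C := by
    apply subset_antisymm
    · intro x hx
      rw [← hDC]
      exact hZD hx
    · intro c hc
      show a c ∈ Z
      rw [← hCZ]
      exact subset_closure ⟨c, hc, rfl⟩
  rw [heq]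
  exact hC.1

set_option maxHeartbeats 1600000 in
/-- abstract form: a base change of `fη` along `ψ : P ⟶ Spec k`, where `ψ` factors through a
level `L` at which all geometric components are defined and `P` receives a surjection from
`Spec Ω`, has geometrically irreducible irreducible components. -/
theorem geomIrr_components_of_saturated_aux {k : Type u} [Field k] {F F' P : Scheme.{u}}
    (fη : F ⟶ Spec (CommRingCat.of k))
    (Ω : Type u) [Field Ω] [Algebra k Ω] [IsSepClosed Ω] [Algebra.IsAlgebraic k Ω]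
    (L : IntermediateField k Ω)
    (hsat : ∀ Z ∈ irreducibleComponents ↥(FBase.bc fη Ω),
      ⇑(bcHom fη L.val) ⁻¹' (⇑(bcHom fη L.val) '' Z) = Z)
    (hW : F' ⟶ P) (w : F' ⟶ F) (ψ : P ⟶ Spec (CommRingCat.of k))
    (S1 : IsPullback w hW fη ψ)
    (jS : P ⟶ Spec (CommRingCat.of L)) (y : Spec (CommRingCat.of Ω) ⟶ P) [Surjective y]
    (hjS : jS ≫ Spec.map (CommRingCat.ofHom (algebraMap k L)) = ψ)
    (hyj : y ≫ jS = Spec.map (CommRingCat.ofHom (algebraMap L Ω)))
    (Z : Set ↥F') (hZ : Z ∈ irreducibleComponents ↥F') :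
    GeometricallyIrreducible ((Scheme.IdealSheafData.vanishingIdeal
      (⟨Z, isClosed_of_mem_irreducibleComponents Z hZ⟩ : TopologicalSpace.Closeds _)).subschemeι ≫
        hW) := by
  have hyψ : y ≫ ψ = Spec.map (CommRingCat.ofHom (algebraMap k Ω)) := by
    rw [← hjS, ← Category.assoc, hyj, ← Spec.map_comp, ← CommRingCat.ofHom_comp]
    rfl
  have hcond2 : FBase.bcπ fη Ω ≫ fη = (FBase.bcStr fη Ω ≫ y) ≫ ψ := by
    rw [Category.assoc, hyψ]
    exact (isPullback_bc fη Ω).w
  let a' : FBase.bc fη Ω ⟶ F' := S1.lift (FBase.bcπ fη Ω) (FBase.bcStr fη Ω ≫ y) hcond2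
  have ha1 : a' ≫ w = FBase.bcπ fη Ω := S1.lift_fst _ _ _
  have ha2 : a' ≫ hW = FBase.bcStr fη Ω ≫ y := S1.lift_snd _ _ _
  have S3 : IsPullback a' (FBase.bcStr fη Ω) hW y := by
    refine IsPullback.of_right ?_ ha2 S1
    rw [ha1, hyψ]
    exact isPullback_bc fη Ω
  -- the map to level `L`
  have hcond3 : w ≫ fη = (hW ≫ jS) ≫ Spec.map (CommRingCat.ofHom (algebraMap k L)) := by
    rw [S1.w, Category.assoc, hjS]
  let r : F' ⟶ FBase.bc fη L := pullback.lift w (hW ≫ jS) hcond3
  have hr1 : r ≫ FBase.bcπ fη L = w := pullback.lift_fst _ _ _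
  have hr2 : r ≫ FBase.bcStr fη L = hW ≫ jS := pullback.lift_snd _ _ _
  have hcomm : a' ≫ r = bcHom fη L.val := by
    apply pullback.hom_ext
    · change (a' ≫ r) ≫ FBase.bcπ fη L = bcHom fη L.val ≫ FBase.bcπ fη L
      rw [Category.assoc, hr1, ha1, bcHom_π]
    · change (a' ≫ r) ≫ FBase.bcStr fη L = bcHom fη L.val ≫ FBase.bcStr fη L
      rw [Category.assoc, hr2, ← Category.assoc, ha2, Category.assoc, bcHom_str, hyj]
      rfl
  -- surjectivity of `a'`
  haveI : Surjective a' := MorphismProperty.of_isPullback (P := @Surjective) S3.flip inferInstance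
  -- closedness of the level map
  haveI : Algebra.IsIntegral k Ω := Algebra.IsAlgebraic.isIntegral
  haveI : IsIntegralHom (bcHom fη L.val) := isIntegralHom_bcHom fη L.val
  have hclosed : IsClosedMap (bcHom fη L.val) := (bcHom fη L.val).isClosedMap
  have hirr : IsIrreducible (a' ⁻¹' Z) := by
    refine isIrreducible_preimage_of_saturated a' a'.continuous a'.surjective r r.continuous
      (fun C hC => ⟨bcHom fη L.val '' C,
        hclosed _ (isClosed_of_mem_irreducibleComponents C hC), ?_⟩) Z hZ
    have : (⇑r ∘ ⇑a') = ⇑(bcHom fη L.val) := by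
      rw [← hcomm]; rfl
    rw [this]
    exact hsat C hC
  haveI := irreducibleSpace_pullback_of_isIrreducible_preimage Z
    (isClosed_of_mem_irreducibleComponents Z hZ) a' hirr
  have hsq := (IsPullback.of_hasPullback (Scheme.IdealSheafData.vanishingIdeal
      (⟨Z, isClosed_of_mem_irreducibleComponents Z hZ⟩ : TopologicalSpace.Closeds _)).subschemeι
      a').paste_vert S3
  rw [← GI_eq_univ_iff, Set.eq_univ_iff_forall]
  intro t
  obtain ⟨s, rfl⟩ := y.surjective t
  exact mem_GI_of_isPullback_isSepClosed _ y _ _ hsq s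

set_option maxHeartbeats 1600000 in
theorem geomIrr_components_of_saturated {X Y Y' : Scheme.{u}} (f : X ⟶ Y)
    (φ : Y' ⟶ Y) (η' : Y') (y₀ : Y) (h : φ η' = y₀)
    (Ω : Type u) [Field Ω] [Algebra (Y.residueField y₀) Ω] [IsSepClosed Ω]
    [Algebra.IsAlgebraic (Y.residueField y₀) Ω]
    (L : IntermediateField (Y.residueField y₀) Ω)
    (hsat : ∀ Z ∈ irreducibleComponents
        ↥(FBase.bc (k := Y.residueField y₀) (f.fiberToSpecResidueField y₀) Ω),
      ⇑(bcHom (k := Y.residueField y₀) (f.fiberToSpecResidueField y₀) L.val) ⁻¹'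
        (⇑(bcHom (k := Y.residueField y₀) (f.fiberToSpecResidueField y₀) L.val) '' Z) = Z)
    (j : CommRingCat.of L ⟶ Y'.residueField η') (ι' : Y'.residueField η' ⟶ CommRingCat.of Ω)
    (hj : CommRingCat.ofHom (algebraMap (Y.residueField y₀) L) ≫ j =
      (Y.residueFieldCongr h).inv ≫ φ.residueFieldMap η')
    (hι' : j ≫ ι' = CommRingCat.ofHom (algebraMap L Ω))
    (Z : Set ↑((pullback.snd f φ).fiber η'))
    (hZ : Z ∈ irreducibleComponents ↑((pullback.snd f φ).fiber η')) :
    GeometricallyIrreducible ((Scheme.IdealSheafData.vanishingIdeal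
      (⟨Z, isClosed_of_mem_irreducibleComponents Z hZ⟩ : TopologicalSpace.Closeds _)).subschemeι ≫
        (pullback.snd f φ).fiberToSpecResidueField η') := by
  subst h
  simp only [Scheme.residueFieldCongr_refl, Iso.refl_inv, Category.id_comp] at hj
  -- the square exhibiting the fibre of `f'` as a base change of the fibre of `f`
  have hcond : ((pullback.snd f φ).fiberι η' ≫ pullback.fst f φ) ≫ f =
      ((pullback.snd f φ).fiberToSpecResidueField η' ≫ Spec.map (φ.residueFieldMap η')) ≫
        Y.fromSpecResidueField (φ η') := by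
    rw [Category.assoc, pullback.condition, ← Category.assoc,
      Category.assoc _ _ (Y.fromSpecResidueField _),
      Scheme.Hom.SpecMap_residueFieldMap_fromSpecResidueField, ← Category.assoc]
    congr 1
    exact pullback.condition
  let w : (pullback.snd f φ).fiber η' ⟶ f.fiber (φ η') :=
    pullback.lift ((pullback.snd f φ).fiberι η' ≫ pullback.fst f φ)
      ((pullback.snd f φ).fiberToSpecResidueField η' ≫ Spec.map (φ.residueFieldMap η')) hcond
  have hw1 : w ≫ pullback.fst f (Y.fromSpecResidueField (φ η')) =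
      (pullback.snd f φ).fiberι η' ≫ pullback.fst f φ := pullback.lift_fst _ _ _
  have hw2 : w ≫ f.fiberToSpecResidueField (φ η') =
      (pullback.snd f φ).fiberToSpecResidueField η' ≫ Spec.map (φ.residueFieldMap η') :=
    pullback.lift_snd _ _ _
  have S1 : IsPullback w ((pullback.snd f φ).fiberToSpecResidueField η')
      (f.fiberToSpecResidueField (φ η')) (Spec.map (φ.residueFieldMap η')) := by
    refine IsPullback.of_right ?_ hw2 (IsPullback.of_hasPullback f (Y.fromSpecResidueField (φ η')))
    rw [hw1, Scheme.Hom.SpecMap_residueFieldMap_fromSpecResidueField]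
    exact (IsPullback.of_hasPullback (pullback.snd f φ) (Y'.fromSpecResidueField η')).paste_horiz
      (IsPullback.of_hasPullback f φ)
  haveI : Surjective (Spec.map ι') :=
    ⟨fun _ => ⟨Nonempty.some inferInstance, Subsingleton.elim _ _⟩⟩
  refine geomIrr_components_of_saturated_aux (k := Y.residueField (φ η'))
    (f.fiberToSpecResidueField (φ η')) Ω L hsat
    ((pullback.snd f φ).fiberToSpecResidueField η') w (Spec.map (φ.residueFieldMap η')) S1
    (Spec.map j) (Spec.map ι') ?_ ?_ Z hZ
  · rw [← Spec.map_comp, hj]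
  · rw [← Spec.map_comp, hι']

end Groth.Agent.Lib.Helper12.GeomIrrBaseChange
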