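import Mathlib
import Groth.Agent.Lib.Helper12.GeomIrrInd
import Groth.Agent.Lib.Helper12.ConsPropGen
import Groth.Agent.Lib.Helper12.FpDesc

/-!
# Geometric irreducibility of fibres: finitely presented families over arbitrary bases (helper12)
-/

set_option autoImplicit false
set_option linter.style.haveILetI false
universe u
open AlgebraicGeometry CategoryTheory Limits Topology TensorProduct

namespace Groth.Agent.Lib.Helper12.GeomIrrFp

open Groth.Agent.Lib.Helper12.GeomIrrBasic Groth.Agent.Lib.Helper12.GeomIrrInd ConsProp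
  Groth.Agent.Lib.Helper12.ConsPropGen Groth.Agent.Lib.Helper12.FpDesc

/-- For a finitely presented family, the locus of geometrically irreducible fibres contains a
relative neighbourhood (in the closure) of each of its points. -/
theorem exists_open_inter_closure_subset_GI {X S : Scheme.{u}} (u : X ⟶ S)
    [LocallyOfFinitePresentation u] [QuasiCompact u] [QuasiSeparated u] (s : S) (hs : s ∈ GI u) :
    ∃ U : Set S, IsOpen U ∧ s ∈ U ∧ U ∩ closure {s} ⊆ GI u := by
  obtain ⟨_, ⟨V, hV, rfl⟩, hsV, -⟩ :=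
    S.isBasis_affineOpens.exists_subset_of_mem_open (Set.mem_univ s) isOpen_univ
  obtain ⟨V, rfl⟩ : ∃ V' : S.Opens, V' = V := ⟨V, rfl⟩
  obtain ⟨J, _, _, 𝔇, π, hπ, haff, hnoeth⟩ := exists_noetherian_limit V hV
  haveI : ∀ {i j : J} (a : i ⟶ j), IsAffineHom (𝔇.map a) := fun a => inferInstance
  haveI : ∀ (i j : J) (a : i ⟶ j), IsAffineHom (𝔇.map a) := fun _ _ a => inferInstance
  obtain ⟨i₁, X₁, x₁, qX₁, _, _, _, sq⟩ := descends_of_fp (D := 𝔇) (c := Cone.mk _ π) hπ
    (pullback.snd u V.ι)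
  haveI := hnoeth i₁
  have h1 : GI (pullback.snd u V.ι) = V.ι ⁻¹' GI u :=
    GI_pullback (IsPullback.of_hasPullback u V.ι)
  have h2 : GI (pullback.snd u V.ι) = (π.app i₁) ⁻¹' GI x₁ := GI_pullback sq
  let v : V.toScheme := ⟨s, hsV⟩
  have hv : V.ι v = s := rfl
  have hn : π.app i₁ v ∈ GI x₁ := by
    have : v ∈ (π.app i₁) ⁻¹' GI x₁ := by
      rw [← h2, h1]
      exact hs
    exact this
  obtain ⟨U₁, hU₁, hnU₁, hU₁sub⟩ :=
    Groth.Agent.Lib.Helper12.ConsPropNoeth.exists_open_inter_closure_subset_locus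
      isIndCons_PGI x₁ (π.app i₁ v) hn
  refine ⟨V.ι '' ((π.app i₁) ⁻¹' U₁), ?_, ⟨v, hnU₁, hv⟩, ?_⟩
  · exact V.ι.isOpenEmbedding.isOpenMap _ (hU₁.preimage (π.app i₁).continuous)
  · rintro _ ⟨⟨w, hwU₁, rfl⟩, hcl⟩
    have hsp : V.ι v ⤳ V.ι w := specializes_iff_mem_closure.mpr hcl
    have hsp' : v ⤳ w := (V.ι.isEmbedding.isInducing.specializes_iff).mp hsp
    have hsp'' : π.app i₁ v ⤳ π.app i₁ w := hsp'.map (π.app i₁).continuous
    have h3 : π.app i₁ w ∈ GI x₁ :=
      hU₁sub ⟨hwU₁, specializes_iff_mem_closure.mp hsp''⟩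
    have h4 : w ∈ GI (pullback.snd u V.ι) := by rw [h2]; exact h3
    rw [h1] at h4
    exact h4

end Groth.Agent.Lib.Helper12.GeomIrrFp
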