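import Mathlib
import Groth.Prelude
import Groth.Agent.S1335
import Groth.Agent.S1364
import Groth.Agent.Lib.Helper12.GeomRedOpen

/-!
# Openness of the locus of geometrically reduced fibres with a given number of geometric
connected components in a proper flat family (EGA IV 12.2.4 (vi)) (helper12)
-/

set_option autoImplicit false
set_option linter.style.haveILetI false
universe u
open CategoryTheory CategoryTheory.Limits AlgebraicGeometry TopologicalSpace Topology

namespace Groth.Agent.Lib.Helper12.GeomRedConn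

open Groth.Agent.Lib.Helper12.GeomRedGen Groth.Agent.Lib.Helper12.GeomRedOpen

theorem isOpen_setOf_geomReduced_and_nGeomConnComp_eq {X Y : Scheme.{u}} (f : X ⟶ Y) [IsProper f]
    [Flat f] [LocallyOfFinitePresentation f] (k : ℕ∞) :
    IsOpen {y : Y | GeometricallyReduced (f.fiberToSpecResidueField y) ∧
      MoreMor.nGeomConnComp f y = k} := by
  have hE : IsOpen (E f) := isOpen_E f
  obtain ⟨U, hU⟩ : ∃ U : Y.Opens, (U : Set Y) = E f := ⟨⟨E f, hE⟩, rfl⟩
  have hsq : IsPullback (f ⁻¹ᵁ U).ι (f ∣_ U) f U.ι := (isPullback_morphismRestrict f U).flip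
  haveI : IsProper (f ∣_ U) := IsZariskiLocalAtTarget.restrict ‹IsProper f› U
  haveI : Flat (f ∣_ U) := IsZariskiLocalAtTarget.restrict ‹Flat f› U
  haveI : LocallyOfFinitePresentation (f ∣_ U) :=
    IsZariskiLocalAtTarget.restrict ‹LocallyOfFinitePresentation f› U
  haveI : GeometricallyReduced (f ∣_ U) := by
    rw [geometricallyReduced_iff, geometrically_iff_forall_fiberToSpecResidueField]
    intro u
    have h1 : u ∈ E (f ∣_ U) := by
      rw [mem_E_pullback hsq u, ← hU]
      exact u.2
    rw [mem_E, geometricallyReduced_iff] at h1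
    exact h1
  have hlc := Groth.Agent.S1364.result (f ∣_ U)
  have hopen : IsOpen {u : U | MoreMor.nGeomConnComp (f ∣_ U) u = k} :=
    hlc.isOpen_fiber k
  have himg : {y : Y | GeometricallyReduced (f.fiberToSpecResidueField y) ∧
      MoreMor.nGeomConnComp f y = k} =
      U.ι.base '' {u : U | MoreMor.nGeomConnComp (f ∣_ U) u = k} := by
    ext y
    constructor
    · rintro ⟨hy1, hy2⟩
      have hyU : y ∈ U := by
        show y ∈ (U : Set Y)
        rw [hU]
        exact hy1
      refine ⟨⟨y, hyU⟩, ?_, rfl⟩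
      show MoreMor.nGeomConnComp (f ∣_ U) ⟨y, hyU⟩ = k
      rw [Groth.Agent.S1335.result f (f ∣_ U) (f ⁻¹ᵁ U).ι U.ι hsq ⟨y, hyU⟩]
      exact hy2
    · rintro ⟨u, hu, rfl⟩
      refine ⟨?_, ?_⟩
      · have : U.ι.base u ∈ (U : Set Y) := u.2
        rw [hU] at this
        exact this
      · rw [← Groth.Agent.S1335.result f (f ∣_ U) (f ⁻¹ᵁ U).ι U.ι hsq u]
        exact hu
  rw [himg]
  exact U.ι.isOpenEmbedding.isOpenMap _ hopen

end Groth.Agent.Lib.Helper12.GeomRedConn
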