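import Mathlib
import Groth.Prelude.Def_FDesc
import Groth.Agent.Lib.Helper14.GeomRedAt
import Groth.Agent.Lib.Helper14.GeomRedLocus
import Groth.Agent.Lib.Helper12.ConsPropNoeth
import Groth.Agent.Lib.Helper12.GeomRedGen

/-!
# Geometric reducedness of the fibre at a point: base change toolkit (helper12)
-/

set_option autoImplicit false
set_option linter.style.haveILetI false
universe u
open AlgebraicGeometry CategoryTheory Limits Topology

namespace Groth.Agent.Lib.Helper12.GeomRedPt

open Groth.Agent.Lib.Helper14.GeomRedAt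

section transfer

variable {k : Type u} [Field k] {Z Z' : Scheme.{u}}

/-- geometric reducedness at a point can be tested after an open immersion -/
theorem isGeomReducedAt_comp_iff (h : Z ⟶ Spec (CommRingCat.of k)) (ι : Z' ⟶ Z)
    [IsOpenImmersion ι] (z' : Z') :
    FBase.IsGeomReducedAt (ι ≫ h) z' ↔ FBase.IsGeomReducedAt h (ι z') := by
  have key : ∀ (K : Type u) [Field K] [Algebra k K],
      ∃ m : FBase.bc (ι ≫ h) K ⟶ FBase.bc h K, IsOpenImmersion m ∧
        IsPullback m (FBase.bcπ (ι ≫ h) K) (FBase.bcπ h K) ι := by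
    intro K _ _
    let a := Spec.map (CommRingCat.ofHom (algebraMap k K))
    have hbig : IsPullback (FBase.bcπ (ι ≫ h) K) (FBase.bcStr (ι ≫ h) K) (ι ≫ h) a :=
      IsPullback.of_hasPullback _ _
    have hsm : IsPullback (FBase.bcπ h K) (FBase.bcStr h K) h a := IsPullback.of_hasPullback _ _
    let m : FBase.bc (ι ≫ h) K ⟶ FBase.bc h K :=
      pullback.lift (FBase.bcπ (ι ≫ h) K ≫ ι) (FBase.bcStr (ι ≫ h) K)
        (by simpa only [Category.assoc] using hbig.w)
    have hm1 : m ≫ FBase.bcπ h K = FBase.bcπ (ι ≫ h) K ≫ ι := pullback.lift_fst _ _ _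
    have hm2 : m ≫ FBase.bcStr h K = FBase.bcStr (ι ≫ h) K := pullback.lift_snd _ _ _
    have hsq : IsPullback m (FBase.bcπ (ι ≫ h) K) (FBase.bcπ h K) ι := by
      refine IsPullback.of_right ?_ hm1 hsm.flip
      rw [hm2]
      exact hbig.flip
    refine ⟨m, ?_, hsq⟩
    exact MorphismProperty.of_isPullback (P := @IsOpenImmersion) hsq.flip inferInstance
  constructor
  · intro hz K _ _ p hp
    obtain ⟨m, hm, hsq⟩ := key K
    obtain ⟨p', rfl, hp'⟩ := Scheme.exists_preimage_of_isPullback hsq p z' hp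
    have hred := hz K p' hp'
    have hinj : Function.Injective (m.stalkMap p').hom :=
      (asIso (m.stalkMap p')).commRingCatIsoToRingEquiv.injective
    exact isReduced_of_injective (m.stalkMap p').hom hinj
  · intro hz K _ _ p' hp'
    obtain ⟨m, hm, hsq⟩ := key K
    have h1 : (FBase.bcπ h K) (m p') = ι z' := by
      rw [← Scheme.Hom.comp_apply, hsq.w, Scheme.Hom.comp_apply]
      exact congrArg ι hp'
    have hred := hz K (m p') h1
    have hinj : Function.Injective (inv (m.stalkMap p')).hom :=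
      (asIso (inv (m.stalkMap p'))).commRingCatIsoToRingEquiv.injective
    exact isReduced_of_injective (inv (m.stalkMap p')).hom hinj

/-- geometric reducedness at a point is invariant under extension of the base field (square form) -/
theorem isGeomReducedAt_iff_of_isPullback {k' : Type u} [Field k']
    (h : Z ⟶ Spec (CommRingCat.of k)) (h' : Z' ⟶ Spec (CommRingCat.of k'))
    (q : Z' ⟶ Z) (a : Spec (CommRingCat.of k') ⟶ Spec (CommRingCat.of k))
    (sq : IsPullback q h' h a) (z' : Z') :
    FBase.IsGeomReducedAt h' z' ↔ FBase.IsGeomReducedAt h (q z') := by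
  letI : Algebra k k' := (Spec.preimage a).hom.toAlgebra
  have ha : a = Spec.map (CommRingCat.ofHom (algebraMap k k')) := (Spec.map_preimage a).symm
  rw [ha] at sq
  let e : Z' ≅ FBase.bc h k' := sq.isoPullback
  have he1 : e.hom ≫ FBase.bcπ h k' = q := sq.isoPullback_hom_fst
  have he2 : e.hom ≫ FBase.bcStr h k' = h' := sq.isoPullback_hom_snd
  rw [← he2, isGeomReducedAt_comp_iff (FBase.bcStr h k') e.hom z']
  have h3 := geomAt_iff_bcStr h (fun R _ => _root_.IsReduced R)
    (fun φ hφ hS => isReduced_of_injective' φ hφ hS) k' (e.hom z')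
  have h4 : (FBase.bcπ h k') (e.hom z') = q z' := by
    rw [← Scheme.Hom.comp_apply, he1]
  rw [h4] at h3
  exact h3.symm

end transfer

section fibre

variable {X Y : Scheme.{u}}

/-- the set of points at which the fibre through the point is geometrically reduced -/
def W (f : X ⟶ Y) : Set X :=
  {x | FBase.IsGeomReducedAt (f.fiberToSpecResidueField (f.base x)) (f.asFiber x)}

theorem mem_W_iff (f : X ⟶ Y) (x : X) (y : Y) (w : f.fiber y) (hw : f.fiberι y w = x) :
    x ∈ W f ↔ FBase.IsGeomReducedAt (f.fiberToSpecResidueField y) w := by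
  have hy : f x = y := by
    have h1 : (f.fiberι y) w ∈ Set.range (f.fiberι y) := ⟨w, rfl⟩
    rw [Scheme.Hom.range_fiberι, hw] at h1
    exact h1
  subst hy
  have hw' : w = f.asFiber x := by
    apply (f.fiberι (f x)).isEmbedding.injective
    rw [hw]; exact (f.fiberι_asFiber x).symm
  rw [hw']
  exact Iff.rfl

/-- **base change invariance** of the locus `W` -/
theorem mem_W_iff_of_isPullback {X' Y' : Scheme.{u}} {f : X ⟶ Y} {f' : X' ⟶ Y'} {p₁ : X' ⟶ X}
    {g : Y' ⟶ Y} (sq : IsPullback p₁ f' f g) (x' : X') : x' ∈ W f' ↔ p₁ x' ∈ W f := by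
  obtain ⟨e, he, hι⟩ := Groth.Agent.Lib.Helper12.ConsPropNoeth.exists_fibre_isPullback sq (f' x')
  have h1 : (f.fiberι (g (f' x'))) (e (f'.asFiber x')) = p₁ x' := by
    rw [← Scheme.Hom.comp_apply, hι, Scheme.Hom.comp_apply, f'.fiberι_asFiber]
  rw [mem_W_iff f (p₁ x') (g (f' x')) (e (f'.asFiber x')) h1]
  exact isGeomReducedAt_iff_of_isPullback _ _ e _ he (f'.asFiber x')

theorem preimage_W_of_isPullback {X' Y' : Scheme.{u}} {f : X ⟶ Y} {f' : X' ⟶ Y'} {p₁ : X' ⟶ X}
    {g : Y' ⟶ Y} (sq : IsPullback p₁ f' f g) : W f' = p₁ ⁻¹' W f := by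
  ext x'
  exact mem_W_iff_of_isPullback sq x'

/-- over a field the locus `W` is the pointwise geometrically reduced locus -/
theorem mem_W_field_iff {K : Type u} [Field K] {Z : Scheme.{u}} (h : Z ⟶ Spec (CommRingCat.of K))
    (z : Z) : z ∈ W h ↔ FBase.IsGeomReducedAt h z := by
  have sq : IsPullback (h.fiberι (h z)) (h.fiberToSpecResidueField (h z)) h
      ((Spec (CommRingCat.of K)).fromSpecResidueField (h z)) := IsPullback.of_hasPullback _ _
  have h1 := isGeomReducedAt_iff_of_isPullback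
    (k' := IsLocalRing.ResidueField ((Spec (CommRingCat.of K)).presheaf.stalk (h z)))
    h (h.fiberToSpecResidueField (h z)) (h.fiberι (h z)) _ sq (h.asFiber z)
  rw [h.fiberι_asFiber] at h1
  exact h1

/-- the locus `W` is compatible with open immersions into the source -/
theorem mem_W_comp_iff {U : Scheme.{u}} (j : U ⟶ X) [IsOpenImmersion j] (f : X ⟶ Y) (u : U) :
    u ∈ W (j ≫ f) ↔ j u ∈ W f := by
  obtain ⟨s, hs⟩ : ∃ s : Y, s = (j ≫ f) u := ⟨_, rfl⟩
  let m := MoreMor.fiberMap j f s
  have hpb := Groth.Agent.Lib.Helper12.ConsPropNoeth.isPullback_fiberMap j f s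
  haveI : IsOpenImmersion m :=
    MorphismProperty.of_isPullback (P := @IsOpenImmersion) hpb inferInstance
  have h1 : m ≫ f.fiberToSpecResidueField s = (j ≫ f).fiberToSpecResidueField s :=
    pullback.lift_snd _ _ _
  have h2 : m ≫ f.fiberι s = (j ≫ f).fiberι s ≫ j := pullback.lift_fst _ _ _
  obtain ⟨w, hw⟩ : ∃ w : (j ≫ f).fiber s, (j ≫ f).fiberι s w = u := by
    have : u ∈ Set.range ((j ≫ f).fiberι s) := by
      rw [Scheme.Hom.range_fiberι]; exact hs.symm
    exact this
  have h3 : (f.fiberι s) (m w) = j u := by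
    rw [← Scheme.Hom.comp_apply, h2, Scheme.Hom.comp_apply, hw]
  rw [mem_W_iff (j ≫ f) u s w hw, mem_W_iff f (j u) s (m w) h3, ← h1]
  exact isGeomReducedAt_comp_iff _ m w

theorem preimage_W_comp {U : Scheme.{u}} (j : U ⟶ X) [IsOpenImmersion j] (f : X ⟶ Y) :
    W (j ≫ f) = j ⁻¹' W f := by
  ext u
  exact mem_W_comp_iff j f u

open Groth.Agent.Lib.Helper12.GeomRedGen in
/-- points over a point with geometrically reduced fibre are in `W` -/
theorem mem_W_of_mem_E (g : X ⟶ Y) (x : X) (h : g x ∈ E g) : x ∈ W g := by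
  rw [mem_E] at h
  exact (geometricallyReduced_iff_forall_isGeomReducedAt _).1 h (g.asFiber x)

open Groth.Agent.Lib.Helper12.GeomRedGen in
/-- a point of `W` has an open neighbourhood whose fibre through the point is geometrically
reduced -/
theorem exists_opens_mem_E (f : X ⟶ Y) [LocallyOfFiniteType f] (x : X) (hx : x ∈ W f) :
    ∃ U : X.Opens, x ∈ U ∧ f x ∈ E (U.ι ≫ f) := by
  obtain ⟨y, hy⟩ : ∃ y : Y, y = f x := ⟨_, rfl⟩
  haveI : IsLocallyNoetherian (f.fiber y) :=
    LocallyOfFiniteType.isLocallyNoetherian (f.fiberToSpecResidueField y)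
  have hG : IsOpen {w : f.fiber y | FBase.IsGeomReducedAt (f.fiberToSpecResidueField y) w} :=
    Groth.Agent.Lib.Helper14.GeomRedLocus.isOpen_setOf_isGeomReducedAt _
  obtain ⟨U, hU, hUG⟩ := (f.fiberι y).isEmbedding.isInducing.isOpen_iff.mp hG
  obtain ⟨w, hw⟩ : ∃ w : f.fiber y, f.fiberι y w = x := by
    have : x ∈ Set.range (f.fiberι y) := by
      rw [Scheme.Hom.range_fiberι]; exact hy.symm
    exact this
  refine ⟨⟨U, hU⟩, ?_, ?_⟩
  · have h1 : w ∈ (f.fiberι y) ⁻¹' U := by
      rw [hUG]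
      exact (mem_W_iff f x y w hw).1 hx
    rw [← hw]
    exact h1
  · rw [← hy, mem_E]
    refine (geometricallyReduced_iff_forall_isGeomReducedAt
      (k := IsLocalRing.ResidueField (Y.presheaf.stalk y)) _).2 ?_
    intro w'
    let U' : X.Opens := ⟨U, hU⟩
    let m := MoreMor.fiberMap U'.ι f y
    have hpb := Groth.Agent.Lib.Helper12.ConsPropNoeth.isPullback_fiberMap U'.ι f y
    haveI : IsOpenImmersion m :=
      MorphismProperty.of_isPullback (P := @IsOpenImmersion) hpb inferInstance
    have h1 : m ≫ f.fiberToSpecResidueField y = (U'.ι ≫ f).fiberToSpecResidueField y :=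
      pullback.lift_snd _ _ _
    have h2 : m ≫ f.fiberι y = (U'.ι ≫ f).fiberι y ≫ U'.ι := pullback.lift_fst _ _ _
    show FBase.IsGeomReducedAt ((U'.ι ≫ f).fiberToSpecResidueField y) w'
    have h3 : m w' ∈ (f.fiberι y) ⁻¹' U := by
      show (f.fiberι y) (m w') ∈ U
      rw [← Scheme.Hom.comp_apply, h2, Scheme.Hom.comp_apply]
      exact ((U'.ι ≫ f).fiberι y w').2
    rw [hUG] at h3
    rw [← h1]
    exact (isGeomReducedAt_comp_iff (k := IsLocalRing.ResidueField (Y.presheaf.stalk y))
      (f.fiberToSpecResidueField y) m w').2 h3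

end fibre

end Groth.Agent.Lib.Helper12.GeomRedPt
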