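import Mathlib
import Groth.Agent.Lib.Helper12.GeomRedPt
import Groth.Agent.Lib.Helper12.GeomRedOpen
import Groth.Agent.Lib.Helper11.PurInsep

/-!
# Geometric reducedness of the fibre at a point: generization through a DVR (helper12)
-/

set_option autoImplicit false
set_option linter.style.haveILetI false
universe u
open AlgebraicGeometry CategoryTheory Limits Topology

namespace Groth.Agent.Lib.Helper12.GeomRedPtDvr

open Groth.Agent.Lib.Helper14.GeomRedAt Groth.Agent.Lib.Helper12.GeomRedPt
open Groth.Agent.Lib.Helper12.GeomRedGen Groth.Agent.Lib.Helper12.GeomRedOpen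

variable {R : Type u} [CommRing R] [IsDomain R] [IsDiscreteValuationRing R] {X : Scheme.{u}}

set_option backward.isDefEq.respectTransparency false in
set_option maxHeartbeats 1000000 in
/-- over a DVR, with geometrically reduced closed fibre, the generic fibre is geometrically reduced
at the generic point of any section -/
theorem mem_W_generic_of_mem_E (f : X ⟶ Spec (CommRingCat.of R)) [Flat f] [LocallyOfFiniteType f]
    (σ : Spec (CommRingCat.of R) ⟶ X) (hσ : σ ≫ f = 𝟙 _)
    (hcl : (IsLocalRing.closedPoint R : PrimeSpectrum R) ∈ E f) :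
    σ (⟨⊥, Ideal.isPrime_bot⟩ : PrimeSpectrum R) ∈ W f := by
  have hfield : IsLocalRing.maximalIdeal R ≠ ⊥ := IsDiscreteValuationRing.not_a_field R
  let K := FractionRing R
  let a : Spec (CommRingCat.of K) ⟶ Spec (CommRingCat.of R) :=
    Spec.map (CommRingCat.ofHom (algebraMap R K))
  let fK : pullback f a ⟶ Spec (CommRingCat.of K) := pullback.snd f a
  have sqK : IsPullback (pullback.fst f a) fK f a := IsPullback.of_hasPullback f a
  let σK : Spec (CommRingCat.of K) ⟶ pullback f a :=
    pullback.lift (a ≫ σ) (𝟙 _) (by rw [Category.assoc, hσ, Category.comp_id, Category.id_comp])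
  have hσK1 : σK ≫ pullback.fst f a = a ≫ σ := pullback.lift_fst _ _ _
  have hσK2 : σK ≫ fK = 𝟙 _ := pullback.lift_snd _ _ _
  let pt : Spec (CommRingCat.of K) := IsLocalRing.closedPoint K
  have hapt : a pt = (⟨⊥, Ideal.isPrime_bot⟩ : PrimeSpectrum R) := by
    apply PrimeSpectrum.ext
    show Ideal.comap (algebraMap R K) (IsLocalRing.maximalIdeal K) = ⊥
    rw [IsLocalRing.maximalIdeal_eq_bot, ← RingHom.ker_eq_comap_bot,
      (RingHom.injective_iff_ker_eq_bot _).1 (IsFractionRing.injective R K)]
  let ξK : ↥(pullback f a) := σK pt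
  have hξK : (pullback.fst f a) ξK = σ (⟨⊥, Ideal.isPrime_bot⟩ : PrimeSpectrum R) := by
    show (pullback.fst f a) (σK pt) = _
    rw [← Scheme.Hom.comp_apply, hσK1, Scheme.Hom.comp_apply, hapt]
  rw [← hξK, ← mem_W_iff_of_isPullback sqK ξK, mem_W_field_iff fK ξK]
  letI : Algebra K ((pullback f a).presheaf.stalk ξK) :=
    (Spec.preimage ((pullback f a).fromSpecStalk ξK ≫ fK)).hom.toAlgebra
  have hc : (pullback f a).fromSpecStalk ξK ≫ fK =
      Spec.map (CommRingCat.ofHom (algebraMap K ((pullback f a).presheaf.stalk ξK))) :=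
    (Spec.map_preimage _).symm
  refine isGeomReducedAt_of_forall_finite_purelyInseparable fK ξK hc ?_
  intro k' _ _ _ _ x' hx'
  letI : Algebra R k' := ((algebraMap K k').comp (algebraMap R K)).toAlgebra
  haveI : IsScalarTower R K k' := IsScalarTower.of_algebraMap_eq (fun _ => rfl)
  have hfg : (⊤ : IntermediateField K k').FG := IntermediateField.fg_of_noetherian ⊤
  obtain ⟨R', hdvr, hR', hlt⟩ := Groth.Agent.Lib.Helper7.exists_dvr_dominating R K k' hfg
    (IsLocalRing.maximalIdeal R) hfield
  haveI : IsDiscreteValuationRing R' := hdvr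
  let ψ : R →+* R' := (algebraMap R k').codRestrict R'.toSubring hR'
  let u : Spec (CommRingCat.of R') ⟶ Spec (CommRingCat.of R) := Spec.map (CommRingCat.ofHom ψ)
  have hu : u (IsLocalRing.closedPoint R' : PrimeSpectrum R') =
      (IsLocalRing.closedPoint R : PrimeSpectrum R) := by
    apply PrimeSpectrum.ext
    show Ideal.comap ψ (IsLocalRing.maximalIdeal R') = IsLocalRing.maximalIdeal R
    apply le_antisymm
    · apply IsLocalRing.le_maximalIdeal
      exact Ideal.comap_ne_top _ (Ideal.IsPrime.ne_top inferInstance)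
    · intro b hb
      show ψ b ∈ IsLocalRing.maximalIdeal R'
      have h1 := hlt b hb
      rw [IsLocalRing.mem_maximalIdeal, mem_nonunits_iff]
      exact (R'.valuation_lt_one_iff ⟨algebraMap R k' b, hR' b⟩).mpr h1
  let fR : pullback f u ⟶ Spec (CommRingCat.of R') := pullback.snd f u
  have hclR : (IsLocalRing.closedPoint R' : PrimeSpectrum R') ∈ E fR := by
    rw [mem_E_pullback (IsPullback.of_hasPullback f u), hu]
    exact hcl
  have hred : IsReduced (fR.fiber (IsLocalRing.closedPoint R')) :=
    isReduced_fiber_of_mem_E fR _ hclR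
  -- the generic point of `Spec R'` is open
  let j : Spec (CommRingCat.of k') ⟶ Spec (CommRingCat.of R') :=
    Spec.map (CommRingCat.ofHom (algebraMap R' k'))
  haveI : IsOpenImmersion j := by
    obtain ⟨ϖ, hϖ⟩ := IsDiscreteValuationRing.exists_irreducible R'
    haveI : IsLocalization.Away ϖ k' :=
      Groth.Agent.Lib.Helper1.DVRFib.isLocalization_away_of_dvr R' k' ϖ hϖ
    exact IsOpenImmersion.of_isLocalization ϖ
  let jK : Spec (CommRingCat.of k') ⟶ Spec (CommRingCat.of K) :=
    Spec.map (CommRingCat.ofHom (algebraMap K k'))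
  have hcomp : jK ≫ a = j ≫ u := by
    simp only [jK, a, j, u, ← Spec.map_comp, ← CommRingCat.ofHom_comp]
    rfl
  have big : IsPullback (pullback.fst fK jK ≫ pullback.fst f a) (pullback.snd fK jK) f
      (jK ≫ a) :=
    (IsPullback.of_hasPullback fK jK).paste_horiz (IsPullback.of_hasPullback f a)
  rw [hcomp] at big
  have w : (pullback.fst fK jK ≫ pullback.fst f a) ≫ f = (pullback.snd fK jK ≫ j) ≫ u := by
    have := big.w
    simpa only [Category.assoc] using this
  let θ : pullback fK jK ⟶ pullback f u := pullback.lift _ _ w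
  have hθ1 : θ ≫ pullback.fst f u = pullback.fst fK jK ≫ pullback.fst f a :=
    pullback.lift_fst _ _ _
  have hθ2 : θ ≫ fR = pullback.snd fK jK ≫ j := pullback.lift_snd _ _ _
  have sq : IsPullback θ (pullback.snd fK jK) fR j := by
    refine IsPullback.of_right ?_ hθ2 (IsPullback.of_hasPullback f u)
    rw [hθ1]
    exact big
  haveI : IsOpenImmersion θ :=
    MorphismProperty.of_isPullback (P := @IsOpenImmersion) sq.flip inferInstance
  -- sections
  let σ' : Spec (CommRingCat.of R') ⟶ pullback f u :=
    pullback.lift (u ≫ σ) (𝟙 _) (by rw [Category.assoc, hσ, Category.comp_id, Category.id_comp])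
  have hσ'1 : σ' ≫ pullback.fst f u = u ≫ σ := pullback.lift_fst _ _ _
  have hσ'2 : σ' ≫ fR = 𝟙 _ := pullback.lift_snd _ _ _
  let σ'' : Spec (CommRingCat.of k') ⟶ pullback fK jK :=
    pullback.lift (jK ≫ σK) (𝟙 _) (by rw [Category.assoc, hσK2, Category.comp_id, Category.id_comp])
  have hσ''1 : σ'' ≫ pullback.fst fK jK = jK ≫ σK := pullback.lift_fst _ _ _
  have hσ''2 : σ'' ≫ pullback.snd fK jK = 𝟙 _ := pullback.lift_snd _ _ _
  have hcompat : σ'' ≫ θ = j ≫ σ' := by
    apply pullback.hom_ext
    · rw [Category.assoc, hθ1, ← Category.assoc, hσ''1, Category.assoc, hσK1, Category.assoc,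
        hσ'1, ← Category.assoc, ← Category.assoc, hcomp]
    · show (σ'' ≫ θ) ≫ fR = (j ≫ σ') ≫ fR
      rw [Category.assoc, hθ2, ← Category.assoc, hσ''2, Category.id_comp, Category.assoc, hσ'2,
        Category.comp_id]
  let pt' : Spec (CommRingCat.of k') := IsLocalRing.closedPoint k'
  -- the point `x'` is the image of the section
  have hx'eq : x' = σ'' pt' := by
    apply (Groth.Agent.Lib.Helper11.PurInsep.isHomeomorph_bcπ fK k').injective
    rw [hx']
    show ξK = (pullback.fst fK jK) (σ'' pt')
    rw [← Scheme.Hom.comp_apply, hσ''1, Scheme.Hom.comp_apply]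
    show σK pt = σK (jK pt')
    congr 1
    exact Subsingleton.elim (α := PrimeSpectrum K) _ _
  -- reducedness at the image point
  have hx''cl : fR (σ' (IsLocalRing.closedPoint R')) = IsLocalRing.closedPoint R' := by
    rw [← Scheme.Hom.comp_apply, hσ'2]
    rfl
  have hred1 : _root_.IsReduced ((pullback f u).presheaf.stalk (σ' (IsLocalRing.closedPoint R'))) :=
    Groth.Agent.Lib.Helper1.DVRFib.isReduced_stalk_of_closedPoint fR hred _ hx''cl
  have hsp : σ' (j pt') ⤳ σ' (IsLocalRing.closedPoint R') :=
    (IsLocalRing.specializes_closedPoint (R := R') (j pt')).map σ'.continuous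
  have hred2 : _root_.IsReduced ((pullback f u).presheaf.stalk (σ' (j pt'))) :=
    Groth.Agent.Lib.Helper1.DVRFib.isReduced_stalk_of_specializes hsp hred1
  have hθx : θ (σ'' pt') = σ' (j pt') := by
    rw [← Scheme.Hom.comp_apply, hcompat, Scheme.Hom.comp_apply]
  rw [← hθx] at hred2
  rw [hx'eq]
  have hinj : Function.Injective (inv (θ.stalkMap (σ'' pt'))).hom :=
    (asIso (inv (θ.stalkMap (σ'' pt')))).commRingCatIsoToRingEquiv.injective
  exact isReduced_of_injective (inv (θ.stalkMap (σ'' pt'))).hom hinj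

end Groth.Agent.Lib.Helper12.GeomRedPtDvr
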