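import Mathlib
import Groth.Agent.Lib.Helper12.GeomRedPtDvr
import Groth.Agent.Lib.Helper12.ClosedSub
import Groth.Agent.Lib.Helper11.Birat9
import Groth.Agent.Lib.Helper7.ConstrNoeth

/-!
# Openness of the locus where the fibre is geometrically reduced at the point: Noetherian case
(helper12)
-/

set_option autoImplicit false
set_option linter.style.haveILetI false
universe u
open AlgebraicGeometry CategoryTheory Limits Topology

namespace Groth.Agent.Lib.Helper12.GeomRedPtNoeth

open Groth.Agent.Lib.Helper14.GeomRedAt Groth.Agent.Lib.Helper12.GeomRedPt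
open Groth.Agent.Lib.Helper12.GeomRedGen Groth.Agent.Lib.Helper12.GeomRedOpen
open Groth.Agent.Lib.Helper12.GeomRedPtDvr Groth.Agent.Lib.Helper12.ClosedSub

section dvr

variable {R : Type u} [CommRing R] [IsDomain R] [IsDiscreteValuationRing R] {X : Scheme.{u}}

/-- over a DVR the locus `W` is stable under generization along a section -/
theorem mem_W_generic_of_section (f : X ⟶ Spec (CommRingCat.of R)) [Flat f]
    [LocallyOfFiniteType f] (σ : Spec (CommRingCat.of R) ⟶ X) (hσ : σ ≫ f = 𝟙 _)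
    (hcl : σ (IsLocalRing.closedPoint R : PrimeSpectrum R) ∈ W f) :
    σ (⟨⊥, Ideal.isPrime_bot⟩ : PrimeSpectrum R) ∈ W f := by
  obtain ⟨U, hxU, hE⟩ := exists_opens_mem_E f _ hcl
  have hfs : f (σ (IsLocalRing.closedPoint R : PrimeSpectrum R)) =
      (IsLocalRing.closedPoint R : PrimeSpectrum R) := by
    rw [← Scheme.Hom.comp_apply, hσ]
    rfl
  rw [hfs] at hE
  have hrange : Set.range σ ⊆ Set.range U.ι := by
    rw [Scheme.Opens.range_ι]
    rintro _ ⟨t, rfl⟩
    have hopen : IsOpen (σ ⁻¹' (U : Set X)) := U.isOpen.preimage σ.continuous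
    exact (IsLocalRing.specializes_closedPoint (R := R) t).mem_open hopen hxU
  let σU := IsOpenImmersion.lift U.ι σ hrange
  have hσU : σU ≫ U.ι = σ := IsOpenImmersion.lift_fac _ _ _
  have h1 := mem_W_generic_of_mem_E (U.ι ≫ f) σU (by rw [← Category.assoc, hσU, hσ]) hE
  rw [mem_W_comp_iff] at h1
  rwa [← Scheme.Hom.comp_apply, hσU] at h1

end dvr

section noeth

variable {X Y : Scheme.{u}}

/-- **generization**: on a locally Noetherian source the locus `W` of a flat morphism is stable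
under generization -/
theorem mem_W_of_specializes [IsLocallyNoetherian X] (f : X ⟶ Y) [Flat f]
    [LocallyOfFiniteType f] {x ξ : X} (h : ξ ⤳ x) (hx : x ∈ W f) : ξ ∈ W f := by
  by_cases hne : ξ = x
  · rw [hne]; exact hx
  obtain ⟨R, _, _, _, u, hu1, hu2⟩ :=
    Groth.Agent.Lib.Helper11.Birat9.exists_dvr_of_specializes h hne
  let g := u ≫ f
  let fR := pullback.snd f g
  have sq : IsPullback (pullback.fst f g) fR f g := IsPullback.of_hasPullback f g
  let σ : Spec (CommRingCat.of R) ⟶ pullback f g :=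
    pullback.lift u (𝟙 _) (by rw [Category.id_comp])
  have hσ1 : σ ≫ pullback.fst f g = u := pullback.lift_fst _ _ _
  have hσ2 : σ ≫ fR = 𝟙 _ := pullback.lift_snd _ _ _
  have h1 : σ (IsLocalRing.closedPoint R : PrimeSpectrum R) ∈ W fR := by
    rw [mem_W_iff_of_isPullback sq, ← Scheme.Hom.comp_apply, hσ1, hu1]
    exact hx
  have h2 := mem_W_generic_of_section fR σ hσ2 h1
  rw [mem_W_iff_of_isPullback sq, ← Scheme.Hom.comp_apply, hσ1] at h2
  have h3 : u (⟨⊥, Ideal.isPrime_bot⟩ : PrimeSpectrum R) = ξ := by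
    have h4 := hu2 (IsLocalRing.closedPoint (FractionRing R))
    rw [Scheme.Hom.comp_apply] at h4
    rw [← h4]
    congr 1
    apply PrimeSpectrum.ext
    symm
    show Ideal.comap (algebraMap R (FractionRing R)) (IsLocalRing.maximalIdeal (FractionRing R)) = ⊥
    rw [IsLocalRing.maximalIdeal_eq_bot, ← RingHom.ker_eq_comap_bot,
      (RingHom.injective_iff_ker_eq_bot _).1 (IsFractionRing.injective R (FractionRing R))]
  rwa [h3] at h2

/-- the locus `W` contains a relative neighbourhood (in the closure) of each of its points -/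
theorem exists_open_inter_closure_subset_W [IsLocallyNoetherian X] (f : X ⟶ Y)
    [LocallyOfFiniteType f] [QuasiCompact f] (x : X) (hx : x ∈ W f) :
    ∃ U : Set X, IsOpen U ∧ x ∈ U ∧ U ∩ closure {x} ⊆ W f := by
  obtain ⟨y, hy⟩ : ∃ y : Y, y = f x := ⟨_, rfl⟩
  let i := clSubι Y y
  let f' := pullback.snd f i
  let p₁ := pullback.fst f i
  have sq : IsPullback p₁ f' f i := IsPullback.of_hasPullback f i
  haveI : IsClosedImmersion p₁ := MorphismProperty.pullback_fst _ _ inferInstance
  obtain ⟨x', hx'⟩ : ∃ x', p₁ x' = x := by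
    have : x ∈ Set.range p₁ := by
      rw [Scheme.Pullback.range_fst, range_clSubι]
      show f x ∈ closure {y}
      rw [← hy]
      exact subset_closure rfl
    exact this
  have hx'W : x' ∈ W f' := by
    rw [mem_W_iff_of_isPullback sq, hx']; exact hx
  have hgen : f' x' = genericPoint (clSub Y y) := by
    apply (clSubι Y y).isEmbedding.injective
    rw [clSubι_genericPoint]
    show (f' ≫ i) x' = y
    rw [← sq.w, Scheme.Hom.comp_apply, hx', hy]
  haveI : IsLocallyNoetherian (pullback f i) := LocallyOfFiniteType.isLocallyNoetherian p₁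
  obtain ⟨U', hxU', hE⟩ := exists_opens_mem_E f' x' hx'W
  rw [hgen] at hE
  obtain ⟨V, hVne, hV⟩ := geomRed_near_generic (U'.ι ≫ f') hE
  have hU''W : ∀ z' : ↥(pullback f i), z' ∈ U' → f' z' ∈ V → z' ∈ W f' := by
    intro z' hz1 hz2
    have h1 : (⟨z', hz1⟩ : U') ∈ W (U'.ι ≫ f') := mem_W_of_mem_E _ _ (hV _ hz2)
    exact (mem_W_comp_iff U'.ι f' ⟨z', hz1⟩).1 h1
  have hopen : IsOpen ((U' : Set ↥(pullback f i)) ∩ f' ⁻¹' (V : Set ↥(clSub Y y))) :=
    U'.isOpen.inter (V.isOpen.preimage f'.continuous)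
  obtain ⟨U, hU, hUeq⟩ := p₁.isEmbedding.isInducing.isOpen_iff.mp hopen
  have hx'V : f' x' ∈ V := by
    rw [hgen]
    obtain ⟨v, hv⟩ := hVne
    exact (genericPoint_specializes v).mem_open V.isOpen hv
  refine ⟨U, hU, ?_, ?_⟩
  · have : x' ∈ p₁ ⁻¹' U := by
      rw [hUeq]; exact ⟨hxU', hx'V⟩
    rw [← hx']
    exact this
  · rintro z ⟨hzU, hzc⟩
    have hzr : z ∈ Set.range p₁ :=
      (p₁.isClosedEmbedding.isClosed_range.closure_subset_iff.2
        (Set.singleton_subset_iff.2 ⟨x', hx'⟩)) hzc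
    obtain ⟨z', rfl⟩ := hzr
    have hz' : z' ∈ p₁ ⁻¹' U := hzU
    rw [hUeq] at hz'
    exact (mem_W_iff_of_isPullback sq z').1 (hU''W z' hz'.1 hz'.2)

/-- **Noetherian case**: the locus `W` of a flat morphism of finite type is open -/
theorem isOpen_W_of_isNoetherian [IsNoetherian X] (f : X ⟶ Y) [Flat f] [LocallyOfFiniteType f]
    [QuasiCompact f] : IsOpen (W f) := by
  rw [Groth.Agent.Lib.Helper7.ConstrNoeth.isOpen_iff_forall_irreducible_closed]
  rintro Z hZc hZi ⟨x, hxW, hxZ⟩
  obtain ⟨ξ, hξ⟩ := QuasiSober.sober hZi hZc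
  have hξx : ξ ⤳ x := hξ.specializes hxZ
  have hξW := mem_W_of_specializes f hξx hxW
  obtain ⟨U, hU, hξU, hUW⟩ := exists_open_inter_closure_subset_W f ξ hξW
  refine ⟨U, hU, ⟨ξ, hξU, hξ.mem⟩, ?_⟩
  rw [← hξ.def]
  exact hUW

end noeth

end Groth.Agent.Lib.Helper12.GeomRedPtNoeth
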