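import Mathlib
import Groth.Agent.Lib.Helper12.GeomRedPtNoeth
import Groth.Agent.Lib.Helper12.FlatProperApprox

/-!
# Openness of the locus where the fibre is geometrically reduced at the point (helper12)
-/

set_option autoImplicit false
set_option linter.style.haveILetI false
set_option backward.isDefEq.respectTransparency false
universe u
open AlgebraicGeometry CategoryTheory Limits Topology

namespace Groth.Agent.Lib.Helper12.GeomRedPtMain

open Groth.Agent.Lib.Helper12.GeomRedPt Groth.Agent.Lib.Helper12.GeomRedPtNoeth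
open Groth.Agent.Lib.Helper12.ConsPropGen Groth.Agent.Lib.Helper12.FpDesc
  Groth.Agent.Lib.Helper12.ConsPairGen Groth.Agent.Lib.Helper12.StratQBC
  Groth.Agent.Lib.Helper12.FlatProperApprox

/-- **Noetherian approximation of a flat morphism of finite presentation** over an affine
open of a scheme. -/
theorem exists_model_flat {Y : Scheme.{u}} (V : Y.Opens) (hV : IsAffineOpen V) {X : Scheme.{u}}
    (h : X ⟶ V.toScheme) [Flat h] [LocallyOfFinitePresentation h] [QuasiCompact h]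
    [QuasiSeparated h] :
    ∃ (S₀ X₀ : Scheme.{u}) (f₀ : X₀ ⟶ S₀) (g : V.toScheme ⟶ S₀) (g' : X ⟶ X₀),
      IsAffine S₀ ∧ IsNoetherian S₀ ∧ IsPullback g' h f₀ g ∧ Flat f₀ ∧
        LocallyOfFinitePresentation f₀ ∧ QuasiCompact f₀ := by
  obtain ⟨J, _, _, 𝔇, π, hπ, haff, hnoeth⟩ := exists_noetherian_limit V hV
  haveI := haff
  haveI : ∀ {i j : J} (a : i ⟶ j), IsAffineHom (𝔇.map a) := fun a => inferInstance
  haveI : ∀ (i j : J) (a : i ⟶ j), IsAffineHom (𝔇.map a) := fun _ _ a => inferInstance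
  obtain ⟨i₁, X₁, x₁, qX₁, _, _, _, sq₁⟩ := descends_of_fp (D := 𝔇) (c := Cone.mk _ π) hπ h
  obtain ⟨i₃, φ₃, hflat⟩ := exists_stage_of_descendsLim descendsLim_flat hπ h
    (inferInstance : Flat h) x₁ qX₁ sq₁
  have sq₃ := isPullback_restage (c := Cone.mk _ π) φ₃ sq₁ (restage_w φ₃ sq₁)
  haveI := hnoeth i₃
  exact ⟨𝔇.obj i₃, _, pullback.snd x₁ (𝔇.map φ₃), π.app i₃, _, haff i₃, hnoeth i₃, sq₃, hflat,
    inferInstance, inferInstance⟩

/-- compatibility of `W` with restriction to opens of source and target -/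
theorem preimage_W_resLE {X Y : Scheme.{u}} (f : X ⟶ Y) (V : Y.Opens) (U : X.Opens)
    (e : U ≤ f ⁻¹ᵁ V) : W (f.resLE V U e) = U.ι ⁻¹' W f := by
  have h1 : W (f ∣_ V) = (f ⁻¹ᵁ V).ι ⁻¹' W f :=
    preimage_W_of_isPullback (isPullback_morphismRestrict f V).flip
  have h2 : W (X.homOfLE e ≫ f ∣_ V) = (X.homOfLE e) ⁻¹' W (f ∣_ V) :=
    preimage_W_comp (X.homOfLE e) (f ∣_ V)
  show W (X.homOfLE e ≫ f ∣_ V) = _
  rw [h2, h1, ← Set.preimage_comp]
  congr 1
  ext u
  show ((X.homOfLE e) ≫ (f ⁻¹ᵁ V).ι) u = U.ι u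
  rw [Scheme.homOfLE_ι]

/-- **Main theorem**: for a flat morphism locally of finite presentation the set of points at
which the fibre is geometrically reduced is open. -/
theorem isOpen_W {X Y : Scheme.{u}} (f : X ⟶ Y) [Flat f] [LocallyOfFinitePresentation f] :
    IsOpen (W f) := by
  rw [isOpen_iff_forall_mem_open]
  intro x hx
  obtain ⟨_, ⟨V, hV, rfl⟩, hyV, -⟩ :=
    Y.isBasis_affineOpens.exists_subset_of_mem_open (Set.mem_univ (f x)) isOpen_univ
  obtain ⟨V, rfl⟩ : ∃ V' : Y.Opens, V' = V := ⟨V, rfl⟩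
  obtain ⟨_, ⟨U, hU, rfl⟩, hxU, hUV⟩ :=
    X.isBasis_affineOpens.exists_subset_of_mem_open (show x ∈ (f ⁻¹ᵁ V : Set X) from hyV)
      (f ⁻¹ᵁ V).isOpen
  obtain ⟨U, rfl⟩ : ∃ U' : X.Opens, U' = U := ⟨U, rfl⟩
  have e : U ≤ f ⁻¹ᵁ V := hUV
  haveI : IsAffine U.toScheme := hU
  haveI : IsAffine V.toScheme := hV
  let h : U.toScheme ⟶ V.toScheme := f.resLE V U e
  obtain ⟨S₀, X₀, f₀, g, g', hS₀, hN, hsq, _, _, _⟩ := exists_model_flat V hV h
  haveI : IsLocallyNoetherian X₀ := LocallyOfFiniteType.isLocallyNoetherian f₀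
  haveI : CompactSpace X₀ := QuasiCompact.compactSpace_of_compactSpace f₀
  haveI : IsNoetherian X₀ := ⟨⟩
  have h1 : IsOpen (W f₀) := isOpen_W_of_isNoetherian f₀
  have h2 : W h = g' ⁻¹' W f₀ := preimage_W_of_isPullback hsq
  have h3 : W h = U.ι ⁻¹' W f := preimage_W_resLE f V U e
  have h4 : IsOpen (W h) := by
    rw [h2]; exact h1.preimage g'.continuous
  refine ⟨U.ι '' W h, ?_, U.ι.isOpenEmbedding.isOpenMap _ h4, ?_⟩
  · rintro _ ⟨u, hu, rfl⟩
    rw [h3] at hu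
    exact hu
  · refine ⟨⟨x, hxU⟩, ?_, rfl⟩
    rw [h3]
    exact hx

end Groth.Agent.Lib.Helper12.GeomRedPtMain
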