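import Mathlib
import Groth.Agent.Lib.Helper12.GeomRedPtMain
import Groth.Agent.Lib.Helper12.FlatReducedAlg

/-!
# Reducedness of the local ring of the source of a flat morphism with geometrically reduced fibre
(helper12)
-/

set_option autoImplicit false
set_option linter.style.haveILetI false
universe u
open AlgebraicGeometry CategoryTheory Limits Topology
open scoped TensorProduct

namespace Groth.Agent.Lib.Helper12.GeomRedPtStalk

open Groth.Agent.Lib.Helper14.GeomRedAt Groth.Agent.Lib.Helper12.GeomRedPt
open Groth.Agent.Lib.Helper12.GeomRedPtMain Groth.Agent.Lib.Helper12.FlatReducedAlg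

/-- cancelling a monomorphism in the cospan of a pullback square -/
lemma isPullback_of_comp_mono {C : Type*} [Category C] {P X Y Z T : C} {p1 : P ⟶ X} {p2 : P ⟶ Y}
    {a : X ⟶ Z} {b : Y ⟶ Z} (m : Z ⟶ T) [Mono m] (h : IsPullback p1 p2 (a ≫ m) (b ≫ m)) :
    IsPullback p1 p2 a b := by
  have w : p1 ≫ a = p2 ≫ b := by
    rw [← cancel_mono m, Category.assoc, Category.assoc]
    exact h.w
  refine ⟨⟨w⟩, ⟨PullbackCone.IsLimit.mk _
    (fun s => h.lift s.fst s.snd (by rw [← Category.assoc, s.condition, Category.assoc]))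
    (fun s => h.lift_fst _ _ _) (fun s => h.lift_snd _ _ _)
    (fun s l h1 h2 => h.hom_ext (by rw [h1, h.lift_fst]) (by rw [h2, h.lift_snd]))⟩⟩

/-- geometric reducedness at a point implies reducedness of the local ring -/
theorem isReduced_stalk_of_isGeomReducedAt {k : Type u} [Field k] {Z : Scheme.{u}}
    (h : Z ⟶ Spec (CommRingCat.of k)) (z : Z) (hz : FBase.IsGeomReducedAt h z) :
    _root_.IsReduced (Z.presheaf.stalk z) := by
  let ψ : Z ⟶ FBase.bc h k := inv (FBase.bcπ h k)
  have hψ : ψ ≫ FBase.bcπ h k = 𝟙 Z := IsIso.inv_hom_id _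
  have h1 : (FBase.bcπ h k) (ψ z) = z := by
    rw [← Scheme.Hom.comp_apply, hψ]; rfl
  have h2 := hz k (ψ z) h1
  have hinj : Function.Injective (inv (ψ.stalkMap z)).hom :=
    (asIso (inv (ψ.stalkMap z))).commRingCatIsoToRingEquiv.injective
  exact isReduced_of_injective (inv (ψ.stalkMap z)).hom hinj

variable {X Y : Scheme.{u}}

set_option backward.isDefEq.respectTransparency false in
/-- all field-valued fibres of the local homomorphism at a point of `W` are reduced -/
theorem isReduced_tensor_stalk (f : X ⟶ Y) [Flat f] [LocallyOfFinitePresentation f] (x : X)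
    (hx : x ∈ W f) [Algebra (Y.presheaf.stalk (f x)) (X.presheaf.stalk x)]
    (hAC : algebraMap (Y.presheaf.stalk (f x)) (X.presheaf.stalk x) = (f.stalkMap x).hom)
    (K : Type u) [Field K] [Algebra (Y.presheaf.stalk (f x)) K] :
    _root_.IsReduced (K ⊗[Y.presheaf.stalk (f x)] X.presheaf.stalk x) := by
  let m := Y.fromSpecStalk (f x)
  let j := X.fromSpecStalk x
  let uC : Spec (X.presheaf.stalk x) ⟶ Spec (Y.presheaf.stalk (f x)) :=
    Spec.map (CommRingCat.ofHom (algebraMap (Y.presheaf.stalk (f x)) (X.presheaf.stalk x)))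
  let vK : Spec (CommRingCat.of K) ⟶ Spec (Y.presheaf.stalk (f x)) :=
    Spec.map (CommRingCat.ofHom (algebraMap (Y.presheaf.stalk (f x)) K))
  have huC : uC ≫ m = j ≫ f := by
    have h00 : CommRingCat.ofHom
        (algebraMap (Y.presheaf.stalk (f x)) (X.presheaf.stalk x)) = f.stalkMap x := by
      rw [hAC]
      rfl
    have h0 : uC = Spec.map (f.stalkMap x) := by
      simp only [uC, h00]
    rw [h0]
    exact Scheme.SpecMap_stalkMap_fromSpecStalk f
  let a := vK ≫ m
  let q := pullback.fst f a
  let h := pullback.snd f a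
  have sqK : IsPullback q h f a := IsPullback.of_hasPullback f a
  have h1 : IsPullback (pullback.fst q j) (pullback.snd q j) q j := IsPullback.of_hasPullback q j
  have h3 := (h1.paste_horiz sqK.flip).flip
  rw [← huC] at h3
  have h4 : IsPullback (pullback.snd q j) (pullback.fst q j ≫ h) uC vK :=
    isPullback_of_comp_mono m h3
  let e := h4.isoPullback ≪≫
    pullbackSpecIso (Y.presheaf.stalk (f x)) (X.presheaf.stalk x) K
  have hW : IsOpen (W f) := isOpen_W f
  haveI : ∀ w : ↥(pullback q j), _root_.IsReduced ((pullback q j).presheaf.stalk w) := by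
    intro w
    apply isReduced_stalk_of_flat_of_surjectiveOnStalks (pullback.fst q j) w
    obtain ⟨z, hz⟩ : ∃ z, z = (pullback.fst q j) w := ⟨_, rfl⟩
    rw [← hz]
    have hz1 : q z = j ((pullback.snd q j) w) := by
      rw [hz, ← Scheme.Hom.comp_apply, ← Scheme.Hom.comp_apply, pullback.condition]
    have hsp : q z ⤳ x := by
      have h2 : j ((pullback.snd q j) w) ∈ Set.range j := ⟨_, rfl⟩
      rw [Scheme.range_fromSpecStalk] at h2
      rw [hz1]; exact h2
    have hqz : q z ∈ W f := hsp.mem_open hW hx
    have hzW : z ∈ W h := (mem_W_iff_of_isPullback sqK z).2 hqz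
    have hgr : FBase.IsGeomReducedAt h z := (mem_W_field_iff h z).1 hzW
    exact isReduced_stalk_of_isGeomReducedAt h z hgr
  haveI : IsReduced (pullback q j) := isReduced_of_isReduced_stalk _
  haveI : IsReduced (Spec (CommRingCat.of
      ((X.presheaf.stalk x) ⊗[Y.presheaf.stalk (f x)] K))) :=
    isReduced_of_isOpenImmersion e.inv
  have h5 : _root_.IsReduced ((X.presheaf.stalk x) ⊗[Y.presheaf.stalk (f x)] K) :=
    (affine_isReduced_iff (CommRingCat.of _)).mp this
  exact isReduced_of_injective
    (Algebra.TensorProduct.comm (Y.presheaf.stalk (f x)) K (X.presheaf.stalk x)).toRingEquiv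
    (RingEquiv.injective _)

/-- **Reducedness of the local ring of the source** -/
theorem isReduced_stalk_of_mem_W (f : X ⟶ Y) [Flat f] [LocallyOfFinitePresentation f] (x : X)
    (hy : _root_.IsReduced (Y.presheaf.stalk (f x))) (hx : x ∈ W f) :
    _root_.IsReduced (X.presheaf.stalk x) := by
  letI : Algebra (Y.presheaf.stalk (f x)) (X.presheaf.stalk x) := (f.stalkMap x).hom.toAlgebra
  haveI : Module.Flat (Y.presheaf.stalk (f x)) (X.presheaf.stalk x) := Flat.stalkMap f x
  apply isReduced_of_flat_of_forall_field (A := Y.presheaf.stalk (f x))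
  intro K _ _
  exact isReduced_tensor_stalk f x hx rfl K

end Groth.Agent.Lib.Helper12.GeomRedPtStalk
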