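import Mathlib

set_option autoImplicit false
universe u
open Polynomial DirectSum

namespace Groth.Agent.Lib.Helper12.GrNorm

variable {k : Type u} [Field k] {G : Type u} [CommRing G] [Algebra k G]
  (𝒢 : ℕ → Submodule k G) [GradedAlgebra 𝒢]

/-- The coaction `G → G[X]`, `g_d ↦ g_d X^d`. -/
noncomputable def coact : G →+* G[X] :=
  (DirectSum.toSemiring (fun i => (monomial i : G →ₗ[G] G[X]).toAddMonoidHom.comp
      (𝒢 i).subtype.toAddMonoidHom)
    (by
      show monomial 0 (1 : G) = 1
      rfl)
    (by
      intro i j ai aj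
      show monomial (i + j) ((ai : G) * (aj : G)) = monomial i (ai : G) * monomial j (aj : G)
      rw [monomial_mul_monomial])).comp (decomposeRingEquiv 𝒢).toRingHom

theorem coact_of_mem {d : ℕ} {g : G} (hg : g ∈ 𝒢 d) : coact 𝒢 g = monomial d g := by
  unfold coact
  have h1 : (decomposeRingEquiv 𝒢) g = decompose 𝒢 g := rfl
  simp only [RingHom.comp_apply, RingEquiv.toRingHom_eq_coe, RingHom.coe_coe]
  rw [h1, DirectSum.decompose_of_mem 𝒢 hg, DirectSum.toSemiring_of]
  rfl

theorem coact_coeff (g : G) (d : ℕ) : (coact 𝒢 g).coeff d = (decompose 𝒢 g d : G) := by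
  induction g using DirectSum.Decomposition.inductionOn 𝒢 with
  | zero => simp
  | @homogeneous i m =>
    rw [coact_of_mem 𝒢 m.2, coeff_monomial, DirectSum.decompose_coe, DirectSum.of_apply]
    split_ifs with h
    · subst h; rfl
    · rfl
  | add a b ha hb =>
    rw [map_add, coeff_add, ha, hb, DirectSum.decompose_add, DirectSum.add_apply]
    rfl

theorem eval_one_coact (g : G) : (coact 𝒢 g).eval 1 = g := by
  induction g using DirectSum.Decomposition.inductionOn 𝒢 with
  | zero => simp
  | @homogeneous i m =>
    rw [coact_of_mem 𝒢 m.2, eval_monomial, one_pow, mul_one]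
  | add a b ha hb =>
    rw [map_add, eval_add, ha, hb]

theorem coact_injective : Function.Injective (coact 𝒢) := by
  intro a b hab
  rw [← eval_one_coact 𝒢 a, ← eval_one_coact 𝒢 b, hab]

section frac

variable [IsDomain G] (L : Type u) [Field L] [Algebra G L] [IsFractionRing G L]

/-- `G → L[X]`. -/
noncomputable def theta : G →+* L[X] := (mapRingHom (algebraMap G L)).comp (coact 𝒢)

theorem theta_injective : Function.Injective (theta 𝒢 L) := by
  intro a b hab
  apply coact_injective 𝒢
  exact map_injective _ (IsFractionRing.injective G L) hab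

/-- `G → Frac L[X]`. -/
noncomputable def psi : G →+* FractionRing L[X] :=
  (algebraMap L[X] (FractionRing L[X])).comp (theta 𝒢 L)

theorem psi_injective : Function.Injective (psi 𝒢 L) := by
  intro a b hab
  apply theta_injective 𝒢 L
  exact IsFractionRing.injective L[X] (FractionRing L[X]) hab

/-- The extension `L → Frac L[X]`. -/
noncomputable def Phi : L →+* FractionRing L[X] := IsFractionRing.lift (psi_injective 𝒢 L)

theorem Phi_algebraMap (g : G) : Phi 𝒢 L (algebraMap G L g) = psi 𝒢 L g :=
  IsFractionRing.lift_algebraMap _ g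

theorem Phi_comp : (Phi 𝒢 L).comp (algebraMap G L) =
    (algebraMap L[X] (FractionRing L[X])).comp (theta 𝒢 L) := by
  ext g
  exact Phi_algebraMap 𝒢 L g

theorem exists_poly (y : L) (hy : IsIntegral G y) :
    ∃ q : L[X], algebraMap L[X] (FractionRing L[X]) q = Phi 𝒢 L y := by
  have hint : IsIntegral L[X] (Phi 𝒢 L y) := by
    obtain ⟨p, hp, hpy⟩ := hy
    refine ⟨p.map (theta 𝒢 L), hp.map _, ?_⟩
    rw [eval₂_map, ← Phi_comp, ← hom_eval₂, hpy, map_zero]
  exact IsIntegrallyClosed.isIntegral_iff.1 hint

/-- The polynomial attached to an integral element. -/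
noncomputable def phiT (y : integralClosure G L) : L[X] :=
  Classical.choose (exists_poly 𝒢 L (y : L) y.2)

theorem phiT_spec (y : integralClosure G L) :
    algebraMap L[X] (FractionRing L[X]) (phiT 𝒢 L y) = Phi 𝒢 L (y : L) :=
  Classical.choose_spec (exists_poly 𝒢 L (y : L) y.2)

/-- `phiT` as a ring hom. -/
noncomputable def phiR : integralClosure G L →+* L[X] where
  toFun := phiT 𝒢 L
  map_one' := by
    apply IsFractionRing.injective L[X] (FractionRing L[X])
    rw [phiT_spec, map_one]
    simp
  map_mul' a b := by
    apply IsFractionRing.injective L[X] (FractionRing L[X])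
    rw [phiT_spec, map_mul, phiT_spec, phiT_spec]
    simp
  map_zero' := by
    apply IsFractionRing.injective L[X] (FractionRing L[X])
    rw [phiT_spec, map_zero]
    simp
  map_add' a b := by
    apply IsFractionRing.injective L[X] (FractionRing L[X])
    rw [phiT_spec, map_add, phiT_spec, phiT_spec]
    simp

theorem phiR_spec (y : integralClosure G L) :
    algebraMap L[X] (FractionRing L[X]) (phiR 𝒢 L y) = Phi 𝒢 L (y : L) := phiT_spec 𝒢 L y

theorem phiR_algebraMap (g : G) :
    phiR 𝒢 L (algebraMap G (integralClosure G L) g) = theta 𝒢 L g := by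
  apply IsFractionRing.injective L[X] (FractionRing L[X])
  rw [phiR_spec]
  exact Phi_algebraMap 𝒢 L g

attribute [local instance] Polynomial.algebra

theorem isIntegral_coeff_phiR (y : integralClosure G L) (n : ℕ) :
    IsIntegral G ((phiR 𝒢 L y).coeff n) := by
  have hy : IsIntegral G y := Algebra.IsIntegral.isIntegral y
  have hint : IsIntegral G[X] (phiR 𝒢 L y) := by
    obtain ⟨p, hp, hpy⟩ := hy
    refine ⟨p.map (coact 𝒢), hp.map _, ?_⟩
    have hcomp : (phiR 𝒢 L).comp (algebraMap G (integralClosure G L)) =
        (algebraMap G[X] L[X]).comp (coact 𝒢) := by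
      ext g : 1
      exact phiR_algebraMap 𝒢 L g
    rw [eval₂_map, ← hcomp, ← hom_eval₂, hpy, map_zero]
  exact hint.coeff n

/-- Two ring homs out of the integral closure agreeing on `G` agree. -/
theorem hom_ext_of_agree {D : Type*} [CommRing D] [IsDomain D]
    (α β : integralClosure G L →+* D)
    (h : ∀ g : G, α (algebraMap G (integralClosure G L) g) = β (algebraMap G (integralClosure G L) g))
    (hinj : ∀ g : G, g ≠ 0 → α (algebraMap G (integralClosure G L) g) ≠ 0) : α = β := by
  ext y
  obtain ⟨⟨a, s⟩, has⟩ := IsLocalization.surj (nonZeroDivisors G) (y : L)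
  have hs : (s : G) ≠ 0 := nonZeroDivisors.ne_zero s.2
  have hy : y * algebraMap G (integralClosure G L) s = algebraMap G (integralClosure G L) a := by
    apply Subtype.ext
    exact has
  have h1 := congrArg α hy
  have h2 := congrArg β hy
  rw [map_mul] at h1 h2
  rw [← h a, ← h1, h s] at h2
  have h3 : (β y - α y) * β (algebraMap G (integralClosure G L) s) = 0 := by
    rw [sub_mul, h2, sub_self]
  rcases mul_eq_zero.1 h3 with h4 | h4
  · exact (sub_eq_zero.1 h4).symm
  · exact absurd h4 (by rw [← h s]; exact hinj s hs)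

theorem eval_one_phiR (y : integralClosure G L) : (phiR 𝒢 L y).eval 1 = (y : L) := by
  have := hom_ext_of_agree L ((evalRingHom (1 : L)).comp (phiR 𝒢 L))
    (algebraMap (integralClosure G L) L) (by
      intro g
      rw [RingHom.comp_apply, phiR_algebraMap]
      show ((coact 𝒢 g).map (algebraMap G L)).eval 1 = algebraMap G L g
      rw [← map_one (algebraMap G L), eval_map_apply, eval_one_coact]) (by
      intro g hg
      rw [RingHom.comp_apply, phiR_algebraMap]
      show ((coact 𝒢 g).map (algebraMap G L)).eval 1 ≠ 0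
      rw [← map_one (algebraMap G L), eval_map_apply, eval_one_coact]
      exact fun h0 => hg (IsFractionRing.injective G L (by rw [h0, map_zero])))
  exact congrArg (fun f => f y) this

/-- substitution `Y ↦ X * Y` with coefficients pushed to constants. -/
noncomputable def sigma : L[X] →+* (FractionRing L[X])[X] :=
  eval₂RingHom (C.comp ((algebraMap L[X] (FractionRing L[X])).comp C))
    (C (algebraMap L[X] (FractionRing L[X]) X) * X)

omit [IsDomain G] in
theorem sigma_monomial (j : ℕ) (c : L) :
    sigma L (monomial j c) = monomial j (algebraMap L[X] (FractionRing L[X]) (monomial j c)) := by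
  unfold sigma
  rw [coe_eval₂RingHom, eval₂_monomial, mul_pow, ← C_pow, ← mul_assoc]
  simp only [RingHom.comp_apply]
  rw [← C_mul, ← map_pow, ← map_mul, C_mul_X_pow_eq_monomial, C_mul_X_pow_eq_monomial]

omit [IsDomain G] in
theorem sigma_coeff (q : L[X]) (n : ℕ) :
    (sigma L q).coeff n = algebraMap L[X] (FractionRing L[X]) (monomial n (q.coeff n)) := by
  induction q using Polynomial.induction_on' with
  | add p q hp hq => rw [map_add, coeff_add, hp, hq, coeff_add, map_add, map_add]
  | monomial j c =>
    rw [sigma_monomial, coeff_monomial, coeff_monomial]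
    split_ifs with h
    · subst h; rfl
    · simp

theorem map_Phi_theta (g : G) :
    (theta 𝒢 L g).map (Phi 𝒢 L) = sigma L (theta 𝒢 L g) := by
  induction g using DirectSum.Decomposition.inductionOn 𝒢 with
  | zero => simp
  | @homogeneous i m =>
    have h1 : theta 𝒢 L (m : G) = monomial i (algebraMap G L (m : G)) := by
      unfold theta
      rw [RingHom.comp_apply, coact_of_mem 𝒢 m.2]
      simp
    have h2 : Phi 𝒢 L (algebraMap G L (m : G)) =
        algebraMap L[X] (FractionRing L[X]) (monomial i (algebraMap G L (m : G))) := by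
      rw [Phi_algebraMap, ← h1]
      rfl
    rw [h1, sigma_monomial, map_monomial, h2]
  | add a b ha hb =>
    rw [map_add, Polynomial.map_add, ha, hb, map_add]

theorem Phi_coeff (y : integralClosure G L) (n : ℕ) :
    Phi 𝒢 L ((phiR 𝒢 L y).coeff n) =
      algebraMap L[X] (FractionRing L[X]) (monomial n ((phiR 𝒢 L y).coeff n)) := by
  have := hom_ext_of_agree L ((mapRingHom (Phi 𝒢 L)).comp (phiR 𝒢 L))
    ((sigma L).comp (phiR 𝒢 L)) (by
      intro g
      rw [RingHom.comp_apply, RingHom.comp_apply, phiR_algebraMap]
      exact map_Phi_theta 𝒢 L g) (by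
      intro g hg
      rw [RingHom.comp_apply, phiR_algebraMap]
      intro h0
      apply hg
      apply theta_injective 𝒢 L
      apply map_injective _ (Phi 𝒢 L).injective
      rw [map_zero]
      simpa using h0)
  have h2 := congrArg (fun f => (f y).coeff n) this
  simp only [RingHom.comp_apply, coe_mapRingHom, coeff_map] at h2
  rw [h2, sigma_coeff]

theorem theta_coeff (g : G) (d : ℕ) :
    (theta 𝒢 L g).coeff d = algebraMap G L (decompose 𝒢 g d : G) := by
  unfold theta
  rw [RingHom.comp_apply, coe_mapRingHom, coeff_map, coact_coeff]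

/-- The conductor of `G` in its integral closure is a homogeneous ideal. -/
theorem conductor_homogeneous (a : G)
    (ha : ∀ y : L, IsIntegral G y → ∃ g : G, algebraMap G L g = algebraMap G L a * y) (d : ℕ)
    (y : L) (hy : IsIntegral G y) :
    ∃ g : G, algebraMap G L g = algebraMap G L (decompose 𝒢 a d : G) * y := by
  set Y : integralClosure G L := ⟨y, hy⟩ with hY
  set q := phiR 𝒢 L Y with hq
  have key : ∀ n, ∃ g : G, algebraMap G L g = algebraMap G L (decompose 𝒢 a d : G) * q.coeff n := by
    intro n
    obtain ⟨gn, hgn⟩ := ha (q.coeff n) (isIntegral_coeff_phiR 𝒢 L Y n)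
    have h1 := congrArg (Phi 𝒢 L) hgn
    rw [map_mul, Phi_algebraMap, Phi_algebraMap, Phi_coeff] at h1
    have h2 : theta 𝒢 L gn = theta 𝒢 L a * monomial n (q.coeff n) := by
      apply IsFractionRing.injective L[X] (FractionRing L[X])
      rw [map_mul]
      exact h1
    have h3 := congrArg (fun p => p.coeff (d + n)) h2
    simp only [coeff_mul_monomial, theta_coeff] at h3
    exact ⟨_, h3⟩
  choose g hg using key
  refine ⟨∑ n ∈ Finset.range (q.natDegree + 1), g n, ?_⟩
  rw [map_sum]
  simp_rw [hg]
  rw [← Finset.mul_sum]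
  congr 1
  have h4 := eval_one_phiR 𝒢 L Y
  rw [← hq, eval_eq_sum_range] at h4
  simp only [one_pow, mul_one] at h4
  exact h4

end frac

end Groth.Agent.Lib.Helper12.GrNorm
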