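import Mathlib
import Groth.Agent.Lib.Helper12.GrNorm1
import Groth.Agent.Lib.Helper12.N2Field
import Groth.Agent.Lib.Helper9.SemiLocal
import Groth.Agent.Lib.Helper1.GradedFT

/-! Normalization quotient of a graded domain: finite length iff punctured spectrum normal. -/

set_option autoImplicit false
universe u
open Polynomial DirectSum

namespace Groth.Agent.Lib.Helper12.GrNorm

variable (k : Type u) [Field k] (G : Type u) [CommRing G] [IsDomain G] [Algebra k G]
  (𝒢 : ℕ → Submodule k G) [GradedAlgebra 𝒢]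
  (h0 : ∀ x ∈ 𝒢 0, x ∈ Set.range (algebraMap k G))

include h0 in
theorem finiteType_field [IsNoetherianRing G] : Algebra.FiniteType k G := by
  haveI := Groth.Agent.Lib.Helper1.GradedFT.finiteType_of_isNoetherianRing 𝒢
  obtain ⟨s, hs⟩ := (this).out
  refine ⟨⟨s, ?_⟩⟩
  rw [eq_top_iff]
  intro x _
  have hx : x ∈ Algebra.adjoin (𝒢 0) (s : Set G) := by rw [hs]; trivial
  clear * - hx h0
  induction hx using Algebra.adjoin_induction with
  | mem x hx => exact Algebra.subset_adjoin hx
  | algebraMap r =>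
    obtain ⟨c, hc⟩ := h0 r r.2
    have : algebraMap (𝒢 0) G r = (r : G) := rfl
    rw [this, ← hc]
    exact Subalgebra.algebraMap_mem _ c
  | add x y _ _ hx hy => exact add_mem hx hy
  | mul x y _ _ hx hy => exact mul_mem hx hy

include h0 in
/-- a homogeneous proper ideal is contained in the irrelevant ideal -/
theorem le_irrelevant_of_isHomogeneous (p : Ideal G) (hp : p ≠ ⊤) (hh : p.IsHomogeneous 𝒢) :
    p ≤ (HomogeneousIdeal.irrelevant 𝒢).toIdeal := by
  intro x hx
  show x ∈ HomogeneousIdeal.irrelevant 𝒢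
  rw [HomogeneousIdeal.mem_irrelevant_iff, GradedRing.proj_apply]
  have h1 : (decompose 𝒢 x 0 : G) ∈ p := hh 0 hx
  obtain ⟨c, hc⟩ := h0 _ (decompose 𝒢 x 0).2
  by_contra hne
  apply hp
  have hc0 : c ≠ 0 := by
    rintro rfl
    rw [map_zero] at hc
    exact hne hc.symm
  have hu : IsUnit (algebraMap k G c) := (IsUnit.mk0 c hc0).map _
  rw [hc] at hu
  exact Ideal.eq_top_of_isUnit_mem _ h1 hu

include h0 in
theorem irrelevant_isMaximal : (HomogeneousIdeal.irrelevant 𝒢).toIdeal.IsMaximal := by
  rw [Ideal.isMaximal_iff]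
  constructor
  · intro h1
    have : (1 : G) ∈ HomogeneousIdeal.irrelevant 𝒢 := h1
    rw [HomogeneousIdeal.mem_irrelevant_iff, GradedRing.proj_apply, DirectSum.decompose_one] at this
    exact one_ne_zero this
  · intro J x hJ hx hxJ
    have hx' : ¬ x ∈ HomogeneousIdeal.irrelevant 𝒢 := hx
    rw [HomogeneousIdeal.mem_irrelevant_iff, GradedRing.proj_apply] at hx'
    obtain ⟨c, hc⟩ := h0 _ (decompose 𝒢 x 0).2
    have hc0 : c ≠ 0 := by
      rintro rfl
      rw [map_zero] at hc
      exact hx' hc.symm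
    have hu : IsUnit (algebraMap k G c) := (IsUnit.mk0 c hc0).map _
    rw [hc] at hu
    have hmem : x - (decompose 𝒢 x 0 : G) ∈ (HomogeneousIdeal.irrelevant 𝒢).toIdeal := by
      show x - (decompose 𝒢 x 0 : G) ∈ HomogeneousIdeal.irrelevant 𝒢
      rw [HomogeneousIdeal.mem_irrelevant_iff, GradedRing.proj_apply, DirectSum.decompose_sub,
        DirectSum.sub_apply, DirectSum.decompose_coe, DirectSum.of_eq_same]
      simp
    have h2 : (decompose 𝒢 x 0 : G) ∈ J := by
      have := J.sub_mem hxJ (hJ hmem)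
      simpa using this
    rw [← Ideal.eq_top_iff_one]
    exact Ideal.eq_top_of_isUnit_mem _ h2 hu

end Groth.Agent.Lib.Helper12.GrNorm
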