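import Mathlib
import Groth.Agent.Lib.Helper12.GrNorm2

/-! Normalization quotient of a graded domain: localization lemmas and the main theorem. -/

set_option autoImplicit false
universe u
open Polynomial DirectSum

namespace Groth.Agent.Lib.Helper12.GrNorm

section loc

variable (G : Type u) [CommRing G] [IsDomain G] (L : Type u) [Field L] [Algebra G L]
  [IsFractionRing G L] (p : Ideal G) [p.IsPrime]

/-- the canonical map `G_p → L` -/
noncomputable def locMap : Localization.AtPrime p →+* L :=
  IsLocalization.lift (M := p.primeCompl) (g := algebraMap G L) (by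
    intro s
    apply IsUnit.mk0
    intro h0
    have : (s : G) = 0 := IsFractionRing.injective G L (by rw [h0, map_zero])
    exact s.2 (by rw [this]; exact p.zero_mem))

theorem locMap_algebraMap (g : G) :
    locMap G L p (algebraMap G (Localization.AtPrime p) g) = algebraMap G L g :=
  IsLocalization.lift_eq _ g

/-- If `G_p` is integrally closed then the normalization quotient vanishes at `p`. -/
theorem exists_smul_of_isIntegrallyClosed [IsIntegrallyClosed (Localization.AtPrime p)]
    (y : L) (hy : IsIntegral G y) :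
    ∃ s : G, s ∉ p ∧ ∃ g : G, algebraMap G L g = algebraMap G L s * y := by
  letI : Algebra (Localization.AtPrime p) L := (locMap G L p).toAlgebra
  haveI : IsScalarTower G (Localization.AtPrime p) L :=
    IsScalarTower.of_algebraMap_eq (fun x => (locMap_algebraMap G L p x).symm)
  haveI : IsFractionRing (Localization.AtPrime p) L :=
    IsFractionRing.isFractionRing_of_isDomain_of_isLocalization p.primeCompl
      (Localization.AtPrime p) L
  have hy' : IsIntegral (Localization.AtPrime p) y := hy.tower_top
  obtain ⟨z, hz⟩ := IsIntegrallyClosed.isIntegral_iff.1 hy'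
  obtain ⟨⟨g, s⟩, hgs⟩ := IsLocalization.surj p.primeCompl z
  refine ⟨s, s.2, g, ?_⟩
  have h1 := congrArg (algebraMap (Localization.AtPrime p) L) hgs
  rw [map_mul, hz, ← IsScalarTower.algebraMap_apply, ← IsScalarTower.algebraMap_apply] at h1
  rw [← h1, mul_comm]

/-- If the normalization quotient vanishes at `p` then `G_p` is integrally closed. -/
theorem isIntegrallyClosed_of_exists_smul
    (h : ∀ y : L, IsIntegral G y →
      ∃ s : G, s ∉ p ∧ ∃ g : G, algebraMap G L g = algebraMap G L s * y) :
    IsIntegrallyClosed (Localization.AtPrime p) := by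
  letI : Algebra (Localization.AtPrime p) L := (locMap G L p).toAlgebra
  haveI : IsScalarTower G (Localization.AtPrime p) L :=
    IsScalarTower.of_algebraMap_eq (fun x => (locMap_algebraMap G L p x).symm)
  haveI : IsFractionRing (Localization.AtPrime p) L :=
    IsFractionRing.isFractionRing_of_isDomain_of_isLocalization p.primeCompl
      (Localization.AtPrime p) L
  rw [isIntegrallyClosed_iff L]
  intro x hx
  obtain ⟨t, ht⟩ := IsIntegral.exists_multiple_integral_of_isLocalization p.primeCompl x hx
  obtain ⟨s, hs, g, hg⟩ := h _ ht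
  refine ⟨IsLocalization.mk' (Localization.AtPrime p) g (⟨s, hs⟩ * t), ?_⟩
  have hst : algebraMap G L ((⟨s, hs⟩ * t : p.primeCompl) : G) ≠ 0 := by
    intro h0
    have h1 : ((⟨s, hs⟩ * t : p.primeCompl) : G) = 0 :=
      IsFractionRing.injective G L (by rw [h0, map_zero])
    exact (⟨s, hs⟩ * t : p.primeCompl).2 (by rw [h1]; exact p.zero_mem)
  apply mul_right_cancel₀ hst
  rw [IsScalarTower.algebraMap_apply G (Localization.AtPrime p) L, ← map_mul,
    IsLocalization.mk'_spec, ← IsScalarTower.algebraMap_apply, hg]
  rw [Submonoid.smul_def, Algebra.smul_def]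
  simp only [Submonoid.coe_mul, map_mul, ← IsScalarTower.algebraMap_apply]
  ring

end loc

end Groth.Agent.Lib.Helper12.GrNorm

namespace Groth.Agent.Lib.Helper12.GrNorm

section main

variable (k : Type u) [Field k] (G : Type u) [CommRing G] [IsDomain G] [Algebra k G]
  [IsNoetherianRing G] (𝒢 : ℕ → Submodule k G) [GradedAlgebra 𝒢]
  (h0 : ∀ x ∈ 𝒢 0, x ∈ Set.range (algebraMap k G))
  (L : Type u) [Field L] [Algebra G L] [IsFractionRing G L]

omit [IsDomain G] [IsNoetherianRing G] [IsFractionRing G L] in
theorem smul_mk_eq_zero_iff (a : G) (y : integralClosure G L) :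
    a • (Submodule.Quotient.mk y : ↥(integralClosure G L) ⧸
        LinearMap.range (Algebra.linearMap G ↥(integralClosure G L))) = 0 ↔
      ∃ g : G, algebraMap G L g = algebraMap G L a * (y : L) := by
  rw [← Submodule.Quotient.mk_smul, Submodule.Quotient.mk_eq_zero, LinearMap.mem_range]
  constructor
  · rintro ⟨g, hg⟩
    refine ⟨g, ?_⟩
    have := congrArg (Subtype.val) hg
    rw [Algebra.linearMap_apply] at this
    rw [← Algebra.smul_def]
    exact this
  · rintro ⟨g, hg⟩
    refine ⟨g, ?_⟩
    apply Subtype.ext
    rw [Algebra.linearMap_apply]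
    rw [← Algebra.smul_def] at hg
    exact hg

include h0 in
theorem finite_integralClosure : Module.Finite G (integralClosure G L) := by
  haveI := finiteType_field k G 𝒢 h0
  have hN2 := Groth.Agent.Lib.Helper12.N2.N2'_of_finiteType k G
  refine hN2 L (IsFractionRing.injective G L) ⟨{1}, fun x => ?_⟩
  obtain ⟨⟨a, s⟩, has⟩ := IsLocalization.surj (nonZeroDivisors G) x
  refine ⟨s, nonZeroDivisors.ne_zero s.2, ?_⟩
  have : (s : G) • x = a • (1 : L) := by
    rw [Algebra.smul_def, Algebra.smul_def, mul_one, mul_comm]
    exact has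
  rw [this]
  exact Submodule.smul_mem _ _ (Submodule.subset_span (by simp))

include h0 in
/-- If the normalization quotient has finite length, its support is contained in `{G₊}`. -/
theorem eq_irrelevant_of_mem_support
    (hfl : IsFiniteLength G (↥(integralClosure G L) ⧸
      LinearMap.range (Algebra.linearMap G ↥(integralClosure G L))))
    (p : PrimeSpectrum G)
    (hsupp : p ∈ Module.support G
        (↥(integralClosure G L) ⧸ LinearMap.range (Algebra.linearMap G ↥(integralClosure G L)))) :
    p.asIdeal = (HomogeneousIdeal.irrelevant 𝒢).toIdeal := by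
  haveI := finite_integralClosure k G 𝒢 h0 L
  have hirr := irrelevant_isMaximal k G 𝒢 h0
  obtain ⟨p, hpp⟩ := p
  haveI : p.IsPrime := hpp
  show p = _
  have hmax : p.IsMaximal :=
    Groth.Agent.Lib.Helper9.isMaximal_of_mem_support_of_isFiniteLength hfl _ hsupp
  have hann : Module.annihilator G (↥(integralClosure G L) ⧸
      LinearMap.range (Algebra.linearMap G ↥(integralClosure G L))) ≤ p :=
    Module.mem_support_iff_of_finite.1 hsupp
  have hhom : (Module.annihilator G (↥(integralClosure G L) ⧸
      LinearMap.range (Algebra.linearMap G ↥(integralClosure G L)))).IsHomogeneous 𝒢 := by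
    intro d a ha
    rw [Module.mem_annihilator] at ha ⊢
    intro m
    obtain ⟨z, rfl⟩ := Submodule.Quotient.mk_surjective _ m
    refine (smul_mk_eq_zero_iff G L _ z).2 (conductor_homogeneous 𝒢 L a ?_ d (z : L) z.2)
    intro w hw
    exact (smul_mk_eq_zero_iff G L a ⟨w, hw⟩).1 (ha _)
  have hps_prime : (p.homogeneousCore 𝒢).toIdeal.IsPrime :=
    Ideal.IsPrime.homogeneousCore inferInstance
  have hann' : Module.annihilator G (↥(integralClosure G L) ⧸
      LinearMap.range (Algebra.linearMap G ↥(integralClosure G L))) ≤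
      (p.homogeneousCore 𝒢).toIdeal := by
    intro a ha
    classical
    rw [← DirectSum.sum_support_decompose 𝒢 a]
    refine Ideal.sum_mem _ fun j _ => ?_
    exact Ideal.mem_homogeneousCore_of_homogeneous_of_mem ⟨j, (decompose 𝒢 a j).2⟩
      (hann (hhom j ha))
  have hps_supp : (⟨(p.homogeneousCore 𝒢).toIdeal, hps_prime⟩ : PrimeSpectrum G) ∈
      Module.support G (↥(integralClosure G L) ⧸
        LinearMap.range (Algebra.linearMap G ↥(integralClosure G L))) :=
    Module.mem_support_iff_of_finite.2 hann'
  have hps_max : (p.homogeneousCore 𝒢).toIdeal.IsMaximal :=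
    Groth.Agent.Lib.Helper9.isMaximal_of_mem_support_of_isFiniteLength hfl _ hps_supp
  have hps_eq : (p.homogeneousCore 𝒢).toIdeal = p :=
    hps_max.eq_of_le (Ideal.IsPrime.ne_top inferInstance) (Ideal.toIdeal_homogeneousCore_le 𝒢 p)
  have hp_hom : p.IsHomogeneous 𝒢 := by
    have h1 : (p.homogeneousCore 𝒢).toIdeal.IsHomogeneous 𝒢 := (p.homogeneousCore 𝒢).isHomogeneous
    rwa [hps_eq] at h1
  have hle := le_irrelevant_of_isHomogeneous k G 𝒢 h0 p (Ideal.IsPrime.ne_top inferInstance) hp_hom
  exact hmax.eq_of_le hirr.ne_top hle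

include h0 in
theorem main :
    (∀ (p : Ideal G) [p.IsPrime], ¬ (HomogeneousIdeal.irrelevant 𝒢).toIdeal ≤ p →
        IsIntegrallyClosed (Localization.AtPrime p)) ↔
      IsFiniteLength G (↥(integralClosure G L) ⧸
        LinearMap.range (Algebra.linearMap G ↥(integralClosure G L))) := by
  haveI := finite_integralClosure k G 𝒢 h0 L
  have hirr := irrelevant_isMaximal k G 𝒢 h0
  constructor
  · intro hnorm
    apply Groth.Agent.Lib.Helper9.isFiniteLength_of_supportDim_le_zero
    have hsub : ∀ q ∈ Module.support G (↥(integralClosure G L) ⧸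
        LinearMap.range (Algebra.linearMap G ↥(integralClosure G L))),
        q.asIdeal = (HomogeneousIdeal.irrelevant 𝒢).toIdeal := by
      intro q hq
      by_contra hne
      have hnle : ¬ (HomogeneousIdeal.irrelevant 𝒢).toIdeal ≤ q.asIdeal :=
        fun hle => hne (hirr.eq_of_le q.2.ne_top hle).symm
      haveI := hnorm q.asIdeal hnle
      rw [Module.mem_support_iff'] at hq
      obtain ⟨m, hm⟩ := hq
      obtain ⟨y, rfl⟩ := Submodule.Quotient.mk_surjective _ m
      obtain ⟨s, hs, g, hg⟩ := exists_smul_of_isIntegrallyClosed G L q.asIdeal (y : L) y.2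
      exact hm s hs ((smul_mk_eq_zero_iff G L s y).2 ⟨g, hg⟩)
    unfold Module.supportDim
    haveI : Subsingleton (Module.support G (↥(integralClosure G L) ⧸
        LinearMap.range (Algebra.linearMap G ↥(integralClosure G L)))) :=
      ⟨fun a b => Subtype.ext (PrimeSpectrum.ext (by rw [hsub a a.2, hsub b b.2]))⟩
    exact Order.krullDim_nonpos_of_subsingleton
  · intro hfl p _ hp
    apply isIntegrallyClosed_of_exists_smul G L p
    intro y hy
    by_cases hsupp : (⟨p, inferInstance⟩ : PrimeSpectrum G) ∈ Module.support G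
        (↥(integralClosure G L) ⧸ LinearMap.range (Algebra.linearMap G ↥(integralClosure G L)))
    · exfalso
      have heq := eq_irrelevant_of_mem_support k G 𝒢 h0 L hfl _ hsupp
      exact hp (le_of_eq heq.symm)
    · rw [Module.notMem_support_iff'] at hsupp
      obtain ⟨s, hs, h⟩ := hsupp (Submodule.Quotient.mk ⟨y, hy⟩)
      exact ⟨s, hs, (smul_mk_eq_zero_iff G L s ⟨y, hy⟩).1 h⟩

end main

end Groth.Agent.Lib.Helper12.GrNorm
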