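import Mathlib
import Groth.Agent.Lib.Helper12.GrNorm3
import Groth.Agent.Lib.Helper12.DimFT
import Groth.Agent.Lib.Helper4.LC3
import Groth.Agent.Lib.Helper4.SerreNormal

/-! Normalization quotient of a graded domain vs `H^1` local cohomology. -/

set_option autoImplicit false
universe u
open Polynomial DirectSum

namespace Groth.Agent.Lib.Helper12.GrNorm

section pair

/-- In a finite normal extension `B` of a finitely generated `k`-domain `G` of dimension `≥ 2`,
every maximal ideal `I` of `G` contains a pair `x, y` which is a regular sequence on `B`. -/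
theorem exists_regular_pair (k : Type u) [Field k] (G : Type u) [CommRing G] [IsDomain G]
    [Algebra k G] [Algebra.FiniteType k G]
    (B : Type u) [CommRing B] [IsDomain B] [Algebra G B] [Algebra k B] [IsScalarTower k G B]
    [Module.Finite G B] [IsIntegrallyClosed B] (hinj : Function.Injective (algebraMap G B))
    (hdim : 2 ≤ ringKrullDim G) (I : Ideal G) [hI : I.IsMaximal] :
    ∃ x ∈ I, ∃ y ∈ I, x ≠ 0 ∧ ∀ z : B, algebraMap G B y * z ∈ Ideal.span {algebraMap G B x} →
      z ∈ Ideal.span {algebraMap G B x} := by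
  haveI : IsNoetherianRing G := Algebra.FiniteType.isNoetherianRing k G
  haveI : Algebra.FiniteType k B :=
    Algebra.FiniteType.trans (inferInstance : Algebra.FiniteType k G) inferInstance
  haveI : IsNoetherianRing B := Algebra.FiniteType.isNoetherianRing k B
  haveI : Algebra.IsIntegral G B := Algebra.IsIntegral.of_finite G B
  have hdimB : ringKrullDim B = ringKrullDim G :=
    le_antisymm (Groth.Agent.Lib.Helper12.ringKrullDim_le_of_isIntegral)
      (Groth.Agent.Lib.Helper12.ringKrullDim_le_of_isIntegral_of_injective hinj)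
  obtain ⟨s, hs, -⟩ := Groth.Agent.Lib.Helper12.DimFT.exists_dim_eq_trdeg k B
  have hs2 : 2 ≤ s := by
    rw [hdimB] at hs
    rw [hs] at hdim
    exact_mod_cast hdim
  -- S2 for B
  have hS2 : LocCoh.HasSk 2 B B := by
    refine ((Groth.Agent.Lib.Helper4.SerreNormal.serre_criterion B).1 ?_).2
    intro p _
    exact ⟨inferInstance, isIntegrallyClosed_of_isLocalization (Localization.AtPrime p)
      p.primeCompl p.primeCompl_le_nonZeroDivisors⟩
  -- x
  have hnf : ¬ IsField G := by
    intro hf
    have := ringKrullDim_eq_zero_of_isField hf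
    rw [this] at hdim
    exact absurd hdim (by norm_num)
  have hIne : I ≠ ⊥ := Ring.ne_bot_of_isMaximal_of_not_isField hI hnf
  obtain ⟨x, hxI, hx0⟩ := Submodule.exists_mem_ne_zero_of_ne_bot hIne
  have hx'0 : algebraMap G B x ≠ 0 := fun h => hx0 (hinj (by rw [h, map_zero]))
  have hx'nzd : algebraMap G B x ∈ nonZeroDivisors B := mem_nonZeroDivisors_of_ne_zero hx'0
  -- associated primes
  have hfin := associatedPrimes.finite B (B ⧸ Ideal.span {algebraMap G B x})
  have hht : ∀ P ∈ associatedPrimes B (B ⧸ Ideal.span {algebraMap G B x}), P.height ≤ 1 := by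
    intro P hP
    rw [AssociatedPrimes.mem_iff, isAssociatedPrime_iff] at hP
    obtain ⟨hPp, n, hn⟩ := hP
    haveI := hPp
    obtain ⟨z, rfl⟩ := Ideal.Quotient.mk_surjective n
    refine Groth.Agent.Lib.Helper4.SerreNormal.height_le_one_of_colon hS2 _ hx'nzd P z ?_
    intro r
    rw [hn, Submodule.mem_colon_singleton, Submodule.mem_bot]
    rw [Algebra.smul_def, Ideal.Quotient.algebraMap_eq, ← map_mul, Ideal.Quotient.eq_zero_iff_mem]
  have hnle : ∀ P ∈ associatedPrimes B (B ⧸ Ideal.span {algebraMap G B x}),
      ¬ I ≤ P.comap (algebraMap G B) := by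
    intro P hP hle
    haveI : P.IsPrime := hP.isPrime
    have hne : P.comap (algebraMap G B) ≠ ⊤ := Ideal.comap_ne_top _ (Ideal.IsPrime.ne_top inferInstance)
    have heq : I = P.comap (algebraMap G B) := hI.eq_of_le hne hle
    have hmaxc : (P.comap (algebraMap G B)).IsMaximal := heq ▸ hI
    haveI : P.IsMaximal := Ideal.isMaximal_of_isIntegral_of_isMaximal_comap P hmaxc
    have h1 := Groth.Agent.Lib.Helper12.DimFT.height_eq_of_isMaximal k B s hs P
    have h2 := hht P hP
    rw [h1] at h2
    have : (s : ℕ∞) ≤ 1 := h2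
    have h3 : s ≤ 1 := by exact_mod_cast this
    omega
  -- prime avoidance
  classical
  have havoid : ¬ ((I : Set G) ⊆ ⋃ P ∈ (hfin.toFinset : Set (Ideal B)),
      ((P.comap (algebraMap G B) : Ideal G) : Set G)) := by
    intro hsub
    have hsub' := (Ideal.subset_union_prime (R := G) (s := hfin.toFinset)
      (f := fun P => P.comap (algebraMap G B)) ⊥ ⊥ (by
        intro P hP _ _
        haveI : P.IsPrime := (hfin.mem_toFinset.1 hP).isPrime
        exact Ideal.comap_isPrime _ _)).1 hsub
    obtain ⟨P, hP, hle⟩ := hsub'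
    exact hnle P (hfin.mem_toFinset.1 hP) hle
  rw [Set.not_subset] at havoid
  obtain ⟨y, hyI, hy⟩ := havoid
  refine ⟨x, hxI, y, hyI, hx0, ?_⟩
  intro z hz
  by_contra hzn
  apply hy
  have hmem : algebraMap G B y ∈ ⋃ p ∈ associatedPrimes B (B ⧸ Ideal.span {algebraMap G B x}), (p : Set B) := by
    rw [biUnion_associatedPrimes_eq_zero_divisors]
    refine ⟨Ideal.Quotient.mk _ z, ?_, ?_⟩
    · rwa [Ne, Ideal.Quotient.eq_zero_iff_mem]
    · rw [Algebra.smul_def, Ideal.Quotient.algebraMap_eq, ← map_mul, Ideal.Quotient.eq_zero_iff_mem]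
      exact hz
  simp only [Set.mem_iUnion, SetLike.mem_coe, exists_prop] at hmem ⊢
  obtain ⟨P, hP, hyP⟩ := hmem
  exact ⟨P, by simpa using hP, hyP⟩

theorem two_le_idealDepth (G : Type u) [CommRing G] (B : Type u) [CommRing B] [IsDomain B]
    [Algebra G B] (hinj : Function.Injective (algebraMap G B)) (I : Ideal G) (x y : G)
    (hx : x ∈ I) (hy : y ∈ I) (hx0 : x ≠ 0)
    (hreg : ∀ z : B, algebraMap G B y * z ∈ Ideal.span {algebraMap G B x} →
      z ∈ Ideal.span {algebraMap G B x}) :
    (2 : ℕ∞) ≤ LocCoh.idealDepth I B := by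
  unfold LocCoh.idealDepth
  split_ifs with h
  · exact le_top
  · refine le_iSup₂_of_le [x, y] ⟨?_, ?_⟩ (by simp)
    · apply RingTheory.Sequence.IsWeaklyRegular.cons
      · rw [isSMulRegular_iff_right_eq_zero_of_smul]
        intro b hb
        rw [Algebra.smul_def] at hb
        rcases mul_eq_zero.1 hb with h1 | h1
        · exact absurd (hinj (by rw [h1, map_zero])) hx0
        · exact h1
      · apply RingTheory.Sequence.IsWeaklyRegular.cons
        · rw [isSMulRegular_iff_right_eq_zero_of_smul]
          intro m hm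
          obtain ⟨z, rfl⟩ := Submodule.Quotient.mk_surjective _ m
          rw [← Submodule.Quotient.mk_smul, Submodule.Quotient.mk_eq_zero] at hm
          rw [Submodule.Quotient.mk_eq_zero]
          obtain ⟨w, -, hw⟩ := (Submodule.mem_smul_pointwise_iff_exists _ _ _).1 hm
          have h1 : algebraMap G B y * z ∈ Ideal.span {algebraMap G B x} := by
            rw [← Algebra.smul_def, ← hw, Algebra.smul_def]
            exact Ideal.mul_mem_right _ _ (Ideal.mem_span_singleton_self _)
          obtain ⟨v, hv⟩ := Ideal.mem_span_singleton'.1 (hreg z h1)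
          rw [Submodule.mem_smul_pointwise_iff_exists]
          exact ⟨v, trivial, by rw [Algebra.smul_def, mul_comm, hv]⟩
        · exact RingTheory.Sequence.IsWeaklyRegular.nil _ _
    · intro r hr
      simp only [List.mem_cons, List.not_mem_nil, or_false] at hr
      rcases hr with rfl | rfl <;> assumption

end pair

end Groth.Agent.Lib.Helper12.GrNorm

namespace Groth.Agent.Lib.Helper12.GrNorm

section final

open Groth.Agent.Lib.Helper4.LC

variable (k : Type u) [Field k] (G : Type u) [CommRing G] [IsDomain G] [Algebra k G]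
  [IsNoetherianRing G] (𝒢 : ℕ → Submodule k G) [GradedAlgebra 𝒢]
  (h0 : ∀ x ∈ 𝒢 0, x ∈ Set.range (algebraMap k G))
  (L : Type u) [Field L] [Algebra G L] [IsFractionRing G L]

include h0 in
/-- the normalization quotient is killed by a power of the irrelevant ideal -/
theorem exists_pow_le_annihilator
    (hfl : IsFiniteLength G (↥(integralClosure G L) ⧸
      LinearMap.range (Algebra.linearMap G ↥(integralClosure G L)))) :
    ∃ n : ℕ, (HomogeneousIdeal.irrelevant 𝒢).toIdeal ^ n ≤
      Module.annihilator G (↥(integralClosure G L) ⧸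
        LinearMap.range (Algebra.linearMap G ↥(integralClosure G L))) := by
  haveI := finite_integralClosure k G 𝒢 h0 L
  apply Ideal.exists_pow_le_of_le_radical_of_fg _ (IsNoetherian.noetherian _)
  rw [Ideal.radical_eq_sInf]
  refine le_sInf ?_
  rintro J ⟨hJ, hJp⟩
  have hsupp : (⟨J, hJp⟩ : PrimeSpectrum G) ∈ Module.support G (↥(integralClosure G L) ⧸
      LinearMap.range (Algebra.linearMap G ↥(integralClosure G L))) :=
    Module.mem_support_iff_of_finite.2 hJ
  have := eq_irrelevant_of_mem_support k G 𝒢 h0 L hfl _ hsupp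
  exact le_of_eq this.symm

include h0 in
theorem h1_equiv (hdim : 2 ≤ ringKrullDim G)
    (hfl : IsFiniteLength G (↥(integralClosure G L) ⧸
      LinearMap.range (Algebra.linearMap G ↥(integralClosure G L)))) :
    Nonempty ((↥(integralClosure G L) ⧸
        LinearMap.range (Algebra.linearMap G ↥(integralClosure G L))) ≃ₗ[G]
      LocCoh.H (HomogeneousIdeal.irrelevant 𝒢).toIdeal 1 G) := by
  haveI := finite_integralClosure k G 𝒢 h0 L
  haveI := finiteType_field k G 𝒢 h0
  haveI hI : (HomogeneousIdeal.irrelevant 𝒢).toIdeal.IsMaximal := irrelevant_isMaximal k G 𝒢 h0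
  letI : Algebra k (integralClosure G L) :=
    ((algebraMap G (integralClosure G L)).comp (algebraMap k G)).toAlgebra
  haveI : IsScalarTower k G (integralClosure G L) := IsScalarTower.of_algebraMap_eq (fun _ => rfl)
  haveI : IsIntegrallyClosed (integralClosure G L) :=
    integralClosure.isIntegrallyClosedOfFiniteExtension L
  have hinj : Function.Injective (algebraMap G (integralClosure G L)) := by
    intro a b hab
    apply IsFractionRing.injective G L
    exact congrArg Subtype.val hab
  obtain ⟨x, hx, y, hy, hx0, hreg⟩ := exists_regular_pair k G (integralClosure G L) hinj hdim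
    (HomogeneousIdeal.irrelevant 𝒢).toIdeal
  have hdepth := two_le_idealDepth G (integralClosure G L) hinj
    (HomogeneousIdeal.irrelevant 𝒢).toIdeal x y hx hy hx0 hreg
  have hv0 : Subsingleton (HH (HomogeneousIdeal.irrelevant 𝒢).toIdeal
      (ModuleCat.of G (integralClosure G L)) 0) :=
    HH.subsingleton_of_lt_idealDepth _ (integralClosure G L) 0
      (lt_of_lt_of_le (by norm_num) hdepth)
  have hv1 : Subsingleton (HH (HomogeneousIdeal.irrelevant 𝒢).toIdeal
      (ModuleCat.of G (integralClosure G L)) 1) :=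
    HH.subsingleton_of_lt_idealDepth _ (integralClosure G L) 1
      (lt_of_lt_of_le (by norm_num) hdepth)
  have hfg := LinearMap.exact_map_mkQ_range (Algebra.linearMap G ↥(integralClosure G L))
  have hS := sesOf_shortExact (Algebra.linearMap G ↥(integralClosure G L))
    (LinearMap.range (Algebra.linearMap G ↥(integralClosure G L))).mkQ hfg hinj
    (Submodule.mkQ_surjective _)
  obtain ⟨n, hn⟩ := exists_pow_le_annihilator k G 𝒢 h0 L hfl
  have htors : DRing.torsionSub (HomogeneousIdeal.irrelevant 𝒢).toIdeal
      (↥(integralClosure G L) ⧸ LinearMap.range (Algebra.linearMap G ↥(integralClosure G L))) = ⊤ := by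
    rw [eq_top_iff]
    intro m _
    exact ⟨n, fun a ha => Module.mem_annihilator.1 (hn ha) m⟩
  let e3 := LinearEquiv.ofBijective (HH.δ (HomogeneousIdeal.irrelevant 𝒢).toIdeal hS 0)
    ⟨HH.δ_injective _ hS 0 hv0, HH.δ_surjective _ hS 0 hv1⟩
  let e2 := HH0Equiv (HomogeneousIdeal.irrelevant 𝒢).toIdeal
    (ModuleCat.of G (↥(integralClosure G L) ⧸
      LinearMap.range (Algebra.linearMap G ↥(integralClosure G L))))
  let e4 := lcEquiv (HomogeneousIdeal.irrelevant 𝒢).toIdeal (ModuleCat.of G G) 1
  exact ⟨(Submodule.topEquiv.symm.trans (LinearEquiv.ofEq _ _ htors.symm)).trans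
    (e2.symm.trans (e3.trans e4.symm))⟩

end final

end Groth.Agent.Lib.Helper12.GrNorm
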