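import Mathlib
import Groth.Prelude.Def_Cyc
import Groth.Agent.Lib.Helper12.GraphDiag3

/-!
# `(ψ × id)^*[Δ] = [Γ_ψ]` on a curve: assembly (helper12)
-/

set_option autoImplicit false
universe u
open CategoryTheory CategoryTheory.Limits AlgebraicGeometry

namespace Groth.Agent.Lib.Helper12.GraphDiag

open Groth.Agent.Lib.Helper23.WeilCohDim Groth.Agent.Lib.Helper23.WeilCohGraph in
/-- the graph and the diagonal have the same `δ` at their generic points -/
theorem delta_eq {S X : Scheme.{u}} (f : X ⟶ S) (g d : X ⟶ pullback f f)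
    (hg₁ : g ≫ pullback.fst f f = 𝟙 X) (hd₁ : d ≫ pullback.fst f f = 𝟙 X)
    (δ : ↥(pullback f f) → ℤ) (δS : S → ℤ) (hδ : Cyc.DeltaCompat (pullback.fst f f ≫ f) δ δS)
    (x : X) : δ (g x) = δ (d x) := by
  obtain ⟨n, hn, hn'⟩ := hδ (g x)
  obtain ⟨n', hn2, hn2'⟩ := hδ (d x)
  have e1 := trdeg_comp_eq_of_residueDegree_ne_zero g (pullback.fst f f ≫ f) x
    (by rw [residueDegree_eq_one_of_comp_eq_id g (pullback.fst f f) hg₁ x]; exact one_ne_zero)
  have e2 := trdeg_comp_eq_of_residueDegree_ne_zero d (pullback.fst f f ≫ f) x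
    (by rw [residueDegree_eq_one_of_comp_eq_id d (pullback.fst f f) hd₁ x]; exact one_ne_zero)
  have hgf : g ≫ pullback.fst f f ≫ f = d ≫ pullback.fst f f ≫ f := by
    rw [reassoc_of% hg₁, reassoc_of% hd₁]
  have hT : ∀ (h h' : X ⟶ S), h = h' →
      (letI := (h.residueFieldMap x).hom.toAlgebra
       Algebra.trdeg (S.residueField (h x)) (X.residueField x)) =
      (letI := (h'.residueFieldMap x).hom.toAlgebra
       Algebra.trdeg (S.residueField (h' x)) (X.residueField x)) := by
    rintro h _ rfl; rfl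
  have e3 := hT _ _ hgf
  have hcard : (n : Cardinal.{u}) = (n' : Cardinal.{u}) :=
    hn.symm.trans (e1.symm.trans (e3.trans e2)) |>.trans hn2
  have hnn : n = n' := by exact_mod_cast hcard
  have hS : δS ((pullback.fst f f ≫ f) (g x)) = δS ((pullback.fst f f ≫ f) (d x)) := by
    congr 1
    rw [← Scheme.Hom.comp_apply, ← Scheme.Hom.comp_apply, hgf]
  rw [hn', hn2', hnn, hS]

/-- the multiplicity of the graph in the pullback of the diagonal is one -/
theorem length_eq_one {S X : Scheme.{u}} (f : X ⟶ S) [IsSeparated f] [IsIntegral X]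
    (ψ : X ⟶ X)
    (m : pullback f f ⟶ pullback f f) (hm₁ : m ≫ pullback.fst f f = pullback.fst f f ≫ ψ)
    (hm₂ : m ≫ pullback.snd f f = pullback.snd f f) (g : X ⟶ pullback f f)
    (hg₁ : g ≫ pullback.fst f f = 𝟙 X) (hg₂ : g ≫ pullback.snd f f = ψ)
    (hψη : ψ (genericPoint X) = genericPoint X) :
    Module.length ((pullback f f).presheaf.stalk (g (genericPoint X)))
      ((pullback f f).presheaf.stalk (g (genericPoint X)) ⧸
        Ideal.map (m.stalkMap (g (genericPoint X))).hom
          (IsLocalRing.maximalIdeal ((pullback f f).presheaf.stalk (m (g (genericPoint X)))))) = 1 := by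
  have hpb := isPullback_graph f ψ m hm₁ hm₂ g hg₁ hg₂
  have hmg : m (g (genericPoint X)) = pullback.diagonal f (genericPoint X) := by
    rw [← Scheme.Hom.comp_apply, hpb.w, Scheme.Hom.comp_apply, hψη]
  haveI : IsClosedImmersion (g ≫ pullback.fst f f) := by rw [hg₁]; infer_instance
  haveI : IsClosedImmersion g := IsClosedImmersion.of_comp g (pullback.fst f f)
  have hle2 := ker_stalkMap_le_map g m (pullback.diagonal f) (ker_eq_comap_of_isPullback hpb)
    (genericPoint X) (genericPoint X) hmg
  have hle1 : IsLocalRing.maximalIdeal ((pullback f f).presheaf.stalk (g (genericPoint X))) ≤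
      RingHom.ker (g.stalkMap (genericPoint X)).hom := by
    intro a ha
    rw [RingHom.mem_ker]
    by_contra hne
    letI : Field (X.presheaf.stalk (genericPoint X)) := inferInstanceAs (Field X.functionField)
    have hu : IsUnit ((g.stalkMap (genericPoint X)).hom a) := isUnit_iff_ne_zero.mpr hne
    exact ha ((isUnit_map_iff (g.stalkMap (genericPoint X)).hom a).mp hu)
  have hIeq : Ideal.map (m.stalkMap (g (genericPoint X))).hom
      (IsLocalRing.maximalIdeal ((pullback f f).presheaf.stalk (m (g (genericPoint X))))) =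
      IsLocalRing.maximalIdeal ((pullback f f).presheaf.stalk (g (genericPoint X))) := by
    apply le_antisymm
    · have hloc : IsLocalHom (m.stalkMap (g (genericPoint X))).hom := inferInstance
      exact ((IsLocalRing.local_hom_TFAE (m.stalkMap (g (genericPoint X))).hom).out 0 2).mp hloc
    · exact hle1.trans hle2
  rw [hIeq]
  exact Module.length_eq_one_iff.mpr
    (isSimpleModule_iff_isCoatom.mpr (Ideal.isMaximal_def.mp inferInstance))

/-- `(ψ × id)^*[Δ] = [Γ_ψ]` -/
theorem main (k : Type u) [Field k] (X : Scheme.{u}) (f : X ⟶ Spec (CommRingCat.of k))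
    [LocallyOfFiniteType f] [IsSeparated f]
    [IsIntegral X] (hdim : topologicalKrullDim ↥X = 1) (ψ : X ⟶ X) (hψ : ψ ≫ f = f) [Flat ψ]
    (m : pullback f f ⟶ pullback f f) (hm₁ : m ≫ pullback.fst f f = pullback.fst f f ≫ ψ)
    (hm₂ : m ≫ pullback.snd f f = pullback.snd f f) (g : X ⟶ pullback f f)
    (hg₁ : g ≫ pullback.fst f f = 𝟙 X) (hg₂ : g ≫ pullback.snd f f = ψ)
    (δ : ↥(pullback f f) → ℤ) (hδ : Cyc.DeltaCompat (pullback.fst f f ≫ f) δ (fun _ => 0)) :
    Cyc.pullFun m δ δ 0
        (Set.indicator ({pullback.diagonal f (genericPoint ↥X)} : Set ↥(pullback f f))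
          (fun _ => (1 : ℤ))) =
      Set.indicator ({g (genericPoint ↥X)} : Set ↥(pullback f f)) (fun _ => (1 : ℤ)) := by
  classical
  have hpb := isPullback_graph f ψ m hm₁ hm₂ g hg₁ hg₂
  have hψη : ψ (genericPoint X) = genericPoint X := flat_map_genericPoint ψ
  have hmg : m (g (genericPoint X)) = pullback.diagonal f (genericPoint X) := by
    rw [← Scheme.Hom.comp_apply, hpb.w, Scheme.Hom.comp_apply, hψη]
  have hδeq : δ (g (genericPoint X)) = δ (pullback.diagonal f (genericPoint X)) :=
    delta_eq f g (pullback.diagonal f) hg₁ (pullback.diagonal_fst f) δ _ hδ _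
  funext y
  unfold Cyc.pullFun
  by_cases hy : y = g (genericPoint X)
  · subst hy
    rw [Set.indicator_of_mem (Set.mem_singleton _), if_pos (by rw [add_zero, hmg]; exact hδeq),
      Set.indicator_of_mem (show m (g (genericPoint X)) ∈ _ from hmg), one_mul,
      length_eq_one f ψ m hm₁ hm₂ g hg₁ hg₂ hψη]
    rfl
  · rw [Set.indicator_of_notMem (show y ∉ ({g (genericPoint X)} : Set _) from hy)]
    split_ifs with h
    · rw [Set.indicator_of_notMem, zero_mul]
      intro hmem
      obtain ⟨x, hx1, hx2⟩ := exists_of_isPullback hpb y (genericPoint X) hmem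
      have hx : x = genericPoint X := eq_genericPoint_of_map_eq f hdim ψ hψ x hx2
      exact hy (by rw [← hx1, hx])
    · rfl

end Groth.Agent.Lib.Helper12.GraphDiag
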