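import Mathlib
import Groth.Agent.Lib.Helper12.LimProCons
import Groth.Agent.Lib.Helper12.LimTop
import Groth.Agent.Lib.Helper12.PbDiag
import Groth.Agent.S14767

universe u

open CategoryTheory Limits AlgebraicGeometry TopologicalSpace Opposite Topology

set_option backward.isDefEq.respectTransparency false
set_option linter.style.haveILetI false

namespace Groth.Agent.Lib.Helper12.LimSubtr

open Groth.Agent.Lib.Helper26.ProConsTop Groth.Agent.Lib.Helper26.ProConsSch
open Groth.Agent.Lib.Helper12.LimProCons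

lemma isProConstructible_singleton {X : Scheme.{u}} (x : X) :
    ProCons.IsProConstructible ({x} : Set X) := by
  rw [isProConstructible_iff]
  intro U hU
  haveI : IsAffine (U : Scheme.{u}) := hU
  by_cases hx : x ∈ U
  · have : U.ι.base ⁻¹' {x} = {(⟨x, hx⟩ : (U : Scheme.{u}))} := by
      ext p
      simp only [Set.mem_preimage, Set.mem_singleton_iff]
      constructor
      · intro h; exact Subtype.ext h
      · intro h; rw [h]; rfl
    rw [this]
    exact Groth.Agent.Lib.Helper12.LimTop.isClosed_cons_singleton _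
  · have : U.ι.base ⁻¹' {x} = ∅ := by
      ext p
      simp only [Set.mem_preimage, Set.mem_singleton_iff, Set.mem_empty_iff_false, iff_false]
      intro h
      exact hx (h ▸ p.2)
    rw [this]
    exact @isClosed_empty _ (constructibleTopology (U : Scheme.{u}))

section Compact

variable {I : Type u} [SmallCategory I] [IsCofiltered I] (D : I ⥤ Scheme.{u}) (c : Cone D)
  (hc : IsLimit c) [∀ (i j : I) (f : i ⟶ j), IsAffineHom (D.map f)]

include hc in
/-- A compatible family of nonempty pro-constructible subsets of the (quasi-compact) members of a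
cofiltered system with affine transition maps comes from a point of the limit. -/
theorem exists_point_of_proConstructible [∀ i, CompactSpace (D.obj i)]
    (F : ∀ i, Set (D.obj i)) (hF : ∀ i, ProCons.IsProConstructible (F i))
    (hne : ∀ i, (F i).Nonempty)
    (hcomp : ∀ {i j : I} (a : i ⟶ j), Set.MapsTo (D.map a) (F i) (F j)) :
    ∃ x : c.pt, ∀ i, c.π.app i x ∈ F i := by
  classical
  by_contra hcon
  push_neg at hcon
  haveI : ∀ {i j : I} (f : i ⟶ j), IsAffineHom (D.map f) := fun f => inferInstance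
  haveI : CompactSpace c.pt := Scheme.compactSpace_of_isLimit D c hc
  have hF' : ∀ i, ProCons.IsProConstructible (⇑(c.π.app i) ⁻¹' F i) := fun i =>
    isProConstructible_preimage (c.π.app i) (hF i)
  have hint : ⋂ i, (⇑(c.π.app i) ⁻¹' F i) ⊆ (∅ : Set c.pt) := by
    intro x hx
    rw [Set.mem_iInter] at hx
    obtain ⟨i, hi⟩ := hcon x
    exact hi (hx i)
  obtain ⟨J, hJ⟩ := Groth.Agent.S3439.result c.pt ∅ isIndConstructible_empty _ hF' hint
  obtain ⟨k, hk⟩ := IsCofiltered.inf_objs_exists J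
  have hempty : (⇑(c.π.app k) ⁻¹' F k : Set c.pt) = ∅ := by
    rw [Set.eq_empty_iff_forall_notMem]
    intro x hx
    refine hJ (?_ : x ∈ _)
    simp only [Set.mem_iInter]
    intro i hi
    obtain ⟨b⟩ := hk hi
    show c.π.app i x ∈ F i
    rw [← Groth.Agent.Lib.Helper12.LimTop.map_π_apply D c b x]
    exact hcomp b hx
  obtain ⟨l, φ, hl⟩ := exists_preimage_eq_empty_of_isProConstructible D c hc k (F k) (hF k) hempty
  obtain ⟨z, hz⟩ := hne l
  have : z ∈ (⇑(D.map φ) ⁻¹' F k : Set (D.obj l)) := hcomp φ hz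
  rw [hl] at this
  exact this

include hc in
/-- Variant where only the sets are assumed to live in a quasi-compact open of one stage. -/
theorem exists_point_of_proConstructible_opens (i₁ : I) (W : (D.obj i₁).Opens)
    (hW : IsCompact (W : Set (D.obj i₁)))
    (F : ∀ k : Over i₁, Set (D.obj k.left)) (hF : ∀ k, ProCons.IsProConstructible (F k))
    (hne : ∀ k, (F k).Nonempty)
    (hcomp : ∀ {k k' : Over i₁} (a : k ⟶ k'), Set.MapsTo (D.map a.left) (F k) (F k'))
    (hFW : ∀ k, F k ⊆ ⇑(D.map k.hom) ⁻¹' (W : Set (D.obj i₁))) :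
    ∃ x : c.pt, ∀ k : Over i₁, c.π.app k.left x ∈ F k := by
  haveI : ∀ {i j : I} (f : i ⟶ j), IsAffineHom (D.map f) := fun f => inferInstance
  haveI : ∀ k : Over i₁, CompactSpace ((opensDiagram D i₁ W).obj k) := fun k =>
    isCompact_iff_compactSpace.mp (QuasiCompact.isCompact_preimage (f := (D.map k.hom)) _ W.2 hW)
  haveI : ∀ (k k' : Over i₁) (a : k ⟶ k'), IsAffineHom ((opensDiagram D i₁ W).map a) :=
    fun k k' a => inferInstance
  let F' : ∀ k : Over i₁, Set ((opensDiagram D i₁ W).obj k) := fun k =>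
    ⇑(D.map k.hom ⁻¹ᵁ W).ι ⁻¹' F k
  have hF' : ∀ k, ProCons.IsProConstructible (F' k) := fun k =>
    isProConstructible_preimage (D.map k.hom ⁻¹ᵁ W).ι (hF k)
  have hne' : ∀ k, (F' k).Nonempty := fun k => by
    obtain ⟨z, hz⟩ := hne k
    exact ⟨⟨z, hFW k hz⟩, hz⟩
  have hcomp' : ∀ {k k' : Over i₁} (a : k ⟶ k'),
      Set.MapsTo ((opensDiagram D i₁ W).map a) (F' k) (F' k') := by
    intro k k' a z hz
    show (D.map k'.hom ⁻¹ᵁ W).ι (((opensDiagram D i₁ W).map a) z) ∈ F k'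
    have h1 : (opensDiagram D i₁ W).map a ≫ (D.map k'.hom ⁻¹ᵁ W).ι =
        (D.map k.hom ⁻¹ᵁ W).ι ≫ D.map a.left := by
      simp only [opensDiagram_map, Scheme.Hom.resLE_comp_ι]
    have h2 := congr($h1 z)
    simp only [Scheme.Hom.comp_apply] at h2
    exact Set.mem_of_eq_of_mem h2 (hcomp a hz)
  obtain ⟨x', hx'⟩ := exists_point_of_proConstructible (opensDiagram D i₁ W) (opensCone D c i₁ W)
    (isLimitOpensCone D c hc i₁ W) F' hF' hne' hcomp'
  refine ⟨(c.π.app i₁ ⁻¹ᵁ W).ι x', fun k => ?_⟩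
  have h1 : (opensCone D c i₁ W).π.app k ≫ (D.map k.hom ⁻¹ᵁ W).ι =
      (c.π.app i₁ ⁻¹ᵁ W).ι ≫ c.π.app k.left := by
    simp only [opensCone_π_app, Scheme.Hom.resLE_comp_ι]
  have h2 := congr($h1 x')
  simp only [Scheme.Hom.comp_apply] at h2
  exact Set.mem_of_eq_of_mem h2.symm (hx' k)

end Compact

section Main

open Groth.Agent.Lib.Helper12.PbDiag

lemma isSSubtrusive_of_isPullback {X Y X' Y' : Scheme.{u}} {f : X ⟶ Y} {p : Y' ⟶ Y}
    {a : X' ⟶ X} {b : X' ⟶ Y'} (hsq : IsPullback a b f p)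
    (h : Subtr.IsSSubtrusive (pullback.snd f p)) : Subtr.IsSSubtrusive b := by
  intro y y' hyy'
  obtain ⟨x, x', hxx', hx, hx'⟩ := h hyy'
  refine ⟨hsq.isoPullback.inv x, hsq.isoPullback.inv x', hxx'.map hsq.isoPullback.inv.continuous,
    ?_, ?_⟩
  · rw [← Scheme.Hom.comp_apply, hsq.isoPullback_inv_snd]; exact hx
  · rw [← Scheme.Hom.comp_apply, hsq.isoPullback_inv_snd]; exact hx'

variable {I : Type u} [SmallCategory I] [IsCofiltered I] (D : I ⥤ Scheme.{u}) (c : Cone D)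
  (hc : IsLimit c) [∀ (i j : I) (f : i ⟶ j), IsAffineHom (D.map f)] (i₀ : I)
  {X₀ Y₀ : Scheme.{u}} (f₀ : X₀ ⟶ Y₀) (g₀ : Y₀ ⟶ D.obj i₀) [QuasiCompact f₀]

include hc in
theorem isSSubtrusive_limit (j₁ : Over i₀)
    (h : ∀ (j : Over i₀) (_ : j ⟶ j₁), Subtr.IsSSubtrusive ((pbMap D i₀ g₀ f₀).app j)) :
    Subtr.IsSSubtrusive (pullback.snd f₀ (pullback.fst g₀ (c.π.app i₀))) := by
  classical
  haveI hAff : ∀ {i j : I} (f : i ⟶ j), IsAffineHom (D.map f) := fun f => inferInstance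
  -- notation
  let pY := pullback.fst g₀ (c.π.app i₀)
  let hY := pullback.snd g₀ (c.π.app i₀)
  have hpbY : IsPullback pY hY g₀ (c.π.app i₀) := IsPullback.of_hasPullback _ _
  let f := pullback.snd f₀ pY
  let qX := pullback.fst f₀ pY
  have hpbX : IsPullback qX (f ≫ hY) (f₀ ≫ g₀) (c.π.app i₀) :=
    (IsPullback.of_hasPullback f₀ pY).paste_vert hpbY
  let cY := pbCone c pY hY hpbY
  let cX := pbCone c qX (f ≫ hY) hpbX
  have hcY : IsLimit cY := isLimitPbCone c hc pY hY hpbY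
  have hcX : IsLimit cX := isLimitPbCone c hc qX (f ≫ hY) hpbX
  let Fn := pbMap D i₀ g₀ f₀
  have hcone : ∀ j : Over i₀, cX.π.app j ≫ Fn.app j = f ≫ cY.π.app j := fun j =>
    pbCone_π_pbMap D i₀ g₀ c f₀ pY hY hpbY qX (f ≫ hY) hpbX f
      (IsPullback.of_hasPullback f₀ pY).w rfl j
  have hconeapp : ∀ (j : Over i₀) (x : ↑(pullback f₀ pY)),
      Fn.app j (cX.π.app j x) = cY.π.app j (f x) := fun j x => by
    have := congr($(hcone j) x)
    exact this
  have hsqj : ∀ j : Over i₀, IsPullback (cX.π.app j) f (Fn.app j) (cY.π.app j) := fun j => by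
    refine IsPullback.of_right ?_ (hcone j) (isPullback_pbMap_app D i₀ g₀ f₀ j)
    rw [pbCone_π_fst, pbCone_π_fst]
    exact IsPullback.of_hasPullback f₀ pY
  intro y y' hyy'
  -- a quasi-compact open of the stage `j₁` containing everything
  obtain ⟨_, ⟨V₀, hV₀, rfl⟩, hyV₀, -⟩ := Y₀.isBasis_affineOpens.exists_subset_of_mem_open
    (Set.mem_univ (pY y)) isOpen_univ
  let W : ((pbDiagram D i₀ (f₀ ≫ g₀)).obj j₁).Opens :=
    pullback.fst (f₀ ≫ g₀) (D.map j₁.hom) ⁻¹ᵁ (f₀ ⁻¹ᵁ V₀)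
  have hW : IsCompact (W : Set ((pbDiagram D i₀ (f₀ ≫ g₀)).obj j₁)) := by
    haveI := isAffineHom_pbDiagram_fst D i₀ (f₀ ≫ g₀) j₁
    exact QuasiCompact.isCompact_preimage (f := pullback.fst (f₀ ≫ g₀) (D.map j₁.hom)) _
      (f₀ ⁻¹ᵁ V₀).2 (QuasiCompact.isCompact_preimage (f := f₀) _ V₀.2 hV₀.isCompact)
  let F : ∀ k : Over j₁, Set ((pbDiagram D i₀ (f₀ ≫ g₀)).obj k.left) := fun k =>
    ⇑(Fn.app k.left) ⁻¹' {cY.π.app k.left y} ∩ closure (⇑(Fn.app k.left) ⁻¹' {cY.π.app k.left y'})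
  have hF : ∀ k, ProCons.IsProConstructible (F k) := fun k =>
    isProConstructible_inter
      (isProConstructible_preimage (Fn.app k.left) (isProConstructible_singleton _))
      (Groth.Agent.S14767.isProConstructible_of_isClosed isClosed_closure)
  have hne : ∀ k, (F k).Nonempty := fun k => by
    obtain ⟨x, x', hxx', hx, hx'⟩ := h k.left k.hom (hyy'.map (cY.π.app k.left).continuous)
    exact ⟨x, hx, hxx'.mem_closed isClosed_closure (subset_closure hx')⟩
  have hcomp : ∀ {k k' : Over j₁} (a : k ⟶ k'),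
      Set.MapsTo ((pbDiagram D i₀ (f₀ ≫ g₀)).map a.left) (F k) (F k') := by
    intro k k' a z hz
    have hnat : ∀ w, Fn.app k'.left ((pbDiagram D i₀ (f₀ ≫ g₀)).map a.left w) =
        (pbDiagram D i₀ g₀).map a.left (Fn.app k.left w) := fun w => by
      have := congr($(Fn.naturality a.left) w)
      simpa only [Scheme.Hom.comp_apply] using this
    have hπ : ∀ w, (pbDiagram D i₀ g₀).map a.left (cY.π.app k.left w) = cY.π.app k'.left w :=
      fun w => Groth.Agent.Lib.Helper12.LimTop.map_π_apply _ cY a.left w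
    refine ⟨?_, ?_⟩
    · show Fn.app k'.left _ = _
      rw [hnat, hz.1, hπ]
    · have h1 : (pbDiagram D i₀ (f₀ ≫ g₀)).map a.left z ∈
          closure (⇑((pbDiagram D i₀ (f₀ ≫ g₀)).map a.left) ''
            (⇑(Fn.app k.left) ⁻¹' {cY.π.app k.left y'})) :=
        image_closure_subset_closure_image
          ((pbDiagram D i₀ (f₀ ≫ g₀)).map a.left).continuous ⟨z, hz.2, rfl⟩
      refine closure_mono ?_ h1
      rintro _ ⟨w, hw, rfl⟩
      show Fn.app k'.left _ = _
      rw [hnat, hw, hπ]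
  have hFW : ∀ k : Over j₁, F k ⊆ ⇑((pbDiagram D i₀ (f₀ ≫ g₀)).map k.hom) ⁻¹'
      (W : Set ((pbDiagram D i₀ (f₀ ≫ g₀)).obj j₁)) := by
    intro k z hz
    have e : ((pbDiagram D i₀ (f₀ ≫ g₀)).map k.hom ≫ pullback.fst (f₀ ≫ g₀) (D.map j₁.hom) ≫ f₀) z =
        (Fn.app k.left ≫ pullback.fst g₀ (D.map k.left.hom)) z := by
      rw [pbDiagram_map_fst_assoc, pbMap_app_fst]
    have e' : (Fn.app k.left ≫ pullback.fst g₀ (D.map k.left.hom)) z =
        pullback.fst g₀ (D.map k.left.hom) (cY.π.app k.left y) :=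
      congrArg (pullback.fst g₀ (D.map k.left.hom)) hz.1
    have e'' : pullback.fst g₀ (D.map k.left.hom) (cY.π.app k.left y) = pY y :=
      congr($(pbCone_π_fst c pY hY hpbY k.left) y)
    change ((pbDiagram D i₀ (f₀ ≫ g₀)).map k.hom ≫ pullback.fst (f₀ ≫ g₀) (D.map j₁.hom) ≫ f₀) z ∈
      (V₀ : Set Y₀)
    exact Set.mem_of_eq_of_mem (e.trans (e'.trans e'')) hyV₀
  haveI : ∀ (j j' : Over i₀) (a : j ⟶ j'), IsAffineHom ((pbDiagram D i₀ (f₀ ≫ g₀)).map a) :=
    fun j j' a => inferInstance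
  obtain ⟨x, hx⟩ := exists_point_of_proConstructible_opens (pbDiagram D i₀ (f₀ ≫ g₀)) cX hcX j₁ W hW
    F hF hne hcomp hFW
  -- `f x = y`
  haveI : ∀ (j j' : Over i₀) (a : j ⟶ j'), IsAffineHom ((pbDiagram D i₀ g₀).map a) :=
    fun j j' a => inferInstance
  have hfx : f x = y := by
    apply Groth.Agent.Lib.Helper12.LimTop.eq_of_forall_π_eq (pbDiagram D i₀ g₀) cY hcY
    intro j
    let k₀ := IsCofiltered.min j j₁
    have hk : cY.π.app k₀ (f x) = cY.π.app k₀ y := by
      rw [← hconeapp]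
      exact (hx (Over.mk (IsCofiltered.minToRight j j₁))).1
    rw [← Groth.Agent.Lib.Helper12.LimTop.map_π_apply _ cY (IsCofiltered.minToLeft j j₁) (f x),
      ← Groth.Agent.Lib.Helper12.LimTop.map_π_apply _ cY (IsCofiltered.minToLeft j j₁) y, hk]
  -- `x ∈ closure (f ⁻¹ y')`
  have hcl : x ∈ closure (⇑f ⁻¹' {y'}) := by
    rw [mem_closure_iff]
    intro U hU hxU
    obtain ⟨j, O, hxO, hOU⟩ := Groth.Agent.Lib.Helper12.LimTop.exists_preimage_subset_of_isOpen
      (pbDiagram D i₀ (f₀ ≫ g₀)) cX hcX hU hxU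
    let k₀ := IsCofiltered.min j j₁
    let a : k₀ ⟶ j := IsCofiltered.minToLeft j j₁
    let k : Over j₁ := Over.mk (IsCofiltered.minToRight j j₁)
    have hxk := (hx k).2
    have hO' : IsOpen (⇑((pbDiagram D i₀ (f₀ ≫ g₀)).map a) ⁻¹' (O : Set _)) :=
      O.2.preimage ((pbDiagram D i₀ (f₀ ≫ g₀)).map a).continuous
    have hxO' : cX.π.app k₀ x ∈ ⇑((pbDiagram D i₀ (f₀ ≫ g₀)).map a) ⁻¹' (O : Set _) := by
      show (pbDiagram D i₀ (f₀ ≫ g₀)).map a (cX.π.app k₀ x) ∈ O
      rw [Groth.Agent.Lib.Helper12.LimTop.map_π_apply _ cX a x]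
      exact hxO
    obtain ⟨w, hwO, hw⟩ := mem_closure_iff.mp hxk _ hO' hxO'
    obtain ⟨x'', hx''1, hx''2⟩ := Scheme.exists_preimage_of_isPullback (hsqj k₀) w y' hw
    refine ⟨x'', hOU ?_, hx''2⟩
    show cX.π.app j x'' ∈ O
    rw [← Groth.Agent.Lib.Helper12.LimTop.map_π_apply _ cX a x'', hx''1]
    exact hwO
  obtain ⟨x', hx'1, hx'2⟩ := exists_specializes_of_mem_closure
    (isProConstructible_preimage f (isProConstructible_singleton y')) hcl
  exact ⟨x, x', hx'2, hfx, hx'1⟩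

end Main

end Groth.Agent.Lib.Helper12.LimSubtr
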