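import Mathlib
import Groth.Agent.Lib.Helper12.LimSubtr
import Groth.Agent.Lib.Helper12.FGLimit
import Groth.Agent.S14768

universe u

open CategoryTheory Limits AlgebraicGeometry TopologicalSpace Opposite Topology

set_option backward.isDefEq.respectTransparency false
set_option linter.style.haveILetI false

namespace Groth.Agent.Lib.Helper12.SubtrAff

/-- Transport of the lifting property along an isomorphism of the targets. -/
lemma isSSubtrusive_of_iso {X Y X₁ Y₁ X₂ Y₂ : Scheme.{u}} {f : X ⟶ Y} {p : Y₁ ⟶ Y} {p' : Y₂ ⟶ Y}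
    {a : X₁ ⟶ X} {b : X₁ ⟶ Y₁} {a' : X₂ ⟶ X} {b' : X₂ ⟶ Y₂} (hw : a ≫ f = b ≫ p)
    (hsq' : IsPullback a' b' f p') (e : Y₁ ≅ Y₂) (he : e.hom ≫ p' = p)
    (h : Subtr.IsSSubtrusive b) : Subtr.IsSSubtrusive b' := by
  intro y y' hyy'
  obtain ⟨x, x', hxx', hx, hx'⟩ := h (hyy'.map e.inv.continuous)
  let θ : X₁ ⟶ X₂ := hsq'.lift a (b ≫ e.hom) (by rw [hw, Category.assoc, he])
  have hθ : θ ≫ b' = b ≫ e.hom := hsq'.lift_snd _ _ _
  refine ⟨θ x, θ x', hxx'.map θ.continuous, ?_, ?_⟩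
  · rw [← Scheme.Hom.comp_apply, hθ, Scheme.Hom.comp_apply, hx, ← Scheme.Hom.comp_apply,
      e.inv_hom_id]; rfl
  · rw [← Scheme.Hom.comp_apply, hθ, Scheme.Hom.comp_apply, hx', ← Scheme.Hom.comp_apply,
      e.inv_hom_id]; rfl

/-- The lifting property passes to base changes along preimmersions. -/
lemma isSSubtrusive_comp_of_isPreimmersion {X Y W Z : Scheme.{u}} (f : X ⟶ Y) (p : W ⟶ Y)
    (ι : Z ⟶ W) [IsPreimmersion ι] (h : Subtr.IsSSubtrusive (pullback.snd f p)) :
    Subtr.IsSSubtrusive (pullback.snd f (ι ≫ p)) := by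
  intro y y' hyy'
  obtain ⟨x, x', hxx', hx, hx'⟩ := h (hyy'.map ι.continuous)
  let θ : pullback f (ι ≫ p) ⟶ pullback f p :=
    pullback.lift (pullback.fst f (ι ≫ p)) (pullback.snd f (ι ≫ p) ≫ ι)
      (by rw [Category.assoc, pullback.condition])
  have hsq : IsPullback θ (pullback.snd f (ι ≫ p)) (pullback.snd f p) ι := by
    refine IsPullback.of_right ?_ (pullback.lift_snd _ _ _) (IsPullback.of_hasPullback f p)
    simp only [θ, pullback.lift_fst]
    exact IsPullback.of_hasPullback f (ι ≫ p)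
  haveI : IsPreimmersion θ := MorphismProperty.of_isPullback (P := @IsPreimmersion) hsq.flip
    inferInstance
  obtain ⟨z, hz1, hz2⟩ := Scheme.exists_preimage_of_isPullback hsq x y hx
  obtain ⟨z', hz'1, hz'2⟩ := Scheme.exists_preimage_of_isPullback hsq x' y' hx'
  refine ⟨z, z', ?_, hz2, hz'2⟩
  rw [← θ.isEmbedding.isInducing.specializes_iff, hz1, hz'1]
  exact hxx'

/-- A finite type algebra is a quotient of a polynomial algebra in a positive number of
variables. -/
lemma exists_surjective_mvPolynomial_succ (A B : Type u) [CommRing A] [CommRing B] [Algebra A B]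
    [Algebra.FiniteType A B] :
    ∃ (n : ℕ) (ρ : MvPolynomial (ULift.{u} (Fin (n + 1))) A →ₐ[A] B), Function.Surjective ρ := by
  obtain ⟨n, ρ, hρ⟩ := Algebra.FiniteType.iff_quotient_mvPolynomial''.mp
    (inferInstance : Algebra.FiniteType A B)
  let v : Fin n → B := fun k => ρ (MvPolynomial.X k)
  let v' : ULift.{u} (Fin (n + 1)) → B := fun i =>
    if h : i.down.val < n then v ⟨i.down.val, h⟩ else 0
  refine ⟨n, MvPolynomial.aeval v', ?_⟩
  rw [← AlgHom.range_eq_top, ← Algebra.adjoin_range_eq_range_aeval, eq_top_iff]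
  have h1 : (⊤ : Subalgebra A B) = Algebra.adjoin A (Set.range v) := by
    rw [Algebra.adjoin_range_eq_range_aeval]
    have : ρ = MvPolynomial.aeval v := MvPolynomial.aeval_unique ρ
    rw [← this]
    exact (AlgHom.range_eq_top ρ).mpr hρ |>.symm
  rw [h1]
  apply Algebra.adjoin_mono
  rintro _ ⟨k, rfl⟩
  refine ⟨⟨⟨k.val, Nat.lt_succ_of_lt k.isLt⟩⟩, ?_⟩
  simp only [v']
  rw [dif_pos k.isLt]

open AffineSpace in
theorem isSSubtrusive_of_finiteType {X Y : Scheme.{u}} (f : X ⟶ Y)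
    (H : ∀ n : ℕ, 0 < n →
      Subtr.IsSSubtrusive (pullback.snd f (AffineSpace (ULift.{u} (Fin n)) Y ↘ Y)))
    (A B : CommRingCat.{u}) (j : Spec A ⟶ Y) [IsOpenImmersion j] (φ : A ⟶ B)
    (hφ : φ.hom.FiniteType) :
    Subtr.IsSSubtrusive (pullback.snd f (Spec.map φ ≫ j)) := by
  algebraize [φ.hom]
  obtain ⟨n, ρ, hρ⟩ := exists_surjective_mvPolynomial_succ A B
  let ι : Spec B ⟶ AffineSpace (ULift.{u} (Fin (n + 1))) Y :=
    Spec.map (CommRingCat.ofHom ρ.toRingHom) ≫
      (AffineSpace.SpecIso (ULift.{u} (Fin (n + 1))) A).inv ≫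
        AffineSpace.map (ULift.{u} (Fin (n + 1))) j
  have hι : ι ≫ (AffineSpace (ULift.{u} (Fin (n + 1))) Y ↘ Y) = Spec.map φ ≫ j := by
    simp only [ι, Category.assoc, AffineSpace.map_over]
    rw [AffineSpace.SpecIso_inv_over_assoc, ← Spec.map_comp_assoc]
    congr 2
    ext a
    exact ρ.commutes a
  haveI : IsClosedImmersion (Spec.map (CommRingCat.ofHom ρ.toRingHom)) :=
    IsClosedImmersion.spec_of_surjective _ hρ
  haveI : IsOpenImmersion (AffineSpace.map (ULift.{u} (Fin (n + 1))) j) :=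
    MorphismProperty.of_isPullback (P := @IsOpenImmersion)
      (AffineSpace.isPullback_map (n := ULift.{u} (Fin (n + 1))) j).flip inferInstance
  haveI : IsPreimmersion ι := by
    dsimp only [ι]; infer_instance
  have := isSSubtrusive_comp_of_isPreimmersion f
    (AffineSpace (ULift.{u} (Fin (n + 1))) Y ↘ Y) ι (H (n + 1) (Nat.succ_pos n))
  rwa [hι] at this

open Groth.Agent.Lib.Helper12.FGLimit Groth.Agent.Lib.Helper12.PbDiag in
/-- The affine space criterion (Rydh): if all the base changes of a quasi-compact `f` to affine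
spaces over the target have the lifting property for ordered pairs, so do all base changes. -/
theorem univSSubtrusive_of_affineSpace {X Y : Scheme.{u}} (f : X ⟶ Y) [QuasiCompact f]
    (H : ∀ n : ℕ, 0 < n →
      Subtr.IsSSubtrusive (pullback.snd f (AffineSpace (ULift.{u} (Fin n)) Y ↘ Y))) :
    Subtr.UnivSSubtrusive f := by
  rw [Groth.Agent.S14768.result]
  intro V _ _ _ g
  obtain ⟨_, ⟨U, hU, rfl⟩, hyU, -⟩ := Y.isBasis_affineOpens.exists_subset_of_mem_open
    (Set.mem_univ (g (IsLocalRing.closedPoint V))) isOpen_univ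
  have hrange : Set.range g ⊆ Set.range hU.fromSpec := by
    rw [hU.range_fromSpec]
    rintro _ ⟨p, rfl⟩
    exact ((IsLocalRing.specializes_closedPoint p).map g.continuous).mem_open U.2 hyU
  let g' : Spec (CommRingCat.of V) ⟶ Spec Γ(Y, U) := IsOpenImmersion.lift hU.fromSpec g hrange
  have hg' : g' ≫ hU.fromSpec = g := IsOpenImmersion.lift_fac _ _ _
  obtain ⟨ψ, hψ⟩ := Spec.map_surjective g'
  letI : Algebra Γ(Y, U) V := ψ.hom.toAlgebra
  let D := specDiag Γ(Y, U) V
  let c := specCone Γ(Y, U) V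
  have hc : IsLimit c := isLimitSpecCone Γ(Y, U) V
  let i₀ : (FGSub Γ(Y, U) V)ᵒᵖ := op ⟨⊥, Subalgebra.fg_bot⟩
  let β : ∀ i : (FGSub Γ(Y, U) V)ᵒᵖ, D.obj i ⟶ Y := fun i =>
    Spec.map (CommRingCat.ofHom (algebraMap Γ(Y, U) i.unop.1)) ≫ hU.fromSpec
  have hβ : ∀ {i i' : (FGSub Γ(Y, U) V)ᵒᵖ} (m : i ⟶ i'), D.map m ≫ β i' = β i := by
    intro i i' m
    show Spec.map _ ≫ Spec.map _ ≫ _ = Spec.map _ ≫ _
    rw [← Spec.map_comp_assoc]
    rfl
  have hcβ : ∀ i, c.π.app i ≫ β i = g := by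
    intro i
    show Spec.map _ ≫ Spec.map _ ≫ _ = _
    rw [← Spec.map_comp_assoc, ← hg', ← hψ]
    rfl
  have hfin : ∀ i : (FGSub Γ(Y, U) V)ᵒᵖ, Subtr.IsSSubtrusive (pullback.snd f (β i)) := by
    intro i
    refine isSSubtrusive_of_finiteType f H Γ(Y, U) (CommRingCat.of i.unop.1) hU.fromSpec
      (CommRingCat.ofHom (algebraMap Γ(Y, U) i.unop.1)) ?_
    show (algebraMap Γ(Y, U) i.unop.1).FiniteType
    rw [RingHom.finiteType_algebraMap]
    exact (Subalgebra.fg_iff_finiteType _).mp i.unop.2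
  let f₀ := pullback.snd f (β i₀)
  have hstage : ∀ (j : Over i₀) (_ : j ⟶ Over.mk (𝟙 i₀)),
      Subtr.IsSSubtrusive ((pbMap D i₀ (𝟙 (D.obj i₀)) f₀).app j) := by
    intro j _
    have hsq' := (isPullback_pbMap_app D i₀ (𝟙 (D.obj i₀)) f₀ j).paste_horiz
      (IsPullback.of_hasPullback f (β i₀))
    haveI : IsIso (pullback.snd (𝟙 (D.obj i₀)) (D.map j.hom)) := inferInstance
    refine isSSubtrusive_of_iso (pullback.condition (f := f) (g := β j.left)) hsq'
      (asIso (pullback.snd (𝟙 (D.obj i₀)) (D.map j.hom))).symm ?_ (hfin j.left)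
    rw [Iso.symm_hom, asIso_inv, IsIso.inv_comp_eq]
    have h1 : pullback.fst (𝟙 (D.obj i₀)) (D.map j.hom) =
        pullback.snd (𝟙 (D.obj i₀)) (D.map j.hom) ≫ D.map j.hom := by
      have := pullback.condition (f := 𝟙 (D.obj i₀)) (g := D.map j.hom)
      rwa [Category.comp_id] at this
    rw [h1, Category.assoc, hβ]
  haveI : QuasiCompact f₀ := MorphismProperty.pullback_snd (P := @QuasiCompact) _ _ inferInstance
  have hlim := Groth.Agent.Lib.Helper12.LimSubtr.isSSubtrusive_limit D c hc i₀ f₀ (𝟙 (D.obj i₀))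
    (Over.mk (𝟙 i₀)) hstage
  haveI : IsIso (pullback.snd (𝟙 (D.obj i₀)) (c.π.app i₀)) := inferInstance
  have hw : (pullback.fst f₀ (pullback.fst (𝟙 (D.obj i₀)) (c.π.app i₀)) ≫ pullback.fst f (β i₀)) ≫ f =
      pullback.snd f₀ (pullback.fst (𝟙 (D.obj i₀)) (c.π.app i₀)) ≫
        (pullback.fst (𝟙 (D.obj i₀)) (c.π.app i₀) ≫ β i₀) := by
    rw [Category.assoc, pullback.condition, ← Category.assoc, pullback.condition, Category.assoc]
  refine isSSubtrusive_of_iso hw (IsPullback.of_hasPullback f g)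
    (asIso (pullback.snd (𝟙 (D.obj i₀)) (c.π.app i₀))) ?_ hlim
  have h1 : pullback.fst (𝟙 (D.obj i₀)) (c.π.app i₀) =
      pullback.snd (𝟙 (D.obj i₀)) (c.π.app i₀) ≫ c.π.app i₀ := by
    have := pullback.condition (f := 𝟙 (D.obj i₀)) (g := c.π.app i₀)
    rwa [Category.comp_id] at this
  rw [asIso_hom, h1, Category.assoc, hcβ]

end Groth.Agent.Lib.Helper12.SubtrAff
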