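import Mathlib
import Groth.Agent.Lib.Helper12.SubtrAff
import Groth.Agent.Lib.Helper11.Birat9
import Groth.Agent.S14766
import Groth.Agent.S14767

universe u

open CategoryTheory Limits AlgebraicGeometry TopologicalSpace Opposite Topology

set_option backward.isDefEq.respectTransparency false
set_option linter.style.haveILetI false

namespace Groth.Agent.Lib.Helper12.SubtrNoeth

/-- A quasi-compact morphism with the lifting property for ordered pairs is submersive. -/
lemma isQuotientMap_of_isSSubtrusive {X Y : Scheme.{u}} (f : X ⟶ Y) [QuasiCompact f]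
    (h : Subtr.IsSSubtrusive f) : Topology.IsQuotientMap f := by
  have hsurj : Function.Surjective f := fun y => by
    obtain ⟨x, -, -, hx, -⟩ := h (specializes_refl y)
    exact ⟨x, hx⟩
  rw [Topology.isQuotientMap_iff_isClosed]
  refine ⟨hsurj, fun W => ⟨fun hW => hW.preimage f.continuous, fun hW => ?_⟩⟩
  have hWeq : f '' (f ⁻¹' W) = W := Set.image_preimage_eq W hsurj
  rw [← hWeq]
  refine Groth.Agent.S14767.isClosed_image_of_stable f _ hW ?_
  rw [hWeq]
  intro w' w hw hw'
  obtain ⟨x, x', hxx', hx, hx'⟩ := h hw
  have : x ∈ f ⁻¹' W := hxx'.mem_closed hW (by show f x' ∈ W; rw [hx']; exact hw')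
  rw [← hx]; exact this

/-- Quasi-compact universally S-subtrusive morphisms are universally submersive. -/
theorem univSubmersive_of_univSSubtrusive {X Y : Scheme.{u}} (f : X ⟶ Y) [QuasiCompact f]
    (h : Subtr.UnivSSubtrusive f) : SGA1.UnivSubmersive f := by
  intro X' Y' i₁ i₂ f' hpb
  haveI : QuasiCompact f' := MorphismProperty.of_isPullback (P := @QuasiCompact) hpb.flip inferInstance
  exact isQuotientMap_of_isSSubtrusive f' (h _ _ _ hpb)

/-- On a locally Noetherian scheme the lifting property can be tested on discrete valuation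
rings. -/
theorem isSSubtrusive_of_dvr {Z W : Scheme.{u}} [IsLocallyNoetherian W] (h : Z ⟶ W)
    (hsurj : Function.Surjective h)
    (H : ∀ (R : Type u) [CommRing R] [IsDomain R] [IsDiscreteValuationRing R]
      (u : Spec (CommRingCat.of R) ⟶ W), Subtr.IsSSubtrusive (pullback.snd h u)) :
    Subtr.IsSSubtrusive h := by
  intro w w' hww'
  by_cases hne : w' = w
  · subst hne
    obtain ⟨x, hx⟩ := hsurj w'
    exact ⟨x, x, specializes_rfl, hx, hx⟩
  obtain ⟨R, iR, iD, iV, u, hus, huη⟩ :=
    Groth.Agent.Lib.Helper11.Birat9.exists_dvr_of_specializes hww' hne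
  obtain ⟨t₀⟩ : Nonempty ↥(Spec (CommRingCat.of (FractionRing R))) := inferInstance
  set η := (Spec.map (CommRingCat.ofHom (algebraMap R (FractionRing R)))).base t₀ with hη
  have huη' : u.base η = w' := by
    have := huη t₀
    rwa [Scheme.Hom.comp_apply] at this
  obtain ⟨z, z', hzz', hz, hz'⟩ := H R u (IsLocalRing.specializes_closedPoint η)
  refine ⟨pullback.fst h u z, pullback.fst h u z', hzz'.map (pullback.fst h u).continuous, ?_, ?_⟩
  · rw [← Scheme.Hom.comp_apply, pullback.condition, Scheme.Hom.comp_apply, hz, hus]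
  · rw [← Scheme.Hom.comp_apply, pullback.condition, Scheme.Hom.comp_apply, hz', huη']

/-- Over a locally Noetherian base, quasi-compact universally submersive morphisms are universally
S-subtrusive. -/
theorem univSSubtrusive_of_univSubmersive {X Y : Scheme.{u}} [IsLocallyNoetherian Y] (f : X ⟶ Y)
    [QuasiCompact f] (hf : SGA1.UnivSubmersive f) : Subtr.UnivSSubtrusive f := by
  apply Groth.Agent.Lib.Helper12.SubtrAff.univSSubtrusive_of_affineSpace
  intro n _
  set p := AffineSpace (ULift.{u} (Fin n)) Y ↘ Y with hp
  haveI : IsLocallyNoetherian (AffineSpace (ULift.{u} (Fin n)) Y) :=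
    LocallyOfFiniteType.isLocallyNoetherian p
  have hq : Topology.IsQuotientMap (pullback.snd f p) :=
    hf _ _ _ (IsPullback.of_hasPullback f p).flip
  refine isSSubtrusive_of_dvr (pullback.snd f p) hq.surjective ?_
  intro R _ _ _ u
  rw [← Groth.Agent.S14766.result]
  have big : IsPullback (pullback.snd (pullback.snd f p) u)
      (pullback.fst (pullback.snd f p) u ≫ pullback.fst f p) (u ≫ p) f :=
    ((IsPullback.of_hasPullback (pullback.snd f p) u).paste_horiz
      (IsPullback.of_hasPullback f p)).flip
  exact hf _ _ _ big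

end Groth.Agent.Lib.Helper12.SubtrNoeth
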