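import Mathlib
import Groth.Agent.Lib.Helper12.SubtrNoeth
import Groth.Agent.S7476
import Groth.Agent.S7477

universe u

open CategoryTheory Limits AlgebraicGeometry TopologicalSpace Opposite Topology

set_option backward.isDefEq.respectTransparency false
set_option linter.style.haveILetI false

namespace Groth.Agent.Lib.Helper12.HCoverNoeth

lemma exists_lift_of_isLocalRing {R : CommRingCat.{u}} [IsLocalRing R] {Y U' : Scheme.{u}}
    (g : Spec R ⟶ Y) (ι : U' ⟶ Y) [IsOpenImmersion ι]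
    (h : g (IsLocalRing.closedPoint R) ∈ Set.range ι) : ∃ l : Spec R ⟶ U', l ≫ ι = g := by
  have hr : Set.range g ⊆ Set.range ι := by
    rintro _ ⟨z, rfl⟩
    exact ((IsLocalRing.specializes_closedPoint z).map g.continuous).mem_open
      ι.isOpenEmbedding.isOpen_range h
  exact ⟨IsOpenImmersion.lift ι g hr, IsOpenImmersion.lift_fac _ _ _⟩

lemma quasiCompact_sigmaDesc {σ : Type u} [Finite σ] (g : σ → Scheme.{u}) {X : Scheme.{u}}
    (f : ∀ i, g i ⟶ X) [∀ i, QuasiCompact (f i)] : QuasiCompact (Sigma.desc f) := by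
  refine ⟨fun U hU hUc => ?_⟩
  have : (Sigma.desc f) ⁻¹' U = ⋃ i, (Sigma.ι g i) '' ((f i) ⁻¹' U) := by
    ext x
    obtain ⟨⟨i, y⟩, rfl⟩ := (sigmaMk g).surjective x
    rw [sigmaMk_mk]
    simp only [Set.mem_preimage, Set.mem_iUnion, Set.mem_image]
    have h1 : Sigma.desc f (Sigma.ι g i y) = f i y := by
      rw [← Scheme.Hom.comp_apply, Sigma.ι_desc]
    rw [h1]
    constructor
    · intro h; exact ⟨i, y, h, rfl⟩
    · rintro ⟨j, z, hz, hzy⟩
      obtain ⟨rfl⟩ := (sigmaι_eq_iff _ _ _ _ _).mp hzy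
      exact hz
  rw [this]
  exact isCompact_iUnion fun i =>
    (QuasiCompact.isCompact_preimage (f := f i) U hU hUc).image (Sigma.ι g i).continuous

theorem hasValLift_singleton_of_univSSubtrusive {X Y : Scheme.{u}} (f : X ⟶ Y) [QuasiCompact f]
    (h2 : Subtr.UnivSSubtrusive f) :
    HTop.HasValLift (PreZeroHypercover.singleton.{u} f) := by
  rw [(Groth.Agent.S7476.result.{u, 0, 0, u} f).2]
  intro Z g z' z hz
  have := h2 _ _ _ (IsPullback.of_hasPullback g f)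
  obtain ⟨w, w', hww', hw, hw'⟩ := this hz
  exact ⟨w', w, hww', hw', hw⟩

theorem isVCover_of_univSubmersive {X : Scheme.{u}} [IsNoetherian X]
    (E : PreZeroHypercover.{u} X) [Finite E.I₀] [∀ i, QuasiCompact (E.f i)]
    (h : SGA1.UnivSubmersive (Sigma.desc E.f)) : HTop.IsVCover E := by
  classical
  haveI : QuasiCompact (Sigma.desc E.f) := quasiCompact_sigmaDesc E.X E.f
  have h2 := Groth.Agent.Lib.Helper12.SubtrNoeth.univSSubtrusive_of_univSubmersive _ h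
  have h3 := hasValLift_singleton_of_univSSubtrusive _ h2
  intro U
  haveI : IsAffine ((U : X.Opens) : Scheme.{u}) := U.2
  haveI : ∀ i, CompactSpace ↑(pullback (E.f i) (U : X.Opens).ι) := fun i =>
    QuasiCompact.compactSpace_of_compactSpace (pullback.snd (E.f i) (U : X.Opens).ι)
  let 𝒰 : ∀ i, (pullback (E.f i) (U : X.Opens).ι).OpenCover := fun i =>
    (pullback (E.f i) (U : X.Opens).ι).affineCover.finiteSubcover
  haveI : ∀ i, Finite (𝒰 i).I₀ := fun i => inferInstance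
  let K := Σ i : E.I₀, (𝒰 i).I₀
  let 𝒳 : K → Scheme.{u} := fun x => (𝒰 x.1).X x.2
  let 𝒻 : ∀ x : K, 𝒳 x ⟶ ((U : X.Opens) : Scheme.{u}) := fun x =>
    (𝒰 x.1).f x.2 ≫ pullback.snd (E.f x.1) (U : X.Opens).ι
  haveI : ∀ x, IsAffine (𝒳 x) := fun x => inferInstanceAs (IsAffine (Spec _))
  let e : K ≃ Fin (Nat.card K) := Finite.equivFin K
  let F : PreZeroHypercover.{0} ((U : X.Opens) : Scheme.{u}) :=
    { I₀ := Fin (Nat.card K)
      X := fun k => 𝒳 (e.symm k)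
      f := fun k => 𝒻 (e.symm k) }
  refine ⟨F, ⟨inferInstance, inferInstanceAs (Finite (Fin _)), fun k => inferInstanceAs (IsAffine (𝒳 _)),
    ?_⟩, ?_⟩
  · intro V _ _ g
    obtain ⟨W, iD, iV, φ, hext, j, g', hg'⟩ := h3 V (g ≫ (U : X.Opens).ι)
    refine ⟨W, iD, iV, φ, hext, ?_⟩
    let g'' : Spec W ⟶ ∐ E.X := g'
    have hg'' : g'' ≫ Sigma.desc E.f = Spec.map φ ≫ g ≫ (U : X.Opens).ι := hg'
    suffices hx : ∃ (x : K) (c' : Spec W ⟶ 𝒳 x), c' ≫ 𝒻 x = Spec.map φ ≫ g by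
      obtain ⟨x, c', hc'⟩ := hx
      obtain ⟨k, rfl⟩ : ∃ k, x = e.symm k := ⟨e x, (e.symm_apply_apply x).symm⟩
      exact ⟨k, c', hc'⟩
    obtain ⟨⟨i, y⟩, hy⟩ := (sigmaMk E.X).surjective (g'' (IsLocalRing.closedPoint W))
    rw [sigmaMk_mk] at hy
    obtain ⟨a, ha⟩ := exists_lift_of_isLocalRing g'' (Sigma.ι E.X i) ⟨y, hy⟩
    have hcond : a ≫ E.f i = (Spec.map φ ≫ g) ≫ (U : X.Opens).ι := by
      rw [Category.assoc, ← hg'', ← ha, Category.assoc, Sigma.ι_desc]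
    let l : Spec W ⟶ pullback (E.f i) (U : X.Opens).ι := pullback.lift a (Spec.map φ ≫ g) hcond
    obtain ⟨m, hm⟩ := (𝒰 i).exists_eq (l (IsLocalRing.closedPoint W))
    obtain ⟨c', hc'⟩ := exists_lift_of_isLocalRing l ((𝒰 i).f m) hm
    refine ⟨⟨i, m⟩, c', ?_⟩
    show c' ≫ (𝒰 i).f m ≫ pullback.snd (E.f i) (U : X.Opens).ι = _
    rw [reassoc_of% hc', pullback.lift_snd]
  · intro k
    refine ⟨(e.symm k).1, (𝒰 (e.symm k).1).f (e.symm k).2 ≫
      pullback.fst (E.f (e.symm k).1) (U : X.Opens).ι, ?_⟩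
    show _ = ((𝒰 (e.symm k).1).f (e.symm k).2 ≫ pullback.snd (E.f (e.symm k).1) (U : X.Opens).ι) ≫ _
    rw [Category.assoc, Category.assoc, pullback.condition]

end Groth.Agent.Lib.Helper12.HCoverNoeth
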