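import Mathlib
import Groth.Agent.Lib.Helper12.ClosedApprox

/-!
# The system of scheme-theoretic images of a closed subscheme of a limit

Let `c` be a limit cone of a cofiltered diagram `D` of schemes with affine transition maps, and
`ι : X ⟶ c.pt` a closed immersion. The scheme-theoretic images `Z k` of `X` in the stages `D k`
form a diagram `imgSys`, with a natural closed immersion `imgι : imgSys ⟶ D`, and `X` is the limit
of the `Z k` (`nonempty_isLimit_imgCone`).
-/

universe u

open CategoryTheory Limits AlgebraicGeometry TopologicalSpace Opposite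

set_option backward.isDefEq.respectTransparency false
set_option linter.style.haveILetI false
set_option linter.unusedSectionVars false

namespace Groth.Agent.Lib.Helper12.ImageSys

open Scheme IdealSheafData Groth.Agent.Lib.Helper12.ClosedApprox

variable {K : Type u} [SmallCategory K] (D : K ⥤ Scheme.{u}) (c : Cone D) {X : Scheme.{u}}
  (ι : X ⟶ c.pt)

/-- The ideal sheaf of the scheme-theoretic image of `X` in the stage `k`. -/
noncomputable def img (k : K) : (D.obj k).IdealSheafData := (ι ≫ c.π.app k).ker

lemma img_le_map {k' k : K} (m : k' ⟶ k) : img D c ι k ≤ (img D c ι k').map (D.map m) := by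
  unfold img
  rw [map_ker, Category.assoc, c.w]

/-- The system of scheme-theoretic images. -/
noncomputable def imgSys : K ⥤ Scheme.{u} where
  obj k := (img D c ι k).subscheme
  map m := subschemeMap _ _ (D.map m) (img_le_map D c ι m)
  map_id k := by
    rw [← cancel_mono (subschemeι _)]
    simp
  map_comp m n := by
    rw [← cancel_mono (subschemeι _)]
    simp

/-- The closed immersions of the images into the stages. -/
noncomputable def imgι : imgSys D c ι ⟶ D where
  app k := (img D c ι k).subschemeι
  naturality _ _ m := subschemeMap_subschemeι _ _ (D.map m) (img_le_map D c ι m)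

lemma imgι_app (k : K) : (imgι D c ι).app k = (img D c ι k).subschemeι := rfl

instance (k : K) : IsClosedImmersion ((imgι D c ι).app k) :=
  inferInstanceAs (IsClosedImmersion (img D c ι k).subschemeι)

/-- The cone with vertex `X` over the system of images. -/
noncomputable def imgCone : Cone (imgSys D c ι) where
  pt := X
  π :=
    { app := fun k => (ι ≫ c.π.app k).toImage
      naturality := fun k' k m => by
        rw [← cancel_mono ((img D c ι k).subschemeι)]
        dsimp [imgSys]
        simp only [Category.id_comp, Category.assoc, subschemeMap_subschemeι]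
        erw [Hom.toImage_imageι, Hom.toImage_imageι_assoc]
        rw [Category.assoc, c.w] }

@[reassoc (attr := simp)]
lemma imgCone_π_imgι (k : K) :
    (imgCone D c ι).π.app k ≫ (imgι D c ι).app k = ι ≫ c.π.app k :=
  Hom.toImage_imageι _

variable [IsCofiltered K] [∀ {i j : K} (f : i ⟶ j), IsAffineHom (D.map f)]

/-- `X` is the limit of its scheme-theoretic images in the stages. -/
theorem nonempty_isLimit_imgCone (hc : IsLimit c) [IsClosedImmersion ι] :
    Nonempty (IsLimit (imgCone D c ι)) := by
  refine ⟨IsLimit.ofExistsUnique fun s => ?_⟩
  let s' : Cone D := (Cones.postcompose (imgι D c ι)).obj s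
  let l₀ : s.pt ⟶ c.pt := hc.lift s'
  have hl₀ : ∀ k, l₀ ≫ c.π.app k = s.π.app k ≫ (img D c ι k).subschemeι := fun k => hc.fac s' k
  have hker : ι.ker ≤ l₀.ker := by
    refine (ker_le_iSup_Jk D c hc ι).trans (iSup_le fun k => ?_)
    unfold Jk
    rw [← le_map_iff_comap_le, map_ker, hl₀ k]
    have := Hom.le_ker_comp (s.π.app k) (img D c ι k).subschemeι
    rwa [(img D c ι k).ker_subschemeι] at this
  refine ⟨IsClosedImmersion.lift ι l₀ hker, fun k => ?_, fun m hm => ?_⟩
  · rw [← cancel_mono ((img D c ι k).subschemeι), Category.assoc]
    erw [imgCone_π_imgι]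
    rw [IsClosedImmersion.lift_fac_assoc, hl₀]
  · rw [← cancel_mono ι, IsClosedImmersion.lift_fac]
    apply hc.hom_ext
    intro k
    rw [hl₀ k, ← hm k, Category.assoc, Category.assoc]
    erw [imgCone_π_imgι]

end Groth.Agent.Lib.Helper12.ImageSys
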