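import Mathlib
import Groth.Agent.S0386
import Groth.Agent.S6884

/-!
# Descent of flatness along an injective integral base change, local version (EGA IV 11.5)

`A → A'` injective integral, `f : X ⟶ Spec A` locally of finite presentation, `x ∈ X`.
If `X ×_A A' ⟶ Spec A'` is flat at every point above `x`, then `f` is flat at `x`.
-/

open CategoryTheory CategoryTheory.Limits AlgebraicGeometry TensorProduct

universe u

namespace Groth.Agent.Lib.Helper12.IntFlatLocal

/-- Ring-level core: `C` a finitely presented `A`-algebra, `A → A'` injective integral and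
`A' → C ⊗[A] A'` flat; then `C` is flat over `A`. -/
theorem flat_of_flat_includeRight {A A' C : Type u} [CommRing A] [CommRing A'] [CommRing C]
    [Algebra A A'] [Algebra A C] [Algebra.IsIntegral A A']
    (hinj : Function.Injective (algebraMap A A')) [Algebra.FinitePresentation A C]
    (h : (Algebra.TensorProduct.includeRight : A' →ₐ[A] C ⊗[A] A').toRingHom.Flat) :
    Module.Flat A C := by
  obtain ⟨n, φ, hφ, hker⟩ := Algebra.FinitePresentation.out (R := A) (A := C)
  letI : Algebra (MvPolynomial (Fin n) A) C := φ.toRingHom.toAlgebra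
  haveI : IsScalarTower A (MvPolynomial (Fin n) A) C :=
    IsScalarTower.of_algebraMap_eq (fun r => (φ.commutes r).symm)
  haveI : Module.FinitePresentation (MvPolynomial (Fin n) A) C := by
    refine Module.finitePresentation_of_surjective
      (Algebra.linearMap (MvPolynomial (Fin n) A) C) hφ ?_
    have : LinearMap.ker (Algebra.linearMap (MvPolynomial (Fin n) A) C) =
        RingHom.ker φ.toRingHom := by
      ext x
      simp [RingHom.mem_ker, RingHom.algebraMap_toAlgebra]
    rw [this]
    exact hker
  haveI : Module.Flat A' (A' ⊗[A] C) := by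
    letI := Algebra.TensorProduct.rightAlgebra (R := A) (A := C) (B := A')
    have h' : Module.Flat A' (C ⊗[A] A') := h
    exact Module.Flat.of_linearEquiv (Algebra.TensorProduct.commRight A A' C).toLinearEquiv
  exact Groth.Agent.S6884.result A A' hinj n C

/-- Affine-chart step: if `j : Spec C ⟶ X` is an open immersion such that the base change of `f`
is flat at all points above the range of `j`, then `j ≫ f` is flat. -/
theorem flat_comp_of_forall_flat {A A' C : Type u} [CommRing A] [CommRing A'] [CommRing C]
    [Algebra A A'] [Algebra.IsIntegral A A'] (hinj : Function.Injective (algebraMap A A'))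
    {X : Scheme.{u}} (f : X ⟶ Spec (CommRingCat.of A)) [LocallyOfFinitePresentation f]
    (j : Spec (CommRingCat.of C) ⟶ X) [IsOpenImmersion j]
    (h : ∀ x' : ↥(pullback f (Spec.map (CommRingCat.ofHom (algebraMap A A')))),
      (pullback.fst f _).base x' ∈ Set.range j.base →
      ((pullback.snd f (Spec.map (CommRingCat.ofHom (algebraMap A A')))).stalkMap x').hom.Flat) :
    Flat (j ≫ f) := by
  set g := Spec.map (CommRingCat.ofHom (algebraMap A A')) with hg
  set π := pullback.fst f g with hπ
  set f' := pullback.snd f g with hf'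
  let φc : CommRingCat.of A ⟶ CommRingCat.of C := Spec.preimage (j ≫ f)
  have hφc : Spec.map φc = j ≫ f := Spec.map_preimage _
  have hfp : φc.hom.FinitePresentation := by
    have : LocallyOfFinitePresentation (Spec.map φc) := by rw [hφc]; infer_instance
    exact (HasRingHomProperty.Spec_iff (P := @LocallyOfFinitePresentation)).mp this
  letI : Algebra A C := φc.hom.toAlgebra
  haveI : Algebra.FinitePresentation A C := hfp
  have hφc' : Spec.map (CommRingCat.ofHom (algebraMap A C)) = j ≫ f := hφc
  -- the open immersion `o : pullback j π ⟶ X'`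
  let o := pullback.snd j π
  have ho : ∀ z, (f'.stalkMap (o.base z)).hom.Flat := by
    intro z
    apply h
    have h2 : π.base (o.base z) = j.base ((pullback.fst j π).base z) := by
      rw [← Scheme.Hom.comp_apply, ← Scheme.Hom.comp_apply, pullback.condition]
    rw [h2]
    exact ⟨_, rfl⟩
  have hoflat : Flat (o ≫ f') := by
    rw [Flat.iff_flat_stalkMap]
    intro z
    rw [Scheme.Hom.stalkMap_comp]
    exact (RingHom.Flat.respectsIso.cancel_right_isIso _ (o.stalkMap z)).mpr (ho z)
  let e := pullbackRightPullbackFstIso f g j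
  have he : e.inv ≫ o ≫ f' = pullback.snd (j ≫ f) g :=
    pullbackRightPullbackFstIso_inv_snd_snd f g j
  have hflat2 : Flat (pullback.snd (j ≫ f) g) := by
    rw [← he]; infer_instance
  have hflat3 : Flat (pullback.snd (Spec.map (CommRingCat.ofHom (algebraMap A C)))
      (Spec.map (CommRingCat.ofHom (algebraMap A A')))) := by
    rw [hφc']; exact hflat2
  have hflat4 : Flat ((pullbackSpecIso A C A').inv ≫ pullback.snd _ _) := inferInstance
  rw [pullbackSpecIso_inv_snd] at hflat4
  have hflat5 : (Algebra.TensorProduct.includeRight : A' →ₐ[A] C ⊗[A] A').toRingHom.Flat :=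
    (HasRingHomProperty.Spec_iff (P := @Flat)).mp hflat4
  have hflatC : Module.Flat A C := flat_of_flat_includeRight hinj hflat5
  rw [← hφc]
  exact (HasRingHomProperty.Spec_iff (P := @Flat)).mpr hflatC

/-- EGA IV 11.5 (local form): descent of flatness at a point along an injective integral base
change. -/
theorem flat_stalkMap_of_integral {A A' : Type u} [CommRing A] [CommRing A']
    [Algebra A A'] [Algebra.IsIntegral A A'] (hinj : Function.Injective (algebraMap A A'))
    {X : Scheme.{u}} (f : X ⟶ Spec (CommRingCat.of A)) [LocallyOfFinitePresentation f] (x : X)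
    (h : ∀ x' : ↥(pullback f (Spec.map (CommRingCat.ofHom (algebraMap A A')))),
      (pullback.fst f _).base x' = x →
      ((pullback.snd f (Spec.map (CommRingCat.ofHom (algebraMap A A')))).stalkMap x').hom.Flat) :
    (f.stalkMap x).hom.Flat := by
  set g := Spec.map (CommRingCat.ofHom (algebraMap A A')) with hg
  haveI : IsIntegralHom g := IsIntegralHom.SpecMap_iff.mpr (by
    show (algebraMap A A').IsIntegral
    exact algebraMap_isIntegral_iff.mpr inferInstance)
  set π := pullback.fst f g with hπ
  set f' := pullback.snd f g with hf'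
  have hopen : IsOpen {x' | (f'.stalkMap x').hom.Flat} := Groth.Agent.S0386.result f'
  have hZ : IsClosed (π.base '' {x' | (f'.stalkMap x').hom.Flat}ᶜ) :=
    π.isClosedMap _ hopen.isClosed_compl
  have hxZ : x ∉ π.base '' {x' | (f'.stalkMap x').hom.Flat}ᶜ := by
    rintro ⟨x', hx', rfl⟩
    exact hx' (h x' rfl)
  obtain ⟨W, hW, hxW, hWZ⟩ := TopologicalSpace.Opens.isBasis_iff_nbhd.mp X.isBasis_affineOpens
    (U := ⟨_, hZ.isOpen_compl⟩) hxZ
  have hWaff : IsAffineOpen W := hW
  have hjrange : Set.range hWaff.fromSpec.base = W := hWaff.range_fromSpec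
  have hflat6 : Flat (hWaff.fromSpec ≫ f) := by
    refine flat_comp_of_forall_flat (C := Γ(X, W)) hinj f hWaff.fromSpec ?_
    intro x' hx'
    by_contra hz
    rw [hjrange] at hx'
    exact hWZ hx' ⟨x', hz, rfl⟩
  obtain ⟨y, hy⟩ : x ∈ Set.range hWaff.fromSpec.base := by rw [hjrange]; exact hxW
  have h7 := (Flat.iff_flat_stalkMap (f := hWaff.fromSpec ≫ f)).mp hflat6 y
  rw [Scheme.Hom.stalkMap_comp] at h7
  have h8 := (RingHom.Flat.respectsIso.cancel_right_isIso _ (hWaff.fromSpec.stalkMap y)).mp h7
  subst hy
  exact h8

end Groth.Agent.Lib.Helper12.IntFlatLocal
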