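import Mathlib
import Groth.Agent.Lib.Helper12.ProperApprox

universe u v w

open CategoryTheory Limits AlgebraicGeometry TopologicalSpace Opposite

set_option backward.isDefEq.respectTransparency false
set_option linter.style.haveILetI false
set_option linter.unusedSectionVars false

namespace Groth.Agent.Lib.Helper12.IntegralApprox

open Scheme IdealSheafData Groth.Agent.Lib.Helper12.ClosedApprox
  Groth.Agent.Lib.Helper12.ProperApprox

/-- A cone over a subdiagram (componentwise monomorphisms) whose image cone is a limit cone is a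
limit cone. -/
def isLimitOfMono {K : Type v} [Category.{w} K] {C : Type*} [Category C] {E F : K ⥤ C}
    (η : F ⟶ E) [∀ k, Mono (η.app k)] (cF : Cone F)
    (hE : IsLimit ((Cone.postcompose η).obj cF)) : IsLimit cF where
  lift s := hE.lift ((Cone.postcompose η).obj s)
  fac s k := by
    rw [← cancel_mono (η.app k), Category.assoc]
    exact hE.fac ((Cone.postcompose η).obj s) k
  uniq s m hm := by
    apply hE.uniq ((Cone.postcompose η).obj s)
    intro k
    change m ≫ cF.π.app k ≫ η.app k = s.π.app k ≫ η.app k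
    rw [← Category.assoc, hm k]

/-- The intersection of two closed subschemes of finite presentation. -/
lemma exists_inter {W : Scheme.{u}} (Z₁ Z₂ : W.IdealSheafData)
    [LocallyOfFinitePresentation Z₁.subschemeι] [LocallyOfFinitePresentation Z₂.subschemeι] :
    ∃ Z : W.IdealSheafData, Z₁ ≤ Z ∧ Z₂ ≤ Z ∧ LocallyOfFinitePresentation Z.subschemeι ∧
      (∀ {T : Scheme.{u}} (g : T ⟶ W), Z₁ ≤ g.ker → Z₂ ≤ g.ker → Z ≤ g.ker) ∧
      ∃ k : Z.subscheme ⟶ Z₁.subscheme, IsClosedImmersion k ∧ k ≫ Z₁.subschemeι = Z.subschemeι := by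
  let c : pullback Z₁.subschemeι Z₂.subschemeι ⟶ W := pullback.fst _ _ ≫ Z₁.subschemeι
  have hc2 : c = pullback.snd _ _ ≫ Z₂.subschemeι := pullback.condition
  haveI : IsClosedImmersion c := inferInstance
  haveI : IsIso c.toImage := inferInstance
  have hι : c.ker.subschemeι = inv c.toImage ≫ c := by
    rw [IsIso.eq_inv_comp, Hom.toImage_imageι]
  refine ⟨c.ker, ?_, ?_, ?_, ?_, inv c.toImage ≫ pullback.fst _ _, inferInstance, ?_⟩
  · have := Hom.le_ker_comp (pullback.fst Z₁.subschemeι Z₂.subschemeι) Z₁.subschemeι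
    rwa [Z₁.ker_subschemeι] at this
  · have := Hom.le_ker_comp (pullback.snd Z₁.subschemeι Z₂.subschemeι) Z₂.subschemeι
    rw [Z₂.ker_subschemeι, ← hc2] at this
    exact this
  · rw [hι]
    infer_instance
  · intro T g h1 h2
    have h1' : Z₁.subschemeι.ker ≤ g.ker := by rwa [Z₁.ker_subschemeι]
    have h2' : Z₂.subschemeι.ker ≤ g.ker := by rwa [Z₂.ker_subschemeι]
    have e : g = pullback.lift (IsClosedImmersion.lift Z₁.subschemeι g h1')
        (IsClosedImmersion.lift Z₂.subschemeι g h2')
        (by rw [IsClosedImmersion.lift_fac, IsClosedImmersion.lift_fac]) ≫ c := by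
      rw [pullback.lift_fst_assoc, IsClosedImmersion.lift_fac]
    rw [e]
    exact Hom.le_ker_comp _ _
  · rw [Category.assoc, hι]

/-- The scheme-theoretic image of an integral morphism inside an affine scheme of finite type
over the base is finite over the base. -/
lemma isFinite_imageι_comp {X W S : Scheme.{u}} (p : W ⟶ S) [IsAffineHom p]
    [LocallyOfFiniteType p] (q : X ⟶ W) [IsIntegralHom (q ≫ p)] :
    IsFinite (q.imageι ≫ p) := by
  haveI : IsIntegralHom q := MorphismProperty.of_postcomp (W := @IsIntegralHom)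
    (W' := @IsSeparated) q p inferInstance inferInstance
  haveI : Surjective q.toImage := by
    constructor
    rw [← Set.range_eq_univ, ← (Scheme.Hom.isClosedMap q.toImage).isClosed_range.closure_eq]
    exact q.toImage.denseRange.closure_eq
  haveI : UniversallyClosed (q.toImage ≫ q.imageι ≫ p) := by
    rw [Hom.toImage_imageι_assoc]; infer_instance
  haveI : UniversallyClosed (q.imageι ≫ p) :=
    UniversallyClosed.of_comp_surjective q.toImage (q.imageι ≫ p)
  haveI : IsIntegralHom (q.imageι ≫ p) :=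
    IsIntegralHom.iff_universallyClosed_and_isAffineHom.mpr ⟨inferInstance, inferInstance⟩
  exact (IsFinite.iff_isIntegralHom_and_locallyOfFiniteType _).mpr ⟨inferInstance, inferInstance⟩

/-- **Finiteness spreads out**: between a closed subscheme of finite presentation `V(Z₀)` of `W`
(affine of finite type over a qcqs base `S`) and the image of an integral `S`-scheme there is a
closed subscheme of finite presentation which is finite over `S`. -/
theorem exists_finite_fp_between {X W S : Scheme.{u}} [CompactSpace S] [QuasiSeparatedSpace S]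
    (p : W ⟶ S) [IsAffineHom p] [LocallyOfFiniteType p] (q : X ⟶ W) [IsIntegralHom (q ≫ p)]
    (Z₀ : W.IdealSheafData) (hZ₀ : Z₀ ≤ q.ker) [LocallyOfFinitePresentation Z₀.subschemeι] :
    ∃ Z : W.IdealSheafData, Z₀ ≤ Z ∧ Z ≤ q.ker ∧ LocallyOfFinitePresentation Z.subschemeι ∧
      IsFinite (Z.subschemeι ≫ p) := by
  classical
  haveI : CompactSpace W := QuasiCompact.compactSpace_of_compactSpace p
  haveI : QuasiSeparatedSpace W := quasiSeparatedSpace_of_quasiSeparated p
  haveI : IsFinite (q.imageι ≫ p) := isFinite_imageι_comp p q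
  have hker : q.imageι.ker = q.ker := q.ker.ker_subschemeι
  obtain ⟨A, iA1, iA2, iA3, J, hJ, ⟨hlim⟩, hfp⟩ := exists_closed_approx q.imageι
  obtain ⟨a, ha⟩ := exists_isProper_subscheme p q.imageι J hJ hlim
  haveI := hfp a
  obtain ⟨Z, h1, h2, h3, h4, k, hk1, hk2⟩ := exists_inter (J a) Z₀
  refine ⟨Z, h2, ?_, h3, ?_⟩
  · exact h4 q ((hJ a).trans hker.le) hZ₀
  · rw [← hk2, Category.assoc]
    haveI : IsAffineHom ((J a).subschemeι ≫ p) := inferInstance
    haveI : IsFinite ((J a).subschemeι ≫ p) :=
      IsFinite.iff_isProper_and_isAffineHom.mpr ⟨ha, inferInstance⟩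
    infer_instance

section

variable {S : Scheme.{u}} {J : Type u} [Preorder J] (D : Jᵒᵖ ⥤ Over S) (c : Cone D)

/-- The transition maps of the underlying schemes. -/
noncomputable abbrev tr {j j' : J} (h : j ≤ j') : (D.obj (op j')).left ⟶ (D.obj (op j)).left :=
  (D.map (homOfLE h).op).left

lemma tr_refl (j : J) : tr D (le_refl j) = 𝟙 _ := by
  have : (homOfLE (le_refl j)).op = 𝟙 (op j) := Subsingleton.elim _ _
  rw [tr, this, D.map_id]
  rfl

lemma tr_trans {j j' j'' : J} (h : j ≤ j') (h' : j' ≤ j'') :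
    tr D h' ≫ tr D h = tr D (h.trans h') := by
  have : (homOfLE (h.trans h')).op = (homOfLE h').op ≫ (homOfLE h).op := Subsingleton.elim _ _
  rw [tr, tr, tr, this, D.map_comp]
  rfl

lemma π_tr {j j' : J} (h : j ≤ j') : (c.π.app (op j')).left ≫ tr D h = (c.π.app (op j)).left := by
  rw [tr, ← Over.comp_left, c.w]

/-- The index set: a stage together with a closed subscheme of finite presentation of the stage,
finite over `S`, through which the projection factors. -/
structure Idx where
  /-- the stage -/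
  j : J
  /-- the ideal sheaf of the closed subscheme -/
  Z : (D.obj (op j)).left.IdealSheafData
  hle : Z ≤ (c.π.app (op j)).left.ker
  hfp : LocallyOfFinitePresentation Z.subschemeι
  hfin : IsFinite (Z.subschemeι ≫ (D.obj (op j)).hom)

instance : Preorder (Idx D c) where
  le p p' := p.j ≤ p'.j ∧ ∀ h : p.j ≤ p'.j, p.Z ≤ p'.Z.map (tr D h)
  le_refl p := ⟨le_rfl, fun h => by rw [tr_refl, map_id]⟩
  le_trans p p' p'' h h' := ⟨h.1.trans h'.1, fun h'' => by
    rw [← tr_trans D h.1 h'.1, map_comp]
    exact (h.2 h.1).trans (map_mono _ (h'.2 h'.1))⟩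

variable {D c}

lemma Idx.le_j {p p' : Idx D c} (h : p ≤ p') : p.j ≤ p'.j := h.1

lemma Idx.le_Z {p p' : Idx D c} (h : p ≤ p') : p.Z ≤ p'.Z.map (tr D h.1) := h.2 h.1

/-- The transition maps between the closed subschemes. -/
noncomputable def subMap {p p' : Idx D c} (h : p ≤ p') : p'.Z.subscheme ⟶ p.Z.subscheme :=
  subschemeMap p'.Z p.Z (tr D h.1) (Idx.le_Z h)

@[reassoc]
lemma subMap_ι {p p' : Idx D c} (h : p ≤ p') :
    subMap h ≫ p.Z.subschemeι = p'.Z.subschemeι ≫ tr D h.1 :=
  subschemeMap_subschemeι _ _ _ _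

lemma subMap_refl (p : Idx D c) : subMap (le_refl p) = 𝟙 _ := by
  rw [← cancel_mono p.Z.subschemeι, subMap_ι, tr_refl, Category.comp_id, Category.id_comp]

lemma subMap_trans {p p' p'' : Idx D c} (h : p ≤ p') (h' : p' ≤ p'') :
    subMap h' ≫ subMap h = subMap (h.trans h') := by
  rw [← cancel_mono p.Z.subschemeι, Category.assoc, subMap_ι, subMap_ι_assoc, subMap_ι, tr_trans]

variable (D c)

/-- The system of closed subschemes. -/
noncomputable def subF : (Idx D c)ᵒᵖ ⥤ Over S where
  obj p := Over.mk (p.unop.Z.subschemeι ≫ (D.obj (op p.unop.j)).hom)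
  map {p p'} m := Over.homMk (subMap (leOfHom m.unop)) (by
    dsimp
    rw [subMap_ι_assoc, Over.w])
  map_id p := by
    apply Over.OverMorphism.ext
    exact subMap_refl p.unop
  map_comp {p p' p''} m m' := by
    apply Over.OverMorphism.ext
    exact (subMap_trans (leOfHom m'.unop) (leOfHom m.unop)).symm

/-- The projection to the stages. -/
def pj : Idx D c →o J := ⟨Idx.j, fun _ _ h => h.1⟩

/-- The projection to the stages, as a functor. -/
def piF : (Idx D c)ᵒᵖ ⥤ Jᵒᵖ := (pj D c).monotone.functor.op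

/-- The closed immersions into the stages. -/
noncomputable def subη : subF D c ⟶ piF D c ⋙ D where
  app p := Over.homMk p.unop.Z.subschemeι rfl
  naturality p p' m := by
    apply Over.OverMorphism.ext
    exact subMap_ι (leOfHom m.unop)

instance (p : (Idx D c)ᵒᵖ) : Mono ((subη D c).app p) := by
  haveI : Mono ((Over.forget S).map ((subη D c).app p)) :=
    inferInstanceAs (Mono p.unop.Z.subschemeι)
  exact (Over.forget S).mono_of_mono_map inferInstance

/-- The maps from the vertex to the closed subschemes. -/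
noncomputable def toSub (p : Idx D c) : c.pt.left ⟶ p.Z.subscheme :=
  IsClosedImmersion.lift p.Z.subschemeι (c.π.app (op p.j)).left
    (by rw [ker_subschemeι]; exact p.hle)

@[reassoc]
lemma toSub_ι (p : Idx D c) : toSub D c p ≫ p.Z.subschemeι = (c.π.app (op p.j)).left :=
  IsClosedImmersion.lift_fac _ _ _

lemma toSub_subMap {p p' : Idx D c} (h : p ≤ p') : toSub D c p' ≫ subMap h = toSub D c p := by
  rw [← cancel_mono p.Z.subschemeι, Category.assoc, subMap_ι, toSub_ι_assoc, toSub_ι, π_tr]

/-- The cone over the closed subschemes. -/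
noncomputable def subC : Cone (subF D c) where
  pt := c.pt
  π :=
    { app := fun p => Over.homMk (toSub D c p.unop) (by
        change toSub D c p.unop ≫ p.unop.Z.subschemeι ≫ (D.obj (op p.unop.j)).hom = c.pt.hom
        rw [toSub_ι_assoc, Over.w]
        rfl)
      naturality := fun p p' m => by
        apply Over.OverMorphism.ext
        change 𝟙 _ ≫ toSub D c p'.unop = toSub D c p.unop ≫ subMap (leOfHom m.unop)
        rw [Category.id_comp, toSub_subMap] }

variable [IsDirected J (· ≤ ·)] [Nonempty J]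

/-- If the index set is directed and cofinal over `J`, the cone of closed subschemes is a limit. -/
noncomputable def isLimitSubC (hc : IsLimit c) [IsDirected (Idx D c) (· ≤ ·)] [Nonempty (Idx D c)]
    (hcof : ∀ j : J, ∃ p : Idx D c, j ≤ p.j) : IsLimit (subC D c) := by
  haveI : (piF D c).Initial := by
    refine Functor.initial_of_exists_of_isCofiltered _ (fun d => ?_) (fun {d e} s s' => ?_)
    · obtain ⟨p, hp⟩ := hcof d.unop
      exact ⟨op p, ⟨(homOfLE hp).op⟩⟩
    · exact ⟨e, 𝟙 _, Subsingleton.elim _ _⟩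
  refine isLimitOfMono (subη D c) (subC D c) ?_
  refine IsLimit.ofIsoLimit ((Functor.Initial.isLimitWhiskerEquiv (piF D c) c).symm hc) ?_
  refine Cone.ext (Iso.refl _) (fun p => ?_)
  apply Over.OverMorphism.ext
  change (c.π.app (op p.unop.j)).left = 𝟙 _ ≫ toSub D c p.unop ≫ p.unop.Z.subschemeι
  rw [Category.id_comp, toSub_ι]

section Directed

variable [CompactSpace S] [QuasiSeparatedSpace S]
  (hD : ∀ j, IsAffineHom (D.obj j).hom ∧ LocallyOfFinitePresentation (D.obj j).hom)
  [IsIntegralHom c.pt.hom]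

include hD in
/-- Above any closed subscheme of finite presentation of a stage containing the image there is a
member of the index set. -/
lemma exists_idx (j : J) (Z₀ : (D.obj (op j)).left.IdealSheafData)
    (hZ₀ : Z₀ ≤ (c.π.app (op j)).left.ker) [LocallyOfFinitePresentation Z₀.subschemeι] :
    ∃ p : Idx D c, p.j = j ∧ ∀ h : j ≤ p.j, Z₀ ≤ p.Z.map (tr D h) := by
  haveI := (hD (op j)).1
  haveI := (hD (op j)).2
  haveI : IsIntegralHom ((c.π.app (op j)).left ≫ (D.obj (op j)).hom) := by
    rw [Over.w]; exact (inferInstance : IsIntegralHom c.pt.hom)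
  obtain ⟨Z, h1, h2, h3, h4⟩ := exists_finite_fp_between (D.obj (op j)).hom (c.π.app (op j)).left
    Z₀ hZ₀
  refine ⟨⟨j, Z, h2, h3, h4⟩, rfl, fun h => ?_⟩
  rw [tr_refl, map_id]
  exact h1

include hD in
lemma nonempty_idx : Nonempty (Idx D c) := by
  obtain ⟨j⟩ := (inferInstance : Nonempty J)
  obtain ⟨p, -, -⟩ := exists_idx D c hD j ⊥ bot_le
  exact ⟨p⟩

include hD in
lemma cofinal_idx (j : J) : ∃ p : Idx D c, j ≤ p.j := by
  obtain ⟨p, hp, -⟩ := exists_idx D c hD j ⊥ bot_le
  exact ⟨p, hp.ge⟩

include hD in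
lemma isDirected_idx : IsDirected (Idx D c) (· ≤ ·) := by
  constructor
  intro p₁ p₂
  obtain ⟨j, h₁, h₂⟩ := exists_ge_ge p₁.j p₂.j
  haveI := p₁.hfp
  haveI := p₂.hfp
  have hfp : ∀ (p : Idx D c) (h : p.j ≤ j),
      LocallyOfFinitePresentation (p.Z.comap (tr D h)).subschemeι := by
    intro p h
    haveI := p.hfp
    rw [← comapIso_hom_fst]
    infer_instance
  have hle : ∀ (p : Idx D c) (h : p.j ≤ j), p.Z.comap (tr D h) ≤ (c.π.app (op j)).left.ker := by
    intro p h
    rw [← le_map_iff_comap_le, map_ker, π_tr]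
    exact p.hle
  haveI := hfp p₁ h₁
  haveI := hfp p₂ h₂
  obtain ⟨Z₀, e1, e2, e3, e4, -⟩ := exists_inter (p₁.Z.comap (tr D h₁)) (p₂.Z.comap (tr D h₂))
  haveI := e3
  obtain ⟨p, hp, hpZ⟩ := exists_idx D c hD j Z₀ (e4 _ (hle p₁ h₁) (hle p₂ h₂))
  obtain ⟨pj, pZ, pa, pb, pc⟩ := p
  dsimp at hp
  subst hp
  have hpZ' := hpZ le_rfl
  rw [tr_refl, map_id] at hpZ'
  refine ⟨⟨pj, pZ, pa, pb, pc⟩, ⟨h₁, fun h => ?_⟩, ⟨h₂, fun h => ?_⟩⟩
  · rw [le_map_iff_comap_le]
    exact e1.trans hpZ'
  · rw [le_map_iff_comap_le]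
    exact e2.trans hpZ'

end Directed

end

end Groth.Agent.Lib.Helper12.IntegralApprox
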