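import Mathlib
import Groth.Agent.Lib.Helper12.IrrDVRa

/-!
# Counting irreducible components (helper12)

* `encard_irr_le_of_surjective`: a continuous surjection from a space with finitely many
  irreducible components does not increase the number of components;
* `encard_irr_le_of_saturated`: a closed continuous surjection for which all components of the
  source are saturated does not decrease it;
* components of a quasi-sober `T0` space correspond to points without proper generization;
* `encard_irr_open_le_closed`: a criterion comparing the components of an open and a closed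
  subspace.
-/

set_option autoImplicit false
set_option linter.style.haveILetI false

open Topology Set

namespace Groth.Agent.Lib.Helper12.IrrCount

open Groth.Agent.Lib.Helper12.IrrDVR

section maps

variable {A B : Type*} [TopologicalSpace A] [TopologicalSpace B]

theorem encard_irr_le_of_surjective (p : A → B) (hp : Continuous p)
    (hs : Function.Surjective p) (hfin : (irreducibleComponents A).Finite) :
    (irreducibleComponents B).encard ≤ (irreducibleComponents A).encard := by
  classical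
  have key : ∀ C ∈ irreducibleComponents B, ∃ Z ∈ irreducibleComponents A,
      C = closure (p '' Z) := by
    intro C hC
    let t : Finset (Set B) := hfin.toFinset.image (fun Z => closure (p '' Z))
    have hcl : ∀ z ∈ t, IsClosed z := by
      intro z hz
      obtain ⟨Z, -, rfl⟩ := Finset.mem_image.mp hz
      exact isClosed_closure
    have hcov : C ⊆ ⋃₀ (t : Set (Set B)) := by
      intro c _
      obtain ⟨a, rfl⟩ := hs c
      refine ⟨closure (p '' irreducibleComponent a), ?_,
        subset_closure ⟨a, mem_irreducibleComponent, rfl⟩⟩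
      exact Finset.mem_coe.mpr (Finset.mem_image.mpr
        ⟨_, hfin.mem_toFinset.mpr (irreducibleComponent_mem_irreducibleComponents a), rfl⟩)
    obtain ⟨z, hz, hCz⟩ := isIrreducible_iff_sUnion_isClosed.mp hC.1 t hcl hcov
    obtain ⟨Z, hZ, rfl⟩ := Finset.mem_image.mp hz
    have hZ' : Z ∈ irreducibleComponents A := hfin.mem_toFinset.mp hZ
    have hirr : IsIrreducible (closure (p '' Z)) :=
      (hZ'.1.image p hp.continuousOn).closure
    exact ⟨Z, hZ', Subset.antisymm hCz (hC.2 hirr hCz)⟩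
  choose! φ hφ hφeq using key
  refine Set.encard_le_encard_of_injOn (f := φ) (fun C hC => hφ C hC) ?_
  intro C hC C' hC' h
  rw [hφeq C hC, hφeq C' hC', h]

theorem encard_irr_le_of_saturated (p : A → B) (hp : Continuous p) (hcl : IsClosedMap p)
    (hs : Function.Surjective p) (hfin : (irreducibleComponents A).Finite)
    (hsat : ∀ Z ∈ irreducibleComponents A, p ⁻¹' (p '' Z) = Z) :
    (irreducibleComponents A).encard ≤ (irreducibleComponents B).encard := by
  classical
  have key : ∀ Z ∈ irreducibleComponents A, ∃ C ∈ irreducibleComponents B, p '' Z ⊆ C := by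
    intro Z hZ
    exact exists_mem_irreducibleComponents_subset_of_isIrreducible _
      (hZ.1.image p hp.continuousOn)
  choose! φ hφ hφsub using key
  refine Set.encard_le_encard_of_injOn (f := φ) (fun Z hZ => hφ Z hZ) ?_
  have aux : ∀ Z ∈ irreducibleComponents A, ∃ Z₀ ∈ irreducibleComponents A,
      φ Z ⊆ p '' Z₀ := by
    intro Z hZ
    let t : Finset (Set B) := hfin.toFinset.image (fun Z => p '' Z)
    have hclt : ∀ z ∈ t, IsClosed z := by
      intro z hz
      obtain ⟨Z', hZ', rfl⟩ := Finset.mem_image.mp hz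
      exact hcl _ (isClosed_of_mem_irreducibleComponents Z' (hfin.mem_toFinset.mp hZ'))
    have hcov : φ Z ⊆ ⋃₀ (t : Set (Set B)) := by
      intro c _
      obtain ⟨a, rfl⟩ := hs c
      refine ⟨p '' irreducibleComponent a, ?_, ⟨a, mem_irreducibleComponent, rfl⟩⟩
      exact Finset.mem_coe.mpr (Finset.mem_image.mpr
        ⟨_, hfin.mem_toFinset.mpr (irreducibleComponent_mem_irreducibleComponents a), rfl⟩)
    obtain ⟨z, hz, hCz⟩ := isIrreducible_iff_sUnion_isClosed.mp (hφ Z hZ).1 t hclt hcov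
    obtain ⟨Z₀, hZ₀, rfl⟩ := Finset.mem_image.mp hz
    exact ⟨Z₀, hfin.mem_toFinset.mp hZ₀, hCz⟩
  have aux2 : ∀ Z ∈ irreducibleComponents A, ∀ Z₀ ∈ irreducibleComponents A,
      φ Z ⊆ p '' Z₀ → Z = Z₀ := by
    intro Z hZ Z₀ hZ₀ hsub
    have h1 : Z ⊆ Z₀ := by
      rw [← hsat Z hZ, ← hsat Z₀ hZ₀]
      exact Set.preimage_mono ((hφsub Z hZ).trans hsub)
    exact Subset.antisymm h1 (hZ.2 hZ₀.1 h1)
  intro Z hZ Z' hZ' h
  obtain ⟨Z₀, hZ₀, hsub⟩ := aux Z hZ
  rw [aux2 Z hZ Z₀ hZ₀ hsub, aux2 Z' hZ' Z₀ hZ₀ (h ▸ hsub)]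

end maps

section maxpt

variable {W : Type*} [TopologicalSpace W]

theorem isMaxPt_iff_mem_genericPoints [QuasiSober W] [T0Space W] (ξ : W) :
    IsMaxPt ξ ↔ ξ ∈ genericPoints W := by
  constructor
  · intro h
    obtain ⟨ξ₀, hξ₀⟩ := QuasiSober.sober (isIrreducible_irreducibleComponent (x := ξ))
      isClosed_irreducibleComponent
    have h1 : ξ₀ ⤳ ξ := by
      rw [specializes_iff_mem_closure, hξ₀.def]
      exact mem_irreducibleComponent
    have h2 : ξ₀ = ξ := h ξ₀ h1
    show closure {ξ} ∈ irreducibleComponents W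
    rw [← h2, hξ₀.def]
    exact irreducibleComponent_mem_irreducibleComponents ξ
  · intro h t ht
    have h1 : closure ({ξ} : Set W) ⊆ closure {t} := specializes_iff_closure_subset.mp ht
    have h2 : closure ({t} : Set W) ⊆ closure {ξ} :=
      h.2 isIrreducible_singleton.closure h1
    have h3 : IsGenericPoint t (closure {ξ}) := Subset.antisymm h2 h1
    exact h3.eq (show IsGenericPoint ξ (closure {ξ}) from rfl)

theorem encard_irr_eq_encard_maxPt [QuasiSober W] [T0Space W] :
    (irreducibleComponents W).encard = {ξ : W | IsMaxPt ξ}.encard := by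
  have h : {ξ : W | IsMaxPt ξ} = genericPoints W := by
    ext ξ
    exact isMaxPt_iff_mem_genericPoints ξ
  rw [h]
  exact (Set.encard_congr genericPoints.equiv).symm

theorem isMaxPt_val_of_isOpen {U : Set W} (hU : IsOpen U) (ξ : ↥U) (h : IsMaxPt ξ) :
    IsMaxPt (ξ : W) := by
  intro t ht
  have htU : t ∈ U := ht.mem_open hU ξ.2
  have h1 : (⟨t, htU⟩ : ↥U) ⤳ ξ := by
    rw [subtype_specializes_iff]
    exact ht
  exact congrArg Subtype.val (h _ h1)

theorem isMaxPt_subtype_iff {F : Set W} (ζ : ↥F) :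
    IsMaxPt ζ ↔ ∀ t ∈ F, t ⤳ (ζ : W) → t = ζ := by
  constructor
  · intro h t ht hs
    have h1 : (⟨t, ht⟩ : ↥F) ⤳ ζ := by
      rw [subtype_specializes_iff]
      exact hs
    exact congrArg Subtype.val (h _ h1)
  · intro h t ht
    rw [subtype_specializes_iff] at ht
    exact Subtype.ext (h t.1 t.2 ht)

/-- comparison of the number of components of an open and of a closed subspace -/
theorem encard_irr_open_le_closed [QuasiSober W] [T0Space W] (U F : Set W) (hU : IsOpen U)
    (hF : IsClosed F)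
    (H : ∀ ξ : W, IsMaxPt ξ → ξ ∈ U → ∃ ζ ∈ F, (∀ t ∈ F, t ⤳ ζ → t = ζ) ∧
      ∀ ξ' : W, IsMaxPt ξ' → ξ' ⤳ ζ → ξ' = ξ) :
    (irreducibleComponents ↥U).encard ≤ (irreducibleComponents ↥F).encard := by
  haveI : QuasiSober ↥U := hU.isOpenEmbedding_subtypeVal.quasiSober
  haveI : QuasiSober ↥F := hF.isClosedEmbedding_subtypeVal.quasiSober
  rw [encard_irr_eq_encard_maxPt, encard_irr_eq_encard_maxPt]
  have key : ∀ ξ : ↥U, IsMaxPt ξ → ∃ ζ : ↥F, IsMaxPt ζ ∧
      ∀ ξ' : W, IsMaxPt ξ' → ξ' ⤳ (ζ : W) → ξ' = ξ := by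
    intro ξ hξ
    obtain ⟨ζ, hζF, h1, h2⟩ := H ξ (isMaxPt_val_of_isOpen hU ξ hξ) ξ.2
    exact ⟨⟨ζ, hζF⟩, (isMaxPt_subtype_iff _).mpr h1, h2⟩
  choose φ hφ hφ' using key
  let e : {ξ : ↥U | IsMaxPt ξ} → {ζ : ↥F | IsMaxPt ζ} := fun ξ => ⟨φ ξ.1 ξ.2, hφ ξ.1 ξ.2⟩
  have he : Function.Injective e := by
    intro ξ₁ ξ₂ h
    have h' : φ ξ₁.1 ξ₁.2 = φ ξ₂.1 ξ₂.2 := congrArg Subtype.val h
    obtain ⟨ξ', hξ', hsp⟩ := exists_isMaxPt_specializes ((φ ξ₁.1 ξ₁.2 : ↥F) : W)
    have e1 := hφ' ξ₁.1 ξ₁.2 ξ' hξ' hsp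
    have e2 := hφ' ξ₂.1 ξ₂.2 ξ' hξ' (h' ▸ hsp)
    exact Subtype.ext (Subtype.ext (e1.symm.trans e2))
  exact Function.Embedding.encard_le ⟨e, he⟩

end maxpt

end Groth.Agent.Lib.Helper12.IrrCount
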