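import Mathlib
import Groth.Agent.Lib.Helper12.FlatDim
import Groth.Agent.Lib.Helper12.FibreMax
import Groth.Agent.Lib.Helper12.GenericImageSch
import Groth.Agent.Lib.Helper12.GenImage
import Groth.Agent.Lib.Helper12.Chevalley
import Groth.Agent.Lib.Helper12.SchemeDimFT4

/-!
# Helper library (helper12): morphisms with irreducible equidimensional closed fibres

`X`, `Y` locally of finite type over a field `k`, `f : X ⟶ Y` a `k`-morphism such that the fibre
over every closed point of `Y` is irreducible of dimension `d`.  Then every maximal point of `X`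
has relative transcendence degree `d`, irreducible components consist of whole fibres, and at
most one irreducible component dominates an irreducible `Y`.
-/

set_option autoImplicit false
universe u
open AlgebraicGeometry CategoryTheory

namespace Groth.Agent.Lib.Helper12.IrrFibres

open Groth.Agent.Lib.Helper12 Groth.Agent.Lib.Helper12.SchemeDimFT
  Groth.Agent.Lib.Helper12.SchemeDimIneq Groth.Agent.Lib.Helper12.Equidim
  Groth.Agent.Lib.Helper12.FlatDim

section OverField

variable (k : Type u) [Field k] {X Y : Scheme.{u}} (qY : Y ⟶ Spec (CommRingCat.of k))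
  [LocallyOfFiniteType qY] (f : X ⟶ Y) [LocallyOfFiniteType f]

/-- The hypothesis in point form: every closed fibre is the closure of a point of transcendence
degree `d`. -/
def Hyp (d : ℕ) : Prop :=
  letI : X.Over (Spec (CommRingCat.of k)) := ⟨f ≫ qY⟩
  ∀ y : Y, IsClosed ({y} : Set Y) → ∃ η : X, closure {η} = f.base ⁻¹' {y} ∧ tr k X η = d

include k qY in
theorem isClosed_apply (x : X) (hx : IsClosed ({x} : Set X)) : IsClosed ({f x} : Set Y) := by
  haveI : JacobsonSpace Y := LocallyOfFiniteType.jacobsonSpace qY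
  exact f.closePoints_subset_preimage_closedPoints hx

/-- The hypothesis in point form follows from the topological hypothesis. -/
theorem hyp_of_irreducible (d : ℕ)
    (hirr : ∀ y : Y, IsClosed ({y} : Set Y) → IsIrreducible (f.base ⁻¹' {y}))
    (hdim : ∀ y : Y, IsClosed ({y} : Set Y) → topologicalKrullDim ↥(f.base ⁻¹' {y}) = d) :
    Hyp k qY f d := by
  letI : X.Over (Spec (CommRingCat.of k)) := ⟨f ≫ qY⟩
  haveI : LocallyOfFiniteType (X ↘ Spec (CommRingCat.of k)) :=
    inferInstanceAs (LocallyOfFiniteType (f ≫ qY))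
  intro y hy
  have hcl : IsClosed (f.base ⁻¹' {y}) := hy.preimage f.continuous
  obtain ⟨η, hη⟩ := QuasiSober.sober (hirr y hy) hcl
  refine ⟨η, hη.def, ?_⟩
  have h := hdim y hy
  rw [← hη.def, topologicalKrullDim_closure_singleton k X η] at h
  exact_mod_cast h

variable {k qY f}

/-- Points of closed fibres have `tr` equal to `trn`. -/
theorem tr_eq_trn_of_isClosed (x : X) (hy : IsClosed ({f x} : Set Y)) :
    letI : X.Over (Spec (CommRingCat.of k)) := ⟨f ≫ qY⟩
    ((tr k X x : ℕ) : ℕ∞) = trn f x := by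
  letI : Y.Over (Spec (CommRingCat.of k)) := ⟨qY⟩
  haveI : LocallyOfFiniteType (Y ↘ Spec (CommRingCat.of k)) := ‹LocallyOfFiniteType qY›
  have h := tr_eq_add_trn k qY f x
  rw [tr_eq_zero_of_isClosed k Y (f x) hy] at h
  simpa using h

/-- Every maximal point of `X` has relative transcendence degree at most `d`. -/
theorem trn_le_of_isMaxPt {d : ℕ} (H : Hyp k qY f d) (ζ : X) : trn f ζ ≤ d := by
  letI : X.Over (Spec (CommRingCat.of k)) := ⟨f ≫ qY⟩
  haveI : LocallyOfFiniteType (X ↘ Spec (CommRingCat.of k)) :=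
    inferInstanceAs (LocallyOfFiniteType (f ≫ qY))
  obtain ⟨x, hx1, hx2⟩ := exists_isClosed_mem_of_isLocallyClosed k X (closure {ζ})
    isClosed_closure.isLocallyClosed ⟨ζ, subset_closure rfl⟩
  have hζx : ζ ⤳ x := specializes_iff_mem_closure.mpr hx1
  have hy : IsClosed ({f x} : Set Y) := isClosed_apply k qY f x hx2
  obtain ⟨z, hz1, -, -, hz4⟩ := ClosedSub.exists_between_trn_le f x ζ hζx
  obtain ⟨η, hη1, hη2⟩ := H (f x) hy
  have hηz : η ⤳ z := by
    rw [specializes_iff_mem_closure, hη1]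
    exact hz1
  have h1 := tr_le_of_specializes k X η z hηz
  have h2 := tr_eq_trn_of_isClosed (k := k) (qY := qY) z (by rw [hz1]; exact hy)
  rw [hη2] at h1
  refine hz4.trans ?_
  rw [← h2]
  exact_mod_cast h1

/-- Every maximal point of `X` has relative transcendence degree at least `d`. -/
theorem le_trn_of_isMaxPt {d : ℕ} (H : Hyp k qY f d) (ζ : X) (hζ : IsMaxPt ζ) :
    (d : ℕ∞) ≤ trn f ζ := by
  letI : X.Over (Spec (CommRingCat.of k)) := ⟨f ≫ qY⟩
  haveI : LocallyOfFiniteType (X ↘ Spec (CommRingCat.of k)) :=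
    inferInstanceAs (LocallyOfFiniteType (f ≫ qY))
  obtain ⟨e, he⟩ := exists_trn_eq f ζ
  have hfib : FlatMor.fibreDimAt f ζ = ((e : ℕ) : WithBot ℕ∞) := by
    rw [fibreDimAt_eq_trn_add f ζ, FibreMax.ringKrullDim_fiber_stalk_eq_zero f ζ
      (fun z' _ hz' => hζ z' hz'), he]
    simp
  have hop := Chevalley.isOpen_setOf_fibreDimAt_le f e
  obtain ⟨x, hx1, hx2⟩ := exists_isClosed_mem_of_isLocallyClosed k X _ hop.isLocallyClosed
    ⟨ζ, hfib.le⟩
  have hy : IsClosed ({f x} : Set Y) := isClosed_apply k qY f x hx2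
  obtain ⟨η, hη1, hη2⟩ := H (f x) hy
  have hηx : η ⤳ x := by
    rw [specializes_iff_mem_closure, hη1]
    rfl
  have hη3 : FlatMor.fibreDimAt f η ≤ ((e : ℕ) : WithBot ℕ∞) := hηx.mem_open hop hx1
  have hfη : f η = f x := by
    have : η ∈ f.base ⁻¹' {f x} := by rw [← hη1]; exact subset_closure rfl
    exact this
  have h1 := FibreMax.trn_le_fibreDimAt_of_specializes f η η rfl specializes_rfl
  have h2 := tr_eq_trn_of_isClosed (k := k) (qY := qY) η (by rw [hfη]; exact hy)
  rw [← h2, hη2] at h1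
  rw [he]
  have h3 : ((d : ℕ∞) : WithBot ℕ∞) ≤ ((e : ℕ) : WithBot ℕ∞) := h1.trans hη3
  exact_mod_cast h3

theorem trn_eq_of_isMaxPt {d : ℕ} (H : Hyp k qY f d) (ζ : X) (hζ : IsMaxPt ζ) :
    trn f ζ = d :=
  le_antisymm (trn_le_of_isMaxPt H ζ) (le_trn_of_isMaxPt H ζ hζ)

/-- An irreducible component meeting a closed fibre contains its generic point. -/
theorem specializes_of_meets {d : ℕ} (H : Hyp k qY f d) (ζ : X) (hζ : IsMaxPt ζ) (x : X)
    (hy : IsClosed ({f x} : Set Y)) (hζx : ζ ⤳ x) (x' : X) (hx' : f x' = f x) : ζ ⤳ x' := by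
  letI : X.Over (Spec (CommRingCat.of k)) := ⟨f ≫ qY⟩
  haveI : LocallyOfFiniteType (X ↘ Spec (CommRingCat.of k)) :=
    inferInstanceAs (LocallyOfFiniteType (f ≫ qY))
  obtain ⟨z, hz1, hz2, -, hz4⟩ := ClosedSub.exists_between_trn_le f x ζ hζx
  obtain ⟨η, hη1, hη2⟩ := H (f x) hy
  have hηz : η ⤳ z := by
    rw [specializes_iff_mem_closure, hη1]
    exact hz1
  have h2 := tr_eq_trn_of_isClosed (k := k) (qY := qY) z (by rw [hz1]; exact hy)
  rw [trn_eq_of_isMaxPt H ζ hζ, ← h2] at hz4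
  have hz4' : d ≤ tr k X z := by exact_mod_cast hz4
  have hzη : η = z := by
    by_contra hne
    have := tr_lt_of_specializes k X η z hηz hne
    omega
  have hηx' : η ⤳ x' := by
    rw [specializes_iff_mem_closure, hη1]
    exact hx'
  rw [← hzη] at hz2
  exact hz2.trans hηx'

/-- The morphism is dominant. -/
theorem denseRange {d : ℕ} (H : Hyp k qY f d) : DenseRange f.base := by
  letI : Y.Over (Spec (CommRingCat.of k)) := ⟨qY⟩
  haveI : LocallyOfFiniteType (Y ↘ Spec (CommRingCat.of k)) := ‹LocallyOfFiniteType qY›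
  rw [DenseRange, dense_iff_closure_eq]
  by_contra hne
  have hne' : ((closure (Set.range f.base))ᶜ : Set Y).Nonempty := by
    rw [Set.nonempty_compl]; exact hne
  obtain ⟨y, hy1, hy2⟩ := exists_isClosed_mem_of_isLocallyClosed k Y _
    isClosed_closure.isOpen_compl.isLocallyClosed hne'
  obtain ⟨η, hη1, -⟩ := H y hy2
  have hη : η ∈ f.base ⁻¹' {y} := by rw [← hη1]; exact subset_closure rfl
  exact hy1 (subset_closure ⟨η, hη⟩)

/-- At most one maximal point of `X` dominates `Y`. -/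
theorem eq_of_apply_eq_genericPoint [IrreducibleSpace Y] {d : ℕ} (H : Hyp k qY f d)
    (ζ₁ ζ₂ : X) (h₁ : IsMaxPt ζ₁) (h₂ : IsMaxPt ζ₂) (hf₁ : f ζ₁ = genericPoint Y)
    (hf₂ : f ζ₂ = genericPoint Y) : ζ₁ = ζ₂ := by
  letI : Y.Over (Spec (CommRingCat.of k)) := ⟨qY⟩
  haveI : LocallyOfFiniteType (Y ↘ Spec (CommRingCat.of k)) := ‹LocallyOfFiniteType qY›
  by_contra hne
  let U : X.Opens := ⟨(closure {ζ₂})ᶜ, isClosed_closure.isOpen_compl⟩
  have hζ₁U : ζ₁ ∈ U := by
    intro hmem
    have : ζ₂ ⤳ ζ₁ := specializes_iff_mem_closure.mpr hmem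
    exact hne (h₁ ζ₂ this).symm
  obtain ⟨V₁, hV₁, hV₁'⟩ :=
    GenericImage.exists_open_inter_closure_subset_image (U.ι ≫ f) ⟨ζ₁, hζ₁U⟩
  obtain ⟨V₂, hV₂, hV₂'⟩ := GenericImage.exists_open_inter_closure_subset_image f ζ₂
  have e1 : (U.ι ≫ f) ⟨ζ₁, hζ₁U⟩ = genericPoint Y := hf₁
  rw [e1] at hV₁ hV₁'
  rw [hf₂] at hV₂ hV₂'
  obtain ⟨y, hy1, hy2⟩ := exists_isClosed_mem_of_isLocallyClosed k Y ((V₁ ⊓ V₂ : Y.Opens) : Set Y)
    (V₁ ⊓ V₂).2.isLocallyClosed ⟨genericPoint Y, hV₁, hV₂⟩
  obtain ⟨x₁, -, hx₁⟩ := hV₁' y hy1.1 (genericPoint_specializes y)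
  obtain ⟨x₂, hx₂s, hx₂⟩ := hV₂' y hy1.2 (genericPoint_specializes y)
  have hx₁' : f x₁.1 = f x₂ := by
    rw [hx₂]; exact hx₁
  have := specializes_of_meets H ζ₂ h₂ x₂ (by rw [hx₂]; exact hy2) hx₂s x₁.1 hx₁'
  exact x₁.2 (specializes_iff_mem_closure.mp this)

/-- Some maximal point of `X` dominates `Y`. -/
theorem exists_isMaxPt_apply_eq_genericPoint [IrreducibleSpace Y] [QuasiCompact f] {d : ℕ}
    (H : Hyp k qY f d) : ∃ ζ : X, IsMaxPt ζ ∧ f ζ = genericPoint Y := by
  haveI : IsDominant f := ⟨denseRange H⟩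
  have hz : closure {genericPoint Y} ∈ irreducibleComponents Y :=
    (closure_singleton_mem_irreducibleComponents_iff (genericPoint Y)).mpr
      (fun w hw => ((genericPoint_specializes w).antisymm hw).eq.symm)
  obtain ⟨ζ, hζ1, hζ2⟩ := GenImage.exists_generic_preimage f (genericPoint Y) hz
  exact ⟨ζ, (closure_singleton_mem_irreducibleComponents_iff ζ).mp hζ1, hζ2⟩

theorem dim_univ_eq (T : Type u) [TopologicalSpace T] :
    topologicalKrullDim (Set.univ : Set T) = topologicalKrullDim T :=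
  IsHomeomorph.topologicalKrullDim_eq _ (Homeomorph.Set.univ T).isHomeomorph

/-- Conclusion from a dominating maximal point whose closure is everything. -/
theorem conclusion [IrreducibleSpace Y] {d : ℕ}
    (H : Hyp k qY f d) (ζ₀ : X) (hζ₀ : IsMaxPt ζ₀) (hfζ₀ : f ζ₀ = genericPoint Y)
    (hcl : closure ({ζ₀} : Set X) = Set.univ) :
    IrreducibleSpace ↥X ∧ topologicalKrullDim ↥X = d + topologicalKrullDim ↥Y := by
  letI : Y.Over (Spec (CommRingCat.of k)) := ⟨qY⟩
  letI : X.Over (Spec (CommRingCat.of k)) := ⟨f ≫ qY⟩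
  haveI : LocallyOfFiniteType (Y ↘ Spec (CommRingCat.of k)) := ‹LocallyOfFiniteType qY›
  haveI : LocallyOfFiniteType (X ↘ Spec (CommRingCat.of k)) :=
    inferInstanceAs (LocallyOfFiniteType (f ≫ qY))
  refine ⟨{ isPreirreducible_univ := by
              rw [← hcl]; exact isIrreducible_singleton.closure.isPreirreducible
            toNonempty := ⟨ζ₀⟩ }, ?_⟩
  have hYd : topologicalKrullDim Y = ((tr k Y (genericPoint Y) : ℕ) : WithBot ℕ∞) :=
    topologicalKrullDim_eq_of_irreducible k Y _ (tr_spec k Y _)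
  have hXd : topologicalKrullDim X = ((tr k X ζ₀ : ℕ) : WithBot ℕ∞) := by
    rw [← dim_univ_eq, ← hcl, topologicalKrullDim_closure_singleton k X ζ₀]
  have hadd := tr_eq_add_trn k qY f ζ₀
  rw [trn_eq_of_isMaxPt H ζ₀ hζ₀, hfζ₀] at hadd
  have hadd' : tr k X ζ₀ = tr k Y (genericPoint Y) + d := by exact_mod_cast hadd
  rw [hXd, hYd, hadd']
  push_cast
  rw [add_comm]

/-- If moreover `f` is a closed map, `X` is irreducible of dimension `d + dim Y`. -/
theorem irreducibleSpace_of_isClosedMap [IrreducibleSpace Y] [QuasiCompact f] {d : ℕ}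
    (H : Hyp k qY f d) (hcl : IsClosedMap f.base) :
    IrreducibleSpace ↥X ∧ topologicalKrullDim ↥X = d + topologicalKrullDim ↥Y := by
  letI : Y.Over (Spec (CommRingCat.of k)) := ⟨qY⟩
  letI : X.Over (Spec (CommRingCat.of k)) := ⟨f ≫ qY⟩
  haveI : LocallyOfFiniteType (Y ↘ Spec (CommRingCat.of k)) := ‹LocallyOfFiniteType qY›
  haveI : LocallyOfFiniteType (X ↘ Spec (CommRingCat.of k)) :=
    inferInstanceAs (LocallyOfFiniteType (f ≫ qY))
  obtain ⟨ζ₀, hζ₀, hfζ₀⟩ := exists_isMaxPt_apply_eq_genericPoint H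
  apply conclusion H ζ₀ hζ₀ hfζ₀
  have himg : f.base '' closure {ζ₀} = Set.univ := by
    have h1 : IsClosed (f.base '' closure {ζ₀}) := hcl _ isClosed_closure
    have h2 : closure (f.base '' closure ({ζ₀} : Set X)) = Set.univ := by
      have h3 : closure (f.base '' closure ({ζ₀} : Set X)) = closure {f ζ₀} := by
        apply le_antisymm
        · apply closure_minimal _ isClosed_closure
          refine (image_closure_subset_closure_image f.continuous).trans ?_
          rw [Set.image_singleton]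
        · apply closure_mono
          rw [Set.singleton_subset_iff]
          exact ⟨ζ₀, subset_closure rfl, rfl⟩
      rw [h3, hfζ₀]
      exact (genericPoint_spec Y).def
    rw [← h2, h1.closure_eq]
  by_contra hne
  have hne' : ((closure ({ζ₀} : Set X))ᶜ : Set X).Nonempty := by
    rw [Set.nonempty_compl]; exact hne
  obtain ⟨x, hx1, hx2⟩ := exists_isClosed_mem_of_isLocallyClosed k X _
    isClosed_closure.isOpen_compl.isLocallyClosed hne'
  have hy : IsClosed ({f x} : Set Y) := isClosed_apply k qY f x hx2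
  obtain ⟨x₀, hx₀1, hx₀2⟩ : f x ∈ f.base '' closure {ζ₀} := by rw [himg]; trivial
  have := specializes_of_meets H ζ₀ hζ₀ x₀ (by rw [hx₀2]; exact hy)
    (specializes_iff_mem_closure.mpr hx₀1) x hx₀2.symm
  exact hx1 (specializes_iff_mem_closure.mp this)

end OverField

end Groth.Agent.Lib.Helper12.IrrFibres
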