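import Mathlib
import Groth.Agent.Lib.Helper12.StalkLim
import Groth.Agent.Lib.Helper12.StratQBC
import Groth.Agent.Lib.Helper12.StratTower
import Groth.Agent.S2580

/-!
# Isomorphisms spread out from the local scheme at a point (helper12)
-/

set_option autoImplicit false
universe u

open AlgebraicGeometry CategoryTheory Limits TopologicalSpace

namespace Groth.Agent.Lib.Helper12.SpreadIso

open Groth.Agent.Lib.Helper12.ConsPairGen Groth.Agent.Lib.Helper12.ConsMorGen
open Groth.Agent.Lib.Helper12.StratQBC Groth.Agent.Lib.Helper12.StalkLim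
open Groth.Agent.Lib.Helper12

theorem descendsLim_isOpenImmersion : DescendsLim (@IsOpenImmersion : MorphismProperty Scheme.{u}) := by
  intro I _ _ D c hc _ i₀ _ _ X₀ Y₀ f₀ g₀ _ _ _ _ _ _ X Y f g qY qX hY hX hf
  haveI : IsOpenImmersion f := hf
  exact Groth.Agent.S2580.result D c hc i₀ f₀ g₀ f g qY qX hY hX

theorem descendsLim_iso :
    DescendsLim ((@IsOpenImmersion ⊓ @Surjective : MorphismProperty Scheme.{u})) :=
  Groth.Agent.Lib.Helper12.StratTower.DescendsLim.inf descendsLim_isOpenImmersion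
    Groth.Agent.Lib.Helper12.StratTower.descendsLim_surjective

/-- A finitely presented morphism which is an isomorphism over `Spec 𝒪_{C,c}` is an isomorphism
over an open neighbourhood of `c`. -/
theorem exists_nhd_isIso {Z C : Scheme.{u}} (p : Z ⟶ C) [LocallyOfFinitePresentation p]
    [QuasiCompact p] [QuasiSeparated p] (c : C)
    (h : IsIso (pullback.snd p (C.fromSpecStalk c))) : ∃ V : C.Opens, c ∈ V ∧ IsIso (p ∣_ V) := by
  haveI := h
  have h1 : IsOpenImmersion (pullback.snd p (C.fromSpecStalk c)) := inferInstance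
  have h2 : Surjective (pullback.snd p (C.fromSpecStalk c)) := inferInstance
  let W₀ : AffNhd C c := Classical.arbitrary _
  have hk : (cone C c).π.app W₀ ≫ (toBase C c (𝟙 C)).app W₀ = C.fromSpecStalk c := by
    show W₀.U.fromSpecStalkOfMem c W₀.mem ≫ W₀.U.ι ≫ 𝟙 C = _
    rw [Category.comp_id, Scheme.Opens.fromSpecStalkOfMem_ι]
  have H : HasQBC (@IsOpenImmersion ⊓ @Surjective) p (𝟙 C)
      ((cone C c).π.app W₀ ≫ (toBase C c (𝟙 C)).app W₀) := by
    rw [hasQBC_id_iff, hk]
    exact ⟨h1, h2⟩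
  obtain ⟨W, hW⟩ := HasQBC.exists_stage descendsLim_iso p (𝟙 C) (diag C c)
    (toBase C c (𝟙 C)) (cone C c) (isLimitCone C c) W₀ H
  refine ⟨W.U, W.mem, ?_⟩
  have hY : IsPullback W.U.ι (𝟙 (W.U : Scheme.{u})) (𝟙 C) (W.U.ι ≫ 𝟙 C) :=
    IsPullback.of_vert_isIso ⟨by simp⟩
  obtain ⟨h1, h2⟩ := (HasQBC.iff_of_isPullback hY (isPullback_morphismRestrict p W.U).flip).mp hW
  haveI : IsOpenImmersion (p ∣_ W.U) := h1
  haveI : Surjective (p ∣_ W.U) := h2
  apply isIso_of_isOpenImmersion_of_opensRange_eq_top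
  exact top_le_iff.mp fun y _ => (p ∣_ W.U).surjective y

end Groth.Agent.Lib.Helper12.SpreadIso
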