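import Mathlib
import Groth.Agent.Lib.Helper12.SpreadIso
import Groth.Agent.Lib.Helper12.FGLimit

/-!
# A morphism with a property between base changes to a field extension exists already over a
finite extension (helper12)
-/

set_option autoImplicit false
set_option linter.style.haveILetI false
universe u
open CategoryTheory CategoryTheory.Limits AlgebraicGeometry Opposite

namespace Groth.Agent.Lib.Helper12.IsoFiniteExt

open Groth.Agent.Lib.Helper12.ConsPairGen Groth.Agent.Lib.Helper12.FGLimit

set_option maxHeartbeats 1000000 in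
theorem exists_finite_ext (Q : MorphismProperty Scheme.{u}) [Q.IsStableUnderBaseChange]
    (hQ : DescendsLim Q) {k : Type u} [Field k] {X Y : Scheme.{u}}
    (p : X ⟶ Spec (CommRingCat.of k)) (q : Y ⟶ Spec (CommRingCat.of k))
    [LocallyOfFinitePresentation p] [QuasiCompact p] [QuasiSeparated p]
    [LocallyOfFinitePresentation q] [QuasiCompact q] [QuasiSeparated q]
    (K : Type u) [Field K] [Algebra k K]
    (H : HasQHom Q p q (Spec.map (CommRingCat.ofHom (algebraMap k K)))) :
    ∃ (k' : Type u) (_ : Field k') (_ : Algebra k k') (_ : Module.Finite k k'),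
      HasQHom Q p q (Spec.map (CommRingCat.ofHom (algebraMap k k'))) := by
  classical
  let τ : specDiag k K ⟶ (Functor.const (FGSub k K)ᵒᵖ).obj (Spec (CommRingCat.of k)) :=
    { app := fun B => Spec.map (CommRingCat.ofHom (algebraMap k B.unop.1))
      naturality := fun B C h => by
        simp only [Functor.const_obj_obj, Functor.const_obj_map, Category.comp_id]
        show Spec.map _ ≫ Spec.map _ = Spec.map _
        rw [← Spec.map_comp]
        rfl }
  let j₀ : (FGSub k K)ᵒᵖ := op ⟨⊥, Subalgebra.fg_bot⟩
  have hj₀ : (specCone k K).π.app j₀ ≫ τ.app j₀ =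
      Spec.map (CommRingCat.ofHom (algebraMap k K)) := by
    show Spec.map _ ≫ Spec.map _ = Spec.map _
    rw [← Spec.map_comp]
    rfl
  obtain ⟨j, Hj⟩ := HasQHom.exists_stage hQ p q (specDiag k K) τ (specCone k K)
    (isLimitSpecCone k K) j₀ (by rw [hj₀]; exact H)
  -- a closed point of `Spec B`
  set B := j.unop.1 with hB
  haveI : Algebra.FiniteType k B := (Subalgebra.fg_iff_finiteType _).mp j.unop.2
  obtain ⟨m, hm⟩ := Ideal.exists_maximal B
  letI : Field (B ⧸ m) := Ideal.Quotient.field m
  haveI : Algebra.FiniteType k (B ⧸ m) :=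
    Algebra.FiniteType.of_surjective (Ideal.Quotient.mkₐ k m) Ideal.Quotient.mk_surjective
  haveI : Module.Finite k (B ⧸ m) := finite_of_finite_type_of_isJacobsonRing k (B ⧸ m)
  refine ⟨B ⧸ m, inferInstance, inferInstance, inferInstance, ?_⟩
  have := Hj.comp (Spec.map (CommRingCat.ofHom (Ideal.Quotient.mk m)))
  refine this.of_eq ?_
  show Spec.map _ ≫ Spec.map _ = Spec.map _
  rw [← Spec.map_comp]
  rfl

end Groth.Agent.Lib.Helper12.IsoFiniteExt
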