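import Mathlib
import Groth.Prelude
import Groth.Agent.Lib.Helper17.FibreIsoLocusC

/-!
# The isomorphism locus of a morphism of proper schemes (flat source) represents
"the base change is an isomorphism".
-/

set_option autoImplicit false
universe u
open CategoryTheory CategoryTheory.Limits AlgebraicGeometry Opposite TopologicalSpace

namespace Groth.Agent.Lib.Helper12.IsoLocusBC

open Groth.Agent.Lib.Helper17.FlatLocusBase Groth.Agent.Lib.Helper17.FibreIsoLocus

variable {X Y S : Scheme.{u}} (f : X ⟶ Y) (h : Y ⟶ S)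

theorem isIso_bc_comp {T T' : Scheme.{u}} (ψ : T' ⟶ T) (φ : T ⟶ S)
    (χ : T' ⟶ S) (hχ : ψ ≫ φ = χ) (hiso : IsIso (bc h f φ)) : IsIso (bc h f χ) :=
  MorphismProperty.of_isPullback (P := MorphismProperty.isomorphisms Scheme.{u})
    (isPullback_bc_tr h f ψ φ χ hχ) hiso

theorem isIso_bc_of_fpqc {T T' : Scheme.{u}} (ψ : T' ⟶ T) [Surjective ψ] [Flat ψ] [QuasiCompact ψ]
    (φ : T ⟶ S) (χ : T' ⟶ S) (hχ : ψ ≫ φ = χ) (hiso : IsIso (bc h f χ)) : IsIso (bc h f φ) := by
  have hq : (@Surjective ⊓ @Flat ⊓ @QuasiCompact : MorphismProperty Scheme.{u})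
      (tr h ψ φ χ hχ) := by
    have hpb := isPullback_tr h ψ φ χ hχ
    exact ⟨⟨MorphismProperty.of_isPullback (P := @Surjective) hpb.flip inferInstance,
      MorphismProperty.of_isPullback (P := @Flat) hpb.flip inferInstance⟩,
      MorphismProperty.of_isPullback (P := @QuasiCompact) hpb.flip inferInstance⟩
  exact (inferInstance : (MorphismProperty.isomorphisms Scheme.{u}).DescendsAlong
    (@Surjective ⊓ @Flat ⊓ @QuasiCompact)).of_isPullback
      (isPullback_bc_tr h f ψ φ χ hχ).flip hq hiso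

theorem flat_SpecMap_residueFieldMap {S' : Scheme.{u}} (φ : S' ⟶ S) (x : S') :
    Flat (Spec.map (φ.residueFieldMap x)) := by
  rw [HasRingHomProperty.Spec_iff (P := @Flat)]
  letI := (φ.residueFieldMap x).hom.toAlgebra
  show Module.Flat (S.residueField (φ x)) (S'.residueField x)
  infer_instance

theorem surjective_SpecMap_residueFieldMap {S' : Scheme.{u}} (φ : S' ⟶ S) (x : S') :
    Surjective (Spec.map (φ.residueFieldMap x)) := by
  constructor
  intro y
  exact ⟨⟨⊥, Ideal.isPrime_bot⟩, Subsingleton.elim _ _⟩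

/-- If the base change to `S'` is an isomorphism, so is the fibre over the image of any point. -/
theorem isIso_fib_of_isIso_bc {S' : Scheme.{u}} (φ : S' ⟶ S) (hiso : IsIso (bc h f φ)) (s' : S') :
    IsIso (fib f h (φ s')) := by
  haveI := flat_SpecMap_residueFieldMap φ s'
  haveI := surjective_SpecMap_residueFieldMap φ s'
  have h1 : IsIso (bc h f (S'.fromSpecResidueField s' ≫ φ)) :=
    isIso_bc_comp f h (S'.fromSpecResidueField s') φ _ rfl hiso
  exact isIso_bc_of_fpqc f h (Spec.map (φ.residueFieldMap s')) (S.fromSpecResidueField (φ s'))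
    (S'.fromSpecResidueField s' ≫ φ)
    (Scheme.Hom.SpecMap_residueFieldMap_fromSpecResidueField φ s') h1

theorem main [IsProper (f ≫ h)] [LocallyOfFinitePresentation (f ≫ h)]
    [Flat (f ≫ h)] [IsProper h] [LocallyOfFinitePresentation h] :
    ∃ S₀ : S.Opens, ∀ (S' : Scheme.{u}) (φ : S' ⟶ S)
      (b : pullback (f ≫ h) φ ⟶ pullback h φ)
      (_ : b ≫ pullback.fst h φ = pullback.fst (f ≫ h) φ ≫ f)
      (_ : b ≫ pullback.snd h φ = pullback.snd (f ≫ h) φ),
      Set.range φ ⊆ (S₀ : Set S) ↔ IsIso b := by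
  obtain ⟨U, hU, hiso⟩ := exists_opens_isIso f h
  refine ⟨U, fun S' φ b hb1 hb2 => ?_⟩
  have hb : b = bc h f φ := by
    apply pullback.hom_ext
    · rw [hb1]; unfold bc; rw [pullback.lift_fst]
    · rw [hb2]; unfold bc; rw [pullback.lift_snd, Category.comp_id]
  rw [hb]
  constructor
  · intro hr
    refine isIso_of_isPullback_of_restrict (isPullback_bc h f φ) (h ⁻¹ᵁ U) ?_
    rintro _ ⟨y', rfl⟩
    show h (pullback.fst h φ y') ∈ U
    rw [← Scheme.Hom.comp_apply, pullback.condition, Scheme.Hom.comp_apply]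
    exact hr ⟨_, rfl⟩
  · rintro hi _ ⟨s', rfl⟩
    exact (hU _).mpr (isIso_fib_of_isIso_bc f h φ hi s')

end Groth.Agent.Lib.Helper12.IsoLocusBC
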