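import Mathlib

/-!
# Algebras of small dimension over a large field are Jacobson (Stacks 046V / 0477, ring level)
-/

open Cardinal

universe u

namespace Groth.Agent.Lib.Helper12.JacLarge

/-- A field extension `L / K` with `dim_K L < #K` is algebraic. -/
theorem isAlgebraic_of_rank_lt {K L : Type u} [Field K] [Field L] [Algebra K L]
    (h : Module.rank K L < #K) : Algebra.IsAlgebraic K L := by
  by_contra hna
  rw [Algebra.isAlgebraic_def] at hna
  push_neg at hna
  obtain ⟨t, ht⟩ := hna
  have hli := Transcendental.linearIndependent_sub_inv (F := K) (E := L) ht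
  have h2 := hli.cardinal_lift_le_rank
  rw [lift_id, lift_id] at h2
  exact absurd h2 (not_le.mpr h)

/-- If a `K`-algebra `S` with `dim_K S < #K` surjects onto a field `L`, then `L / K` is
algebraic. -/
theorem isAlgebraic_of_surjective {K S L : Type u} [Field K] [CommRing S] [Algebra K S] [Field L]
    [Algebra K L] (π : S →ₐ[K] L) (hπ : Function.Surjective π) (h : Module.rank K S < #K) :
    Algebra.IsAlgebraic K L :=
  isAlgebraic_of_rank_lt ((LinearMap.rank_le_of_surjective π.toLinearMap hπ).trans_lt h)

/-- The `K`-dimension of a localization `D_f` is at most `ℵ₀ * dim_K D`. -/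
theorem rank_localizationAway_le {K D : Type u} [Field K] [CommRing D] [Algebra K D] (f : D) :
    Module.rank K (Localization.Away f) ≤ ℵ₀ * Module.rank K D := by
  let u : Localization.Away f := IsLocalization.Away.invSelf f
  have hu : u * algebraMap D (Localization.Away f) f = 1 := by
    rw [mul_comm]; exact IsLocalization.Away.mul_invSelf f
  let φ : (ℕ →₀ D) →ₗ[K] Localization.Away f :=
    Finsupp.lsum K (fun n : ℕ => (LinearMap.mulRight K (u ^ n)).comp
      (IsScalarTower.toAlgHom K D (Localization.Away f)).toLinearMap)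
  have hφ : Function.Surjective φ := by
    intro z
    obtain ⟨d, s, rfl⟩ := IsLocalization.exists_mk'_eq (Submonoid.powers f) z
    obtain ⟨n, hn⟩ := s.2
    refine ⟨Finsupp.single n d, ?_⟩
    have : φ (Finsupp.single n d) = algebraMap D (Localization.Away f) d * u ^ n := by
      simp [φ]
    rw [this, eq_comm, IsLocalization.mk'_eq_iff_eq_mul, ← hn, map_pow, mul_assoc, ← mul_pow, hu,
      one_pow, mul_one]
  have h1 := LinearMap.rank_le_of_surjective φ hφ
  rw [rank_finsupp] at h1
  simpa using h1

/-- A `K`-algebra `S` with `dim_K S < #K` and `K` uncountable is a Jacobson ring. -/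
theorem isJacobsonRing_of_rank_lt {K S : Type u} [Field K] [CommRing S] [Algebra K S]
    (h0 : ℵ₀ < #K) (h : Module.rank K S < #K) : IsJacobsonRing S := by
  rw [isJacobsonRing_iff_prime_eq]
  intro P hP
  refine le_antisymm ?_ Ideal.le_jacobson
  intro x hx
  by_contra hxP
  -- the domain `D = S / P` and its localization at the image of `x`
  let D := S ⧸ P
  let f : D := Ideal.Quotient.mk P x
  have hf : f ≠ 0 := fun h0 => hxP (Ideal.Quotient.eq_zero_iff_mem.mp h0)
  have hinj : Function.Injective (algebraMap D (Localization.Away f)) :=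
    IsLocalization.injective _ (powers_le_nonZeroDivisors_of_noZeroDivisors hf)
  haveI : Nontrivial (Localization.Away f) := hinj.nontrivial
  obtain ⟨m, hm⟩ := Ideal.exists_maximal (Localization.Away f)
  letI : Field (Localization.Away f ⧸ m) := Ideal.Quotient.field m
  -- rank bounds
  have hD : Module.rank K D ≤ Module.rank K S :=
    LinearMap.rank_le_of_surjective (Ideal.Quotient.mkₐ K P).toLinearMap
      (Ideal.Quotient.mkₐ_surjective K P)
  have hDf : Module.rank K (Localization.Away f) < #K := by
    refine (rank_localizationAway_le (K := K) f).trans_lt ?_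
    exact mul_lt_of_lt h0.le h0 (hD.trans_lt h)
  haveI halg : Algebra.IsAlgebraic K (Localization.Away f ⧸ m) :=
    isAlgebraic_of_surjective (Ideal.Quotient.mkₐ K m) (Ideal.Quotient.mkₐ_surjective K m) hDf
  -- the composite `ψ : S → L`
  let ψ : S →ₐ[K] (Localization.Away f ⧸ m) :=
    (Ideal.Quotient.mkₐ K m).comp ((IsScalarTower.toAlgHom K D (Localization.Away f)).comp
      (Ideal.Quotient.mkₐ K P))
  have hfield : IsField ψ.range := Subalgebra.isField_of_algebraic ψ.range
  letI : Field ψ.range := hfield.toField
  have hker : (RingHom.ker ψ.rangeRestrict.toRingHom).IsMaximal :=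
    RingHom.ker_isMaximal_of_surjective ψ.rangeRestrict.toRingHom ψ.rangeRestrict_surjective
  have hPle : P ≤ RingHom.ker ψ.rangeRestrict.toRingHom := by
    intro y hy
    rw [RingHom.mem_ker]
    apply Subtype.ext
    show ψ y = 0
    have : (Ideal.Quotient.mk P y : D) = 0 := Ideal.Quotient.eq_zero_iff_mem.mpr hy
    show Ideal.Quotient.mk m (algebraMap D (Localization.Away f) (Ideal.Quotient.mk P y)) = 0
    rw [this, map_zero, map_zero]
  have hxker : x ∉ RingHom.ker ψ.rangeRestrict.toRingHom := by
    intro hxk
    rw [RingHom.mem_ker] at hxk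
    have h1 : ψ x = 0 := congrArg Subtype.val hxk
    have h2 : ψ x = Ideal.Quotient.mk m (algebraMap D (Localization.Away f) f) := rfl
    rw [h2, Ideal.Quotient.eq_zero_iff_mem] at h1
    have hunit : IsUnit (algebraMap D (Localization.Away f) f) :=
      IsLocalization.Away.algebraMap_isUnit f
    exact hm.ne_top (Ideal.eq_top_of_isUnit_mem _ h1 hunit)
  exact hxker (Ideal.mem_sInf.mp hx ⟨hPle, hker⟩)

end Groth.Agent.Lib.Helper12.JacLarge
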