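import Mathlib
import Groth.Prelude.Def_CurvBase
import Groth.Agent.Lib.Helper12.JacLarge

/-!
# Base change of a scheme over a field to a large field is Jacobson (Stacks 0477)
-/

open CategoryTheory CategoryTheory.Limits AlgebraicGeometry TensorProduct Cardinal

universe u

namespace Groth.Agent.Lib.Helper12.JacLargeSch

open Groth.Agent.Lib.Helper12.JacLarge

/-- The ring map `K → κ(x)` attached to `t : W ⟶ Spec K`. -/
noncomputable def resRingHom {K : Type u} [Field K] {W : Scheme.{u}}
    (t : W ⟶ Spec (CommRingCat.of K)) (x : W) : K →+* W.residueField x :=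
  (W.residue x).hom.comp ((W.presheaf.germ ⊤ x trivial).hom.comp (Coh.toGlobal t))

theorem resRingHom_eq {K : Type u} [Field K] {W : Scheme.{u}}
    (t : W ⟶ Spec (CommRingCat.of K)) (x : W) :
    resRingHom t x =
      ((Scheme.ΓSpecIso (CommRingCat.of K)).inv ≫ t.appTop ≫ W.Γevaluation x).hom := rfl

/-- The residue field at `x` is algebraic over `K` (via `t`). -/
def IsAlgAt {K : Type u} [Field K] {W : Scheme.{u}} (t : W ⟶ Spec (CommRingCat.of K)) (x : W) :
    Prop :=
  letI := (resRingHom t x).toAlgebra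
  Algebra.IsAlgebraic K (W.residueField x)

theorem isAlgAt_congr {K : Type u} [Field K] {W : Scheme.{u}} (t : W ⟶ Spec (CommRingCat.of K))
    {x y : W} (h : x = y) (hx : IsAlgAt t x) : IsAlgAt t y := by
  subst h; exact hx

/-- ring-level transfer along an (automatically injective) map of fields -/
theorem isAlgebraic_of_comp_field {K L L' : Type u} [Field K] [Field L] [Field L'] (φ : K →+* L)
    (e : L →+* L')
    (h : letI := (e.comp φ).toAlgebra; Algebra.IsAlgebraic K L') :
    letI := φ.toAlgebra; Algebra.IsAlgebraic K L := by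
  letI := φ.toAlgebra
  letI := (e.comp φ).toAlgebra
  let ea : L →ₐ[K] L' := { e with commutes' := fun _ => rfl }
  haveI : Algebra.IsAlgebraic K L' := h
  exact Algebra.IsAlgebraic.of_injective ea e.injective

theorem isAlgAt_of_comp {K : Type u} [Field K] {P W : Scheme.{u}} (j : P ⟶ W)
    (t : W ⟶ Spec (CommRingCat.of K)) (z : P) (h : IsAlgAt (j ≫ t) z) : IsAlgAt t (j z) := by
  have hcomp : (j.residueFieldMap z).hom.comp (resRingHom t (j z)) = resRingHom (j ≫ t) z := by
    rw [resRingHom_eq, resRingHom_eq, ← CommRingCat.hom_comp]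
    congr 1
    simp only [Category.assoc, Scheme.Γevaluation_naturality, Scheme.Hom.comp_appTop]
  unfold IsAlgAt at h ⊢
  rw [← hcomp] at h
  exact isAlgebraic_of_comp_field _ _ h

/-- Affine case. -/
theorem isAlgAt_Spec {K T : Type u} [Field K] [CommRing T] (ψ : K →+* T)
    (z : Spec (CommRingCat.of T)) (hz : IsClosed ({z} : Set (Spec (CommRingCat.of T))))
    (hrank : letI := ψ.toAlgebra; Module.rank K T < #K) :
    IsAlgAt (Spec.map (CommRingCat.ofHom ψ)) z := by
  haveI hmax : z.asIdeal.IsMaximal := (PrimeSpectrum.isClosed_singleton_iff_isMaximal z).mp hz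
  let π : T →+* (Spec (CommRingCat.of T)).residueField z :=
    ((Scheme.ΓSpecIso (CommRingCat.of T)).inv ≫ (Spec (CommRingCat.of T)).Γevaluation z).hom
  have hπ : Function.Surjective π := by
    have h1 := Scheme.Spec.algebraMap_residueFieldIso_inv (CommRingCat.of T) z
    have h2 : π = ((Scheme.Spec.residueFieldIso (CommRingCat.of T) z).inv).hom.comp
        (algebraMap T z.asIdeal.ResidueField) := by
      show π = (CommRingCat.ofHom (algebraMap T z.asIdeal.ResidueField) ≫
        (Scheme.Spec.residueFieldIso (CommRingCat.of T) z).inv).hom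
      rw [h1]
      rfl
    rw [h2]
    exact (ConcreteCategory.bijective_of_isIso
      (Scheme.Spec.residueFieldIso (CommRingCat.of T) z).inv).surjective.comp
      (Ideal.algebraMap_residueField_surjective z.asIdeal)
  have hres : resRingHom (Spec.map (CommRingCat.ofHom ψ)) z = π.comp ψ := by
    rw [resRingHom_eq]
    show _ = (CommRingCat.ofHom ψ ≫ (Scheme.ΓSpecIso (CommRingCat.of T)).inv ≫
      (Spec (CommRingCat.of T)).Γevaluation z).hom
    rw [Scheme.ΓSpecIso_inv_naturality_assoc]
  unfold IsAlgAt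
  rw [hres]
  letI := ψ.toAlgebra
  letI := (π.comp ψ).toAlgebra
  let πa : T →ₐ[K] (Spec (CommRingCat.of T)).residueField z :=
    { π with commutes' := fun _ => rfl }
  exact isAlgebraic_of_surjective πa hπ hrank

/-- Affine-source fibre product, algebra form. -/
theorem pullback_affine {k K R : Type u} [Field k] [Field K] [Algebra k K] [CommRing R]
    [Algebra k R] (h0 : ℵ₀ < #K) (hR : #R < #K) :
    JacobsonSpace ↥(pullback (Spec.map (CommRingCat.ofHom (algebraMap k R)))
        (Spec.map (CommRingCat.ofHom (algebraMap k K)))) ∧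
      ∀ z : ↥(pullback (Spec.map (CommRingCat.ofHom (algebraMap k R)))
        (Spec.map (CommRingCat.ofHom (algebraMap k K)))), IsClosed ({z} : Set _) →
        IsAlgAt (pullback.snd (Spec.map (CommRingCat.ofHom (algebraMap k R)))
          (Spec.map (CommRingCat.ofHom (algebraMap k K)))) z := by
  let e := pullbackSpecIso k R K
  let ψ : K →+* R ⊗[k] K := (Algebra.TensorProduct.includeRight : K →ₐ[k] R ⊗[k] K).toRingHom
  have he : e.inv ≫ pullback.snd _ _ = Spec.map (CommRingCat.ofHom ψ) :=
    pullbackSpecIso_inv_snd k R K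
  have hrank : letI := ψ.toAlgebra; Module.rank K (R ⊗[k] K) < #K := by
    letI := Algebra.TensorProduct.rightAlgebra (R := k) (A := R) (B := K)
    show Module.rank K (R ⊗[k] K) < #K
    rw [← (Algebra.TensorProduct.commRight k K R).toLinearEquiv.rank_eq, Module.rank_baseChange,
      lift_id]
    exact (rank_le_card k R).trans_lt hR
  haveI : IsJacobsonRing (R ⊗[k] K) := by
    letI := ψ.toAlgebra
    exact isJacobsonRing_of_rank_lt (K := K) h0 hrank
  refine ⟨JacobsonSpace.of_isOpenEmbedding e.hom.isOpenEmbedding, ?_⟩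
  intro z hz
  have hz' : IsClosed ({e.hom z} : Set (Spec (CommRingCat.of (R ⊗[k] K)))) := by
    have h1 := hz.preimage e.inv.continuous
    convert h1 using 1
    ext w
    simp only [Set.mem_singleton_iff, Set.mem_preimage]
    constructor
    · rintro rfl
      rw [← Scheme.Hom.comp_apply, Iso.hom_inv_id]
      rfl
    · intro h
      rw [← h, ← Scheme.Hom.comp_apply, Iso.inv_hom_id]
      rfl
  have h1 := isAlgAt_Spec ψ (e.hom z) hz' hrank
  rw [← he] at h1
  have h2 := isAlgAt_of_comp e.inv _ _ h1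
  refine isAlgAt_congr _ ?_ h2
  rw [← Scheme.Hom.comp_apply, Iso.hom_inv_id]
  rfl

/-- Affine-source fibre product, morphism form. -/
theorem pullback_affine' {k K : Type u} [Field k] [Field K] [Algebra k K] {R : CommRingCat.{u}}
    (a : Spec R ⟶ Spec (CommRingCat.of k)) (h0 : ℵ₀ < #K) (hR : #R < #K) :
    JacobsonSpace ↥(pullback a (Spec.map (CommRingCat.ofHom (algebraMap k K)))) ∧
      ∀ z : ↥(pullback a (Spec.map (CommRingCat.ofHom (algebraMap k K)))),
        IsClosed ({z} : Set _) →
        IsAlgAt (pullback.snd a (Spec.map (CommRingCat.ofHom (algebraMap k K)))) z := by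
  obtain ⟨φ, rfl⟩ := Spec.map_surjective a
  letI : Algebra k R := φ.hom.toAlgebra
  exact pullback_affine (k := k) (K := K) (R := R) h0 hR

theorem openCoverOfLeft_f_snd {X Y Z : Scheme.{u}} (𝒰 : X.OpenCover) (f : X ⟶ Z) (g : Y ⟶ Z)
    (i : 𝒰.I₀) :
    (Scheme.Pullback.openCoverOfLeft 𝒰 f g).f i ≫ pullback.snd f g =
      pullback.snd (𝒰.f i ≫ f) g := by
  simp only [Scheme.Pullback.openCoverOfLeft]
  unfold pullback.map
  rw [pullback.lift_snd, Category.comp_id]

/-- Stacks 0477. -/
theorem main (k : Type u) [Field k] (X : Scheme.{u}) (s : X ⟶ Spec (CommRingCat.of k)) :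
    ∃ κ : Cardinal.{u}, ∀ (K : Type u) [Field K] [Algebra k K], κ ≤ #K →
      JacobsonSpace ↥(pullback s (Spec.map (CommRingCat.ofHom (algebraMap k K)))) ∧
        ∀ x : ↥(pullback s (Spec.map (CommRingCat.ofHom (algebraMap k K)))),
          IsClosed ({x} : Set _) →
          IsAlgAt (pullback.snd s (Spec.map (CommRingCat.ofHom (algebraMap k K)))) x := by
  let 𝒜 := X.affineOpenCover
  refine ⟨Order.succ (max ℵ₀ (⨆ i : 𝒜.I₀, #(𝒜.X i))), fun K _ _ hK => ?_⟩
  have h0 : ℵ₀ < #K := lt_of_lt_of_le (Order.lt_succ_iff.mpr (le_max_left _ _)) hK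
  have hR : ∀ i, #(𝒜.X i) < #K := fun i => lt_of_lt_of_le (Order.lt_succ_iff.mpr
    ((le_ciSup (Cardinal.bddAbove_range _) i).trans (le_max_right _ _))) hK
  let g := Spec.map (CommRingCat.ofHom (algebraMap k K))
  let 𝒱 := Scheme.Pullback.openCoverOfLeft 𝒜.openCover s g
  have hi : ∀ i, JacobsonSpace ↥(pullback (𝒜.f i ≫ s) g) ∧
      ∀ z : ↥(pullback (𝒜.f i ≫ s) g), IsClosed ({z} : Set _) →
        IsAlgAt (pullback.snd (𝒜.f i ≫ s) g) z :=
    fun i => pullback_affine' (𝒜.f i ≫ s) h0 (hR i)
  constructor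
  · rw [𝒱.isOpenCover_opensRange.jacobsonSpace_iff]
    intro i
    haveI : JacobsonSpace ↥(𝒱.X i) := (hi i).1
    let e := (𝒱.f i).isOpenEmbedding.isEmbedding.toHomeomorph
    exact .of_isClosedEmbedding e.symm.isClosedEmbedding
  · intro x hx
    have hcover : ∃ (i : 𝒜.I₀) (z : ↥(pullback (𝒜.f i ≫ s) g)), (𝒱.f i) z = x := 𝒱.exists_eq x
    obtain ⟨i, z, rfl⟩ := hcover
    have hz : IsClosed ({z} : Set ↥(pullback (𝒜.f i ≫ s) g)) := by
      have h1 := hx.preimage (𝒱.f i).continuous
      have h3 : ((𝒱.f i) ⁻¹' {(𝒱.f i) z} : Set ↥(𝒱.X i)) = {z} := by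
        ext w
        simp only [Set.mem_singleton_iff, Set.mem_preimage]
        exact (𝒱.f i).isOpenEmbedding.injective.eq_iff
      rw [h3] at h1
      exact h1
    have h1 := (hi i).2 z hz
    have h2 : 𝒱.f i ≫ pullback.snd s g = pullback.snd (𝒜.f i ≫ s) g :=
      openCoverOfLeft_f_snd 𝒜.openCover s g i
    rw [← h2] at h1
    exact isAlgAt_of_comp (𝒱.f i) (pullback.snd s g) z h1

end Groth.Agent.Lib.Helper12.JacLargeSch
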