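import Mathlib
import Groth.Prelude.Def_Found
import Groth.Prelude.Def_Flat
import Groth.Agent.Lib.Helper12.JacLocalDim

/-!
# Helper library (helper12): local dimension of closed subsets of Jacobson schemes with catenary
local rings and equidimensional components (EGA IV 10.6.2)
-/

set_option autoImplicit false
universe u
open AlgebraicGeometry CategoryTheory

namespace Groth.Agent.Lib.Helper12.JacLocalDim

open Groth.Agent.Lib.Helper12 Groth.Agent.Lib.Helper12.SchemeDimFT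
open Groth.Agent.Lib.Helper12.SchemeDimIneq Groth.Agent.Lib.Helper12.OrdTools
open Groth.Agent.Lib.Helper12.JacDim

theorem localDim_closed' (X : Scheme.{u}) [IsLocallyNoetherian X] [JacobsonSpace X]
    (hcat : ∀ x : X, CAlg.IsCatenary (X.presheaf.stalk x))
    (h3 : ∀ X' ∈ irreducibleComponents (X : Type u), ∀ x ∈ X', IsClosed ({x} : Set X) →
      topologicalKrullDim (↥X' : Type u) = topologicalKrullDim ↥{t : X | t ∈ X' ∧ t ⤳ x})
    (Y : Set X) (hY : IsClosed Y) (x : X) (hx : x ∈ Y) :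
    FlatMor.localDim ↥Y ⟨x, hx⟩ =
        topologicalKrullDim ↥(closure ({x} : Set X)) + topologicalKrullDim ↥{t : X | t ∈ Y ∧ t ⤳ x} ∧
      FlatMor.localDim ↥Y ⟨x, hx⟩ =
        ⨆ C ∈ {C : Set ↥Y | C ∈ irreducibleComponents ↥Y ∧ (⟨x, hx⟩ : ↥Y) ∈ C}, topologicalKrullDim ↥C ∧
      ∀ U : Set X, IsOpen U → x ∈ U →
        (∀ C ∈ irreducibleComponents ↥Y, (⟨x, hx⟩ : ↥Y) ∉ C → Disjoint (Subtype.val ⁻¹' U) C) →
        topologicalKrullDim ↥(U ∩ Y) = FlatMor.localDim ↥Y ⟨x, hx⟩ := by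
  classical
  haveI : QuasiSober ↥Y := hY.isClosedEmbedding_subtypeVal.quasiSober
  -- description of the components through `x`
  have hcomp : ∀ C : Set ↥Y, C ∈ irreducibleComponents ↥Y → (⟨x, hx⟩ : ↥Y) ∈ C →
      ∃ η ∈ Y, (∀ z ∈ Y, z ⤳ η → z = η) ∧ η ⤳ x ∧
        topologicalKrullDim ↥C = topologicalKrullDim ↥(closure ({η} : Set X)) := by
    intro C hC hxC
    obtain ⟨η', hη', rfl⟩ := (mem_irreducibleComponents_iff_top (T := ↥Y) C).mp hC
    refine ⟨η'.1, η'.2, ?_, ?_, dim_component_eq Y hY η'⟩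
    · intro z hz hzη
      have := hη' ⟨z, hz⟩ ((subtype_specializes_iff (⟨z, hz⟩ : ↥Y) η').mpr hzη)
      exact congrArg Subtype.val this
    · have h1 : η' ⤳ (⟨x, hx⟩ : ↥Y) := specializes_iff_mem_closure.mpr hxC
      exact (subtype_specializes_iff η' ⟨x, hx⟩).mp h1
  have hcomp' : ∀ η : X, ∀ hηY : η ∈ Y, (∀ z ∈ Y, z ⤳ η → z = η) → η ⤳ x →
      topologicalKrullDim ↥(closure ({η} : Set X)) ≤
        ⨆ C ∈ {C : Set ↥Y | C ∈ irreducibleComponents ↥Y ∧ (⟨x, hx⟩ : ↥Y) ∈ C},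
          topologicalKrullDim ↥C := by
    intro η hηY hmax hηx
    have hmax' : ∀ z : ↥Y, z ⤳ (⟨η, hηY⟩ : ↥Y) → z = ⟨η, hηY⟩ := fun z hz =>
      Subtype.ext (hmax z.1 z.2 ((subtype_specializes_iff z ⟨η, hηY⟩).mp hz))
    have hC : closure ({(⟨η, hηY⟩ : ↥Y)} : Set ↥Y) ∈ irreducibleComponents ↥Y :=
      (closure_singleton_mem_irreducibleComponents_iff _).mpr hmax'
    have hxC : (⟨x, hx⟩ : ↥Y) ∈ closure ({(⟨η, hηY⟩ : ↥Y)} : Set ↥Y) :=
      specializes_iff_mem_closure.mp ((subtype_specializes_iff (⟨η, hηY⟩ : ↥Y) ⟨x, hx⟩).mpr hηx)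
    rw [← dim_component_eq Y hY ⟨η, hηY⟩]
    exact le_iSup₂ (f := fun (C : Set ↥Y)
      (_ : C ∈ {C : Set ↥Y | C ∈ irreducibleComponents ↥Y ∧ (⟨x, hx⟩ : ↥Y) ∈ C}) =>
        topologicalKrullDim ↥C) _ ⟨hC, hxC⟩
  -- lower and upper bounds for pieces of `Y`
  have hA : ∀ U : Set X, IsOpen U → x ∈ U →
      (⨆ C ∈ {C : Set ↥Y | C ∈ irreducibleComponents ↥Y ∧ (⟨x, hx⟩ : ↥Y) ∈ C},
        topologicalKrullDim ↥C) ≤ topologicalKrullDim ↥(U ∩ Y) := by
    intro U hU hxU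
    refine iSup₂_le fun C hC => ?_
    obtain ⟨η, hηY, -, hηx, hdim⟩ := hcomp C hC.1 hC.2
    rw [hdim]
    exact dim_closure_le_of_mem_open' hcat h3 Y hY U hU η (hηx.mem_open hU hxU) hηY
  have hB : ∀ U : Set X, IsOpen U →
      (∀ η ∈ U ∩ Y, (∀ z ∈ Y, z ⤳ η → z = η) → η ⤳ x) →
      topologicalKrullDim ↥(U ∩ Y) ≤
        ⨆ C ∈ {C : Set ↥Y | C ∈ irreducibleComponents ↥Y ∧ (⟨x, hx⟩ : ↥Y) ∈ C},
          topologicalKrullDim ↥C := by
    intro U hU hmax
    apply dim_inter_le Y hY U hU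
    intro η hη hηmax
    exact hcomp' η hη.2 hηmax (hmax η hη hηmax)
  -- the local dimension
  have hloc : FlatMor.localDim ↥Y ⟨x, hx⟩ =
      ⨆ C ∈ {C : Set ↥Y | C ∈ irreducibleComponents ↥Y ∧ (⟨x, hx⟩ : ↥Y) ∈ C},
        topologicalKrullDim ↥C := by
    unfold FlatMor.localDim
    apply le_antisymm
    · obtain ⟨U, hU, hxU, hUmax⟩ := exists_open_maxPts_specialize_closed Y hY x hx
      refine (iInf_le _ (⟨⟨Subtype.val ⁻¹' U, hU.preimage continuous_subtype_val⟩, hxU⟩ :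
        {W : TopologicalSpace.Opens ↥Y // (⟨x, hx⟩ : ↥Y) ∈ W})).trans ?_
      have h1 := dim_open_subspace Y (Subtype.val ⁻¹' U : Set ↥Y) U rfl
      refine le_trans (le_of_eq ?_) (hB U hU hUmax)
      exact h1
    · refine le_iInf fun W => ?_
      obtain ⟨U', hU', hWU'⟩ := isOpen_induced_iff.mp W.1.2
      have hxU' : x ∈ U' := by
        have : (⟨x, hx⟩ : ↥Y) ∈ Subtype.val ⁻¹' U' := by rw [hWU']; exact W.2
        exact this
      have h1 := dim_open_subspace Y (W.1 : Set ↥Y) U' hWU'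
      rw [show topologicalKrullDim ↥(W.1 : Set ↥Y) = topologicalKrullDim ↥(U' ∩ Y) from h1]
      exact hA U' hU' hxU'
  refine ⟨?_, hloc, ?_⟩
  · -- the formula with the generizations
    rw [hloc]
    haveI := quasiSober_generizations Y hY x
    rw [topologicalKrullDim_eq_krullDim_of_quasiSober {t : X | t ∈ Y ∧ t ⤳ x}]
    apply le_antisymm
    · refine iSup₂_le fun C hC => ?_
      obtain ⟨η, hηY, -, hηx, hdim⟩ := hcomp C hC.1 hC.2
      rw [hdim, dim_closure_add' hcat h3 x η hηx]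
      refine add_le_add_right ?_ _
      refine Order.krullDim_le_of_strictMono
        (fun z : Set.Icc x η => (⟨z.1, hY.closure_subset_iff.mpr
          (Set.singleton_subset_iff.mpr hηY) (specializes_iff_mem_closure.mp (z.2.2 : η ⤳ z.1)),
          (z.2.1 : z.1 ⤳ x)⟩ : ↥{t : X | t ∈ Y ∧ t ⤳ x})) ?_
      intro a b hab
      exact hab
    · -- the dimension of the space of generizations is attained
      have hbdd : Order.krullDim ↥{t : X | t ∈ Y ∧ t ⤳ x} ≤
          ((Order.coheight x : ℕ∞) : WithBot ℕ∞) := by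
        rw [Order.coheight_eq_krullDim_Ici]
        exact Order.krullDim_le_of_strictMono
          (fun z : ↥{t : X | t ∈ Y ∧ t ⤳ x} => (⟨z.1, (z.2.2 : z.1 ⤳ x)⟩ : Set.Ici x))
          (fun _ _ h => h)
      rw [← ringKrullDim_stalk_eq_coheight] at hbdd
      have hfin : ringKrullDim (X.presheaf.stalk x) ≠ ⊤ := ringKrullDim_ne_top
      haveI : Nonempty ↥{t : X | t ∈ Y ∧ t ⤳ x} := ⟨⟨x, hx, specializes_rfl⟩⟩
      have hnn : (0 : WithBot ℕ∞) ≤ Order.krullDim ↥{t : X | t ∈ Y ∧ t ⤳ x} :=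
        Order.krullDim_nonneg
      obtain ⟨n, hn⟩ : ∃ n : ℕ, Order.krullDim ↥{t : X | t ∈ Y ∧ t ⤳ x} = (n : WithBot ℕ∞) := by
        rcases ProductDim.withBot_enat_cases (Order.krullDim ↥{t : X | t ∈ Y ∧ t ⤳ x})
          with h | h | ⟨m, h⟩
        · rw [h] at hnn; simp at hnn
        · rw [h] at hbdd; exact absurd (top_le_iff.mp hbdd) hfin
        · exact ⟨m, h⟩
      obtain ⟨l, hl⟩ := (Order.le_krullDim_iff).mp (le_of_eq hn.symm)
      obtain ⟨η, hηY, hηmax, hηt⟩ := exists_max_in_closed Y hY l.last.1 l.last.2.1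
      have hηx : η ⤳ x := hηt.trans l.last.2.2
      have h1 := hcomp' η hηY hηmax hηx
      rw [dim_closure_add' hcat h3 x η hηx] at h1
      refine le_trans ?_ h1
      rw [hn]
      refine add_le_add_right ?_ _
      let l' : LTSeries (Set.Icc x η) :=
        { length := l.length
          toFun := fun i => ⟨(l i).1, ((l i).2.2 : (l i).1 ⤳ x),
            le_trans (show (l i).1 ≤ l.last.1 from l.monotone (Fin.le_last i)) hηt⟩
          step := fun i => l.step i }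
      have := Order.LTSeries.length_le_krullDim l'
      rw [← hl]
      exact this
  · intro U hU hxU hdisj
    rw [hloc]
    apply le_antisymm
    · apply hB U hU
      rintro η ⟨hηU, hηY⟩ hmax
      have hmax' : ∀ z : ↥Y, z ⤳ (⟨η, hηY⟩ : ↥Y) → z = ⟨η, hηY⟩ := fun z hz =>
        Subtype.ext (hmax z.1 z.2 ((subtype_specializes_iff z ⟨η, hηY⟩).mp hz))
      have hC : closure ({(⟨η, hηY⟩ : ↥Y)} : Set ↥Y) ∈ irreducibleComponents ↥Y :=
        (closure_singleton_mem_irreducibleComponents_iff _).mpr hmax'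
      by_contra hne
      have hxC : (⟨x, hx⟩ : ↥Y) ∉ closure ({(⟨η, hηY⟩ : ↥Y)} : Set ↥Y) := by
        intro h
        apply hne
        exact (subtype_specializes_iff (⟨η, hηY⟩ : ↥Y) ⟨x, hx⟩).mp
          (specializes_iff_mem_closure.mpr h)
      have := hdisj _ hC hxC
      exact Set.disjoint_left.mp this (show (⟨η, hηY⟩ : ↥Y) ∈ Subtype.val ⁻¹' U from hηU)
        (subset_closure rfl)
    · exact hA U hU hxU

end Groth.Agent.Lib.Helper12.JacLocalDim
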