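import Mathlib
import Groth.Prelude.Def_Found
import Groth.Prelude.Def_Flat
import Groth.Prelude.Def_CohB1
import Groth.Agent.Lib.Helper12.JacLocalDim2
import Groth.Agent.Lib.Helper17.CohStalk

/-!
# Helper library (helper12): schemes locally of finite type over a Jacobson universally catenary
base with equidimensional components; dimension of the support of a coherent module
(EGA IV 10.8.?)
-/

set_option autoImplicit false
universe u
open AlgebraicGeometry CategoryTheory

namespace Groth.Agent.Lib.Helper12.JacLocalDim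

open Groth.Agent.Lib.Helper12 Groth.Agent.Lib.Helper12.SchemeDimFT
open Groth.Agent.Lib.Helper12.SchemeDimIneq Groth.Agent.Lib.Helper12.OrdTools
open Groth.Agent.Lib.Helper12.JacDim Groth.Agent.Lib.Helper12.DimIneq
open Groth.Agent.Lib.Helper14

section LFT

variable {X S : Scheme.{u}}

/-- The local rings of a scheme locally of finite type over a scheme with universally catenary
local rings are catenary. -/
theorem isCatenary_stalk_of_lft (g : X ⟶ S) [LocallyOfFiniteType g]
    (h2 : ∀ s : S, CAlg.IsUniversallyCatenary (S.presheaf.stalk s)) (x : X) :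
    CAlg.IsCatenary (X.presheaf.stalk x) := by
  obtain ⟨_, ⟨V, hV, rfl⟩, hxV, -⟩ := S.isBasis_affineOpens.exists_subset_of_mem_open
    (Set.mem_univ (g x)) isOpen_univ
  obtain ⟨_, ⟨U, hU, rfl⟩, hxU, hUV⟩ := X.isBasis_affineOpens.exists_subset_of_mem_open
    hxV (g ⁻¹ᵁ V).2
  letI := (g.appLE V U hUV).hom.toAlgebra
  haveI : Algebra.FiniteType Γ(S, V) Γ(X, U) := Scheme.Hom.finiteType_appLE g hV hU hUV
  have hloc : LocUC Γ(S, V) (hV.primeIdealOf ⟨g x, hUV hxU⟩).asIdeal := by
    letI algA : Algebra Γ(S, V) (S.presheaf.stalk (g x)) :=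
      TopCat.Presheaf.algebra_section_stalk S.presheaf ⟨g x, hUV hxU⟩
    haveI := hV.isLocalization_stalk ⟨g x, hUV hxU⟩
    exact LocUC.of_isLocalization_atPrime _ (S.presheaf.stalk (g x)) (h2 (g x))
  have h1 := hloc Γ(X, U) inferInstance (hU.primeIdealOf ⟨x, hxU⟩).asIdeal
    (le_of_eq (primeIdealOf_comap g hU hV hUV x hxU).symm)
  letI algB : Algebra Γ(X, U) (X.presheaf.stalk x) :=
    TopCat.Presheaf.algebra_section_stalk X.presheaf ⟨x, hxU⟩
  haveI := hU.isLocalization_stalk ⟨x, hxU⟩
  let e : Localization.AtPrime (hU.primeIdealOf ⟨x, hxU⟩).asIdeal ≃ₐ[Γ(X, U)]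
      X.presheaf.stalk x :=
    IsLocalization.algEquiv (hU.primeIdealOf ⟨x, hxU⟩).asIdeal.primeCompl _ _
  exact isCatenary_of_surjective e.toRingEquiv.toRingHom e.surjective h1

variable [IsLocallyNoetherian S] [JacobsonSpace S]
  (h2 : ∀ s : S, CAlg.IsUniversallyCatenary (S.presheaf.stalk s))
  (h3 : ∀ S' ∈ irreducibleComponents (S : Type u), ∀ s ∈ S', IsClosed ({s} : Set S) →
      topologicalKrullDim (↥S' : Type u) = topologicalKrullDim ↥{t : S | t ∈ S' ∧ t ⤳ s})

include h2 h3

/-- The codimension of the closure of a point at its closed points is constant. -/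
theorem exists_const_krullDim_Icc_of_lft (g : X ⟶ S) [LocallyOfFiniteType g] (ξ : X) :
    ∃ c : ℕ, ∀ x : X, IsClosed ({x} : Set X) → ξ ⤳ x → Order.krullDim (Set.Icc x ξ) = c := by
  haveI : IsLocallyNoetherian X := LocallyOfFiniteType.isLocallyNoetherian g
  obtain ⟨c, hc⟩ := exists_const_krullDim_Icc h2 h3 (g ξ)
  obtain ⟨t, ht⟩ := exists_trn_eq g ξ
  refine ⟨c + t, fun x hx hξx => ?_⟩
  have hgx : IsClosed ({g x} : Set S) := g.closePoints_subset_preimage_closedPoints hx
  have DF := scheme_dimFormula g x ξ hξx (h2 (g x))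
  rw [trn_eq_zero_of_isClosed g x hx, hc (g x) hgx (hξx.map g.continuous), ht] at DF
  simpa using DF

/-- The irreducible components of a scheme locally of finite type over a Jacobson universally
catenary base with equidimensional components are again equidimensional. -/
theorem equidim_components_of_lft (g : X ⟶ S) [LocallyOfFiniteType g] :
    ∀ X' ∈ irreducibleComponents (X : Type u), ∀ x ∈ X', IsClosed ({x} : Set X) →
      topologicalKrullDim (↥X' : Type u) = topologicalKrullDim ↥{t : X | t ∈ X' ∧ t ⤳ x} := by
  haveI : IsLocallyNoetherian X := LocallyOfFiniteType.isLocallyNoetherian g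
  haveI : JacobsonSpace X := LocallyOfFiniteType.jacobsonSpace g
  intro X' hX' x hxX' hx
  obtain ⟨ξ, hξ, rfl⟩ := (mem_irreducibleComponents_iff (X := X) X').mp hX'
  have hξx : ξ ⤳ x := specializes_iff_mem_closure.mpr hxX'
  obtain ⟨c, hc⟩ := exists_const_krullDim_Icc_of_lft h2 h3 g ξ
  rw [topologicalKrullDim_generizations x ξ hξx, hc x hx hξx, topologicalKrullDim_closure_eq_Iic]
  apply le_antisymm
  · apply krullDim_Iic_le_of_forall
    intro z hz
    obtain ⟨s1, -, hs1, hzs1⟩ := exists_closed_specialization_open Set.univ isOpen_univ z trivial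
    refine ⟨s1, hzs1, ?_⟩
    rw [hc s1 hs1 (Specializes.trans hz hzs1)]
  · rw [← hc x hx hξx]
    exact krullDim_Icc_le_Iic x ξ

end LFT

section Supp

variable {X : Scheme.{u}}

/-- The dimension of the stalk of a quasi-coherent module is the dimension of the space of
generizations of the point in the support. -/
theorem supportDim_stalk_eq (F : X.Modules) [F.IsQuasicoherent]
    (hcl : IsClosed (CohB1.support F)) (x : X) :
    Module.supportDim (X.presheaf.stalk x) (F.presheaf.stalk x) =
      topologicalKrullDim ↥{t : X | t ∈ CohB1.support F ∧ t ⤳ x} := by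
  haveI := quasiSober_generizations (CohB1.support F) hcl x
  rw [topologicalKrullDim_eq_krullDim_of_quasiSober {t : X | t ∈ CohB1.support F ∧ t ⤳ x}]
  unfold Module.supportDim
  have hmem : ∀ q : PrimeSpectrum (X.presheaf.stalk x),
      q ∈ Module.support (X.presheaf.stalk x) (F.presheaf.stalk x) ↔
        (X.fromSpecStalk x) q ∈ CohB1.support F := by
    intro q
    constructor
    · intro hq
      have := Groth.Agent.Lib.Helper17.CohStalk.nontrivial_stalk_of_mem_support F x q hq
      exact not_subsingleton_iff_nontrivial.mpr this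
    · intro hq
      exact Groth.Agent.Lib.Helper17.CohStalk.mem_support_of_nontrivial_stalk F x q
        (not_subsingleton_iff_nontrivial.mp hq)
  have hgen : ∀ q : PrimeSpectrum (X.presheaf.stalk x), (X.fromSpecStalk x) q ⤳ x := by
    intro q
    have : (X.fromSpecStalk x) q ∈ Set.range (X.fromSpecStalk x) := ⟨q, rfl⟩
    rw [Scheme.range_fromSpecStalk] at this
    exact this
  let e : (↥(Module.support (X.presheaf.stalk x) (F.presheaf.stalk x)))ᵒᵈ ≃o
      ↥{t : X | t ∈ CohB1.support F ∧ t ⤳ x} :=
    { toFun := fun q => ⟨(X.fromSpecStalk x) (OrderDual.ofDual q).1,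
        (hmem _).mp (OrderDual.ofDual q).2, hgen _⟩
      invFun := fun t => OrderDual.toDual
        ⟨(exists_fromSpecStalk_eq x t.1 t.2.2).choose, by
          rw [hmem, (exists_fromSpecStalk_eq x t.1 t.2.2).choose_spec]
          exact t.2.1⟩
      left_inv := by
        intro q
        apply OrderDual.ofDual.injective
        apply Subtype.ext
        apply (X.fromSpecStalk x).isEmbedding.injective
        exact (exists_fromSpecStalk_eq x _ (hgen _)).choose_spec
      right_inv := by
        intro t
        apply Subtype.ext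
        exact (exists_fromSpecStalk_eq x t.1 t.2.2).choose_spec
      map_rel_iff' := by
        intro a b
        show (X.fromSpecStalk x) (OrderDual.ofDual a).1 ≤ (X.fromSpecStalk x) (OrderDual.ofDual b).1 ↔
          (OrderDual.ofDual b).1 ≤ (OrderDual.ofDual a).1
        rw [PrimeSpectrum.le_iff_specializes]
        exact (X.fromSpecStalk x).isEmbedding.isInducing.specializes_iff }
  rw [← Order.krullDim_eq_of_orderIso e, Order.krullDim_orderDual]

end Supp

end Groth.Agent.Lib.Helper12.JacLocalDim
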