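import Mathlib
import Groth.Agent.Lib.Helper12.KAExt
import Groth.Agent.Lib.Helper12.IntegralDim

/-! Krull–Akizuki for domains `R ⊆ S` whose fraction fields `K ⊆ L` form a finite extension:
reduction to the birational case (`KAExt`) via a finite `R`-subalgebra `R₁ ⊆ S` over which `S` is
birational. -/

set_option autoImplicit false

namespace Groth.Agent.Lib.Helper12.KAFin

open Groth.Agent.Lib.Helper12.KAExt Function

section

variable {R S : Type*} (K L : Type*) [CommRing R] [IsDomain R] [CommRing S] [IsDomain S]
  [Algebra R S]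
  [Field K] [Field L] [Algebra R K] [IsFractionRing R K] [Algebra S L] [IsFractionRing S L]
  [Algebra K L] [Algebra R L] [IsScalarTower R K L] [IsScalarTower R S L] [FiniteDimensional K L]

include K L in
theorem algebraMap_injective : Injective (algebraMap R S) := by
  have h1 : Injective (algebraMap R L) := by
    rw [IsScalarTower.algebraMap_eq R K L]
    exact (algebraMap K L).injective.comp (IsFractionRing.injective R K)
  rw [IsScalarTower.algebraMap_eq R S L] at h1
  exact Injective.of_comp h1

include K in
theorem isAlgebraic_top : Algebra.IsAlgebraic R L := by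
  haveI := IsLocalization.isAlgebraic K (nonZeroDivisors R)
  exact Algebra.IsAlgebraic.trans R K L

include K L in
theorem isAlgebraic : Algebra.IsAlgebraic R S := by
  haveI := isAlgebraic_top (R := R) K L
  refine ⟨fun s => ?_⟩
  exact (isAlgebraic_algebraMap_iff (IsFractionRing.injective S L)).1
    (Algebra.IsAlgebraic.isAlgebraic (algebraMap S L s))

include K in
theorem exists_smul_eq (l : L) : ∃ (s : S) (d : R), d ≠ 0 ∧ d • l = algebraMap S L s := by
  haveI := isAlgebraic (R := R) (S := S) K L
  obtain ⟨s, t, ht, rfl⟩ := IsFractionRing.div_surjective (A := S) l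
  obtain ⟨c, d, hd, h⟩ := IsAlgebraic.exists_smul_eq_mul s
    (Algebra.IsAlgebraic.isAlgebraic (R := R) t) ht
  have ht' : algebraMap S L t ≠ 0 := by
    rw [Ne, map_eq_zero_iff _ (IsFractionRing.injective S L)]
    exact nonZeroDivisors.ne_zero ht
  have h' : algebraMap R L d * algebraMap S L s = algebraMap S L t * algebraMap S L c := by
    rw [IsScalarTower.algebraMap_apply R S L, ← map_mul, ← map_mul, ← Algebra.smul_def, h]
  refine ⟨c, d, hd, ?_⟩
  rw [Algebra.smul_def, ← mul_div_assoc, h', mul_div_cancel_left₀ _ ht']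

include K L in
/-- There is a finite `R`-subalgebra of `S` over which `S` is birational, in the strong form
that denominators can be taken in `R`. -/
theorem exists_finite_subalgebra :
    ∃ R₁ : Subalgebra R S, Module.Finite R R₁ ∧ ∀ x : S, ∃ d : R, d ≠ 0 ∧ d • x ∈ R₁ := by
  classical
  haveI := isAlgebraic (R := R) (S := S) K L
  let b := Module.finBasis K L
  choose s d hd hsd using fun i => exists_smul_eq (R := R) (S := S) K L (b i)
  choose a ha hint using fun i =>
    IsAlgebraic.exists_integral_multiple (Algebra.IsAlgebraic.isAlgebraic (R := R) (s i))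
  let σ : Fin (Module.finrank K L) → S := fun i => a i • s i
  let ψ : S →ₐ[R] L := IsScalarTower.toAlgHom R S L
  have hψ : Injective ψ := IsFractionRing.injective S L
  let u : Fin (Module.finrank K L) → K := fun i => algebraMap R K (a i * d i)
  have hu : ∀ i, u i ≠ 0 := fun i => by
    rw [Ne, map_eq_zero_iff _ (IsFractionRing.injective R K)]
    exact mul_ne_zero (ha i) (hd i)
  have hσ : ∀ i, ψ (σ i) = u i • b i := by
    intro i
    show ψ (a i • s i) = _
    rw [map_smul]
    show a i • algebraMap S L (s i) = _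
    rw [← hsd i, smul_smul, algebraMap_smul]
  refine ⟨Algebra.adjoin R (Set.range σ), ?_, ?_⟩
  · exact Module.Finite.iff_fg.2 (fg_adjoin_of_finite (Set.finite_range σ) (by
      rintro _ ⟨i, rfl⟩
      exact hint i))
  · intro x
    set x' := ψ x with hx'
    let γ : Fin (Module.finrank K L) → K := fun i => b.repr x' i / u i
    obtain ⟨δ, hδ⟩ := IsLocalization.exist_integer_multiples_of_finset (nonZeroDivisors R)
      (Finset.univ.image γ)
    choose r hr using fun i => hδ (γ i) (Finset.mem_image_of_mem γ (Finset.mem_univ i))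
    refine ⟨δ, nonZeroDivisors.coe_ne_zero δ, ?_⟩
    have key : ∀ i, r i • ψ (σ i) = (δ : R) • ((b.repr x' i) • b i) := by
      intro i
      rw [hσ i, ← algebraMap_smul K (r i) (u i • b i), hr i, smul_smul, smul_mul_assoc,
        div_mul_cancel₀ _ (hu i), smul_assoc]
    have : (δ : R) • x = ∑ i, r i • σ i := by
      apply hψ
      rw [map_smul, map_sum, ← hx']
      simp_rw [map_smul, key]
      rw [← Finset.smul_sum, b.sum_repr x']
    rw [this]
    exact Subalgebra.sum_mem _ fun i _ =>
      Subalgebra.smul_mem _ (Algebra.subset_adjoin (Set.mem_range_self i)) _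

include K L in
theorem exists_ne_zero_mem (q : Ideal S) (hq : q ≠ ⊥) :
    ∃ r : R, r ≠ 0 ∧ algebraMap R S r ∈ q := by
  haveI := isAlgebraic (R := R) (S := S) K L
  obtain ⟨x, hx, hx0⟩ := Submodule.exists_mem_ne_zero_of_ne_bot hq
  obtain ⟨r, hr, hdvd⟩ := (Algebra.IsAlgebraic.isAlgebraic (R := R) x).exists_nonzero_dvd
    (mem_nonZeroDivisors_of_ne_zero hx0)
  exact ⟨r, hr, q.mem_of_dvd hdvd hx⟩

variable [IsNoetherianRing R] [Ring.KrullDimLE 1 R]

include K L in
theorem exists_good_subalgebra :
    ∃ R₁ : Subalgebra R S, Module.Finite R R₁ ∧ IsNoetherianRing R₁ ∧ Ring.KrullDimLE 1 R₁ ∧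
      Injective (algebraMap R₁ S) ∧ Bir R₁ S := by
  obtain ⟨R₁, hfin, hden⟩ := exists_finite_subalgebra (R := R) (S := S) K L
  have hinj := algebraMap_injective (R := R) (S := S) K L
  refine ⟨R₁, hfin, ?_, ?_, Subtype.val_injective, ?_⟩
  · haveI : IsNoetherian R R₁ := isNoetherian_of_isNoetherianRing_of_finite R R₁
    exact isNoetherian_of_tower R ‹IsNoetherian R R₁›
  · haveI : Algebra.IsIntegral R R₁ := Algebra.IsIntegral.of_finite R R₁
    rw [Ring.krullDimLE_iff]
    exact (ringKrullDim_le_of_isIntegral (R := R) (S := R₁)).trans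
      (Ring.krullDimLE_iff.1 inferInstance)
  · intro x
    obtain ⟨d, hd, hdx⟩ := hden x
    refine ⟨algebraMap R R₁ d, ⟨d • x, hdx⟩, ?_, ?_⟩
    · intro h
      apply hd
      apply hinj
      rw [map_zero]
      have := congrArg Subtype.val h
      exact this
    · show algebraMap R S d * x = d • x
      rw [Algebra.smul_def]

include R K L in
theorem isNoetherianRing : IsNoetherianRing S := by
  obtain ⟨R₁, _, h1, h2, hinj, hbir⟩ := exists_good_subalgebra (R := R) (S := S) K L
  exact isNoetherianRing_of_bir hinj hbir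

include R K L in
theorem isMaximal_of_isPrime (q : Ideal S) [q.IsPrime] (hq : q ≠ ⊥) : q.IsMaximal := by
  obtain ⟨R₁, _, h1, h2, hinj, hbir⟩ := exists_good_subalgebra (R := R) (S := S) K L
  exact KAExt.isMaximal_of_isPrime hinj hbir q hq

include R K L in
theorem dimensionLEOne : Ring.DimensionLEOne S :=
  ⟨fun {p} hp hprime => by
    haveI := hprime
    exact isMaximal_of_isPrime (R := R) K L p hp⟩

include K L in
theorem quotient_finite (I : Ideal S) (hI : I ≠ ⊥) : Module.Finite R (S ⧸ I) := by
  obtain ⟨R₁, hfin, h1, h2, hinj, hbir⟩ := exists_good_subalgebra (R := R) (S := S) K L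
  haveI := KAExt.quotient_finite hinj hbir I hI
  exact Module.Finite.trans R₁ (S ⧸ I)

include R K L in
theorem quotient_isArtinianRing (I : Ideal S) (hI : I ≠ ⊥) : IsArtinianRing (S ⧸ I) := by
  obtain ⟨R₁, hfin, h1, h2, hinj, hbir⟩ := exists_good_subalgebra (R := R) (S := S) K L
  exact KAExt.quotient_isArtinianRing hinj hbir I hI

include K L in
theorem finite_fibre (p : PrimeSpectrum R) :
    (PrimeSpectrum.comap (algebraMap R S) ⁻¹' {p}).Finite := by
  have hinj := algebraMap_injective (R := R) (S := S) K L
  by_cases hp : p.asIdeal = ⊥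
  · refine Set.Subsingleton.finite ?_
    have hbot : ∀ q : PrimeSpectrum S, PrimeSpectrum.comap (algebraMap R S) q = p →
        q.asIdeal = ⊥ := by
      intro q hq
      by_contra hne
      obtain ⟨r, hr, hrq⟩ := exists_ne_zero_mem (R := R) K L q.asIdeal hne
      have : r ∈ (PrimeSpectrum.comap (algebraMap R S) q).asIdeal := hrq
      rw [hq, hp] at this
      exact hr this
    intro q hq q' hq'
    ext1
    rw [hbot q hq, hbot q' hq']
  · obtain ⟨r, hrp, hr⟩ := Submodule.exists_mem_ne_zero_of_ne_bot hp
    set I : Ideal S := Ideal.span {algebraMap R S r} with hI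
    have hI0 : I ≠ ⊥ := by
      rw [hI, Ne, Ideal.span_singleton_eq_bot, map_eq_zero_iff _ hinj]
      exact hr
    haveI := quotient_isArtinianRing (R := R) K L I hI0
    have hfin : (Set.range (PrimeSpectrum.comap (Ideal.Quotient.mk I))).Finite :=
      Set.finite_range _
    rw [range_comap_of_surjective _ _ Ideal.Quotient.mk_surjective,
      Ideal.mk_ker] at hfin
    refine hfin.subset fun q hq => ?_
    rw [PrimeSpectrum.mem_zeroLocus, SetLike.coe_subset_coe, hI, Ideal.span_singleton_le_iff_mem]
    have : r ∈ (PrimeSpectrum.comap (algebraMap R S) q).asIdeal := by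
      rw [show PrimeSpectrum.comap (algebraMap R S) q = p from hq]
      exact hrp
    exact this

include K L in
theorem residue_finite (q : Ideal S) (hq : q ≠ ⊥) :
    Module.Finite (R ⧸ q.comap (algebraMap R S)) (S ⧸ q) := by
  haveI := quotient_finite (R := R) K L q hq
  exact Module.Finite.of_restrictScalars_finite R (R ⧸ q.comap (algebraMap R S)) (S ⧸ q)

end

end Groth.Agent.Lib.Helper12.KAFin
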