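import Mathlib
import Groth.Agent.Lib.Helper12.FlatDim
import Groth.Agent.Lib.Helper12.DimIneqH
import Groth.Agent.Lib.Helper12.SchemeDimFT4

/-!
# Helper library (helper12): Krull's height theorem on schemes locally of finite type over a field
-/

set_option autoImplicit false
universe u
open AlgebraicGeometry CategoryTheory

namespace Groth.Agent.Lib.Helper12.KrullSch

open Groth.Agent.Lib.Helper12 Groth.Agent.Lib.Helper12.SchemeDimFT
  Groth.Agent.Lib.Helper12.SchemeDimIneq Groth.Agent.Lib.Helper12.Equidim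
  Groth.Agent.Lib.Helper12.FlatDim Groth.Agent.Lib.Helper12.DimIneq

section Ring

/-- Krull's height theorem relative to a prime. -/
theorem height_map_mk_le_card {B : Type u} [CommRing B] [IsNoetherianRing B] (𝔭 𝔮 : Ideal B)
    [𝔭.IsPrime] [𝔮.IsPrime] (s : Finset B)
    (h : 𝔮 ∈ (Ideal.span (s : Set B) ⊔ 𝔭).minimalPrimes) :
    (𝔮.map (Ideal.Quotient.mk 𝔭)).height ≤ s.card := by
  classical
  have h1 : 𝔮.map (Ideal.Quotient.mk 𝔭) ∈
      ((Ideal.span (s : Set B)).map (Ideal.Quotient.mk 𝔭)).minimalPrimes := by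
    rw [Ideal.minimalPrimes_map_of_surjective Ideal.Quotient.mk_surjective, Ideal.mk_ker]
    exact ⟨𝔮, h, rfl⟩
  rw [Ideal.map_span] at h1
  have h2 : (Ideal.Quotient.mk 𝔭) '' (s : Set B) = ((s.image (Ideal.Quotient.mk 𝔭) : Finset (B ⧸ 𝔭)) :
      Set (B ⧸ 𝔭)) := by
    rw [Finset.coe_image]
  rw [h2] at h1
  refine (Ideal.height_le_card_of_mem_minimalPrimes_span_finset h1).trans ?_
  exact_mod_cast Finset.card_image_le

end Ring

section Sch

variable (k : Type u) [Field k] (C : Scheme.{u}) [C.Over (Spec (CommRingCat.of k))]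
  [LocallyOfFiniteType (C ↘ Spec (CommRingCat.of k))]

/-- Krull's height theorem in terms of transcendence degrees: if `t` is maximal among the
points between `t` and `p` where the sections in `s` vanish, then
`tr p ≤ tr t + card s`. -/
theorem tr_le_add_card (V : C.Opens) (hV : IsAffineOpen V) (p t : C) (hpt : p ⤳ t) (htV : t ∈ V)
    (s : Finset Γ(C, V))
    (hvan : ∀ g ∈ s, g ∈ (hV.primeIdealOf ⟨t, htV⟩).asIdeal)
    (hmin : ∀ t' : C, ∀ ht' : t' ∈ V, p ⤳ t' → t' ⤳ t →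
      (∀ g ∈ s, g ∈ (hV.primeIdealOf ⟨t', ht'⟩).asIdeal) → t' = t) :
    tr k C p ≤ tr k C t + s.card := by
  have hpV : p ∈ V := hpt.mem_open V.2 htV
  letI := secAlgebra k C V
  haveI := finiteType_sec k C V hV
  haveI : IsNoetherianRing Γ(C, V) := Algebra.FiniteType.isNoetherianRing k _
  set 𝔮 := hV.primeIdealOf ⟨t, htV⟩ with h𝔮
  set 𝔭 := hV.primeIdealOf ⟨p, hpV⟩ with h𝔭
  have hle : 𝔭.asIdeal ≤ 𝔮.asIdeal := (primeIdealOf_le_iff hV ⟨p, hpV⟩ ⟨t, htV⟩).mpr hpt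
  have hmem : 𝔮.asIdeal ∈ (Ideal.span (s : Set Γ(C, V)) ⊔ 𝔭.asIdeal).minimalPrimes := by
    refine ⟨⟨𝔮.2, sup_le (Ideal.span_le.mpr fun g hg => hvan g hg) hle⟩, ?_⟩
    rintro 𝔮' ⟨h𝔮'p, h𝔮'le⟩ h𝔮'𝔮
    obtain ⟨t', ht'⟩ := exists_primeIdealOf_eq hV ⟨𝔮', h𝔮'p⟩
    have h1 : 𝔭 ≤ hV.primeIdealOf t' := by
      rw [ht']; exact le_sup_right.trans h𝔮'le
    have h2 : hV.primeIdealOf t' ≤ 𝔮 := by
      rw [ht']; exact h𝔮'𝔮
    have h3 : p ⤳ (t' : C) := (primeIdealOf_le_iff hV ⟨p, hpV⟩ t').mp h1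
    have h4 : (t' : C) ⤳ t := (primeIdealOf_le_iff hV t' ⟨t, htV⟩).mp h2
    have h5 : ∀ g ∈ s, g ∈ (hV.primeIdealOf ⟨(t' : C), t'.2⟩).asIdeal := by
      intro g hg
      have : g ∈ 𝔮' := (le_sup_left.trans h𝔮'le) (Ideal.subset_span hg)
      have e : (hV.primeIdealOf ⟨(t' : C), t'.2⟩).asIdeal = 𝔮' := congrArg PrimeSpectrum.asIdeal ht'
      rw [e]; exact this
    have h6 := hmin t' t'.2 h3 h4 h5
    have h7 : t' = ⟨t, htV⟩ := Subtype.ext h6
    have h8 : (hV.primeIdealOf t').asIdeal = 𝔮' := congrArg PrimeSpectrum.asIdeal ht'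
    rw [← h8, h7]
  have hK := height_map_mk_le_card 𝔭.asIdeal 𝔮.asIdeal s hmem
  have hK' : (((𝔮.asIdeal.map (Ideal.Quotient.mk 𝔭.asIdeal)).height : ℕ∞) : WithBot ℕ∞) ≤
      ((s.card : ℕ) : WithBot ℕ∞) := by exact_mod_cast hK
  rw [height_map_mk_eq_krullDim_Icc 𝔭.asIdeal 𝔮.asIdeal hle] at hK'
  have h9 := krullDim_Icc_chart hV t p htV hpV
  have h10 := DimFun.krullDim_Icc_eq (isDimFun_tr k C) (a := t) (b := p) hpt
  rw [← h9, h10] at hK'
  have h11 : ((tr k C p : ℤ) - (tr k C t : ℤ)).toNat ≤ s.card := by exact_mod_cast hK'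
  omega

end Sch

section Chart

variable {W X : Scheme.{u}} (ι : W ⟶ X)

/-- Over an affine open where an immersion restricts to a closed immersion, its range is the
zero locus of the kernel. -/
theorem mem_range_iff_ker_le [QuasiCompact ι] (U : X.affineOpens)
    [IsClosedImmersion (ι ∣_ U.1)] (x : X) (hx : x ∈ U.1) :
    x ∈ Set.range ι.base ↔ RingHom.ker (ι.app U.1).hom ≤ (U.2.primeIdealOf ⟨x, hx⟩).asIdeal := by
  have hzl : x ∈ X.zeroLocus (U := U.1) (ι.ker.ideal U) ↔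
      RingHom.ker (ι.app U.1).hom ≤ (U.2.primeIdealOf ⟨x, hx⟩).asIdeal := by
    rw [Scheme.mem_zeroLocus_iff, Scheme.Hom.ker_apply]
    constructor
    · intro h r hr
      by_contra hcon
      exact h r hr ((mem_basicOpen_iff_notMem_primeIdealOf U.2 ⟨x, hx⟩ r).mpr hcon)
    · intro h r hr hmem
      exact (mem_basicOpen_iff_notMem_primeIdealOf U.2 ⟨x, hx⟩ r).mp hmem (h hr)
  rw [← hzl, ← Scheme.IdealSheafData.mem_support_iff_of_mem hx]
  constructor
  · intro h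
    exact ι.range_subset_ker_support h
  · intro h
    have h1 : x ∈ closure (Set.range ι.base) := by
      have := Scheme.Hom.support_ker ι
      rw [← this]; exact h
    -- the range is closed in `U`
    have hcl : IsClosed (Set.range (ι ∣_ U.1).base) := (ι ∣_ U.1).isClosedEmbedding.isClosed_range
    obtain ⟨K, hK, hKeq⟩ := isClosed_induced_iff.mp hcl
    have hiff : ∀ y : X, ∀ hy : y ∈ U.1, y ∈ K ↔ y ∈ Set.range ι.base := by
      intro y hy
      have e : (⟨y, hy⟩ : ↥U.1) ∈ Set.range (ι ∣_ U.1).base ↔ y ∈ K := by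
        rw [← hKeq]; rfl
      rw [← e]
      constructor
      · rintro ⟨w, hw⟩
        refine ⟨w.1, ?_⟩
        have := morphismRestrict_base_coe ι U.1 w
        rw [hw] at this
        exact this.symm
      · rintro ⟨w, hw⟩
        have hwU : w ∈ ι ⁻¹ᵁ U.1 := by
          show ι.base w ∈ U.1
          rw [hw]; exact hy
        refine ⟨⟨w, hwU⟩, Subtype.ext ?_⟩
        rw [morphismRestrict_base_coe]
        exact hw
    by_contra hne
    have hxK : x ∉ K := fun hk => hne ((hiff x hx).mp hk)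
    have hop : IsOpen ((U.1 : Set X) ∩ Kᶜ) := U.1.2.inter hK.isOpen_compl
    obtain ⟨y, ⟨hyU, hyK⟩, hyr⟩ := mem_closure_iff.mp h1 _ hop ⟨hx, hxK⟩
    exact hyK ((hiff y hyU).mpr hyr)

end Chart

end Groth.Agent.Lib.Helper12.KrullSch
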