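import Mathlib
import Groth.Agent.Lib.Helper12.LimCITrans

/-!
# Generic globalisation: properties of stages `Xᵢ → S` from properties of `lim Xᵢ → S`

Given an "affine core" for a pair of properties `(P, Q)` (transition maps satisfy `P`, the limit map
to an affine base satisfies `Q`, conclude a stage map satisfies `P`), we globalise to a
quasi-compact quasi-separated base.
-/

universe u

open CategoryTheory Limits AlgebraicGeometry

namespace Groth.Agent.Lib.Helper12.LimTransGen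

open Groth.Agent.Lib.Helper12 Groth.Agent.Lib.Helper12.LimCITrans

set_option backward.isDefEq.respectTransparency false

/-- The affine core for a pair of properties. -/
def HasCore (P Q : MorphismProperty Scheme.{u}) : Prop :=
  ∀ (K : Type u) [SmallCategory K] [IsCofiltered K] (D : K ⥤ Scheme.{u}) (c : Cone D)
    (_ : IsLimit c) (_ : ∀ {i j : K} (f : i ⟶ j), P (D.map f))
    (V : Scheme.{u}) (_ : IsAffine V) (t : ∀ j, D.obj j ⟶ V)
    (_ : ∀ {j k : K} (a : j ⟶ k), D.map a ≫ t k = t j)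
    (j₀ : K) (_ : IsAffine (D.obj j₀)) (_ : LocallyOfFiniteType (t j₀))
    (_ : Q (c.π.app j₀ ≫ t j₀)), ∃ (j : K) (_ : j ⟶ j₀), P (t j)

variable {J : Type u} [SmallCategory J] [IsCofiltered J] (D : J ⥤ Scheme.{u}) (c : Cone D)
  (hc : IsLimit c)

variable (P Q : MorphismProperty Scheme.{u})

include hc in
/-- Core with quasi-compact quasi-separated stages over an affine base. -/
theorem core (hPaff : ∀ {X Y : Scheme.{u}} (f : X ⟶ Y), P f → IsAffineHom f)
    (hPlft : ∀ {X Y : Scheme.{u}} (f : X ⟶ Y), P f → LocallyOfFiniteType f)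
    (hQaff : ∀ {X Y : Scheme.{u}} (f : X ⟶ Y), Q f → IsAffineHom f)
    (hcore : HasCore P Q)
    (hD : ∀ {i j : J} (f : i ⟶ j), P (D.map f))
    [∀ j, CompactSpace (D.obj j)] [∀ j, QuasiSeparatedSpace (D.obj j)]
    (V : Scheme.{u}) [IsAffine V] (t : ∀ j, D.obj j ⟶ V)
    (ht : ∀ {j k : J} (a : j ⟶ k), D.map a ≫ t k = t j)
    (j₀ : J) [LocallyOfFiniteType (t j₀)]
    (hQ : Q (c.π.app j₀ ≫ t j₀)) :
    ∃ (j : J) (_ : j ⟶ j₀), P (t j) := by
  haveI : ∀ {i j : J} (f : i ⟶ j), IsAffineHom (D.map f) := fun f => hPaff _ (hD f)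
  haveI : IsAffineHom (c.π.app j₀ ≫ t j₀) := hQaff _ hQ
  haveI : IsAffine c.pt := isAffine_of_isAffineHom (c.π.app j₀ ≫ t j₀)
  obtain ⟨i, hi⟩ := Scheme.exists_isAffine_of_isLimit D c hc
  haveI := hi
  let j₁ := IsCofiltered.min i j₀
  haveI : IsAffine (D.obj j₁) := isAffine_of_isAffineHom (D.map (IsCofiltered.minToLeft i j₀))
  haveI : LocallyOfFiniteType (D.map (IsCofiltered.minToRight i j₀)) := hPlft _ (hD _)
  haveI : LocallyOfFiniteType (t j₁) := by
    rw [← ht (IsCofiltered.minToRight i j₀)]; infer_instance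
  have hQ₁ : Q (c.π.app j₁ ≫ t j₁) := by
    have e : c.π.app j₁ ≫ t j₁ = c.π.app j₀ ≫ t j₀ := by
      rw [← ht (IsCofiltered.minToRight i j₀), c.w_assoc]
    rw [e]; exact hQ
  obtain ⟨j, a, hj⟩ := hcore J D c hc hD V inferInstance t ht j₁ inferInstance inferInstance hQ₁
  exact ⟨j, a ≫ IsCofiltered.minToRight i j₀, hj⟩

include hc in
/-- Chart version over an affine open of the base. -/
theorem chart [IsZariskiLocalAtTarget P] [IsZariskiLocalAtTarget Q] [P.IsStableUnderComposition]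
    (hPaff : ∀ {X Y : Scheme.{u}} (f : X ⟶ Y), P f → IsAffineHom f)
    (hPlft : ∀ {X Y : Scheme.{u}} (f : X ⟶ Y), P f → LocallyOfFiniteType f)
    (hQaff : ∀ {X Y : Scheme.{u}} (f : X ⟶ Y), Q f → IsAffineHom f)
    (hcore : HasCore P Q)
    (hD : ∀ {i j : J} (f : i ⟶ j), P (D.map f))
    [∀ j, CompactSpace (D.obj j)] [∀ j, QuasiSeparatedSpace (D.obj j)]
    (S : Scheme.{u}) [QuasiSeparatedSpace S] (t : ∀ j, D.obj j ⟶ S)
    (ht : ∀ {j k : J} (a : j ⟶ k), D.map a ≫ t k = t j)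
    (j₀ : J) [LocallyOfFiniteType (t j₀)] (hQ : Q (c.π.app j₀ ≫ t j₀))
    (V : S.Opens) (hV : IsAffineOpen V) :
    ∃ k : Over j₀, ∀ (k' : Over j₀) (_ : k' ⟶ k), P ((t k'.left) ∣_ V) := by
  haveI : IsAffine V := hV
  haveI : ∀ {i j : J} (f : i ⟶ j), IsAffineHom (D.map f) := fun f => hPaff _ (hD f)
  obtain ⟨U, hUdef⟩ : ∃ U : (D.obj j₀).Opens, U = t j₀ ⁻¹ᵁ V := ⟨_, rfl⟩
  have hUeq : ∀ k : Over j₀, D.map k.hom ⁻¹ᵁ U = t k.left ⁻¹ᵁ V := by
    intro k
    rw [hUdef, ← ht k.hom, Scheme.Hom.comp_preimage]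
  have hUc : IsCompact (U : Set (D.obj j₀)) := by
    rw [hUdef]; exact (t j₀).isCompact_preimage hV.isCompact
  haveI : ∀ k : Over j₀, CompactSpace ((opensDiagram D j₀ U).obj k) := fun k =>
    isCompact_iff_compactSpace.mp ((D.map k.hom).isCompact_preimage hUc)
  haveI : ∀ k : Over j₀, QuasiSeparatedSpace ((opensDiagram D j₀ U).obj k) := fun k =>
    (isQuasiSeparated_iff_quasiSeparatedSpace _ (D.map _ ⁻¹ᵁ _).2).mp (.of_quasiSeparatedSpace _)
  have hD' : ∀ {i j : Over j₀} (f : i ⟶ j), P ((opensDiagram D j₀ U).map f) := by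
    intro i j f
    refine resLE_of_eq P (D.map f.left) _ _ ?_ (hD _)
    rw [← Scheme.Hom.comp_preimage, ← D.map_comp, Over.w f]
  let t' : ∀ k : Over j₀, (opensDiagram D j₀ U).obj k ⟶ V :=
    fun k => (t k.left).resLE V (D.map k.hom ⁻¹ᵁ U) (hUeq k).le
  have ht' : ∀ {j k : Over j₀} (a : j ⟶ k), (opensDiagram D j₀ U).map a ≫ t' k = t' j := by
    intro j k a
    refine (Scheme.Hom.resLE_comp_resLE (D.map a.left) _ (t k.left) (hUeq k).le).trans ?_
    congr 1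
    exact ht a.left
  haveI : LocallyOfFiniteType (t' (Over.mk (𝟙 j₀))) :=
    IsZariskiLocalAtSource.resLE _ (inferInstance : LocallyOfFiniteType (t j₀))
  have hQ' : Q ((opensCone D c j₀ U).π.app (Over.mk (𝟙 j₀)) ≫ t' (Over.mk (𝟙 j₀))) := by
    have e : (opensCone D c j₀ U).π.app (Over.mk (𝟙 j₀)) ≫ t' (Over.mk (𝟙 j₀)) =
        (c.π.app j₀ ≫ t j₀).resLE V (c.π.app j₀ ⁻¹ᵁ U) (by
          rw [hUdef, Scheme.Hom.comp_preimage]) :=
      Scheme.Hom.resLE_comp_resLE (c.π.app j₀) _ (t j₀) (hUeq (Over.mk (𝟙 j₀))).le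
    rw [e]
    refine resLE_of_eq Q (c.π.app j₀ ≫ t j₀) _ _ ?_ hQ
    rw [hUdef, Scheme.Hom.comp_preimage]
  obtain ⟨k, a, hk⟩ := core (opensDiagram D j₀ U) (opensCone D c j₀ U)
    (isLimitOpensCone D c hc j₀ U) P Q hPaff hPlft hQaff hcore hD' V t' ht' (Over.mk (𝟙 j₀)) hQ'
  refine ⟨k, fun k' b => ?_⟩
  have h1 : P (t' k') := by
    rw [← ht' b]; exact P.comp_mem _ _ (hD' b) hk
  exact morphismRestrict_of_resLE P (t k'.left) V (D.map k'.hom ⁻¹ᵁ U) (hUeq k') h1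

include hc in
/-- Globalisation over a quasi-compact quasi-separated base. -/
theorem exists_of_hasCore [IsZariskiLocalAtTarget P] [IsZariskiLocalAtTarget Q]
    [P.IsStableUnderComposition]
    (hPaff : ∀ {X Y : Scheme.{u}} (f : X ⟶ Y), P f → IsAffineHom f)
    (hPlft : ∀ {X Y : Scheme.{u}} (f : X ⟶ Y), P f → LocallyOfFiniteType f)
    (hQaff : ∀ {X Y : Scheme.{u}} (f : X ⟶ Y), Q f → IsAffineHom f)
    (hcore : HasCore P Q)
    (hD : ∀ {i j : J} (f : i ⟶ j), P (D.map f))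
    [∀ j, CompactSpace (D.obj j)] [∀ j, QuasiSeparatedSpace (D.obj j)]
    (S : Scheme.{u}) [CompactSpace S] [QuasiSeparatedSpace S] (t : ∀ j, D.obj j ⟶ S)
    (ht : ∀ {j k : J} (a : j ⟶ k), D.map a ≫ t k = t j)
    (j₀ : J) [LocallyOfFiniteType (t j₀)] (hQ : Q (c.π.app j₀ ≫ t j₀)) :
    ∃ (j : J) (_ : j ⟶ j₀), ∀ (j' : J) (_ : j' ⟶ j), P (t j') := by
  classical
  have h1 : ∀ x : S, ∃ V : S.Opens, x ∈ V ∧ IsAffineOpen V := by
    intro x
    obtain ⟨V, hV, hxV, -⟩ := exists_isAffineOpen_mem_and_subset (x := x) (U := ⊤) trivial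
    exact ⟨V, hxV, hV⟩
  choose V hxV hV using h1
  have h2 := fun x => chart D c hc P Q hPaff hPlft hQaff hcore hD S t ht j₀ hQ (V x) (hV x)
  choose k hk using h2
  obtain ⟨s, hs⟩ := CompactSpace.elim_nhds_subcover (fun x => ((V x : S.Opens) : Set S))
    (fun x => (V x).2.mem_nhds (hxV x))
  obtain ⟨k₁, hk₁⟩ := IsCofiltered.inf_objs_exists (s.image k)
  refine ⟨k₁.left, k₁.hom, fun j' b => ?_⟩
  refine IsZariskiLocalAtTarget.of_iSup_eq_top (P := P) (fun x : s => V x.1) ?_ ?_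
  · refine top_le_iff.mp fun y _ => ?_
    have hy : y ∈ ⋃ x ∈ s, ((V x : S.Opens) : Set S) := by rw [hs]; trivial
    simp only [Set.mem_iUnion] at hy
    obtain ⟨x, hx, hy⟩ := hy
    exact TopologicalSpace.Opens.mem_iSup.mpr ⟨⟨x, hx⟩, hy⟩
  · intro x
    exact hk x.1 (Over.mk (b ≫ k₁.hom))
      (Over.homMk b ≫ (hk₁ (Finset.mem_image_of_mem _ x.2)).some)

end Groth.Agent.Lib.Helper12.LimTransGen
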