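import Mathlib
import Groth.Agent.Lib.Helper12.LimTransGen

/-!
# Limits along finite morphisms: if the limit is integral over the base, stages are finite
-/

universe u

open CategoryTheory Limits AlgebraicGeometry

namespace Groth.Agent.Lib.Helper12.LimFinTrans

open Groth.Agent.Lib.Helper12 Groth.Agent.Lib.Helper12.LimCIStage
  Groth.Agent.Lib.Helper12.LimTransGen

set_option backward.isDefEq.respectTransparency false

lemma isIntegral_comp_of_generators {A B₀ B₁ : Type u} [CommRing A] [CommRing B₀] [CommRing B₁]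
    (φ : A →+* B₀) (ψ : B₀ →+* B₁) (T : Set B₀)
    (hgen : ∀ R : Subring B₀, (∀ a, φ a ∈ R) → T ⊆ R → R = ⊤)
    (hψ : ψ.IsIntegral) (hT : ∀ x ∈ T, (ψ.comp φ).IsIntegralElem (ψ x)) :
    (ψ.comp φ).IsIntegral := by
  letI := (ψ.comp φ).toAlgebra
  let C : Subalgebra A B₁ := integralClosure A B₁
  have h1 : C.toSubring.comap ψ = ⊤ := by
    refine hgen _ (fun a => ?_) (fun x hx => ?_)
    · exact C.algebraMap_mem a
    · exact hT x hx
  have h2 : ∀ b, ψ b ∈ C := fun b => by
    have : b ∈ C.toSubring.comap ψ := h1 ▸ Subring.mem_top b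
    exact this
  intro y
  obtain ⟨p, hp, hpy⟩ := hψ y
  let ψ' : B₀ →+* C := ψ.codRestrict C h2
  have hy : IsIntegral C y := by
    refine ⟨p.map ψ', hp.map _, ?_⟩
    rw [Polynomial.eval₂_map]
    exact hpy
  exact isIntegral_trans (R := A) (A := C) y hy

lemma appTop_hom_comp {X Y Z : Scheme.{u}} (f : X ⟶ Y) (g : Y ⟶ Z) :
    f.appTop.hom.comp g.appTop.hom = (f ≫ g).appTop.hom := by
  rw [Scheme.Hom.comp_appTop]; rfl

/-- Transport of integral elements along a compatible map. -/
lemma isIntegralElem_map {X Y Z : Scheme.{u}} (f : X ⟶ Y) (g : Y ⟶ Z) (y : Γ(Y, ⊤))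
    (hy : g.appTop.hom.IsIntegralElem y) : (f ≫ g).appTop.hom.IsIntegralElem (f.appTop y) := by
  obtain ⟨p, hp, hpy⟩ := hy
  refine ⟨p, hp, ?_⟩
  have := Polynomial.hom_eval₂ p g.appTop.hom f.appTop.hom y
  rw [hpy, map_zero, appTop_hom_comp] at this
  exact this.symm

theorem hasCore_finite : HasCore.{u} @IsFinite @IsIntegralHom := by
  intro K _ _ D c hc hD V hVaff t ht j₀ hj₀aff hlft hQ
  classical
  haveI := hVaff
  haveI := hj₀aff
  haveI := hlft
  haveI : ∀ {i j : K} (f : i ⟶ j), IsFinite (D.map f) := fun f => hD f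
  haveI : ∀ {i j : K} (f : i ⟶ j), IsAffineHom (D.map f) := fun f => inferInstance
  obtain ⟨hXaff, hint⟩ := (HasAffineProperty.iff_of_isAffine (P := @IsIntegralHom)).mp hQ
  have hft : (t j₀).appTop.hom.FiniteType :=
    (HasRingHomProperty.iff_of_isAffine (P := @LocallyOfFiniteType)).mp inferInstance
  obtain ⟨T, hgen⟩ := exists_finset_subring _ hft
  have h1 : ∀ x : T, ∃ k : Over j₀,
      (t k.left).appTop.hom.IsIntegralElem ((D.map k.hom).appTop x.1) := by
    intro x
    obtain ⟨p, hp, hpx⟩ := hint ((c.π.app j₀).appTop x.1)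
    have hz : (c.π.app j₀).appTop (Polynomial.eval₂ (t j₀).appTop.hom x.1 p) = 0 := by
      have := Polynomial.hom_eval₂ p (t j₀).appTop.hom (c.π.app j₀).appTop.hom x.1
      rw [appTop_hom_comp] at this
      exact this.trans hpx
    obtain ⟨j, f, hj⟩ := exists_appTop_map_eq_zero_of_isLimit D c hc _ hz
    refine ⟨Over.mk f, p, hp, ?_⟩
    have := Polynomial.hom_eval₂ p (t j₀).appTop.hom (D.map f).appTop.hom x.1
    rw [appTop_hom_comp, ht f] at this
    exact this.symm.trans hj
  choose k hk using h1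
  obtain ⟨k₁, hk₁⟩ := IsCofiltered.inf_objs_exists (Finset.univ.image k)
  have b : ∀ x : T, k₁ ⟶ k x :=
    fun x => (hk₁ (Finset.mem_image_of_mem _ (Finset.mem_univ x))).some
  refine ⟨k₁.left, k₁.hom, ?_⟩
  haveI : IsAffine (D.obj k₁.left) := isAffine_of_isAffineHom (D.map k₁.hom)
  have hcomp : (D.map k₁.hom).appTop.hom.comp (t j₀).appTop.hom = (t k₁.left).appTop.hom := by
    rw [appTop_hom_comp, ht]
  have hI : (t k₁.left).appTop.hom.IsIntegral := by
    rw [← hcomp]
    refine isIntegral_comp_of_generators _ _ (T : Set Γ(D.obj j₀, ⊤)) hgen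
      (RingHom.Finite.to_isIntegral (Scheme.Hom.finite_appTop _)) ?_
    intro x hx
    rw [hcomp]
    have e1 : D.map (b ⟨x, hx⟩).left ≫ D.map (k ⟨x, hx⟩).hom = D.map k₁.hom := by
      rw [← D.map_comp, Over.w]
    have e2 := appTop_appTop (D.map (b ⟨x, hx⟩).left) (D.map (k ⟨x, hx⟩).hom) x
    rw [e1] at e2
    rw [← e2]
    have e3 := isIntegralElem_map (D.map (b ⟨x, hx⟩).left) (t (k ⟨x, hx⟩).left) _ (hk ⟨x, hx⟩)
    rw [ht] at e3
    exact e3
  have hint₁ : IsIntegralHom (t k₁.left) :=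
    (HasAffineProperty.iff_of_isAffine (P := @IsIntegralHom)).mpr ⟨inferInstance, hI⟩
  haveI : LocallyOfFiniteType (t k₁.left) := by
    rw [← ht k₁.hom]; infer_instance
  exact (IsFinite.iff_isIntegralHom_and_locallyOfFiniteType (f := t k₁.left)).mpr ⟨hint₁, inferInstance⟩

variable {J : Type u} [SmallCategory J] [IsCofiltered J] (D : J ⥤ Scheme.{u}) (c : Cone D)
  (hc : IsLimit c)

include hc in
/-- Limit along finite morphisms over a qcqs base: if the limit is integral over the base then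
the stages are finite from some index on. -/
theorem exists_isFinite [∀ {i j : J} (f : i ⟶ j), IsFinite (D.map f)]
    [∀ j, CompactSpace (D.obj j)] [∀ j, QuasiSeparatedSpace (D.obj j)]
    (S : Scheme.{u}) [CompactSpace S] [QuasiSeparatedSpace S] (t : ∀ j, D.obj j ⟶ S)
    (ht : ∀ {j k : J} (a : j ⟶ k), D.map a ≫ t k = t j)
    (j₀ : J) [LocallyOfFiniteType (t j₀)] [IsIntegralHom (c.π.app j₀ ≫ t j₀)] :
    ∃ (j : J) (_ : j ⟶ j₀), ∀ (j' : J) (_ : j' ⟶ j), IsFinite (t j') :=
  exists_of_hasCore D c hc @IsFinite @IsIntegralHom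
    (fun _ h => by haveI := h; infer_instance) (fun _ h => by haveI := h; infer_instance)
    (fun _ h => by haveI := h; infer_instance) hasCore_finite (fun f => inferInstance)
    S t ht j₀ inferInstance

end Groth.Agent.Lib.Helper12.LimFinTrans
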