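import Mathlib
import Groth.Agent.Lib.Helper12.LimData

/-!
# Isomorphisms descend along cofiltered limits
-/

universe u

open CategoryTheory Limits AlgebraicGeometry

namespace Groth.Agent.Lib.Helper12

set_option backward.isDefEq.respectTransparency false

namespace LimData

variable {J : Type u} [SmallCategory J] [IsCofiltered J] (A : LimData J)

theorem exists_isOpenImmersion [∀ j, LocallyOfFinitePresentation (A.F.app j)]
    (hf : IsOpenImmersion A.f) : ∃ j, IsOpenImmersion (A.F.app j) :=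
  LimOpenImm.exists_isOpenImmersion_app A.DX A.DY A.F A.cX A.hcX A.cY A.hcY A.f
    (fun a => A.hF a) A.hf hf

theorem exists_isIso [∀ j, LocallyOfFinitePresentation (A.F.app j)] (hf : IsIso A.f) :
    ∃ j, IsIso (A.F.app j) := by
  haveI := hf
  obtain ⟨j, hj⟩ := A.exists_isOpenImmersion inferInstance
  haveI := hj
  have h1 : A.cY.π.app j ⁻¹ᵁ (A.F.app j).opensRange = ⊤ := by
    refine top_le_iff.mp fun y _ => ?_
    obtain ⟨x, rfl⟩ := A.f.surjective y
    refine ⟨A.cX.π.app j x, ?_⟩
    exact congr($(A.hf j) x)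
  obtain ⟨k, a, hk⟩ := exists_map_eq_top A.DY A.cY A.hcY _ h1
  refine ⟨k, ?_⟩
  haveI : IsOpenImmersion (A.F.app k) :=
    MorphismProperty.of_isPullback (P := @IsOpenImmersion) (A.hF a) hj
  have h2 : (A.F.app k).opensRange = ⊤ := by
    refine top_le_iff.mp fun y _ => ?_
    have h3 : y ∈ A.DY.map a ⁻¹ᵁ (A.F.app j).opensRange := hk ▸ trivial
    obtain ⟨x, hx⟩ := h3
    obtain ⟨z, -, hz⟩ := Scheme.exists_preimage_of_isPullback (A.hF a) x y hx
    exact ⟨z, hz⟩
  exact isIso_of_isOpenImmersion_of_opensRange_eq_top _ h2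

end LimData

end Groth.Agent.Lib.Helper12
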