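import Mathlib
import Groth.Agent.Lib.Helper12.PbDiag

/-!
# Changing the base index of a base-changed diagram

Given `h₀ : Z₀ ⟶ D.obj i₀`, an index `j` over `i₀`, and `ν : Z₁ ⟶ Z₀ ×_{D i₀} D j`, the stages of
the base change of `Z₁ ⟶ D j` (over indices `k` over `j`) are base changes of `ν` along the
transition maps of the stages of the base change of `Z₀`.
-/

universe u

set_option backward.isDefEq.respectTransparency false

open CategoryTheory Limits AlgebraicGeometry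

namespace Groth.Agent.Lib.Helper12.PbDiag

variable {I : Type u} [SmallCategory I] (D : I ⥤ Scheme.{u}) (i₀ : I) {Z₀ : Scheme.{u}}
  (h₀ : Z₀ ⟶ D.obj i₀) (j : Over i₀) {Z₁ : Scheme.{u}} (ν : Z₁ ⟶ pullback h₀ (D.map j.hom))
  (h₁ : Z₁ ⟶ D.obj j.left) (hh : h₁ = ν ≫ pullback.snd h₀ (D.map j.hom)) (k : Over j.left)

/-- The comparison of the stage `k` of the rebased situation with the stage `k ≫ j` of the
original one. -/
noncomputable def rebase :
    pullback h₁ (D.map k.hom) ⟶ pullback h₀ (D.map (k.hom ≫ j.hom)) :=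
  pullback.lift (pullback.fst h₁ (D.map k.hom) ≫ ν ≫ pullback.fst h₀ (D.map j.hom))
    (pullback.snd h₁ (D.map k.hom)) (by
      rw [Category.assoc, Category.assoc, pullback.condition, D.map_comp,
        ← Category.assoc ν, ← hh, pullback.condition_assoc])

@[reassoc (attr := simp)] lemma rebase_fst :
    rebase D i₀ h₀ j ν h₁ hh k ≫ pullback.fst h₀ (D.map (k.hom ≫ j.hom)) =
      pullback.fst h₁ (D.map k.hom) ≫ ν ≫ pullback.fst h₀ (D.map j.hom) := by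
  simp [rebase]

@[reassoc (attr := simp)] lemma rebase_snd :
    rebase D i₀ h₀ j ν h₁ hh k ≫ pullback.snd h₀ (D.map (k.hom ≫ j.hom)) =
      pullback.snd h₁ (D.map k.hom) := by
  simp [rebase]

/-- The transition map from the stage `k ≫ j` to the stage `j`. -/
noncomputable abbrev trans : pullback h₀ (D.map (k.hom ≫ j.hom)) ⟶ pullback h₀ (D.map j.hom) :=
  (pbDiagram D i₀ h₀).map (Over.homMk k.hom : Over.mk (k.hom ≫ j.hom) ⟶ j)

lemma isPullback_rebase :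
    IsPullback (rebase D i₀ h₀ j ν h₁ hh k) (pullback.fst h₁ (D.map k.hom))
      (trans D i₀ h₀ j k) ν := by
  have hbot := isPullback_pbDiagram_map D i₀ h₀
    (Over.homMk k.hom : Over.mk (k.hom ≫ j.hom) ⟶ j)
  have hcomm : pullback.fst h₁ (D.map k.hom) ≫ ν =
      rebase D i₀ h₀ j ν h₁ hh k ≫ trans D i₀ h₀ j k := by
    apply pullback.hom_ext
    · rw [Category.assoc, Category.assoc, pbDiagram_map_fst]
      exact (rebase_fst D i₀ h₀ j ν h₁ hh k).symm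
    · rw [Category.assoc, Category.assoc, pbDiagram_map_snd]
      have e1 := rebase_snd_assoc D i₀ h₀ j ν h₁ hh k (D.map k.hom)
      refine Eq.trans ?_ e1.symm
      rw [← hh]
      exact pullback.condition
  have hbig : IsPullback (pullback.fst h₁ (D.map k.hom))
      (rebase D i₀ h₀ j ν h₁ hh k ≫ pullback.snd h₀ (D.map (k.hom ≫ j.hom)))
      (ν ≫ pullback.snd h₀ (D.map j.hom)) (D.map k.hom) := by
    rw [rebase_snd, ← hh]
    exact IsPullback.of_hasPullback h₁ (D.map k.hom)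
  exact (IsPullback.of_bot hbig hcomm hbot).flip

instance [IsOpenImmersion ν] : IsOpenImmersion (rebase D i₀ h₀ j ν h₁ hh k) :=
  MorphismProperty.of_isPullback (P := @IsOpenImmersion)
    (isPullback_rebase D i₀ h₀ j ν h₁ hh k).flip inferInstance

instance [IsIso ν] : IsIso (rebase D i₀ h₀ j ν h₁ hh k) :=
  MorphismProperty.of_isPullback (P := MorphismProperty.isomorphisms Scheme.{u})
    (isPullback_rebase D i₀ h₀ j ν h₁ hh k).flip (inferInstanceAs (IsIso ν))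

section comm

variable {X₀ : Scheme.{u}} (u₀ : X₀ ⟶ Z₀) {Z₁ W₁ : Scheme.{u}}
  (νX : Z₁ ⟶ pullback (u₀ ≫ h₀) (D.map j.hom)) (νY : W₁ ⟶ pullback h₀ (D.map j.hom))
  (f₁ : Z₁ ⟶ W₁) (g₁ : W₁ ⟶ D.obj j.left)
  (hhY : g₁ = νY ≫ pullback.snd h₀ (D.map j.hom))
  (hhX : f₁ ≫ g₁ = νX ≫ pullback.snd (u₀ ≫ h₀) (D.map j.hom))
  (hν : νX ≫ (pbMap D i₀ h₀ u₀).app j = f₁ ≫ νY)

include hν in
/-- Compatibility of the rebasing maps with the stage maps. -/
lemma rebase_comp_pbMap :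
    rebase D i₀ (u₀ ≫ h₀) j νX (f₁ ≫ g₁) hhX k ≫
        (pbMap D i₀ h₀ u₀).app (Over.mk (k.hom ≫ j.hom)) =
      (pbMap D j.left g₁ f₁).app k ≫ rebase D i₀ h₀ j νY g₁ hhY k := by
  have e1 := congr($hν ≫ pullback.fst h₀ (D.map j.hom))
  simp only [Category.assoc, pbMap_app_fst] at e1
  apply pullback.hom_ext
  · have a1 := pbMap_app_fst D i₀ h₀ u₀ (Over.mk (k.hom ≫ j.hom))
    have a2 := rebase_fst_assoc D i₀ (u₀ ≫ h₀) j νX (f₁ ≫ g₁) hhX k u₀
    have a3 := rebase_fst D i₀ h₀ j νY g₁ hhY k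
    have a4 := pbMap_app_fst_assoc D j.left g₁ f₁ k (νY ≫ pullback.fst h₀ (D.map j.hom))
    calc (rebase D i₀ (u₀ ≫ h₀) j νX (f₁ ≫ g₁) hhX k ≫
          (pbMap D i₀ h₀ u₀).app (Over.mk (k.hom ≫ j.hom))) ≫
          pullback.fst h₀ (D.map (k.hom ≫ j.hom))
        = rebase D i₀ (u₀ ≫ h₀) j νX (f₁ ≫ g₁) hhX k ≫
          (pbMap D i₀ h₀ u₀).app (Over.mk (k.hom ≫ j.hom)) ≫
          pullback.fst h₀ (D.map (k.hom ≫ j.hom)) := Category.assoc _ _ _
      _ = rebase D i₀ (u₀ ≫ h₀) j νX (f₁ ≫ g₁) hhX k ≫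
          pullback.fst (u₀ ≫ h₀) (D.map (k.hom ≫ j.hom)) ≫ u₀ := congrArg _ a1
      _ = pullback.fst (f₁ ≫ g₁) (D.map k.hom) ≫ (νX ≫ pullback.fst (u₀ ≫ h₀) (D.map j.hom)) ≫
          u₀ := a2
      _ = pullback.fst (f₁ ≫ g₁) (D.map k.hom) ≫ f₁ ≫ νY ≫ pullback.fst h₀ (D.map j.hom) := by
          rw [Category.assoc, e1]
      _ = (pbMap D j.left g₁ f₁).app k ≫ pullback.fst g₁ (D.map k.hom) ≫ νY ≫
          pullback.fst h₀ (D.map j.hom) := a4.symm
      _ = (pbMap D j.left g₁ f₁).app k ≫ rebase D i₀ h₀ j νY g₁ hhY k ≫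
          pullback.fst h₀ (D.map (k.hom ≫ j.hom)) := congrArg _ a3.symm
      _ = _ := (Category.assoc _ _ _).symm
  · have a1 := pbMap_app_snd D i₀ h₀ u₀ (Over.mk (k.hom ≫ j.hom))
    have a2 := rebase_snd D i₀ (u₀ ≫ h₀) j νX (f₁ ≫ g₁) hhX k
    have a3 := rebase_snd D i₀ h₀ j νY g₁ hhY k
    have a4 := pbMap_app_snd D j.left g₁ f₁ k
    calc (rebase D i₀ (u₀ ≫ h₀) j νX (f₁ ≫ g₁) hhX k ≫
          (pbMap D i₀ h₀ u₀).app (Over.mk (k.hom ≫ j.hom))) ≫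
          pullback.snd h₀ (D.map (k.hom ≫ j.hom))
        = rebase D i₀ (u₀ ≫ h₀) j νX (f₁ ≫ g₁) hhX k ≫
          (pbMap D i₀ h₀ u₀).app (Over.mk (k.hom ≫ j.hom)) ≫
          pullback.snd h₀ (D.map (k.hom ≫ j.hom)) := Category.assoc _ _ _
      _ = rebase D i₀ (u₀ ≫ h₀) j νX (f₁ ≫ g₁) hhX k ≫
          pullback.snd (u₀ ≫ h₀) (D.map (k.hom ≫ j.hom)) := congrArg _ a1
      _ = pullback.snd (f₁ ≫ g₁) (D.map k.hom) := a2
      _ = (pbMap D j.left g₁ f₁).app k ≫ pullback.snd g₁ (D.map k.hom) := a4.symm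
      _ = (pbMap D j.left g₁ f₁).app k ≫ rebase D i₀ h₀ j νY g₁ hhY k ≫
          pullback.snd h₀ (D.map (k.hom ≫ j.hom)) := congrArg _ a3.symm
      _ = _ := (Category.assoc _ _ _).symm

end comm

section cone

variable {D i₀ h₀} (c : Cone D) {Z : Scheme.{u}} (q : Z ⟶ Z₀) (h : Z ⟶ c.pt)
  (hZ : IsPullback q h h₀ (c.π.app i₀)) {Z' : Scheme.{u}} (q₁ : Z' ⟶ Z₁) (h' : Z' ⟶ c.pt)
  (hZ' : IsPullback q₁ h' h₁ (c.π.app j.left)) (ι : Z' ⟶ Z)
  (hq : q₁ ≫ ν = ι ≫ (pbCone c q h hZ).π.app j) (hh' : h' = ι ≫ h)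

include hq hh' in
/-- Compatibility of the rebasing maps with the cone projections. -/
lemma pbCone_π_rebase :
    (pbCone c q₁ h' hZ').π.app k ≫ rebase D i₀ h₀ j ν h₁ hh k =
      ι ≫ (pbCone c q h hZ).π.app (Over.mk (k.hom ≫ j.hom)) := by
  have e1 := congr($hq ≫ pullback.fst h₀ (D.map j.hom))
  simp only [Category.assoc, pbCone_π_fst] at e1
  apply pullback.hom_ext
  · have a1 := rebase_fst D i₀ h₀ j ν h₁ hh k
    have a2 := pbCone_π_fst_assoc c q₁ h' hZ' k (ν ≫ pullback.fst h₀ (D.map j.hom))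
    have a3 := pbCone_π_fst c q h hZ (Over.mk (k.hom ≫ j.hom))
    calc ((pbCone c q₁ h' hZ').π.app k ≫ rebase D i₀ h₀ j ν h₁ hh k) ≫
          pullback.fst h₀ (D.map (k.hom ≫ j.hom))
        = (pbCone c q₁ h' hZ').π.app k ≫ rebase D i₀ h₀ j ν h₁ hh k ≫
          pullback.fst h₀ (D.map (k.hom ≫ j.hom)) := Category.assoc _ _ _
      _ = (pbCone c q₁ h' hZ').π.app k ≫ pullback.fst h₁ (D.map k.hom) ≫ ν ≫
          pullback.fst h₀ (D.map j.hom) := congrArg _ a1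
      _ = q₁ ≫ ν ≫ pullback.fst h₀ (D.map j.hom) := a2
      _ = ι ≫ q := e1
      _ = ι ≫ (pbCone c q h hZ).π.app (Over.mk (k.hom ≫ j.hom)) ≫
          pullback.fst h₀ (D.map (k.hom ≫ j.hom)) := congrArg _ a3.symm
      _ = _ := (Category.assoc _ _ _).symm
  · have a1 := rebase_snd D i₀ h₀ j ν h₁ hh k
    have a2 := pbCone_π_snd c q₁ h' hZ' k
    have a3 := pbCone_π_snd c q h hZ (Over.mk (k.hom ≫ j.hom))
    calc ((pbCone c q₁ h' hZ').π.app k ≫ rebase D i₀ h₀ j ν h₁ hh k) ≫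
          pullback.snd h₀ (D.map (k.hom ≫ j.hom))
        = (pbCone c q₁ h' hZ').π.app k ≫ rebase D i₀ h₀ j ν h₁ hh k ≫
          pullback.snd h₀ (D.map (k.hom ≫ j.hom)) := Category.assoc _ _ _
      _ = (pbCone c q₁ h' hZ').π.app k ≫ pullback.snd h₁ (D.map k.hom) := congrArg _ a1
      _ = h' ≫ c.π.app k.left := a2
      _ = ι ≫ h ≫ c.π.app k.left := by rw [hh', Category.assoc]
      _ = ι ≫ (pbCone c q h hZ).π.app (Over.mk (k.hom ≫ j.hom)) ≫
          pullback.snd h₀ (D.map (k.hom ≫ j.hom)) := congrArg _ a3.symm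
      _ = _ := (Category.assoc _ _ _).symm

end cone

end Groth.Agent.Lib.Helper12.PbDiag
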