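import Mathlib
import Groth.Agent.Lib.Helper12.LimAffChart
import Groth.Agent.Lib.Helper12.LimRebase

/-!
# Descent to a stage of properties holding in a neighbourhood of a point
-/

universe u

open CategoryTheory Limits AlgebraicGeometry

namespace Groth.Agent.Lib.Helper12

set_option backward.isDefEq.respectTransparency false

open PbDiag PbLocal

/-- A property respecting isomorphisms holds for `o.opensRange.ι ≫ F` if it holds for `o ≫ F`. -/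
lemma opensRange_ι_comp (P : MorphismProperty Scheme.{u}) [P.RespectsIso] {A B C : Scheme.{u}}
    (o : A ⟶ B) [IsOpenImmersion o] (F : B ⟶ C) (h : P (o ≫ F)) : P (o.opensRange.ι ≫ F) := by
  have h2 : o.isoOpensRange.hom ≫ o.opensRange.ι = o := by simp
  rw [← h2, Category.assoc] at h
  exact (P.cancel_left_of_respectsIso _ _).mp h

namespace LimData

section

variable {I : Type u} [SmallCategory I] [IsCofiltered I] (D : I ⥤ Scheme.{u}) (c : Cone D)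
  (hc : IsLimit c) [∀ {i j : I} (f : i ⟶ j), IsAffineHom (D.map f)] (i₀ : I)
  {X₀ Y₀ : Scheme.{u}} (f₀ : X₀ ⟶ Y₀) (g₀ : Y₀ ⟶ D.obj i₀)
  {X Y : Scheme.{u}} (f : X ⟶ Y) (g : Y ⟶ c.pt) (qY : Y ⟶ Y₀) (qX : X ⟶ X₀)
  (hY : IsPullback qY g g₀ (c.π.app i₀)) (hX : IsPullback qX f f₀ qY)

include hc in
/-- The rebasing step: if `P` holds on the preimage of a quasi-compact open `V` of a stage, it
holds on the preimage of `V` in some later stage. -/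
theorem exists_stage_of_preimage (P : MorphismProperty Scheme.{u})
    (Q : ∀ {R S : Type u} [CommRing R] [CommRing S], (R →+* S) → Prop)
    [HasRingHomProperty P @Q] (hQ : DescendsWeakColim @Q)
    [P.RespectsRight @IsOpenImmersion] [P.IsStableUnderBaseChange]
    [LocallyOfFinitePresentation f₀] (j : Over i₀)
    (V : (pullback (f₀ ≫ g₀) (D.map j.hom)).Opens) [CompactSpace (V : Scheme.{u})]
    (hV : P ((((pbCone c qX (f ≫ g) (hX.paste_vert hY)).π.app j) ⁻¹ᵁ V).ι ≫ f))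
    (x : X) (hxV : ((pbCone c qX (f ≫ g) (hX.paste_vert hY)).π.app j) x ∈ V) :
    ∃ (j' : Over i₀) (V' : (pullback (f₀ ≫ g₀) (D.map j'.hom)).Opens),
      ((pbCone c qX (f ≫ g) (hX.paste_vert hY)).π.app j') x ∈ V' ∧
        P (V'.ι ≫ (pbMap D i₀ g₀ f₀).app j') := by
  haveI : LocallyOfFinitePresentation ((pbMap D i₀ g₀ f₀).app j) :=
    MorphismProperty.of_isPullback (P := @LocallyOfFinitePresentation)
      (isPullback_pbMap_app D i₀ g₀ f₀ j) inferInstance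
  haveI : LocallyOfFinitePresentation (V.ι ≫ (pbMap D i₀ g₀ f₀).app j) :=
    MorphismProperty.comp_mem (W := @LocallyOfFinitePresentation) _ _ inferInstance inferInstance
  have hY₁ := isPullback_pbCone_π c qY g hY j
  have hX₁ := (isPullback_morphismRestrict ((pbCone c qX (f ≫ g) (hX.paste_vert hY)).π.app j)
    V).paste_vert (isPullback_pbCone_π_pbMap D c i₀ f₀ g₀ f g qY qX hY hX j)
  obtain ⟨k, hk⟩ := exists_stage_of_hasRingHomProperty D c hc j.left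
    (V.ι ≫ (pbMap D i₀ g₀ f₀).app j) (pullback.snd g₀ (D.map j.hom)) _ g _ _ hY₁ hX₁ P @Q hQ hV
  have hhX : (V.ι ≫ (pbMap D i₀ g₀ f₀).app j) ≫ pullback.snd g₀ (D.map j.hom) =
      V.ι ≫ pullback.snd (f₀ ≫ g₀) (D.map j.hom) := by
    rw [Category.assoc, pbMap_app_snd]
  have hhY : pullback.snd g₀ (D.map j.hom) =
      𝟙 (pullback g₀ (D.map j.hom)) ≫ pullback.snd g₀ (D.map j.hom) := (Category.id_comp _).symm
  have hcomm := rebase_comp_pbMap D i₀ g₀ j k f₀ V.ι (𝟙 (pullback g₀ (D.map j.hom)))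
    (V.ι ≫ (pbMap D i₀ g₀ f₀).app j) (pullback.snd g₀ (D.map j.hom)) hhY hhX
    (Category.comp_id _).symm
  have hcone := pbCone_π_rebase j V.ι
    ((V.ι ≫ (pbMap D i₀ g₀ f₀).app j) ≫ pullback.snd g₀ (D.map j.hom)) hhX k c qX (f ≫ g)
    (hX.paste_vert hY) _ _ (hX₁.paste_vert hY₁)
    (((pbCone c qX (f ≫ g) (hX.paste_vert hY)).π.app j) ⁻¹ᵁ V).ι
    (by simp) (Category.assoc _ _ _)
  refine ⟨Over.mk (k.hom ≫ j.hom),
    (rebase D i₀ (f₀ ≫ g₀) j V.ι _ hhX k).opensRange, ?_, ?_⟩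
  · refine ⟨((pbCone c _ _ (hX₁.paste_vert hY₁)).π.app k) ⟨x, hxV⟩, ?_⟩
    exact congr($hcone ⟨x, hxV⟩)
  · have h1 : P (rebase D i₀ (f₀ ≫ g₀) j V.ι _ hhX k ≫
        (pbMap D i₀ g₀ f₀).app (Over.mk (k.hom ≫ j.hom))) := by
      rw [hcomm]
      exact MorphismProperty.RespectsRight.postcomp (Q := @IsOpenImmersion) _ inferInstance _ hk
    exact opensRange_ι_comp P _ _ h1

include hc in
/-- Neighbourhood version of descent to a stage, for `X₀` affine. -/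
theorem exists_stage_nhd_of_isAffine (P : MorphismProperty Scheme.{u})
    (Q : ∀ {R S : Type u} [CommRing R] [CommRing S], (R →+* S) → Prop)
    [HasRingHomProperty P @Q] (hQ : DescendsWeakColim @Q)
    [P.RespectsRight @IsOpenImmersion] [P.IsStableUnderBaseChange]
    [IsAffine X₀] [LocallyOfFinitePresentation f₀] (x : X) (W : X.Opens) (hxW : x ∈ W)
    (hW : P (W.ι ≫ f)) :
    ∃ (j : Over i₀) (V : (pullback (f₀ ≫ g₀) (D.map j.hom)).Opens),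
      ((pbCone c qX (f ≫ g) (hX.paste_vert hY)).π.app j) x ∈ V ∧
        P (V.ι ≫ (pbMap D i₀ g₀ f₀).app j) := by
  classical
  -- the limit is affine, find a basic open neighbourhood
  haveI hstage : ∀ j : Over i₀, IsAffine ((pbDiagram D i₀ (f₀ ≫ g₀)).obj j) :=
    fun j => inferInstanceAs (IsAffine (pullback (f₀ ≫ g₀) (D.map j.hom)))
  have hlim := isLimitPbCone c hc qX (f ≫ g) (hX.paste_vert hY)
  haveI : IsAffine X := Scheme.isAffine_of_isLimit _ hlim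
  obtain ⟨s, hsW, hxs⟩ := (isAffineOpen_top X).exists_basicOpen_le (V := W) ⟨x, hxW⟩ trivial
  haveI : ∀ j : Over i₀, CompactSpace ((pbDiagram D i₀ (f₀ ≫ g₀)).obj j) :=
    fun j => inferInstance
  haveI : ∀ j : Over i₀, QuasiSeparatedSpace ((pbDiagram D i₀ (f₀ ≫ g₀)).obj j) :=
    fun j => inferInstance
  obtain ⟨j, sj, hsj⟩ := exists_appTop_π_eq_of_isLimit (pbDiagram D i₀ (f₀ ≫ g₀))
    (pbCone c qX (f ≫ g) (hX.paste_vert hY)) hlim s
  have hpre : ((pbCone c qX (f ≫ g) (hX.paste_vert hY)).π.app j) ⁻¹ᵁ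
      ((pullback (f₀ ≫ g₀) (D.map j.hom)).basicOpen sj) = X.basicOpen s := by
    rw [hsj]
    exact Scheme.preimage_basicOpen_top _ sj
  haveI hVaff : IsAffine (((pullback (f₀ ≫ g₀) (D.map j.hom)).basicOpen sj : Scheme.{u})) :=
    (isAffineOpen_top (pullback (f₀ ≫ g₀) (D.map j.hom))).basicOpen sj
  have hle : ((pbCone c qX (f ≫ g) (hX.paste_vert hY)).π.app j) ⁻¹ᵁ
      ((pullback (f₀ ≫ g₀) (D.map j.hom)).basicOpen sj) ≤ W := hpre.le.trans hsW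
  have hP₁ : P ((((pbCone c qX (f ≫ g) (hX.paste_vert hY)).π.app j) ⁻¹ᵁ
      ((pullback (f₀ ≫ g₀) (D.map j.hom)).basicOpen sj)).ι ≫ f) := by
    have h1 := IsZariskiLocalAtSource.comp (P := P) hW (X.homOfLE hle)
    rwa [Scheme.homOfLE_ι_assoc] at h1
  refine exists_stage_of_preimage D c hc i₀ f₀ g₀ f g qY qX hY hX P @Q hQ j
    ((pullback (f₀ ≫ g₀) (D.map j.hom)).basicOpen sj) hP₁ x ?_
  have hx' : x ∈ ((pbCone c qX (f ≫ g) (hX.paste_vert hY)).π.app j) ⁻¹ᵁ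
      ((pullback (f₀ ≫ g₀) (D.map j.hom)).basicOpen sj) := by rw [hpre]; exact hxs
  exact hx'

omit [IsCofiltered I] [∀ {i j : I} (f : i ⟶ j), IsAffineHom (D.map f)] in
/-- The inclusion of the stage of an open subscheme of `X₀`. -/
noncomputable def ιV (V₀ : X₀.Opens) (j : Over i₀) :
    pullback ((V₀.ι ≫ f₀) ≫ g₀) (D.map j.hom) ⟶ pullback (f₀ ≫ g₀) (D.map j.hom) :=
  pullback.lift (pullback.fst _ _ ≫ V₀.ι) (pullback.snd _ _)
    (by
      have := pullback.condition (f := (V₀.ι ≫ f₀) ≫ g₀) (g := D.map j.hom)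
      simpa only [Category.assoc] using this)

omit [IsCofiltered I] [∀ {i j : I} (f : i ⟶ j), IsAffineHom (D.map f)] in
@[reassoc (attr := simp)] lemma ιV_fst (V₀ : X₀.Opens) (j : Over i₀) :
    ιV D i₀ f₀ g₀ V₀ j ≫ pullback.fst _ _ = pullback.fst _ _ ≫ V₀.ι := by
  simp [ιV]

omit [IsCofiltered I] [∀ {i j : I} (f : i ⟶ j), IsAffineHom (D.map f)] in
@[reassoc (attr := simp)] lemma ιV_snd (V₀ : X₀.Opens) (j : Over i₀) :
    ιV D i₀ f₀ g₀ V₀ j ≫ pullback.snd _ _ = pullback.snd _ _ := by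
  simp [ιV]

omit [IsCofiltered I] [∀ {i j : I} (f : i ⟶ j), IsAffineHom (D.map f)] in
lemma isPullback_ιV (V₀ : X₀.Opens) (j : Over i₀) :
    IsPullback (pullback.fst ((V₀.ι ≫ f₀) ≫ g₀) (D.map j.hom)) (ιV D i₀ f₀ g₀ V₀ j)
      V₀.ι (pullback.fst (f₀ ≫ g₀) (D.map j.hom)) := by
  refine IsPullback.of_bot ?_ (ιV_fst D i₀ f₀ g₀ V₀ j).symm
    (IsPullback.of_hasPullback (f₀ ≫ g₀) (D.map j.hom))
  rw [ιV_snd]
  have e1 : (V₀.ι ≫ f₀) ≫ g₀ = V₀.ι ≫ f₀ ≫ g₀ := Category.assoc _ _ _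
  rw [← e1]
  exact IsPullback.of_hasPullback ((V₀.ι ≫ f₀) ≫ g₀) (D.map j.hom)

omit [IsCofiltered I] [∀ {i j : I} (f : i ⟶ j), IsAffineHom (D.map f)] in
instance (V₀ : X₀.Opens) (j : Over i₀) : IsOpenImmersion (ιV D i₀ f₀ g₀ V₀ j) :=
  MorphismProperty.of_isPullback (P := @IsOpenImmersion) (isPullback_ιV D i₀ f₀ g₀ V₀ j)
    inferInstance

omit [IsCofiltered I] [∀ {i j : I} (f : i ⟶ j), IsAffineHom (D.map f)] in
lemma ιV_comp_pbMap (V₀ : X₀.Opens) (j : Over i₀) :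
    ιV D i₀ f₀ g₀ V₀ j ≫ (pbMap D i₀ g₀ f₀).app j = (pbMap D i₀ g₀ (V₀.ι ≫ f₀)).app j := by
  apply pullback.hom_ext
  · simp
  · simp

include hc in
/-- Neighbourhood version of descent to a stage. -/
theorem exists_stage_nhd (P : MorphismProperty Scheme.{u})
    (Q : ∀ {R S : Type u} [CommRing R] [CommRing S], (R →+* S) → Prop)
    [HasRingHomProperty P @Q] (hQ : DescendsWeakColim @Q)
    [P.RespectsRight @IsOpenImmersion] [P.IsStableUnderBaseChange]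
    [LocallyOfFinitePresentation f₀] (x : X) (W : X.Opens) (hxW : x ∈ W)
    (hW : P (W.ι ≫ f)) :
    ∃ (j : Over i₀) (V : (pullback (f₀ ≫ g₀) (D.map j.hom)).Opens),
      ((pbCone c qX (f ≫ g) (hX.paste_vert hY)).π.app j) x ∈ V ∧
        P (V.ι ≫ (pbMap D i₀ g₀ f₀).app j) := by
  obtain ⟨V₀, hV₀, hxV₀⟩ : ∃ V₀ : X₀.Opens, IsAffineOpen V₀ ∧ qX x ∈ V₀ := by
    obtain ⟨_, ⟨V₀, hV₀, rfl⟩, hxV₀, -⟩ := X₀.isBasis_affineOpens.exists_subset_of_mem_open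
      (Set.mem_univ (qX x)) isOpen_univ
    exact ⟨V₀, hV₀, hxV₀⟩
  haveI : IsAffine (V₀ : Scheme.{u}) := hV₀
  haveI : LocallyOfFinitePresentation (V₀.ι ≫ f₀) :=
    MorphismProperty.comp_mem (W := @LocallyOfFinitePresentation) _ _ inferInstance inferInstance
  have hX' : IsPullback (qX ∣_ V₀) ((qX ⁻¹ᵁ V₀).ι ≫ f) (V₀.ι ≫ f₀) qY :=
    (isPullback_morphismRestrict qX V₀).paste_vert hX
  -- the restricted open
  have hrange : Set.range (((qX ⁻¹ᵁ V₀).ι ⁻¹ᵁ W).ι ≫ (qX ⁻¹ᵁ V₀).ι) ⊆ Set.range W.ι := by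
    rintro _ ⟨y, rfl⟩
    rw [Scheme.Opens.range_ι]
    exact y.2
  have hW' : P (((qX ⁻¹ᵁ V₀).ι ⁻¹ᵁ W).ι ≫ (qX ⁻¹ᵁ V₀).ι ≫ f) := by
    have h1 := IsZariskiLocalAtSource.comp (P := P) hW
      (IsOpenImmersion.lift W.ι (((qX ⁻¹ᵁ V₀).ι ⁻¹ᵁ W).ι ≫ (qX ⁻¹ᵁ V₀).ι) hrange)
    rwa [IsOpenImmersion.lift_fac_assoc, Category.assoc] at h1
  obtain ⟨j, V, hxV, hPV⟩ := exists_stage_nhd_of_isAffine D c hc i₀ (V₀.ι ≫ f₀) g₀
    ((qX ⁻¹ᵁ V₀).ι ≫ f) g qY (qX ∣_ V₀) hY hX' P @Q hQ ⟨x, hxV₀⟩ ((qX ⁻¹ᵁ V₀).ι ⁻¹ᵁ W) hxW hW'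
  have hcone : (pbCone c (qX ∣_ V₀) (((qX ⁻¹ᵁ V₀).ι ≫ f) ≫ g) (hX'.paste_vert hY)).π.app j ≫
      ιV D i₀ f₀ g₀ V₀ j =
      (qX ⁻¹ᵁ V₀).ι ≫ (pbCone c qX (f ≫ g) (hX.paste_vert hY)).π.app j := by
    apply pullback.hom_ext
    · simp
    · simp
  refine ⟨j, (V.ι ≫ ιV D i₀ f₀ g₀ V₀ j).opensRange, ?_, ?_⟩
  · refine ⟨⟨_, hxV⟩, ?_⟩
    exact congr($hcone ⟨x, hxV₀⟩)
  · refine opensRange_ι_comp P _ _ ?_
    have e1 : (V.ι ≫ ιV D i₀ f₀ g₀ V₀ j) ≫ (pbMap D i₀ g₀ f₀).app j =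
        V.ι ≫ (pbMap D i₀ g₀ (V₀.ι ≫ f₀)).app j :=
      (Category.assoc _ _ _).trans (congrArg (V.ι ≫ ·) (ιV_comp_pbMap D i₀ f₀ g₀ V₀ j))
    exact (congrArg (fun m => P m) e1).mpr hPV

include hc hY hX in
/-- `P` holds on a neighbourhood of `x` iff it holds on a neighbourhood of the image of `x` in
some stage. -/
theorem nhd_iff_stage (P : MorphismProperty Scheme.{u})
    (Q : ∀ {R S : Type u} [CommRing R] [CommRing S], (R →+* S) → Prop)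
    [HasRingHomProperty P @Q] (hQ : DescendsWeakColim @Q)
    [P.RespectsRight @IsOpenImmersion] [P.IsStableUnderBaseChange]
    [LocallyOfFinitePresentation f₀] (x : X) :
    (∃ U : X.Opens, x ∈ U ∧ P (U.ι ≫ f)) ↔
      ∃ (j : I) (φ : j ⟶ i₀) (Xj Yj : Scheme.{u}) (fj : Xj ⟶ Yj) (gj : Yj ⟶ D.obj j)
        (pY : Yj ⟶ Y₀) (pX : Xj ⟶ X₀) (rX : X ⟶ Xj), IsPullback pY gj g₀ (D.map φ) ∧
          IsPullback pX fj f₀ pY ∧ rX ≫ pX = qX ∧ rX ≫ fj ≫ gj = f ≫ g ≫ c.π.app j ∧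
          ∃ V : Xj.Opens, rX.base x ∈ V ∧ P (V.ι ≫ fj) := by
  constructor
  · rintro ⟨W, hxW, hW⟩
    obtain ⟨j, V, hxV, hPV⟩ := exists_stage_nhd D c hc i₀ f₀ g₀ f g qY qX hY hX P @Q hQ x W hxW hW
    refine ⟨j.left, j.hom, pullback (f₀ ≫ g₀) (D.map j.hom), pullback g₀ (D.map j.hom),
      (pbMap D i₀ g₀ f₀).app j, pullback.snd _ _, pullback.fst _ _, pullback.fst _ _,
      (pbCone c qX (f ≫ g) (hX.paste_vert hY)).π.app j, IsPullback.of_hasPullback _ _,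
      isPullback_pbMap_app D i₀ g₀ f₀ j, pbCone_π_fst _ _ _ _ _, ?_, V, hxV, hPV⟩
    rw [pbMap_app_snd, pbCone_π_snd, Category.assoc]
  · rintro ⟨j, φ, Xj, Yj, fj, gj, pY, pX, rX, h1, h2, e1, e2, V, hxV, hPV⟩
    have hw : qY ≫ g₀ = (g ≫ c.π.app j) ≫ D.map φ := by
      rw [Category.assoc, c.w φ, hY.w]
    have hrY1 : h1.lift qY (g ≫ c.π.app j) hw ≫ pY = qY := h1.lift_fst _ _ _
    have hrY2 : h1.lift qY (g ≫ c.π.app j) hw ≫ gj = g ≫ c.π.app j := h1.lift_snd _ _ _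
    have hcomm : rX ≫ fj = f ≫ h1.lift qY (g ≫ c.π.app j) hw := by
      apply h1.hom_ext
      · rw [Category.assoc, ← h2.w, ← Category.assoc, e1, Category.assoc, hrY1, hX.w]
      · rw [Category.assoc, e2, Category.assoc, hrY2]
    have hbig : IsPullback (rX ≫ pX) f f₀ (h1.lift qY (g ≫ c.π.app j) hw ≫ pY) := by
      rw [e1, hrY1]; exact hX
    have hsq : IsPullback rX f fj (h1.lift qY (g ≫ c.π.app j) hw) :=
      IsPullback.of_right hbig hcomm h2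
    refine ⟨rX ⁻¹ᵁ V, hxV, ?_⟩
    exact MorphismProperty.of_isPullback (P := P)
      ((isPullback_morphismRestrict rX V).paste_vert hsq) hPV

end

end LimData

end Groth.Agent.Lib.Helper12
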