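import Mathlib
import Groth.Prelude.Def_Mor2
import Groth.Agent.Lib.Helper11.QALib

/-!
# Quasi-affineness of the structure maps of a cofiltered limit descends to a stage
-/

universe u

open CategoryTheory Limits AlgebraicGeometry TopologicalSpace

namespace Groth.Agent.Lib.Helper12.LimQA

open Groth.Agent.Lib.Helper11.QALib

/-- An affine morphism is quasi-affine. -/
theorem isQuasiAffine_of_isAffineHom {X Y : Scheme.{u}} (f : X ⟶ Y) [IsAffineHom f] :
    Mor2.IsQuasiAffine f := by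
  refine ⟨inferInstance, fun V hV => ?_⟩
  haveI : IsAffine (f ⁻¹ᵁ V : Scheme.{u}) := hV.preimage f
  infer_instance

/-- Local criterion: a quasi-compact morphism to a scheme covered by finitely many (or any family
of) opens with quasi-affine preimages is quasi-affine. -/
theorem isQuasiAffine_of_cover {X S : Scheme.{u}} (t : X ⟶ S) [QuasiCompact t]
    (H : ∀ x : X, ∃ W : S.Opens, t x ∈ W ∧ (t ⁻¹ᵁ W : Scheme.{u}).IsQuasiAffine) :
    Mor2.IsQuasiAffine t := by
  refine ⟨inferInstance, fun V hV => ?_⟩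
  refine qa_local' _ (t.isCompact_preimage hV.isCompact) fun x hx => ?_
  obtain ⟨W, hxW, hW⟩ := H x
  obtain ⟨b, hb1, hb2⟩ := hV.exists_basicOpen_le (V := V ⊓ W) ⟨t x, ⟨hx, hxW⟩⟩ hx
  refine ⟨t.app _ b, ?_, ?_⟩
  · rw [← Scheme.preimage_basicOpen]; exact hb2
  · haveI := hW
    have hle : X.basicOpen (t.app _ b) ≤ t ⁻¹ᵁ W := by
      rw [← Scheme.preimage_basicOpen]
      intro y hy
      exact (hb1 hy).2
    refine qa_of_le hle ?_
    rw [← Scheme.preimage_basicOpen]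
    exact t.isCompact_preimage (hV.basicOpen b).isCompact

theorem exists_isQuasiAffine_stage {I : Type u} [SmallCategory I] [IsCofiltered I] (S : Scheme.{u})
    [CompactSpace S] [QuasiSeparatedSpace S]
    (D : I ⥤ Scheme.{u}) (t : D ⟶ (Functor.const I).obj S) (c : Limits.Cone D)
    (hc : Limits.IsLimit c) [∀ {i j : I} (a : i ⟶ j), IsAffineHom (D.map a)]
    [∀ i, CompactSpace (D.obj i)] [∀ i, QuasiSeparatedSpace (D.obj i)] (i₀ : I)
    (h : Mor2.IsQuasiAffine (c.π.app i₀ ≫ t.app i₀)) :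
    ∃ i₁ : I, ∀ (i : I) (_ : i ⟶ i₁), Mor2.IsQuasiAffine (t.app i) := by
  classical
  have hnat : ∀ {i j : I} (f : i ⟶ j), D.map f ≫ t.app j = t.app i := by
    intro i j f
    have := t.naturality f
    simpa using this
  have hqc : ∀ i, QuasiCompact (t.app i) := fun i =>
    (inferInstance : QuasiCompact (show D.obj i ⟶ S from t.app i))
  -- key claim for each affine open of `S`
  have key : ∀ W : S.Opens, IsAffineOpen W →
      ∃ j : I, ∀ (i : I) (_ : i ⟶ j), (t.app i ⁻¹ᵁ W : Scheme.{u}).IsQuasiAffine := by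
    intro W hW
    set V₀ : (D.obj i₀).Opens := t.app i₀ ⁻¹ᵁ W with hV₀
    have hV₀c : IsCompact (V₀ : Set (D.obj i₀)) :=
      QuasiCompact.isCompact_preimage (f := t.app i₀) _ W.2 hW.isCompact
    haveI (j : Over i₀) : CompactSpace ((opensDiagram D i₀ V₀).obj j) :=
      isCompact_iff_compactSpace.mp (QuasiCompact.isCompact_preimage _ V₀.2 hV₀c)
    haveI (j : Over i₀) : QuasiSeparatedSpace ((opensDiagram D i₀ V₀).obj j) :=
      (isQuasiSeparated_iff_quasiSeparatedSpace _ (D.map _ ⁻¹ᵁ _).2).mp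
        (.of_quasiSeparatedSpace _)
    haveI : (opensCone D c i₀ V₀).pt.IsQuasiAffine := by
      have := h.2 W hW
      rw [Scheme.Hom.comp_preimage] at this
      exact this
    obtain ⟨j, hj⟩ := Scheme.exists_isQuasiAffine_of_isLimit _ _ (isLimitOpensCone D c hc i₀ V₀)
    refine ⟨j.left, fun i g => ?_⟩
    have hj' : (D.map j.hom ⁻¹ᵁ V₀ : Scheme.{u}).IsQuasiAffine := hj
    haveI : IsAffineHom (D.map g ∣_ (D.map j.hom ⁻¹ᵁ V₀)) :=
      MorphismProperty.of_isPullback (P := @IsAffineHom)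
        (isPullback_morphismRestrict (D.map g) (D.map j.hom ⁻¹ᵁ V₀)).flip inferInstance
    haveI : ((D.map g ⁻¹ᵁ (D.map j.hom ⁻¹ᵁ V₀) : (D.obj i).Opens) : Scheme.{u}).IsQuasiAffine :=
      Scheme.IsQuasiAffine.of_isAffineHom (D.map g ∣_ (D.map j.hom ⁻¹ᵁ V₀))
    refine qa_of_eq (U := D.map g ⁻¹ᵁ (D.map j.hom ⁻¹ᵁ V₀)) ?_
    rw [hV₀, ← Scheme.Hom.comp_preimage, ← Scheme.Hom.comp_preimage, Category.assoc, hnat, hnat]
  -- a finite affine cover of `S`
  let 𝒰 := S.affineCover.finiteSubcover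
  have hW : ∀ k : 𝒰.I₀, IsAffineOpen (𝒰.f k).opensRange := fun k =>
    isAffineOpen_opensRange (𝒰.f k)
  choose j hj using fun k : 𝒰.I₀ => key _ (hW k)
  obtain ⟨i₁, hi₁⟩ := IsCofiltered.inf_objs_exists (Finset.univ.image j)
  have fi₁ : ∀ k, i₁ ⟶ j k := fun k => (hi₁ (Finset.mem_image_of_mem j (Finset.mem_univ k))).some
  refine ⟨i₁, fun i g => ?_⟩
  haveI := hqc i
  refine isQuasiAffine_of_cover (t.app i) fun x => ?_
  obtain ⟨k, hk⟩ := 𝒰.exists_eq ((t.app i) x)
  exact ⟨(𝒰.f k).opensRange, hk, hj k i (g ≫ fi₁ k)⟩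

end Groth.Agent.Lib.Helper12.LimQA
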