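import Mathlib

universe u

open CategoryTheory Limits AlgebraicGeometry TopologicalSpace Opposite

set_option backward.isDefEq.respectTransparency false
set_option linter.style.haveILetI false

namespace Groth.Agent.Lib.Helper12.LimRetract

section General

variable {I : Type u} [Category.{u} I] [IsCofiltered I] {S : Scheme.{u}} (D : I ⥤ Scheme.{u})
  (t : D ⟶ (Functor.const I).obj S) (c : Cone D) (hc : IsLimit c)

lemma π_t_of_hom {i j : I} (m : i ⟶ j) : c.π.app i ≫ t.app i = c.π.app j ≫ t.app j := by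
  have h1 := t.naturality m
  simp only [Functor.const_obj_obj, Functor.const_obj_map, Category.comp_id] at h1
  rw [← h1, c.w_assoc]

lemma π_t (i j : I) : c.π.app i ≫ t.app i = c.π.app j ≫ t.app j :=
  (π_t_of_hom D t c (IsCofiltered.minToLeft i j)).symm.trans
    (π_t_of_hom D t c (IsCofiltered.minToRight i j))

variable [∀ {i j} (f : i ⟶ j), IsAffineHom (D.map f)]
  [∀ i, CompactSpace (D.obj i)] [∀ i, QuasiSeparatedSpace (D.obj i)]

include hc in
/-- If the limit of a cofiltered system of qcqs `S`-schemes with affine transition maps is locally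
of finite presentation over `S`, then some projection has a retraction over `S`. -/
theorem exists_retraction (i₀ : I) [LocallyOfFinitePresentation (c.π.app i₀ ≫ t.app i₀)] :
    ∃ (i : I) (g : D.obj i ⟶ c.pt), c.π.app i ≫ g = 𝟙 c.pt ∧
      g ≫ c.π.app i₀ ≫ t.app i₀ = t.app i := by
  have ha : c.π ≫ t = (Functor.const _).map (𝟙 c.pt ≫ c.π.app i₀ ≫ t.app i₀) := by
    ext j
    simp only [NatTrans.comp_app, Functor.const_obj_obj, Functor.const_map_app, Category.id_comp]
    exact π_t D t c j i₀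
  obtain ⟨i, g, h1, h2⟩ := Scheme.exists_π_app_comp_eq_of_locallyOfFinitePresentation D t
    (c.π.app i₀ ≫ t.app i₀) c hc (𝟙 c.pt) ha
  exact ⟨i, g, h1, h2⟩

include hc in
/-- If moreover the transition maps are monomorphisms and all members are locally of finite type
over `S`, then some projection is an isomorphism. -/
theorem exists_isIso_π (i₀ : I) [LocallyOfFinitePresentation (c.π.app i₀ ≫ t.app i₀)]
    [∀ i, LocallyOfFiniteType (t.app i)] (hmono : ∀ {i j : I} (f : i ⟶ j), Mono (D.map f)) :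
    ∃ i : I, IsIso (c.π.app i) := by
  obtain ⟨i, g, h1, h2⟩ := exists_retraction D t c hc i₀
  have hb : t.app i = (g ≫ c.π.app i) ≫ t.app i := by
    rw [Category.assoc, π_t D t c i i₀, h2]
  obtain ⟨k, m, hk⟩ := Scheme.exists_hom_comp_eq_comp_of_locallyOfFiniteType D t (t.app i) c hc
    (𝟙 (D.obj i)) (g ≫ c.π.app i) (by simp) hb
    (by rw [Category.comp_id, reassoc_of% h1]; exact (Category.id_comp _).symm)
  refine ⟨k, ⟨D.map m ≫ g, ?_, ?_⟩⟩
  · rw [c.w_assoc, h1]; rfl
  · haveI := hmono m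
    rw [← cancel_mono (D.map m), Category.assoc, Category.assoc, c.w, ← hk]
    simp

end General

section Opens

variable {I : Type u} [Category.{u} I] [IsCofiltered I] {S : Scheme.{u}} (D : I ⥤ Scheme.{u})
  (t : D ⟶ (Functor.const I).obj S) (c : Cone D) (hc : IsLimit c)

/-- The structure maps to `S` of the diagram of opens. -/
noncomputable def opensT (k : I) (V : (D.obj k).Opens) :
    opensDiagram D k V ⟶ (Functor.const _).obj S where
  app j := (D.map j.hom ⁻¹ᵁ V).ι ≫ t.app j.left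
  naturality j j' m := by
    have h1 := t.naturality m.left
    simp only [Functor.const_obj_obj, Functor.const_obj_map, Category.comp_id] at h1
    simp only [opensDiagram_obj, opensDiagram_map, Functor.const_obj_obj, Functor.const_obj_map,
      Category.comp_id, Scheme.Hom.resLE_comp_ι_assoc, h1]

variable [∀ {i j} (f : i ⟶ j), IsAffineHom (D.map f)]
  [∀ i, CompactSpace (D.obj i)] [∀ i, QuasiSeparatedSpace (D.obj i)]

lemma compactSpace_opens {k : I} (V : (D.obj k).Opens) (hV : IsCompact (V : Set (D.obj k)))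
    (j : Over k) : CompactSpace ((opensDiagram D k V).obj j) :=
  isCompact_iff_compactSpace.mp (QuasiCompact.isCompact_preimage (f := (D.map j.hom)) _ V.2 hV)

lemma quasiSeparatedSpace_opens {k : I} (V : (D.obj k).Opens)
    (j : Over k) : QuasiSeparatedSpace ((opensDiagram D k V).obj j) :=
  (D.map j.hom ⁻¹ᵁ V).isOpenEmbedding.quasiSeparatedSpace

include hc in
theorem exists_retraction_opens (k : I) (V : (D.obj k).Opens)
    (hV : IsCompact (V : Set (D.obj k)))
    [LocallyOfFinitePresentation ((c.π.app k ⁻¹ᵁ V).ι ≫ c.π.app k ≫ t.app k)] :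
    ∃ (k₁ : I) (m : k₁ ⟶ k) (g : (D.map m ⁻¹ᵁ V).toScheme ⟶ (c.π.app k ⁻¹ᵁ V).toScheme),
      (c.π.app k₁).resLE (D.map m ⁻¹ᵁ V) (c.π.app k ⁻¹ᵁ V)
        (by rw [← Scheme.Hom.comp_preimage, c.w]) ≫ g = 𝟙 _ ∧
      (g ≫ (c.π.app k ⁻¹ᵁ V).ι ≫ c.π.app k ≫ t.app k : (D.map m ⁻¹ᵁ V).toScheme ⟶ S) =
        (D.map m ⁻¹ᵁ V).ι ≫ t.app k₁ := by
  haveI := compactSpace_opens D V hV
  haveI := quasiSeparatedSpace_opens D V
  have e : (opensCone D c k V).π.app (Over.mk (𝟙 k)) ≫ (opensT D t k V).app (Over.mk (𝟙 k)) =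
      (c.π.app k ⁻¹ᵁ V).ι ≫ c.π.app k ≫ t.app k := by
    simp [opensT]
  haveI : LocallyOfFinitePresentation
      ((opensCone D c k V).π.app (Over.mk (𝟙 k)) ≫ (opensT D t k V).app (Over.mk (𝟙 k))) := by
    rw [e]; infer_instance
  obtain ⟨j, g, h1, h2⟩ := exists_retraction (opensDiagram D k V) (opensT D t k V)
    (opensCone D c k V) (isLimitOpensCone D c hc k V) (Over.mk (𝟙 k))
  refine ⟨j.left, j.hom, g, h1, ?_⟩
  rw [e] at h2
  exact h2

include hc in
theorem exists_isIso_opens (k : I) (V : (D.obj k).Opens)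
    (hV : IsCompact (V : Set (D.obj k)))
    [LocallyOfFinitePresentation ((c.π.app k ⁻¹ᵁ V).ι ≫ c.π.app k ≫ t.app k)]
    [∀ i, LocallyOfFiniteType (t.app i)] (hmono : ∀ {i j : I} (f : i ⟶ j), Mono (D.map f)) :
    ∃ (k₁ : I) (m : k₁ ⟶ k),
      IsIso ((c.π.app k₁).resLE (D.map m ⁻¹ᵁ V) (c.π.app k ⁻¹ᵁ V)
        (by rw [← Scheme.Hom.comp_preimage, c.w])) := by
  haveI := compactSpace_opens D V hV
  haveI := quasiSeparatedSpace_opens D V
  have e : (opensCone D c k V).π.app (Over.mk (𝟙 k)) ≫ (opensT D t k V).app (Over.mk (𝟙 k)) =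
      (c.π.app k ⁻¹ᵁ V).ι ≫ c.π.app k ≫ t.app k := by
    simp [opensT]
  haveI : LocallyOfFinitePresentation
      ((opensCone D c k V).π.app (Over.mk (𝟙 k)) ≫ (opensT D t k V).app (Over.mk (𝟙 k))) := by
    rw [e]; infer_instance
  haveI : ∀ j, LocallyOfFiniteType ((opensT D t k V).app j) := fun j => by
    dsimp only [opensT]; infer_instance
  have hm : ∀ {j j' : Over k} (m : j ⟶ j'), Mono ((opensDiagram D k V).map m) := fun {j j'} m => by
    haveI := hmono m.left
    have h1 : (opensDiagram D k V).map m ≫ (D.map j'.hom ⁻¹ᵁ V).ι =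
        (D.map j.hom ⁻¹ᵁ V).ι ≫ D.map m.left := by
      simp only [opensDiagram_map, Scheme.Hom.resLE_comp_ι]
    haveI : Mono ((opensDiagram D k V).map m ≫ (D.map j'.hom ⁻¹ᵁ V).ι) := by
      rw [h1]; infer_instance
    exact mono_of_mono _ (D.map j'.hom ⁻¹ᵁ V).ι
  obtain ⟨j, hj⟩ := exists_isIso_π (opensDiagram D k V) (opensT D t k V)
    (opensCone D c k V) (isLimitOpensCone D c hc k V) (Over.mk (𝟙 k)) hm
  exact ⟨j.left, j.hom, hj⟩

end Opens

end Groth.Agent.Lib.Helper12.LimRetract
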