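import Mathlib
import Groth.Agent.Lib.Helper12.N2Insep
import Groth.Agent.Lib.Helper12.N1Crit2
import Groth.Agent.Lib.Helper12.NagataLoc

/-! A local criterion for Nagata rings (EGA IV 7.7.3-type). -/

set_option autoImplicit false
universe u
open Function Groth.Agent.Lib.Helper12.N2 Groth.Agent.Lib.Helper12.NagataLoc

namespace Groth.Agent.Lib.Helper12.NagataCrit

/-- N-2 passes to "localization-like" extensions of domains. -/
theorem N2'_of_localizationLike (E O : Type u) [CommRing E] [IsDomain E] [CommRing O] [IsDomain O]
    [Algebra E O] (hinj : Injective (algebraMap E O))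
    (hloc : ∀ y : O, ∃ s b : E, IsUnit (algebraMap E O s) ∧
      y * algebraMap E O s = algebraMap E O b)
    (hE : N2' E) : N2' O := by
  let M : Submonoid E := (IsUnit.submonoid O).comap (algebraMap E O)
  haveI : IsLocalization M O := by
    rw [isLocalization_iff]
    refine ⟨fun m => m.2, fun z => ?_, fun {x y} hxy => ⟨1, by rw [hinj hxy]⟩⟩
    obtain ⟨s, b, hs, hsb⟩ := hloc z
    exact ⟨(b, ⟨s, hs⟩), hsb⟩
  rw [← isN2_iff_N2'] at hE ⊢
  exact Groth.Agent.S9392.result E M O hE

/-- Converse of `finite_integralClosure_trans`. -/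
theorem finite_integralClosure_of_finite_base (B C N : Type*) [CommRing B] [CommRing C]
    [CommRing N] [Algebra B C] [Algebra C N] [Algebra B N] [IsScalarTower B C N]
    [Module.Finite B C] (h : Module.Finite B (integralClosure B N)) :
    Module.Finite C (integralClosure C N) := by
  haveI : Algebra.IsIntegral B C := Algebra.IsIntegral.of_finite B C
  have hfg : (Subalgebra.toSubmodule (integralClosure B N)).FG := Module.Finite.iff_fg.1 h
  obtain ⟨Z, hZ⟩ := hfg
  have : (Subalgebra.toSubmodule (integralClosure C N)).FG := by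
    refine ⟨Z, le_antisymm ?_ ?_⟩
    · rw [Submodule.span_le]
      intro z hz
      have : z ∈ Subalgebra.toSubmodule (integralClosure B N) := hZ ▸ Submodule.subset_span hz
      exact IsIntegral.tower_top (A := C) this
    · intro x hx
      have hxB : IsIntegral B x := isIntegral_trans x hx
      have : x ∈ Submodule.span B (Z : Set N) := by rw [hZ]; exact hxB
      exact Submodule.span_le_restrictScalars B C (Z : Set N) this
  exact Module.Finite.iff_fg.2 this

section
variable (R K L : Type*) [CommRing R] [IsDomain R] [Field K] [Algebra R K] [IsFractionRing R K]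
  [Field L] [Algebra R L] [Algebra K L] [IsScalarTower R K L]

theorem exists_smul_mem_span_of_basis {ι : Type*} [Fintype ι] (b : Module.Basis ι K L) (x : L) :
    ∃ d : R, d ≠ 0 ∧ d • x ∈ Submodule.span R (Set.range b) := by
  classical
  obtain ⟨d, hd⟩ := IsLocalization.exist_integer_multiples_of_finset (nonZeroDivisors R)
    (Finset.univ.image (fun i => b.repr x i))
  choose r hr using fun i => hd (b.repr x i)
    (Finset.mem_image_of_mem (fun i => b.repr x i) (Finset.mem_univ i))
  refine ⟨d, nonZeroDivisors.coe_ne_zero d, ?_⟩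
  have hx : (d : R) • x = ∑ i, r i • b i := by
    conv_lhs => rw [← b.sum_repr x, Finset.smul_sum]
    refine Finset.sum_congr rfl fun i _ => ?_
    rw [← smul_assoc, ← hr i, algebraMap_smul]
  rw [hx]
  exact Submodule.sum_mem _ fun i _ => Submodule.smul_mem _ _ (Submodule.subset_span ⟨i, rfl⟩)

/-- A finite subalgebra of the integral closure with full fraction field. -/
theorem exists_finite_subalgebra [FiniteDimensional K L] :
    ∃ B' : Subalgebra R L, B'.toSubmodule.FG ∧ B' ≤ integralClosure R L ∧
      ∀ z : L, ∃ d : R, d ≠ 0 ∧ d • z ∈ B' := by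
  classical
  let b := Module.finBasis K L
  have hint : ∀ i, ∃ m : nonZeroDivisors R, IsIntegral R (m • b i) := fun i =>
    IsIntegral.exists_multiple_integral_of_isLocalization (nonZeroDivisors R) (b i)
      (Algebra.IsIntegral.isIntegral (R := K) (b i))
  choose m hm using hint
  have hunit : ∀ i, IsUnit (algebraMap R K (m i)) := fun i =>
    IsUnit.mk0 _ ((map_ne_zero_iff _ (IsFractionRing.injective R K)).2
      (nonZeroDivisors.coe_ne_zero (m i)))
  let b' := b.unitsSMul (fun i => (hunit i).unit)
  have hb' : ∀ i, b' i = (m i : R) • b i := by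
    intro i
    rw [Module.Basis.unitsSMul_apply, Units.smul_def, IsUnit.unit_spec, algebraMap_smul]
  have hb'int : ∀ i, IsIntegral R (b' i) := by
    intro i
    rw [hb' i]
    exact hm i
  refine ⟨Algebra.adjoin R (Set.range b'), fg_adjoin_of_finite (Set.finite_range _) ?_,
    Algebra.adjoin_le ?_, fun z => ?_⟩
  · rintro _ ⟨i, rfl⟩; exact hb'int i
  · rintro _ ⟨i, rfl⟩; exact hb'int i
  · obtain ⟨d, hd0, hd⟩ := exists_smul_mem_span_of_basis R K L b' z
    refine ⟨d, hd0, ?_⟩
    have hle : Submodule.span R (Set.range b') ≤ (Algebra.adjoin R (Set.range b')).toSubmodule :=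
      Submodule.span_le.2 Algebra.subset_adjoin
    exact hle hd

end

end Groth.Agent.Lib.Helper12.NagataCrit
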