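import Mathlib
import Groth.Agent.Lib.Helper12.NagataCrit

/-! A local criterion for Nagata rings: the local step. -/

set_option autoImplicit false
universe u
open Function Groth.Agent.Lib.Helper12.N2 Groth.Agent.Lib.Helper12.NagataLoc

namespace Groth.Agent.Lib.Helper12.NagataCrit

/-- If all local rings of `A` at maximal ideals are Nagata, then the local rings at maximal ideals
of a finite `A`-algebra domain `B'` are N-2. -/
theorem N2'_atPrime_of_local_nagata (A : Type u) [CommRing A]
    (hloc : ∀ (m : Ideal A) [m.IsMaximal] (P : Ideal (Localization.AtPrime m)) [P.IsPrime],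
      CAlg.IsN2 (Localization.AtPrime m ⧸ P))
    (B' : Type u) [CommRing B'] [IsDomain B'] [Algebra A B'] [Module.Finite A B']
    (m' : Ideal B') [m'.IsMaximal] : N2' (Localization.AtPrime m') := by
  classical
  haveI : Algebra.IsIntegral A B' := Algebra.IsIntegral.of_finite A B'
  haveI : IsDomain (Localization.AtPrime m') :=
    IsLocalization.isDomain_of_le_nonZeroDivisors _ m'.primeCompl_le_nonZeroDivisors
  haveI hmmax : (m'.comap (algebraMap A B')).IsMaximal :=
    Ideal.isMaximal_comap_of_isIntegral_of_isMaximal m'
  have hunits : ∀ a : (m'.comap (algebraMap A B')).primeCompl,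
      IsUnit (algebraMap A (Localization.AtPrime m') a) := by
    intro a
    rw [IsScalarTower.algebraMap_apply A B' (Localization.AtPrime m')]
    exact IsLocalization.map_units (Localization.AtPrime m')
      (⟨algebraMap A B' a, a.2⟩ : m'.primeCompl)
  let ψ : Localization.AtPrime (m'.comap (algebraMap A B')) →+* Localization.AtPrime m' :=
    IsLocalization.lift (M := (m'.comap (algebraMap A B')).primeCompl)
      (g := algebraMap A (Localization.AtPrime m')) hunits
  haveI hPprime : (RingHom.ker ψ).IsPrime := RingHom.ker_isPrime ψ
  have hD : N2' (Localization.AtPrime (m'.comap (algebraMap A B')) ⧸ RingHom.ker ψ) :=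
    (isN2_iff_N2' _).1 (hloc (m'.comap (algebraMap A B')) (RingHom.ker ψ))
  letI algDO : Algebra (Localization.AtPrime (m'.comap (algebraMap A B')) ⧸ RingHom.ker ψ)
      (Localization.AtPrime m') := (RingHom.kerLift ψ).toAlgebra
  have hinjDO : Injective (algebraMap
      (Localization.AtPrime (m'.comap (algebraMap A B')) ⧸ RingHom.ker ψ)
      (Localization.AtPrime m')) := RingHom.kerLift_injective ψ
  have hst : @IsScalarTower A (Localization.AtPrime (m'.comap (algebraMap A B')) ⧸ RingHom.ker ψ)
      (Localization.AtPrime m') Algebra.toSMul Algebra.toSMul Algebra.toSMul :=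
    IsScalarTower.of_algebraMap_eq (fun a => (IsLocalization.lift_eq hunits a).symm)
  haveI : IsScalarTower A (Localization.AtPrime (m'.comap (algebraMap A B')) ⧸ RingHom.ker ψ)
      (Localization.AtPrime m') := ⟨fun a d o => hst.smul_assoc a d o⟩
  -- generators of `B'` over `A`
  obtain ⟨T, hT⟩ := (Module.Finite.fg_top : (⊤ : Submodule A B').FG)
  let E : Subalgebra (Localization.AtPrime (m'.comap (algebraMap A B')) ⧸ RingHom.ker ψ)
      (Localization.AtPrime m') :=
    Algebra.adjoin _ ((algebraMap B' (Localization.AtPrime m')) '' (T : Set B'))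
  have hEfg : E.toSubmodule.FG := by
    refine fg_adjoin_of_finite (T.finite_toSet.image _) ?_
    rintro _ ⟨t, -, rfl⟩
    have h1 : IsIntegral A t := Algebra.IsIntegral.isIntegral t
    have h2 : IsIntegral A (algebraMap B' (Localization.AtPrime m') t) :=
      h1.map (IsScalarTower.toAlgHom A B' (Localization.AtPrime m'))
    exact h2.tower_top
  haveI : Module.Finite (Localization.AtPrime (m'.comap (algebraMap A B')) ⧸ RingHom.ker ψ) E :=
    Module.Finite.iff_fg.2 hEfg
  have hrange : ∀ b : B', algebraMap B' (Localization.AtPrime m') b ∈ E := by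
    intro b
    have hb : b ∈ Submodule.span A (T : Set B') := by rw [hT]; trivial
    refine Submodule.span_induction (p := fun b _ => algebraMap B' (Localization.AtPrime m') b ∈ E)
      ?_ ?_ ?_ ?_ hb
    · intro t ht
      exact Algebra.subset_adjoin ⟨t, ht, rfl⟩
    · rw [map_zero]; exact E.zero_mem
    · intro x y _ _ hx hy
      rw [map_add]; exact E.add_mem hx hy
    · intro a x _ hx
      rw [Algebra.smul_def, map_mul, ← IsScalarTower.algebraMap_apply,
        IsScalarTower.algebraMap_apply A
          (Localization.AtPrime (m'.comap (algebraMap A B')) ⧸ RingHom.ker ψ)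
          (Localization.AtPrime m')]
      exact E.mul_mem (E.algebraMap_mem _) hx
  have hinjDE : Injective (algebraMap
      (Localization.AtPrime (m'.comap (algebraMap A B')) ⧸ RingHom.ker ψ) E) := by
    intro x y hxy
    apply hinjDO
    exact congrArg Subtype.val hxy
  have hNE : N2' E := N2'_of_finite_injective _ E hinjDE hD
  refine N2'_of_localizationLike E (Localization.AtPrime m') Subtype.val_injective ?_ hNE
  intro y
  obtain ⟨b, s, rfl⟩ := IsLocalization.exists_mk'_eq m'.primeCompl y
  refine ⟨⟨algebraMap B' _ s, hrange s⟩, ⟨algebraMap B' _ b, hrange b⟩, ?_, ?_⟩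
  · exact IsLocalization.map_units (Localization.AtPrime m') s
  · exact IsLocalization.mk'_spec (Localization.AtPrime m') b s

end Groth.Agent.Lib.Helper12.NagataCrit
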