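import Mathlib
import Groth.Agent.Lib.Helper12.IntegralDim

/-!
# Nagata's substitution with a uniform exponent (helper12)

Adapted from `Mathlib/RingTheory/NoetherNormalization.lean` (whose lemmas are private and tie the
exponent to the polynomial): for any `e ≥ 2` bounding all exponents of a nonzero polynomial `f` in
`n + 1` variables over a field, the substitution `X_i ↦ X_i + X_0 ^ (e ^ i)` makes `f` a polynomial
in `X_0` with invertible leading coefficient.
-/

set_option autoImplicit false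

open Polynomial MvPolynomial Ideal Nat RingHom List

namespace Groth.Agent.Lib.Helper12.NagataU

variable {k : Type*} [Field k] {n : ℕ} (e : ℕ) (f : MvPolynomial (Fin (n + 1)) k)
variable (v w : Fin (n + 1) →₀ ℕ)

local notation3 "r" => fun (i : Fin (n + 1)) ↦ e ^ i.1

/-- `X_i ↦ X_i + c • X_0 ^ (e ^ i)` for `i ≠ 0`, `X_0 ↦ X_0`. -/
noncomputable abbrev T1 (c : k) :
    MvPolynomial (Fin (n + 1)) k →ₐ[k] MvPolynomial (Fin (n + 1)) k :=
  aeval fun i ↦ if i = 0 then X 0 else X i + c • X 0 ^ r i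

lemma t1_comp_t1_neg (c : k) : (T1 (n := n) e c).comp (T1 e (-c)) = AlgHom.id _ _ := by
  rw [comp_aeval, ← MvPolynomial.aeval_X_left]
  ext i v
  cases i using Fin.cases <;> simp

/-- the automorphism -/
noncomputable abbrev T : MvPolynomial (Fin (n + 1)) k ≃ₐ[k] MvPolynomial (Fin (n + 1)) k :=
  AlgEquiv.ofAlgHom (T1 e 1) (T1 e (-1))
  (t1_comp_t1_neg e 1) (by simpa using t1_comp_t1_neg (k := k) (n := n) e (-1))

variable {v} in
lemma lt_e (vlt : ∀ i, v i < e) : ∀ l ∈ ofFn v, l < e := by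
  grind

lemma sum_r_mul_ne (he : 1 < e) (vlt : ∀ i, v i < e) (wlt : ∀ i, w i < e) (ne : v ≠ w) :
    ∑ x : Fin (n + 1), r x * v x ≠ ∑ x : Fin (n + 1), r x * w x := by
  intro h
  refine ne <| Finsupp.ext <| congrFun <| ofFn_inj.mp ?_
  apply ofDigits_inj_of_len_eq he
    (by simp) (lt_e e vlt) (lt_e e wlt)
  simpa only [ofDigits_eq_sum_mapIdx, mapIdx_eq_ofFn, get_ofFn, length_ofFn,
    Fin.val_cast, mul_comm, sum_ofFn] using! h

lemma degreeOf_zero_t (he : 0 < e) {a : k} (ha : a ≠ 0) :
    ((T (n := n) e) (monomial v a)).degreeOf 0 = ∑ i : Fin (n + 1), (r i) * v i := by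
  have hpos : ∀ i : Fin n, 0 < e ^ (i.1 + 1) := fun i => Nat.pow_pos he
  rw [← natDegree_finSuccEquiv, monomial_eq, Finsupp.prod_pow v fun a ↦ X a]
  simp only [Fin.prod_univ_succ, Fin.sum_univ_succ, map_mul, map_prod, map_pow,
    AlgEquiv.ofAlgHom_apply, MvPolynomial.aeval_C, MvPolynomial.aeval_X, if_pos, Fin.succ_ne_zero,
    ite_false, one_smul, map_add, finSuccEquiv_X_zero, finSuccEquiv_X_succ, MvPolynomial.algebraMap_eq]
  have h (i : Fin n) :
      (Polynomial.C (X (R := k) i) + Polynomial.X ^ r i.succ) ^ v i.succ ≠ 0 :=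
    pow_ne_zero (v i.succ) (leadingCoeff_ne_zero.mp <| by
      simp [add_comm, leadingCoeff_X_pow_add_C (hpos i)])
  rw [natDegree_mul (by simp [ha]) (mul_ne_zero (by simp) (Finset.prod_ne_zero_iff.mpr
    (fun i _ ↦ h i))), natDegree_mul (by simp) (Finset.prod_ne_zero_iff.mpr (fun i _ ↦ h i)),
    natDegree_prod _ _ (fun i _ ↦ h i), natDegree_finSuccEquiv, degreeOf_C]
  simpa only [natDegree_pow, zero_add, natDegree_X, mul_one, Fin.val_zero, pow_zero, one_mul,
    add_right_inj] using Finset.sum_congr rfl (fun i _ ↦ by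
    rw [add_comm (Polynomial.C _), natDegree_X_pow_add_C, mul_comm])

lemma degreeOf_t_ne_of_ne (he : 1 < e) (hf : ∀ u ∈ f.support, ∀ i, u i < e)
    (hv : v ∈ f.support) (hw : w ∈ f.support) (ne : v ≠ w) :
    (T e <| monomial v <| coeff v f).degreeOf 0 ≠
    (T e <| monomial w <| coeff w f).degreeOf 0 := by
  rw [degreeOf_zero_t _ _ (by omega) <| mem_support_iff.mp hv,
    degreeOf_zero_t _ _ (by omega) <| mem_support_iff.mp hw]
  exact sum_r_mul_ne e v w he (hf v hv) (hf w hw) ne

lemma leadingCoeff_finSuccEquiv_t (he : 0 < e) :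
    (finSuccEquiv k n ((T e) ((monomial v) (coeff v f)))).leadingCoeff =
    algebraMap k _ (coeff v f) := by
  have hpos : ∀ i : Fin n, 0 < e ^ (i.1 + 1) := fun i => Nat.pow_pos he
  rw [monomial_eq, Finsupp.prod_fintype]
  · simp only [map_mul, map_prod, leadingCoeff_mul, leadingCoeff_prod]
    rw [AlgEquiv.ofAlgHom_apply, algHom_C, MvPolynomial.algebraMap_eq, finSuccEquiv_apply,
      eval₂Hom_C, coe_comp]
    simp only [AlgEquiv.ofAlgHom_apply, Function.comp_apply, leadingCoeff_C, map_pow,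
      leadingCoeff_pow, MvPolynomial.algebraMap_eq]
    have : ∀ j, ((finSuccEquiv k n) ((T1 e) 1 (X j))).leadingCoeff = 1 := fun j ↦ by
      by_cases h : j = 0
      · simp [h, finSuccEquiv_apply]
      · simp only [aeval_eq_bind₁, bind₁_X_right, if_neg h, one_smul, map_add, map_pow]
        obtain ⟨i, rfl⟩ := Fin.exists_succ_eq.mpr h
        simp [finSuccEquiv_X_succ, finSuccEquiv_X_zero, add_comm,
          leadingCoeff_X_pow_add_C (hpos i)]
    simp only [this, one_pow, Finset.prod_const_one, mul_one]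
  exact fun i ↦ pow_zero _

/-- `T e` maps `f` to a polynomial in `X_0` whose leading coefficient is invertible. -/
lemma T_leadingcoeff_isUnit (he : 1 < e) (hf : ∀ u ∈ f.support, ∀ i, u i < e) (fne : f ≠ 0) :
    IsUnit (finSuccEquiv k n (T e f)).leadingCoeff := by
  obtain ⟨v, vin, vs⟩ := Finset.exists_max_image f.support
    (fun v ↦ (T e ((monomial v) (coeff v f))).degreeOf 0) (support_nonempty.mpr fne)
  set h := fun w ↦ (MvPolynomial.monomial w) (coeff w f)
  simp only [← natDegree_finSuccEquiv] at vs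
  replace vs : ∀ x ∈ f.support \ {v}, (finSuccEquiv k n ((T e) (h x))).degree <
      (finSuccEquiv k n ((T e) (h v))).degree := by
    intro x hx
    obtain ⟨h1, h2⟩ := Finset.mem_sdiff.mp hx
    apply degree_lt_degree <| lt_of_le_of_ne (vs x h1) ?_
    simpa only [natDegree_finSuccEquiv]
      using degreeOf_t_ne_of_ne e f _ _ he hf h1 vin <| ne_of_not_mem_cons h2
  have coeff : (finSuccEquiv k n ((T e) (h v + ∑ x ∈ f.support \ {v}, h x))).leadingCoeff =
      (finSuccEquiv k n ((T e) (h v))).leadingCoeff := by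
    simp only [map_add, map_sum]
    rw [add_comm]
    apply leadingCoeff_add_of_degree_lt <| (lt_of_le_of_lt <| degree_sum_le _ _) ?_
    have h2 : h v ≠ 0 := by simpa [h] using mem_support_iff.mp vin
    replace h2 : (finSuccEquiv k n ((T e) (h v))) ≠ 0 := fun eq ↦ h2 <|
      by simpa only [map_eq_zero_iff _ (AlgEquiv.injective _)] using eq
    exact (Finset.sup_lt_iff <| Ne.bot_lt (fun x ↦ h2 <| degree_eq_bot.mp x)).mpr vs
  nth_rw 1 [← f.support_sum_monomial_coeff]
  rw [Finset.sum_eq_add_sum_sdiff_singleton_of_mem vin h]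
  rw [leadingCoeff_finSuccEquiv_t _ _ _ (by omega)] at coeff
  simpa only [coeff, MvPolynomial.algebraMap_eq] using (mem_support_iff.mp vin).isUnit.map MvPolynomial.C

end Groth.Agent.Lib.Helper12.NagataU
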