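import Mathlib
import Groth.Agent.Lib.Helper12.NagataUniform

/-!
# One step of (relative) Noether normalisation at the level of a field (helper12)
-/

set_option autoImplicit false
open MvPolynomial

namespace Groth.Agent.Lib.Helper12.NagataU

variable {k : Type*} [Field k] {B : Type*} [CommRing B] [Algebra k B] {n : ℕ}

/-- the new coordinates `x_{i+1} - x_0 ^ (e ^ (i+1))` -/
def newCoord (e : ℕ) (x : Fin (n + 1) → B) : Fin n → B :=
  fun i => x i.succ - x 0 ^ (e ^ (i.1 + 1))

theorem eval_eq (e : ℕ) (x : Fin (n + 1) → B) (f : MvPolynomial (Fin (n + 1)) k) :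
    Polynomial.aevalTower (aeval (newCoord e x) : MvPolynomial (Fin n) k →ₐ[k] B) (x 0)
      (finSuccEquiv k n (T e f)) = aeval x f := by
  have : (Polynomial.aevalTower (aeval (newCoord e x) : MvPolynomial (Fin n) k →ₐ[k] B)
      (x 0)).comp ((finSuccEquiv k n).toAlgHom.comp
        (T (k := k) (n := n) e).toAlgHom) = aeval x := by
    apply MvPolynomial.algHom_ext
    intro i
    refine Fin.cases ?_ (fun j => ?_) i
    · simp [finSuccEquiv_X_zero]
    · simp [finSuccEquiv_X_succ, finSuccEquiv_X_zero, newCoord, Fin.succ_ne_zero]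
  exact DFunLike.congr_fun this f

theorem isIntegral_newCoord (e : ℕ) (he : 1 < e) (x : Fin (n + 1) → B)
    (hx : (aeval x : MvPolynomial (Fin (n + 1)) k →ₐ[k] B).toRingHom.IsIntegral)
    (f : MvPolynomial (Fin (n + 1)) k) (hf : ∀ u ∈ f.support, ∀ i, u i < e) (fne : f ≠ 0)
    (h0 : aeval x f = 0) :
    (aeval (newCoord e x) : MvPolynomial (Fin n) k →ₐ[k] B).toRingHom.IsIntegral := by
  classical
  set y := newCoord e x with hy
  letI alg : Algebra (MvPolynomial (Fin n) k) B :=
    (aeval y : MvPolynomial (Fin n) k →ₐ[k] B).toRingHom.toAlgebra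
  have halg : ∀ p, algebraMap (MvPolynomial (Fin n) k) B p = aeval y p := fun _ => rfl
  haveI : IsScalarTower k (MvPolynomial (Fin n) k) B :=
    IsScalarTower.of_algebraMap_eq fun a => by
      rw [halg, MvPolynomial.algebraMap_eq, aeval_C]
  let C := integralClosure (MvPolynomial (Fin n) k) B
  -- x 0 is integral
  have h1 : x 0 ∈ C := by
    have hu := T_leadingcoeff_isUnit e f he hf fne
    refine ⟨hu.unit⁻¹ • finSuccEquiv k n (T e f),
      Polynomial.monic_of_isUnit_leadingCoeff_inv_smul hu, ?_⟩
    have h2 : Polynomial.eval₂ (algebraMap (MvPolynomial (Fin n) k) B) (x 0)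
        (finSuccEquiv k n (T e f)) = 0 := by
      have := eval_eq (k := k) e x f
      rw [h0] at this
      exact this
    rw [Units.smul_def, Polynomial.eval₂_smul, h2, mul_zero]
  have h2 : ∀ i : Fin n, y i ∈ C := fun i => by
    have : y i = algebraMap (MvPolynomial (Fin n) k) B (X i) := by rw [halg, aeval_X]
    rw [this]; exact Subalgebra.algebraMap_mem C _
  have h3 : ∀ i : Fin (n + 1), x i ∈ C := by
    intro i
    refine Fin.cases h1 (fun j => ?_) i
    have : x j.succ = y j + x 0 ^ (e ^ (j.1 + 1)) := by simp [hy, newCoord]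
    rw [this]
    exact C.add_mem (h2 j) (C.pow_mem h1 _)
  have h4 : ∀ p : MvPolynomial (Fin (n + 1)) k, aeval x p ∈ C := by
    intro p
    have hle : Algebra.adjoin k (Set.range x) ≤ C.restrictScalars k :=
      Algebra.adjoin_le (by rintro _ ⟨i, rfl⟩; exact h3 i)
    apply hle
    rw [Algebra.adjoin_range_eq_range_aeval]
    exact ⟨p, rfl⟩
  intro b
  -- b integral over C
  let θ : MvPolynomial (Fin (n + 1)) k →+* C :=
    (aeval x : MvPolynomial (Fin (n + 1)) k →ₐ[k] B).toRingHom.codRestrict C.toSubring h4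
  have hθ : (algebraMap C B).comp θ = (aeval x : MvPolynomial (Fin (n + 1)) k →ₐ[k] B).toRingHom := by
    ext <;> rfl
  have hb : IsIntegral C b := by
    have := hx b
    rw [← hθ] at this
    exact RingHom.IsIntegralElem.of_comp this
  exact isIntegral_trans (R := MvPolynomial (Fin n) k) (A := C) b hb

/-- If `B` is integral over `k[x_1, …, x_m]` and `dim B < m`, there is a nontrivial relation. -/
theorem exists_relation {m : ℕ} (x : Fin m → B)
    (hx : (aeval x : MvPolynomial (Fin m) k →ₐ[k] B).toRingHom.IsIntegral)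
    (hdim : ringKrullDim B < m) :
    ∃ f : MvPolynomial (Fin m) k, f ≠ 0 ∧ aeval x f = 0 := by
  by_contra hcon
  push_neg at hcon
  have hinj : Function.Injective (aeval x : MvPolynomial (Fin m) k →ₐ[k] B) := by
    rw [injective_iff_map_eq_zero]
    intro f hf
    by_contra h; exact hcon f h hf
  letI alg : Algebra (MvPolynomial (Fin m) k) B :=
    (aeval x : MvPolynomial (Fin m) k →ₐ[k] B).toRingHom.toAlgebra
  haveI : Algebra.IsIntegral (MvPolynomial (Fin m) k) B := ⟨hx⟩
  have := Groth.Agent.Lib.Helper12.ringKrullDim_le_of_isIntegral_of_injective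
    (R := MvPolynomial (Fin m) k) (S := B) hinj
  rw [Groth.Agent.Lib.Helper12.ringKrullDim_mvPolynomial_field] at this
  exact absurd (lt_of_le_of_lt this hdim) (lt_irrefl _)

end Groth.Agent.Lib.Helper12.NagataU
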