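import Mathlib
import Groth.Agent.Lib.Helper12.NagataStep

/-!
# Noether normalisation on two fibres simultaneously, perturbing by `N`-th powers (helper12)
-/

set_option autoImplicit false
open MvPolynomial TensorProduct

namespace Groth.Agent.Lib.Helper12.NagataU

variable (V : Type*) {R : Type*} [CommRing V] [CommRing R] [Algebra V R]

/-- `κ ⊗ R` is integral over `κ[T]` via `T_i ↦ 1 ⊗ g_i`. -/
def Good (κ : Type*) [Field κ] [Algebra V κ] {n : ℕ} (g : Fin n → R) : Prop :=
  (aeval (fun i => (1 : κ) ⊗ₜ[V] g i) : MvPolynomial (Fin n) κ →ₐ[κ] κ ⊗[V] R).toRingHom.IsIntegral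

theorem newCoord_tmul (κ : Type*) [Field κ] [Algebra V κ] {n : ℕ} (e : ℕ)
    (g : Fin (n + 1) → R) :
    newCoord e (fun i => (1 : κ) ⊗ₜ[V] g i) = fun i => (1 : κ) ⊗ₜ[V] newCoord e g i := by
  funext i
  simp only [newCoord, TensorProduct.tmul_sub, Algebra.TensorProduct.tmul_pow, one_pow]

theorem exists_bound {κ : Type*} [Field κ] {n : ℕ} (F : MvPolynomial (Fin n) κ) (e : ℕ)
    (he : F.totalDegree < e) : ∀ u ∈ F.support, ∀ i, u i < e := by
  intro u hu i
  have h1 : u i ≤ F.degreeOf i := MvPolynomial.monomial_le_degreeOf i hu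
  have h2 : F.degreeOf i ≤ F.totalDegree := MvPolynomial.degreeOf_le_totalDegree F i
  omega

set_option maxHeartbeats 800000 in
theorem exists_perturbation {κ₁ κ₂ : Type*} [Field κ₁] [Field κ₂] [Algebra V κ₁] [Algebra V κ₂]
    (d N : ℕ) (hN : 1 ≤ N) (h₁ : ringKrullDim (κ₁ ⊗[V] R) ≤ d)
    (h₂ : ringKrullDim (κ₂ ⊗[V] R) ≤ d) :
    ∀ (m n : ℕ) (hn : n = m + d) (g : Fin n → R), Good V κ₁ g → Good V κ₂ g →
      ∃ y : Fin d → R, (∀ i, y i ∈ Subring.closure (Set.range fun r : R => r ^ N)) ∧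
        Good V κ₁ (fun i : Fin d => g ⟨m + i, by omega⟩ + y i) ∧
        Good V κ₂ (fun i : Fin d => g ⟨m + i, by omega⟩ + y i) := by
  intro m
  induction m with
  | zero =>
    intro n hn g hg₁ hg₂
    obtain rfl : n = d := by omega
    refine ⟨fun _ => 0, fun _ => Subring.zero_mem _, ?_, ?_⟩
    · have : (fun i : Fin n => g ⟨0 + i, by omega⟩ + 0) = g := by
        funext i
        rw [add_zero]
        congr 1
        exact Fin.ext (Nat.zero_add _)
      rw [this]; exact hg₁
    · have : (fun i : Fin n => g ⟨0 + i, by omega⟩ + 0) = g := by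
        funext i
        rw [add_zero]
        congr 1
        exact Fin.ext (Nat.zero_add _)
      rw [this]; exact hg₂
  | succ m ih =>
    intro n hn g hg₁ hg₂
    obtain rfl : n = (m + d) + 1 := by omega
    have hlt : ((d : ℕ) : WithBot ℕ∞) < ((m + d + 1 : ℕ) : WithBot ℕ∞) := by
      exact_mod_cast (by omega : d < m + d + 1)
    obtain ⟨F₁, F₁ne, hF₁⟩ := exists_relation (fun i => (1 : κ₁) ⊗ₜ[V] g i) hg₁
      (lt_of_le_of_lt h₁ hlt)
    obtain ⟨F₂, F₂ne, hF₂⟩ := exists_relation (fun i => (1 : κ₂) ⊗ₜ[V] g i) hg₂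
      (lt_of_le_of_lt h₂ hlt)
    set c := F₁.totalDegree + F₂.totalDegree + 2 with hc
    set e := c * N with he
    have hce : c ≤ e := Nat.le_mul_of_pos_right c hN
    have he1 : 1 < e := by omega
    have hg₁' := isIntegral_newCoord e he1 (fun i => (1 : κ₁) ⊗ₜ[V] g i) hg₁ F₁
      (exists_bound F₁ e (by omega)) F₁ne hF₁
    have hg₂' := isIntegral_newCoord e he1 (fun i => (1 : κ₂) ⊗ₜ[V] g i) hg₂ F₂
      (exists_bound F₂ e (by omega)) F₂ne hF₂
    rw [newCoord_tmul] at hg₁' hg₂'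
    obtain ⟨y', hy', hy₁, hy₂⟩ := ih (m + d) rfl (newCoord e g) hg₁' hg₂'
    have hfun : (fun i : Fin d => g ⟨m + 1 + i, by omega⟩ +
        (y' i - g 0 ^ (e ^ (m + i + 1)))) =
        fun i : Fin d => newCoord e g ⟨m + i, by omega⟩ + y' i := by
      funext i
      have : (⟨m + 1 + i, by omega⟩ : Fin (m + d + 1)) =
          (⟨m + i, by omega⟩ : Fin (m + d)).succ := Fin.ext (by simp; omega)
      rw [this]
      simp only [newCoord]
      ring
    refine ⟨fun i => y' i - g 0 ^ (e ^ (m + i + 1)), fun i => ?_, ?_, ?_⟩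
    · refine Subring.sub_mem _ (hy' i) (Subring.subset_closure ⟨g 0 ^ (e ^ (m + i) * c), ?_⟩)
      show (g 0 ^ (e ^ (m + i) * c)) ^ N = g 0 ^ (e ^ (m + i + 1))
      rw [← pow_mul, pow_succ, he, mul_assoc]
    · rw [hfun]; exact hy₁
    · rw [hfun]; exact hy₂

/-- a generating family gives a surjection on each fibre -/
theorem good_of_generators (κ : Type*) [Field κ] [Algebra V κ] {m n : ℕ}
    (f : MvPolynomial (Fin m) V →ₐ[V] R) (hf : Function.Surjective f) (g : Fin n → R)
    (hmn : m ≤ n) (hg : ∀ j : Fin m, g ⟨j.1, by omega⟩ = f (X j)) : Good V κ g := by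
  let φ : MvPolynomial (Fin n) κ →ₐ[κ] κ ⊗[V] R := aeval (fun i => (1 : κ) ⊗ₜ[V] g i)
  suffices hsurj : Function.Surjective φ from RingHom.isIntegral_of_surjective _ hsurj
  let θ : MvPolynomial (Fin m) V →ₐ[V] MvPolynomial (Fin n) κ :=
    aeval (fun j : Fin m => (X ⟨j.1, by omega⟩ : MvPolynomial (Fin n) κ))
  let ψ : R →ₐ[V] κ ⊗[V] R := Algebra.TensorProduct.includeRight
  have hcomp : (φ.restrictScalars V).comp θ = ψ.comp f := by
    apply MvPolynomial.algHom_ext
    intro j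
    simp only [AlgHom.comp_apply, AlgHom.restrictScalars_apply, θ, φ, ψ, aeval_X,
      Algebra.TensorProduct.includeRight_apply, hg]
  have h1 : ∀ r : R, (1 : κ) ⊗ₜ[V] r ∈ φ.range := by
    intro r
    obtain ⟨P, rfl⟩ := hf r
    refine ⟨θ P, ?_⟩
    have := DFunLike.congr_fun hcomp P
    simpa [ψ] using this
  intro t
  have : t ∈ φ.range := by
    induction t using TensorProduct.induction_on with
    | zero => exact Subalgebra.zero_mem _
    | tmul c r =>
      have : c ⊗ₜ[V] r = c • ((1 : κ) ⊗ₜ[V] r) := by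
        rw [TensorProduct.smul_tmul', smul_eq_mul, mul_one]
      rw [this]
      exact Subalgebra.smul_mem _ (h1 r) c
    | add a b ha hb => exact Subalgebra.add_mem _ ha hb
  exact this

end Groth.Agent.Lib.Helper12.NagataU
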