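import Mathlib
import Groth.Agent.Lib.Helper12.IntegralDim

/-!
# Helper library (helper12): Noether normalization on a fibre, with sections coming from the
total space (ring level; EGA IV 13.3.1.1)
-/

set_option autoImplicit false
universe u
open TensorProduct

namespace Groth.Agent.Lib.Helper12.NoetherFibre

variable {A B K : Type u} [CommRing A] [CommRing B] [Field K] [Algebra A B] [Algebra A K]

/-- Every element of `K ⊗[A] B` becomes a pure tensor `1 ⊗ b` after multiplication by an element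
of `A` which is non-zero in `K`, provided every element of `K` is a fraction of elements of
`A`. -/
theorem exists_smul_eq_one_tmul
    (hfrac : ∀ k : K, ∃ a s : A, algebraMap A K s ≠ 0 ∧ algebraMap A K s * k = algebraMap A K a)
    (c : K ⊗[A] B) :
    ∃ r : A, algebraMap A K r ≠ 0 ∧ ∃ b : B, r • c = (1 : K) ⊗ₜ[A] b := by
  induction c using TensorProduct.induction_on with
  | zero => exact ⟨1, by simp, 0, by simp⟩
  | tmul k b =>
    obtain ⟨a, s, hs, hk⟩ := hfrac k
    refine ⟨s, hs, a • b, ?_⟩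
    rw [TensorProduct.smul_tmul', Algebra.smul_def, hk, TensorProduct.tmul_smul,
      TensorProduct.smul_tmul', Algebra.smul_def, mul_one]
  | add c₁ c₂ h₁ h₂ =>
    obtain ⟨r₁, hr₁, b₁, hb₁⟩ := h₁
    obtain ⟨r₂, hr₂, b₂, hb₂⟩ := h₂
    refine ⟨r₁ * r₂, by rw [map_mul]; exact mul_ne_zero hr₁ hr₂, r₂ • b₁ + r₁ • b₂, ?_⟩
    have e1 : (r₁ * r₂) • c₁ = r₂ • (r₁ • c₁) := by rw [mul_comm, mul_smul]
    have e2 : (r₁ * r₂) • c₂ = r₁ • (r₂ • c₂) := by rw [mul_smul]
    rw [smul_add, e1, e2, hb₁, hb₂, TensorProduct.tmul_add, TensorProduct.tmul_smul,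
      TensorProduct.tmul_smul]

/-- **Noether normalization on a fibre.** If `B` is of finite type over `A`, `K` is a field all
of whose elements are fractions of elements of `A`, and `K ⊗[A] B` has dimension at most `n`, then
there are `n` elements of `B` over whose images `K ⊗[A] B` is finite. -/
theorem exists_aeval_finite [Algebra.FiniteType A B]
    (hfrac : ∀ k : K, ∃ a s : A, algebraMap A K s ≠ 0 ∧ algebraMap A K s * k = algebraMap A K a)
    (n : ℕ) [Nontrivial (K ⊗[A] B)] (hdim : ringKrullDim (K ⊗[A] B) ≤ n) :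
    ∃ b : Fin n → B, (MvPolynomial.aeval (fun i => (1 : K) ⊗ₜ[A] b i) :
      MvPolynomial (Fin n) K →ₐ[K] K ⊗[A] B).Finite := by
  classical
  obtain ⟨s, g₀, hinj, hfin⟩ := exists_finite_inj_algHom_of_fg K (K ⊗[A] B)
  have hsn : s ≤ n := by
    letI : Algebra (MvPolynomial (Fin s) K) (K ⊗[A] B) := g₀.toRingHom.toAlgebra
    haveI : Module.Finite (MvPolynomial (Fin s) K) (K ⊗[A] B) := hfin
    haveI : Algebra.IsIntegral (MvPolynomial (Fin s) K) (K ⊗[A] B) :=
      Algebra.IsIntegral.of_finite _ _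
    have h1 := Groth.Agent.Lib.Helper12.ringKrullDim_le_of_isIntegral_of_injective
      (R := MvPolynomial (Fin s) K) (S := K ⊗[A] B) hinj
    rw [Groth.Agent.Lib.Helper12.ringKrullDim_mvPolynomial_field] at h1
    have h2 := h1.trans hdim
    exact_mod_cast h2
  have hlift : ∀ i : Fin s, ∃ r : A, algebraMap A K r ≠ 0 ∧ ∃ b : B,
      r • g₀ (MvPolynomial.X i) = (1 : K) ⊗ₜ[A] b := fun i =>
    exists_smul_eq_one_tmul hfrac (g₀ (MvPolynomial.X i))
  choose r hr bb hbb using hlift
  let b : Fin n → B := fun j => if h : j.val < s then bb ⟨j.val, h⟩ else 0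
  have hb : ∀ i : Fin s, b (Fin.castLE hsn i) = bb i := by
    intro i
    simp [b]
  refine ⟨b, ?_⟩
  let θ : MvPolynomial (Fin s) K →ₐ[K] MvPolynomial (Fin n) K :=
    MvPolynomial.aeval (fun i => MvPolynomial.C (algebraMap A K (r i))⁻¹ *
      MvPolynomial.X (Fin.castLE hsn i))
  have hcomp : (MvPolynomial.aeval (fun i => (1 : K) ⊗ₜ[A] b i) :
      MvPolynomial (Fin n) K →ₐ[K] K ⊗[A] B).comp θ = g₀ := by
    apply MvPolynomial.algHom_ext
    intro i
    simp only [AlgHom.coe_comp, Function.comp_apply, θ, MvPolynomial.aeval_X, map_mul,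
      MvPolynomial.aeval_C, hb]
    rw [← hbb i, algebra_compatible_smul K (r i), ← Algebra.smul_def, smul_smul,
      inv_mul_cancel₀ (hr i), one_smul]
  have h3 : ((MvPolynomial.aeval (fun i => (1 : K) ⊗ₜ[A] b i) :
      MvPolynomial (Fin n) K →ₐ[K] K ⊗[A] B).comp θ).Finite := by rw [hcomp]; exact hfin
  exact AlgHom.Finite.of_comp_finite h3

end Groth.Agent.Lib.Helper12.NoetherFibre
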