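import Mathlib
import Groth.Agent.Lib.Helper12.NoetherFibre

/-!
# Helper library (helper12): a morphism to affine space which is finite on a fibre
(EGA IV 13.3.1.1, existence part)
-/

set_option autoImplicit false
universe u
open AlgebraicGeometry CategoryTheory Limits TensorProduct

namespace Groth.Agent.Lib.Helper12.NoetherFibre

theorem fromSpecResidueField_appTop {Y : Scheme.{u}} (y : Y) :
    (Y.fromSpecResidueField y).appTop ≫ (Scheme.ΓSpecIso (Y.residueField y)).hom =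
      Y.Γevaluation y := by
  unfold Scheme.fromSpecResidueField
  rw [Scheme.Hom.comp_appTop, Scheme.fromSpecStalk_appTop]
  simp only [Category.assoc]
  rw [Scheme.ΓSpecIso_naturality]
  simp
  rfl

/-- On an affine scheme, every element of a residue field is a fraction of global sections. -/
theorem evaluation_frac {Y : Scheme.{u}} (y : Y) [IsAffine Y] (k : Y.residueField y) :
    ∃ a s : Γ(Y, ⊤), (Y.Γevaluation y).hom s ≠ 0 ∧
      (Y.Γevaluation y).hom s * k = (Y.Γevaluation y).hom a := by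
  obtain ⟨z, rfl⟩ := Y.residue_surjective y k
  letI algA : Algebra Γ(Y, ⊤) (Y.presheaf.stalk y) :=
    TopCat.Presheaf.algebra_section_stalk Y.presheaf (U := (⊤ : Y.Opens)) ⟨y, trivial⟩
  haveI := (isAffineOpen_top Y).isLocalization_stalk ⟨y, trivial⟩
  obtain ⟨⟨a, s⟩, hs⟩ := IsLocalization.surj
    ((isAffineOpen_top Y).primeIdealOf ⟨y, trivial⟩).asIdeal.primeCompl z
  refine ⟨a, s.1, ?_, ?_⟩
  · have hu : IsUnit (algebraMap Γ(Y, ⊤) (Y.presheaf.stalk y) s.1) :=
      IsLocalization.map_units (Y.presheaf.stalk y) s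
    have hu' : IsUnit ((Y.residue y).hom (algebraMap Γ(Y, ⊤) (Y.presheaf.stalk y) s.1)) :=
      hu.map (Y.residue y).hom
    exact hu'.ne_zero
  · have := congrArg (Y.residue y).hom hs
    rw [map_mul, mul_comm] at this
    exact this

/-- The global sections of a fibre product of an affine scheme with the spectrum of a residue
field of the (affine) base form the tensor product. -/
theorem exists_ringEquiv_of_isPullback {X Y P : Scheme.{u}} [IsAffine X] [IsAffine Y]
    (f : X ⟶ Y) (y : Y) (p1 : P ⟶ X) (r : P ⟶ Spec (Y.residueField y))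
    (h : IsPullback p1 r f (Y.fromSpecResidueField y)) :
    letI := f.appTop.hom.toAlgebra
    letI := (Y.Γevaluation y).hom.toAlgebra
    ∃ ε : (Y.residueField y) ⊗[Γ(Y, ⊤)] Γ(X, ⊤) ≃+* Γ(P, ⊤),
      (∀ b : Γ(X, ⊤), ε (1 ⊗ₜ b) = p1.appTop.hom b) ∧
      (∀ k : Y.residueField y, ε (k ⊗ₜ 1) =
        r.appTop.hom ((Scheme.ΓSpecIso (Y.residueField y)).inv.hom k)) := by
  letI algAB : Algebra Γ(Y, ⊤) Γ(X, ⊤) := f.appTop.hom.toAlgebra
  letI algAK : Algebra Γ(Y, ⊤) (Y.residueField y) := (Y.Γevaluation y).hom.toAlgebra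
  have H := isPushout_appTop_of_isPullback h
  have H2 : IsPushout f.appTop (Y.Γevaluation y) p1.appTop
      ((Scheme.ΓSpecIso (Y.residueField y)).inv ≫ r.appTop) :=
    H.of_iso (Iso.refl _) (Iso.refl _) (Scheme.ΓSpecIso _) (Iso.refl _) (by simp)
      (by simp [fromSpecResidueField_appTop]) (by simp) (by simp)
  have H3 := CommRingCat.isPushout_tensorProduct Γ(Y, ⊤) (Y.residueField y) Γ(X, ⊤)
  let i := H3.isoIsPushout _ _ H2.flip
  refine ⟨i.commRingCatIsoToRingEquiv, ?_, ?_⟩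
  · intro b
    have := IsPushout.inr_isoIsPushout_hom _ _ H3 H2.flip
    exact congrArg (fun φ => φ.hom b) this
  · intro k
    have := IsPushout.inl_isoIsPushout_hom _ _ H3 H2.flip
    exact congrArg (fun φ => φ.hom k) this

theorem ringKrullDim_appTop_eq (W : Scheme.{u}) [IsAffine W] :
    ringKrullDim Γ(W, ⊤) = topologicalKrullDim W := by
  rw [← PrimeSpectrum.topologicalKrullDim_eq_ringKrullDim]
  exact (IsHomeomorph.topologicalKrullDim_eq _ W.isoSpec.hom.homeomorph.isHomeomorph).symm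

/-- **EGA IV 13.3.1.1 (existence).** -/
theorem exists_toAffineSpace_finite_on_fibre {X Y : Scheme.{u}} [IsAffine X] [IsAffine Y]
    (f : X ⟶ Y) [LocallyOfFiniteType f] (y : Y) (e : ℕ)
    (he : topologicalKrullDim ↥(f.fiber y) = e) :
    ∃ g : X ⟶ 𝔸(ULift.{u} (Fin e); Y), g ≫ (𝔸(ULift.{u} (Fin e); Y) ↘ Y) = f ∧
      IsFinite (pullback.snd g ((𝔸(ULift.{u} (Fin e); Y) ↘ Y).fiberι y)) := by
  letI algAB : Algebra Γ(Y, ⊤) Γ(X, ⊤) := f.appTop.hom.toAlgebra
  letI algAK : Algebra Γ(Y, ⊤) (Y.residueField y) := (Y.Γevaluation y).hom.toAlgebra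
  haveI : Algebra.FiniteType Γ(Y, ⊤) Γ(X, ⊤) :=
    (HasRingHomProperty.iff_of_isAffine (P := @LocallyOfFiniteType)).mp inferInstance
  haveI : IsAffine (f.fiber y) := by unfold Scheme.Hom.fiber; infer_instance
  obtain ⟨ε₀, -, -⟩ := exists_ringEquiv_of_isPullback f y (f.fiberι y)
    (f.fiberToSpecResidueField y) (IsPullback.of_hasPullback f _)
  have hdim : ringKrullDim ((Y.residueField y) ⊗[Γ(Y, ⊤)] Γ(X, ⊤)) = e := by
    rw [ringKrullDim_eq_of_ringEquiv ε₀, ringKrullDim_appTop_eq, he]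
  haveI : Nontrivial ((Y.residueField y) ⊗[Γ(Y, ⊤)] Γ(X, ⊤)) := by
    by_contra hnt
    rw [not_nontrivial_iff_subsingleton] at hnt
    rw [ringKrullDim_eq_bot_of_subsingleton] at hdim
    exact WithBot.bot_ne_coe hdim
  obtain ⟨b, hb⟩ := exists_aeval_finite (A := Γ(Y, ⊤)) (B := Γ(X, ⊤)) (K := Y.residueField y)
    (evaluation_frac y) e (le_of_eq hdim)
  let v : ULift.{u} (Fin e) → Γ(X, ⊤) := fun i => b i.down
  let g := AffineSpace.homOfVector f v
  have hov : g ≫ (𝔸(ULift.{u} (Fin e); Y) ↘ Y) = f := AffineSpace.homOfVector_over f v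
  refine ⟨g, hov, ?_⟩
  haveI : IsAffine ((𝔸(ULift.{u} (Fin e); Y) ↘ Y).fiber y) := by
    unfold Scheme.Hom.fiber; infer_instance
  haveI : IsAffine (pullback g ((𝔸(ULift.{u} (Fin e); Y) ↘ Y).fiberι y)) := inferInstance
  rw [HasAffineProperty.iff_of_isAffine (P := @IsFinite)]
  refine ⟨inferInstance, ?_⟩
  have hpb : IsPullback (pullback.fst g ((𝔸(ULift.{u} (Fin e); Y) ↘ Y).fiberι y))
      (pullback.snd g ((𝔸(ULift.{u} (Fin e); Y) ↘ Y).fiberι y) ≫
        (𝔸(ULift.{u} (Fin e); Y) ↘ Y).fiberToSpecResidueField y) f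
      (Y.fromSpecResidueField y) := by
    have left := (IsPullback.of_hasPullback g ((𝔸(ULift.{u} (Fin e); Y) ↘ Y).fiberι y)).flip
    have right := (IsPullback.of_hasPullback (𝔸(ULift.{u} (Fin e); Y) ↘ Y)
      (Y.fromSpecResidueField y)).flip
    have := (left.paste_horiz right).flip
    rw [hov] at this
    exact this
  obtain ⟨ε, hε1, hε2⟩ := exists_ringEquiv_of_isPullback f y _ _ hpb
  let ψ : MvPolynomial (Fin e) (Y.residueField y) →+*
      Γ((𝔸(ULift.{u} (Fin e); Y) ↘ Y).fiber y, ⊤) :=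
    MvPolynomial.eval₂Hom ((Scheme.ΓSpecIso (Y.residueField y)).inv ≫
      ((𝔸(ULift.{u} (Fin e); Y) ↘ Y).fiberToSpecResidueField y).appTop).hom
      (fun i => ((𝔸(ULift.{u} (Fin e); Y) ↘ Y).fiberι y).appTop.hom (AffineSpace.coord Y ⟨i⟩))
  have hcomp : (pullback.snd g ((𝔸(ULift.{u} (Fin e); Y) ↘ Y).fiberι y)).appTop.hom.comp ψ =
      ε.toRingHom.comp (MvPolynomial.aeval
        (fun i => (1 : Y.residueField y) ⊗ₜ[Γ(Y, ⊤)] b i) :
          MvPolynomial (Fin e) (Y.residueField y) →ₐ[Y.residueField y]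
            (Y.residueField y) ⊗[Γ(Y, ⊤)] Γ(X, ⊤)).toRingHom := by
    apply MvPolynomial.ringHom_ext
    · intro k
      simp only [ψ, RingHom.comp_apply, MvPolynomial.eval₂Hom_C, AlgHom.toRingHom_eq_coe,
        RingHom.coe_coe, MvPolynomial.aeval_C, RingEquiv.toRingHom_eq_coe]
      rw [Algebra.TensorProduct.algebraMap_apply, Algebra.algebraMap_self_apply, hε2,
        Scheme.Hom.comp_appTop]
      rfl
    · intro i
      simp only [ψ, RingHom.comp_apply, MvPolynomial.eval₂Hom_X', AlgHom.toRingHom_eq_coe,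
        RingHom.coe_coe, MvPolynomial.aeval_X, RingEquiv.toRingHom_eq_coe]
      rw [hε1]
      have h1 : (pullback.snd g ((𝔸(ULift.{u} (Fin e); Y) ↘ Y).fiberι y)).appTop.hom
          (((𝔸(ULift.{u} (Fin e); Y) ↘ Y).fiberι y).appTop.hom (AffineSpace.coord Y ⟨i⟩)) =
          (pullback.snd g ((𝔸(ULift.{u} (Fin e); Y) ↘ Y).fiberι y) ≫
            (𝔸(ULift.{u} (Fin e); Y) ↘ Y).fiberι y).appTop.hom (AffineSpace.coord Y ⟨i⟩) := by
        rw [Scheme.Hom.comp_appTop]; rfl
      rw [h1, ← pullback.condition, Scheme.Hom.comp_appTop]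
      show (pullback.fst g ((𝔸(ULift.{u} (Fin e); Y) ↘ Y).fiberι y)).appTop.hom
        (g.appTop.hom (AffineSpace.coord Y ⟨i⟩)) = _
      have h2 : g.appTop.hom (AffineSpace.coord Y ⟨i⟩) = v ⟨i⟩ :=
        AffineSpace.homOfVector_appTop_coord f v ⟨i⟩
      rw [h2]
  have hfin : ((pullback.snd g ((𝔸(ULift.{u} (Fin e); Y) ↘ Y).fiberι y)).appTop.hom.comp
      ψ).Finite := by
    rw [hcomp]
    exact RingHom.Finite.comp (RingHom.Finite.of_surjective _ ε.surjective) hb
  exact RingHom.Finite.of_comp_finite hfin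

end Groth.Agent.Lib.Helper12.NoetherFibre
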