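import Mathlib
import Groth.Agent.Lib.Helper12.NormGen

/-! Normalization of an integral scheme in an arbitrary extension of its function field. -/

set_option autoImplicit false

namespace Groth.Agent.Lib.Helper12.NormField

open AlgebraicGeometry CategoryTheory TopologicalSpace Opposite Function IsLocalRing
open Groth.Agent.Lib.Helper12.NormGen

universe u

section Alg

/-- The integral closure of a ring in a field is integrally closed. -/
theorem isIntegrallyClosed_integralClosure_field (A K : Type*) [CommRing A] [Field K]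
    [Algebra A K] : IsIntegrallyClosed (integralClosure A K) := by
  have hinj : Injective (algebraMap (integralClosure A K) K) := Subtype.val_injective
  letI : Algebra (FractionRing (integralClosure A K)) K := (IsFractionRing.lift hinj).toAlgebra
  haveI : IsScalarTower (integralClosure A K) (FractionRing (integralClosure A K)) K :=
    IsScalarTower.of_algebraMap_eq (fun b => (IsFractionRing.lift_algebraMap hinj b).symm)
  refine (isIntegrallyClosed_iff (FractionRing (integralClosure A K))).2 fun {x} hx => ?_
  have h1 : IsIntegral (integralClosure A K)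
      (algebraMap (FractionRing (integralClosure A K)) K x) := hx.algebraMap
  have h2 : IsIntegral A (algebraMap (FractionRing (integralClosure A K)) K x) :=
    isIntegral_trans _ h1
  refine ⟨⟨_, h2⟩, ?_⟩
  apply (algebraMap (FractionRing (integralClosure A K)) K).injective
  rw [← IsScalarTower.algebraMap_apply]
  rfl

theorem exists_ringEquiv_congr' {A B' K' : Type*} [CommRing A] [CommRing B'] [CommRing K']
    (ρ : A →+* B') (θ : B' → K') (ψ₁ ψ₂ : A →+* K') (h : ψ₁ = ψ₂)
    (H : letI := ψ₁.toAlgebra
      ∃ E : B' ≃+* integralClosure A K', (∀ a : A, E (ρ a) = algebraMap A _ a) ∧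
        ∀ b, ((E b : integralClosure A K') : K') = θ b) :
    letI := ψ₂.toAlgebra
    ∃ E : B' ≃+* integralClosure A K', (∀ a : A, E (ρ a) = algebraMap A _ a) ∧
        ∀ b, ((E b : integralClosure A K') : K') = θ b := by
  subst h
  exact H

end Alg

section Generic

variable {X Y : Scheme.{u}} (f : Y ⟶ X) [QuasiCompact f] [QuasiSeparated f]

theorem exists_ringEquiv' {U : X.Opens} (hU : IsAffineOpen U)
    (h : f ⁻¹ᵁ U ≤ f.toNormalization ⁻¹ᵁ (f.fromNormalization ⁻¹ᵁ U)) :
    letI := (f.app U).hom.toAlgebra
    ∃ E : Γ(f.normalization, f.fromNormalization ⁻¹ᵁ U) ≃+*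
        integralClosure Γ(X, U) Γ(Y, f ⁻¹ᵁ U),
      (∀ a : Γ(X, U), E ((f.fromNormalization.app U).hom a) = algebraMap Γ(X, U) _ a) ∧
      ∀ b, ((E b : integralClosure Γ(X, U) Γ(Y, f ⁻¹ᵁ U)) : Γ(Y, f ⁻¹ᵁ U)) =
        (f.toNormalization.appLE _ _ h).hom b := by
  letI := (f.app U).hom.toAlgebra
  refine ⟨(f.normalizationObjIso hU).commRingCatIsoToRingEquiv, fun a => ?_, fun b => ?_⟩
  · show (f.normalizationObjIso hU).hom.hom ((f.fromNormalization.app U).hom a) = _
    rw [Scheme.Hom.fromNormalization_app _ hU]
    simp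
  · exact congr($(f.normalizationObjIso_hom_val hU).hom b)

theorem exists_ringEquiv_of_equiv' {U : X.Opens} (hU : IsAffineOpen U)
    (h : f ⁻¹ᵁ U ≤ f.toNormalization ⁻¹ᵁ (f.fromNormalization ⁻¹ᵁ U))
    {K : Type u} [CommRing K] (e : Γ(Y, f ⁻¹ᵁ U) ≃+* K) :
    letI := ((e : Γ(Y, f ⁻¹ᵁ U) →+* K).comp (f.app U).hom).toAlgebra
    ∃ E : Γ(f.normalization, f.fromNormalization ⁻¹ᵁ U) ≃+* integralClosure Γ(X, U) K,
      (∀ a : Γ(X, U), E ((f.fromNormalization.app U).hom a) = algebraMap Γ(X, U) _ a) ∧
      ∀ b, ((E b : integralClosure Γ(X, U) K) : K) =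
        e ((f.toNormalization.appLE _ _ h).hom b) := by
  letI := (f.app U).hom.toAlgebra
  letI := ((e : Γ(Y, f ⁻¹ᵁ U) →+* K).comp (f.app U).hom).toAlgebra
  obtain ⟨E, hE, hE'⟩ := exists_ringEquiv' f hU h
  let e' : Γ(Y, f ⁻¹ᵁ U) ≃ₐ[Γ(X, U)] K := AlgEquiv.ofRingEquiv (f := e) (fun a => rfl)
  refine ⟨E.trans (AlgEquiv.mapIntegralClosure e').toRingEquiv, fun a => ?_, fun b => ?_⟩
  · show (AlgEquiv.mapIntegralClosure e') (E _) = _
    rw [hE]
    exact (AlgEquiv.mapIntegralClosure e').commutes a
  · show ((AlgEquiv.mapIntegralClosure e' (E b) : integralClosure Γ(X, U) K) : K) = _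
    rw [← hE' b]
    rfl

/-- Only the generic point of an integral relative normalization lies over the generic point. -/
theorem eq_genericPoint_of_fromNormalization_eq [IsIntegral X] [IsIntegral f.normalization]
    (x' : f.normalization) (hx : f.fromNormalization x' = genericPoint X) :
    x' = genericPoint f.normalization := by
  obtain ⟨U, hU, hxU⟩ := NormAff.exists_affine_mem X (f.fromNormalization x')
  have hV : IsAffineOpen (f.fromNormalization ⁻¹ᵁ U) := hU.preimage _
  letI := (f.fromNormalization.app U).hom.toAlgebra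
  haveI : Nonempty U := ⟨⟨_, hxU⟩⟩
  haveI : Nonempty (f.fromNormalization ⁻¹ᵁ U : Opens _) := ⟨⟨x', hxU⟩⟩
  haveI : Algebra.IsIntegral Γ(X, U) Γ(f.normalization, f.fromNormalization ⁻¹ᵁ U) :=
    ⟨IsIntegralHom.isIntegral_app f.fromNormalization _ hU⟩
  have hpq := IsAffineOpen.comap_primeIdealOf_appLE (f := f.fromNormalization) (x := x')
    U hU (f.fromNormalization ⁻¹ᵁ U) hV le_rfl hxU
  rw [Scheme.Hom.appLE_eq_app] at hpq
  have hgenU : genericPoint X ∈ U := hx ▸ hxU
  have hsub : (⟨f.fromNormalization x', hxU⟩ : U) = ⟨genericPoint X, hgenU⟩ := Subtype.ext hx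
  rw [hsub, hU.primeIdealOf_genericPoint, genericPoint_eq_bot_of_affine] at hpq
  have hq : (hV.primeIdealOf ⟨x', hxU⟩).asIdeal = ⊥ := by
    apply Ideal.eq_bot_of_comap_eq_bot (R := Γ(X, U))
    exact congrArg PrimeSpectrum.asIdeal hpq
  have hq' : hV.primeIdealOf ⟨x', hxU⟩ = hV.primeIdealOf
      ⟨genericPoint f.normalization,
        ((genericPoint_spec _).mem_open_set_iff (f.fromNormalization ⁻¹ᵁ U).isOpen).mpr
          (by simpa using ‹Nonempty (f.fromNormalization ⁻¹ᵁ U : Opens _)›)⟩ := by
    rw [hV.primeIdealOf_genericPoint, genericPoint_eq_bot_of_affine]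
    exact PrimeSpectrum.ext hq
  have := congrArg hV.fromSpec hq'
  rw [hV.fromSpec_primeIdealOf, hV.fromSpec_primeIdealOf] at this
  exact this

end Generic

section FieldExt

variable (X : Scheme.{u}) [IsIntegral X] {K : Type u} [Field K] (φ : X.functionField →+* K)

theorem gmor_apply (s : Spec (CommRingCat.of K)) : (gmor X φ) s = genericPoint X :=
  ((gmor_specializes X φ s).antisymm (genericPoint_specializes _)).eq

variable [QuasiCompact (gmor X φ)] [QuasiSeparated (gmor X φ)]

theorem fromNormalization_toNormalization_apply (s : Spec (CommRingCat.of K)) :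
    (gmor X φ).fromNormalization ((gmor X φ).toNormalization s) = genericPoint X := by
  rw [← Scheme.Hom.comp_apply, Scheme.Hom.toNormalization_fromNormalization]
  exact gmor_apply X φ s

theorem toNormalization_apply (s : Spec (CommRingCat.of K)) :
    (gmor X φ).toNormalization s = genericPoint (gmor X φ).normalization := by
  have hd : DenseRange (gmor X φ).toNormalization := (gmor X φ).toNormalization.denseRange
  have hr : Set.range (gmor X φ).toNormalization = {(gmor X φ).toNormalization s} := by
    ext t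
    constructor
    · rintro ⟨s', rfl⟩
      rw [Subsingleton.elim s' s]
      rfl
    · rintro rfl
      exact ⟨s, rfl⟩
  have hgen : IsGenericPoint ((gmor X φ).toNormalization s) ⊤ := by
    rw [isGenericPoint_def, ← hr]
    exact hd.closure_range
  exact hgen.eq (genericPoint_spec _)

theorem preimage_genericPoint :
    (gmor X φ).fromNormalization ⁻¹' {genericPoint X} =
      {genericPoint (gmor X φ).normalization} := by
  ext x'
  simp only [Set.mem_preimage, Set.mem_singleton_iff]
  constructor
  · exact eq_genericPoint_of_fromNormalization_eq (gmor X φ) x'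
  · rintro rfl
    rw [← toNormalization_apply X φ (closedPoint K)]
    exact fromNormalization_toNormalization_apply X φ _

theorem sections_normal {U : X.Opens} (hU : IsAffineOpen U) (hne : (U : Set X).Nonempty) :
    IsDomain Γ((gmor X φ).normalization, (gmor X φ).fromNormalization ⁻¹ᵁ U) ∧
    IsIntegrallyClosed Γ((gmor X φ).normalization, (gmor X φ).fromNormalization ⁻¹ᵁ U) := by
  letI := (φ.comp (X.presheaf.germ U (genericPoint X)
      (NormAff.genericPoint_mem X hne)).hom).toAlgebra
  obtain ⟨E, hE⟩ := affine_model' X φ hU hne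
  haveI := isIntegrallyClosed_integralClosure_field Γ(X, U) K
  exact ⟨Function.Injective.isDomain E.toRingHom E.injective, IsIntegrallyClosed.of_equiv E.symm⟩

theorem stalk_normal' (x' : (gmor X φ).normalization) :
    IsDomain ((gmor X φ).normalization.presheaf.stalk x') ∧
      IsIntegrallyClosed ((gmor X φ).normalization.presheaf.stalk x') := by
  obtain ⟨U, hU, hxU⟩ := NormAff.exists_affine_mem X ((gmor X φ).fromNormalization x')
  have hne : (U : Set X).Nonempty := ⟨_, hxU⟩
  have hV : IsAffineOpen ((gmor X φ).fromNormalization ⁻¹ᵁ U) := hU.preimage _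
  obtain ⟨hdom, hic⟩ := sections_normal X φ hU hne
  letI := (gmor X φ).normalization.presheaf.algebra_section_stalk
    (U := (gmor X φ).fromNormalization ⁻¹ᵁ U) ⟨x', hxU⟩
  haveI := hV.isLocalization_stalk ⟨x', hxU⟩
  exact ⟨IsLocalization.isDomain_of_le_nonZeroDivisors _
      (Ideal.primeCompl_le_nonZeroDivisors (hV.primeIdealOf ⟨x', hxU⟩).asIdeal),
    isIntegrallyClosed_of_isLocalization _
      (hV.primeIdealOf ⟨x', hxU⟩).asIdeal.primeCompl (Ideal.primeCompl_le_nonZeroDivisors _)⟩

omit [QuasiCompact (gmor X φ)] [QuasiSeparated (gmor X φ)] in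
theorem germ_stalkClosedPointTo_of_eq (h : Spec (CommRingCat.of K) ⟶ X) (e : h = gmor X φ)
    (U : X.Opens) (hU : h (closedPoint K) ∈ U) (hξ : genericPoint X ∈ U) :
    X.presheaf.germ U _ hU ≫ Scheme.stalkClosedPointTo h =
      X.presheaf.germ U (genericPoint X) hξ ≫ CommRingCat.ofHom φ := by
  subst e
  exact Scheme.germ_stalkClosedPointTo_Spec_fromSpecStalk (CommRingCat.ofHom φ) U hU

theorem comp_eq {U : X.Opens} (hξ : genericPoint X ∈ U)
    (hmem : (gmor X φ).toNormalization (closedPoint K) ∈ (gmor X φ).fromNormalization ⁻¹ᵁ U) :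
    (gmor X φ).fromNormalization.app U ≫
      (gmor X φ).normalization.presheaf.germ _ _ hmem ≫
        Scheme.stalkClosedPointTo (gmor X φ).toNormalization =
      X.presheaf.germ U (genericPoint X) hξ ≫ CommRingCat.ofHom φ := by
  rw [← Scheme.Hom.germ_stalkMap_assoc, ← Scheme.stalkClosedPointTo_comp]
  exact germ_stalkClosedPointTo_of_eq X φ _ (Scheme.Hom.toNormalization_fromNormalization _)
    U hmem hξ

theorem isIntegral_stalkClosedPointTo_germ {U : X.Opens} (hU : IsAffineOpen U)
    (hξ : genericPoint X ∈ U)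
    (hmem : (gmor X φ).toNormalization (closedPoint K) ∈ (gmor X φ).fromNormalization ⁻¹ᵁ U)
    (b : Γ((gmor X φ).normalization, (gmor X φ).fromNormalization ⁻¹ᵁ U)) :
    ∃ q : Polynomial X.functionField, q.Monic ∧ Polynomial.eval₂ φ
      ((Scheme.stalkClosedPointTo (gmor X φ).toNormalization).hom
        (((gmor X φ).normalization.presheaf.germ _ _ hmem).hom b)) q = 0 := by
  obtain ⟨p, hp, hpb⟩ := IsIntegralHom.isIntegral_app (gmor X φ).fromNormalization U hU b
  refine ⟨p.map (X.presheaf.germ U (genericPoint X) hξ).hom, hp.map _, ?_⟩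
  rw [Polynomial.eval₂_map]
  have hc := comp_eq X φ hξ hmem
  have hc' : φ.comp (X.presheaf.germ U (genericPoint X) hξ).hom =
      ((Scheme.stalkClosedPointTo (gmor X φ).toNormalization).hom.comp
        ((gmor X φ).normalization.presheaf.germ _ _ hmem).hom).comp
          ((gmor X φ).fromNormalization.app U).hom := by
    ext a
    exact (congr($(hc).hom a)).symm
  rw [hc']
  have h3 := Polynomial.hom_eval₂ p ((gmor X φ).fromNormalization.app U).hom
    ((Scheme.stalkClosedPointTo (gmor X φ).toNormalization).hom.comp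
        ((gmor X φ).normalization.presheaf.germ _ _ hmem).hom) b
  rw [hpb, map_zero] at h3
  exact h3.symm

theorem affine_model'' {U : X.Opens} (hU : IsAffineOpen U) (hne : (U : Set X).Nonempty)
    (hmem : (gmor X φ).toNormalization (closedPoint K) ∈ (gmor X φ).fromNormalization ⁻¹ᵁ U) :
    letI := (φ.comp (X.presheaf.germ U (genericPoint X)
      (NormAff.genericPoint_mem X hne)).hom).toAlgebra
    ∃ E : Γ((gmor X φ).normalization, (gmor X φ).fromNormalization ⁻¹ᵁ U) ≃+*
        integralClosure Γ(X, U) K,
      (∀ a : Γ(X, U), E (((gmor X φ).fromNormalization.app U).hom a) =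
        algebraMap Γ(X, U) _ a) ∧
      ∀ b, ((E b : integralClosure Γ(X, U) K) : K) =
        (Scheme.stalkClosedPointTo (gmor X φ).toNormalization).hom
          (((gmor X φ).normalization.presheaf.germ _ _ hmem).hom b) := by
  have htop : (gmor X φ) ⁻¹ᵁ U = ⊤ := gmor_preimage_eq_top X φ hne
  have hiso : IsIso ((Spec (CommRingCat.of K)).presheaf.map
      (homOfLE (le_top : (gmor X φ) ⁻¹ᵁ U ≤ ⊤)).op) := by
    have : homOfLE (le_top : (gmor X φ) ⁻¹ᵁ U ≤ ⊤) = eqToHom htop := Subsingleton.elim _ _
    rw [this]; infer_instance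
  let g0 : CommRingCat.of K ⟶ Γ(Spec (CommRingCat.of K), (gmor X φ) ⁻¹ᵁ U) :=
    (Scheme.ΓSpecIso (CommRingCat.of K)).inv ≫
      (Spec (CommRingCat.of K)).presheaf.map (homOfLE le_top).op
  haveI : IsIso g0 := by dsimp only [g0]; infer_instance
  let e : Γ(Spec (CommRingCat.of K), (gmor X φ) ⁻¹ᵁ U) ≃+* K :=
    (asIso g0).symm.commRingCatIsoToRingEquiv
  have hle : (gmor X φ) ⁻¹ᵁ U ≤
      (gmor X φ).toNormalization ⁻¹ᵁ ((gmor X φ).fromNormalization ⁻¹ᵁ U) :=
    le_of_eq (by rw [← Scheme.Hom.comp_preimage, Scheme.Hom.toNormalization_fromNormalization])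
  have key : (gmor X φ).toNormalization.appLE _ _ hle ≫ inv g0 =
      (gmor X φ).normalization.presheaf.germ _ _ hmem ≫
        Scheme.stalkClosedPointTo (gmor X φ).toNormalization := by
    rw [Scheme.germ_stalkClosedPointTo, Scheme.Hom.appLE, Category.assoc]
    congr 1
    rw [IsIso.comp_inv_eq]
    simp only [g0, Iso.trans_hom, Functor.mapIso_hom, Iso.op_hom, eqToIso.hom, Category.assoc,
      Iso.hom_inv_id_assoc]
    rw [← Functor.map_comp]
    rfl
  refine exists_ringEquiv_congr' _ _ _ _ ?_
    (exists_ringEquiv_of_equiv' (gmor X φ) hU hle e) |>.imp fun E hE => ⟨hE.1, fun b => ?_⟩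
  · ext a
    have h1 := congr($(gmor_app_eq X φ hne).hom a)
    show e (((gmor X φ).app U).hom a) = φ _
    rw [h1]
    show (inv g0).hom (g0.hom (φ _)) = φ _
    rw [← CommRingCat.comp_apply, IsIso.hom_inv_id]
    rfl
  · rw [hE.2 b]
    exact congr($(key).hom b)

theorem stalk_isField (s : Spec (CommRingCat.of K)) :
    IsField ((gmor X φ).normalization.presheaf.stalk ((gmor X φ).toNormalization s)) := by
  rw [toNormalization_apply]
  exact Field.toIsField (gmor X φ).normalization.functionField

theorem injective_stalkClosedPointTo :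
    Injective (Scheme.stalkClosedPointTo (gmor X φ).toNormalization).hom := by
  have hF := stalk_isField X φ (closedPoint K)
  refine (injective_iff_map_eq_zero _).2 fun a ha => ?_
  by_contra hne
  obtain ⟨b, hb⟩ := hF.mul_inv_cancel hne
  have := congrArg (Scheme.stalkClosedPointTo (gmor X φ).toNormalization).hom hb
  rw [map_mul, ha, zero_mul, map_one] at this
  exact zero_ne_one this

theorem range_stalkClosedPointTo :
    Set.range (Scheme.stalkClosedPointTo (gmor X φ).toNormalization).hom =
      {y : K | ∃ q : Polynomial X.functionField, q.Monic ∧ Polynomial.eval₂ φ y q = 0} := by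
  obtain ⟨U, hU, hξ⟩ := NormAff.exists_affine_mem X (genericPoint X)
  have hne : (U : Set X).Nonempty := ⟨_, hξ⟩
  have hmem : (gmor X φ).toNormalization (closedPoint K) ∈
      (gmor X φ).fromNormalization ⁻¹ᵁ U := by
    show (gmor X φ).fromNormalization ((gmor X φ).toNormalization (closedPoint K)) ∈ U
    rw [fromNormalization_toNormalization_apply]
    exact hξ
  have hV : IsAffineOpen ((gmor X φ).fromNormalization ⁻¹ᵁ U) := hU.preimage _
  haveI : Nonempty U := ⟨⟨_, hξ⟩⟩
  letI algFK : Algebra X.functionField K := φ.toAlgebra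
  ext y
  simp only [Set.mem_range, Set.mem_setOf_eq]
  constructor
  · rintro ⟨z, rfl⟩
    letI := (gmor X φ).normalization.presheaf.algebra_section_stalk
      (U := (gmor X φ).fromNormalization ⁻¹ᵁ U) ⟨_, hmem⟩
    haveI := hV.isLocalization_stalk ⟨_, hmem⟩
    obtain ⟨⟨b, b'⟩, hbb'⟩ := IsLocalization.surj
      (hV.primeIdealOf ⟨_, hmem⟩).asIdeal.primeCompl z
    have hunit : IsUnit (algebraMap Γ((gmor X φ).normalization,
        (gmor X φ).fromNormalization ⁻¹ᵁ U)
        ((gmor X φ).normalization.presheaf.stalk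
          ((gmor X φ).toNormalization (closedPoint K))) b') :=
      IsLocalization.map_units _ b'
    have h1 : IsIntegral X.functionField
        ((Scheme.stalkClosedPointTo (gmor X φ).toNormalization).hom
          (((gmor X φ).normalization.presheaf.germ _ _ hmem).hom b)) :=
      isIntegral_stalkClosedPointTo_germ X φ hU hξ hmem b
    have h2 : IsIntegral X.functionField
        ((Scheme.stalkClosedPointTo (gmor X φ).toNormalization).hom
          (((gmor X φ).normalization.presheaf.germ _ _ hmem).hom b')) :=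
      isIntegral_stalkClosedPointTo_germ X φ hU hξ hmem b'
    have h3 : (Scheme.stalkClosedPointTo (gmor X φ).toNormalization).hom
          (((gmor X φ).normalization.presheaf.germ _ _ hmem).hom b') ≠ 0 :=
      (hunit.map (Scheme.stalkClosedPointTo (gmor X φ).toNormalization).hom).ne_zero
    have h4 : (Scheme.stalkClosedPointTo (gmor X φ).toNormalization).hom z =
        (Scheme.stalkClosedPointTo (gmor X φ).toNormalization).hom
          (((gmor X φ).normalization.presheaf.germ _ _ hmem).hom b) /
        (Scheme.stalkClosedPointTo (gmor X φ).toNormalization).hom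
          (((gmor X φ).normalization.presheaf.germ _ _ hmem).hom b') := by
      rw [eq_div_iff h3, ← map_mul]
      exact congrArg _ hbb'
    rw [h4]
    have := (algebraicClosure X.functionField K).div_mem
      (mem_algebraicClosure_iff'.2 h1) (mem_algebraicClosure_iff'.2 h2)
    exact mem_algebraicClosure_iff'.1 this
  · rintro ⟨q, hq, hy⟩
    letI algAK : Algebra Γ(X, U) K := (φ.comp (X.presheaf.germ U (genericPoint X)
      (NormAff.genericPoint_mem X hne)).hom).toAlgebra
    haveI : IsScalarTower Γ(X, U) X.functionField K :=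
      IsScalarTower.of_algebraMap_eq (fun a => rfl)
    haveI := functionField_isFractionRing_of_isAffineOpen X U hU
    have hint : IsIntegral X.functionField y := ⟨q, hq, hy⟩
    have halg : IsAlgebraic Γ(X, U) y :=
      (IsFractionRing.isAlgebraic_iff Γ(X, U) X.functionField K).2 hint.isAlgebraic
    obtain ⟨a, ha, hay⟩ := halg.exists_integral_multiple
    obtain ⟨E, hE, hE'⟩ := affine_model'' X φ hU hne hmem
    obtain ⟨b, hb⟩ := E.surjective ⟨a • y, hay⟩
    have h1 : (Scheme.stalkClosedPointTo (gmor X φ).toNormalization).hom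
          (((gmor X φ).normalization.presheaf.germ _ _ hmem).hom b) = a • y := by
      rw [← hE' b, hb]
    have h2 : (Scheme.stalkClosedPointTo (gmor X φ).toNormalization).hom
          (((gmor X φ).normalization.presheaf.germ _ _ hmem).hom
            (((gmor X φ).fromNormalization.app U).hom a)) = algebraMap Γ(X, U) K a :=
      congr($(comp_eq X φ hξ hmem).hom a)
    have hα : algebraMap Γ(X, U) K a ≠ 0 := by
      have hinj : Injective (algebraMap Γ(X, U) K) :=
        φ.injective.comp (IsFractionRing.injective Γ(X, U) X.functionField)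
      exact (map_ne_zero_iff _ hinj).2 ha
    have hF := stalk_isField X φ (closedPoint K)
    have ht : ((gmor X φ).normalization.presheaf.germ _ _ hmem).hom
            (((gmor X φ).fromNormalization.app U).hom a) ≠ 0 := fun h0 =>
      hα (by rw [← h2, h0, map_zero])
    obtain ⟨t', ht'⟩ := hF.mul_inv_cancel ht
    refine ⟨((gmor X φ).normalization.presheaf.germ _ _ hmem).hom b * t', ?_⟩
    rw [map_mul, h1]
    have h3 := congrArg (Scheme.stalkClosedPointTo (gmor X φ).toNormalization).hom ht'
    rw [map_mul, h2, map_one] at h3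
    rw [Algebra.smul_def, mul_comm (algebraMap Γ(X, U) K a) y, mul_assoc, h3, mul_one]

end FieldExt

end Groth.Agent.Lib.Helper12.NormField
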