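import Mathlib

/-!
# Ring-level universal property of the integral closure for locally normal targets (helper12)

`A` a domain with fraction field `B`, `A' = integralClosure A B`.  If `C` is a ring whose
localizations at maximal ideals are integrally closed domains and `φ : A →+* C` is such that all
`A → C_m` are injective, then `φ` extends uniquely to `A'`.
-/

set_option autoImplicit false
universe u

namespace Groth.Agent.Lib.Helper12.NormUnivAlg

variable {A B C : Type*} [CommRing A] [IsDomain A] [CommRing B] [Algebra A B] [IsFractionRing A B]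
  [CommRing C]

/-- hypotheses on the target -/
structure Good (φ : A →+* C) : Prop where
  dom : ∀ (m : Ideal C) [m.IsMaximal], IsDomain (Localization.AtPrime m)
  ic : ∀ (m : Ideal C) [m.IsMaximal], IsIntegrallyClosed (Localization.AtPrime m)
  inj : ∀ (m : Ideal C) [m.IsMaximal],
    Function.Injective ((algebraMap C (Localization.AtPrime m)).comp φ)

variable {φ : A →+* C}

theorem Good.regular (h : Good φ) {b : A} (hb : b ≠ 0) {c : C} (hc : φ b * c = 0) : c = 0 := by
  apply eq_zero_of_localization
  intro m hm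
  haveI := hm
  haveI := h.dom m
  have h1 : algebraMap C (Localization.AtPrime m) (φ b) *
      algebraMap C (Localization.AtPrime m) c = 0 := by
    rw [← map_mul, hc, map_zero]
  rcases mul_eq_zero.mp h1 with h2 | h2
  · exfalso
    apply hb
    apply h.inj m
    rw [map_zero]
    exact h2
  · exact h2

theorem Good.cancel (h : Good φ) {b : A} (hb : b ≠ 0) {c c' : C} (hc : φ b * c = φ b * c') :
    c = c' := by
  have : φ b * (c - c') = 0 := by rw [mul_sub, hc, sub_self]
  exact sub_eq_zero.mp (h.regular hb this)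

/-- the key step: divisibility in `C`, from integral closedness of the localizations -/
theorem Good.exists_mul_eq (h : Good φ) {x : B} (hx : IsIntegral A x) {a b : A} (hb : b ≠ 0)
    (hab : algebraMap A B b * x = algebraMap A B a) : ∃ c : C, φ b * c = φ a := by
  classical
  let I : Ideal C := (Ideal.span {φ b}).colon (Ideal.span {φ a})
  have hI : ∀ s : C, s ∈ I ↔ ∃ c, φ b * c = s * φ a := by
    intro s
    show s ∈ (Ideal.span {φ b}).colon (Ideal.span {φ a}) ↔ _
    rw [Ideal.mem_colon_span_singleton, Ideal.mem_span_singleton']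
    constructor
    · rintro ⟨c, hc⟩
      exact ⟨c, by rw [mul_comm, hc]⟩
    · rintro ⟨c, hc⟩
      exact ⟨c, by rw [mul_comm, hc]⟩
  suffices hone : (1 : C) ∈ I by
    obtain ⟨c, hc⟩ := (hI 1).1 hone
    exact ⟨c, by rw [hc, one_mul]⟩
  by_contra hone
  have hne : I ≠ ⊤ := fun htop => hone (htop ▸ Submodule.mem_top)
  obtain ⟨m, hm, hIm⟩ := Ideal.exists_le_maximal I hne
  haveI := hm
  haveI := h.dom m
  haveI := h.ic m
  let L := Localization.AtPrime m
  let F := FractionRing L
  let g : A →+* F := (algebraMap L F).comp ((algebraMap C L).comp φ)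
  have hg : Function.Injective g :=
    (IsFractionRing.injective L F).comp (h.inj m)
  let θ : B →+* F := IsLocalization.lift (M := nonZeroDivisors A) (g := g)
    (fun y => IsFractionRing.isUnit_map_of_injective hg y)
  have hθ : ∀ a' : A, θ (algebraMap A B a') = g a' := fun a' => IsLocalization.lift_eq _ a'
  have hint : IsIntegral L (θ x) := by
    refine IsIntegral.map_of_comp_eq ((algebraMap C L).comp φ) θ ?_ hx
    ext a'
    exact (hθ a').symm
  obtain ⟨l, hl⟩ := IsIntegrallyClosed.isIntegral_iff.mp hint
  have h1 : l * algebraMap C L (φ b) = algebraMap C L (φ a) := by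
    apply IsFractionRing.injective L F
    rw [map_mul, hl]
    have : θ x * θ (algebraMap A B b) = θ (algebraMap A B a) := by
      rw [← map_mul, mul_comm, hab]
    rw [hθ, hθ] at this
    exact this
  obtain ⟨c', s', rfl⟩ := IsLocalization.exists_mk'_eq m.primeCompl l
  have h2 : algebraMap C L (c' * φ b) = algebraMap C L (φ a * s') := by
    rw [map_mul, map_mul, ← h1, mul_assoc, mul_comm (algebraMap C L (φ b)), ← mul_assoc,
      IsLocalization.mk'_spec]
  obtain ⟨s'', hs''⟩ := (IsLocalization.eq_iff_exists m.primeCompl L).1 h2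
  have hmem : (s'' : C) * (s' : C) ∈ I := by
    rw [hI]
    refine ⟨s'' * c', ?_⟩
    calc φ b * (↑s'' * c') = ↑s'' * (c' * φ b) := by ring
      _ = ↑s'' * (φ a * ↑s') := hs''
      _ = ↑s'' * ↑s' * φ a := by ring
  exact (s'' * s').2 (hIm hmem)

variable (B) in
/-- **Extension to the integral closure.** -/
theorem Good.existsUnique_extension (h : Good φ) :
    ∃! ψ : integralClosure A B →+* C, ψ.comp (algebraMap A (integralClosure A B)) = φ := by
  classical
  have hinjAB : Function.Injective (algebraMap A B) := IsFractionRing.injective A B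
  -- fractions
  have hfrac : ∀ x : integralClosure A B, ∃ p : A × A, p.2 ≠ 0 ∧
      algebraMap A B p.2 * (x : B) = algebraMap A B p.1 := by
    intro x
    obtain ⟨b, a, hab⟩ := IsLocalization.exists_integer_multiple (nonZeroDivisors A) (x : B)
    refine ⟨(a, b), nonZeroDivisors.coe_ne_zero b, ?_⟩
    show algebraMap A B b * (x : B) = algebraMap A B a
    rw [hab, Algebra.smul_def]
  choose P hP1 hP2 using hfrac
  have hex : ∀ x : integralClosure A B, ∃ c : C, φ (P x).2 * c = φ (P x).1 := fun x =>
    h.exists_mul_eq x.2 (hP1 x) (hP2 x)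
  choose ψ₀ hψ₀ using hex
  -- characterization
  have hchar : ∀ (x : integralClosure A B) (a b : A), b ≠ 0 →
      algebraMap A B b * (x : B) = algebraMap A B a → ∀ c : C, (φ b * c = φ a ↔ c = ψ₀ x) := by
    intro x a b hb hab c
    have hrel : b * (P x).1 = (P x).2 * a := by
      apply hinjAB
      rw [map_mul, map_mul, ← hP2 x, ← hab]
      ring
    have key : φ b * ψ₀ x = φ a := by
      apply h.cancel (hP1 x)
      calc φ (P x).2 * (φ b * ψ₀ x) = φ b * (φ (P x).2 * ψ₀ x) := by ring
        _ = φ b * φ (P x).1 := by rw [hψ₀]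
        _ = φ (b * (P x).1) := by rw [map_mul]
        _ = φ ((P x).2 * a) := by rw [hrel]
        _ = φ (P x).2 * φ a := by rw [map_mul]
    constructor
    · intro hc
      exact h.cancel hb (hc.trans key.symm)
    · rintro rfl
      exact key
  have hone : ψ₀ 1 = 1 := by
    refine ((hchar 1 1 1 one_ne_zero (by simp) 1).1 (by simp)).symm
  have hmul : ∀ x y, ψ₀ (x * y) = ψ₀ x * ψ₀ y := by
    intro x y
    refine ((hchar (x * y) ((P x).1 * (P y).1) ((P x).2 * (P y).2)
      (mul_ne_zero (hP1 x) (hP1 y)) ?_ _).1 ?_).symm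
    · show algebraMap A B ((P x).2 * (P y).2) * ((x : B) * (y : B)) = _
      rw [map_mul, map_mul, ← hP2 x, ← hP2 y]
      ring
    · rw [map_mul, map_mul, ← hψ₀ x, ← hψ₀ y]
      ring
  have hadd : ∀ x y, ψ₀ (x + y) = ψ₀ x + ψ₀ y := by
    intro x y
    refine ((hchar (x + y) ((P x).1 * (P y).2 + (P y).1 * (P x).2) ((P x).2 * (P y).2)
      (mul_ne_zero (hP1 x) (hP1 y)) ?_ _).1 ?_).symm
    · show algebraMap A B ((P x).2 * (P y).2) * ((x : B) + (y : B)) = _
      rw [map_add, map_mul, map_mul, map_mul, ← hP2 x, ← hP2 y]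
      ring
    · rw [map_add, map_mul, map_mul, map_mul, ← hψ₀ x, ← hψ₀ y]
      ring
  have hzero : ψ₀ 0 = 0 := by
    refine ((hchar 0 0 1 one_ne_zero (by simp) 0).1 (by simp)).symm
  let ψ : integralClosure A B →+* C :=
    { toFun := ψ₀, map_one' := hone, map_mul' := hmul, map_zero' := hzero, map_add' := hadd }
  refine ⟨ψ, ?_, ?_⟩
  · ext a
    show ψ₀ (algebraMap A (integralClosure A B) a) = φ a
    refine ((hchar (algebraMap A (integralClosure A B) a) a 1 one_ne_zero ?_ (φ a)).1
      (by simp)).symm
    show algebraMap A B 1 * algebraMap A B a = algebraMap A B a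
    simp
  · intro ψ' hψ'
    ext x
    show ψ' x = ψ₀ x
    refine (hchar x (P x).1 (P x).2 (hP1 x) (hP2 x) (ψ' x)).1 ?_
    have e1 : φ (P x).2 = ψ' (algebraMap A (integralClosure A B) (P x).2) := by
      rw [← hψ']; rfl
    have e2 : φ (P x).1 = ψ' (algebraMap A (integralClosure A B) (P x).1) := by
      rw [← hψ']; rfl
    rw [e1, e2, ← map_mul]
    congr 1
    apply Subtype.ext
    exact hP2 x

end Groth.Agent.Lib.Helper12.NormUnivAlg
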