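import Mathlib
import Groth.Prelude.Def_Pi1
import Groth.Prelude.Def_Curv2
import Groth.Agent.Lib.Helper12.NormUnivAlg
import Groth.Agent.Lib.Helper12.NormAff

/-!
# Universal property of the normalization of an integral scheme (helper12)
-/

set_option autoImplicit false
set_option linter.style.haveILetI false
universe u
open AlgebraicGeometry CategoryTheory Limits Topology

namespace Groth.Agent.Lib.Helper12.NormUnivSch

open Groth.Agent.Lib.Helper12.NormUnivAlg

/-- the local hypotheses: normal stalks, injective stalk maps -/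
def GoodSch {P X : Scheme.{u}} (gP : P ⟶ X) : Prop :=
  ∀ z : P, IsDomain (P.presheaf.stalk z) ∧ IsIntegrallyClosed (P.presheaf.stalk z) ∧
    Function.Injective (gP.stalkMap z).hom

theorem GoodSch.comp {P' P X : Scheme.{u}} {gP : P ⟶ X} (h : GoodSch gP) (j : P' ⟶ P)
    [IsOpenImmersion j] : GoodSch (j ≫ gP) := by
  intro z
  obtain ⟨h1, h2, h3⟩ := h (j z)
  let e : P.presheaf.stalk (j z) ≃+* P'.presheaf.stalk z :=
    (asIso (j.stalkMap z)).commRingCatIsoToRingEquiv
  refine ⟨?_, ?_, ?_⟩
  · exact Function.Injective.isDomain e.symm.toRingHom e.symm.injective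
  · exact IsIntegrallyClosed.of_equiv e
  · rw [Scheme.Hom.stalkMap_comp]
    show Function.Injective ((j.stalkMap z).hom ∘ (gP.stalkMap (j z)).hom)
    exact e.injective.comp h3

variable {X : Scheme.{u}} [IsIntegral X]

set_option backward.isDefEq.respectTransparency false in
theorem good_appLE {P : Scheme.{u}} (gP : P ⟶ X) (hg : GoodSch gP) {U : X.Opens}
    [Nonempty U] {T : P.Opens} (hT : IsAffineOpen T) (e : T ≤ gP ⁻¹ᵁ U) :
    Good (gP.appLE U T e).hom := by
  have key : ∀ (m : Ideal Γ(P, T)) [m.IsMaximal], ∃ (z : P) (hz : z ∈ T),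
      letI := P.presheaf.algebra_section_stalk ⟨z, hz⟩
      IsLocalization.AtPrime (P.presheaf.stalk z) m := by
    intro m hm
    let y : PrimeSpectrum Γ(P, T) := ⟨m, hm.isPrime⟩
    have hz : hT.fromSpec y ∈ T := by
      have : hT.fromSpec y ∈ Set.range hT.fromSpec := ⟨y, rfl⟩
      rw [hT.range_fromSpec] at this
      exact this
    exact ⟨hT.fromSpec y, hz, hT.isLocalization_stalk' y hz⟩
  refine ⟨fun m hm => ?_, fun m hm => ?_, fun m hm => ?_⟩
  · obtain ⟨z, hz, hloc⟩ := key m
    letI := P.presheaf.algebra_section_stalk ⟨z, hz⟩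
    haveI := hloc
    haveI := (hg z).1
    let eqv : Localization.AtPrime m ≃ₐ[Γ(P, T)] P.presheaf.stalk z :=
      IsLocalization.algEquiv m.primeCompl _ _
    exact Function.Injective.isDomain eqv.toRingEquiv.toRingHom eqv.injective
  · obtain ⟨z, hz, hloc⟩ := key m
    letI := P.presheaf.algebra_section_stalk ⟨z, hz⟩
    haveI := hloc
    haveI := (hg z).2.1
    let eqv : Localization.AtPrime m ≃ₐ[Γ(P, T)] P.presheaf.stalk z :=
      IsLocalization.algEquiv m.primeCompl _ _
    exact IsIntegrallyClosed.of_equiv eqv.symm.toRingEquiv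
  · obtain ⟨z, hz, hloc⟩ := key m
    letI := P.presheaf.algebra_section_stalk ⟨z, hz⟩
    haveI := hloc
    let eqv : Localization.AtPrime m ≃ₐ[Γ(P, T)] P.presheaf.stalk z :=
      IsLocalization.algEquiv m.primeCompl _ _
    rw [injective_iff_map_eq_zero]
    intro a ha
    have h1 : eqv (algebraMap Γ(P, T) (Localization.AtPrime m) ((gP.appLE U T e).hom a)) = 0 := by
      have : algebraMap Γ(P, T) (Localization.AtPrime m) ((gP.appLE U T e).hom a) = 0 := ha
      rw [this, map_zero]
    rw [AlgEquiv.commutes] at h1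
    have h2 : algebraMap Γ(P, T) (P.presheaf.stalk z) ((gP.appLE U T e).hom a) =
        (gP.stalkMap z).hom (X.presheaf.germ U (gP z) (e hz) a) := by
      show P.presheaf.germ T z hz ((gP.appLE U T e).hom a) = _
      rw [Scheme.Hom.germ_stalkMap_apply]
      simp only [Scheme.Hom.appLE, CommRingCat.hom_comp, RingHom.coe_comp, Function.comp_apply]
      exact P.presheaf.germ_res_apply _ _ _ _
    rw [h2] at h1
    have h3 : X.presheaf.germ U (gP z) (e hz) a = 0 := by
      apply (hg z).2.2
      rw [h1, map_zero]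
    apply germ_injective_of_isIntegral X (gP z) (e hz)
    rw [h3, map_zero]

section main

variable [QuasiCompact (X.fromSpecStalk (genericPoint X))]
  [QuasiSeparated (X.fromSpecStalk (genericPoint X))]

open Groth.Agent.Lib.Helper12.NormAff

set_option backward.isDefEq.respectTransparency false in
/-- ring maps out of the sections of the normalization, versus morphisms -/
theorem comp_eq_iff {P : Scheme.{u}} (gP : P ⟶ X) {U : X.Opens} (hU : IsAffineOpen U)
    {T : P.Opens} (hT : IsAffineOpen T) (e : T ≤ gP ⁻¹ᵁ U)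
    (ρ : Γ((X.fromSpecStalk (genericPoint X)).normalization,
      (X.fromSpecStalk (genericPoint X)).fromNormalization ⁻¹ᵁ U) ⟶ Γ(P, T)) :
    (Spec.map ρ ≫ (hU.preimage (X.fromSpecStalk (genericPoint X)).fromNormalization).fromSpec) ≫
      (X.fromSpecStalk (genericPoint X)).fromNormalization = hT.fromSpec ≫ gP ↔
    (X.fromSpecStalk (genericPoint X)).fromNormalization.app U ≫ ρ = gP.appLE U T e := by
  rw [Category.assoc, ← IsAffineOpen.SpecMap_appLE_fromSpec _ hU
    (hU.preimage (X.fromSpecStalk (genericPoint X)).fromNormalization) le_rfl,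
    ← IsAffineOpen.SpecMap_appLE_fromSpec gP hU hT e, ← Spec.map_comp_assoc,
    cancel_mono, ← Scheme.Hom.app_eq_appLE]
  exact ⟨fun h => Spec.map_injective h, fun h => by rw [h]⟩

set_option backward.isDefEq.respectTransparency false in
theorem exists_local {P : Scheme.{u}} (gP : P ⟶ X) (hg : GoodSch gP) {U : X.Opens}
    (hU : IsAffineOpen U) (hne : (U : Set X).Nonempty) {T : P.Opens} (hT : IsAffineOpen T)
    (e : T ≤ gP ⁻¹ᵁ U) :
    ∃ k : Spec Γ(P, T) ⟶ (X.fromSpecStalk (genericPoint X)).normalization,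
      k ≫ (X.fromSpecStalk (genericPoint X)).fromNormalization = hT.fromSpec ≫ gP := by
  letI := ((X.fromSpecStalk (genericPoint X)).app U).hom.toAlgebra
  haveI := isFractionRing_app X hU hne
  haveI : Nonempty U := ⟨⟨_, hne.some_mem⟩⟩
  have hgood := good_appLE gP hg hT e
  obtain ⟨ψ, hψ, -⟩ := hgood.existsUnique_extension
    (Γ(Spec (X.presheaf.stalk (genericPoint X)), (X.fromSpecStalk (genericPoint X)) ⁻¹ᵁ U))
  let E := (X.fromSpecStalk (genericPoint X)).normalizationObjIso hU
  refine ⟨Spec.map (E.hom ≫ CommRingCat.ofHom ψ) ≫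
    (hU.preimage (X.fromSpecStalk (genericPoint X)).fromNormalization).fromSpec, ?_⟩
  rw [comp_eq_iff gP hU hT e, Scheme.Hom.fromNormalization_app _ hU, Category.assoc,
    Iso.inv_hom_id_assoc]
  ext a
  exact congrFun (congrArg DFunLike.coe hψ) a

set_option backward.isDefEq.respectTransparency false in
theorem unique_local {P : Scheme.{u}} (gP : P ⟶ X) (hg : GoodSch gP) {U : X.Opens}
    (hU : IsAffineOpen U) (hne : (U : Set X).Nonempty) {T : P.Opens} (hT : IsAffineOpen T)
    (e : T ≤ gP ⁻¹ᵁ U)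
    (k₁ k₂ : Spec Γ(P, T) ⟶ (X.fromSpecStalk (genericPoint X)).normalization)
    (h₁ : k₁ ≫ (X.fromSpecStalk (genericPoint X)).fromNormalization = hT.fromSpec ≫ gP)
    (h₂ : k₂ ≫ (X.fromSpecStalk (genericPoint X)).fromNormalization = hT.fromSpec ≫ gP) :
    k₁ = k₂ := by
  letI := ((X.fromSpecStalk (genericPoint X)).app U).hom.toAlgebra
  haveI := isFractionRing_app X hU hne
  haveI : Nonempty U := ⟨⟨_, hne.some_mem⟩⟩
  have hgood := good_appLE gP hg hT e
  obtain ⟨ψ, -, hψu⟩ := hgood.existsUnique_extension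
    (Γ(Spec (X.presheaf.stalk (genericPoint X)), (X.fromSpecStalk (genericPoint X)) ⁻¹ᵁ U))
  let E := (X.fromSpecStalk (genericPoint X)).normalizationObjIso hU
  have hV := hU.preimage (X.fromSpecStalk (genericPoint X)).fromNormalization
  -- every such `k` comes from a ring map
  have key : ∀ k : Spec Γ(P, T) ⟶ (X.fromSpecStalk (genericPoint X)).normalization,
      k ≫ (X.fromSpecStalk (genericPoint X)).fromNormalization = hT.fromSpec ≫ gP →
      k = Spec.map (E.hom ≫ CommRingCat.ofHom ψ) ≫ hV.fromSpec := by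
    intro k hk
    have hrange : Set.range k ⊆ Set.range hV.fromSpec := by
      rw [hV.range_fromSpec]
      rintro _ ⟨x, rfl⟩
      show (X.fromSpecStalk (genericPoint X)).fromNormalization (k x) ∈ U
      rw [← Scheme.Hom.comp_apply, hk, Scheme.Hom.comp_apply]
      apply e
      have : hT.fromSpec x ∈ Set.range hT.fromSpec := ⟨x, rfl⟩
      rw [hT.range_fromSpec] at this
      exact this
    let k' := IsOpenImmersion.lift hV.fromSpec k hrange
    have hk' : k' ≫ hV.fromSpec = k := IsOpenImmersion.lift_fac _ _ _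
    let ρ := Spec.preimage k'
    have hρ : Spec.map ρ = k' := Spec.map_preimage k'
    have h3 : (Spec.map ρ ≫ hV.fromSpec) ≫
        (X.fromSpecStalk (genericPoint X)).fromNormalization = hT.fromSpec ≫ gP := by
      rw [hρ, hk', hk]
    rw [comp_eq_iff gP hU hT e, Scheme.Hom.fromNormalization_app _ hU, Category.assoc] at h3
    have h4 : (E.inv ≫ ρ).hom = ψ := by
      apply hψu
      ext a
      exact congrFun (congrArg (fun (t : Γ(X, U) ⟶ Γ(P, T)) => ⇑t.hom) h3) a
    have h5 : ρ = E.hom ≫ CommRingCat.ofHom ψ := by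
      rw [← h4, CommRingCat.ofHom_hom, Iso.hom_inv_id_assoc]
    rw [← hk', ← hρ, h5]
  rw [key k₁ h₁, key k₂ h₂]

/-- local data around a point -/
theorem exists_charts {P : Scheme.{u}} (gP : P ⟶ X) (z : P) :
    ∃ (U : X.Opens) (T : P.Opens), IsAffineOpen U ∧ (U : Set X).Nonempty ∧ IsAffineOpen T ∧
      z ∈ T ∧ T ≤ gP ⁻¹ᵁ U := by
  obtain ⟨U, hU, hzU⟩ := exists_affine_mem X (gP z)
  have hz' : z ∈ gP ⁻¹ᵁ U := hzU
  obtain ⟨_, ⟨T, hT, rfl⟩, hzT, hTU⟩ := P.isBasis_affineOpens.exists_subset_of_mem_open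
    hz' (gP ⁻¹ᵁ U).2
  exact ⟨U, T, hU, ⟨_, hzU⟩, hT, hzT, hTU⟩

theorem unique_global {P : Scheme.{u}} (gP : P ⟶ X) (hg : GoodSch gP)
    (h₁ h₂ : P ⟶ (X.fromSpecStalk (genericPoint X)).normalization)
    (e₁ : h₁ ≫ (X.fromSpecStalk (genericPoint X)).fromNormalization = gP)
    (e₂ : h₂ ≫ (X.fromSpecStalk (genericPoint X)).fromNormalization = gP) : h₁ = h₂ := by
  apply Scheme.hom_ext_of_forall
  intro z
  obtain ⟨U, T, hU, hne, hT, hzT, hTU⟩ := exists_charts gP z
  refine ⟨T, hzT, ?_⟩
  have : hT.fromSpec ≫ h₁ = hT.fromSpec ≫ h₂ :=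
    unique_local gP hg hU hne hT hTU _ _ (by rw [Category.assoc, e₁])
      (by rw [Category.assoc, e₂])
  rw [← hT.isoSpec_hom_fromSpec, Category.assoc, Category.assoc, this]

set_option backward.isDefEq.respectTransparency false in
theorem exists_global {P : Scheme.{u}} (gP : P ⟶ X) (hg : GoodSch gP) :
    ∃ h : P ⟶ (X.fromSpecStalk (genericPoint X)).normalization,
      h ≫ (X.fromSpecStalk (genericPoint X)).fromNormalization = gP := by
  classical
  choose U T hU hne hT hzT hTU using exists_charts gP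
  have hk : ∀ z, ∃ k : (T z).toScheme ⟶ (X.fromSpecStalk (genericPoint X)).normalization,
      k ≫ (X.fromSpecStalk (genericPoint X)).fromNormalization = (T z).ι ≫ gP := by
    intro z
    obtain ⟨k, hk⟩ := exists_local gP hg (hU z) (hne z) (hT z) (hTU z)
    exact ⟨(hT z).isoSpec.hom ≫ k, by
      rw [Category.assoc, hk, ← Category.assoc, (hT z).isoSpec_hom_fromSpec]⟩
  choose k hk using hk
  let 𝒰 : P.OpenCover := {
    I₀ := P, X i := (T i), f i := (T i).ι,
    mem₀ := by
      rw [Scheme.presieve₀_mem_precoverage_iff]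
      refine ⟨fun x ↦ ⟨x, by simpa using hzT x⟩, inferInstance⟩ }
  refine ⟨𝒰.glueMorphisms k ?_, ?_⟩
  · intro z w
    apply unique_global ((pullback.fst (𝒰.f z) (𝒰.f w) ≫ (T z).ι) ≫ gP) (hg.comp _)
    · rw [Category.assoc, hk, Category.assoc]
    · rw [Category.assoc, hk, Category.assoc]
      exact (pullback.condition_assoc _).symm
  · apply 𝒰.hom_ext
    intro z
    rw [← Category.assoc, 𝒰.ι_glueMorphisms]
    exact hk z

end main

set_option backward.isDefEq.respectTransparency false in
/-- the hypotheses of the universal property imply the local form -/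
theorem goodSch_of_dominant {Z : Scheme.{u}} (g : Z ⟶ X) (hZ : Pi1.IsNormalScheme Z)
    (hdom : ∀ z : Z, closure {z} ∈ irreducibleComponents ↥Z → g.base z = genericPoint ↥X) :
    GoodSch g := by
  intro z
  refine ⟨(hZ z).1, (hZ z).2, ?_⟩
  haveI := (hZ z).1
  -- the generic point of the component through `z`
  let ζ : Z := (Z.fromSpecStalk z) (⟨⊥, Ideal.isPrime_bot⟩ : PrimeSpectrum (Z.presheaf.stalk z))
  have hζz : ζ ⤳ z := by
    have : ζ ∈ Set.range (Z.fromSpecStalk z) := ⟨_, rfl⟩
    rw [Scheme.range_fromSpecStalk] at this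
    exact this
  have hmax : ∀ ζ' : Z, ζ' ⤳ ζ → ζ' = ζ := by
    intro ζ' h
    have h1 : ζ' ∈ Set.range (Z.fromSpecStalk z) := by
      rw [Scheme.range_fromSpecStalk]
      exact h.trans hζz
    obtain ⟨q, rfl⟩ := h1
    have h2 : q ⤳ (⟨⊥, Ideal.isPrime_bot⟩ : PrimeSpectrum (Z.presheaf.stalk z)) :=
      (Z.fromSpecStalk z).isEmbedding.isInducing.specializes_iff.1 h
    have h3 := (PrimeSpectrum.le_iff_specializes _ _).2 h2
    have h4 : q = ⟨⊥, Ideal.isPrime_bot⟩ := PrimeSpectrum.ext (le_bot_iff.mp h3)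
    rw [h4]
  have hcomp : closure {ζ} ∈ irreducibleComponents ↥Z := by
    refine ⟨isIrreducible_singleton.closure, ?_⟩
    intro t ht hle
    have hζt : ζ ∈ t := hle (subset_closure rfl)
    let ξ := ht.genericPoint
    have hξ : closure {ξ} = closure t := ht.isGenericPoint_genericPoint_closure.def
    have h1 : ξ ⤳ ζ := by
      rw [specializes_iff_mem_closure, hξ]
      exact subset_closure hζt
    have h2 := hmax ξ h1
    intro x hx
    rw [← h2, hξ]
    exact subset_closure hx
  have hgζ : g ζ = genericPoint ↥X := hdom ζ hcomp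
  obtain ⟨U, hU, hzU⟩ := Groth.Agent.Lib.Helper12.NormAff.exists_affine_mem X (g z)
  apply hU.stalkMap_injective g z hzU
  intro a ha
  suffices a = 0 by rw [this, map_zero]
  by_contra hane
  have hb : (X.basicOpen a : Set X).Nonempty := by
    rw [Set.nonempty_iff_ne_empty]
    intro hempty
    apply hane
    apply (basicOpen_eq_bot_iff a).1
    ext x
    have : x ∈ (X.basicOpen a : Set X) ↔ x ∈ ((⊥ : X.Opens) : Set X) := by
      rw [hempty]; simp
    exact this
  have hη : g ζ ∈ X.basicOpen a := by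
    rw [hgζ]
    exact Groth.Agent.Lib.Helper12.NormAff.genericPoint_mem X hb
  have hζU : g ζ ∈ U := X.basicOpen_le a hη
  have hζ' : ζ ∈ Z.basicOpen (g.app U a) := by
    rw [← Scheme.preimage_basicOpen]
    exact hη
  have hunit := (Z.mem_basicOpen (g.app U a) ζ hζU).1 hζ'
  have h0 : Z.presheaf.germ (g ⁻¹ᵁ U) ζ hζU (g.app U a) = 0 := by
    have h1 : Z.presheaf.germ (g ⁻¹ᵁ U) z hzU (g.app U a) = 0 := by
      rw [← Scheme.Hom.germ_stalkMap_apply]
      exact ha
    have h2 := TopCat.Presheaf.germ_stalkSpecializes Z.presheaf (U := g ⁻¹ᵁ U) hzU hζz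
    have h3 : Z.presheaf.germ (g ⁻¹ᵁ U) ζ hζU (g.app U a) =
        (Z.presheaf.stalkSpecializes hζz).hom
          (Z.presheaf.germ (g ⁻¹ᵁ U) z hzU (g.app U a)) := by
      rw [← h2]
      rfl
    rw [h3, h1, map_zero]
  rw [h0] at hunit
  exact not_isUnit_zero hunit

end Groth.Agent.Lib.Helper12.NormUnivSch
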