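import Mathlib
import Groth.Agent.Lib.Helper14.TildeExact
import Groth.Agent.Lib.Helper12.OmegaAffine1

/-! The ideal module of `Spec S ⟶ Spec R` is `tilde (ker)`. -/

set_option autoImplicit false
universe u
open CategoryTheory CategoryTheory.Limits AlgebraicGeometry Opposite TopologicalSpace

namespace Groth.Agent.Lib.Helper12.OmegaAffine

variable {R S : CommRingCat.{u}} (q : R ⟶ S)

/-- `q_* O_{Spec S}`. -/
noncomputable abbrev pushUnit : (Spec R).Modules :=
  (Scheme.Modules.pushforward (Spec.map q)).obj (Coh.structureModule (Spec S))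

instance : IsIso (pushUnit q).fromTildeΓ :=
  isIso_fromTildeΓ_pushforward q (Coh.structureModule (Spec S))

/-- `O_{Spec R} ⟶ q_* O_{Spec S}` with source written as a tilde. -/
noncomputable def unitToPush' : (tilde.functor R).obj (ModuleCat.of R R) ⟶ pushUnit q :=
  (tildeSelf (R := R)).hom ≫ ClSub.unitToPush (Spec.map q)

/-- The adjoint map `R ⟶ Γ(q_* O)`. -/
noncomputable def adjMap : ModuleCat.of R R ⟶ moduleSpecΓFunctor.obj (pushUnit q) :=
  (tilde.adjunction (R := R)).homEquiv _ _ (unitToPush' q)

theorem unitToPush'_eq :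
    unitToPush' q = (tilde.functor R).map (adjMap q) ≫
      (tilde.adjunction (R := R)).counit.app (pushUnit q) := by
  exact (((tilde.adjunction (R := R)).homEquiv _ (pushUnit q)).symm_apply_apply
    (unitToPush' q)).symm

theorem adjMap_apply (a : R) :
    (adjMap q).hom a = (Spec.map q).appTop.hom ((Scheme.ΓSpecIso R).inv.hom a) := by
  rfl

theorem ker_adjMap : LinearMap.ker (adjMap q).hom = RingHom.ker q.hom := by
  ext a
  rw [LinearMap.mem_ker, RingHom.mem_ker, adjMap_apply]
  have h1 : (Spec.map q).appTop.hom ((Scheme.ΓSpecIso R).inv.hom a) =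
      (Scheme.ΓSpecIso S).inv.hom (q.hom a) :=
    (congr($(Scheme.ΓSpecIso_inv_naturality q).hom a)).symm
  rw [h1]
  have hinj : Function.Injective (Scheme.ΓSpecIso S).inv.hom :=
    (ConcreteCategory.bijective_of_isIso (Scheme.ΓSpecIso S).inv).1
  exact map_eq_zero_iff _ hinj

/-- The kernel of `O_{Spec R} ⟶ q_* O_{Spec S}` is the tilde of the kernel of `q`. -/
noncomputable def kernelUnitToPushSpecIso :
    kernel (ClSub.unitToPush (Spec.map q)) ≅
      (tilde.functor R).obj (ModuleCat.of R (RingHom.ker q.hom)) :=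
  haveI : IsIso ((tilde.adjunction (R := R)).counit.app (pushUnit q)) :=
    (inferInstance : IsIso (pushUnit q).fromTildeΓ)
  haveI := Groth.Agent.Lib.Helper14.preservesFiniteLimits_tilde R
  (kernelIsIsoComp (tildeSelf (R := R)).hom (ClSub.unitToPush (Spec.map q))).symm ≪≫
    kernelIsoOfEq (unitToPush'_eq q) ≪≫
    kernelCompMono ((tilde.functor R).map (adjMap q))
      ((tilde.adjunction (R := R)).counit.app (pushUnit q)) ≪≫
    (PreservesKernel.iso (tilde.functor R) (adjMap q)).symm ≪≫
    (tilde.functor R).mapIso (ModuleCat.kernelIsoKer (adjMap q) ≪≫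
      (LinearEquiv.ofEq _ _ (ker_adjMap q)).toModuleIso)

end Groth.Agent.Lib.Helper12.OmegaAffine
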