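import Mathlib

/-! `A ⊗_{A'} ker q ≅ (ker q)/(ker q)^2`, and the Kähler differentials. -/

set_option autoImplicit false
universe u
open TensorProduct

namespace Groth.Agent.Lib.Helper12.OmegaAffine

section
variable {A' A : Type u} [CommRing A'] [CommRing A] (q : A' →+* A) (hq : Function.Surjective q)

/-- `q` as a linear map to `A` viewed as an `A'`-module. -/
noncomputable def restrictScalarsLin :
    A' →ₗ[A'] ((ModuleCat.restrictScalars q).obj (ModuleCat.of A A)) where
  toFun r := (q r : A)
  map_add' := map_add q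
  map_smul' r x := by
    rw [smul_eq_mul, map_mul]
    rfl

theorem ker_restrictScalarsLin : LinearMap.ker (restrictScalarsLin q) = RingHom.ker q := by
  ext a
  rw [LinearMap.mem_ker, RingHom.mem_ker]
  rfl

include hq in
theorem restrictScalarsLin_surjective : Function.Surjective (restrictScalarsLin q) := hq

/-- `A` as an `A'`-module via `q` is `A' ⧸ ker q`. -/
noncomputable def restrictScalarsEquivQuot :
    ((ModuleCat.restrictScalars q).obj (ModuleCat.of A A)) ≃ₗ[A'] (A' ⧸ RingHom.ker q) :=
  ((Submodule.quotEquivOfEq _ _ (ker_restrictScalarsLin q).symm).trans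
    ((restrictScalarsLin q).quotKerEquivOfSurjective (restrictScalarsLin_surjective q hq))).symm

/-- The extension of scalars, as an `A`-module. -/
noncomputable abbrev ExtT : ModuleCat A :=
  (ModuleCat.extendScalars q).obj (ModuleCat.of A' ↥(RingHom.ker q))

/-- The underlying tensor product, as an `A'`-module. -/
abbrev XJ : Type u :=
  ((ModuleCat.restrictScalars q).obj (ModuleCat.of A A)) ⊗[A'] ↥(RingHom.ker q)

theorem smul_eq (r : A') (t : XJ q) :
    (q r • (@id ↑(ExtT q) t) : ↑(ExtT q)) = @id ↑(ExtT q) (r • t) := by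
  induction t using TensorProduct.induction_on with
  | zero =>
    show q r • (0 : ↑(ExtT q)) = @id ↑(ExtT q) (r • (0 : XJ q))
    rw [smul_zero, smul_zero]
    rfl
  | tmul b j => rfl
  | add x y hx hy =>
    show q r • ((@id ↑(ExtT q) x) + (@id ↑(ExtT q) y)) = @id ↑(ExtT q) (r • (x + y))
    rw [smul_add, hx, hy, smul_add]
    rfl

/-- Extension of scalars of `ker q` along `q` is the cotangent module. -/
noncomputable def extendScalarsKerLinearEquiv (N : Type u) [AddCommGroup N] [Module A' N]
    [Module A N] (compat : ∀ (r : A') (n : N), q r • n = r • n)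
    (e : (↥(RingHom.ker q) ⧸ ((RingHom.ker q) • (⊤ : Submodule A' ↥(RingHom.ker q)))) ≃ₗ[A'] N) :
    ↑(ExtT q) ≃ₗ[A] N := by
  let ψ : XJ q ≃ₗ[A'] N :=
    (TensorProduct.congr (restrictScalarsEquivQuot q hq) (LinearEquiv.refl A' _)) ≪≫ₗ
      TensorProduct.quotTensorEquivQuotSMul _ (RingHom.ker q) ≪≫ₗ e
  let f : ↑(ExtT q) →ₗ[A] N :=
    { toFun := fun t => ψ t
      map_add' := fun x y => map_add ψ x y
      map_smul' := fun a t => by
        obtain ⟨r, rfl⟩ := hq a
        simp only [RingHom.id_apply]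
        rw [compat, ← map_smul ψ]
        exact congrArg ψ (smul_eq q r t) }
  exact LinearEquiv.ofBijective f ψ.bijective

end

section Kaehler
variable (R A : Type u) [CommRing R] [CommRing A] [Algebra R A]

theorem lmul'_surjective :
    Function.Surjective (Algebra.TensorProduct.lmul' R (S := A)).toRingHom := fun a =>
  ⟨a ⊗ₜ 1, by simp⟩

theorem kaehler_compat (r : A ⊗[R] A) (ω : Ω[A⁄R]) :
    (Algebra.TensorProduct.lmul' R (S := A)).toRingHom r • ω = r • ω := by
  rw [← algebraMap_smul (A ⊗[R] A) ((Algebra.TensorProduct.lmul' R (S := A)).toRingHom r) ω]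
  rw [← sub_eq_zero, ← sub_smul]
  apply Ideal.Cotangent.smul_eq_zero_of_mem (I := KaehlerDifferential.ideal R A)
  rw [RingHom.mem_ker, map_sub, sub_eq_zero, Algebra.TensorProduct.algebraMap_apply]
  simp

/-- `A ⊗_{A ⊗ A} I ≃ Ω`. -/
noncomputable def kaehlerLinearEquiv :
    ↑(ExtT (Algebra.TensorProduct.lmul' R (S := A)).toRingHom) ≃ₗ[A] Ω[A⁄R] :=
  extendScalarsKerLinearEquiv (Algebra.TensorProduct.lmul' R (S := A)).toRingHom
    (lmul'_surjective R A) (Ω[A⁄R]) (kaehler_compat R A)
    (LinearEquiv.refl (A ⊗[R] A) (Ω[A⁄R]))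

end Kaehler

end Groth.Agent.Lib.Helper12.OmegaAffine
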