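import Mathlib
import Groth.Agent.Lib.Helper12.TildePullback
import Groth.Agent.Lib.Helper12.OmegaAffine2
import Groth.Agent.Lib.Helper12.OmegaAffine3

/-! The sheaf of differentials of `Spec A ⟶ Spec R`. -/

set_option autoImplicit false
universe u
open CategoryTheory CategoryTheory.Limits AlgebraicGeometry Opposite TopologicalSpace TensorProduct

namespace Groth.Agent.Lib.Helper12.OmegaAffine

variable (R A : Type u) [CommRing R] [CommRing A] [Algebra R A]

/-- The multiplication map as a morphism of commutative rings. -/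
noncomputable abbrev mulHom : CommRingCat.of (A ⊗[R] A) ⟶ CommRingCat.of A :=
  CommRingCat.ofHom (Algebra.TensorProduct.lmul' R : A ⊗[R] A →ₐ[R] A).toRingHom

theorem diagonal_comp_hom :
    pullback.diagonal (Spec.map (CommRingCat.ofHom (algebraMap R A))) ≫
      (pullbackSpecIso R A A).hom = Spec.map (mulHom R A) := by
  rw [diagonal_SpecMap, Category.assoc, Iso.inv_hom_id, Category.comp_id]

/-- `Ω_{Spec A / Spec R} ≅ tilde Ω_{A/R}`. -/
noncomputable def omegaSpecIso :
    Omega.sheaf (Spec.map (CommRingCat.ofHom (algebraMap R A))) ≅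
      tilde (R := CommRingCat.of A) (ModuleCat.of A (Ω[A⁄R])) :=
  let Δ := pullback.diagonal (Spec.map (CommRingCat.ofHom (algebraMap R A)))
  let e := pullbackSpecIso R A A
  let q := mulHom R A
  -- step 1: replace the ideal module by the kernel
  (Scheme.Modules.pullback Δ).mapIso (idealModIso Δ) ≪≫
  -- step 2: decompose the pullback
  (Scheme.Modules.pullbackCongr (diagonal_SpecMap (R := R) (S := A))).app _ ≪≫
  ((Scheme.Modules.pullbackComp (Spec.map q) e.inv).symm).app _ ≪≫
  -- step 3: compute on `Spec (A ⊗ A)`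
  (Scheme.Modules.pullback (Spec.map q)).mapIso
    ((pullbackInvIsoPushforward e).app _ ≪≫ pushforwardKernelIso Δ e ≪≫
      kernelUnitToPushCongr (diagonal_comp_hom R A) ≪≫ kernelUnitToPushSpecIso q) ≪≫
  -- step 4: pullback of a tilde
  (TildePullback.tildePullbackIso q).app _ ≪≫
  -- step 5: the algebra
  (tilde.functor (CommRingCat.of A)).mapIso
    ((kaehlerLinearEquiv R A).toModuleIso)

end Groth.Agent.Lib.Helper12.OmegaAffine
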