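import Mathlib

/-! One-dimensional local rings: radical, minimal primes, product of localizations. -/

set_option autoImplicit false

namespace Groth.Agent.Lib.Helper12

open IsLocalRing

variable {A : Type*} [CommRing A]

/-- In a local ring of dimension `≤ 1`, an ideal contained in no minimal prime has radical
containing the maximal ideal. -/
theorem maximalIdeal_le_radical_of_forall_not_le [IsLocalRing A] (hdim : ringKrullDim A ≤ 1)
    (J : Ideal A) (hJ : ∀ p ∈ minimalPrimes A, ¬ J ≤ p) : maximalIdeal A ≤ J.radical := by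
  haveI : Ring.KrullDimLE 1 A := Ring.krullDimLE_iff.2 (by simpa using hdim)
  rw [Ideal.radical_eq_sInf]
  refine le_sInf ?_
  rintro q ⟨hJq, hq⟩
  rcases Ring.krullDimLE_one_iff.1 inferInstance q hq with h | h
  · exact absurd hJq (hJ q h)
  · rw [IsLocalRing.eq_maximalIdeal h]

/-- An element of a minimal prime is nilpotent up to an element outside the prime. -/
theorem exists_mul_pow_eq_zero_of_mem_minimalPrimes {p : Ideal A} (hp : p ∈ minimalPrimes A)
    {x : A} (hx : x ∈ p) : ∃ s ∉ p, ∃ N : ℕ, s * x ^ N = 0 := by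
  haveI := hp.1.1
  haveI := IsLocalization.subsingleton_primeSpectrum_of_mem_minimalPrimes p hp
    (Localization.AtPrime p)
  have hnil : IsNilpotent (algebraMap A (Localization.AtPrime p) x) := by
    rw [← mem_nilradical, nilradical_eq_sInf, Ideal.mem_sInf]
    intro q hq
    have h1 : (⟨q, hq⟩ : PrimeSpectrum (Localization.AtPrime p)) =
        ⟨IsLocalRing.maximalIdeal _, inferInstance⟩ := Subsingleton.elim _ _
    have hq' : q = IsLocalRing.maximalIdeal _ := congrArg PrimeSpectrum.asIdeal h1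
    rw [hq', ← IsLocalization.AtPrime.map_eq_maximalIdeal p]
    exact Ideal.mem_map_of_mem _ hx
  obtain ⟨N, hN⟩ := hnil
  rw [← map_pow, IsLocalization.map_eq_zero_iff p.primeCompl] at hN
  obtain ⟨s, hs⟩ := hN
  exact ⟨s.1, s.2, N, hs⟩

/-- For distinct minimal primes `p ≠ q` there is `t ∉ q` mapping to zero in `A_p`. -/
theorem exists_notMem_algebraMap_eq_zero {p q : Ideal A} [p.IsPrime] (hp : p ∈ minimalPrimes A)
    (hq : q ∈ minimalPrimes A) (hpq : p ≠ q) :
    ∃ t ∉ q, algebraMap A (Localization.AtPrime p) t = 0 := by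
  have hnle : ¬ p ≤ q := fun h => hpq (le_antisymm h (hq.2 hp.1 h))
  obtain ⟨x, hxp, hxq⟩ := SetLike.not_le_iff_exists.1 hnle
  obtain ⟨s, hs, N, hN⟩ := exists_mul_pow_eq_zero_of_mem_minimalPrimes hp hxp
  refine ⟨x ^ N, fun h => hxq (hq.1.1.mem_of_pow_mem N h), ?_⟩
  rw [IsLocalization.map_eq_zero_iff p.primeCompl]
  exact ⟨⟨s, hs⟩, hN⟩

/-- The ideal of `s` with `s • ℓ` in the image of `A`. -/
def rangeColon {L : Type*} [CommRing L] [Algebra A L] (ℓ : L) : Ideal A where
  carrier := {s | ∃ b, s • ℓ = algebraMap A L b}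
  add_mem' := by
    rintro s s' ⟨b, hb⟩ ⟨b', hb'⟩
    exact ⟨b + b', by rw [add_smul, hb, hb', map_add]⟩
  zero_mem' := ⟨0, by rw [zero_smul, map_zero]⟩
  smul_mem' := by
    rintro c s ⟨b, hb⟩
    exact ⟨c * b, by rw [smul_eq_mul, mul_smul, hb, map_mul, Algebra.smul_def]⟩

theorem mem_rangeColon {L : Type*} [CommRing L] [Algebra A L] {ℓ : L} {s : A} :
    s ∈ rangeColon (A := A) ℓ ↔ ∃ b, s • ℓ = algebraMap A L b := Iff.rfl

/-- The annihilator ideal of an element. -/
def annIdeal (x : A) : Ideal A where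
  carrier := {s | s * x = 0}
  add_mem' := by
    intro s s' hs hs'
    show (s + s') * x = 0
    rw [add_mul, show s * x = 0 from hs, show s' * x = 0 from hs', add_zero]
  zero_mem' := zero_mul x
  smul_mem' := by
    intro c s hs
    show (c • s) * x = 0
    rw [smul_eq_mul, mul_assoc, show s * x = 0 from hs, mul_zero]

theorem mem_annIdeal {x s : A} : s ∈ annIdeal x ↔ s * x = 0 := Iff.rfl

instance finite_minimalPrimes_subtype [IsNoetherianRing A] :
    Finite {p : PrimeSpectrum A // p.asIdeal ∈ minimalPrimes A} := by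
  haveI : Finite ↥(minimalPrimes A) := (minimalPrimes.finite_of_isNoetherianRing A).to_subtype
  refine Finite.of_injective
    (fun p : {p : PrimeSpectrum A // p.asIdeal ∈ minimalPrimes A} =>
      (⟨p.1.asIdeal, p.2⟩ : ↥(minimalPrimes A))) ?_
  intro p p' h
  exact Subtype.ext (PrimeSpectrum.ext (congrArg Subtype.val h))

/-- Localizing the cokernel of `A → ∏ A_p` at a minimal prime gives zero. -/
theorem exists_smul_eq_algebraMap_of_minimalPrimes [IsNoetherianRing A]
    (ℓ : ∀ p : {p : PrimeSpectrum A // p.asIdeal ∈ minimalPrimes A},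
      Localization.AtPrime p.1.asIdeal)
    (q : {p : PrimeSpectrum A // p.asIdeal ∈ minimalPrimes A}) :
    ∃ s ∉ q.1.asIdeal, ∃ b : A, s • ℓ = algebraMap A _ b := by
  classical
  letI := Fintype.ofFinite {p : PrimeSpectrum A // p.asIdeal ∈ minimalPrimes A}
  have hex : ∀ p : {p : PrimeSpectrum A // p.asIdeal ∈ minimalPrimes A}, p ≠ q →
      ∃ t ∉ q.1.asIdeal, algebraMap A (Localization.AtPrime p.1.asIdeal) t = 0 := by
    intro p hpq
    exact exists_notMem_algebraMap_eq_zero p.2 q.2
      (fun h => hpq (Subtype.ext (PrimeSpectrum.ext h)))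
  let t : {p : PrimeSpectrum A // p.asIdeal ∈ minimalPrimes A} → A :=
    fun p => if h : p = q then 1 else (hex p h).choose
  have ht1 : ∀ p, t p ∉ q.1.asIdeal := by
    intro p
    by_cases h : p = q
    · simp only [t, dif_pos h]
      exact fun h1 => q.1.isPrime.ne_top ((Ideal.eq_top_iff_one _).2 h1)
    · simp only [t, dif_neg h]
      exact (hex p h).choose_spec.1
  have ht2 : ∀ p, p ≠ q → algebraMap A (Localization.AtPrime p.1.asIdeal) (t p) = 0 := by
    intro p h
    simp only [t, dif_neg h]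
    exact (hex p h).choose_spec.2
  set T := ∏ p, t p with hT
  have hTq : T ∉ q.1.asIdeal := by
    intro h
    obtain ⟨p, -, hp⟩ := (q.1.isPrime.prod_mem_iff).1 h
    exact ht1 p hp
  have hTp : ∀ p, p ≠ q → algebraMap A (Localization.AtPrime p.1.asIdeal) T = 0 := by
    intro p h
    rw [hT, map_prod]
    exact Finset.prod_eq_zero (Finset.mem_univ p) (ht2 p h)
  obtain ⟨⟨x, s⟩, hxs⟩ := IsLocalization.mk'_surjective q.1.asIdeal.primeCompl (ℓ q)
  refine ⟨T * s.1, ?_, T * x, ?_⟩
  · intro h
    rcases q.1.isPrime.mem_or_mem h with h | h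
    · exact hTq h
    · exact s.2 h
  · funext p
    rw [Pi.smul_apply, Pi.algebraMap_apply, Algebra.smul_def]
    by_cases h : p = q
    · subst h
      rw [map_mul, map_mul, mul_assoc, ← hxs]
      congr 1
      rw [mul_comm]
      exact IsLocalization.mk'_spec _ x s
    · rw [map_mul, map_mul, hTp p h, zero_mul, zero_mul, zero_mul]

/-- In a one-dimensional Noetherian local ring, a power of any element of the maximal ideal
multiplies a given element of `∏ A_p` into the image of `A`. -/
theorem exists_pow_smul_eq_algebraMap [IsLocalRing A] [IsNoetherianRing A]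
    (hdim : ringKrullDim A ≤ 1)
    (ℓ : ∀ p : {p : PrimeSpectrum A // p.asIdeal ∈ minimalPrimes A},
      Localization.AtPrime p.1.asIdeal)
    {a : A} (ha : a ∈ maximalIdeal A) :
    ∃ N : ℕ, ∃ b : A, a ^ N • ℓ = algebraMap A _ b := by
  have hJ : ∀ p ∈ minimalPrimes A, ¬ rangeColon (A := A) ℓ ≤ p := by
    intro p hp hle
    obtain ⟨s, hs, b, hb⟩ := exists_smul_eq_algebraMap_of_minimalPrimes ℓ ⟨⟨p, hp.1.1⟩, hp⟩
    exact hs (hle ⟨b, hb⟩)
  obtain ⟨N, hN⟩ := maximalIdeal_le_radical_of_forall_not_le hdim _ hJ ha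
  exact ⟨N, hN⟩

end Groth.Agent.Lib.Helper12
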