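import Mathlib
import Groth.Agent.Lib.Helper12.SchemeDimIneq

/-!
# Helper library (helper12): the transcendence degree of a subring of a field over the image of
`ℤ` is at most the transcendence degree of the field over its prime field
-/

set_option autoImplicit false
universe u
open Cardinal

namespace Groth.Agent.Lib.Helper12.PrimeFieldTrdeg

/-- A domain which is a quotient of a Prüfer domain is a Prüfer domain. -/
theorem pruefer_of_surjective {R₁ R₂ : Type*} [CommRing R₁] [CommRing R₂] [IsDomain R₁] [IsDomain R₂]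
    (hR : ∀ (p : Ideal R₁) [p.IsPrime], ValuationRing (Localization.AtPrime p))
    (f : R₁ →+* R₂) (hf : Function.Surjective f) (q : Ideal R₂) [q.IsPrime] :
    ValuationRing (Localization.AtPrime q) := by
  have := hR (q.comap f)
  have hsurj : Function.Surjective (Localization.localRingHom (q.comap f) q f rfl) :=
    RingHom.surjectiveOnStalks_of_surjective hf q inferInstance
  exact Function.Surjective.valuationRing _ hsurj

variable {K : Type u} [Field K] {S : Type u} [CommRing S] {R₀ : Type u} [CommRing R₀]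
  [Algebra R₀ S]

theorem trdeg_bot_le (hs : Function.Surjective (Int.castRingHom R₀)) (j : S →+* K)
    (hj : Function.Injective j) :
    Algebra.trdeg (R₀ ⧸ (⊥ : Ideal S).under R₀) (S ⧸ (⊥ : Ideal S)) ≤
      Algebra.trdeg (⊥ : Subfield K) K := by
  haveI : IsDomain S := hj.isDomain
  set c := (⊥ : Ideal S).under R₀ with hc
  let ψ : (S ⧸ (⊥ : Ideal S)) →+* K := Ideal.Quotient.lift ⊥ j (by
    intro a ha
    rw [Ideal.mem_bot] at ha
    rw [ha, map_zero])
  have hψ : Function.Injective ψ := by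
    rw [Ideal.injective_lift_iff]
    exact (RingHom.injective_iff_ker_eq_bot j).mp hj
  have hinj : Function.Injective (algebraMap (R₀ ⧸ c) (S ⧸ (⊥ : Ideal S))) :=
    Ideal.algebraMap_quotient_injective
  letI aB : Algebra (S ⧸ (⊥ : Ideal S)) K := ψ.toAlgebra
  letI aT : Algebra (R₀ ⧸ c) K := (ψ.comp (algebraMap (R₀ ⧸ c) (S ⧸ (⊥ : Ideal S)))).toAlgebra
  haveI : IsScalarTower (R₀ ⧸ c) (S ⧸ (⊥ : Ideal S)) K :=
    IsScalarTower.of_algebraMap_eq fun _ => rfl
  have hTK : Function.Injective (algebraMap (R₀ ⧸ c) K) := hψ.comp hinj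
  have h1 : Algebra.trdeg (R₀ ⧸ c) (S ⧸ (⊥ : Ideal S)) ≤ Algebra.trdeg (R₀ ⧸ c) K :=
    trdeg_le_of_injective (IsScalarTower.toAlgHom (R₀ ⧸ c) (S ⧸ (⊥ : Ideal S)) K) hψ
  refine h1.trans ?_
  -- the prime field
  have hval : ∀ r : R₀, algebraMap (R₀ ⧸ c) K (Ideal.Quotient.mk c r) = j (algebraMap R₀ S r) :=
    fun r => rfl
  have hint : ∀ k : ℤ, algebraMap (R₀ ⧸ c) K (Ideal.Quotient.mk c (k : R₀)) = (k : K) := by
    intro k
    rw [hval, map_intCast, map_intCast]
  have hmem : ∀ x : R₀ ⧸ c, algebraMap (R₀ ⧸ c) K x ∈ (⊥ : Subfield K) := by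
    intro x
    obtain ⟨r, rfl⟩ := Ideal.Quotient.mk_surjective x
    obtain ⟨k, rfl⟩ := hs r
    show algebraMap (R₀ ⧸ c) K (Ideal.Quotient.mk c ((k : ℤ) : R₀)) ∈ (⊥ : Subfield K)
    rw [hint]
    exact intCast_mem _ k
  let φ₀ : (R₀ ⧸ c) →+* (⊥ : Subfield K) :=
    (algebraMap (R₀ ⧸ c) K).codRestrict (⊥ : Subfield K) hmem
  letI a0 : Algebra (R₀ ⧸ c) (⊥ : Subfield K) := φ₀.toAlgebra
  have htower : ∀ x : R₀ ⧸ c, algebraMap (R₀ ⧸ c) K x =
      algebraMap (⊥ : Subfield K) K (algebraMap (R₀ ⧸ c) (⊥ : Subfield K) x) := fun x => rfl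
  haveI : IsScalarTower (R₀ ⧸ c) (⊥ : Subfield K) K :=
    IsScalarTower.of_algebraMap_eq htower
  have hφ₀ : Function.Injective (algebraMap (R₀ ⧸ c) (⊥ : Subfield K)) := by
    intro a b hab
    apply hTK
    rw [htower, htower, hab]
  haveI : FaithfulSMul (R₀ ⧸ c) (⊥ : Subfield K) :=
    (faithfulSMul_iff_algebraMap_injective _ _).mpr hφ₀
  haveI : FaithfulSMul (⊥ : Subfield K) K := (faithfulSMul_iff_algebraMap_injective _ _).mpr
    (algebraMap (⊥ : Subfield K) K).injective
  haveI : Algebra.IsAlgebraic (R₀ ⧸ c) (⊥ : Subfield K) := by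
    refine ⟨fun z => ?_⟩
    obtain ⟨z, hz⟩ := z
    have hz' := hz
    rw [← Subfield.closure_empty, Subfield.mem_closure_iff] at hz'
    obtain ⟨y, hy, w, hw, rfl⟩ := hz'
    rw [Subring.closure_empty, Subring.mem_bot] at hy hw
    obtain ⟨n, rfl⟩ := hy
    obtain ⟨m, rfl⟩ := hw
    by_cases hm : ((m : ℤ) : K) = 0
    · have h0 : (⟨(n : K) / (m : K), hz⟩ : (⊥ : Subfield K)) = 0 := by
        apply Subtype.ext
        show (n : K) / (m : K) = 0
        rw [hm, div_zero]
      rw [h0]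
      exact isAlgebraic_zero
    · have e1 : ∀ k : ℤ, algebraMap (⊥ : Subfield K) K
          (algebraMap (R₀ ⧸ c) (⊥ : Subfield K) (Ideal.Quotient.mk c (k : R₀))) = (k : K) := by
        intro k
        rw [← htower, hint]
      refine SchemeDimIneq.isAlgebraic_of_fraction _ (Ideal.Quotient.mk c (n : R₀))
        (Ideal.Quotient.mk c (m : R₀)) ?_ ?_
      · intro h0
        apply hm
        have h3 := congrArg (algebraMap (⊥ : Subfield K) K) h0
        rw [map_zero, e1] at h3
        exact h3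
      · apply (algebraMap (⊥ : Subfield K) K).injective
        rw [map_mul, e1, e1]
        show (n : K) / (m : K) * (m : K) = (n : K)
        exact div_mul_cancel₀ _ hm
  have h2 := trdeg_add_eq (R₀ ⧸ c) (⊥ : Subfield K) (A := K)
  rw [trdeg_eq_zero (R := R₀ ⧸ c) (A := (⊥ : Subfield K)), zero_add] at h2
  rw [h2]

end Groth.Agent.Lib.Helper12.PrimeFieldTrdeg
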