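import Mathlib
import Groth.Agent.Lib.Helper12.ProductDim
import Groth.Agent.Lib.Helper12.FlatRelDim
import Groth.Agent.Lib.Helper12.SchemeDimIneq2
import Groth.Agent.Lib.Helper12.BaseChange2

/-!
# Helper library (helper12): local dimension of a product of schemes locally of finite type
over a field
-/

set_option autoImplicit false
universe u
open AlgebraicGeometry CategoryTheory Opposite Limits

namespace Groth.Agent.Lib.Helper12.ProductDim

open Groth.Agent.Lib.Helper12 Groth.Agent.Lib.Helper12.SchemeDimFT
  Groth.Agent.Lib.Helper12.FibreRes Groth.Agent.Lib.Helper12.SchemeDimIneq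

attribute [local instance] Curv2.resAlgebra

/-- `dim_z (X ×_k Y) = dim_x X + dim_y Y`. -/
theorem localDim_pullback (k : Type u) [Field k] {X Y : Scheme.{u}}
    (f : X ⟶ Spec (CommRingCat.of k)) (g : Y ⟶ Spec (CommRingCat.of k))
    [LocallyOfFiniteType f] [LocallyOfFiniteType g] (z : ↥(pullback f g)) :
    FlatMor.localDim ↥(pullback f g) z =
      FlatMor.localDim ↥X (pullback.fst f g z) + FlatMor.localDim ↥Y (pullback.snd f g z) := by
  classical
  haveI : Subsingleton (Spec (CommRingCat.of k)) :=
    inferInstanceAs (Subsingleton (PrimeSpectrum k))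
  haveI : Flat g := inferInstance
  haveI : LocallyOfFiniteType (pullback.fst f g) :=
    MorphismProperty.pullback_fst (P := @LocallyOfFiniteType) f g inferInstance
  haveI : Flat (pullback.fst f g) :=
    MorphismProperty.pullback_fst (P := @Flat) f g inferInstance
  haveI : IsLocallyNoetherian X := LocallyOfFiniteType.isLocallyNoetherian f
  letI ovX : X.Over (Spec (CommRingCat.of k)) := ⟨f⟩
  haveI : LocallyOfFiniteType (X ↘ Spec (CommRingCat.of k)) := ‹LocallyOfFiniteType f›
  letI ovW : (pullback f g : Scheme.{u}).Over (Spec (CommRingCat.of k)) :=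
    ⟨pullback.fst f g ≫ f⟩
  haveI : LocallyOfFiniteType ((pullback f g : Scheme.{u}) ↘ Spec (CommRingCat.of k)) :=
    inferInstanceAs (LocallyOfFiniteType (pullback.fst f g ≫ f))
  set p := pullback.fst f g with hp
  set x := p z with hx
  letI ovF : (p.fiber x).Over (Spec (CommRingCat.of (X.residueField x))) :=
    ⟨p.fiberToSpecResidueField x⟩
  haveI : LocallyOfFiniteType ((p.fiber x) ↘ Spec (CommRingCat.of (X.residueField x))) :=
    locallyOfFiniteType_fiberToSpecResidueField p x
  set z' := p.asFiber z with hz'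
  have hιz : p.fiberι x z' = z := p.fiberι_asFiber z
  obtain ⟨bW, hbW⟩ := exists_ringKrullDim_stalk_eq k (pullback f g : Scheme.{u}) z
  have h1 := localDim_eq k (pullback f g : Scheme.{u}) z _ bW (tr_spec k _ z) hbW
  obtain ⟨bX, hbX⟩ := exists_ringKrullDim_stalk_eq k X x
  have h2 := localDim_eq k X x _ bX (tr_spec k X x) hbX
  obtain ⟨bF, hbF⟩ := exists_ringKrullDim_stalk_eq (X.residueField x) (p.fiber x) z'
  have h3 := localDim_eq (X.residueField x) (p.fiber x) z' _ bF (tr_spec _ _ z') hbF
  have h4 := FlatRelDim.ringKrullDim_stalk_eq_add p z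
  rw [hbW, hbX, hbF] at h4
  have h4' : bW = bX + bF := by exact_mod_cast h4
  have h5 := tr_fiber_add k f p x z'
  rw [hιz] at h5
  have h6 := BaseChange.localDim_of_isPullback_field k (X.residueField x) (Curv2.resMap k X x) g
    _ _ (ProductDim.isPullback_fiber k f g x) z'
  have h7 : (p.fiberι x ≫ pullback.snd f g) z' = pullback.snd f g z := by
    rw [Scheme.Hom.comp_apply, hιz]
  rw [h7] at h6
  rw [h1, ← h6, h3, h2, h5, h4']
  push_cast
  ring

end Groth.Agent.Lib.Helper12.ProductDim
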