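import Mathlib
import Groth.Agent.Lib.Helper12.ImageSys
import Groth.Agent.Lib.Helper12.FpLimit
import Groth.Agent.Lib.Helper12.ProperApprox
import Groth.Agent.Lib.Helper12.ProperDesc

/-!
# Proper morphisms as limits of proper morphisms between schemes of finite type (Stacks 09ZR)

Let `S = lim S_a` (directed, affine transitions, qcqs stages), `w : W₀ ⟶ B` separated of finite
type, `τ : S_a ⟶ B` compatible, and `ι : X ⟶ W₀ ×_B S` a closed immersion with `X ⟶ S` proper.
Then the scheme-theoretic images `Z_a` of `X` in `W₀ ×_B S_a` are proper over `S_a` for all large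
`a` (`exists_proper_stage`).
-/

universe u

open CategoryTheory Limits AlgebraicGeometry TopologicalSpace Opposite

set_option backward.isDefEq.respectTransparency false
set_option linter.style.haveILetI false
set_option linter.unusedSectionVars false

namespace Groth.Agent.Lib.Helper12.ProperLim

open Scheme IdealSheafData Groth.Agent.Lib.Helper12.ClosedApprox
  Groth.Agent.Lib.Helper12.ImageSys Groth.Agent.Lib.Helper12.FpLimit
  Groth.Agent.Lib.Helper12.ProperApprox Groth.Agent.Lib.Helper12.ProperDesc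

/-- Properness of a base change passes to further base changes. -/
lemma isProper_snd_of_isPullback {P X Y T T' : Scheme.{u}} {a : P ⟶ X} {b : P ⟶ T} {f : X ⟶ Y}
    {g : T ⟶ Y} (sq : IsPullback a b f g) [IsProper b] (h : T' ⟶ T) :
    IsProper (pullback.snd f (h ≫ g)) := by
  have hw : pullback.fst f (h ≫ g) ≫ f = (pullback.snd f (h ≫ g) ≫ h) ≫ g := by
    rw [pullback.condition, Category.assoc]
  have sq' : IsPullback (sq.lift (pullback.fst f (h ≫ g)) (pullback.snd f (h ≫ g) ≫ h) hw)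
      (pullback.snd f (h ≫ g)) b h := by
    refine IsPullback.of_right ?_ (sq.lift_snd _ _ _) sq
    rw [sq.lift_fst]
    exact IsPullback.of_hasPullback f (h ≫ g)
  exact MorphismProperty.of_isPullback (P := @IsProper) sq' inferInstance

section

variable {A : Type u} [Preorder A] [IsDirected A (· ≤ ·)] [Nonempty A]
  (DS : Aᵒᵖ ⥤ Scheme.{u}) [∀ {a b : Aᵒᵖ} (m : a ⟶ b), IsAffineHom (DS.map m)]
  [∀ a, CompactSpace (DS.obj a)] [∀ a, QuasiSeparatedSpace (DS.obj a)]
  (cS : Cone DS) (hcS : IsLimit cS)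
  {B W₀ : Scheme.{u}} (τ : DS ⟶ (Functor.const Aᵒᵖ).obj B) (w : W₀ ⟶ B)
  [QuasiSeparated w] [LocallyOfFiniteType w] [QuasiCompact w]
  (σ : cS.pt ⟶ B) (hσ : ∀ a, cS.π.app a ≫ τ.app a = σ) [IsSeparated (pullback.snd w σ)]
  {X : Scheme.{u}} (ι : X ⟶ pullback w σ)

/-- The system of scheme-theoretic images of `X` in the `W₀ ×_B S_a`. -/
noncomputable abbrev ZS : Aᵒᵖ ⥤ Scheme.{u} :=
  imgSys (fbDiagram DS τ w) (fbCone w cS σ hσ) ι

/-- The structure maps `Z_a ⟶ S_a`. -/
noncomputable def stageMap : ZS DS cS τ w σ hσ ι ⟶ DS where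
  app a := (imgι (fbDiagram DS τ w) (fbCone w cS σ hσ) ι).app a ≫ pullback.snd w (τ.app a)
  naturality a b m := by
    have h1 := (imgι (fbDiagram DS τ w) (fbCone w cS σ hσ) ι).naturality m
    rw [reassoc_of% h1, fbDiagram_map_snd, Category.assoc]

lemma stageMap_app (a : Aᵒᵖ) : (stageMap DS cS τ w σ hσ ι).app a =
    (imgι (fbDiagram DS τ w) (fbCone w cS σ hσ) ι).app a ≫ pullback.snd w (τ.app a) := rfl

lemma imgCone_π_stageMap (a : Aᵒᵖ) :
    (imgCone (fbDiagram DS τ w) (fbCone w cS σ hσ) ι).π.app a ≫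
      (stageMap DS cS τ w σ hσ ι).app a = (ι ≫ pullback.snd w σ) ≫ cS.π.app a := by
  rw [stageMap_app]
  have := imgCone_π_imgι (fbDiagram DS τ w) (fbCone w cS σ hσ) ι a
  rw [reassoc_of% this, Category.assoc, fbCone_π_snd]

instance (a : Aᵒᵖ) : CompactSpace ((fbDiagram DS τ w).obj a) :=
  compactSpace_fbDiagram_obj DS τ w a

instance (a : Aᵒᵖ) : QuasiSeparatedSpace ((fbDiagram DS τ w).obj a) :=
  quasiSeparatedSpace_of_quasiSeparated (pullback.snd w (τ.app a))

include hcS in
/-- First step: some `Z_{a₁} ×_{S_{a₁}} S ⟶ S` is proper. -/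
theorem exists_isProper_comap [IsClosedImmersion ι] [IsProper (ι ≫ pullback.snd w σ)] :
    ∃ a₁ : A, IsProper ((Jk (fbDiagram DS τ w) (fbCone w cS σ hσ) ι (op a₁)).subschemeι ≫
      pullback.snd w σ) := by
  classical
  have hcW : IsLimit (fbCone w cS σ hσ) := isLimitFbCone w cS hcS σ hσ
  obtain ⟨a₀⟩ := (inferInstance : Nonempty A)
  haveI : CompactSpace cS.pt := Scheme.compactSpace_of_isLimit DS cS hcS
  haveI : QuasiSeparatedSpace cS.pt := by
    haveI := isAffineHom_π_app DS cS hcS (op a₀)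
    exact quasiSeparatedSpace_of_quasiSeparated (cS.π.app (op a₀))
  haveI : CompactSpace ↥(pullback w σ : Scheme.{u}) :=
    QuasiCompact.compactSpace_of_compactSpace (pullback.snd w σ)
  haveI : QuasiSeparatedSpace ↥(pullback w σ : Scheme.{u}) :=
    quasiSeparatedSpace_of_quasiSeparated (pullback.snd w σ)
  let J : A →o (pullback w σ).IdealSheafData :=
    ⟨fun a => Jk (fbDiagram DS τ w) (fbCone w cS σ hσ) ι (op a),
      fun a b h => Jk_mono (fbDiagram DS τ w) (fbCone w cS σ hσ) ι (homOfLE h).op⟩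
  have hJ : ∀ a, J a ≤ ι.ker := fun a => Jk_le (fbDiagram DS τ w) (fbCone w cS σ hσ) ι (op a)
  have hsup : ι.ker ≤ ⨆ a, J a :=
    (ker_le_iSup_Jk (fbDiagram DS τ w) (fbCone w cS σ hσ) hcW ι).trans
      (iSup_le fun k => le_iSup_of_le k.unop le_rfl)
  obtain ⟨hlim⟩ := nonempty_isLimit_subCone J ι hJ hsup
  obtain ⟨a₁, ha₁⟩ := exists_isProper_subscheme (pullback.snd w σ) ι J hJ hlim
  exact ⟨a₁, ha₁⟩

/-- The comparison map `Z_a ×_{S_a} S_b ⟶ W_b` is a monomorphism. -/
lemma mono_aux {a b : Aᵒᵖ} (m : b ⟶ a) :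
    ∃ g : pullback ((stageMap DS cS τ w σ hσ ι).app a) (DS.map m) ⟶ (fbDiagram DS τ w).obj b,
      Mono g ∧ g ≫ pullback.fst w (τ.app b) =
        pullback.fst _ _ ≫ (imgι (fbDiagram DS τ w) (fbCone w cS σ hσ) ι).app a ≫
          pullback.fst w (τ.app a) ∧
      g ≫ pullback.snd w (τ.app b) = pullback.snd _ _ := by
  have hτ : DS.map m ≫ τ.app a = τ.app b := by
    have := τ.naturality m
    simpa using this
  have hw : (pullback.fst ((stageMap DS cS τ w σ hσ ι).app a) (DS.map m) ≫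
      (imgι (fbDiagram DS τ w) (fbCone w cS σ hσ) ι).app a ≫ pullback.fst w (τ.app a)) ≫ w =
      pullback.snd ((stageMap DS cS τ w σ hσ ι).app a) (DS.map m) ≫ τ.app b := by
    rw [← hτ, ← pullback.condition_assoc, stageMap_app]
    simp only [Category.assoc]
    rw [pullback.condition]
  refine ⟨pullback.lift _ _ hw, ⟨fun {T} u v huv => ?_⟩, pullback.lift_fst _ _ _,
    pullback.lift_snd _ _ _⟩
  have h1 := congr($huv ≫ pullback.fst w (τ.app b))
  have h2 := congr($huv ≫ pullback.snd w (τ.app b))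
  simp only [Category.assoc, pullback.lift_fst, pullback.lift_snd] at h1 h2
  apply pullback.hom_ext
  · rw [← cancel_mono ((imgι (fbDiagram DS τ w) (fbCone w cS σ hσ) ι).app a)]
    apply pullback.hom_ext
    · simp only [Category.assoc]; exact h1
    · have e1 : ∀ t : T ⟶ pullback ((stageMap DS cS τ w σ hσ ι).app a) (DS.map m),
          (t ≫ pullback.fst _ _ ≫ (imgι (fbDiagram DS τ w) (fbCone w cS σ hσ) ι).app a) ≫
            pullback.snd w (τ.app a) = t ≫ pullback.snd _ _ ≫ DS.map m := by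
        intro t
        simp only [Category.assoc]
        rw [← pullback.condition]
        rfl
      simp only [Category.assoc] at e1 ⊢
      rw [e1 u, e1 v, reassoc_of% h2]
  · exact h2

include hcS in
/-- **Properness of the stages**: for all large `a`, `Z_a ⟶ S_a` is proper. -/
theorem exists_proper_stage [IsClosedImmersion ι] [IsProper (ι ≫ pullback.snd w σ)] :
    ∃ a₂ : A, ∀ a, a₂ ≤ a → IsProper ((stageMap DS cS τ w σ hσ ι).app (op a)) := by
  classical
  obtain ⟨a₁, ha₁⟩ := exists_isProper_comap DS cS hcS τ w σ hσ ι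
  obtain ⟨f₀, hf₀⟩ : ∃ f₀, f₀ = (stageMap DS cS τ w σ hσ ι).app (op a₁) := ⟨_, rfl⟩
  let I₁ := img (fbDiagram DS τ w) (fbCone w cS σ hσ) ι (op a₁)
  let e := I₁.comapIso ((fbCone w cS σ hσ).π.app (op a₁))
  have sq1 : IsPullback (Jk (fbDiagram DS τ w) (fbCone w cS σ hσ) ι (op a₁)).subschemeι
      (e.hom ≫ pullback.snd _ _) ((fbCone w cS σ hσ).π.app (op a₁)) I₁.subschemeι :=
    IsPullback.of_iso_pullback
      ⟨by rw [Category.assoc, ← pullback.condition, ← Category.assoc]
          congr 1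
          exact (comapIso_hom_fst I₁ ((fbCone w cS σ hσ).π.app (op a₁))).symm⟩ e
      (comapIso_hom_fst I₁ ((fbCone w cS σ hσ).π.app (op a₁))) rfl
  have sq2 := isPullback_fbCone_π w cS σ hσ (op a₁)
  have hX : IsPullback (e.hom ≫ pullback.snd _ _)
      ((Jk (fbDiagram DS τ w) (fbCone w cS σ hσ) ι (op a₁)).subschemeι ≫ pullback.snd w σ) f₀
      (cS.π.app (op a₁)) := by
    rw [hf₀]
    exact sq1.flip.paste_vert sq2
  have hY : IsPullback (cS.π.app (op a₁)) (𝟙 cS.pt) (𝟙 (DS.obj (op a₁))) (cS.π.app (op a₁)) :=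
    IsPullback.id_vert (cS.π.app (op a₁))
  haveI : ∀ (i j : Aᵒᵖ) (f : i ⟶ j), IsAffineHom (DS.map f) := fun i j f => inferInstance
  haveI : CompactSpace ↥((ZS DS cS τ w σ hσ ι).obj (op a₁)) :=
    QuasiCompact.compactSpace_of_compactSpace I₁.subschemeι
  haveI : QuasiSeparatedSpace ↥((ZS DS cS τ w σ hσ ι).obj (op a₁)) :=
    quasiSeparatedSpace_of_quasiSeparated I₁.subschemeι
  haveI : LocallyOfFiniteType f₀ := by
    rw [hf₀, stageMap_app]; infer_instance
  obtain ⟨i, φ, Xi, Yi, fi, gi, pY, pX, hpY, hpX, hfi⟩ :=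
    descend_isProper DS cS hcS (op a₁) f₀ (𝟙 _) _ (𝟙 _) _ _ hY hX
  haveI : IsIso gi := hpY.isIso_snd_of_isIso
  have sq3 : IsPullback pX (fi ≫ gi) f₀ (DS.map φ) := by
    have := hpX.paste_vert hpY
    rwa [Category.comp_id] at this
  haveI : IsProper (fi ≫ gi) := inferInstance
  refine ⟨i.unop, fun a ha => ?_⟩
  let m' : op a ⟶ i := (homOfLE ha).op
  have key1 : IsProper (pullback.snd f₀ (DS.map m' ≫ DS.map φ)) :=
    isProper_snd_of_isPullback sq3 (DS.map m')
  rw [← DS.map_comp] at key1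
  obtain ⟨m, hm⟩ : ∃ m : op a ⟶ op a₁, m = m' ≫ φ := ⟨_, rfl⟩
  rw [← hm] at key1
  subst hf₀
  obtain ⟨g, hg1, hg2, hg3⟩ := mono_aux DS cS τ w σ hσ ι m
  have hnat := (stageMap DS cS τ w σ hσ ι).naturality m
  let r : (ZS DS cS τ w σ hσ ι).obj (op a) ⟶
      pullback ((stageMap DS cS τ w σ hσ ι).app (op a₁)) (DS.map m) :=
    pullback.lift ((ZS DS cS τ w σ hσ ι).map m) ((stageMap DS cS τ w σ hσ ι).app (op a)) hnat
  have hrg : r ≫ g = (imgι (fbDiagram DS τ w) (fbCone w cS σ hσ) ι).app (op a) := by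
    apply pullback.hom_ext
    · rw [Category.assoc, hg2, pullback.lift_fst_assoc]
      have := (imgι (fbDiagram DS τ w) (fbCone w cS σ hσ) ι).naturality m
      rw [reassoc_of% this, fbDiagram_map_fst]
    · rw [Category.assoc, hg3, pullback.lift_snd]
      rfl
  haveI : IsClosedImmersion (r ≫ g) := by rw [hrg]; infer_instance
  haveI : IsClosedImmersion r := IsClosedImmersion.of_comp r g
  have : (stageMap DS cS τ w σ hσ ι).app (op a) = r ≫ pullback.snd _ _ :=
    (pullback.lift_snd _ _ _).symm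
  rw [this]
  infer_instance

end

end Groth.Agent.Lib.Helper12.ProperLim
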