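import Mathlib
import Groth.Prelude
import Groth.Agent.Lib.Helper12.PtInt
import Groth.Agent.Lib.Helper12.ConnInt
import Groth.Agent.Lib.Helper12.GeomIntOpen
import Groth.Agent.Lib.Helper13.SteinEt

/-!
# Geometrically pointwise integral fibres via the Stein factorisation (Noetherian affine base,
étale ring of global functions)
-/

set_option autoImplicit false
set_option linter.style.haveILetI false
universe u
open CategoryTheory CategoryTheory.Limits AlgebraicGeometry Opposite TopologicalSpace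

namespace Groth.Agent.Lib.Helper12.PtIntStein

open Groth.Agent.Lib.Helper12.PtInt Groth.Agent.Lib.Helper13.SteinEt

/-- base change of an open immersion `j` with `q = j ≫ f₂`. -/
theorem exists_isOpenImmersion_lift {X X₂ S' T Z : Scheme.{u}} (j : X ⟶ X₂) [IsOpenImmersion j]
    (f₂ : X₂ ⟶ S') (q : X ⟶ S') (hq : j ≫ f₂ = q) (z : T ⟶ S')
    (fst : Z ⟶ X) (snd : Z ⟶ T) (h : IsPullback fst snd q z) :
    ∃ l : Z ⟶ pullback f₂ z, IsOpenImmersion l ∧ l ≫ pullback.fst f₂ z = fst ≫ j ∧
      l ≫ pullback.snd f₂ z = snd := by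
  have hcomm : (fst ≫ j) ≫ f₂ = snd ≫ z := by
    rw [Category.assoc, hq]; exact h.w
  obtain ⟨l, hl⟩ : ∃ l : Z ⟶ pullback f₂ z, l = pullback.lift (fst ≫ j) snd hcomm := ⟨_, rfl⟩
  have hl1 : l ≫ pullback.fst f₂ z = fst ≫ j := by rw [hl]; exact pullback.lift_fst _ _ _
  have hl2 : l ≫ pullback.snd f₂ z = snd := by rw [hl]; exact pullback.lift_snd _ _ _
  have sq : IsPullback l fst (pullback.fst f₂ z) j := by
    have big : IsPullback (l ≫ pullback.snd f₂ z) fst z (j ≫ f₂) := by
      rw [hl2, hq]; exact h.flip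
    exact IsPullback.of_right big hl1 (IsPullback.of_hasPullback f₂ z).flip
  exact ⟨l, MorphismProperty.of_isPullback (P := @IsOpenImmersion) sq.flip inferInstance, hl1, hl2⟩

theorem closedPoint_eq {K : Type u} [Field K] (t : Spec (CommRingCat.of K)) :
    t = IsLocalRing.closedPoint K := Subsingleton.elim _ _

section Core

variable {R : Type u} [CommRing R] [IsNoetherianRing R] {X : Scheme.{u}}
  (f : X ⟶ Spec (CommRingCat.of R)) [IsProper f]
  (het : letI : Algebra R Γ(X, ⊤) := (Coh.toGlobal f).toAlgebra; Algebra.Etale R Γ(X, ⊤))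

include het in
/-- the fibres of the Stein factor over a point with geometrically pointwise integral fibre are
geometrically integral. -/
theorem geometricallyIntegral_of_mem_G (s' : Spec Γ(X, ⊤)) (hs' : πB f s' ∈ G f) :
    GeometricallyIntegral (X.toSpecΓ.fiberToSpecResidueField s') := by
  haveI := isOpenImmersion_graph f het
  obtain ⟨-, -, hprop, -, -⟩ := Groth.Agent.Lib.Helper13.HensProper.toSpecΓ_props R f
  haveI := hprop
  haveI := geometricallyConnected_toSpecΓ R f
  have hs2 : s' ∈ G (pullback.snd f (πB f)) :=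
    (mem_G_pullback (IsPullback.of_hasPullback f (πB f)) s').mpr hs'
  refine ⟨fun K _ w Z fst snd h => ?_⟩
  obtain ⟨z, hz⟩ : ∃ z : Spec (CommRingCat.of K) ⟶ Spec Γ(X, ⊤),
      z = w ≫ (Spec Γ(X, ⊤)).fromSpecResidueField s' := ⟨_, rfl⟩
  have hzpt : z (IsLocalRing.closedPoint K) = s' := by
    rw [hz, Scheme.Hom.comp_apply]
    exact Scheme.fromSpecResidueField_apply _ _
  have hbig : IsPullback (fst ≫ X.toSpecΓ.fiberι s') snd X.toSpecΓ z := by
    rw [hz]
    exact h.paste_horiz (IsPullback.of_hasPullback X.toSpecΓ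
      ((Spec Γ(X, ⊤)).fromSpecResidueField s'))
  obtain ⟨l, hlo, -, hl2⟩ := exists_isOpenImmersion_lift (graph f) (pullback.snd f (πB f))
    X.toSpecΓ (graph_snd f) z _ _ hbig
  haveI := hlo
  have hP : PtInt (pullback (pullback.snd f (πB f)) z) :=
    of_fiber (pullback.snd f (πB f)) s' hs2 z hzpt _ _ (IsPullback.of_hasPullback _ _)
  have hPZ : PtInt Z := PtInt.of_isOpenImmersion l hP
  haveI : ConnectedSpace Z :=
    GeometricallyConnected.geometrically_connectedSpace (f := X.toSpecΓ) z _ _ hbig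
  haveI : IsProper snd := MorphismProperty.of_isPullback (P := @IsProper) hbig inferInstance
  haveI : IsLocallyNoetherian Z := LocallyOfFiniteType.isLocallyNoetherian snd
  haveI : CompactSpace Z := QuasiCompact.compactSpace_of_compactSpace snd
  haveI : IsNoetherian Z := {}
  exact Groth.Agent.Lib.Helper12.ConnInt.isIntegral_of_connected hPZ

include het in
/-- if all the fibres of the Stein factor over `y` are geometrically integral, every base change
of `f` to a field over `y` has integral local rings. -/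
theorem ptInt_of_forall_geometricallyIntegral (y : Spec (CommRingCat.of R))
    (H : ∀ s' : Spec Γ(X, ⊤), πB f s' = y →
      GeometricallyIntegral (X.toSpecΓ.fiberToSpecResidueField s'))
    {K : Type u} [Field K] (w : Spec (CommRingCat.of K) ⟶ Spec (CommRingCat.of R))
    (hw : w (IsLocalRing.closedPoint K) = y)
    {W : Scheme.{u}} (fst : W ⟶ X) (snd : W ⟶ Spec (CommRingCat.of K))
    (h : IsPullback fst snd f w) : PtInt W := by
  haveI := isOpenImmersion_graph f het
  intro x'
  obtain ⟨L, _, ι, hιpt⟩ : ∃ (L : Type u) (_ : Field L) (ι : Spec (CommRingCat.of L) ⟶ W),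
      ι (IsLocalRing.closedPoint L) = x' :=
    ⟨W.residueField x', inferInstance, W.fromSpecResidueField x',
      Scheme.fromSpecResidueField_apply _ _⟩
  obtain ⟨a, ha⟩ : ∃ a : Spec (CommRingCat.of L) ⟶ X, a = ι ≫ fst := ⟨_, rfl⟩
  obtain ⟨z, hz⟩ : ∃ z : Spec (CommRingCat.of L) ⟶ Spec Γ(X, ⊤), z = a ≫ X.toSpecΓ := ⟨_, rfl⟩
  obtain ⟨wL, hwL⟩ : ∃ wL : Spec (CommRingCat.of L) ⟶ Spec (CommRingCat.of K), wL = ι ≫ snd :=
    ⟨_, rfl⟩
  have hzw : z ≫ πB f = wL ≫ w := by
    rw [hz, Category.assoc, toSpecΓ_πB, ha, Category.assoc, h.w, hwL, Category.assoc]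
  have hcomm : pullback.fst f (z ≫ πB f) ≫ f = (pullback.snd f (z ≫ πB f) ≫ wL) ≫ w := by
    rw [pullback.condition, Category.assoc, hzw]
  obtain ⟨c, hc⟩ : ∃ c : pullback f (z ≫ πB f) ⟶ W,
      c = h.lift (pullback.fst f (z ≫ πB f)) (pullback.snd f (z ≫ πB f) ≫ wL) hcomm := ⟨_, rfl⟩
  have hc1 : c ≫ fst = pullback.fst f (z ≫ πB f) := by rw [hc]; exact h.lift_fst _ _ _
  have hc2 : c ≫ snd = pullback.snd f (z ≫ πB f) ≫ wL := by rw [hc]; exact h.lift_snd _ _ _
  have sqc : IsPullback c (pullback.snd f (z ≫ πB f)) snd wL := by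
    have big : IsPullback (c ≫ fst) (pullback.snd f (z ≫ πB f)) f (wL ≫ w) := by
      rw [hc1, ← hzw]; exact IsPullback.of_hasPullback f (z ≫ πB f)
    exact IsPullback.of_right big hc2 h
  haveI : Flat wL := by
    obtain ⟨ψ, rfl⟩ := Spec.map_surjective wL
    rw [HasRingHomProperty.Spec_iff (P := @Flat)]
    letI := ψ.hom.toAlgebra
    show Module.Flat K L
    infer_instance
  haveI : Flat c := MorphismProperty.of_isPullback (P := @Flat) sqc.flip inferInstance
  -- the point above `x'`
  have hσcomm : a ≫ f = 𝟙 _ ≫ z ≫ πB f := by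
    rw [Category.id_comp, hz, Category.assoc, toSpecΓ_πB]
  obtain ⟨σ, hσ⟩ : ∃ σ : Spec (CommRingCat.of L) ⟶ pullback f (z ≫ πB f),
      σ = pullback.lift a (𝟙 _) hσcomm := ⟨_, rfl⟩
  have hσ1 : σ ≫ pullback.fst f (z ≫ πB f) = a := by rw [hσ]; exact pullback.lift_fst _ _ _
  have hσ2 : σ ≫ pullback.snd f (z ≫ πB f) = 𝟙 _ := by rw [hσ]; exact pullback.lift_snd _ _ _
  have hσc : σ ≫ c = ι := by
    apply h.hom_ext
    · rw [Category.assoc, hc1, hσ1, ha]
    · rw [Category.assoc, hc2, ← Category.assoc, hσ2, Category.id_comp, hwL]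
  have hx'' : c (σ (IsLocalRing.closedPoint L)) = x' := by
    rw [← Scheme.Hom.comp_apply, hσc]; exact hιpt
  rw [← hx'']
  suffices hdom : IsDomain ((pullback f (z ≫ πB f)).presheaf.stalk
      (σ (IsLocalRing.closedPoint L))) from
    isDomain_stalk_of_injective c _ (stalkMap_injective_of_flat c _)
  -- the open piece
  obtain ⟨l, hlo, hl1, hl2⟩ := exists_isOpenImmersion_lift (graph f) (pullback.snd f (πB f))
    X.toSpecΓ (graph_snd f) z (pullback.fst X.toSpecΓ z) (pullback.snd X.toSpecΓ z)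
    (IsPullback.of_hasPullback _ _)
  haveI := hlo
  obtain ⟨l', hl'⟩ : ∃ l' : pullback X.toSpecΓ z ⟶ pullback f (z ≫ πB f),
      l' = l ≫ (pullbackLeftPullbackSndIso f (πB f) z).hom := ⟨_, rfl⟩
  haveI : IsOpenImmersion l' := by rw [hl']; infer_instance
  have hσ'comm : a ≫ X.toSpecΓ = 𝟙 _ ≫ z := by rw [Category.id_comp, hz]
  obtain ⟨σ', hσ'⟩ : ∃ σ' : Spec (CommRingCat.of L) ⟶ pullback X.toSpecΓ z,
      σ' = pullback.lift a (𝟙 _) hσ'comm := ⟨_, rfl⟩
  have hσ'1 : σ' ≫ pullback.fst X.toSpecΓ z = a := by rw [hσ']; exact pullback.lift_fst _ _ _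
  have hσ'2 : σ' ≫ pullback.snd X.toSpecΓ z = 𝟙 _ := by rw [hσ']; exact pullback.lift_snd _ _ _
  have hσ'l : σ' ≫ l' = σ := by
    apply pullback.hom_ext
    · rw [hσ1, hl', Category.assoc, Category.assoc, pullbackLeftPullbackSndIso_hom_fst,
        ← Category.assoc l, hl1, Category.assoc, graph_fst, Category.comp_id, hσ'1]
    · rw [hσ2, hl', Category.assoc, Category.assoc, pullbackLeftPullbackSndIso_hom_snd, hl2, hσ'2]
  -- integrality of the open piece
  have hπs' : πB f (z (IsLocalRing.closedPoint L)) = y := by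
    rw [← Scheme.Hom.comp_apply, hzw, Scheme.Hom.comp_apply,
      closedPoint_eq (wL (IsLocalRing.closedPoint L))]
    exact hw
  haveI := H _ hπs'
  haveI hZint : IsIntegral (pullback X.toSpecΓ z) :=
    of_fiber (P := IsIntegral) X.toSpecΓ (z (IsLocalRing.closedPoint L))
      (GeometricallyIntegral.geometrically_isIntegral) z rfl _ _ (IsPullback.of_hasPullback _ _)
  have hd : IsDomain ((pullback f (z ≫ πB f)).presheaf.stalk
      (l' (σ' (IsLocalRing.closedPoint L)))) :=
    (isDomain_stalk_of_isOpenImmersion l' (σ' (IsLocalRing.closedPoint L))).mp inferInstance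
  rw [← Scheme.Hom.comp_apply, hσ'l] at hd
  exact hd

include het in
/-- membership in `G f` in terms of the fibres of the Stein factor. -/
theorem mem_G_iff_forall (y : Spec (CommRingCat.of R)) :
    y ∈ G f ↔ ∀ s' : Spec Γ(X, ⊤), πB f s' = y →
      GeometricallyIntegral (X.toSpecΓ.fiberToSpecResidueField s') := by
  constructor
  · intro hy s' hs'
    exact geometricallyIntegral_of_mem_G f het s' (hs' ▸ hy)
  · intro H K _ w' W fst snd h
    obtain ⟨w, hw⟩ : ∃ w : Spec (CommRingCat.of K) ⟶ Spec (CommRingCat.of R),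
        w = w' ≫ (Spec (CommRingCat.of R)).fromSpecResidueField y := ⟨_, rfl⟩
    have hwpt : w (IsLocalRing.closedPoint K) = y := by
      rw [hw, Scheme.Hom.comp_apply]
      exact Scheme.fromSpecResidueField_apply _ _
    have hbig : IsPullback (fst ≫ f.fiberι y) snd f w := by
      rw [hw]
      exact h.paste_horiz (IsPullback.of_hasPullback f
        ((Spec (CommRingCat.of R)).fromSpecResidueField y))
    exact ptInt_of_forall_geometricallyIntegral f het y H w hwpt _ _ hbig

include het in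
/-- **The locus of geometrically pointwise integral fibres is open** when the ring of global
functions is étale over the Noetherian base ring. -/
theorem isOpen_G_of_etale [Flat f] [LocallyOfFinitePresentation f] : IsOpen (G f) := by
  obtain ⟨-, -, hprop, -, -⟩ := Groth.Agent.Lib.Helper13.HensProper.toSpecΓ_props R f
  haveI := hprop
  haveI := flat_toSpecΓ f het
  haveI := lfp_toSpecΓ f het
  haveI : IsFinite (πB f) := by
    letI algB : Algebra R Γ(X, ⊤) := (Coh.toGlobal f).toAlgebra
    have hfin : Module.Finite R Γ(X, ⊤) := finite_gamma f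
    have h1 : (algebraMap R Γ(X, ⊤)).Finite := hfin
    exact (IsFinite.SpecMap_iff _).mpr h1
  have hopen : IsOpen {s' : Spec Γ(X, ⊤) |
      GeometricallyIntegral (X.toSpecΓ.fiberToSpecResidueField s')} :=
    Groth.Agent.Lib.Helper12.GeomIntOpen.isOpen_setOf_geometricallyIntegral X.toSpecΓ
  have hclosed : IsClosed ((πB f) '' {s' : Spec Γ(X, ⊤) |
      GeometricallyIntegral (X.toSpecΓ.fiberToSpecResidueField s')}ᶜ) :=
    (πB f).isClosedMap _ hopen.isClosed_compl
  have heq : G f = ((πB f) '' {s' : Spec Γ(X, ⊤) |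
      GeometricallyIntegral (X.toSpecΓ.fiberToSpecResidueField s')}ᶜ)ᶜ := by
    ext y
    rw [mem_G_iff_forall f het y]
    constructor
    · rintro H ⟨s', hs', rfl⟩
      exact hs' (H s' rfl)
    · intro H s' hs'
      by_contra hcon
      exact H ⟨s', hcon, hs'⟩
  rw [heq]
  exact hclosed.isOpen_compl

end Core

end Groth.Agent.Lib.Helper12.PtIntStein
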