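import Mathlib
import Groth.Prelude
import Groth.Agent.Lib.Helper12.PtIntStein
import Groth.Agent.Lib.Helper12.CompCard
import Groth.Agent.Lib.Helper11.GeomSep

/-!
# Geometrically pointwise integral fibres: characterisation by the numbers of geometric
irreducible and connected components
-/

set_option autoImplicit false
set_option linter.style.haveILetI false
universe u
open CategoryTheory CategoryTheory.Limits AlgebraicGeometry Opposite TopologicalSpace

namespace Groth.Agent.Lib.Helper12.PtIntCard

open Groth.Agent.Lib.Helper12.PtInt Groth.Agent.Lib.Helper12.CompCard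
  Groth.Agent.Lib.Helper12.GeomRedGen

theorem geometricallyReduced_comp_of_isOpenImmersion {U Z S : Scheme.{u}} (j : U ⟶ Z)
    [IsOpenImmersion j] (p : Z ⟶ S) [GeometricallyReduced p] : GeometricallyReduced (j ≫ p) := by
  refine ⟨fun K _ w W fst snd h => ?_⟩
  obtain ⟨l, hlo, -, -⟩ := Groth.Agent.Lib.Helper12.PtIntStein.exists_isOpenImmersion_lift j p
    (j ≫ p) rfl w fst snd h
  haveI := hlo
  haveI : IsReduced (pullback p w) :=
    GeometricallyReduced.geometrically_isReduced (f := p) w _ _ (IsPullback.of_hasPullback _ _)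
  exact isReduced_of_isOpenImmersion l

theorem geometricallyIrreducible_of_isSepClosed {K₀ : Type u} [Field K₀] [IsSepClosed K₀]
    {U : Scheme.{u}} (q : U ⟶ Spec (CommRingCat.of K₀)) [IrreducibleSpace U] :
    GeometricallyIrreducible q := by
  have hbij : Function.Bijective (algebraMap K₀ (SeparableClosure K₀)) :=
    ⟨(algebraMap K₀ (SeparableClosure K₀)).injective,
      IsSepClosed.algebraMap_surjective K₀ (SeparableClosure K₀)⟩
  haveI : IsIso (CommRingCat.ofHom (algebraMap K₀ (SeparableClosure K₀))) :=
    (ConcreteCategory.isIso_iff_bijective _).mpr hbij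
  haveI : IsIso (Spec.map (CommRingCat.ofHom (algebraMap K₀ (SeparableClosure K₀)))) :=
    inferInstance
  haveI : IrreducibleSpace ↥(FBase.bc q (SeparableClosure K₀)) := by
    unfold FBase.bc
    exact (inv (pullback.fst q (Spec.map (CommRingCat.ofHom
      (algebraMap K₀ (SeparableClosure K₀)))))).surjective.irreducibleSpace
        (inv (pullback.fst q _)).continuous
  exact Groth.Agent.Lib.Helper11.GeomSep.geometricallyIrreducible_of_sepClosure q

/-- over a separably closed field, a geometrically reduced scheme of finite type all of whose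
local rings are domains is geometrically pointwise integral. -/
theorem geometrically_ptInt_of_isSepClosed {K₀ : Type u} [Field K₀] [IsSepClosed K₀]
    {Z : Scheme.{u}} (p : Z ⟶ Spec (CommRingCat.of K₀)) [LocallyOfFiniteType p] [QuasiCompact p]
    [GeometricallyReduced p] (hZ : PtInt Z) : geometrically PtInt p := by
  intro K _ w W fst snd h x'
  haveI : IsLocallyNoetherian Z := LocallyOfFiniteType.isLocallyNoetherian p
  haveI : CompactSpace Z := QuasiCompact.compactSpace_of_compactSpace p
  haveI : IsNoetherian Z := {}
  have hd := disjIrr_of_ptInt hZ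
  have hA := irreducibleComponent_mem_irreducibleComponents (fst x')
  have hclopen := isClopen_of_disjIrr hd _ hA
  obtain ⟨U, hU⟩ : ∃ U : Z.Opens, (U : Set Z) = irreducibleComponent (fst x') :=
    ⟨⟨irreducibleComponent (fst x'), hclopen.isOpen⟩, rfl⟩
  have hxU : x' ∈ fst ⁻¹ᵁ U := by
    show fst x' ∈ (U : Set Z)
    rw [hU]; exact mem_irreducibleComponent
  haveI : IrreducibleSpace ↥U.toScheme := by
    have h1 : IsIrreducible (U : Set Z) := by rw [hU]; exact isIrreducible_irreducibleComponent
    exact isIrreducible_iff_irreducibleSpace.mp h1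
  haveI : GeometricallyIrreducible (U.ι ≫ p) := geometricallyIrreducible_of_isSepClosed _
  haveI : GeometricallyReduced (U.ι ≫ p) := geometricallyReduced_comp_of_isOpenImmersion U.ι p
  haveI : GeometricallyIntegral (U.ι ≫ p) :=
    GeometricallyIntegral.of_geometricallyReduced_of_geometricallyIrreducible _
  have hpb : IsPullback (fst ∣_ U) ((fst ⁻¹ᵁ U).ι ≫ snd) (U.ι ≫ p) w :=
    (isPullback_morphismRestrict fst U).paste_vert h
  haveI : IsIntegral (fst ⁻¹ᵁ U).toScheme :=
    GeometricallyIntegral.geometrically_isIntegral (f := U.ι ≫ p) w _ _ hpb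
  have hdom : IsDomain ((fst ⁻¹ᵁ U).toScheme.presheaf.stalk ⟨x', hxU⟩) := inferInstance
  exact (isDomain_stalk_of_isOpenImmersion (fst ⁻¹ᵁ U).ι ⟨x', hxU⟩).mp hdom

/-- **Characterisation of geometrically pointwise integral fibres** by the numbers of geometric
irreducible and connected components. -/
theorem mem_G_iff_card {X Y : Scheme.{u}} (f : X ⟶ Y) [LocallyOfFiniteType f] [QuasiCompact f]
    (y : Y) : y ∈ G f ↔ y ∈ E f ∧ MoreMor.nGeomIrredComp f y = MoreMor.nGeomConnComp f y := by
  obtain ⟨p, hp⟩ : ∃ p : f.fiber y ⟶ Spec (CommRingCat.of ↑(Y.residueField y)),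
      p = f.fiberToSpecResidueField y := ⟨_, rfl⟩
  haveI : LocallyOfFiniteType p := by rw [hp]; infer_instance
  haveI : QuasiCompact p := by rw [hp]; infer_instance
  obtain ⟨a, ha⟩ : ∃ a : Spec (CommRingCat.of (SeparableClosure ↑(Y.residueField y))) ⟶
      Spec (CommRingCat.of ↑(Y.residueField y)),
      a = Spec.map (CommRingCat.ofHom (algebraMap ↑(Y.residueField y)
        (SeparableClosure ↑(Y.residueField y)))) := ⟨_, rfl⟩
  have hZdef : MoreMor.geomFiber f y = pullback p a := by
    rw [hp, ha]; rfl
  have hiff : geometrically PtInt (pullback.snd p a) ↔ geometrically PtInt p := by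
    have H : IsPullback (pullback.fst p a) (pullback.snd p a) p a := IsPullback.of_hasPullback _ _
    rw [ha] at H ⊢
    exact Groth.Agent.Lib.Helper15.geometrically_iff_of_isPullback_field PtInt PtInt.descends
      (CommRingCat.ofHom (algebraMap ↑(Y.residueField y) (SeparableClosure ↑(Y.residueField y))))
      p _ _ H
  haveI : IsLocallyNoetherian (pullback p a) :=
    LocallyOfFiniteType.isLocallyNoetherian (pullback.snd p a)
  haveI : CompactSpace ↥(pullback p a) :=
    QuasiCompact.compactSpace_of_compactSpace (pullback.snd p a)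
  haveI : IsNoetherian (pullback p a) := {}
  have hcount : (MoreMor.nGeomIrredComp f y = MoreMor.nGeomConnComp f y) ↔
      ((irreducibleComponents ↥(pullback p a)).encard =
        ENat.card (_root_.ConnectedComponents ↥(pullback p a))) := by
    unfold MoreMor.nGeomIrredComp MoreMor.nGeomConnComp
    rw [hZdef]
  rw [hcount]
  show geometrically PtInt (f.fiberToSpecResidueField y) ↔ _
  rw [← hp]
  constructor
  · intro hG
    have hE : y ∈ E f := G_subset_E f (by rw [hp] at hG; exact hG)
    refine ⟨hE, ?_⟩
    have hZ : PtInt (pullback p a) := pullback_of_geometrically hG _ a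
    exact encard_eq_of_disjIrr (disjIrr_of_ptInt hZ)
  · rintro ⟨hE, hc⟩
    haveI : GeometricallyReduced p := by rw [hp]; exact hE
    haveI : IsReduced (pullback p a) :=
      GeometricallyReduced.geometrically_isReduced (f := p) a _ _ (IsPullback.of_hasPullback _ _)
    have hZ : PtInt (pullback p a) := ptInt_of_disjIrr (disjIrr_of_encard_eq hc)
    exact hiff.mp (geometrically_ptInt_of_isSepClosed (pullback.snd p a) hZ)

end Groth.Agent.Lib.Helper12.PtIntCard
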