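import Mathlib
import Groth.Prelude
import Groth.Agent.Lib.Helper12.PtIntCard

/-!
# Geometrically pointwise integral schemes of finite type over a field: characterisation over an
algebraically closed extension
-/

set_option autoImplicit false
set_option linter.style.haveILetI false
universe u
open CategoryTheory CategoryTheory.Limits AlgebraicGeometry Opposite TopologicalSpace

namespace Groth.Agent.Lib.Helper12.PtIntCard2

open Groth.Agent.Lib.Helper12.PtInt Groth.Agent.Lib.Helper12.CompCard
  Groth.Agent.Lib.Helper12.PtIntCard

theorem geometrically_ptInt_iff {k : Type u} [Field k] {X : Scheme.{u}}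
    (f : X ⟶ Spec (CommRingCat.of k)) :
    geometrically PtInt f ↔ ∀ x : X, FBase.IsGeomPtIntegralAt f x := by
  rw [geometrically_iff_of_commRing_of_isClosedUnderIsomorphisms]
  constructor
  · intro h x K iF iA x' _
    exact @h K iF iA x'
  · intro h K iF iA x'
    exact @h (@FBase.bcπ _ _ _ f K iF iA x') K iF iA x' rfl

theorem main {k Ω : Type u} [Field k] [Field Ω] [Algebra k Ω] [IsAlgClosed Ω]
    {X : Scheme.{u}} (f : X ⟶ Spec (CommRingCat.of k)) [LocallyOfFiniteType f] [QuasiCompact f] :
    (∀ x : X, FBase.IsGeomPtIntegralAt f x) ↔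
      (GeometricallyReduced f ∧
        Nat.card ↥(irreducibleComponents ↥(FBase.bc f Ω)) =
          Nat.card (_root_.ConnectedComponents ↥(FBase.bc f Ω))) := by
  rw [← geometrically_ptInt_iff]
  obtain ⟨a, ha⟩ : ∃ a : Spec (CommRingCat.of Ω) ⟶ Spec (CommRingCat.of k),
      a = Spec.map (CommRingCat.ofHom (algebraMap k Ω)) := ⟨_, rfl⟩
  have hZdef : FBase.bc f Ω = pullback f a := by rw [ha]; rfl
  rw [hZdef]
  have hiff : geometrically PtInt (pullback.snd f a) ↔ geometrically PtInt f := by
    have H : IsPullback (pullback.fst f a) (pullback.snd f a) f a := IsPullback.of_hasPullback _ _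
    rw [ha] at H ⊢
    exact Groth.Agent.Lib.Helper15.geometrically_iff_of_isPullback_field PtInt PtInt.descends
      (CommRingCat.ofHom (algebraMap k Ω)) f _ _ H
  haveI : IsLocallyNoetherian (pullback f a) :=
    LocallyOfFiniteType.isLocallyNoetherian (pullback.snd f a)
  haveI : CompactSpace ↥(pullback f a) :=
    QuasiCompact.compactSpace_of_compactSpace (pullback.snd f a)
  haveI : IsNoetherian (pullback f a) := {}
  have hfin : (irreducibleComponents ↥(pullback f a)).Finite :=
    NoetherianSpace.finite_irreducibleComponents
  haveI : Finite (irreducibleComponents ↥(pullback f a)) := hfin.to_subtype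
  haveI : Finite (_root_.ConnectedComponents ↥(pullback f a)) :=
    Finite.of_surjective φ φ_surjective
  have hcount : (Nat.card ↥(irreducibleComponents ↥(pullback f a)) =
      Nat.card (_root_.ConnectedComponents ↥(pullback f a))) ↔
      ((irreducibleComponents ↥(pullback f a)).encard =
        ENat.card (_root_.ConnectedComponents ↥(pullback f a))) := by
    rw [← ENat.card_coe_set_eq, ENat.card_eq_coe_natCard, ENat.card_eq_coe_natCard]
    exact Nat.cast_inj.symm
  rw [hcount]
  constructor
  · intro hG
    refine ⟨⟨fun K _ w Z fst snd h => (hG w fst snd h).isReduced⟩, ?_⟩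
    have hZ : PtInt (pullback f a) := pullback_of_geometrically hG _ a
    exact encard_eq_of_disjIrr (disjIrr_of_ptInt hZ)
  · rintro ⟨hE, hc⟩
    haveI := hE
    haveI : IsReduced (pullback f a) :=
      GeometricallyReduced.geometrically_isReduced (f := f) a _ _ (IsPullback.of_hasPullback _ _)
    have hZ : PtInt (pullback f a) := ptInt_of_disjIrr (disjIrr_of_encard_eq hc)
    exact hiff.mp (geometrically_ptInt_of_isSepClosed (pullback.snd f a) hZ)

end Groth.Agent.Lib.Helper12.PtIntCard2
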