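import Mathlib
import Groth.Prelude
import Groth.Agent.Lib.Helper12.PtIntCard
import Groth.Agent.Lib.Helper12.FibreInvCons
import Groth.Agent.Lib.Helper12.GeomRedCons
import Groth.Agent.Lib.Helper12.GeomCompIrr
import Groth.Agent.Lib.Helper12.GeomCompConn
import Groth.Agent.S1334
import Groth.Agent.S1335

/-!
# Local constructibility of the locus of geometrically pointwise integral fibres
-/

set_option autoImplicit false
set_option linter.style.haveILetI false
universe u
open CategoryTheory CategoryTheory.Limits AlgebraicGeometry Opposite TopologicalSpace Topology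

namespace Groth.Agent.Lib.Helper12.PtIntCons

open Groth.Agent.Lib.Helper12.PtInt Groth.Agent.Lib.Helper12.GeomRedGen

open Classical in
/-- indicator of "the numbers of geometric irreducible and connected components agree" -/
noncomputable def N {X S : Scheme.{u}} (f : X ⟶ S) (s : S) : ℕ∞ :=
  if MoreMor.nGeomIrredComp f s = MoreMor.nGeomConnComp f s then 1 else 0

theorem N_eq_one_iff {X S : Scheme.{u}} (f : X ⟶ S) (s : S) :
    N f s = 1 ↔ MoreMor.nGeomIrredComp f s = MoreMor.nGeomConnComp f s := by
  unfold N
  split_ifs with h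
  · simp [h]
  · simp [h]

theorem isLocallyConstructible_card_eq {X Y : Scheme.{u}} (f : X ⟶ Y) [QuasiCompact f]
    [QuasiSeparated f] [LocallyOfFinitePresentation f] :
    IsLocallyConstructible {y : Y | MoreMor.nGeomIrredComp f y = MoreMor.nGeomConnComp f y} := by
  have h := Groth.Agent.Lib.Helper12.FibreInvCons.isLocallyConstructible_level
    (fun {X S} f s => N f s)
    (fun {X Y X' Y' f g f' g'} hc y' => by
      show N f' y' = N f (g y')
      unfold N
      rw [Groth.Agent.S1334.result f f' g' g hc y', Groth.Agent.S1335.result f f' g' g hc y'])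
    (fun {X S} f _ _ _ _ => by
      obtain ⟨V₁, hη₁, hV₁⟩ :=
        Groth.Agent.Lib.Helper12.GeomCompIrr.nGeomIrredComp_const_near_generic f
      obtain ⟨V₂, hη₂, hV₂⟩ :=
        Groth.Agent.Lib.Helper12.GeomCompConn.nGeomConnComp_const_near_generic f
      refine ⟨V₁ ⊓ V₂, ⟨hη₁, hη₂⟩, fun s hs => ?_⟩
      show N f s = N f (genericPoint S)
      unfold N
      rw [hV₁ s hs.1, hV₂ s hs.2])
    1 f
  have heq : {y : Y | MoreMor.nGeomIrredComp f y = MoreMor.nGeomConnComp f y} =
      {y | N f y = 1} := by
    ext y
    exact (N_eq_one_iff f y).symm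
  rw [heq]
  exact h

theorem isLocallyConstructible_G {X Y : Scheme.{u}} (f : X ⟶ Y) [QuasiCompact f]
    [QuasiSeparated f] [LocallyOfFinitePresentation f] : IsLocallyConstructible (G f) := by
  have heq : G f = E f ∩ {y : Y | MoreMor.nGeomIrredComp f y = MoreMor.nGeomConnComp f y} := by
    ext y
    exact Groth.Agent.Lib.Helper12.PtIntCard.mem_G_iff_card f y
  rw [heq]
  exact (Groth.Agent.Lib.Helper12.GeomRedCons.isLocallyConstructible_E f).inter
    (isLocallyConstructible_card_eq f)

theorem main {X S : Scheme.{u}} (f : X ⟶ S)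
    [LocallyOfFinitePresentation f] [QuasiCompact f] [QuasiSeparated f] :
    IsLocallyConstructible {s : S |
      ∀ x : ↥(f.fiber s), FBase.IsGeomPtIntegralAt (f.fiberToSpecResidueField s) x} := by
  have h : {s : S | ∀ x : ↥(f.fiber s),
      FBase.IsGeomPtIntegralAt (f.fiberToSpecResidueField s) x} = G f := by
    ext y
    exact (mem_G_iff f y).symm
  rw [h]
  exact isLocallyConstructible_G f

end Groth.Agent.Lib.Helper12.PtIntCons
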