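import Mathlib
import Groth.Prelude
import Groth.Agent.Lib.Helper12.PtIntStein
import Groth.Agent.Lib.Helper12.FlatProperApprox
import Groth.Agent.Lib.Helper13.SteinEtMain

/-!
# Openness of the locus of geometrically pointwise integral fibres of a proper flat morphism of
finite presentation (EGA IV 12.2.4)
-/

set_option autoImplicit false
set_option linter.style.haveILetI false
universe u
open CategoryTheory CategoryTheory.Limits AlgebraicGeometry Opposite TopologicalSpace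

namespace Groth.Agent.Lib.Helper12.PtIntOpen

open Groth.Agent.Lib.Helper12.PtInt Groth.Agent.Lib.Helper12.PtIntStein

/-- Noetherian affine base, ring of global functions étale over the base. -/
theorem isOpen_G_of_affine_etale {X S : Scheme.{u}} [IsAffine S] [IsNoetherianRing Γ(S, ⊤)]
    (f : X ⟶ S) [IsProper f] [Flat f] [LocallyOfFinitePresentation f]
    (het : f.appTop.hom.Etale) : IsOpen (G f) := by
  obtain ⟨F, hF⟩ : ∃ F : X ⟶ Spec (CommRingCat.of ↑Γ(S, ⊤)), F = f ≫ S.isoSpec.hom := ⟨_, rfl⟩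
  haveI : IsProper F := by rw [hF]; infer_instance
  haveI : Flat F := by rw [hF]; infer_instance
  haveI : LocallyOfFinitePresentation F := by rw [hF]; infer_instance
  have happ : F.appTop = S.isoSpec.hom.appTop ≫ f.appTop := by
    rw [hF, Scheme.Hom.comp_appTop]
  have hiso : S.isoSpec.hom.appTop = (Scheme.ΓSpecIso Γ(S, ⊤)).hom := by
    rw [Scheme.isoSpec_hom]; exact Scheme.toSpecΓ_appTop S
  have hφ : Coh.toGlobal F = f.appTop.hom := by
    ext x
    show F.appTop.hom ((Scheme.ΓSpecIso (CommRingCat.of ↑Γ(S, ⊤))).inv.hom x) = f.appTop.hom x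
    rw [happ, hiso]
    show f.appTop.hom ((Scheme.ΓSpecIso Γ(S, ⊤)).hom.hom
      ((Scheme.ΓSpecIso Γ(S, ⊤)).inv.hom x)) = _
    congr 1
    exact congrArg (fun m : Γ(S, ⊤) ⟶ Γ(S, ⊤) => m.hom x) (Scheme.ΓSpecIso Γ(S, ⊤)).inv_hom_id
  have het' : letI : Algebra ↑Γ(S, ⊤) Γ(X, ⊤) := (Coh.toGlobal F).toAlgebra
      Algebra.Etale ↑Γ(S, ⊤) Γ(X, ⊤) := by
    rw [hφ]; exact het
  have hsqF : IsPullback (𝟙 X) f F S.isoSpec.hom :=
    IsPullback.of_horiz_isIso ⟨by rw [hF, Category.id_comp]⟩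
  have h1 : IsOpen (G F) := isOpen_G_of_etale F het'
  have h2 : G f = S.isoSpec.hom ⁻¹' (G F) := by
    ext y; exact mem_G_pullback hsqF y
  rw [h2]
  exact h1.preimage S.isoSpec.hom.continuous

/-- Noetherian affine base. -/
theorem isOpen_G_of_isNoetherian {X S : Scheme.{u}} [IsAffine S] [IsNoetherian S] (f : X ⟶ S)
    [Flat f] [IsProper f] [LocallyOfFinitePresentation f] : IsOpen (G f) := by
  rw [isOpen_iff_forall_mem_open]
  intro y₀ hy₀
  have hy₀E : y₀ ∈ Groth.Agent.Lib.Helper12.GeomRedGen.E f := G_subset_E f hy₀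
  obtain ⟨V₀, hyV₀, hV₀⟩ := Groth.Agent.Lib.Helper13.SteinEtMain.noeth_local f y₀ hy₀E
  obtain ⟨_, ⟨U, hU, rfl⟩, hyU, hUV⟩ :=
    S.isBasis_affineOpens.exists_subset_of_mem_open hyV₀ V₀.2
  obtain ⟨U, rfl⟩ : ∃ U' : S.Opens, U' = U := ⟨U, rfl⟩
  haveI : IsAffine U.toScheme := hU
  obtain ⟨het, -⟩ := hV₀ U.ι (pullback.snd f U.ι) (pullback.fst f U.ι)
    (IsPullback.of_hasPullback f U.ι) (by rw [Scheme.Opens.range_ι]; exact hUV)
  haveI : IsLocallyNoetherian U.toScheme := inferInstance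
  haveI : IsNoetherianRing Γ(U.toScheme, ⊤) :=
    IsLocallyNoetherian.component_noetherian ⟨⊤, isAffineOpen_top _⟩
  have h1 : IsOpen (G (pullback.snd f U.ι)) := isOpen_G_of_affine_etale _ het
  have h3 : U.ι ⁻¹' (G f) = G (pullback.snd f U.ι) := by
    ext z
    exact (mem_G_pullback (IsPullback.of_hasPullback f U.ι) z).symm
  refine ⟨U.ι '' (U.ι ⁻¹' G f), Set.image_preimage_subset _ _,
    U.ι.isOpenEmbedding.isOpenMap _ (h3 ▸ h1), ⟨⟨y₀, hyU⟩, hy₀, rfl⟩⟩

/-- **EGA IV 12.2.4**: the locus of geometrically pointwise integral fibres of a proper flat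
morphism of finite presentation is open. -/
theorem isOpen_G {X Y : Scheme.{u}} (f : X ⟶ Y) [Flat f] [IsProper f]
    [LocallyOfFinitePresentation f] : IsOpen (G f) := by
  rw [isOpen_iff_forall_mem_open]
  intro y hy
  obtain ⟨_, ⟨V, hV, rfl⟩, hyV, -⟩ :=
    Y.isBasis_affineOpens.exists_subset_of_mem_open (Set.mem_univ y) isOpen_univ
  obtain ⟨V, rfl⟩ : ∃ V' : Y.Opens, V' = V := ⟨V, rfl⟩
  let h : pullback f V.ι ⟶ V.toScheme := pullback.snd f V.ι
  obtain ⟨S₀, X₀, f₀, g, g', hS₀, hN, hsq, _, _, _⟩ :=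
    Groth.Agent.Lib.Helper12.FlatProperApprox.exists_model V hV h
  have h1 : IsOpen (G f₀) := isOpen_G_of_isNoetherian f₀
  have h2 : G h = g ⁻¹' (G f₀) := by
    ext z
    exact mem_G_pullback hsq z
  have h3 : V.ι ⁻¹' (G f) = G h := by
    ext z
    exact (mem_G_pullback (IsPullback.of_hasPullback f V.ι) z).symm
  have h4 : IsOpen (V.ι ⁻¹' (G f)) := by
    rw [h3, h2]
    exact h1.preimage g.continuous
  refine ⟨V.ι '' (V.ι ⁻¹' (G f)), Set.image_preimage_subset _ _,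
    V.ι.isOpenEmbedding.isOpenMap _ h4, ⟨⟨y, hyV⟩, hy, rfl⟩⟩

theorem main {X Y : Scheme.{u}} (f : X ⟶ Y) [IsProper f] [Flat f]
    [LocallyOfFinitePresentation f] :
    IsOpen {y : Y | ∀ x : ↥(f.fiber y),
      FBase.IsGeomPtIntegralAt (f.fiberToSpecResidueField y) x} := by
  have h : {y : Y | ∀ x : ↥(f.fiber y),
      FBase.IsGeomPtIntegralAt (f.fiberToSpecResidueField y) x} = G f := by
    ext y
    exact (mem_G_iff f y).symm
  rw [h]
  exact isOpen_G f

end Groth.Agent.Lib.Helper12.PtIntOpen
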