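import Mathlib
import Groth.Prelude.Def_Mor2
import Groth.Prelude.Def_MoreMor
import Groth.Agent.Lib.Helper11.QALib

/-!
# Quasi-affine morphisms are stable under base change
-/

set_option autoImplicit false
universe u
open CategoryTheory CategoryTheory.Limits AlgebraicGeometry

namespace Groth.Agent.Lib.Helper12.QAffBC

open Groth.Agent.Lib.Helper11.QALib

theorem qa_of_isIso {X Y : Scheme.{u}} (f : X ⟶ Y) [IsIso f] : Mor2.IsQuasiAffine f := by
  refine ⟨inferInstance, fun V hV => ?_⟩
  haveI : IsAffine (f ⁻¹ᵁ V : Scheme.{u}) := hV.preimage f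
  infer_instance

/-- The morphism property of being quasi-affine. -/
def qaProp : MorphismProperty Scheme.{u} := fun _ _ f => Mor2.IsQuasiAffine f

instance : (qaProp.{u}).RespectsIso := by
  apply MorphismProperty.RespectsIso.mk
  · intro X Y Z e f hf
    exact qa_comp e.hom f (qa_of_isIso e.hom) hf
  · intro X Y Z e f hf
    exact qa_comp f e.hom hf (qa_of_isIso e.hom)

instance : (qaProp.{u}).IsStableUnderBaseChange := by
  apply MorphismProperty.IsStableUnderBaseChange.mk'
  intro X Y S f g _ hg
  have h1 : qaProp (pullback.snd g f) := qa_baseChange g hg f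
  have h2 : qaProp ((pullbackSymmetry f g).hom ≫ pullback.snd g f) :=
    MorphismProperty.RespectsIso.precomp qaProp _ _ h1
  rwa [pullbackSymmetry_hom_comp_snd] at h2

end Groth.Agent.Lib.Helper12.QAffBC
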