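import Mathlib
import Groth.Prelude.Def_Found
import Groth.Prelude.Def_EGA43
import Groth.Agent.Lib.Helper12.AffSpace

/-!
# Helper library (helper12): sections defining a morphism to affine space which is quasi-finite
at a point (EGA IV 13.3.1)
-/

set_option autoImplicit false
universe u
open AlgebraicGeometry CategoryTheory Opposite Limits

namespace Groth.Agent.Lib.Helper12.QFSections

open Groth.Agent.Lib.Helper12 Groth.Agent.Lib.Helper12.SchemeDimFT
open Groth.Agent.Lib.Helper12.SchemeDimIneq Groth.Agent.Lib.Helper12.ChevalleyCor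
open Groth.Agent.Lib.Helper12.FibreMax Groth.Agent.Lib.Helper12.OpenFibre

section Indep

variable {W T S : Scheme.{u}} (g : W ⟶ T) (π : T ⟶ S)

/-- Sections of `T` whose pullbacks have algebraically independent values at `x` bound the
transcendence degree of `g x` from below. -/
theorem le_trn_of_algebraicIndependent (x : W) {ι : Type} [Fintype ι] (c : ι → Γ(T, ⊤))
    (h : letI := ((g ≫ π).residueFieldMap x).hom.toAlgebra
      AlgebraicIndependent (S.residueField ((g ≫ π) x))
        (fun i => (W.Γevaluation x).hom ((g.appTop).hom (c i)))) :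
    (Fintype.card ι : ℕ∞) ≤ trn π (g x) := by
  unfold trn
  letI a1 : Algebra (S.residueField (π (g x))) (T.residueField (g x)) :=
    (π.residueFieldMap (g x)).hom.toAlgebra
  letI a2 : Algebra (T.residueField (g x)) (W.residueField x) :=
    (g.residueFieldMap x).hom.toAlgebra
  letI a3 : Algebra (S.residueField (π (g x))) (W.residueField x) :=
    ((g ≫ π).residueFieldMap x).hom.toAlgebra
  have hcomp : (g ≫ π).residueFieldMap x = π.residueFieldMap (g x) ≫ g.residueFieldMap x :=
    Scheme.residueFieldMap_comp g π x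
  haveI : IsScalarTower (S.residueField (π (g x))) (T.residueField (g x)) (W.residueField x) :=
    IsScalarTower.of_algebraMap_eq (fun r => by
      show ((g ≫ π).residueFieldMap x).hom r = _
      rw [hcomp]
      rfl)
  let ψ : T.residueField (g x) →ₐ[S.residueField (π (g x))] W.residueField x :=
    IsScalarTower.toAlgHom _ _ _
  let c' : ι → T.residueField (g x) := fun i => (T.Γevaluation (g x)).hom (c i)
  have hψ : ∀ i, ψ (c' i) = (W.Γevaluation x).hom ((g.appTop).hom (c i)) := by
    intro i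
    exact Scheme.Γevaluation_naturality_apply g x (c i)
  have h1 : AlgebraicIndependent (S.residueField (π (g x))) (ψ ∘ c') := by
    have : (ψ ∘ c') = fun i => (W.Γevaluation x).hom ((g.appTop).hom (c i)) :=
      funext hψ
    rw [this]
    exact h
  have h2 : AlgebraicIndependent (S.residueField (π (g x))) c' := AlgebraicIndependent.of_comp ψ h1
  have h3 := h2.lift_cardinalMk_le_trdeg
  have h4 := Cardinal.toENat.monotone' h3
  simpa using h4

end Indep

section Trans

variable {W S : Scheme.{u}} [IsAffine W] (φ : W ⟶ S)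

/-- On an affine scheme there are sections whose values at `x` form a transcendence basis of
the residue field extension. -/
theorem exists_sections_algebraicIndependent (x : W) (t : ℕ) (ht : trn φ x = (t : ℕ∞)) :
    ∃ a : Fin t → Γ(W, ⊤), letI := (φ.residueFieldMap x).hom.toAlgebra
      AlgebraicIndependent (S.residueField (φ x)) (fun i => (W.Γevaluation x).hom (a i)) := by
  letI alg : Algebra (S.residueField (φ x)) (W.residueField x) :=
    (φ.residueFieldMap x).hom.toAlgebra
  set β : Γ(W, ⊤) →+* W.residueField x := (W.Γevaluation x).hom with hβ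
  set S₀ : Set (W.residueField x) := Set.range β with hS₀
  haveI halg : Algebra.IsAlgebraic (Algebra.adjoin (S.residueField (φ x)) S₀) (W.residueField x) := by
    refine ⟨fun z => ?_⟩
    obtain ⟨a, s, hs, h⟩ := evaluation_fraction (isAffineOpen_top W) x trivial z
    exact isAlgebraic_of_fraction z
      (⟨β a, Algebra.subset_adjoin ⟨a, rfl⟩⟩ : Algebra.adjoin (S.residueField (φ x)) S₀)
      ⟨β s, Algebra.subset_adjoin ⟨s, rfl⟩⟩ hs h
  obtain ⟨u, -, huS, hu⟩ := exists_isTranscendenceBasis_between (R := S.residueField (φ x))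
    (∅ : Set (W.residueField x)) S₀ (Set.empty_subset _) algebraicIndependent_empty
  have hcard := hu.cardinalMk_eq_trdeg
  have htr : Algebra.trdeg (S.residueField (φ x)) (W.residueField x) = (t : Cardinal) := by
    have : Cardinal.toENat (Algebra.trdeg (S.residueField (φ x)) (W.residueField x)) = (t : ℕ∞) := ht
    exact Cardinal.toENat_eq_natCast.mp this
  rw [htr] at hcard
  obtain ⟨eq⟩ := Cardinal.mk_eq_nat_iff.mp hcard
  have hex : ∀ i : Fin t, ∃ b : Γ(W, ⊤), β b = ((eq.symm i : u) : W.residueField x) := fun i =>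
    huS (eq.symm i).2
  choose a ha using hex
  refine ⟨a, ?_⟩
  have h1 : (fun i => (W.Γevaluation x).hom (a i)) =
      ((↑) : u → W.residueField x) ∘ (fun i => eq.symm i) := by
    funext i
    exact ha i
  rw [h1]
  exact hu.1.comp _ eq.symm.injective

end Trans

section Finite

variable {W S : Scheme.{u}} (φ : W ⟶ S) [LocallyOfFiniteType φ]

/-- In a closed subset `C`, the generizations of `x` in the fibre through `x` whose
transcendence degree attains a bound `n` valid on all such generizations are finite in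
number. -/
theorem finite_setOf_trn_eq (x : W) (C : Set W) (hC : IsClosed C) (n : ℕ)
    (hn : ∀ z ∈ C, φ z = φ x → z ⤳ x → trn φ z ≤ (n : ℕ∞)) :
    {z : W | z ∈ C ∧ φ z = φ x ∧ z ⤳ x ∧ trn φ z = (n : ℕ∞)}.Finite := by
  letI ovF : (φ.fiber (φ x)).Over (Spec (CommRingCat.of (S.residueField (φ x)))) :=
    ⟨φ.fiberToSpecResidueField (φ x)⟩
  haveI : LocallyOfFiniteType ((φ.fiber (φ x)) ↘ Spec (CommRingCat.of (S.residueField (φ x)))) :=
    FibreRes.locallyOfFiniteType_fiberToSpecResidueField φ (φ x)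
  haveI : IsLocallyNoetherian (φ.fiber (φ x)) :=
    LocallyOfFiniteType.isLocallyNoetherian
      ((φ.fiber (φ x)) ↘ Spec (CommRingCat.of (S.residueField (φ x))))
  set F := φ.fiber (φ x) with hF
  set xF : F := φ.asFiber x with hxF
  set R := F.presheaf.stalk xF with hR
  let ρ : Spec R ⟶ W := F.fromSpecStalk xF ≫ φ.fiberι (φ x)
  have hρemb : Topology.IsEmbedding ρ :=
    (φ.fiberι (φ x)).isEmbedding.comp (F.fromSpecStalk xF).isEmbedding
  have hρφ : ∀ P : Spec R, φ (ρ P) = φ x := by
    intro P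
    exact EquidimSub.apply_fiberι φ (φ x) _
  have hρx : ∀ P : Spec R, ρ P ⤳ x := by
    intro P
    have h1 : (F.fromSpecStalk xF) P ⤳ xF := by
      have : (F.fromSpecStalk xF) P ∈ Set.range (F.fromSpecStalk xF) := ⟨P, rfl⟩
      rw [Scheme.range_fromSpecStalk] at this
      exact this
    have h2 := h1.map (φ.fiberι (φ x)).continuous
    rwa [φ.fiberι_asFiber x] at h2
  have hρsurj : ∀ z : W, φ z = φ x → z ⤳ x → ∃ P : Spec R, ρ P = z := by
    intro z hz hsp
    let zF : F := (φ.fiberHomeo (φ x)).symm ⟨z, hz⟩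
    have hzF : φ.fiberι (φ x) zF = z := φ.fiberι_fiberHomeo_symm (φ x) ⟨z, hz⟩
    have h1 : zF ⤳ xF := by
      apply (φ.fiberι (φ x)).isEmbedding.isInducing.specializes_iff.mp
      rw [hzF, φ.fiberι_asFiber x]; exact hsp
    have h2 : zF ∈ Set.range (F.fromSpecStalk xF) := by
      rw [Scheme.range_fromSpecStalk]; exact h1
    obtain ⟨P, hP⟩ := h2
    exact ⟨P, by show φ.fiberι (φ x) ((F.fromSpecStalk xF) P) = z; rw [hP, hzF]⟩
  set C' : Set (PrimeSpectrum R) := ρ ⁻¹' C with hC'
  have hC'cl : IsClosed C' := hC.preimage ρ.continuous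
  set I : Ideal R := PrimeSpectrum.vanishingIdeal C' with hI
  have hzl : PrimeSpectrum.zeroLocus (I : Set R) = C' := by
    rw [hI, PrimeSpectrum.zeroLocus_vanishingIdeal_eq_closure, hC'cl.closure_eq]
  have hfin : (I.minimalPrimes).Finite := Ideal.finite_minimalPrimes_of_isNoetherianRing R I
  have hfin' : {P : PrimeSpectrum R | P.asIdeal ∈ I.minimalPrimes}.Finite :=
    hfin.preimage (fun a _ b _ hab => PrimeSpectrum.ext hab)
  refine (hfin'.image (fun P => ρ P)).subset ?_
  rintro z ⟨hzC, hzφ, hzx, hztr⟩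
  obtain ⟨P, rfl⟩ := hρsurj z hzφ hzx
  refine ⟨P, ?_, rfl⟩
  have hPC' : P ∈ C' := hzC
  have hIP : I ≤ P.asIdeal := by
    rw [← hzl] at hPC'
    exact hPC'
  obtain ⟨p, hp, hpP⟩ := Ideal.exists_minimalPrimes_le hIP
  haveI := hp.1.1
  let P' : PrimeSpectrum R := ⟨p, hp.1.1⟩
  have hP'C : P' ∈ C' := by
    rw [← hzl]
    exact hp.1.2
  have hsp : P' ⤳ P := (PrimeSpectrum.le_iff_specializes P' P).mp hpP
  have hsp' : ρ P' ⤳ ρ P := hsp.map ρ.continuous
  have hle := hn (ρ P') hP'C (hρφ P') (hρx P')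
  have heq : ρ P' = ρ P := by
    by_contra hne
    have h1 := trn_lt_of_specializes φ (ρ P) (ρ P') ((hρφ P').trans (hρφ P).symm) hsp' hne
    rw [hztr] at h1
    exact absurd hle (not_le.mpr h1)
  have hPP' : P' = P := hρemb.injective heq
  show P.asIdeal ∈ I.minimalPrimes
  rw [← hPP']
  exact hp

end Finite

section Cut

variable {W S : Scheme.{u}} [IsAffine W] (φ : W ⟶ S) [LocallyOfFiniteType φ]

/-- One cutting step: a section vanishing at `x` and at none of the generizations of `x` in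
`C` of maximal transcendence degree. -/
theorem exists_section_cutting (x : W) (C : Set W) (hC : IsClosed C) (t m : ℕ)
    (ht : trn φ x = (t : ℕ∞))
    (hn : ∀ z ∈ C, φ z = φ x → z ⤳ x → trn φ z ≤ ((t + (m + 1) : ℕ) : ℕ∞)) :
    ∃ a : Γ(W, ⊤), x ∉ W.basicOpen a ∧
      ∀ z ∈ C, φ z = φ x → z ⤳ x → z ∉ W.basicOpen a → trn φ z ≤ ((t + m : ℕ) : ℕ∞) := by
  classical
  have hU := isAffineOpen_top W
  have hfin := finite_setOf_trn_eq φ x C hC (t + (m + 1)) hn
  set s : Finset W := hfin.toFinset with hs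
  let P : W → Ideal Γ(W, ⊤) := fun i => (hU.primeIdealOf ⟨i, trivial⟩).asIdeal
  have key : ¬ ((hU.primeIdealOf ⟨x, trivial⟩).asIdeal : Set Γ(W, ⊤)) ⊆
      ⋃ i ∈ (↑s : Set W), (P i : Set Γ(W, ⊤)) := by
    rw [Ideal.subset_union_prime (f := P) x x (fun i _ _ _ => (hU.primeIdealOf ⟨i, trivial⟩).2)]
    rintro ⟨i, his, hle⟩
    obtain ⟨hiC, hiφ, hix, hitr⟩ := (Set.Finite.mem_toFinset hfin).mp his
    have h1 : x ⤳ i := (primeIdealOf_le_iff hU ⟨x, trivial⟩ ⟨i, trivial⟩).mp hle
    have h2 : i = x := (hix.antisymm h1).eq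
    rw [h2, ht] at hitr
    have : t = t + (m + 1) := by exact_mod_cast hitr
    omega
  rw [Set.not_subset] at key
  obtain ⟨a, ha1, ha2⟩ := key
  refine ⟨a, ?_, ?_⟩
  · rw [mem_basicOpen_iff_notMem_primeIdealOf hU ⟨x, trivial⟩ a, not_not]
    exact ha1
  · intro z hzC hzφ hzx hza
    have h1 := hn z hzC hzφ hzx
    by_contra hcon
    rw [not_le] at hcon
    have h2 : trn φ z = ((t + (m + 1) : ℕ) : ℕ∞) := by
      obtain ⟨k, hk⟩ := exists_trn_eq φ z
      rw [hk] at h1 hcon ⊢
      have h3 : k ≤ t + (m + 1) := by exact_mod_cast h1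
      have h4 : t + m < k := by exact_mod_cast hcon
      have : k = t + (m + 1) := by omega
      rw [this]
    apply ha2
    simp only [Set.mem_iUnion]
    refine ⟨z, ?_, ?_⟩
    · rw [Finset.mem_coe, hs, Set.Finite.mem_toFinset]
      exact ⟨hzC, hzφ, hzx, h2⟩
    · rw [mem_basicOpen_iff_notMem_primeIdealOf hU ⟨z, trivial⟩ a, not_not] at hza
      exact hza

/-- Cutting sections: `m` sections vanishing at `x` whose common zero locus in `C` contains no
proper generization of `x` in the fibre through `x`. -/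
theorem exists_sections_cutting (x : W) (t : ℕ) (ht : trn φ x = (t : ℕ∞)) (m : ℕ) :
    ∀ C : Set W, IsClosed C →
      (∀ z ∈ C, φ z = φ x → z ⤳ x → trn φ z ≤ ((t + m : ℕ) : ℕ∞)) →
      ∃ a : Fin m → Γ(W, ⊤), (∀ i, x ∉ W.basicOpen (a i)) ∧
        ∀ z ∈ C, φ z = φ x → z ⤳ x → (∀ i, z ∉ W.basicOpen (a i)) → z = x := by
  induction m with
  | zero =>
    intro C hC hn
    refine ⟨Fin.elim0, fun i => i.elim0, ?_⟩
    intro z hzC hzφ hzx _
    by_contra hne
    have h1 := trn_lt_of_specializes φ x z hzφ hzx hne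
    have h2 := hn z hzC hzφ hzx
    rw [ht] at h1
    exact absurd h2 (not_le.mpr (by simpa using h1))
  | succ m ih =>
    intro C hC hn
    obtain ⟨a₀, ha₀x, ha₀⟩ := exists_section_cutting φ x C hC t m ht hn
    have hC' : IsClosed (C ∩ ((W.basicOpen a₀ : Set W))ᶜ) :=
      hC.inter (W.basicOpen a₀).2.isClosed_compl
    obtain ⟨a, hax, ha⟩ := ih (C ∩ ((W.basicOpen a₀ : Set W))ᶜ) hC' (by
      rintro z ⟨hzC, hza₀⟩ hzφ hzx
      exact ha₀ z hzC hzφ hzx hza₀)
    refine ⟨Fin.cons a₀ a, ?_, ?_⟩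
    · intro i
      refine Fin.cases ?_ (fun j => ?_) i
      · simpa using ha₀x
      · simpa using hax j
    · intro z hzC hzφ hzx hz
      have h0 : z ∉ W.basicOpen a₀ := by simpa using hz 0
      refine ha z ⟨hzC, h0⟩ hzφ hzx (fun j => ?_)
      simpa using hz j.succ

end Cut

section Main

open Groth.Agent.Lib.Helper12.EquidimHyp Groth.Agent.Lib.Helper12.JacDim

variable {W Y : Scheme.{u}} [IsAffine W] (φ : W ⟶ Y) [LocallyOfFiniteType φ]

theorem mem_basicOpen_homOfVector {n : Type u} (v : n → Γ(W, ⊤)) (i : n) (z : W) :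
    z ∈ W.basicOpen (v i) ↔
      (AffineSpace.homOfVector φ v) z ∈ (𝔸(n; Y)).basicOpen (AffineSpace.coord Y i) := by
  have h1 := Scheme.preimage_basicOpen_top (AffineSpace.homOfVector φ v) (AffineSpace.coord Y i)
  rw [AffineSpace.homOfVector_appTop_coord] at h1
  rw [← h1]
  rfl

/-- **EGA IV 13.3.1 (existence part).** On an affine scheme, a morphism locally of finite type
whose fibre has local dimension at most `e` at `x` factors through a morphism to the affine space
of relative dimension `e` which is quasi-finite at `x`. -/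
theorem exists_homOfVector_fibreDimAt_le_zero (x : W) (e : ℕ)
    (he : FlatMor.fibreDimAt φ x ≤ (e : WithBot ℕ∞)) :
    ∃ v : ULift.{u} (Fin e) → Γ(W, ⊤),
      FlatMor.fibreDimAt (AffineSpace.homOfVector φ v) x ≤ (0 : WithBot ℕ∞) := by
  obtain ⟨t, ht⟩ := exists_trn_eq φ x
  have hbound := (fibreDimAt_le_iff φ x e).mp he
  have hte : t ≤ e := by
    have := hbound x rfl specializes_rfl
    rw [ht] at this
    exact_mod_cast this
  obtain ⟨m, rfl⟩ : ∃ m, e = t + m := ⟨e - t, by omega⟩
  obtain ⟨atr, hatr⟩ := exists_sections_algebraicIndependent φ x t ht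
  obtain ⟨acut, hacut1, hacut2⟩ := exists_sections_cutting φ x t ht m Set.univ isClosed_univ
    (fun z _ hz hsp => hbound z hz hsp)
  let v : ULift.{u} (Fin (t + m)) → Γ(W, ⊤) := fun i => Fin.append atr acut i.down
  refine ⟨v, ?_⟩
  set g := AffineSpace.homOfVector φ v with hg
  have hov : g ≫ (𝔸(ULift.{u} (Fin (t + m)); Y) ↘ Y) = φ := AffineSpace.homOfVector_over φ v
  haveI : LocallyOfFiniteType (g ≫ (𝔸(ULift.{u} (Fin (t + m)); Y) ↘ Y)) := by
    rw [hov]; infer_instance
  haveI : LocallyOfFiniteType g :=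
    locallyOfFiniteType_of_comp g (𝔸(ULift.{u} (Fin (t + m)); Y) ↘ Y)
  have h0 : ((0 : ℕ) : WithBot ℕ∞) = 0 := rfl
  rw [← h0, fibreDimAt_le_iff g x 0]
  intro z hz hzx
  have hφz : φ z = φ x := by
    have h1 : (g ≫ (𝔸(ULift.{u} (Fin (t + m)); Y) ↘ Y)) z =
        (g ≫ (𝔸(ULift.{u} (Fin (t + m)); Y) ↘ Y)) x := by
      rw [Scheme.Hom.comp_apply, Scheme.Hom.comp_apply, hz]
    rwa [hov] at h1
  have hzx' : z = x := by
    apply hacut2 z trivial hφz hzx
    intro j hmem
    have h1 : acut j = v ⟨Fin.natAdd t j⟩ := by simp [v]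
    rw [h1, mem_basicOpen_homOfVector φ v, hz, ← mem_basicOpen_homOfVector φ v, ← h1] at hmem
    exact hacut1 j hmem
  subst hzx'
  -- the transcendence degree
  have h2 := trn_comp g (𝔸(ULift.{u} (Fin (t + m)); Y) ↘ Y) z
  let c : Fin t → Γ(𝔸(ULift.{u} (Fin (t + m)); Y), ⊤) := fun i =>
    AffineSpace.coord Y ⟨Fin.castAdd m i⟩
  have hc : ∀ i, (g.appTop).hom (c i) = atr i := by
    intro i
    have := AffineSpace.homOfVector_appTop_coord φ v ⟨Fin.castAdd m i⟩
    simp only [v, Fin.append_left] at this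
    exact this
  have h3 : (Fintype.card (Fin t) : ℕ∞) ≤ trn (𝔸(ULift.{u} (Fin (t + m)); Y) ↘ Y) (g z) := by
    apply le_trn_of_algebraicIndependent g (𝔸(ULift.{u} (Fin (t + m)); Y) ↘ Y) z c
    simp only [hc]
    rw [hov]
    exact hatr
  rw [hov, ht] at h2
  simp only [Fintype.card_fin] at h3
  obtain ⟨k, hk⟩ := exists_trn_eq g z
  obtain ⟨l, hl⟩ := exists_trn_eq (𝔸(ULift.{u} (Fin (t + m)); Y) ↘ Y) (g z)
  rw [hk, hl] at h2
  rw [hl] at h3
  rw [hk]
  have h4 : t = l + k := by exact_mod_cast h2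
  have h5 : t ≤ l := by exact_mod_cast h3
  have : k = 0 := by omega
  rw [this]

end Main

end Groth.Agent.Lib.Helper12.QFSections
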