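import Mathlib
import Groth.Prelude.Def_Found
import Groth.Prelude.Def_EGA43
import Groth.Agent.Lib.Helper12.QFSections
import Groth.Agent.Lib.Helper12.EquidimOpen
import Groth.Agent.Lib.Helper12.EquidimComp
import Groth.Agent.S6460

/-!
# Helper library (helper12): equidimensional morphisms and quasi-finite morphisms to affine
spaces (EGA IV 13.3.1 b))
-/

set_option autoImplicit false
universe u
open AlgebraicGeometry CategoryTheory Opposite Limits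

namespace Groth.Agent.Lib.Helper12.QFAffine

open Groth.Agent.Lib.Helper12 Groth.Agent.Lib.Helper12.SchemeDimFT
open Groth.Agent.Lib.Helper12.SchemeDimIneq Groth.Agent.Lib.Helper12.ChevalleyCor
open Groth.Agent.Lib.Helper12.FibreMax Groth.Agent.Lib.Helper12.OpenFibre
open Groth.Agent.Lib.Helper12.EquidimOpen Groth.Agent.Lib.Helper12.EquidimPt
open Groth.Agent.Lib.Helper12.Equidim Groth.Agent.Lib.Helper12.JacDim
open Groth.Agent.Lib.Helper12.EquidimHyp Groth.Agent.Lib.Helper12.QFSections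
open Groth.Agent.Lib.Helper12.Chevalley Groth.Agent.Lib.Helper12.EquidimComp
open Groth.Agent.Lib.Helper12.ClosedSub

section QF

variable {X Y : Scheme.{u}} (g : X ⟶ Y) [LocallyOfFiniteType g]

/-- For a locally quasi-finite morphism the residue field extensions are algebraic. -/
theorem trn_eq_zero_of_locallyQuasiFinite [LocallyQuasiFinite g] (w : X) : trn g w = 0 := by
  apply trn_eq_zero_of_closed_in_fibre g w
  intro x' hx' hsp
  have hd : _root_.IsDiscrete (g.base ⁻¹' {g.base w}) :=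
    (locallyQuasiFinite_iff_isDiscrete_preimage_singleton.mp ‹LocallyQuasiFinite g›) _
  rw [isDiscrete_iff_discreteTopology] at hd
  have h1 : (⟨w, rfl⟩ : g.base ⁻¹' {g.base w}) ⤳ ⟨x', hx'⟩ :=
    Topology.IsInducing.subtypeVal.specializes_iff.mp hsp
  have h2 := h1.eq
  exact (congrArg Subtype.val h2).symm

end QF

section Forward

variable {X Y : Scheme.{u}} (f : X ⟶ Y) [LocallyOfFiniteType f]

/-- **EGA IV 13.3.1, a) ⟹ b).** -/
theorem exists_quasiFinite_of_isEquidimAt (x : X) (h : EGA43.IsEquidimAt f x) :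
    ∃ (e : ℕ) (U : X.Opens) (g : (U : Scheme.{u}) ⟶ 𝔸(ULift.{u} (Fin e); Y)),
      x ∈ U ∧ g ≫ (𝔸(ULift.{u} (Fin e); Y) ↘ Y) = U.ι ≫ f ∧ LocallyQuasiFinite g ∧
      ∀ Z ∈ irreducibleComponents (↥U : Type u),
        closure (g.base '' Z) ∈ irreducibleComponents (↥𝔸(ULift.{u} (Fin e); Y) : Type u) := by
  obtain ⟨e, U, hxU, hA, hB⟩ := (isEquidimAt_iff_pointwise' f x).mp h
  obtain ⟨U₁, hU₁, hxU₁, hU₁U⟩ : ∃ U₁ : X.Opens, IsAffineOpen U₁ ∧ x ∈ U₁ ∧ U₁ ≤ U := by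
    obtain ⟨_, ⟨U₁, hU₁, rfl⟩, hxU₁, hU₁U⟩ :=
      X.isBasis_affineOpens.exists_subset_of_mem_open hxU U.2
    exact ⟨U₁, hU₁, hxU₁, hU₁U⟩
  haveI : IsAffine (U₁ : Scheme.{u}) := hU₁
  set φ : (U₁ : Scheme.{u}) ⟶ Y := U₁.ι ≫ f with hφ
  let x₁ : (U₁ : Scheme.{u}) := ⟨x, hxU₁⟩
  -- the fibre dimension at `x` is at most `e`
  have hfd : FlatMor.fibreDimAt f x ≤ (e : WithBot ℕ∞) := by
    apply fibreDimAt_le_of_max f x e
    intro z hz hzx hmax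
    have hzU : z ∈ U := hzx.mem_open U.2 hxU
    rw [hB z hzU (fun z' h1 h2 => hmax z' h1 h2)]
  have hfd₁ : FlatMor.fibreDimAt φ x₁ ≤ (e : WithBot ℕ∞) := by
    rw [hφ, fibreDimAt_comp_openImmersion U₁.ι f x₁]
    exact hfd
  obtain ⟨v, hv⟩ := exists_homOfVector_fibreDimAt_le_zero φ x₁ e hfd₁
  set g₁ := AffineSpace.homOfVector φ v with hg₁
  have hov : g₁ ≫ (𝔸(ULift.{u} (Fin e); Y) ↘ Y) = φ := AffineSpace.homOfVector_over φ v
  haveI : LocallyOfFiniteType (g₁ ≫ (𝔸(ULift.{u} (Fin e); Y) ↘ Y)) := by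
    rw [hov]; infer_instance
  haveI : LocallyOfFiniteType g₁ :=
    locallyOfFiniteType_of_comp g₁ (𝔸(ULift.{u} (Fin e); Y) ↘ Y)
  -- the open set where `g₁` is quasi-finite
  have hOopen : IsOpen {w : (U₁ : Scheme.{u}) | FlatMor.fibreDimAt g₁ w ≤ ((0 : ℕ) : WithBot ℕ∞)} :=
    isOpen_setOf_fibreDimAt_le g₁ 0
  let O : (U₁ : Scheme.{u}).Opens :=
    ⟨{w : (U₁ : Scheme.{u}) | FlatMor.fibreDimAt g₁ w ≤ ((0 : ℕ) : WithBot ℕ∞)}, hOopen⟩
  let U₂ : X.Opens := U₁.ι ''ᵁ O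
  have hU₂U₁ : U₂ ≤ U₁ := by
    rintro _ ⟨w, -, rfl⟩
    exact w.2
  have hxU₂ : x ∈ U₂ := ⟨x₁, hv, rfl⟩
  let g : (U₂ : Scheme.{u}) ⟶ 𝔸(ULift.{u} (Fin e); Y) := X.homOfLE hU₂U₁ ≫ g₁
  have hgπ : g ≫ (𝔸(ULift.{u} (Fin e); Y) ↘ Y) = U₂.ι ≫ f := by
    show (X.homOfLE hU₂U₁ ≫ g₁) ≫ _ = _
    rw [Category.assoc, hov, hφ, ← Category.assoc, Scheme.homOfLE_ι]
  haveI : LocallyOfFiniteType g := by
    show LocallyOfFiniteType (X.homOfLE hU₂U₁ ≫ g₁)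
    infer_instance
  have hgfd : ∀ w : (U₂ : Scheme.{u}), FlatMor.fibreDimAt g w ≤ 0 := by
    intro w
    have h1 := fibreDimAt_comp_openImmersion (X.homOfLE hU₂U₁) g₁ w
    show FlatMor.fibreDimAt (X.homOfLE hU₂U₁ ≫ g₁) w ≤ 0
    rw [h1]
    obtain ⟨o, ho, hoe⟩ := w.2
    have h2 : (X.homOfLE hU₂U₁) w = o := by
      apply U₁.ι.isEmbedding.injective
      have h3 : U₁.ι o = w.1 := hoe
      rw [h3]
      have := congrArg (fun ψ : (U₂ : Scheme.{u}) ⟶ X => ψ w) (Scheme.homOfLE_ι X hU₂U₁)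
      simpa using this
    rw [h2]
    exact ho
  refine ⟨e, U₂, g, hxU₂, hgπ, locallyQuasiFinite_of_fibreDimAt_le_zero g hgfd, ?_⟩
  intro Z hZ
  obtain ⟨ζ, hζ, rfl⟩ := (mem_irreducibleComponents_iff (X := (U₂ : Scheme.{u})) Z).mp hZ
  rw [closure_image_closure_singleton' g ζ]
  rw [closure_singleton_mem_irreducibleComponents_iff]
  have hζ₀ : IsMaxPt (U₂.ι ζ) := isMaxPt_of_openImmersion U₂.ι ζ hζ
  have hζ₀U : U₂.ι ζ ∈ U := hU₁U (hU₂U₁ ζ.2)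
  have hmaxf := (hA _ hζ₀U hζ₀).1
  have htrf : trn f (U₂.ι ζ) = (e : ℕ∞) := hB _ hζ₀U (fun z' _ h2 => hζ₀ z' h2)
  have h1 := trn_comp g (𝔸(ULift.{u} (Fin e); Y) ↘ Y) ζ
  rw [hgπ, trn_comp_openImmersion U₂.ι f ζ, htrf] at h1
  have h2 : trn g ζ = 0 := by
    have h3 := trn_le_fibreDimAt_of_specializes g ζ ζ rfl specializes_rfl
    have h4 := h3.trans (hgfd ζ)
    have h5 : ((trn g ζ : ℕ∞) : WithBot ℕ∞) ≤ ((0 : ℕ∞) : WithBot ℕ∞) := h4
    have h6 : trn g ζ ≤ 0 := by exact_mod_cast h5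
    exact le_antisymm h6 zero_le
  rw [h2, add_zero] at h1
  have hπg : (𝔸(ULift.{u} (Fin e); Y) ↘ Y) (g ζ) = f (U₂.ι ζ) := by
    have := congrArg (fun ψ : (U₂ : Scheme.{u}) ⟶ Y => ψ ζ) hgπ
    simpa using this
  apply AffSpace.isMaxPt_of_trn_eq e Y (g ζ)
  · rw [hπg]; exact hmaxf
  · exact h1.symm

end Forward

section Backward

variable {X Y : Scheme.{u}} (f : X ⟶ Y) [LocallyOfFiniteType f]

/-- **EGA IV 13.3.1, b) ⟹ a)** over a locally Noetherian base. -/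
theorem isEquidimAt_of_quasiFinite [IsLocallyNoetherian Y] (x : X) (e : ℕ) (U : X.Opens)
    (g : (U : Scheme.{u}) ⟶ 𝔸(ULift.{u} (Fin e); Y)) (hxU : x ∈ U)
    (hg : g ≫ (𝔸(ULift.{u} (Fin e); Y) ↘ Y) = U.ι ≫ f) [LocallyQuasiFinite g]
    (hcomp : ∀ Z ∈ irreducibleComponents (↥U : Type u),
      closure (g.base '' Z) ∈ irreducibleComponents (↥𝔸(ULift.{u} (Fin e); Y) : Type u)) :
    EGA43.IsEquidimAt f x := by
  haveI : IsLocallyNoetherian X := LocallyOfFiniteType.isLocallyNoetherian f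
  haveI : LocallyOfFiniteType (g ≫ (𝔸(ULift.{u} (Fin e); Y) ↘ Y)) := by
    rw [hg]; infer_instance
  haveI : LocallyOfFiniteType g :=
    locallyOfFiniteType_of_comp g (𝔸(ULift.{u} (Fin e); Y) ↘ Y)
  obtain ⟨W, hW, hxW, hWmax⟩ := Groth.Agent.S6460.exists_open_maxPts_specialize X x
  have hπg : ∀ w : (U : Scheme.{u}), (𝔸(ULift.{u} (Fin e); Y) ↘ Y) (g w) = f (U.ι w) := by
    intro w
    have := congrArg (fun ψ : (U : Scheme.{u}) ⟶ Y => ψ w) hg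
    simpa using this
  -- maximal points of `U` map to maximal points of the affine space
  have hgmax : ∀ ξ : X, ∀ hξU : ξ ∈ U, IsMaxPt ξ → IsMaxPt (g ⟨ξ, hξU⟩) := by
    intro ξ hξU hξ
    have h1 : IsMaxPt (X := (U : Scheme.{u})) ⟨ξ, hξU⟩ := isMaxPt_opens U ξ hξU hξ
    have hZ : closure ({⟨ξ, hξU⟩} : Set (U : Scheme.{u})) ∈
        irreducibleComponents (↥U : Type u) :=
      (mem_irreducibleComponents_iff (X := (U : Scheme.{u})) _).mpr ⟨_, h1, rfl⟩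
    have h2 := hcomp _ hZ
    rw [closure_image_closure_singleton' g ⟨ξ, hξU⟩] at h2
    exact (closure_singleton_mem_irreducibleComponents_iff _).mp h2
  have htrn : ∀ w : (U : Scheme.{u}), trn f (U.ι w) =
      trn (𝔸(ULift.{u} (Fin e); Y) ↘ Y) (g w) := by
    intro w
    have h1 := trn_comp g (𝔸(ULift.{u} (Fin e); Y) ↘ Y) w
    rw [hg, trn_comp_openImmersion U.ι f w, trn_eq_zero_of_locallyQuasiFinite g w,
      add_zero] at h1
    exact h1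
  rw [isEquidimAt_iff_pointwise']
  refine ⟨e, U ⊓ ⟨W, hW⟩, ⟨hxU, hxW⟩, ?_, ?_⟩
  · rintro ξ ⟨hξU, hξW⟩ hξ
    have h1 := AffSpace.isMaxPt_over e Y _ (hgmax ξ hξU hξ)
    rw [hπg] at h1
    exact ⟨h1, (hWmax ξ hξW hξ).map f.continuous⟩
  · rintro z ⟨hzU, hzW⟩ hmax
    apply le_antisymm
    · have := htrn ⟨z, hzU⟩
      rw [show U.ι ⟨z, hzU⟩ = z from rfl] at this
      rw [this]
      exact AffSpace.trn_le e Y _
    · obtain ⟨ξ, hξ, hξz⟩ := exists_isMaxPt_specializes z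
      have hξU : ξ ∈ U := hξz.mem_open U.2 hzU
      have h1 : trn f ξ = (e : ℕ∞) := by
        have := htrn ⟨ξ, hξU⟩
        rw [show U.ι ⟨ξ, hξU⟩ = ξ from rfl] at this
        rw [this]
        exact AffSpace.trn_eq_of_isMaxPt e Y _ (hgmax ξ hξU hξ)
      obtain ⟨z₁, hz1, hz2, hz3, hz4⟩ := exists_between_trn_le f z ξ hξz
      rw [hmax z₁ hz1 hz3, h1] at hz4
      exact hz4

end Backward

end Groth.Agent.Lib.Helper12.QFAffine
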