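import Mathlib
import Groth.Prelude.Def_Found
import Groth.Prelude.Def_EGA43

/-!
# Helper library (helper12): morphisms which are finite on a fibre (EGA IV 13.3.1.1)
-/

set_option autoImplicit false
universe u
open AlgebraicGeometry CategoryTheory Opposite Limits

namespace Groth.Agent.Lib.Helper12.QFFibre

section Top

variable {P T : Type*} [TopologicalSpace P] [TopologicalSpace T]

/-- A closed continuous map without non-trivial specializations in its fibres, between
quasi-sober `T0` spaces of the same finite dimension, with irreducible target, is surjective. -/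
theorem surjective_of_dim_eq [QuasiSober P] [T0Space P] [QuasiSober T] [T0Space T]
    [IrreducibleSpace T] (h : P → T) (hcont : Continuous h) (hclosed : IsClosedMap h)
    (hfib : ∀ a b : P, a ⤳ b → h a = h b → a = b) (e : ℕ)
    (hP : topologicalKrullDim P = e) (hT : topologicalKrullDim T = e) :
    Function.Surjective h := by
  letI : PartialOrder P := specializationOrder P
  letI : PartialOrder T := specializationOrder T
  have h1 : topologicalKrullDim P = Order.krullDim P :=
    Order.krullDim_eq_of_orderIso (irreducibleSetEquivPoints (α := P))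
  have h2 : topologicalKrullDim T = Order.krullDim T :=
    Order.krullDim_eq_of_orderIso (irreducibleSetEquivPoints (α := T))
  obtain ⟨p, hp⟩ : ∃ p : LTSeries P, p.length = e :=
    (Order.le_krullDim_iff).mp (by rw [← h1, hP])
  have hmono : StrictMono h := by
    intro a b hab
    have hba : b ⤳ a := hab.le
    have h3 : h b ⤳ h a := hba.map hcont
    refine lt_of_le_of_ne h3 ?_
    intro heq
    exact hab.ne' (hfib b a hba heq.symm)
  let q : LTSeries T := p.map h hmono
  have hη : ∀ t : T, genericPoint T ⤳ t := fun t => genericPoint_specializes t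
  have hmem : genericPoint T ∈ Set.range h := by
    by_contra hne
    have hq : q.last ≠ genericPoint T := by
      intro heq
      apply hne
      refine ⟨p.last, ?_⟩
      rw [← heq]
      rfl
    have hlt : q.last < genericPoint T := lt_of_le_of_ne (hη q.last) hq
    let q' : LTSeries T := q.snoc (genericPoint T) hlt
    have h4 : ((q'.length : ℕ) : WithBot ℕ∞) ≤ Order.krullDim T := Order.LTSeries.length_le_krullDim q'
    have h5 : q'.length = e + 1 := by
      show (q.snoc (genericPoint T) hlt).length = e + 1
      rw [RelSeries.snoc_length]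
      show p.length + 1 = e + 1
      rw [hp]
    rw [h5, ← h2, hT] at h4
    have h6 : (e + 1 : ℕ) ≤ e := by exact_mod_cast h4
    omega
  have hcl : IsClosed (Set.range h) := hclosed.isClosed_range
  intro t
  have h7 : t ∈ closure ({genericPoint T} : Set T) := (hη t).mem_closure
  exact (hcl.closure_subset_iff.mpr (Set.singleton_subset_iff.mpr hmem)) h7

end Top

section Sch

variable {X Y Z : Scheme.{u}} (g : X ⟶ Z) (π : Z ⟶ Y) (y : Y)

/-- A locally quasi-finite morphism has no non-trivial specializations in its fibres. -/
theorem eq_of_specializes_of_locallyQuasiFinite {P T : Scheme.{u}} (h : P ⟶ T)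
    [LocallyQuasiFinite h] (a b : P) (hab : a ⤳ b) (heq : h a = h b) : a = b := by
  have hd : _root_.IsDiscrete (h ⁻¹' {h a}) := Scheme.Hom.isDiscrete_preimage_singleton _ _
  rw [isDiscrete_iff_discreteTopology] at hd
  have h3 : (⟨a, rfl⟩ : h ⁻¹' {h a}) ⤳ ⟨b, heq.symm⟩ :=
    Topology.IsInducing.subtypeVal.specializes_iff.mp hab
  exact congrArg Subtype.val h3.eq

/-- If the base change of `g` to the fibre of `Z` over `y` is locally quasi-finite, then there are
no non-trivial specializations within the fibres of `g` over `y`. -/
theorem eq_of_specializes_of_fibre [LocallyQuasiFinite (pullback.snd g (π.fiberι y))]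
    (z x' : X) (hz : π (g z) = y) (hgx : g x' = g z) (hsp : z ⤳ x') : x' = z := by
  have hr : g z ∈ Set.range (π.fiberι y) := by
    rw [Scheme.Hom.range_fiberι]; exact hz
  have hz1 : z ∈ Set.range (pullback.fst g (π.fiberι y)) := by
    rw [Scheme.Pullback.range_fst]; exact hr
  have hx1 : x' ∈ Set.range (pullback.fst g (π.fiberι y)) := by
    rw [Scheme.Pullback.range_fst]; show g x' ∈ Set.range (π.fiberι y); rw [hgx]; exact hr
  obtain ⟨a, rfl⟩ := hz1
  obtain ⟨b, rfl⟩ := hx1
  haveI : IsPreimmersion (pullback.fst g (π.fiberι y)) :=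
    MorphismProperty.pullback_fst _ _ inferInstance
  have hab : a ⤳ b :=
    (pullback.fst g (π.fiberι y)).isEmbedding.isInducing.specializes_iff.mp hsp
  have hcond : ∀ c : ↥(pullback g (π.fiberι y)),
      (π.fiberι y) ((pullback.snd g (π.fiberι y)) c) = g ((pullback.fst g (π.fiberι y)) c) := by
    intro c
    have := congrArg (fun ψ : pullback g (π.fiberι y) ⟶ Z => ψ c)
      (pullback.condition (f := g) (g := π.fiberι y))
    simpa using this.symm
  have h2 : (pullback.snd g (π.fiberι y)) b = (pullback.snd g (π.fiberι y)) a := by
    apply (π.fiberι y).isEmbedding.injective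
    rw [hcond, hcond, hgx]
  have hd : _root_.IsDiscrete ((pullback.snd g (π.fiberι y)) ⁻¹'
      {(pullback.snd g (π.fiberι y)) a}) :=
    Scheme.Hom.isDiscrete_preimage_singleton _ _
  rw [isDiscrete_iff_discreteTopology] at hd
  have h3 : (⟨a, rfl⟩ : (pullback.snd g (π.fiberι y)) ⁻¹'
      {(pullback.snd g (π.fiberι y)) a}) ⤳ ⟨b, h2⟩ :=
    Topology.IsInducing.subtypeVal.specializes_iff.mp hab
  have h4 := h3.eq
  have h5 : a = b := congrArg Subtype.val h4
  rw [h5]

/-- The base change of `X` to the fibre of `Z` over `y` is the fibre of `X` over `y`. -/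
noncomputable def pullbackFiberιIso : pullback g (π.fiberι y) ≅ (g ≫ π).fiber y :=
  pullbackRightPullbackFstIso π (Y.fromSpecResidueField y) g

theorem dim_pullback_fiberι :
    topologicalKrullDim ↥(pullback g (π.fiberι y)) = topologicalKrullDim ↥((g ≫ π).fiber y) :=
  IsHomeomorph.topologicalKrullDim_eq _ (pullbackFiberιIso g π y).hom.homeomorph.isHomeomorph

end Sch

end Groth.Agent.Lib.Helper12.QFFibre
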