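import Mathlib
import Groth.Agent.Lib.Helper12.NagataStep

/-!
# Weak relative Noether normalisation (helper12)

For a finite type ring map `R → S` whose fibre rings have dimension `≤ d` there is a quasi-finite
`R`-algebra map `R[t_1, …, t_d] → S`.  Nagata's substitution with a uniform exponent, found by a
compactness argument in the constructible topology of `Spec R`.
-/

set_option autoImplicit false
universe u
open MvPolynomial TensorProduct Topology

namespace Groth.Agent.Lib.Helper12.RelNoether

variable {R S : Type u} [CommRing R] [CommRing S] [Algebra R S]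

/-- compactness of `Spec R` in the constructible topology, in the form we need -/
theorem exists_finite_cover (g : PrimeSpectrum R → R) (I : PrimeSpectrum R → Finset R)
    (hg : ∀ p, g p ∉ p.asIdeal) (hI : ∀ p, (↑(I p) : Set R) ⊆ p.asIdeal) :
    ∃ T : Finset (PrimeSpectrum R), ∀ q : PrimeSpectrum R,
      ∃ p ∈ T, g p ∉ q.asIdeal ∧ (↑(I p) : Set R) ⊆ q.asIdeal := by
  classical
  let N : PrimeSpectrum R → Set (PrimeSpectrum R) := fun p =>
    (PrimeSpectrum.basicOpen (g p) : Set _) ∩ PrimeSpectrum.zeroLocus (I p)
  have hN : ∀ p, IsOpen[constructibleTopology (PrimeSpectrum R)] (N p) := by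
    intro p
    have hA : IsOpen[constructibleTopology (PrimeSpectrum R)]
        (PrimeSpectrum.basicOpen (g p) : Set (PrimeSpectrum R)) :=
      (PrimeSpectrum.isCompact_basicOpen _).isOpen_constructibleTopology_of_isOpen
        (PrimeSpectrum.basicOpen _).isOpen
    have hB : IsOpen[constructibleTopology (PrimeSpectrum R)]
        (PrimeSpectrum.zeroLocus (↑(I p) : Set R)) := by
      refine IsCompact.isOpen_constructibleTopology_of_isClosed ?_
        (PrimeSpectrum.isClosed_zeroLocus _)
      have : (PrimeSpectrum.zeroLocus (↑(I p) : Set R))ᶜ =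
          ⋃ r ∈ (↑(I p) : Set R), (PrimeSpectrum.basicOpen r : Set (PrimeSpectrum R)) := by
        ext q
        simp only [Set.mem_compl_iff, PrimeSpectrum.mem_zeroLocus, Set.subset_def, Set.mem_iUnion,
          SetLike.mem_coe, PrimeSpectrum.mem_basicOpen]
        push_neg
        simp
      rw [this]
      exact (I p).finite_toSet.isCompact_biUnion fun r _ => PrimeSpectrum.isCompact_basicOpen r
    exact @IsOpen.inter _ (constructibleTopology (PrimeSpectrum R)) _ _ hA hB
  let U : PrimeSpectrum R → Set (WithConstructibleTopology (PrimeSpectrum R)) := fun p =>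
    WithTopology.ofTopology ⁻¹' N p
  have hU : ∀ p, IsOpen (U p) := fun p => (WithTopology.isOpen_iff _).mpr (hN p)
  have hcov : (Set.univ : Set (WithConstructibleTopology (PrimeSpectrum R))) ⊆ ⋃ p, U p :=
    fun q _ => Set.mem_iUnion.mpr ⟨WithTopology.ofTopology q, ⟨hg _, hI _⟩⟩
  obtain ⟨T, hT⟩ := isCompact_univ.elim_finite_subcover U hU hcov
  refine ⟨T, fun q => ?_⟩
  have := hT (Set.mem_univ (WithTopology.toTopology _ q))
  simp only [Set.mem_iUnion] at this
  obtain ⟨p, hp, h1, h2⟩ := this
  exact ⟨p, hp, h1, h2⟩

/-- the map `S → κ(p) ⊗ S` -/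
noncomputable abbrev fib (p : PrimeSpectrum R) : S →ₐ[R] p.asIdeal.Fiber S :=
  Algebra.TensorProduct.includeRight

variable (R) in
/-- fibrewise integrality of `S` over the subalgebra generated by `x` -/
def FF {m : ℕ} (x : Fin m → S) : Prop :=
  ∀ p : PrimeSpectrum R,
    (aeval (R := p.asIdeal.ResidueField) (fun i => fib p (x i))).toRingHom.IsIntegral

theorem aeval_map_eq {m : ℕ} (x : Fin m → S) (p : PrimeSpectrum R) (h : MvPolynomial (Fin m) R) :
    aeval (R := p.asIdeal.ResidueField) (fun i => fib p (x i))
      (map (algebraMap R p.asIdeal.ResidueField) h) = fib p (aeval (R := R) x h) := by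
  rw [aeval_map_algebraMap]
  have : (fib p).comp (aeval x) = aeval (fun i => fib (S := S) p (x i)) := by
    apply MvPolynomial.algHom_ext
    intro i
    simp
  rw [← this]
  rfl

theorem FF_of_surjective {m : ℕ} (x : Fin m → S)
    (hx : Function.Surjective (aeval x : MvPolynomial (Fin m) R →ₐ[R] S)) : FF R x := by
  intro p z
  induction z using TensorProduct.induction_on with
  | zero => exact RingHom.isIntegralElem_zero _
  | add a b ha hb => exact RingHom.IsIntegralElem.add _ ha hb
  | tmul a s =>
    obtain ⟨h, rfl⟩ := hx s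
    have h1 : a ⊗ₜ[R] (aeval (R := R) x h) = (a ⊗ₜ[R] (1 : S)) * fib p (aeval (R := R) x h) := by
      simp [Algebra.TensorProduct.tmul_mul_tmul]
    rw [h1]
    refine RingHom.IsIntegralElem.mul _ ?_ ?_
    · have : a ⊗ₜ[R] (1 : S) = (aeval (R := p.asIdeal.ResidueField)
          (fun i => fib p (x i))).toRingHom (C a) := by
        simp [Algebra.TensorProduct.algebraMap_apply]
      rw [this]
      exact RingHom.isIntegralElem_map _
    · rw [← aeval_map_eq]
      exact RingHom.isIntegralElem_map _

end Groth.Agent.Lib.Helper12.RelNoether
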