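import Mathlib
import Groth.Agent.Lib.Helper12.RelNoether

/-!
# Weak relative Noether normalisation, part 2: fibrewise relations and their spreading (helper12)
-/

set_option autoImplicit false
universe u
open MvPolynomial TensorProduct Topology

namespace Groth.Agent.Lib.Helper12.RelNoether

variable {R S : Type u} [CommRing R] [CommRing S] [Algebra R S]

theorem exists_fraction (p : PrimeSpectrum R) (c : p.asIdeal.ResidueField) :
    ∃ r a : R, a ∉ p.asIdeal ∧ c * algebraMap R p.asIdeal.ResidueField a =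
      algebraMap R p.asIdeal.ResidueField r := by
  obtain ⟨t, rfl⟩ := IsLocalRing.residue_surjective c
  obtain ⟨⟨r, a⟩, rfl⟩ := IsLocalization.mk'_surjective p.asIdeal.primeCompl t
  refine ⟨r, a.1, a.2, ?_⟩
  rw [IsScalarTower.algebraMap_apply R (Localization.AtPrime p.asIdeal) p.asIdeal.ResidueField,
    IsScalarTower.algebraMap_apply R (Localization.AtPrime p.asIdeal) p.asIdeal.ResidueField]
  change IsLocalRing.residue _ _ * IsLocalRing.residue _ _ = IsLocalRing.residue _ _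
  rw [← map_mul, IsLocalization.mk'_spec]

theorem exists_clear_denominators {σ : Type*} (p : PrimeSpectrum R)
    (f : MvPolynomial σ p.asIdeal.ResidueField) :
    ∃ (a : R) (h : MvPolynomial σ R), a ∉ p.asIdeal ∧
      map (algebraMap R p.asIdeal.ResidueField) h =
        C (algebraMap R p.asIdeal.ResidueField a) * f := by
  induction f using MvPolynomial.induction_on' with
  | monomial v c =>
    obtain ⟨r, a, ha, hc⟩ := exists_fraction p c
    refine ⟨a, monomial v r, ha, ?_⟩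
    rw [map_monomial, C_mul_monomial, ← hc, mul_comm]
  | add f₁ f₂ h₁ h₂ =>
    obtain ⟨a₁, g₁, ha₁, e₁⟩ := h₁
    obtain ⟨a₂, g₂, ha₂, e₂⟩ := h₂
    refine ⟨a₁ * a₂, C a₂ * g₁ + C a₁ * g₂, ?_, ?_⟩
    · exact fun h => (p.isPrime.mem_or_mem h).elim ha₁ ha₂
    · simp only [map_add, map_mul, map_C, e₁, e₂]
      ring

/-- a nontrivial relation over `R` in the fibre over `p` -/
theorem exists_relation_fib {n : ℕ} (x : Fin (n + 1) → S) (hx : FF R x) (p : PrimeSpectrum R)
    (hdim : ringKrullDim (p.asIdeal.Fiber S) < (n + 1 : ℕ)) :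
    ∃ h : MvPolynomial (Fin (n + 1)) R,
      map (algebraMap R p.asIdeal.ResidueField) h ≠ 0 ∧ fib p (aeval (R := R) x h) = 0 := by
  obtain ⟨f, hf0, hf⟩ := NagataU.exists_relation (k := p.asIdeal.ResidueField)
    (fun i => fib p (x i)) (hx p) hdim
  obtain ⟨a, h, ha, hh⟩ := exists_clear_denominators p f
  have hne : algebraMap R p.asIdeal.ResidueField a ≠ 0 := by
    rwa [Ne, Ideal.algebraMap_residueField_eq_zero]
  refine ⟨h, ?_, ?_⟩
  · rw [hh]
    exact mul_ne_zero (by rwa [Ne, C_eq_zero]) hf0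
  · rw [← aeval_map_eq, hh, map_mul, hf, mul_zero]

theorem exists_of_fib_eq_zero (p : PrimeSpectrum R) (s : S) (hs : fib p s = 0) :
    ∃ a : R, a ∉ p.asIdeal ∧ a • s ∈ Ideal.map (algebraMap R S) p.asIdeal := by
  letI : Algebra S (p.asIdeal.Fiber S) := Algebra.TensorProduct.rightAlgebra
  let M := Algebra.algebraMapSubmonoid S p.asIdeal.primeCompl
  let Sp := Localization M
  let e := Ideal.Fiber.algEquivAux₁ (S := S) p.asIdeal
  have h1 : e (fib p s) = algebraMap S _ s := by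
    have : fib p s = algebraMap S (p.asIdeal.Fiber S) s := rfl
    rw [this, e.commutes]
  rw [hs, map_zero] at h1
  have h2 : algebraMap S Sp s ∈
      Ideal.map (algebraMap S Sp) (Ideal.map (algebraMap R S) p.asIdeal) := by
    rw [← Ideal.Quotient.eq_zero_iff_mem]
    exact h1.symm
  rw [IsLocalization.mem_map_algebraMap_iff M] at h2
  obtain ⟨⟨⟨i, hi⟩, ⟨m, hm⟩⟩, h3⟩ := h2
  rw [← map_mul, IsLocalization.eq_iff_exists M] at h3
  obtain ⟨⟨c, hc⟩, h4⟩ := h3
  obtain ⟨a₁, ha₁, rfl⟩ := hm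
  obtain ⟨a₂, ha₂, rfl⟩ := hc
  refine ⟨a₂ * a₁, fun h => (p.isPrime.mem_or_mem h).elim ha₂ ha₁, ?_⟩
  have : (a₂ * a₁) • s = algebraMap R S a₂ * i := by
    rw [Algebra.smul_def, map_mul, mul_assoc, mul_comm (algebraMap R S a₁) s]
    exact h4
  rw [this]
  exact Ideal.mul_mem_left _ _ hi

theorem exists_finset_of_mem_map (p : Ideal R) (z : S)
    (hz : z ∈ Ideal.map (algebraMap R S) p) :
    ∃ I₀ : Finset R, (↑I₀ : Set R) ⊆ p ∧
      z ∈ Ideal.map (algebraMap R S) (Ideal.span (I₀ : Set R)) := by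
  classical
  unfold Ideal.map at hz
  induction hz using Submodule.span_induction with
  | mem z hz =>
    obtain ⟨r, hr, rfl⟩ := hz
    refine ⟨{r}, by simpa using hr, ?_⟩
    exact Ideal.mem_map_of_mem _ (Ideal.subset_span (by simp))
  | zero => exact ⟨∅, by simp, Ideal.zero_mem _⟩
  | add z₁ z₂ _ _ h₁ h₂ =>
    obtain ⟨I₁, hI₁, hz₁⟩ := h₁
    obtain ⟨I₂, hI₂, hz₂⟩ := h₂
    refine ⟨I₁ ∪ I₂, by simpa using ⟨hI₁, hI₂⟩, ?_⟩
    refine Ideal.add_mem _ ?_ ?_
    · exact Ideal.map_mono (Ideal.span_mono (by simp)) hz₁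
    · exact Ideal.map_mono (Ideal.span_mono (by simp)) hz₂
  | smul c z _ h =>
    obtain ⟨I₁, hI₁, hz₁⟩ := h
    exact ⟨I₁, hI₁, Ideal.mul_mem_left _ _ hz₁⟩

theorem fib_eq_zero_of (q : PrimeSpectrum R) (s : S) (a : R) (ha : a ∉ q.asIdeal)
    (I₀ : Finset R) (hI : (↑I₀ : Set R) ⊆ q.asIdeal)
    (h : a • s ∈ Ideal.map (algebraMap R S) (Ideal.span (I₀ : Set R))) : fib q s = 0 := by
  have hker : Ideal.map (algebraMap R S) (Ideal.span (I₀ : Set R)) ≤
      RingHom.ker ((fib q : S →ₐ[R] q.asIdeal.Fiber S) : S →+* q.asIdeal.Fiber S) := by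
    rw [Ideal.map_le_iff_le_comap, Ideal.span_le]
    intro r hr
    have hrq : r ∈ q.asIdeal := hI hr
    change fib q (algebraMap R S r) = 0
    rw [AlgHom.commutes, Algebra.TensorProduct.algebraMap_apply]
    have : algebraMap R q.asIdeal.ResidueField r = 0 :=
      (Ideal.algebraMap_residueField_eq_zero).mpr hrq
    rw [this, zero_tmul]
  have h1 : fib q (a • s) = 0 := hker h
  rw [map_smul] at h1
  have h2 : (algebraMap R q.asIdeal.ResidueField a) • fib q s = 0 := by
    rwa [algebraMap_smul]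
  have hne : algebraMap R q.asIdeal.ResidueField a ≠ 0 := by
    rwa [Ne, Ideal.algebraMap_residueField_eq_zero]
  exact (IsUnit.mk0 _ hne).smul_eq_zero.mp h2

theorem exists_coeff_spread {σ : Type*} (p : PrimeSpectrum R) (h : MvPolynomial σ R)
    (hne : map (algebraMap R p.asIdeal.ResidueField) h ≠ 0) :
    ∃ c : R, c ∉ p.asIdeal ∧ ∀ q : PrimeSpectrum R, c ∉ q.asIdeal →
      map (algebraMap R q.asIdeal.ResidueField) h ≠ 0 := by
  obtain ⟨v, hv⟩ := MvPolynomial.ne_zero_iff.mp hne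
  rw [coeff_map] at hv
  refine ⟨coeff v h, fun hc => hv ((Ideal.algebraMap_residueField_eq_zero).mpr hc), ?_⟩
  intro q hq h0
  have := congrArg (coeff v) h0
  rw [coeff_map, coeff_zero] at this
  exact hq ((Ideal.algebraMap_residueField_eq_zero).mp this)

end Groth.Agent.Lib.Helper12.RelNoether
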