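import Mathlib
import Groth.Agent.Lib.Helper12.DimFT
import Groth.Agent.Lib.Helper12.DimFT2
import Groth.Agent.Lib.Helper12.DimIneq
import Groth.Agent.Lib.Helper12.Chevalley
import Groth.Agent.Lib.Helper12.ProductDim
import Groth.Agent.Lib.Helper12.ValDim

/-!
# Helper library (helper12): dimension of the fibres of a domain of finite type over a valuation
ring (ring level)
-/

set_option autoImplicit false
universe u v
open Polynomial Cardinal TensorProduct

namespace Groth.Agent.Lib.Helper12.ValDim

open Groth.Agent.Lib.Helper12.TopFibreDim Groth.Agent.Lib.Helper12.Chevalley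

section Loc

theorem isAlgebraic_of_isLocalization {A T : Type*} [CommRing A] [CommRing T] [Algebra A T]
    (M : Submonoid A) [IsLocalization M T] (hM : (0 : A) ∉ M) : Algebra.IsAlgebraic A T := by
  refine ⟨fun z => ?_⟩
  obtain ⟨⟨a, s⟩, h⟩ := IsLocalization.surj M z
  haveI : Nontrivial A := ⟨⟨0, 1, fun h01 => hM (h01 ▸ M.one_mem)⟩⟩
  refine ⟨C s.1 * X - C a, ?_, ?_⟩
  · intro h0
    have h1 : (C s.1 * X - C a : A[X]).coeff 1 = s.1 := by
      rw [coeff_sub, coeff_C_mul, coeff_X_one, mul_one, coeff_C_ne_zero one_ne_zero, sub_zero]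
    rw [h0, coeff_zero] at h1
    exact hM (h1 ▸ s.2)
  · rw [map_sub, map_mul, aeval_C, aeval_C, aeval_X, mul_comm]
    exact sub_eq_zero.mpr h

end Loc

section G1

variable {R S : Type u} [CommRing R] [IsDomain R] [CommRing S] [IsDomain S] [Algebra R S]

attribute [local instance] Algebra.TensorProduct.rightAlgebra in
/-- For a domain `S` of finite type over a subdomain `R` with fraction field `K`, the generic
fibre `K ⊗[R] S` is a domain of dimension `trdeg R S`. -/
theorem exists_dim_tensor_fraction_eq_trdeg [Algebra.FiniteType R S]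
    (hinj : Function.Injective (algebraMap R S)) (K : Type u) [Field K] [Algebra R K]
    [IsFractionRing R K] :
    IsDomain (K ⊗[R] S) ∧ ∃ n : ℕ, ringKrullDim (K ⊗[R] S) = n ∧ Algebra.trdeg R S = n := by
  haveI hloc : IsLocalization (Algebra.algebraMapSubmonoid S (nonZeroDivisors R)) (K ⊗[R] S) :=
    IsLocalization.tensorRight K (nonZeroDivisors R)
  have hle : Algebra.algebraMapSubmonoid S (nonZeroDivisors R) ≤ nonZeroDivisors S := by
    rintro _ ⟨r, hr, rfl⟩
    apply mem_nonZeroDivisors_of_ne_zero
    intro h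
    exact nonZeroDivisors.ne_zero hr (hinj (h.trans (map_zero _).symm))
  haveI hdom : IsDomain (K ⊗[R] S) :=
    IsLocalization.isDomain_of_le_nonZeroDivisors (K ⊗[R] S) hle
  refine ⟨hdom, ?_⟩
  obtain ⟨n, hn, htr, -⟩ := Groth.Agent.Lib.Helper12.DimFT.exists_dim_eq_trdeg K (K ⊗[R] S)
  refine ⟨n, hn, ?_⟩
  rw [← htr]
  haveI : FaithfulSMul R S := (faithfulSMul_iff_algebraMap_injective R S).mpr hinj
  haveI : FaithfulSMul S (K ⊗[R] S) := (faithfulSMul_iff_algebraMap_injective _ _).mpr
    (IsLocalization.injective (K ⊗[R] S) hle)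
  haveI : FaithfulSMul K (K ⊗[R] S) := (faithfulSMul_iff_algebraMap_injective _ _).mpr
    (algebraMap K (K ⊗[R] S)).injective
  haveI : Algebra.IsAlgebraic R K := isAlgebraic_of_isLocalization (nonZeroDivisors R)
    (fun h => nonZeroDivisors.ne_zero h rfl)
  haveI : Algebra.IsAlgebraic S (K ⊗[R] S) :=
    isAlgebraic_of_isLocalization (Algebra.algebraMapSubmonoid S (nonZeroDivisors R))
      (fun h => nonZeroDivisors.ne_zero (hle h) rfl)
  have h1 := trdeg_add_eq R K (A := K ⊗[R] S)
  have h2 := trdeg_add_eq R S (A := K ⊗[R] S)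
  rw [trdeg_eq_zero (R := R) (A := K), zero_add] at h1
  rw [trdeg_eq_zero (R := S) (A := K ⊗[R] S), add_zero] at h2
  rw [h1, h2]

/-- Inverting a nonzero element does not change the transcendence degree. -/
theorem trdeg_away_eq (hinj : Function.Injective (algebraMap R S)) (b : S) (hb : b ≠ 0) :
    Algebra.trdeg R (Localization.Away b) = Algebra.trdeg R S := by
  have hle : Submonoid.powers b ≤ nonZeroDivisors S :=
    Submonoid.powers_le.mpr (mem_nonZeroDivisors_of_ne_zero hb)
  haveI : IsDomain (Localization.Away b) :=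
    IsLocalization.isDomain_of_le_nonZeroDivisors (Localization.Away b) hle
  haveI : FaithfulSMul R S := (faithfulSMul_iff_algebraMap_injective R S).mpr hinj
  haveI : FaithfulSMul S (Localization.Away b) := (faithfulSMul_iff_algebraMap_injective _ _).mpr
    (IsLocalization.injective (Localization.Away b) hle)
  haveI : Algebra.IsAlgebraic S (Localization.Away b) :=
    isAlgebraic_of_isLocalization (Submonoid.powers b)
      (fun h => nonZeroDivisors.ne_zero (hle h) rfl)
  have h2 := trdeg_add_eq R S (A := Localization.Away b)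
  rw [trdeg_eq_zero (R := S) (A := Localization.Away b), add_zero] at h2
  exact h2.symm

end G1

section Chev

variable {R S : Type u} [CommRing R] [IsDomain R] [CommRing S] [IsDomain S] [Algebra R S]

theorem isFractionRing_residueField_of_eq_bot (P : PrimeSpectrum R) (hP : P.asIdeal = ⊥) :
    IsFractionRing R P.asIdeal.ResidueField := by
  obtain ⟨I, hI⟩ := P
  change I = ⊥ at hP
  subst hP
  infer_instance

/-- **The generic fibre has the smallest dimension** (ring level, from Chevalley's theorem): for
a domain `S` of finite type over a subdomain `R`, every nonempty fibre has dimension at least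
`trdeg R S`. -/
theorem le_ringKrullDim_fiber [Algebra.FiniteType R S]
    (hinj : Function.Injective (algebraMap R S)) (n : ℕ) (hn : Algebra.trdeg R S = n)
    (Q₀ : PrimeSpectrum S) :
    (n : WithBot ℕ∞) ≤
      ringKrullDim ((PrimeSpectrum.comap (algebraMap R S) Q₀).asIdeal.Fiber S) := by
  set p := PrimeSpectrum.comap (algebraMap R S) Q₀ with hp
  have hdimeq : topologicalKrullDim (PrimeSpectrum.comap (algebraMap R S) ⁻¹' {p}) =
      ringKrullDim (p.asIdeal.Fiber S) := by
    rw [← PrimeSpectrum.topologicalKrullDim_eq_ringKrullDim]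
    exact IsHomeomorph.topologicalKrullDim_eq _
      (PrimeSpectrum.preimageHomeomorphFiber R S p).isHomeomorph
  rcases ProductDim.withBot_enat_cases (ringKrullDim (p.asIdeal.Fiber S)) with hD | hD | ⟨m, hD⟩
  · exfalso
    haveI : Nonempty (PrimeSpectrum.comap (algebraMap R S) ⁻¹' {p}) := ⟨⟨Q₀, rfl⟩⟩
    rw [← hdimeq] at hD
    have h0 : (0 : WithBot ℕ∞) ≤ topologicalKrullDim
        (PrimeSpectrum.comap (algebraMap R S) ⁻¹' {p}) := by
      unfold topologicalKrullDim
      haveI : Nonempty (TopologicalSpace.IrreducibleCloseds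
          (PrimeSpectrum.comap (algebraMap R S) ⁻¹' {p})) :=
        ⟨⟨closure {⟨Q₀, rfl⟩}, isIrreducible_singleton.closure, isClosed_closure⟩⟩
      exact Order.krullDim_nonneg
    rw [hD] at h0
    simp at h0
  · rw [hD]; exact le_top
  · rw [hD]
    have h1 : topFibreDim (PrimeSpectrum.comap (algebraMap R S)) Q₀ ≤ (m : WithBot ℕ∞) := by
      unfold topFibreDim
      refine (Groth.Agent.Lib.Helper9.localDim_le_topologicalKrullDim _).trans ?_
      rw [hdimeq, hD]
    have h2 := isOpen_setOf_topFibreDim_le (A := R) (B := S) m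
    let bot : PrimeSpectrum S := ⟨⊥, Ideal.isPrime_bot⟩
    have hsp : bot ⤳ Q₀ := (PrimeSpectrum.le_iff_specializes _ _).mp bot_le
    have h3 : topFibreDim (PrimeSpectrum.comap (algebraMap R S)) bot ≤ (m : WithBot ℕ∞) :=
      hsp.mem_open h2 h1
    obtain ⟨b₀, hb₀, hdim⟩ := exists_away_dim_le (A := R) m bot h3
    have hb0 : b₀ ≠ 0 := fun h => hb₀ (h ▸ zero_mem _)
    have hle : Submonoid.powers b₀ ≤ nonZeroDivisors S :=
      Submonoid.powers_le.mpr (mem_nonZeroDivisors_of_ne_zero hb0)
    haveI : IsDomain (Localization.Away b₀) :=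
      IsLocalization.isDomain_of_le_nonZeroDivisors (Localization.Away b₀) hle
    haveI : Algebra.FiniteType S (Localization.Away b₀) :=
      IsLocalization.finiteType_of_monoid_fg (Submonoid.powers b₀) _
    haveI : Algebra.FiniteType R (Localization.Away b₀) :=
      Algebra.FiniteType.trans (S := S) inferInstance inferInstance
    have hinj' : Function.Injective (algebraMap R (Localization.Away b₀)) := by
      rw [IsScalarTower.algebraMap_eq R S (Localization.Away b₀)]
      exact (IsLocalization.injective (Localization.Away b₀) hle).comp hinj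
    have hPbot : (PrimeSpectrum.comap (algebraMap R S) bot).asIdeal = ⊥ := by
      show Ideal.comap (algebraMap R S) ⊥ = ⊥
      rw [← RingHom.ker_eq_comap_bot]
      exact (RingHom.injective_iff_ker_eq_bot _).mp hinj
    haveI := isFractionRing_residueField_of_eq_bot _ hPbot
    obtain ⟨-, n', hn', htr'⟩ := exists_dim_tensor_fraction_eq_trdeg (R := R)
      (S := Localization.Away b₀) hinj'
      (PrimeSpectrum.comap (algebraMap R S) bot).asIdeal.ResidueField
    rw [trdeg_away_eq hinj b₀ hb0, hn] at htr'
    have hnn : n' = n := by exact_mod_cast htr'.symm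
    subst hnn
    have : ringKrullDim ((PrimeSpectrum.comap (algebraMap R S) bot).asIdeal.Fiber
        (Localization.Away b₀)) = n' := hn'
    rw [this] at hdim
    exact hdim

end Chev

section Val

variable {R S : Type u} [CommRing R] [IsDomain R] [ValuationRing R] [CommRing S] [IsDomain S]
  [Algebra R S]

/-- Lemma V with an arbitrary prime under the given one. -/
theorem trdeg_quotient_le_of_valuationRing' (hinj : Function.Injective (algebraMap R S))
    (Q : Ideal S) [Q.IsPrime] (p : Ideal R) [Q.LiesOver p] :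
    Algebra.trdeg (R ⧸ p) (S ⧸ Q) ≤ Algebra.trdeg R S := by
  obtain rfl : p = Q.under R := Ideal.LiesOver.over
  exact trdeg_quotient_le_of_valuationRing hinj Q

/-- Over a valuation ring, the fibre of a domain of finite type over a maximal ideal has
dimension at most the generic transcendence degree. -/
theorem ringKrullDim_fiber_le_of_isMaximal [Algebra.FiniteType R S]
    (hinj : Function.Injective (algebraMap R S)) (n : ℕ) (hn : Algebra.trdeg R S = n)
    (p : Ideal R) [p.IsMaximal] : ringKrullDim (p.Fiber S) ≤ n := by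
  refine DimFT2.ringKrullDim_le_of_minimalPrimes _ fun 𝔓 _ h𝔓 => ?_
  haveI := h𝔓
  obtain ⟨s, hs, htr, -⟩ := DimFT.exists_dim_eq_trdeg p.ResidueField (p.Fiber S ⧸ 𝔓)
  rw [hs]
  let α : R →+* p.ResidueField := algebraMap R p.ResidueField
  let β : S →+* (p.Fiber S ⧸ 𝔓) := (Ideal.Quotient.mk 𝔓).comp
    (Algebra.TensorProduct.includeRight : S →ₐ[R] p.Fiber S).toRingHom
  have hα : Function.Surjective α := p.algebraMap_residueField_surjective
  have hβ : Function.Surjective β :=
    Ideal.Quotient.mk_surjective.comp (Algebra.TensorProduct.includeRight_surjective S hα)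
  have hcomm : ∀ a : R, β (algebraMap R S a) = algebraMap p.ResidueField (p.Fiber S ⧸ 𝔓) (α a) := by
    intro a
    show Ideal.Quotient.mk 𝔓 ((Algebra.TensorProduct.includeRight : S →ₐ[R] p.Fiber S)
      (algebraMap R S a)) = _
    rw [AlgHom.commutes, IsScalarTower.algebraMap_apply R p.ResidueField (p.Fiber S),
      IsScalarTower.algebraMap_apply p.ResidueField (p.Fiber S) (p.Fiber S ⧸ 𝔓)]
    rfl
  have hαker : RingHom.ker α = p := Ideal.ker_algebraMap_residueField p
  haveI hQprime : (RingHom.ker β).IsPrime := RingHom.ker_isPrime β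
  haveI : (RingHom.ker β).LiesOver p := by
    refine ⟨?_⟩
    ext a
    rw [Ideal.under_def, Ideal.mem_comap, RingHom.mem_ker, hcomm]
    have h0 : a ∈ p ↔ α a = 0 := by
      rw [← RingHom.mem_ker, hαker]
    rw [h0]
    exact ((algebraMap p.ResidueField (p.Fiber S ⧸ 𝔓)).injective.eq_iff'
      (map_zero _)).symm
  have h1 := DimIneq.trdeg_quotient_eq α β hα hβ hcomm p (RingHom.ker β) hαker rfl
  have h2 := trdeg_quotient_le_of_valuationRing' hinj (RingHom.ker β) p
  rw [h1, htr, hn] at h2
  exact_mod_cast h2

end Val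

section Iso

/-- The closed fibre ring computed with the residue field of a local ring. -/
theorem ringKrullDim_residueField_tensor (R S : Type u) [CommRing R] [IsLocalRing R] [CommRing S]
    [Algebra R S] :
    ringKrullDim (IsLocalRing.ResidueField R ⊗[R] S) =
      ringKrullDim ((IsLocalRing.maximalIdeal R).Fiber S) := by
  let e₁ : (R ⧸ IsLocalRing.maximalIdeal R) ≃ₐ[R] (IsLocalRing.maximalIdeal R).ResidueField :=
    AlgEquiv.ofBijective (IsScalarTower.toAlgHom R _ _)
      (Ideal.bijective_algebraMap_quotient_residueField _)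
  let e₂ : (IsLocalRing.ResidueField R ⊗[R] S) ≃ₐ[R]
      ((IsLocalRing.maximalIdeal R).ResidueField ⊗[R] S) :=
    Algebra.TensorProduct.congr e₁ (AlgEquiv.refl : S ≃ₐ[R] S)
  exact ringKrullDim_eq_of_ringEquiv e₂.toRingEquiv

end Iso

end Groth.Agent.Lib.Helper12.ValDim
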