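import Mathlib
import Groth.Agent.Lib.Helper12.ValDim3
import Groth.Agent.Lib.Helper12.ValDim2
import Groth.Agent.Lib.Helper12.ValDimSch
import Groth.Agent.Lib.Helper12.SchemeDimIneq

/-!
# Helper library (helper12): transcendence degrees of residue extensions and the fibre rings
(ring level), towards the dimension function on algebras of finite type over a Prüfer domain
-/

set_option autoImplicit false
universe u v
open Polynomial Cardinal TensorProduct

namespace Groth.Agent.Lib.Helper12.ValDim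

open Groth.Agent.Lib.Helper12.TopFibreDim Groth.Agent.Lib.Helper12.Chevalley

section Fibre

variable {R S : Type u} [CommRing R] [CommRing S] [Algebra R S]

/-- **F1**: the transcendence degree of the residue extension at a prime `P` of `S` over `p` is
the coheight of the corresponding prime of the fibre ring. -/
theorem exists_trdeg_eq_coheight_fiber [Algebra.FiniteType R S] (p : Ideal R) [p.IsPrime]
    (𝔓 : Ideal (p.Fiber S)) [𝔓.IsPrime] (P : Ideal S) [P.IsPrime] [P.LiesOver p]
    (hP : P = 𝔓.comap (Algebra.TensorProduct.includeRight : S →ₐ[R] p.Fiber S)) :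
    ∃ n : ℕ, Algebra.trdeg (R ⧸ p) (S ⧸ P) = n ∧
      Order.coheight (⟨𝔓, inferInstance⟩ : PrimeSpectrum (p.Fiber S)) = n := by
  obtain ⟨n, h1, -, h3⟩ := DimFT2.exists_trdeg_residueField p.ResidueField (p.Fiber S) 𝔓
  refine ⟨n, ?_, h3⟩
  rw [← h1]
  letI inst : Algebra p.ResidueField 𝔓.ResidueField :=
    IsLocalRing.ResidueField.algebra (R := Localization.AtPrime 𝔓) (R₀ := p.ResidueField)
  let α : R →+* p.ResidueField := algebraMap R p.ResidueField
  let g : p.Fiber S →+* 𝔓.ResidueField := algebraMap (p.Fiber S) 𝔓.ResidueField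
  let β : S →+* 𝔓.ResidueField :=
    g.comp (Algebra.TensorProduct.includeRight : S →ₐ[R] p.Fiber S).toRingHom
  have hcomm : ∀ a, β (algebraMap R S a) = algebraMap p.ResidueField 𝔓.ResidueField (α a) := by
    intro a
    show g ((Algebra.TensorProduct.includeRight : S →ₐ[R] p.Fiber S) (algebraMap R S a)) = _
    rw [AlgHom.commutes, IsScalarTower.algebraMap_apply R p.ResidueField (p.Fiber S),
      IsScalarTower.algebraMap_apply p.ResidueField (p.Fiber S) 𝔓.ResidueField]
  have hαker : RingHom.ker α = p := Ideal.ker_algebraMap_residueField p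
  have hβker : RingHom.ker β = P := by
    ext x
    rw [RingHom.mem_ker, hP, Ideal.mem_comap]
    exact Ideal.algebraMap_residueField_eq_zero
  have hc : ∀ a : R, a ∉ p → β (algebraMap R S a) ≠ 0 := by
    intro a ha h0
    rw [hcomm] at h0
    have : α a = 0 := (algebraMap p.ResidueField 𝔓.ResidueField).injective
      (h0.trans (map_zero _).symm)
    rw [← RingHom.mem_ker, hαker] at this
    exact ha this
  have hβsmul : ∀ (r : R) (x : p.Fiber S), g (r • x) = β (algebraMap R S r) * g x := by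
    intro r x
    rw [Algebra.smul_def, map_mul]
    congr 1
    show _ = g ((Algebra.TensorProduct.includeRight : S →ₐ[R] p.Fiber S) (algebraMap R S r))
    rw [AlgHom.commutes]
  refine SchemeDimIneq.trdeg_quotient_eq_of_fractions α β hcomm p P hαker hβker ?_ ?_
  · intro z
    obtain ⟨x, y, hy, rfl⟩ := IsFractionRing.div_surjective (A := R ⧸ p) z
    obtain ⟨a, rfl⟩ := Ideal.Quotient.mk_surjective x
    obtain ⟨s, rfl⟩ := Ideal.Quotient.mk_surjective y
    have hs : α s ≠ 0 := by
      show algebraMap R p.ResidueField s ≠ 0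
      rw [← Ideal.algebraMap_quotient_residueField_mk]
      exact (map_ne_zero_iff _ (Ideal.injective_algebraMap_quotient_residueField p)).mpr
        (nonZeroDivisors.ne_zero hy)
    refine ⟨a, s, hs, ?_⟩
    show _ * algebraMap R p.ResidueField s = algebraMap R p.ResidueField a
    rw [← Ideal.algebraMap_quotient_residueField_mk, ← Ideal.algebraMap_quotient_residueField_mk]
    rw [← Ideal.algebraMap_quotient_residueField_mk] at hs
    exact div_mul_cancel₀ _ hs
  · intro z
    obtain ⟨x, y, hy, hz0⟩ := IsFractionRing.div_surjective (A := p.Fiber S ⧸ 𝔓) z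
    obtain ⟨x, rfl⟩ := Ideal.Quotient.mk_surjective x
    obtain ⟨y, rfl⟩ := Ideal.Quotient.mk_surjective y
    have hgy : g y ≠ 0 := by
      show algebraMap (p.Fiber S) 𝔓.ResidueField y ≠ 0
      rw [← Ideal.algebraMap_quotient_residueField_mk]
      exact (map_ne_zero_iff _ (Ideal.injective_algebraMap_quotient_residueField 𝔓)).mpr
        (nonZeroDivisors.ne_zero hy)
    have hz : z * g y = g x := by
      rw [← hz0, Ideal.algebraMap_quotient_residueField_mk,
        Ideal.algebraMap_quotient_residueField_mk]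
      exact div_mul_cancel₀ _ hgy
    obtain ⟨r, hr, s, hs⟩ := Ideal.Fiber.exists_smul_eq_one_tmul p x
    obtain ⟨r', hr', t, ht⟩ := Ideal.Fiber.exists_smul_eq_one_tmul p y
    have hβs : β s = β (algebraMap R S r) * g x := by
      rw [← hβsmul, hs]; rfl
    have hβt : β t = β (algebraMap R S r') * g y := by
      rw [← hβsmul, ht]; rfl
    refine ⟨s * algebraMap R S r', t * algebraMap R S r, ?_, ?_⟩
    · rw [map_mul, hβt]
      exact mul_ne_zero (mul_ne_zero (hc r' hr') hgy) (hc r hr)
    · rw [map_mul, map_mul, hβt, hβs, ← hz]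
      ring

/-- The prime of the fibre ring corresponding to a prime over `p`. -/
noncomputable def fiberPrime (p : Ideal R) [p.IsPrime] (P : Ideal S) [P.IsPrime] [P.LiesOver p] :
    PrimeSpectrum (p.Fiber S) :=
  PrimeSpectrum.primesOverOrderIsoFiber R S p ⟨P, ⟨inferInstance, inferInstance⟩⟩

theorem comap_fiberPrime (p : Ideal R) [p.IsPrime] (P : Ideal S) [P.IsPrime] [P.LiesOver p] :
    P = (fiberPrime p P).asIdeal.comap
      (Algebra.TensorProduct.includeRight : S →ₐ[R] p.Fiber S) := by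
  have h := (PrimeSpectrum.primesOverOrderIsoFiber R S p).symm_apply_apply
    ⟨P, ⟨inferInstance, inferInstance⟩⟩
  have h2 := congrArg Subtype.val h
  rw [PrimeSpectrum.coe_primesOverOrderIsoFiber_symm_apply] at h2
  exact h2.symm

theorem fiberPrime_lt_iff (p : Ideal R) [p.IsPrime] (P Q : Ideal S) [P.IsPrime] [Q.IsPrime]
    [P.LiesOver p] [Q.LiesOver p] : fiberPrime p P < fiberPrime p Q ↔ P < Q := by
  unfold fiberPrime
  rw [OrderIso.lt_iff_lt]
  rfl

theorem fiberPrime_le_iff (p : Ideal R) [p.IsPrime] (P Q : Ideal S) [P.IsPrime] [Q.IsPrime]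
    [P.LiesOver p] [Q.LiesOver p] : fiberPrime p P ≤ fiberPrime p Q ↔ P ≤ Q := by
  unfold fiberPrime
  rw [OrderIso.le_iff_le]
  rfl

/-- Every prime of the fibre ring is a `fiberPrime`. -/
theorem exists_eq_fiberPrime (p : Ideal R) [p.IsPrime] (𝔯 : PrimeSpectrum (p.Fiber S)) :
    ∃ (Z : Ideal S) (_ : Z.IsPrime) (_ : Z.LiesOver p), 𝔯 = fiberPrime p Z := by
  obtain ⟨⟨Z, hZ1, hZ2⟩, rfl⟩ := (PrimeSpectrum.primesOverOrderIsoFiber R S p).surjective 𝔯
  exact ⟨Z, hZ1, hZ2, rfl⟩

/-- The transcendence degree of a residue extension is a natural number, the coheight of the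
corresponding prime of the fibre ring. -/
theorem exists_trdeg_eq_coheight_fiberPrime [Algebra.FiniteType R S] (p : Ideal R) [p.IsPrime]
    (P : Ideal S) [P.IsPrime] [P.LiesOver p] :
    ∃ n : ℕ, Algebra.trdeg (R ⧸ p) (S ⧸ P) = n ∧ Order.coheight (fiberPrime p P) = n :=
  exists_trdeg_eq_coheight_fiber p (fiberPrime p P).asIdeal P (comap_fiberPrime p P)

/-- **F2a**: in one fibre the residue transcendence degree drops strictly. -/
theorem trdeg_lt_of_lt_of_liesOver [Algebra.FiniteType R S] (p : Ideal R) [p.IsPrime]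
    (P Q : Ideal S) [P.IsPrime] [Q.IsPrime] [P.LiesOver p] [Q.LiesOver p] (h : P < Q) :
    ∃ a b : ℕ, Algebra.trdeg (R ⧸ p) (S ⧸ P) = a ∧ Algebra.trdeg (R ⧸ p) (S ⧸ Q) = b ∧ b < a := by
  obtain ⟨a, ha1, ha2⟩ := exists_trdeg_eq_coheight_fiberPrime p P
  obtain ⟨b, hb1, hb2⟩ := exists_trdeg_eq_coheight_fiberPrime p Q
  refine ⟨a, b, ha1, hb1, ?_⟩
  have hlt : fiberPrime p P < fiberPrime p Q := (fiberPrime_lt_iff p P Q).mpr h
  have h1 := Order.coheight_add_one_le hlt
  rw [ha2, hb2] at h1
  have h2 : b + 1 ≤ a := by exact_mod_cast h1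
  omega

/-- **F2b**: in one fibre the residue transcendence degree drops by one along a cover. -/
theorem trdeg_eq_add_one_of_covBy_of_liesOver [Algebra.FiniteType R S] (p : Ideal R) [p.IsPrime]
    (P Q : Ideal S) [P.IsPrime] [Q.IsPrime] [P.LiesOver p] [Q.LiesOver p]
    (h : (⟨P, inferInstance⟩ : PrimeSpectrum S) ⋖ ⟨Q, inferInstance⟩) :
    ∃ a b : ℕ, Algebra.trdeg (R ⧸ p) (S ⧸ P) = a ∧ Algebra.trdeg (R ⧸ p) (S ⧸ Q) = b ∧
      a = b + 1 := by
  obtain ⟨a, ha1, ha2⟩ := exists_trdeg_eq_coheight_fiberPrime p P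
  obtain ⟨b, hb1, hb2⟩ := exists_trdeg_eq_coheight_fiberPrime p Q
  refine ⟨a, b, ha1, hb1, ?_⟩
  have hPQ : P < Q := h.lt
  have hcov : fiberPrime p P ⋖ fiberPrime p Q := by
    refine ⟨(fiberPrime_lt_iff p P Q).mpr hPQ, ?_⟩
    intro 𝔯 h1 h2
    obtain ⟨Z, hZ1, hZ2, rfl⟩ := exists_eq_fiberPrime p 𝔯
    rw [fiberPrime_lt_iff] at h1 h2
    exact h.2 (c := ⟨Z, hZ1⟩) h1 h2
  have h1 := DimFT.coheight_eq_add_one_of_covBy p.ResidueField (p.Fiber S) hcov
  rw [ha2, hb2] at h1
  exact_mod_cast h1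

end Fibre

section Chev

theorem zero_le_localDim {T : Type*} [TopologicalSpace T] (t : T) :
    0 ≤ FlatMor.localDim T t := by
  obtain ⟨U, hU⟩ := Groth.Agent.Lib.Helper9.exists_opens_localDim_eq t
  rw [← hU]
  haveI : Nonempty (U.1 : Set T) := ⟨⟨_, U.2⟩⟩
  exact Groth.Agent.Lib.Helper9.topologicalKrullDim_nonneg_of_nonempty

variable {R S : Type u} [CommRing R] [IsDomain R] [CommRing S] [IsDomain S] [Algebra R S]

/-- **The local fibre dimension is at least the generic one** (ring level, from Chevalley's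
theorem). -/
theorem le_topFibreDim [Algebra.FiniteType R S]
    (hinj : Function.Injective (algebraMap R S)) (n : ℕ) (hn : Algebra.trdeg R S = n)
    (Q₀ : PrimeSpectrum S) :
    (n : WithBot ℕ∞) ≤ topFibreDim (PrimeSpectrum.comap (algebraMap R S)) Q₀ := by
  rcases ProductDim.withBot_enat_cases
    (topFibreDim (PrimeSpectrum.comap (algebraMap R S)) Q₀) with hD | hD | ⟨m, hD⟩
  · exfalso
    have h0 := zero_le_localDim (T := (PrimeSpectrum.comap (algebraMap R S)) ⁻¹'
      {PrimeSpectrum.comap (algebraMap R S) Q₀}) ⟨Q₀, rfl⟩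
    unfold topFibreDim at hD
    rw [hD] at h0
    simp at h0
  · rw [hD]; exact le_top
  · rw [hD]
    have h1 : topFibreDim (PrimeSpectrum.comap (algebraMap R S)) Q₀ ≤ (m : WithBot ℕ∞) := hD.le
    have h2 := isOpen_setOf_topFibreDim_le (A := R) (B := S) m
    let bot : PrimeSpectrum S := ⟨⊥, Ideal.isPrime_bot⟩
    have hsp : bot ⤳ Q₀ := (PrimeSpectrum.le_iff_specializes _ _).mp bot_le
    have h3 : topFibreDim (PrimeSpectrum.comap (algebraMap R S)) bot ≤ (m : WithBot ℕ∞) :=
      hsp.mem_open h2 h1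
    obtain ⟨b₀, hb₀, hdim⟩ := exists_away_dim_le (A := R) m bot h3
    have hb0 : b₀ ≠ 0 := fun h => hb₀ (h ▸ zero_mem _)
    have hle : Submonoid.powers b₀ ≤ nonZeroDivisors S :=
      Submonoid.powers_le.mpr (mem_nonZeroDivisors_of_ne_zero hb0)
    haveI : IsDomain (Localization.Away b₀) :=
      IsLocalization.isDomain_of_le_nonZeroDivisors (Localization.Away b₀) hle
    haveI : Algebra.FiniteType S (Localization.Away b₀) :=
      IsLocalization.finiteType_of_monoid_fg (Submonoid.powers b₀) _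
    haveI : Algebra.FiniteType R (Localization.Away b₀) :=
      Algebra.FiniteType.trans (S := S) inferInstance inferInstance
    have hinj' : Function.Injective (algebraMap R (Localization.Away b₀)) := by
      rw [IsScalarTower.algebraMap_eq R S (Localization.Away b₀)]
      exact (IsLocalization.injective (Localization.Away b₀) hle).comp hinj
    have hPbot : (PrimeSpectrum.comap (algebraMap R S) bot).asIdeal = ⊥ := by
      show Ideal.comap (algebraMap R S) ⊥ = ⊥
      rw [← RingHom.ker_eq_comap_bot]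
      exact (RingHom.injective_iff_ker_eq_bot _).mp hinj
    haveI := isFractionRing_residueField_of_eq_bot _ hPbot
    obtain ⟨-, n', hn', htr'⟩ := exists_dim_tensor_fraction_eq_trdeg (R := R)
      (S := Localization.Away b₀) hinj'
      (PrimeSpectrum.comap (algebraMap R S) bot).asIdeal.ResidueField
    rw [trdeg_away_eq hinj b₀ hb0, hn] at htr'
    have hnn : n' = n := by exact_mod_cast htr'.symm
    subst hnn
    have : ringKrullDim ((PrimeSpectrum.comap (algebraMap R S) bot).asIdeal.Fiber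
        (Localization.Away b₀)) = n' := hn'
    rw [this] at hdim
    exact hdim

/-- **F5**: if `Q` is minimal in its fibre, the residue transcendence degree at `Q` is at least
the generic one. -/
theorem trdeg_le_trdeg_quotient_of_minimal [Algebra.FiniteType R S]
    (hinj : Function.Injective (algebraMap R S)) (Q : Ideal S) [Q.IsPrime]
    (hmin : ∀ Z : Ideal S, Z.IsPrime → Z < Q → Z.under R ≠ Q.under R) :
    Algebra.trdeg R S ≤ Algebra.trdeg (R ⧸ Q.under R) (S ⧸ Q) := by
  obtain ⟨n, hn⟩ := Cardinal.lt_aleph0.mp (trdeg_lt_aleph0_of_finiteType (R := R) (S := S))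
  set q := Q.under R with hq
  let Q₀ : PrimeSpectrum S := ⟨Q, inferInstance⟩
  let q₀ : PrimeSpectrum R := ⟨q, inferInstance⟩
  have hcomap : PrimeSpectrum.comap (algebraMap R S) Q₀ = q₀ := rfl
  have h1 := le_topFibreDim hinj n hn Q₀
  -- the local dimension of the fibre
  have h2 : topFibreDim (PrimeSpectrum.comap (algebraMap R S)) Q₀ =
      FlatMor.localDim (PrimeSpectrum (q.Fiber S)) (fiberPrime q Q) := by
    unfold topFibreDim
    exact SchemeDimFT.localDim_eq_of_isOpenEmbedding _
      (PrimeSpectrum.preimageHomeomorphFiber R S q₀).isOpenEmbedding ⟨Q₀, rfl⟩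
  rw [h2, DimFT2.localDim_primeSpectrum q.ResidueField (q.Fiber S)] at h1
  have h3 : Order.height (fiberPrime q Q) = 0 := by
    rw [Order.height_eq_zero]
    intro 𝔯 h𝔯
    obtain ⟨Z, hZ1, hZ2, rfl⟩ := exists_eq_fiberPrime q 𝔯
    rw [fiberPrime_le_iff] at h𝔯 ⊢
    by_contra hne
    have hlt : Z < Q := lt_of_le_of_ne h𝔯 (fun h => hne h.ge)
    exact hmin Z hZ1 hlt (hZ2.over.symm)
  obtain ⟨b, hb1, hb2⟩ := exists_trdeg_eq_coheight_fiberPrime q Q
  rw [h3, hb2, zero_add] at h1
  rw [hn, hb1]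
  exact_mod_cast h1

end Chev

section Transport

variable {R S : Type u} [CommRing R] [CommRing S] [Algebra R S]

theorem under_comap_mk (P : Ideal S) [P.IsPrime] (Z' : Ideal (S ⧸ P)) :
    (Z'.comap (Ideal.Quotient.mk P)).under R =
      (Z'.under (R ⧸ P.under R)).comap (Ideal.Quotient.mk (P.under R)) := by
  show Ideal.comap (algebraMap R S) (Ideal.comap (Ideal.Quotient.mk P) Z') =
    Ideal.comap (Ideal.Quotient.mk (P.under R))
      (Ideal.comap (algebraMap (R ⧸ P.under R) (S ⧸ P)) Z')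
  rw [Ideal.comap_comap, Ideal.comap_comap]
  rfl

/-- The residue transcendence degree at a prime `Q ⊇ P` computed in the quotient by `P`. -/
theorem trdeg_quotient_quotient (P Q : Ideal S) [P.IsPrime] [Q.IsPrime] (hPQ : P ≤ Q)
    [(Q.map (Ideal.Quotient.mk P)).IsPrime] :
    Algebra.trdeg ((R ⧸ P.under R) ⧸ (Q.map (Ideal.Quotient.mk P)).under (R ⧸ P.under R))
      ((S ⧸ P) ⧸ Q.map (Ideal.Quotient.mk P)) = Algebra.trdeg (R ⧸ Q.under R) (S ⧸ Q) := by
  set p := P.under R with hp
  set Q' := Q.map (Ideal.Quotient.mk P) with hQ'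
  have hsurjS : Function.Surjective (Ideal.Quotient.mk P) := Ideal.Quotient.mk_surjective
  have hQ'comap : Q'.comap (Ideal.Quotient.mk P) = Q := by
    rw [Ideal.comap_map_of_surjective _ hsurjS, ← RingHom.ker_eq_comap_bot, Ideal.mk_ker]
    exact sup_eq_left.mpr hPQ
  let α : R →+* (R ⧸ p) ⧸ Q'.under (R ⧸ p) :=
    (Ideal.Quotient.mk (Q'.under (R ⧸ p))).comp (Ideal.Quotient.mk p)
  let β : S →+* (S ⧸ P) ⧸ Q' := (Ideal.Quotient.mk Q').comp (Ideal.Quotient.mk P)
  have hα : Function.Surjective α :=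
    Ideal.Quotient.mk_surjective.comp Ideal.Quotient.mk_surjective
  have hβ : Function.Surjective β :=
    Ideal.Quotient.mk_surjective.comp Ideal.Quotient.mk_surjective
  have hcomm : ∀ a : R, β (algebraMap R S a) =
      algebraMap ((R ⧸ p) ⧸ Q'.under (R ⧸ p)) ((S ⧸ P) ⧸ Q') (α a) := fun a => rfl
  have hαker : RingHom.ker α = Q.under R := by
    rw [RingHom.ker_eq_comap_bot, ← Ideal.comap_comap, ← RingHom.ker_eq_comap_bot, Ideal.mk_ker,
      ← under_comap_mk, hQ'comap]
  have hβker : RingHom.ker β = Q := by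
    rw [RingHom.ker_eq_comap_bot, ← Ideal.comap_comap, ← RingHom.ker_eq_comap_bot, Ideal.mk_ker,
      hQ'comap]
  exact (DimIneq.trdeg_quotient_eq α β hα hβ hcomm (Q.under R) Q hαker hβker).symm

/-- **F5'**: if no prime between `P` and `Q` (other than `Q`) lies in the fibre of `Q`, then the
residue transcendence degree at `Q` is at least the one at `P`. -/
theorem trdeg_quotient_le_of_minimal_over [Algebra.FiniteType R S] (P Q : Ideal S) [P.IsPrime]
    [Q.IsPrime] (hPQ : P ≤ Q)
    (hmin : ∀ Z : Ideal S, Z.IsPrime → P ≤ Z → Z < Q → Z.under R ≠ Q.under R) :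
    Algebra.trdeg (R ⧸ P.under R) (S ⧸ P) ≤ Algebra.trdeg (R ⧸ Q.under R) (S ⧸ Q) := by
  set p := P.under R with hp
  have hinj : Function.Injective (algebraMap (R ⧸ p) (S ⧸ P)) :=
    Ideal.algebraMap_quotient_injective
  have hsurjS : Function.Surjective (Ideal.Quotient.mk P) := Ideal.Quotient.mk_surjective
  haveI hQ' : (Q.map (Ideal.Quotient.mk P)).IsPrime := by
    apply Ideal.map_isPrime_of_surjective hsurjS
    rw [Ideal.mk_ker]; exact hPQ
  have hQ'comap : (Q.map (Ideal.Quotient.mk P)).comap (Ideal.Quotient.mk P) = Q := by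
    rw [Ideal.comap_map_of_surjective _ hsurjS, ← RingHom.ker_eq_comap_bot, Ideal.mk_ker]
    exact sup_eq_left.mpr hPQ
  haveI : Algebra.FiniteType (R ⧸ p) (S ⧸ P) := by
    haveI : Algebra.FiniteType R (S ⧸ P) :=
      Algebra.FiniteType.of_surjective (Ideal.Quotient.mkₐ R P) Ideal.Quotient.mk_surjective
    exact Algebra.FiniteType.of_restrictScalars_finiteType R (R ⧸ p) (S ⧸ P)
  rw [← trdeg_quotient_quotient P Q hPQ]
  refine trdeg_le_trdeg_quotient_of_minimal hinj (Q.map (Ideal.Quotient.mk P)) ?_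
  intro Z' hZ' hlt heq
  haveI := hZ'
  have hZle : Z'.comap (Ideal.Quotient.mk P) ≤ Q := by
    rw [← hQ'comap]; exact Ideal.comap_mono hlt.le
  have hZne : Z'.comap (Ideal.Quotient.mk P) ≠ Q := by
    intro h
    apply hlt.ne
    rw [← Ideal.map_comap_of_surjective _ hsurjS Z', h]
  refine hmin (Z'.comap (Ideal.Quotient.mk P)) (Ideal.comap_isPrime _ _) ?_
    (lt_of_le_of_ne hZle hZne) ?_
  · intro x hx
    rw [Ideal.mem_comap, Ideal.Quotient.eq_zero_iff_mem.mpr hx]
    exact zero_mem _
  · rw [under_comap_mk, heq, ← under_comap_mk, hQ'comap]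

end Transport

section Tau

variable {R S : Type u} [CommRing R] [CommRing S] [Algebra R S]

theorem exists_trdeg_under_eq [Algebra.FiniteType R S] (P : Ideal S) [P.IsPrime] :
    ∃ a : ℕ, Algebra.trdeg (R ⧸ P.under R) (S ⧸ P) = a := by
  obtain ⟨a, ha, -⟩ := exists_trdeg_eq_coheight_fiberPrime (P.under R) P
  exact ⟨a, ha⟩

theorem toNat_trdeg_lt_of_under_eq [Algebra.FiniteType R S] (P Q : Ideal S) [P.IsPrime]
    [Q.IsPrime] (hPQ : P < Q) (h : P.under R = Q.under R) :
    Cardinal.toNat (Algebra.trdeg (R ⧸ Q.under R) (S ⧸ Q)) <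
      Cardinal.toNat (Algebra.trdeg (R ⧸ P.under R) (S ⧸ P)) := by
  haveI : Q.LiesOver (P.under R) := ⟨h⟩
  obtain ⟨a, b, ha, hb, hab⟩ := trdeg_lt_of_lt_of_liesOver (P.under R) P Q hPQ
  rw [trdeg_quotient_liesOver_eq Q (P.under R)] at hb
  rw [ha, hb, Cardinal.toNat_natCast, Cardinal.toNat_natCast]
  exact hab

theorem toNat_trdeg_eq_add_one_of_under_eq [Algebra.FiniteType R S] (P Q : Ideal S) [P.IsPrime]
    [Q.IsPrime] (hPQ : (⟨P, inferInstance⟩ : PrimeSpectrum S) ⋖ ⟨Q, inferInstance⟩)
    (h : P.under R = Q.under R) :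
    Cardinal.toNat (Algebra.trdeg (R ⧸ P.under R) (S ⧸ P)) =
      Cardinal.toNat (Algebra.trdeg (R ⧸ Q.under R) (S ⧸ Q)) + 1 := by
  haveI : Q.LiesOver (P.under R) := ⟨h⟩
  obtain ⟨a, b, ha, hb, hab⟩ := trdeg_eq_add_one_of_covBy_of_liesOver (P.under R) P Q hPQ
  rw [trdeg_quotient_liesOver_eq Q (P.under R)] at hb
  rw [ha, hb, Cardinal.toNat_natCast, Cardinal.toNat_natCast]
  exact hab

end Tau

section Pruefer

variable {R : Type u} [CommRing R] [IsDomain R]

/-- A quotient of a Prüfer domain by a prime is a Prüfer domain. -/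
theorem valuationRing_quotient
    (hR : ∀ (p : Ideal R) [p.IsPrime], ValuationRing (Localization.AtPrime p))
    (I : Ideal R) [I.IsPrime] (q : Ideal (R ⧸ I)) [q.IsPrime] :
    ValuationRing (Localization.AtPrime q) := by
  have := hR (q.comap (Ideal.Quotient.mk I))
  have hsurj : Function.Surjective
      (Localization.localRingHom (q.comap (Ideal.Quotient.mk I)) q (Ideal.Quotient.mk I) rfl) :=
    RingHom.surjectiveOnStalks_of_surjective Ideal.Quotient.mk_surjective q inferInstance
  exact Function.Surjective.valuationRing _ hsurj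

/-- A domain containing a Prüfer domain is flat over it. -/
theorem flat_of_injective
    (hR : ∀ (p : Ideal R) [p.IsPrime], ValuationRing (Localization.AtPrime p))
    {S : Type u} [CommRing S] [IsDomain S] [Algebra R S]
    (hinj : Function.Injective (algebraMap R S)) : Module.Flat R S := by
  rw [Module.Flat.flat_iff_torsion_eq_bot_of_valuationRing_localization_isMaximal
    (fun P hP => hR P), ← Submodule.isTorsionFree_iff_torsion_eq_bot,
    Module.isTorsionFree_iff_algebraMap_injective]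
  exact hinj

/-- **Going down between two primes** for an algebra over a Prüfer domain. -/
theorem exists_between_under_eq
    (hR : ∀ (p : Ideal R) [p.IsPrime], ValuationRing (Localization.AtPrime p))
    {S : Type u} [CommRing S] [Algebra R S] (P Q : Ideal S) [P.IsPrime] [Q.IsPrime] (hPQ : P ≤ Q)
    (r : Ideal R) [r.IsPrime] (h1 : P.under R ≤ r) (h2 : r ≤ Q.under R) :
    ∃ P' : Ideal S, P'.IsPrime ∧ P ≤ P' ∧ P' ≤ Q ∧ P'.under R = r := by
  set p := P.under R with hp
  have hinj : Function.Injective (algebraMap (R ⧸ p) (S ⧸ P)) :=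
    Ideal.algebraMap_quotient_injective
  haveI : Module.Flat (R ⧸ p) (S ⧸ P) :=
    flat_of_injective (fun q _ => valuationRing_quotient hR p q) hinj
  have hsurjR : Function.Surjective (Ideal.Quotient.mk p) := Ideal.Quotient.mk_surjective
  have hsurjS : Function.Surjective (Ideal.Quotient.mk P) := Ideal.Quotient.mk_surjective
  let r' : Ideal (R ⧸ p) := r.map (Ideal.Quotient.mk p)
  let Q' : Ideal (S ⧸ P) := Q.map (Ideal.Quotient.mk P)
  haveI hr' : r'.IsPrime := by
    apply Ideal.map_isPrime_of_surjective hsurjR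
    rw [Ideal.mk_ker]; exact h1
  haveI hQ' : Q'.IsPrime := by
    apply Ideal.map_isPrime_of_surjective hsurjS
    rw [Ideal.mk_ker]; exact hPQ
  have hr'comap : r'.comap (Ideal.Quotient.mk p) = r := by
    rw [Ideal.comap_map_of_surjective _ hsurjR, ← RingHom.ker_eq_comap_bot, Ideal.mk_ker]
    exact sup_eq_left.mpr h1
  have hQ'comap : Q'.comap (Ideal.Quotient.mk P) = Q := by
    rw [Ideal.comap_map_of_surjective _ hsurjS, ← RingHom.ker_eq_comap_bot, Ideal.mk_ker]
    exact sup_eq_left.mpr hPQ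
  have hle : r' ≤ Q'.under (R ⧸ p) := by
    intro x hx
    obtain ⟨a, ha, rfl⟩ := (Ideal.mem_map_iff_of_surjective _ hsurjR).mp hx
    rw [Ideal.under_def, Ideal.mem_comap]
    have h3 : algebraMap R S a ∈ Q := h2 ha
    exact Ideal.mem_map_of_mem (Ideal.Quotient.mk P) h3
  obtain ⟨P'', hP''le, hP''prime, hP''over⟩ :=
    Ideal.exists_ideal_le_liesOver_of_le (p := r') (q := Q'.under (R ⧸ p)) Q' hle
  haveI := hP''prime
  refine ⟨P''.comap (Ideal.Quotient.mk P), Ideal.comap_isPrime _ _, ?_, ?_, ?_⟩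
  · intro x hx
    rw [Ideal.mem_comap, Ideal.Quotient.eq_zero_iff_mem.mpr hx]
    exact zero_mem _
  · rw [← hQ'comap]
    exact Ideal.comap_mono hP''le
  · rw [Ideal.under_def, Ideal.comap_comap]
    have hcomp : (Ideal.Quotient.mk P).comp (algebraMap R S) =
        (algebraMap (R ⧸ p) (S ⧸ P)).comp (Ideal.Quotient.mk p) := rfl
    rw [hcomp, ← Ideal.comap_comap, ← Ideal.under_def, ← hP''over.over, hr'comap]

end Pruefer

end Groth.Agent.Lib.Helper12.ValDim
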