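import Mathlib
import Groth.Prelude.Def_Flat
import Groth.Agent.Lib.Helper12.ValDim4
import Groth.Agent.Lib.Helper12.DimFT2
import Groth.Agent.Lib.Helper12.RelNoether2

/-!
# Quasi-finite maps to affine space with prescribed preimage: choice of coordinates (helper12)
-/

set_option autoImplicit false
universe u

open TensorProduct Cardinal

namespace Groth.Agent.Lib.Helper12.QFPresc

open Groth.Agent.Lib.Helper12 Groth.Agent.Lib.Helper12.ValDim

variable {R S : Type u} [CommRing R] [CommRing S] [Algebra R S]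

/-- The transcendence degree of the residue field extension equals that of the quotient domains. -/
theorem trdeg_residueField_eq (p : Ideal R) [p.IsPrime] (q : Ideal S) [q.IsPrime] [q.LiesOver p]
    [Algebra (Localization.AtPrime p) (Localization.AtPrime q)]
    [Localization.AtPrime.IsLiesOverAlgebra p q] :
    Algebra.trdeg (R ⧸ p) (S ⧸ q) = Algebra.trdeg p.ResidueField q.ResidueField := by
  refine SchemeDimIneq.trdeg_quotient_eq_of_fractions (algebraMap R p.ResidueField)
    (algebraMap S q.ResidueField) ?_ p q (Ideal.ker_algebraMap_residueField p)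
    (Ideal.ker_algebraMap_residueField q) ?_ ?_
  · intro a
    rw [← IsScalarTower.algebraMap_apply, ← IsScalarTower.algebraMap_apply]
  · intro z
    obtain ⟨r, a, ha, h⟩ := RelNoether.exists_fraction (⟨p, inferInstance⟩ : PrimeSpectrum R) z
    refine ⟨r, a, ?_, h⟩
    rwa [Ne, Ideal.algebraMap_residueField_eq_zero]
  · intro z
    obtain ⟨r, a, ha, h⟩ := RelNoether.exists_fraction (⟨q, inferInstance⟩ : PrimeSpectrum S) z
    refine ⟨r, a, ?_, h⟩
    rwa [Ne, Ideal.algebraMap_residueField_eq_zero]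

/-- A transcendence basis of `S ⧸ q` over `R ⧸ p` lifted to `S`. -/
theorem exists_algebraicIndependent (p : Ideal R) [p.IsPrime] (q : Ideal S) [q.IsPrime]
    [q.LiesOver p] (r : ℕ) (hr : Algebra.trdeg (R ⧸ p) (S ⧸ q) = r) :
    ∃ t : Fin r → S, AlgebraicIndependent (R ⧸ p) (fun i => Ideal.Quotient.mk q (t i)) := by
  obtain ⟨B, hB⟩ := exists_isTranscendenceBasis (R ⧸ p) (S ⧸ q)
  have hcard : #B = r := by rw [hB.cardinalMk_eq_trdeg, hr]
  obtain ⟨e⟩ := Cardinal.mk_eq_nat_iff.mp hcard
  choose t ht using fun i : Fin r => Ideal.Quotient.mk_surjective ((e.symm i : B) : S ⧸ q)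
  refine ⟨t, ?_⟩
  have h1 : (fun i => Ideal.Quotient.mk q (t i)) = (fun b : B => (b : S ⧸ q)) ∘ e.symm := by
    funext i
    exact ht i
  rw [h1]
  exact hB.1.comp e.symm e.symm.injective

variable [Algebra.FiniteType R S]

/-- Parameters cutting out `q` in its fibre. -/
theorem exists_parameters (p : Ideal R) [p.IsPrime] (q : Ideal S) [q.IsPrime]
    [q.LiesOver p] (Q : PrimeSpectrum (p.Fiber S))
    (hQ : Q.asIdeal.comap (Algebra.TensorProduct.includeRight.toRingHom) = q) (n r : ℕ)
    (hdim : FlatMor.localDim (PrimeSpectrum (p.Fiber S)) Q = (n : WithBot ℕ∞))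
    (hr : Algebra.trdeg (R ⧸ p) (S ⧸ q) = r) :
    ∃ (m : ℕ) (u : Fin m → S), n = r + m ∧ (∀ j, u j ∈ q) ∧
      ∀ (q' : Ideal S) [q'.IsPrime] [q'.LiesOver p], (∀ j, u j ∈ q') → q' ≤ q → q' = q := by
  classical
  haveI : IsNoetherianRing (p.Fiber S) :=
    Algebra.FiniteType.isNoetherianRing p.ResidueField (p.Fiber S)
  have hloc := DimFT2.localDim_primeSpectrum p.ResidueField (p.Fiber S) Q
  rw [hdim] at hloc
  obtain ⟨c, hc1, hc2⟩ := exists_trdeg_eq_coheight_fiber p Q.asIdeal q hQ.symm
  have hcr : c = r := by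
    rw [hr] at hc1
    exact_mod_cast hc1.symm
  subst hcr
  obtain ⟨F, hFmin, hFcard⟩ := Ideal.exists_finset_card_eq_height_of_isNoetherianRing Q.asIdeal
  have hQfp : Q = fiberPrime p q := by
    obtain ⟨Z, hZ1, hZ2, hZ⟩ := exists_eq_fiberPrime p Q
    have h1 := comap_fiberPrime p Z
    rw [← hZ] at h1
    have h2 : Z = q := h1.trans hQ
    subst h2
    exact hZ
  have hnm : n = c + F.card := by
    have h1 : Order.height Q = Q.asIdeal.height := (PrimeSpectrum.height_eq_orderHeight Q).symm
    have h2 : ((n : ℕ∞) : WithBot ℕ∞) = ((Order.height Q + Order.coheight Q : ℕ∞) : WithBot ℕ∞) :=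
      hloc
    have h3 : (n : ℕ∞) = Order.height Q + Order.coheight Q := by exact_mod_cast h2
    rw [h1, ← hFcard, hc2] at h3
    have h4 : (n : ℕ∞) = ((F.card + c : ℕ) : ℕ∞) := by rw [h3]; push_cast; rfl
    have h5 : n = F.card + c := by exact_mod_cast h4
    omega
  choose a ha s hs using fun x : p.Fiber S => Ideal.Fiber.exists_smul_eq_one_tmul p x
  have hunit : ∀ x : p.Fiber S, IsUnit (algebraMap R (p.Fiber S) (a x)) := by
    intro x
    rw [IsScalarTower.algebraMap_apply R p.ResidueField (p.Fiber S)]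
    refine IsUnit.map _ (IsUnit.mk0 _ ?_)
    rw [Ne, Ideal.algebraMap_residueField_eq_zero]
    exact ha x
  refine ⟨F.card, fun j => s (F.equivFin.symm j : p.Fiber S), hnm, ?_, ?_⟩
  · intro j
    rw [← hQ, Ideal.mem_comap]
    show (1 : p.ResidueField) ⊗ₜ[R] s (F.equivFin.symm j : p.Fiber S) ∈ Q.asIdeal
    rw [← hs, Algebra.smul_def]
    refine Ideal.mul_mem_left _ _ (hFmin.1.2 (Ideal.subset_span ?_))
    exact (F.equivFin.symm j).2
  · intro q' _ _ hu hle
    have hle' : fiberPrime p q' ≤ Q := by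
      rw [hQfp, fiberPrime_le_iff]
      exact hle
    have hspan : Ideal.span (F : Set (p.Fiber S)) ≤ (fiberPrime p q').asIdeal := by
      rw [Ideal.span_le]
      intro x hx
      have hj := hu (F.equivFin ⟨x, hx⟩)
      simp only [Equiv.symm_apply_apply] at hj
      have h1 : (1 : p.ResidueField) ⊗ₜ[R] s x ∈ (fiberPrime p q').asIdeal := by
        have h2 := comap_fiberPrime p q'
        rw [h2] at hj
        exact hj
      rw [← hs, Algebra.smul_def] at h1
      rcases (fiberPrime p q').isPrime.mem_or_mem h1 with h3 | h3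
      · exact absurd (Ideal.eq_top_of_isUnit_mem _ h3 (hunit x)) (fiberPrime p q').isPrime.ne_top
      · exact h3
    have hge : Q.asIdeal ≤ (fiberPrime p q').asIdeal :=
      hFmin.2 ⟨(fiberPrime p q').isPrime, hspan⟩ hle'
    have heq : fiberPrime p q' = fiberPrime p q := by
      rw [← hQfp]
      exact le_antisymm hle' hge
    have h1 := comap_fiberPrime p q'
    have h2 := comap_fiberPrime p q
    rw [heq] at h1
    exact h1.trans h2.symm

end Groth.Agent.Lib.Helper12.QFPresc
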