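import Mathlib

/-!
# Quasi-finite maps to affine space with prescribed preimage: the preimage (helper12)

For `φ : R[X_1..X_{r+m}] → S`, `X ↦ (t, u)`, with `u_j ∈ q` and `t` algebraically independent modulo
`q` over `R ⧸ p`, the preimage of `q` is `(p, X_{r+1}, …, X_{r+m})`.
-/

set_option autoImplicit false
universe u

open MvPolynomial

namespace Groth.Agent.Lib.Helper12.QFPresc

variable {R S : Type u} [CommRing R] [CommRing S] [Algebra R S]
variable (p : Ideal R) {r m : ℕ} (t : Fin r → S) (u : Fin m → S)

variable (R) in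
/-- The coordinate map. -/
noncomputable def phi : MvPolynomial (Fin (r + m)) R →ₐ[R] S := aeval (Fin.append t u)

/-- Reduction modulo `p` and the last `m` variables. -/
noncomputable def rho : MvPolynomial (Fin (r + m)) R →+* MvPolynomial (Fin r) (R ⧸ p) :=
  eval₂Hom (C.comp (Ideal.Quotient.mk p)) (Fin.append X (fun _ : Fin m => 0))

variable (r m) in
/-- The expected preimage ideal. -/
noncomputable def J : Ideal (MvPolynomial (Fin (r + m)) R) :=
  p.map C ⊔ Ideal.span (Set.range fun j : Fin m => (X (Fin.natAdd r j) : MvPolynomial (Fin (r + m)) R))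

theorem rho_C (a : R) : rho (m := m) (r := r) p (C a) = C (Ideal.Quotient.mk p a) := by
  simp [rho]

theorem rho_X_left (i : Fin r) : rho (m := m) p (X (Fin.castAdd m i)) = X i := by
  simp [rho]

theorem rho_X_right (j : Fin m) : rho (r := r) p (X (Fin.natAdd r j)) = 0 := by
  simp [rho]

theorem J_le_ker_rho : J p r m ≤ RingHom.ker (rho (r := r) (m := m) p) := by
  unfold J
  rw [sup_le_iff]
  constructor
  · rw [Ideal.map_le_iff_le_comap]
    intro a ha
    rw [Ideal.mem_comap, RingHom.mem_ker, rho_C, Ideal.Quotient.eq_zero_iff_mem.mpr ha, map_zero]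
  · rw [Ideal.span_le]
    rintro _ ⟨j, rfl⟩
    exact rho_X_right p j

theorem ker_rho : RingHom.ker (rho (r := r) (m := m) p) = J p r m := by
  refine le_antisymm ?_ (J_le_ker_rho p)
  have hp : ∀ a ∈ p, ((Ideal.Quotient.mk (J p r m)).comp C) a = 0 := by
    intro a ha
    rw [RingHom.comp_apply, Ideal.Quotient.eq_zero_iff_mem]
    exact Ideal.mem_sup_left (Ideal.mem_map_of_mem _ ha)
  let τ : MvPolynomial (Fin r) (R ⧸ p) →+* MvPolynomial (Fin (r + m)) R ⧸ J p r m :=
    eval₂Hom (Ideal.Quotient.lift p ((Ideal.Quotient.mk (J p r m)).comp C) hp)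
      (fun i => Ideal.Quotient.mk (J p r m) (X (Fin.castAdd m i)))
  have hτ : τ.comp (rho p) = Ideal.Quotient.mk (J p r m) := by
    refine MvPolynomial.ringHom_ext (fun a => ?_) (fun i => ?_)
    · rw [RingHom.comp_apply, rho_C]
      simp [τ]
    · refine Fin.addCases (fun i' => ?_) (fun j => ?_) i
      · rw [RingHom.comp_apply, rho_X_left]
        simp [τ]
      · rw [RingHom.comp_apply, rho_X_right, map_zero, eq_comm, Ideal.Quotient.eq_zero_iff_mem]
        exact Ideal.mem_sup_right (Ideal.subset_span ⟨j, rfl⟩)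
  intro h hh
  rw [RingHom.mem_ker] at hh
  have := congrArg (fun f => f h) hτ
  simp only [RingHom.comp_apply, hh, map_zero] at this
  exact Ideal.Quotient.eq_zero_iff_mem.mp this.symm

theorem rho_surjective : Function.Surjective (rho (r := r) (m := m) p) := by
  intro G
  induction G using MvPolynomial.induction_on with
  | C a =>
    obtain ⟨a, rfl⟩ := Ideal.Quotient.mk_surjective a
    exact ⟨C a, rho_C p a⟩
  | add f g hf hg =>
    obtain ⟨f', rfl⟩ := hf
    obtain ⟨g', rfl⟩ := hg
    exact ⟨f' + g', map_add _ _ _⟩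
  | mul_X f i hf =>
    obtain ⟨f', rfl⟩ := hf
    exact ⟨f' * X (Fin.castAdd m i), by rw [map_mul, rho_X_left]⟩

/-- The coordinate map modulo a prime over `p` containing the `u_j` factors through `rho`. -/
theorem mk_phi (q' : Ideal S) [q'.IsPrime] [q'.LiesOver p] (hu : ∀ j, u j ∈ q')
    (h : MvPolynomial (Fin (r + m)) R) :
    Ideal.Quotient.mk q' (phi R t u h) =
      aeval (R := R ⧸ p) (fun i => Ideal.Quotient.mk q' (t i)) (rho p h) := by
  have key : (Ideal.Quotient.mk q').comp (phi R t u).toRingHom =
      (aeval (R := R ⧸ p) (fun i => Ideal.Quotient.mk q' (t i))).toRingHom.comp (rho p) := by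
    refine MvPolynomial.ringHom_ext (fun a => ?_) (fun i => ?_)
    · simp only [RingHom.comp_apply, AlgHom.toRingHom_eq_coe, RingHom.coe_coe, rho_C]
      rw [phi, aeval_C, aeval_C, Ideal.Quotient.algebraMap_mk_of_liesOver]
    · refine Fin.addCases (fun i' => ?_) (fun j => ?_) i
      · simp only [RingHom.comp_apply, AlgHom.toRingHom_eq_coe, RingHom.coe_coe, rho_X_left]
        rw [phi, aeval_X, aeval_X, Fin.append_left]
      · simp only [RingHom.comp_apply, AlgHom.toRingHom_eq_coe, RingHom.coe_coe, rho_X_right]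
        rw [phi, aeval_X, Fin.append_right, map_zero]
        exact Ideal.Quotient.eq_zero_iff_mem.mpr (hu j)
  exact congrArg (fun f => f h) key

/-- The preimage of `q` under the coordinate map. -/
theorem comap_phi (q : Ideal S) [q.IsPrime] [q.LiesOver p] (hu : ∀ j, u j ∈ q)
    (ht : AlgebraicIndependent (R ⧸ p) (fun i => Ideal.Quotient.mk q (t i))) :
    q.comap (phi R t u).toRingHom = J p r m := by
  rw [← ker_rho]
  ext h
  rw [Ideal.mem_comap, RingHom.mem_ker, ← Ideal.Quotient.eq_zero_iff_mem]
  show Ideal.Quotient.mk q (phi R t u h) = 0 ↔ _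
  rw [mk_phi p t u q hu h]
  constructor
  · intro h0
    exact (injective_iff_map_eq_zero _).mp ht _ h0
  · intro h0
    rw [h0, map_zero]

/-- Any prime with the same preimage as `q` lies over `p`, contains the `u_j`, and `t` is still
algebraically independent modulo it. -/
theorem props_of_comap_eq (q q' : Ideal S) [q.IsPrime] [q.LiesOver p] [q'.IsPrime]
    (hu : ∀ j, u j ∈ q)
    (ht : AlgebraicIndependent (R ⧸ p) (fun i => Ideal.Quotient.mk q (t i)))
    (hq' : q'.comap (phi R t u).toRingHom = q.comap (phi R t u).toRingHom) :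
    ∃ _ : q'.LiesOver p, (∀ j, u j ∈ q') ∧
      AlgebraicIndependent (R ⧸ p) (fun i => Ideal.Quotient.mk q' (t i)) := by
  have hq := comap_phi p t u q hu ht
  have hover : q'.LiesOver p := by
    constructor
    have h1 : q'.under R = (q'.comap (phi R t u).toRingHom).comap C := by
      ext a
      simp only [Ideal.under_def, Ideal.mem_comap, AlgHom.toRingHom_eq_coe, RingHom.coe_coe]
      rw [phi, aeval_C]
    have h2 : q.under R = (q.comap (phi R t u).toRingHom).comap C := by
      ext a
      simp only [Ideal.under_def, Ideal.mem_comap, AlgHom.toRingHom_eq_coe, RingHom.coe_coe]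
      rw [phi, aeval_C]
    rw [h1, hq', ← h2]
    exact q.over_def p
  have hu' : ∀ j, u j ∈ q' := by
    intro j
    have h1 : (X (Fin.natAdd r j) : MvPolynomial (Fin (r + m)) R) ∈
        q'.comap (phi R t u).toRingHom := by
      rw [hq', hq]
      exact Ideal.mem_sup_right (Ideal.subset_span ⟨j, rfl⟩)
    rw [Ideal.mem_comap] at h1
    have h2 : (phi R t u).toRingHom (X (Fin.natAdd r j)) = u j := by
      show phi R t u (X (Fin.natAdd r j)) = u j
      rw [phi, aeval_X, Fin.append_right]
    rwa [h2] at h1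
  refine ⟨hover, hu', ?_⟩
  rw [AlgebraicIndependent, injective_iff_map_eq_zero]
  intro G hG
  obtain ⟨h, rfl⟩ := rho_surjective (m := m) p G
  have h1 := mk_phi p t u q' hu' h
  rw [hG, Ideal.Quotient.eq_zero_iff_mem] at h1
  have h2 : h ∈ q'.comap (phi R t u).toRingHom := h1
  rw [hq', hq, ← ker_rho] at h2
  exact h2

end Groth.Agent.Lib.Helper12.QFPresc
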