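import Mathlib
import Groth.Agent.Lib.Helper12.QFPresc1
import Groth.Agent.Lib.Helper12.QFPresc2

/-!
# Quasi-finite maps to affine space with prescribed preimage: quasi-finiteness (helper12)
-/

set_option autoImplicit false
universe u

open MvPolynomial Cardinal

namespace Groth.Agent.Lib.Helper12.QFPresc

open Groth.Agent.Lib.Helper12 Groth.Agent.Lib.Helper12.ValDim

variable {R S : Type u} [CommRing R] [CommRing S] [Algebra R S] [Algebra.FiniteType R S]
variable (p : Ideal R) [p.IsPrime] {r m : ℕ} (t : Fin r → S) (u : Fin m → S)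

/-- Primes with the same preimage as `q` and comparable with `q` are equal to `q`. -/
theorem eq_of_comap_eq (q : Ideal S) [q.IsPrime] [q.LiesOver p] (hu : ∀ j, u j ∈ q)
    (ht : AlgebraicIndependent (R ⧸ p) (fun i => Ideal.Quotient.mk q (t i)))
    (hr : Algebra.trdeg (R ⧸ p) (S ⧸ q) = r)
    (hmin : ∀ (q' : Ideal S) [q'.IsPrime] [q'.LiesOver p], (∀ j, u j ∈ q') → q' ≤ q → q' = q)
    (Z : Ideal S) [Z.IsPrime]
    (hZ : Z.comap (phi R t u).toRingHom = q.comap (phi R t u).toRingHom)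
    (hcomp : Z ≤ q ∨ q ≤ Z) : Z = q := by
  obtain ⟨hover, huZ, htZ⟩ := props_of_comap_eq p t u q Z hu ht hZ
  rcases hcomp with h | h
  · exact hmin Z huZ h
  · by_contra hne
    have hlt : q < Z := lt_of_le_of_ne h (Ne.symm hne)
    obtain ⟨a, b, ha, hb, hba⟩ := trdeg_lt_of_lt_of_liesOver p q Z hlt
    have h1 := htZ.lift_cardinalMk_le_trdeg
    rw [hb, Cardinal.mk_fin, Cardinal.lift_natCast, Cardinal.lift_natCast] at h1
    rw [hr] at ha
    have h2 : r = a := by exact_mod_cast ha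
    have h3 : r ≤ b := by exact_mod_cast h1
    omega

/-- The coordinate map is quasi-finite at `q`. -/
theorem quasiFiniteAt_phi (q : Ideal S) [q.IsPrime] [q.LiesOver p] (hu : ∀ j, u j ∈ q)
    (ht : AlgebraicIndependent (R ⧸ p) (fun i => Ideal.Quotient.mk q (t i)))
    (hr : Algebra.trdeg (R ⧸ p) (S ⧸ q) = r)
    (hmin : ∀ (q' : Ideal S) [q'.IsPrime] [q'.LiesOver p], (∀ j, u j ∈ q') → q' ≤ q → q' = q) :
    letI := (phi R t u).toRingHom.toAlgebra
    Algebra.QuasiFiniteAt (MvPolynomial (Fin (r + m)) R) q := by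
  letI alg : Algebra (MvPolynomial (Fin (r + m)) R) S := (phi R t u).toRingHom.toAlgebra
  have halg : ∀ a, algebraMap (MvPolynomial (Fin (r + m)) R) S a = phi R t u a := fun _ => rfl
  haveI : IsScalarTower R (MvPolynomial (Fin (r + m)) R) S :=
    IsScalarTower.of_algebraMap_eq fun a => by
      rw [halg, MvPolynomial.algebraMap_eq, phi, aeval_C]
  haveI : Algebra.FiniteType (MvPolynomial (Fin (r + m)) R) S :=
    Algebra.FiniteType.of_restrictScalars_finiteType R _ _
  let 𝔭 : Ideal (MvPolynomial (Fin (r + m)) R) := q.under (MvPolynomial (Fin (r + m)) R)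
  haveI : 𝔭.IsPrime := Ideal.IsPrime.under _ q
  haveI : q.LiesOver 𝔭 := ⟨rfl⟩
  have hincomp : ∀ (Z : Ideal S) [Z.IsPrime] [Z.LiesOver 𝔭], (Z ≤ q ∨ q ≤ Z) → Z = q := by
    intro Z _ hZ hcomp
    refine eq_of_comap_eq p t u q hu ht hr hmin Z ?_ hcomp
    exact (Z.over_def 𝔭).symm
  have hmax : IsMax (fiberPrime 𝔭 q) := by
    intro y hy
    obtain ⟨Z, hZ1, hZ2, rfl⟩ := exists_eq_fiberPrime 𝔭 y
    rw [fiberPrime_le_iff] at hy
    have := hincomp Z (Or.inr hy)
    subst this
    exact le_rfl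
  have hmin' : IsMin (fiberPrime 𝔭 q) := by
    intro y hy
    obtain ⟨Z, hZ1, hZ2, rfl⟩ := exists_eq_fiberPrime 𝔭 y
    rw [fiberPrime_le_iff] at hy
    have := hincomp Z (Or.inl hy)
    subst this
    exact le_rfl
  haveI : IsNoetherianRing (𝔭.Fiber S) :=
    Algebra.FiniteType.isNoetherianRing 𝔭.ResidueField (𝔭.Fiber S)
  haveI : IsJacobsonRing (𝔭.Fiber S) := isJacobsonRing_of_finiteType (A := 𝔭.ResidueField)
  have hopen : IsOpen ({fiberPrime 𝔭 q} : Set (PrimeSpectrum (𝔭.Fiber S))) := by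
    have h3 : IsClosed ({fiberPrime 𝔭 q} : Set (PrimeSpectrum (𝔭.Fiber S))) ∧
        StableUnderGeneralization ({fiberPrime 𝔭 q} : Set (PrimeSpectrum (𝔭.Fiber S))) := by
      constructor
      · rw [PrimeSpectrum.isClosed_singleton_iff_isMaximal, ← PrimeSpectrum.isMax_iff]
        exact hmax
      · rw [PrimeSpectrum.stableUnderGeneralization_singleton, ← PrimeSpectrum.isMin_iff]
        exact hmin'
    exact ((PrimeSpectrum.isOpen_singleton_tfae_of_isNoetherian_of_isJacobsonRing
      (fiberPrime 𝔭 q)).out 2 0).mp h3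
  haveI : Algebra.QuasiFiniteAt 𝔭.ResidueField (fiberPrime 𝔭 q).asIdeal :=
    Algebra.QuasiFiniteAt.of_isOpen_singleton (fiberPrime 𝔭 q) hopen
  exact Algebra.QuasiFiniteAt.of_quasiFiniteAt_residueField 𝔭 q (fiberPrime 𝔭 q).asIdeal
    (comap_fiberPrime 𝔭 q).symm

/-- After inverting some `g ∉ q` the coordinate map becomes quasi-finite. -/
theorem exists_quasiFinite_away (q : Ideal S) [q.IsPrime] [q.LiesOver p] (hu : ∀ j, u j ∈ q)
    (ht : AlgebraicIndependent (R ⧸ p) (fun i => Ideal.Quotient.mk q (t i)))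
    (hr : Algebra.trdeg (R ⧸ p) (S ⧸ q) = r)
    (hmin : ∀ (q' : Ideal S) [q'.IsPrime] [q'.LiesOver p], (∀ j, u j ∈ q') → q' ≤ q → q' = q) :
    ∃ g : S, g ∉ q ∧
      ((algebraMap S (Localization.Away g)).comp (phi R t u).toRingHom).QuasiFinite := by
  letI alg : Algebra (MvPolynomial (Fin (r + m)) R) S := (phi R t u).toRingHom.toAlgebra
  have halg : ∀ a, algebraMap (MvPolynomial (Fin (r + m)) R) S a = phi R t u a := fun _ => rfl
  haveI : IsScalarTower R (MvPolynomial (Fin (r + m)) R) S :=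
    IsScalarTower.of_algebraMap_eq fun a => by
      rw [halg, MvPolynomial.algebraMap_eq, phi, aeval_C]
  haveI : Algebra.FiniteType (MvPolynomial (Fin (r + m)) R) S :=
    Algebra.FiniteType.of_restrictScalars_finiteType R _ _
  haveI : Algebra.QuasiFiniteAt (MvPolynomial (Fin (r + m)) R) q :=
    quasiFiniteAt_phi p t u q hu ht hr hmin
  obtain ⟨S', hS', g, hgq, H⟩ :=
    Algebra.QuasiFiniteAt.exists_fg_and_exists_notMem_and_awayMap_bijective
      (R := MvPolynomial (Fin (r + m)) R) q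
  refine ⟨g.1, hgq, ?_⟩
  haveI : Module.Finite (MvPolynomial (Fin (r + m)) R) S' := ⟨(Submodule.fg_top _).mpr hS'⟩
  haveI : Algebra.QuasiFinite (MvPolynomial (Fin (r + m)) R) (Localization.Away g) :=
    .trans _ S' _
  have hsurj : Function.Surjective (Localization.awayMapₐ S'.val g) := H.2
  haveI : Algebra.QuasiFinite (MvPolynomial (Fin (r + m)) R) (Localization.Away (S'.val g)) :=
    Algebra.QuasiFinite.of_surjective_algHom (R := MvPolynomial (Fin (r + m)) R)
      (S := Localization.Away g) (Localization.awayMapₐ S'.val g) hsurj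
  haveI : Algebra.QuasiFinite (MvPolynomial (Fin (r + m)) R) (Localization.Away g.1) := this
  have h1 : (algebraMap (MvPolynomial (Fin (r + m)) R) (Localization.Away g.1)).QuasiFinite :=
    RingHom.quasiFinite_algebraMap.mpr inferInstance
  rwa [IsScalarTower.algebraMap_eq (MvPolynomial (Fin (r + m)) R) S (Localization.Away g.1)] at h1

end Groth.Agent.Lib.Helper12.QFPresc
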