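import Mathlib
import Groth.Prelude.Def_Found
import Groth.Prelude.Def_EGA43
import Groth.Agent.Lib.Helper12.EquidimPt
import Groth.Agent.Lib.Helper12.FibreAvoid
import Groth.Agent.Lib.Helper7.RedLib

set_option autoImplicit false
universe u v
open Polynomial Cardinal AlgebraicGeometry CategoryTheory TopologicalSpace

namespace Groth.Agent.Lib.Helper12.QuasiSection

open Groth.Agent.Lib.Helper12.OrdTools Groth.Agent.Lib.Helper12.DimIneq
open Groth.Agent.Lib.Helper12 Groth.Agent.Lib.Helper12.SchemeDimFT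
open Groth.Agent.Lib.Helper12.ChevalleyCor Groth.Agent.Lib.Helper12.SchemeDimIneq
open Groth.Agent.Lib.Helper14 Order Groth.Agent.Lib.Helper12.Equidim
open Groth.Agent.Lib.Helper12.ClosedSub Groth.Agent.Lib.Helper12.JacDim
open Groth.Agent.Lib.Helper12.FibreMax Groth.Agent.Lib.Helper12.EquidimSub
open Groth.Agent.Lib.Helper12.EquidimHyp Groth.Agent.Lib.Helper12.EquidimPt
open Groth.Agent.Lib.Helper12.FibreAvoid

section Base

variable {X Y : Scheme.{u}} (f : X ⟶ Y) [LocallyOfFiniteType f]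

/-- The base case: fibre dimension zero. -/
theorem quasiSection_zero [IrreducibleSpace Y] [IsLocallyNoetherian Y] (x : X)
    (hf : EGA43.IsEquidimAt f x) (he : FlatMor.fibreDimAt f x = 0) :
    ∃ (T : Scheme.{u}) (i : T ⟶ X), IsImmersion i ∧ IrreducibleSpace ↥T ∧ IsReduced T ∧
      x ∈ Set.range i.base ∧ LocallyOfFiniteType (i ≫ f) ∧ LocallyQuasiFinite (i ≫ f) ∧
      QuasiCompact (i ≫ f) ∧ IsDominant (i ≫ f) := by
  haveI : IsLocallyNoetherian X := LocallyOfFiniteType.isLocallyNoetherian f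
  have hf' := hf
  obtain ⟨e, U, hxU, hcomp, hfib⟩ := hf
  have he0 : (e : WithBot ℕ∞) = 0 := by
    rw [← fibreDimAt_eq_of_mem f U e hfib x hxU, he]
  -- affine open inside U
  obtain ⟨_, ⟨(U' : X.Opens), hU', rfl⟩, hxU', hU'U⟩ := X.isBasis_affineOpens.exists_subset_of_mem_open
    hxU U.2
  haveI : IsNoetherianRing Γ(X, U') := IsLocallyNoetherian.component_noetherian ⟨U', hU'⟩
  haveI : NoetherianSpace U' := noetherianSpace_of_isAffineOpen U' hU'
  obtain ⟨ξ, hξmax, hξx⟩ := exists_isMaxPt_specializes x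
  have hξU' : ξ ∈ U' := hξx.mem_open U'.2 hxU'
  have hgen : IsMaxPt (f ξ) := isMaxPt_apply_of_isEquidimAt f x hf' ξ hξmax hξx
  obtain ⟨ξ', hξ'⟩ : ∃ ξ' : U'.toScheme, U'.ι ξ' = ξ := ⟨⟨ξ, hξU'⟩, rfl⟩
  obtain ⟨xU, hxU''⟩ : ∃ xU : U'.toScheme, U'.ι xU = x := ⟨⟨x, hxU'⟩, rfl⟩
  refine ⟨clSub U'.toScheme ξ', clSubι U'.toScheme ξ' ≫ U'.ι, inferInstance,
    inferInstance, Groth.Agent.Lib.Helper7.isReduced_vanishingIdeal_subscheme _, ?_, inferInstance,
    ?_, ?_, ?_⟩
  · have h1 : ξ' ⤳ xU := by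
      apply U'.ι.isEmbedding.isInducing.specializes_iff.mp
      rw [hξ', hxU'']
      exact hξx
    obtain ⟨w, hw⟩ := exists_clSubι_eq U'.toScheme ξ' xU h1
    refine ⟨w, ?_⟩
    show U'.ι (clSubι U'.toScheme ξ' w) = x
    rw [hw, hxU'']
  · apply locallyQuasiFinite_of_fibreDimAt_le_zero
    intro t
    have h0 : (0 : WithBot ℕ∞) = ((0 : ℕ) : WithBot ℕ∞) := rfl
    rw [h0, fibreDimAt_le_iff]
    intro z hz hzt
    rw [trn_comp_preimmersion]
    have h1 := trn_le_fibreDimAt_of_specializes f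
      ((clSubι U'.toScheme ξ' ≫ U'.ι) z) ((clSubι U'.toScheme ξ' ≫ U'.ι) z) rfl
      specializes_rfl
    have hzU : (clSubι U'.toScheme ξ' ≫ U'.ι) z ∈ U :=
      hU'U (clSubι U'.toScheme ξ' z).2
    rw [fibreDimAt_eq_of_mem f U e hfib _ hzU, he0] at h1
    exact_mod_cast h1
  · haveI : NoetherianSpace (clSub U'.toScheme ξ') :=
      (clSubι U'.toScheme ξ').isEmbedding.isInducing.noetherianSpace
    infer_instance
  · rw [isDominant_iff, DenseRange, dense_iff_closure_eq]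
    apply le_antisymm (Set.subset_univ _)
    rw [← closure_eq_univ_of_isMaxPt _ hgen]
    apply closure_mono
    rw [Set.singleton_subset_iff]
    refine ⟨genericPoint _, ?_⟩
    show f (U'.ι (clSubι U'.toScheme ξ' (genericPoint _))) = f ξ
    rw [clSubι_genericPoint, hξ']

end Base

section Ind

variable {Y : Scheme.{u}}

theorem add_one_cancel (a : WithBot ℕ∞) (e : ℕ) (h : a + 1 = ((e + 1 : ℕ) : WithBot ℕ∞)) :
    a = (e : WithBot ℕ∞) := by
  rcases ProductDim.withBot_enat_cases a with h0 | h0 | ⟨m, h0⟩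
  · rw [h0, WithBot.bot_add] at h
    have h3 : ((e + 1 : ℕ) : WithBot ℕ∞) ≠ ⊥ := by
      have : ((e + 1 : ℕ) : WithBot ℕ∞) = (((e + 1 : ℕ) : ℕ∞) : WithBot ℕ∞) := rfl
      rw [this]; exact WithBot.coe_ne_bot
    exact absurd h.symm h3
  · rw [h0] at h
    have h1 : (⊤ : WithBot ℕ∞) + ((1 : ℕ) : WithBot ℕ∞) = ⊤ := top_add_nat' 1
    have h2 : (⊤ : WithBot ℕ∞) + 1 = ⊤ := by exact_mod_cast h1
    rw [h2] at h
    exact absurd h.symm (nat_ne_top' _)
  · rw [h0] at h ⊢
    have : m + 1 = e + 1 := by exact_mod_cast h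
    have : m = e := by omega
    rw [this]

theorem quasiSection_aux [IrreducibleSpace Y] [IsLocallyNoetherian Y] (e : ℕ) :
    ∀ (X : Scheme.{u}) (f : X ⟶ Y) [LocallyOfFiniteType f] (x : X), EGA43.IsEquidimAt f x →
      FlatMor.fibreDimAt f x = e → (∀ x' : X, f x' = f x → x ⤳ x' → x' = x) →
      ∃ (T : Scheme.{u}) (i : T ⟶ X), IsImmersion i ∧ IrreducibleSpace ↥T ∧ IsReduced T ∧
        x ∈ Set.range i.base ∧ LocallyOfFiniteType (i ≫ f) ∧ LocallyQuasiFinite (i ≫ f) ∧
        QuasiCompact (i ≫ f) ∧ IsDominant (i ≫ f) := by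
  induction e with
  | zero =>
    intro X f _ x hf he _
    exact quasiSection_zero f x hf (by rw [he]; rfl)
  | succ e ih =>
    intro X f _ x hf he hcl
    haveI : IsLocallyNoetherian X := LocallyOfFiniteType.isLocallyNoetherian f
    have htr0 := trn_eq_zero_of_closed_in_fibre f x hcl
    obtain ⟨z, hz1, hz2, hz3⟩ := exists_generization_trn_eq_fibreDimAt f x
    have hzne : z ≠ x := by
      rintro rfl
      rw [he, htr0] at hz3
      have h1 : ((e + 1 : ℕ) : ℕ∞) ≤ 0 := by exact_mod_cast hz3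
      have h2 : e + 1 ≤ 0 := by exact_mod_cast h1
      omega
    obtain ⟨U', hU', hxU'⟩ := exists_affineOpen_mem X x
    haveI : IsAffine U'.toScheme := hU'
    obtain ⟨xU, hxU⟩ : ∃ xU : U'.toScheme, U'.ι xU = x := ⟨⟨x, hxU'⟩, rfl⟩
    have hf' : EGA43.IsEquidimAt (U'.ι ≫ f) xU :=
      isEquidimAt_comp_openImmersion f U'.ι xU (by rw [hxU]; exact hf)
    haveI : IsLocallyNoetherian U'.toScheme :=
      LocallyOfFiniteType.isLocallyNoetherian (U'.ι ≫ f)
    haveI : IsNoetherianRing Γ(U'.toScheme, ⊤) :=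
      IsLocallyNoetherian.component_noetherian ⟨⊤, isAffineOpen_top _⟩
    have hx' : ∃ x' : U'.toScheme, (U'.ι ≫ f) x' = (U'.ι ≫ f) xU ∧ x' ≠ xU ∧ x' ⤳ xU := by
      have hzU' : z ∈ U' := hz2.mem_open U'.2 hxU'
      refine ⟨⟨z, hzU'⟩, ?_, ?_, ?_⟩
      · show f z = f (U'.ι xU)
        rw [hxU]; exact hz1
      · intro h
        apply hzne
        rw [← hxU, ← h]
        rfl
      · apply U'.ι.isEmbedding.isInducing.specializes_iff.mp
        rw [hxU]; exact hz2
    obtain ⟨g, hg1, hg2⟩ := exists_section_avoiding (U'.ι ≫ f) xU ⊤ (isAffineOpen_top _)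
      trivial hx'
    have hxT₀ : xU ∈ (⟨U'.toScheme.zeroLocus ({g} : Set Γ(U'.toScheme, ⊤)),
        Scheme.zeroLocus_isClosed _ _⟩ : TopologicalSpace.Closeds U'.toScheme) := by
      show xU ∈ U'.toScheme.zeroLocus ({g} : Set Γ(U'.toScheme, ⊤))
      rw [Scheme.mem_zeroLocus_iff]
      intro g' hg'
      rw [Set.mem_singleton_iff.mp hg']
      exact hg1
    have hmax' : ∀ z ∈ (⟨U'.toScheme.zeroLocus ({g} : Set Γ(U'.toScheme, ⊤)),
        Scheme.zeroLocus_isClosed _ _⟩ : TopologicalSpace.Closeds U'.toScheme),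
        (U'.ι ≫ f) z = (U'.ι ≫ f) xU →
          ∃ z' : U'.toScheme, (U'.ι ≫ f) z' = (U'.ι ≫ f) xU ∧ z' ⤳ z ∧ z' ≠ z := by
      intro z hzT hz
      by_contra hcon
      push Not at hcon
      have h1 := hg2 z hz (fun z' hz' hsp => hcon z' hz' hsp) trivial
      have h2 : z ∈ U'.toScheme.zeroLocus ({g} : Set Γ(U'.toScheme, ⊤)) := hzT
      rw [Scheme.mem_zeroLocus_iff] at h2
      exact h2 g rfl h1
    obtain ⟨r1, r2, -⟩ := hyp_main (U'.ι ≫ f) xU hf' _ hxT₀
      (fun ξ hξ hm => ringKrullDim_stalk_le_one_of_max_zeroLocus g ξ hξ hm) hmax'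
    have hrange : Set.range (Scheme.IdealSheafData.vanishingIdeal
        (⟨U'.toScheme.zeroLocus ({g} : Set Γ(U'.toScheme, ⊤)),
          Scheme.zeroLocus_isClosed _ _⟩ : TopologicalSpace.Closeds U'.toScheme)).subschemeι =
        U'.toScheme.zeroLocus ({g} : Set Γ(U'.toScheme, ⊤)) := by
      rw [Scheme.IdealSheafData.range_subschemeι]
      exact Scheme.IdealSheafData.coe_support_vanishingIdeal _
    obtain ⟨w, hw⟩ : ∃ w, (Scheme.IdealSheafData.vanishingIdeal
        (⟨U'.toScheme.zeroLocus ({g} : Set Γ(U'.toScheme, ⊤)),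
          Scheme.zeroLocus_isClosed _ _⟩ : TopologicalSpace.Closeds U'.toScheme)).subschemeι w =
        xU := by
      have : xU ∈ Set.range (Scheme.IdealSheafData.vanishingIdeal
        (⟨U'.toScheme.zeroLocus ({g} : Set Γ(U'.toScheme, ⊤)),
          Scheme.zeroLocus_isClosed _ _⟩ : TopologicalSpace.Closeds U'.toScheme)).subschemeι := by
        rw [hrange]; exact hxT₀
      exact this
    have hfd := r2 w hw
    rw [fibreDimAt_comp_openImmersion U'.ι f xU, hxU, he] at hfd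
    have hfd' := add_one_cancel _ e hfd
    have hclw : ∀ w', ((Scheme.IdealSheafData.vanishingIdeal
        (⟨U'.toScheme.zeroLocus ({g} : Set Γ(U'.toScheme, ⊤)),
          Scheme.zeroLocus_isClosed _ _⟩ : TopologicalSpace.Closeds U'.toScheme)).subschemeι ≫
            U'.ι ≫ f) w' = ((Scheme.IdealSheafData.vanishingIdeal
        (⟨U'.toScheme.zeroLocus ({g} : Set Γ(U'.toScheme, ⊤)),
          Scheme.zeroLocus_isClosed _ _⟩ : TopologicalSpace.Closeds U'.toScheme)).subschemeι ≫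
            U'.ι ≫ f) w → w ⤳ w' → w' = w := by
      intro w' hw' hsp
      have h1 : x ⤳ U'.ι ((Scheme.IdealSheafData.vanishingIdeal
        (⟨U'.toScheme.zeroLocus ({g} : Set Γ(U'.toScheme, ⊤)),
          Scheme.zeroLocus_isClosed _ _⟩ : TopologicalSpace.Closeds U'.toScheme)).subschemeι
            w') := by
        rw [← hxU, ← hw]
        exact (hsp.map (Scheme.Hom.continuous _)).map U'.ι.continuous
      have h2 : f (U'.ι ((Scheme.IdealSheafData.vanishingIdeal
        (⟨U'.toScheme.zeroLocus ({g} : Set Γ(U'.toScheme, ⊤)),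
          Scheme.zeroLocus_isClosed _ _⟩ : TopologicalSpace.Closeds U'.toScheme)).subschemeι
            w')) = f x := by
        rw [← hxU, ← hw]; exact hw'
      have h3 := hcl _ h2 h1
      rw [← hxU, ← hw] at h3
      exact (Scheme.Hom.isEmbedding _).injective (U'.ι.isEmbedding.injective h3)
    obtain ⟨T, i', hi1, hi2, hi3, hi4, hi5, hi6, hi7, hi8⟩ :=
      ih _ ((Scheme.IdealSheafData.vanishingIdeal
        (⟨U'.toScheme.zeroLocus ({g} : Set Γ(U'.toScheme, ⊤)),
          Scheme.zeroLocus_isClosed _ _⟩ : TopologicalSpace.Closeds U'.toScheme)).subschemeι ≫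
            U'.ι ≫ f) w (r1 w hw) hfd' hclw
    have e1 : (i' ≫ (Scheme.IdealSheafData.vanishingIdeal
        (⟨U'.toScheme.zeroLocus ({g} : Set Γ(U'.toScheme, ⊤)),
          Scheme.zeroLocus_isClosed _ _⟩ : TopologicalSpace.Closeds U'.toScheme)).subschemeι ≫
            U'.ι) ≫ f = i' ≫ (Scheme.IdealSheafData.vanishingIdeal
        (⟨U'.toScheme.zeroLocus ({g} : Set Γ(U'.toScheme, ⊤)),
          Scheme.zeroLocus_isClosed _ _⟩ : TopologicalSpace.Closeds U'.toScheme)).subschemeι ≫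
            U'.ι ≫ f := by
      simp only [Category.assoc]
    refine ⟨T, i' ≫ (Scheme.IdealSheafData.vanishingIdeal
        (⟨U'.toScheme.zeroLocus ({g} : Set Γ(U'.toScheme, ⊤)),
          Scheme.zeroLocus_isClosed _ _⟩ : TopologicalSpace.Closeds U'.toScheme)).subschemeι ≫
            U'.ι, inferInstance, hi2, hi3, ?_, ?_, ?_, ?_, ?_⟩
    · obtain ⟨t, ht⟩ := hi4
      refine ⟨t, ?_⟩
      show U'.ι ((Scheme.IdealSheafData.vanishingIdeal
        (⟨U'.toScheme.zeroLocus ({g} : Set Γ(U'.toScheme, ⊤)),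
          Scheme.zeroLocus_isClosed _ _⟩ : TopologicalSpace.Closeds U'.toScheme)).subschemeι
            (i' t)) = x
      rw [ht, hw, hxU]
    · rw [e1]; exact hi5
    · rw [e1]; exact hi6
    · rw [e1]; exact hi7
    · rw [e1]; exact hi8

end Ind

end Groth.Agent.Lib.Helper12.QuasiSection
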