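import Mathlib
import Groth.Prelude.Def_Found
import Groth.Prelude.Def_EGA43
import Groth.Agent.Lib.Helper12.QuasiSection

set_option autoImplicit false
universe u v
open Polynomial Cardinal AlgebraicGeometry CategoryTheory TopologicalSpace

namespace Groth.Agent.Lib.Helper12.QuasiSection

open Groth.Agent.Lib.Helper12.OrdTools Groth.Agent.Lib.Helper12.DimIneq
open Groth.Agent.Lib.Helper12 Groth.Agent.Lib.Helper12.SchemeDimFT
open Groth.Agent.Lib.Helper12.ChevalleyCor Groth.Agent.Lib.Helper12.SchemeDimIneq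
open Groth.Agent.Lib.Helper14 Order Groth.Agent.Lib.Helper12.Equidim
open Groth.Agent.Lib.Helper12.ClosedSub Groth.Agent.Lib.Helper12.JacDim
open Groth.Agent.Lib.Helper12.FibreMax Groth.Agent.Lib.Helper12.EquidimSub
open Groth.Agent.Lib.Helper12.EquidimHyp Groth.Agent.Lib.Helper12.EquidimPt
open Groth.Agent.Lib.Helper12.FibreAvoid

section Ded

variable {X Y : Scheme.{u}} (f : X ⟶ Y) [LocallyOfFiniteType f]

/-- Over an irreducible base of dimension at most one, the closure of a point lying over the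
generic point is equidimensional over the base at every point. -/
theorem isEquidimAt_clSub_of_dim_le_one [IrreducibleSpace Y] [IsLocallyNoetherian Y]
    (hY : ∀ y : Y, ringKrullDim (Y.presheaf.stalk y) ≤ 1) (ξ : X) (hξ : IsMaxPt (f ξ))
    (w : clSub X ξ) : EGA43.IsEquidimAt (clSubι X ξ ≫ f) w := by
  obtain ⟨e, he⟩ := exists_trn_eq f ξ
  have hgp : trn (clSubι X ξ ≫ f) (genericPoint (clSub X ξ)) = (e : ℕ∞) := by
    rw [trn_comp_preimmersion, clSubι_genericPoint, he]
  have hggp : (clSubι X ξ ≫ f) (genericPoint (clSub X ξ)) = f ξ := by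
    have : (clSubι X ξ ≫ f) (genericPoint (clSub X ξ)) =
      f (clSubι X ξ (genericPoint (clSub X ξ))) := rfl
    rw [this, clSubι_genericPoint]
  rw [isEquidimAt_iff_pointwise]
  refine ⟨e, ⊤, trivial, ?_, ?_⟩
  · intro ξ' _ hξ'
    have : ξ' = genericPoint _ := (hξ' _ (genericPoint_specializes ξ')).symm
    rw [this, hggp]; exact hξ
  · intro z _ hzmax
    apply le_antisymm
    · by_cases hzg : z = genericPoint _
      · rw [hzg, hgp]
      · have h1 := scheme_dimIneq (clSubι X ξ ≫ f) z (genericPoint _)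
          (genericPoint_specializes z)
        have h2 : (1 : WithBot ℕ∞) ≤ krullDim (Set.Icc z (genericPoint (clSub X ξ))) := by
          rw [Order.one_le_krullDim_iff]
          refine ⟨⟨z, le_rfl, genericPoint_specializes z⟩,
            ⟨genericPoint _, genericPoint_specializes z, le_rfl⟩, ?_⟩
          refine ⟨genericPoint_specializes z, fun h => hzg ?_⟩
          have h' : z ⤳ genericPoint (clSub X ξ) := h
          exact (h'.antisymm (genericPoint_specializes z)).eq
        have h3 : krullDim (Set.Icc ((clSubι X ξ ≫ f) z)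
            ((clSubι X ξ ≫ f) (genericPoint (clSub X ξ)))) ≤ 1 := by
          refine (krullDim_Icc_le_coheight _ _).trans ?_
          rw [← ringKrullDim_stalk_eq_coheight]
          exact hY _
        rw [hgp] at h1
        obtain ⟨t, ht⟩ := exists_trn_eq (clSubι X ξ ≫ f) z
        rw [ht] at h1 ⊢
        have h4 : ((1 : ℕ) : WithBot ℕ∞) + ((t : ℕ∞) : WithBot ℕ∞) ≤
            ((1 : ℕ) : WithBot ℕ∞) + ((e : ℕ∞) : WithBot ℕ∞) :=
          (add_le_add_left (by exact_mod_cast h2) _).trans
            (h1.trans (add_le_add_left (by exact_mod_cast h3) _))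
        have h5 : 1 + t ≤ 1 + e := by exact_mod_cast h4
        have h6 : t ≤ e := by omega
        exact_mod_cast h6
    · obtain ⟨z₂, hz₂1, hz₂2, hz₂3, hz₂4⟩ := exists_between_trn_le (clSubι X ξ ≫ f) z
        (genericPoint _) (genericPoint_specializes z)
      have := hzmax z₂ hz₂1 hz₂3
      rw [this, hgp] at hz₂4
      exact hz₂4

theorem isMaxPt_of_closure_eq_univ (y : Y) (h : closure ({y} : Set Y) = Set.univ) :
    IsMaxPt y := by
  intro y' hy'
  have h1 : y ⤳ y' := by
    rw [specializes_iff_mem_closure, h]; trivial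
  exact (hy'.antisymm h1).eq

/-- EGA IV 14.5.6-type statement over a base of dimension at most one. -/
theorem quasiSection_dedekind [IrreducibleSpace Y] [IsLocallyNoetherian Y]
    (hY : ∀ y : Y, ringKrullDim (Y.presheaf.stalk y) ≤ 1) (y : Y) :
    (∀ Z ∈ irreducibleComponents (X : Type u), (Z ∩ f.base ⁻¹' {y}).Nonempty →
        Dense (f.base '' Z)) ↔
      ∀ x : X, f.base x = y → (∀ x' : X, f.base x' = y → x ⤳ x' → x' = x) →
        ∀ Xi ∈ irreducibleComponents (X : Type u), x ∈ Xi →
          ∃ (T : Scheme.{u}) (i : T ⟶ X), IsImmersion i ∧ IrreducibleSpace ↥T ∧ IsReduced T ∧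
            x ∈ Set.range i.base ∧ Set.range i.base ⊆ Xi ∧
            LocallyOfFiniteType (i ≫ f) ∧ LocallyQuasiFinite (i ≫ f) ∧ QuasiCompact (i ≫ f) ∧
            IsDominant (i ≫ f) := by
  constructor
  · intro hd x hx hcl Xi hXi hxXi
    obtain ⟨ξ, hξmax, rfl⟩ := (mem_irreducibleComponents_iff Xi).mp hXi
    have hdense : Dense (f.base '' closure {ξ}) := hd _ hXi ⟨x, hxXi, hx⟩
    have hξgen : IsMaxPt (f ξ) := by
      apply isMaxPt_of_closure_eq_univ
      apply le_antisymm (Set.subset_univ _)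
      rw [← hdense.closure_eq]
      apply closure_minimal _ isClosed_closure
      refine (image_closure_subset_closure_image f.continuous).trans ?_
      rw [Set.image_singleton]
    obtain ⟨w, hw⟩ := exists_clSubι_eq X ξ x (specializes_iff_mem_closure.mpr hxXi)
    have heq := isEquidimAt_clSub_of_dim_le_one f hY ξ hξgen w
    obtain ⟨e, he, -⟩ := exists_e_of_isEquidimAt _ w heq
    have hclw : ∀ w' : clSub X ξ, (clSubι X ξ ≫ f) w' = (clSubι X ξ ≫ f) w → w ⤳ w' →
        w' = w := by
      intro w' hw' hsp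
      have h1 : x ⤳ clSubι X ξ w' := by
        rw [← hw]; exact hsp.map (clSubι X ξ).continuous
      have h2 : f (clSubι X ξ w') = y := by
        rw [← hx, ← hw]; exact hw'
      have h3 := hcl _ h2 h1
      rw [← hw] at h3
      exact (clSubι X ξ).isEmbedding.injective h3
    obtain ⟨T, i', hi1, hi2, hi3, hi4, hi5, hi6, hi7, hi8⟩ :=
      quasiSection_aux e _ (clSubι X ξ ≫ f) w heq he hclw
    have e1 : (i' ≫ clSubι X ξ) ≫ f = i' ≫ clSubι X ξ ≫ f := by
      simp only [Category.assoc]
    refine ⟨T, i' ≫ clSubι X ξ, inferInstance, hi2, hi3, ?_, ?_, ?_, ?_, ?_, ?_⟩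
    · obtain ⟨t, ht⟩ := hi4
      refine ⟨t, ?_⟩
      show clSubι X ξ (i' t) = x
      rw [ht, hw]
    · rintro _ ⟨t, rfl⟩
      show clSubι X ξ (i' t) ∈ closure {ξ}
      rw [← range_clSubι]
      exact ⟨_, rfl⟩
    · rw [e1]; exact hi5
    · rw [e1]; exact hi6
    · rw [e1]; exact hi7
    · rw [e1]; exact hi8
  · intro he Z hZ hne
    obtain ⟨x₀, hx₀Z, hx₀y⟩ := hne
    letI ovF : (f.fiber y).Over (Spec (CommRingCat.of (Y.residueField y))) :=
      ⟨f.fiberToSpecResidueField y⟩
    haveI : LocallyOfFiniteType ((f.fiber y) ↘ Spec (CommRingCat.of (Y.residueField y))) :=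
      FibreRes.locallyOfFiniteType_fiberToSpecResidueField f y
    have hcl : IsClosed ((f.fiberι y).base ⁻¹' Z) :=
      (isClosed_of_mem_irreducibleComponents Z hZ).preimage (f.fiberι y).continuous
    have hne' : ((f.fiberι y).base ⁻¹' Z).Nonempty := by
      refine ⟨(f.fiberHomeo y).symm ⟨x₀, hx₀y⟩, ?_⟩
      show f.fiberι y ((f.fiberHomeo y).symm ⟨x₀, hx₀y⟩) ∈ Z
      rw [f.fiberι_fiberHomeo_symm y ⟨x₀, hx₀y⟩]
      exact hx₀Z
    obtain ⟨p, hpZ, hpcl⟩ := exists_isClosed_mem_of_isLocallyClosed (Y.residueField y)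
      (f.fiber y) _ hcl.isLocallyClosed hne'
    have hx : f (f.fiberι y p) = y := apply_fiberι f y p
    have hclx : ∀ x' : X, f x' = y → f.fiberι y p ⤳ x' → x' = f.fiberι y p := by
      intro x' hx' hsp
      have h1 : f.fiberι y ((f.fiberHomeo y).symm ⟨x', hx'⟩) = x' :=
        f.fiberι_fiberHomeo_symm y ⟨x', hx'⟩
      have h2 : p ⤳ (f.fiberHomeo y).symm ⟨x', hx'⟩ := by
        apply (f.fiberι y).isEmbedding.isInducing.specializes_iff.mp
        rw [h1]; exact hsp
      have h3 : (f.fiberHomeo y).symm ⟨x', hx'⟩ ∈ closure ({p} : Set (f.fiber y)) :=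
        specializes_iff_mem_closure.mp h2
      rw [hpcl.closure_eq] at h3
      rw [← h1, Set.mem_singleton_iff.mp h3]
    obtain ⟨T, i, -, -, -, -, hrange, -, -, -, hdom⟩ := he _ hx hclx Z hZ hpZ
    have hd : DenseRange (i ≫ f) := (isDominant_iff _).mp hdom
    refine hd.mono ?_
    rintro _ ⟨t, rfl⟩
    exact ⟨i t, hrange ⟨t, rfl⟩, rfl⟩

end Ded

end Groth.Agent.Lib.Helper12.QuasiSection
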