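import Mathlib
import Groth.Agent.Lib.Helper28.GenFreeFT

/-!
# Algebra for the generic constancy of relative associated points (helper12)

* `fp_of_ringEquiv`: finite presentation is insensitive to a ring isomorphism;
* `fp_of_isLocalizedModule`: finite presentation of the standard localisation of a module passes
  to any other model of the localisation;
* `exists_uniform_fg`: an ideal of a finite type algebra over a domain becomes finitely generated
  after inverting one nonzero element of the base.
-/

set_option autoImplicit false
universe u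

namespace Groth.Agent.Lib.Helper12.RAssGenAlg

open Groth.Agent.Lib.Helper28.GenFree nonZeroDivisors

section Transport

variable {R R' : Type u} [CommRing R] [CommRing R'] (σ : R ≃+* R')
  (M' : Type u) [AddCommGroup M'] [Module R' M']

/-- finite presentation is insensitive to a ring isomorphism. -/
theorem fp_of_ringEquiv
    (h : letI : Module R M' := Module.compHom M' σ.toRingHom
      Module.FinitePresentation R M') : Module.FinitePresentation R' M' := by
  letI : Module R M' := Module.compHom M' σ.toRingHom
  letI : Algebra R R' := σ.toRingHom.toAlgebra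
  haveI : IsScalarTower R R' M' := IsScalarTower.of_algebraMap_smul fun r m => rfl
  haveI : Module.FinitePresentation R M' := h
  have hsm : ∀ (r : R) (m : M'), r • m = σ r • m := fun _ _ => rfl
  refine FinitePresentation.of_isBaseChange (LinearMap.id : M' →ₗ[R] M') ?_
  refine IsBaseChange.of_lift_unique _ fun Q _ _ _ _ g => ?_
  have hsmQ : ∀ (r : R) (q : Q), r • q = σ r • q := fun r q => by
    rw [← algebraMap_smul R' r q]
    rfl
  refine ⟨{ toFun := g, map_add' := g.map_add, map_smul' := fun r' m => ?_ }, ?_, ?_⟩
  · obtain ⟨r, rfl⟩ := σ.surjective r'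
    simp only [RingHom.id_apply]
    rw [← hsm, g.map_smul, hsmQ]
  · ext m
    rfl
  · intro g' hg'
    ext m
    have := LinearMap.congr_fun hg' m
    exact this

end Transport

section Loc

variable {S : Type u} [CommRing S] (s : S) {M : Type u} [AddCommGroup M] [Module S M]
  (S' : Type u) [CommRing S'] [Algebra S S'] [IsLocalization.Away s S']
  {M' : Type u} [AddCommGroup M'] [Module S M'] [Module S' M'] [IsScalarTower S S' M']
  (l : M →ₗ[S] M') [IsLocalizedModule (Submonoid.powers s) l]

include l in
/-- finite presentation of the standard localisation passes to any model. -/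
theorem fp_of_isLocalizedModule
    (h : Module.FinitePresentation (Localization.Away s)
      (LocalizedModule (Submonoid.powers s) M)) : Module.FinitePresentation S' M' := by
  let e : Localization.Away s ≃ₐ[S] S' :=
    IsLocalization.algEquiv (Submonoid.powers s) (Localization.Away s) S'
  apply fp_of_ringEquiv e.toRingEquiv M'
  letI : Module (Localization.Away s) M' := Module.compHom M' e.toRingEquiv.toRingHom
  haveI : IsScalarTower S (Localization.Away s) M' := by
    refine IsScalarTower.of_algebraMap_smul fun r m => ?_
    change e (algebraMap S (Localization.Away s) r) • m = r • m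
    rw [e.commutes, algebraMap_smul]
  let i : LocalizedModule (Submonoid.powers s) M ≃ₗ[S] M' :=
    IsLocalizedModule.iso (Submonoid.powers s) l
  let i' : LocalizedModule (Submonoid.powers s) M ≃ₗ[Localization.Away s] M' :=
    LinearEquiv.extendScalarsOfIsLocalization (Submonoid.powers s) (Localization.Away s) i
  exact Module.FinitePresentation.of_equiv i'

end Loc

section Ideal

variable {A B : Type u} [CommRing A] [IsDomain A] [CommRing B] [Algebra A B]
  [Algebra.FiniteType A B]

/-- an ideal of a finite type algebra over a domain is finitely generated up to inverting a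
nonzero element of the base. -/
theorem exists_uniform_fg (I : Ideal B) :
    ∃ g : A, g ≠ 0 ∧ ∃ T : Finset B, (T : Set B) ⊆ I ∧
      ∀ g' : A, g ∣ g' → ∀ i ∈ I, ∃ n : ℕ, g' ^ n • i ∈ Ideal.span (T : Set B) := by
  haveI := isNoetherianRing_pR_finiteType (R := A) (S := B)
  obtain ⟨N', hN'I, ⟨T, hT⟩, htors⟩ := exists_fg_le (R := A) (S' := B) (E := B) I
  obtain ⟨g, hg, hfree⟩ := genFree_finiteType (R := A) (S := B) (B ⧸ N')
  refine ⟨g, hg, T, ?_, ?_⟩
  · intro t ht
    exact hN'I (hT ▸ Submodule.subset_span ht)
  · rintro g' ⟨c, rfl⟩ i hi
    let σ : (B ⧸ N') →ₗ[A] (B ⧸ I) := (Submodule.mapQ N' I LinearMap.id hN'I).restrictScalars A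
    have hσ : Function.Surjective σ := by
      intro y
      obtain ⟨b, rfl⟩ := Submodule.Quotient.mk_surjective _ y
      exact ⟨Submodule.Quotient.mk b, rfl⟩
    have hker : ∀ x ∈ LinearMap.ker σ, ∃ r ∈ A⁰, r • x = 0 := by
      intro x hx
      obtain ⟨b, rfl⟩ := Submodule.Quotient.mk_surjective _ x
      have hb : b ∈ I := by
        have h1 : σ (Submodule.Quotient.mk b) = 0 := hx
        have h2 : σ (Submodule.Quotient.mk b) = Submodule.Quotient.mk b := rfl
        rw [h2, Submodule.Quotient.mk_eq_zero] at h1
        exact h1
      obtain ⟨r, hr, hrb⟩ := htors b hb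
      refine ⟨r, hr, ?_⟩
      rw [← Submodule.Quotient.mk_smul, Submodule.Quotient.mk_eq_zero]
      exact hrb
    have hbij := baseChange_bijective_of_torsion_ker hg σ hσ hker hfree
    have hi0 : σ (Submodule.Quotient.mk i) = 0 := by
      have h2 : σ (Submodule.Quotient.mk i) = Submodule.Quotient.mk i := rfl
      rw [h2, Submodule.Quotient.mk_eq_zero]
      exact hi
    obtain ⟨k, hk⟩ := exists_pow_smul_eq_zero_of_baseChange_injective g σ hbij.1 _ hi0
    refine ⟨k, ?_⟩
    rw [← Submodule.Quotient.mk_smul, Submodule.Quotient.mk_eq_zero] at hk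
    have h3 : (g * c) ^ k • i = c ^ k • (g ^ k • i) := by
      rw [smul_smul, mul_pow, mul_comm]
    rw [h3]
    show _ ∈ Submodule.span B (T : Set B)
    rw [hT, ← algebraMap_smul B (c ^ k)]
    exact N'.smul_mem _ hk

end Ideal

end Groth.Agent.Lib.Helper12.RAssGenAlg
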