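import Mathlib
import Groth.Agent.Lib.Helper20.MSet2
import Groth.Agent.Lib.Helper12.ConsPropBasic

/-!
# Generic constancy of "the relative associated points avoid a closed subset": core (helper12)
-/

set_option autoImplicit false
set_option linter.style.haveILetI false
universe u
open AlgebraicGeometry CategoryTheory Limits

namespace Groth.Agent.Lib.Helper12.RAssGen

open Groth.Agent.Lib.Helper20

/-- generic constancy of the relation `RAss`. -/
def GC {X Y : Scheme.{u}} (f : X ⟶ Y) (F : X.Modules) (Z : Set X) : Prop :=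
  ∃ V : Y.Opens, (V : Set Y).Nonempty ∧
    ((∀ y ∈ V, MSet.RAss f F Z y) ∨ (∀ y ∈ V, ¬ MSet.RAss f F Z y))

/-- transfer of generic constancy along a base change which is topologically an open
embedding. -/
theorem GC.of_pullback {X Y X' Y' : Scheme.{u}} {f : X ⟶ Y} {g : Y' ⟶ Y} {f' : X' ⟶ Y'}
    {eX : X' ⟶ X} (hc : IsPullback eX f' f g) (hg : Topology.IsOpenEmbedding g)
    [LocallyOfFiniteType f] (F : X.Modules) (hF : Coh.IsCoh F) (F' : X'.Modules)
    (iso : F' ≅ (Scheme.Modules.pullback eX).obj F) (Z : Set X) (hZ : IsClosed Z)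
    (h : GC f' F' (eX ⁻¹' Z)) : GC f F Z := by
  obtain ⟨V', hV', hor⟩ := h
  have hbc : ∀ y' : Y', MSet.RAss f' F' (eX ⁻¹' Z) y' ↔ MSet.RAss f F Z (g y') :=
    fun y' => MSet.bcStable_rAss hc inferInstance F F' hF iso Z hZ y'
  refine ⟨⟨g '' (V' : Set Y'), hg.isOpenMap _ V'.isOpen⟩, ?_, ?_⟩
  · obtain ⟨y', hy'⟩ := hV'
    exact ⟨g y', y', hy', rfl⟩
  · rcases hor with h1 | h1
    · left
      rintro _ ⟨y', hy', rfl⟩
      exact (hbc y').1 (h1 y' hy')
    · right
      rintro _ ⟨y', hy', rfl⟩ h2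
      exact h1 y' hy' ((hbc y').2 h2)

/-- transfer along the restriction to an open of the base. -/
theorem GC.of_restrict {X Y : Scheme.{u}} (f : X ⟶ Y) [LocallyOfFiniteType f] (U : Y.Opens)
    (F : X.Modules) (hF : Coh.IsCoh F) (Z : Set X) (hZ : IsClosed Z)
    (h : GC (f ∣_ U) ((Scheme.Modules.pullback (f ⁻¹ᵁ U).ι).obj F) ((f ⁻¹ᵁ U).ι ⁻¹' Z)) :
    GC f F Z :=
  GC.of_pullback (isPullback_morphismRestrict f U).flip U.ι.isOpenEmbedding F hF _ (Iso.refl _)
    Z hZ h

/-- the core case, from the constructibility machine. -/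
theorem gc_core {X Y : Scheme.{u}} (f : X ⟶ Y) [IrreducibleSpace Y]
    [LocallyOfFinitePresentation f] [QuasiCompact f] [QuasiSeparated f] (F : X.Modules)
    [F.IsQuasicoherent] (hF : CohB1.IsFP F) (W : X.Opens)
    (hW : ∀ V : Y.Opens, IsAffineOpen V → IsCompact ((W : Set X) ∩ f ⁻¹' V)) :
    GC f F (W : Set X)ᶜ := by
  have hLC := MSet.isLocallyConstructible_of_rel MSet.bcStable_rAss MSet.genCons_rAss f F hF W hW
  rcases ConsPropBasic.interior_nonempty_or _ hLC with h | h
  · refine ⟨⟨_, isOpen_interior⟩, h, Or.inl fun y hy => ?_⟩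
    exact interior_subset hy
  · refine ⟨⟨_, isOpen_interior⟩, h, Or.inr fun y hy => ?_⟩
    exact interior_subset hy

end Groth.Agent.Lib.Helper12.RAssGen
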