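import Mathlib
import Groth.Agent.Lib.Helper12.RAssGenAlg
import Groth.Agent.Lib.Helper3.SecLoc
import Groth.Agent.Lib.Helper3.QCProps

/-!
# Generic finite presentation of a coherent module, generic retrocompactness of an open (helper12)

`Y` integral, `u : X ⟶ Y` quasi-compact and locally of finite type.
* `generic_fp_module`: a quasi-coherent module of finite type on `X` is of finite presentation over
  a nonempty open of `Y`;
* `generic_compact`: an open subset of `X` is quasi-compact over a nonempty affine open of `Y`.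
-/

set_option autoImplicit false
set_option linter.style.haveILetI false
universe u
open CategoryTheory CategoryTheory.Limits AlgebraicGeometry TensorProduct

namespace Groth.Agent.Lib.Helper12.RAssGen

open Groth.Agent.Lib.Helper28.GenFree Groth.Agent.Lib.Helper3 Groth.Agent.Lib.Helper12.RAssGenAlg

/-- sections of a restriction to an open subscheme. -/
theorem fp_sections_restrict {X : Scheme.{u}} (A : X.Opens) (K : X.Modules)
    (W₁ : A.toScheme.Opens)
    (h : Module.FinitePresentation Γ(X, A.ι ''ᵁ W₁) Γ(K, A.ι ''ᵁ W₁)) :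
    Module.FinitePresentation Γ(A, W₁) Γ(K.restrict A.ι, W₁) := by
  letI inst : Module Γ(A, W₁) Γ(K, A.ι ''ᵁ W₁) :=
    inferInstanceAs (Module Γ(X, A.ι ''ᵁ W₁) Γ(K, A.ι ''ᵁ W₁))
  haveI : Module.FinitePresentation Γ(A, W₁) Γ(K, A.ι ''ᵁ W₁) := h
  have hsm : ∀ (t : Γ(A, W₁)) (m : Γ(K, A.ι ''ᵁ W₁)),
      t • (show Γ(K.restrict A.ι, W₁) from m) =
        (show Γ(K.restrict A.ι, W₁) from t • m) := by
    intro t m
    have h1 : t • (show Γ(K.restrict A.ι, W₁) from m) =
      (show Γ(K.restrict A.ι, W₁) from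
        ((A.ι.appIso W₁).inv t) • (show Γ(K, A.ι ''ᵁ W₁) from m)) := rfl
    rw [h1]
    simp only [Scheme.Opens.ι_appIso, Iso.refl_inv]
    rfl
  let e : Γ(K, A.ι ''ᵁ W₁) ≃ₗ[Γ(A, W₁)] Γ(K.restrict A.ι, W₁) :=
    { toFun := fun m => m, invFun := fun m => m, map_add' := fun _ _ => rfl,
      map_smul' := fun t m => (hsm t m).symm,
      left_inv := fun _ => rfl, right_inv := fun _ => rfl }
  exact Module.FinitePresentation.of_equiv e

section geo

variable {X Y : Scheme.{u}} (u : X ⟶ Y)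

/-- Generic finite presentation on one pair of affine charts. -/
theorem fp_chart (F : X.Modules) [F.IsQuasicoherent] [F.IsFiniteType]
    [LocallyOfFiniteType u] {V : Y.Opens} (hV : IsAffineOpen V)
    [IsDomain Γ(Y, V)] {W : X.Opens} (hW : IsAffineOpen W) (e : W ≤ u ⁻¹ᵁ V) :
    ∃ f : Γ(Y, V), f ≠ 0 ∧ ∀ g : Γ(Y, V), f ∣ g → g ≠ 0 →
      Module.FinitePresentation Γ(X, X.basicOpen ((u.appLE V W e).hom g))
        Γ(F, X.basicOpen ((u.appLE V W e).hom g)) := by
  letI a0 : Algebra Γ(Y, V) Γ(X, W) := (u.appLE V W e).hom.toAlgebra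
  letI a1 : Module Γ(Y, V) Γ(F, W) := Module.compHom _ (u.appLE V W e).hom
  haveI a2 : IsScalarTower Γ(Y, V) Γ(X, W) Γ(F, W) :=
    IsScalarTower.of_algebraMap_smul fun r n => rfl
  haveI a3 : Algebra.FiniteType Γ(Y, V) Γ(X, W) := u.finiteType_appLE hV hW e
  haveI a4 : Module.Finite Γ(X, W) Γ(F, W) := QCProps.finite_sections F hW
  obtain ⟨f, hf, hfp⟩ := genFree_fp (R := Γ(Y, V)) (S := Γ(X, W)) Γ(F, W)
  refine ⟨f, hf, fun g hfg hg0 => ?_⟩
  obtain ⟨-, h⟩ := hfp g hfg hg0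
  letI b2 : Module Γ(X, W) Γ(F, X.basicOpen ((u.appLE V W e).hom g)) :=
    SecLoc.modBasicOpen F ((u.appLE V W e).hom g)
  haveI := hW.isLocalization_basicOpen ((u.appLE V W e).hom g)
  haveI b4 := SecLoc.isLocalizedModule_resLin F hW ((u.appLE V W e).hom g)
  exact fp_of_isLocalizedModule ((u.appLE V W e).hom g)
    Γ(X, X.basicOpen ((u.appLE V W e).hom g)) (SecLoc.resLin F ((u.appLE V W e).hom g)) h

/-- **Generic finite presentation** of a quasi-coherent module of finite type. -/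
theorem generic_fp_module (F : X.Modules) [F.IsQuasicoherent] [F.IsFiniteType]
    [IsIntegral Y] [LocallyOfFiniteType u] [QuasiCompact u] :
    ∃ U : Y.Opens, (U : Set Y).Nonempty ∧
      SheafOfModules.IsFinitePresentation (R := (u ⁻¹ᵁ U).toScheme.ringCatSheaf)
        (F.restrict (u ⁻¹ᵁ U).ι) := by
  obtain ⟨y⟩ : Nonempty Y := inferInstance
  obtain ⟨V, hV, hyV⟩ := QCProps.exists_affine_nbhd y
  haveI : Nonempty V := ⟨⟨y, hyV⟩⟩
  haveI : IsDomain Γ(Y, V) := inferInstance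
  have hc : IsCompact ((u ⁻¹ᵁ V : X.Opens) : Set X) := u.isCompact_preimage hV.isCompact
  obtain ⟨ι, hι, W, hWa, hWV, hcov⟩ := QCSec.exists_finite_affine_cover (u ⁻¹ᵁ V) hc
  have key := fun i => fp_chart u F hV (hWa i) (hWV i)
  choose f hf0 hf using key
  haveI := Fintype.ofFinite ι
  set g : Γ(Y, V) := ∏ i, f i with hg
  have hg0 : g ≠ 0 := Finset.prod_ne_zero_iff.2 fun i _ => hf0 i
  refine ⟨Y.basicOpen g, ?_, ?_⟩
  · rw [Set.nonempty_iff_ne_empty]
    intro h
    apply hg0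
    have h' : Y.basicOpen g = ⊥ := TopologicalSpace.Opens.ext h
    exact (AlgebraicGeometry.basicOpen_eq_bot_iff g).1 h'
  · set A : X.Opens := u ⁻¹ᵁ Y.basicOpen g with hA
    haveI : (F.restrict A.ι).IsQuasicoherent := inferInstance
    apply QCProps.isFinitePresentation_of_charts
    intro x'
    have hxV : A.ι x' ∈ u ⁻¹ᵁ V := Y.basicOpen_le g x'.2
    obtain ⟨i, hi⟩ := TopologicalSpace.Opens.mem_iSup.1 (hcov hxV)
    have hDeq : X.basicOpen ((u.appLE V (W i) (hWV i)).hom g) = W i ⊓ A :=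
      Scheme.basicOpen_appLE u (W i) V (hWV i) g
    have hDA : X.basicOpen ((u.appLE V (W i) (hWV i)).hom g) ≤ A := hDeq ▸ inf_le_right
    have hDaff : IsAffineOpen (X.basicOpen ((u.appLE V (W i) (hWV i)).hom g)) :=
      (hWa i).basicOpen _
    have himg : A.ι ''ᵁ (A.ι ⁻¹ᵁ X.basicOpen ((u.appLE V (W i) (hWV i)).hom g)) =
        X.basicOpen ((u.appLE V (W i) (hWV i)).hom g) := by
      rw [Scheme.Hom.image_preimage_eq_opensRange_inf, Scheme.Opens.opensRange_ι]
      exact inf_eq_right.2 hDA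
    have haff : IsAffineOpen (A.ι ⁻¹ᵁ X.basicOpen ((u.appLE V (W i) (hWV i)).hom g)) := by
      rw [← A.ι.isAffineOpen_iff_of_isOpenImmersion, himg]
      exact hDaff
    refine ⟨A.ι ⁻¹ᵁ X.basicOpen ((u.appLE V (W i) (hWV i)).hom g), haff, ?_, inferInstance, ?_⟩
    · show A.ι x' ∈ X.basicOpen ((u.appLE V (W i) (hWV i)).hom g)
      rw [hDeq]
      exact ⟨hi, x'.2⟩
    · apply fp_sections_restrict
      rw [himg]
      exact hf i g (Finset.dvd_prod_of_mem f (Finset.mem_univ i)) hg0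

/-- Generic quasi-compactness of an open subset on one pair of affine charts. -/
theorem compact_chart [LocallyOfFiniteType u] {V : Y.Opens} (hV : IsAffineOpen V)
    [IsDomain Γ(Y, V)] {W : X.Opens} (hW : IsAffineOpen W) (e : W ≤ u ⁻¹ᵁ V) (O : X.Opens) :
    ∃ f : Γ(Y, V), f ≠ 0 ∧ ∀ g : Γ(Y, V), f ∣ g →
      IsCompact ((O : Set X) ∩ W ∩ u ⁻¹' (Y.basicOpen g)) := by
  letI a0 : Algebra Γ(Y, V) Γ(X, W) := (u.appLE V W e).hom.toAlgebra
  haveI a3 : Algebra.FiniteType Γ(Y, V) Γ(X, W) := u.finiteType_appLE hV hW e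
  let S : Set Γ(X, W) := {b | X.basicOpen b ≤ O}
  obtain ⟨f, hf, T, hTI, hT⟩ := exists_uniform_fg (A := Γ(Y, V)) (B := Γ(X, W)) (Ideal.span S)
  refine ⟨f, hf, fun g hfg => ?_⟩
  have hspan : ∀ b ∈ Ideal.span S, X.basicOpen b ≤ O := by
    intro b hb x hx
    by_contra hxO
    have h1 : x ∈ X.zeroLocus (U := W) S := by
      rw [Scheme.mem_zeroLocus_iff]
      intro s hs hxs
      exact hxO (hs hxs)
    rw [← Scheme.zeroLocus_span, Scheme.mem_zeroLocus_iff] at h1
    exact h1 b hb hx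
  have hset : (O : Set X) ∩ W ∩ u ⁻¹' (Y.basicOpen g) =
      ⋃ t ∈ T, (X.basicOpen (t * (u.appLE V W e).hom g) : Set X) := by
    ext x
    constructor
    · rintro ⟨⟨hxO, hxW⟩, hxg⟩
      have hxgA : x ∈ X.basicOpen ((u.appLE V W e).hom g) := by
        rw [Scheme.basicOpen_appLE]
        exact ⟨hxW, hxg⟩
      obtain ⟨b, hbO, hxb⟩ := hW.exists_basicOpen_le (V := O) ⟨x, hxO⟩ hxW
      have hbS : b ∈ Ideal.span S := Ideal.subset_span hbO
      obtain ⟨n, hn⟩ := hT g hfg b hbS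
      have h2 : g ^ n • b = ((u.appLE V W e).hom g) ^ n * b := by
        rw [Algebra.smul_def, map_pow]
        rfl
      rw [h2] at hn
      have hx2 : x ∈ X.basicOpen (((u.appLE V W e).hom g) ^ n * b) := by
        rw [Scheme.basicOpen_mul]
        refine ⟨?_, hxb⟩
        rcases Nat.eq_zero_or_pos n with h0 | hpos
        · subst h0
          rw [pow_zero, Scheme.basicOpen_of_isUnit _ isUnit_one]
          exact hxW
        · exact (Scheme.basicOpen_pow (X := X) (f := (u.appLE V W e).hom g) hpos).ge hxgA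
      have h3 : x ∉ X.zeroLocus (U := W) (Ideal.span (T : Set Γ(X, W)) : Set Γ(X, W)) := by
        intro h
        rw [Scheme.mem_zeroLocus_iff] at h
        exact h _ hn hx2
      rw [Scheme.zeroLocus_span, Scheme.mem_zeroLocus_iff] at h3
      push Not at h3
      obtain ⟨t, htT, hxt⟩ := h3
      simp only [Set.mem_iUnion]
      refine ⟨t, htT, ?_⟩
      rw [SetLike.mem_coe, Scheme.basicOpen_mul]
      exact ⟨hxt, hxgA⟩
    · intro hx
      simp only [Set.mem_iUnion] at hx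
      obtain ⟨t, htT, hxt⟩ := hx
      rw [SetLike.mem_coe, Scheme.basicOpen_mul] at hxt
      obtain ⟨hxt1, hxt2⟩ := hxt
      rw [Scheme.basicOpen_appLE] at hxt2
      exact ⟨⟨hspan t (hTI htT) hxt1, hxt2.1⟩, hxt2.2⟩
  rw [hset]
  exact T.finite_toSet.isCompact_biUnion fun t _ => ((hW.basicOpen _).isCompact)

/-- **Generic retrocompactness** of an open subset. -/
theorem generic_compact [IsIntegral Y] [LocallyOfFiniteType u] [QuasiCompact u] (O : X.Opens) :
    ∃ U : Y.Opens, IsAffineOpen U ∧ (U : Set Y).Nonempty ∧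
      IsCompact ((O : Set X) ∩ u ⁻¹' U) := by
  obtain ⟨y⟩ : Nonempty Y := inferInstance
  obtain ⟨V, hV, hyV⟩ := QCProps.exists_affine_nbhd y
  haveI : Nonempty V := ⟨⟨y, hyV⟩⟩
  haveI : IsDomain Γ(Y, V) := inferInstance
  have hc : IsCompact ((u ⁻¹ᵁ V : X.Opens) : Set X) := u.isCompact_preimage hV.isCompact
  obtain ⟨ι, hι, W, hWa, hWV, hcov⟩ := QCSec.exists_finite_affine_cover (u ⁻¹ᵁ V) hc
  have key := fun i => compact_chart u hV (hWa i) (hWV i) O
  choose f hf0 hf using key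
  haveI := Fintype.ofFinite ι
  set g : Γ(Y, V) := ∏ i, f i with hg
  have hg0 : g ≠ 0 := Finset.prod_ne_zero_iff.2 fun i _ => hf0 i
  refine ⟨Y.basicOpen g, hV.basicOpen g, ?_, ?_⟩
  · rw [Set.nonempty_iff_ne_empty]
    intro h
    apply hg0
    have h' : Y.basicOpen g = ⊥ := TopologicalSpace.Opens.ext h
    exact (AlgebraicGeometry.basicOpen_eq_bot_iff g).1 h'
  · have hset : (O : Set X) ∩ u ⁻¹' (Y.basicOpen g) =
        ⋃ i, ((O : Set X) ∩ W i ∩ u ⁻¹' (Y.basicOpen g)) := by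
      ext x
      simp only [Set.mem_iUnion, Set.mem_inter_iff]
      constructor
      · rintro ⟨hxO, hxg⟩
        have hxV : x ∈ u ⁻¹ᵁ V := Y.basicOpen_le g hxg
        obtain ⟨i, hi⟩ := TopologicalSpace.Opens.mem_iSup.1 (hcov hxV)
        exact ⟨i, ⟨hxO, hi⟩, hxg⟩
      · rintro ⟨i, ⟨hxO, -⟩, hxg⟩
        exact ⟨hxO, hxg⟩
    rw [hset]
    exact isCompact_iUnion fun i =>
      hf i g (Finset.dvd_prod_of_mem f (Finset.mem_univ i))

end geo

end Groth.Agent.Lib.Helper12.RAssGen
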