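import Mathlib
import Groth.Agent.Lib.Helper12.RAssGenCore
import Groth.Agent.Lib.Helper12.RAssGenGeo
import Groth.Agent.Lib.Helper12.GenQS
import Groth.Agent.Lib.Helper28.GenFlatScheme
import Groth.Agent.Lib.Helper7.RedLib
import Groth.Agent.Lib.Helper1.ConsModLocus

/-!
# Generic constancy of "the relative associated points avoid a closed subset" (helper12)

`f : X ⟶ Y` quasi-compact and locally of finite type, `Y` irreducible, `F` quasi-coherent of
finite type, `Z ⊆ X` closed.  Then there is a nonempty open `V ⊆ Y` such that either for all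
`y ∈ V` the associated points of `F` restricted to the fibre over `y` avoid `Z`, or for no `y ∈ V`.
-/

set_option autoImplicit false
set_option linter.style.haveILetI false
universe u
open AlgebraicGeometry CategoryTheory Limits

namespace Groth.Agent.Lib.Helper12.RAssGen

open Groth.Agent.Lib.Helper20 Groth.Agent.Lib.Helper3

theorem isCoh_restrict {X : Scheme.{u}} (A : X.Opens) (F : X.Modules) (hF : Coh.IsCoh F) :
    Coh.IsCoh (F.restrict A.ι) := by
  haveI : F.IsQuasicoherent := hF.1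
  haveI : F.IsFiniteType := hF.2
  exact ⟨inferInstance, QCProps.isFiniteType_restrict A.ι F⟩

/-- transfer along the restriction to an open of the base, with the restricted module. -/
theorem GC.of_restrict' {X Y : Scheme.{u}} (f : X ⟶ Y) [LocallyOfFiniteType f] (U : Y.Opens)
    (F : X.Modules) (hF : Coh.IsCoh F) (Z : Set X) (hZ : IsClosed Z)
    (h : GC (f ∣_ U) (F.restrict (f ⁻¹ᵁ U).ι) ((f ⁻¹ᵁ U).ι ⁻¹' Z)) :
    GC f F Z :=
  GC.of_pullback (isPullback_morphismRestrict f U).flip U.ι.isOpenEmbedding F hF _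
    ((Scheme.Modules.restrictFunctorIsoPullback (f ⁻¹ᵁ U).ι).app F) Z hZ h

section steps

variable {X Y : Scheme.{u}} (f : X ⟶ Y)

theorem gc_step4 [IsIntegral Y] [LocallyOfFinitePresentation f] [QuasiCompact f]
    [QuasiSeparated f] (F : X.Modules) [F.IsQuasicoherent] (hFP : CohB1.IsFP F)
    (Z : Set X) (hZ : IsClosed Z) : GC f F Z := by
  haveI : SheafOfModules.IsFinitePresentation (R := X.ringCatSheaf) F := hFP
  have hcoh : Coh.IsCoh F := ⟨inferInstance, inferInstance⟩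
  obtain ⟨U, hUaff, hUne, hUc⟩ := generic_compact f ⟨Zᶜ, hZ.isOpen_compl⟩
  refine GC.of_restrict' f U F hcoh Z hZ ?_
  haveI : Nonempty U := by
    obtain ⟨y, hy⟩ := hUne
    exact ⟨⟨y, hy⟩⟩
  haveI : IsIntegral (U : Scheme.{u}) := isIntegral_of_isOpenImmersion U.ι
  haveI : IsAffine (U : Scheme.{u}) := hUaff
  let W' : (f ⁻¹ᵁ U).toScheme.Opens := (f ⁻¹ᵁ U).ι ⁻¹ᵁ ⟨Zᶜ, hZ.isOpen_compl⟩
  have hZ' : ((f ⁻¹ᵁ U).ι ⁻¹' Z) = (W' : Set (f ⁻¹ᵁ U).toScheme)ᶜ := by
    ext x
    simp [W']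
  rw [hZ']
  haveI : (F.restrict (f ⁻¹ᵁ U).ι).IsQuasicoherent := inferInstance
  have hFP' : CohB1.IsFP (F.restrict (f ⁻¹ᵁ U).ι) :=
    QCProps.isFinitePresentation_restrict (f ⁻¹ᵁ U).ι F
  apply gc_core (f ∣_ U) _ hFP' W'
  intro V' hV'
  haveI : QuasiSeparatedSpace (f ⁻¹ᵁ U).toScheme := quasiSeparatedSpace_of_quasiSeparated (f ∣_ U)
  have hW'c : IsCompact (W' : Set (f ⁻¹ᵁ U).toScheme) := by
    rw [(f ⁻¹ᵁ U).ι.isOpenEmbedding.isEmbedding.isCompact_iff]
    have h1 : (f ⁻¹ᵁ U).ι '' (W' : Set (f ⁻¹ᵁ U).toScheme) = Zᶜ ∩ f ⁻¹' U := by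
      show (f ⁻¹ᵁ U).ι '' ((f ⁻¹ᵁ U).ι ⁻¹' Zᶜ) = _
      rw [Set.image_preimage_eq_inter_range, Scheme.Opens.range_ι]
      rfl
    rw [h1]
    exact hUc
  have h2 : IsCompact ((f ∣_ U) ⁻¹' (V' : Set U)) := (f ∣_ U).isCompact_preimage hV'.isCompact
  exact QuasiSeparatedSpace.inter_isCompact _ _ W'.isOpen hW'c
    (V'.isOpen.preimage (f ∣_ U).continuous) h2

theorem gc_step3 [IsIntegral Y] [LocallyOfFinitePresentation f] [QuasiCompact f]
    [QuasiSeparated f] (F : X.Modules) (hF : Coh.IsCoh F)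
    (Z : Set X) (hZ : IsClosed Z) : GC f F Z := by
  haveI : F.IsQuasicoherent := hF.1
  haveI : F.IsFiniteType := hF.2
  obtain ⟨U, hUne, hUfp⟩ := generic_fp_module f F
  refine GC.of_restrict' f U F hF Z hZ ?_
  haveI : Nonempty U := by
    obtain ⟨y, hy⟩ := hUne
    exact ⟨⟨y, hy⟩⟩
  haveI : IsIntegral (U : Scheme.{u}) := isIntegral_of_isOpenImmersion U.ι
  haveI : (F.restrict (f ⁻¹ᵁ U).ι).IsQuasicoherent := inferInstance
  exact gc_step4 (f ∣_ U) _ hUfp _ (hZ.preimage (f ⁻¹ᵁ U).ι.continuous)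

theorem gc_step2 [IsIntegral Y] [LocallyOfFinitePresentation f] [QuasiCompact f]
    (F : X.Modules) (hF : Coh.IsCoh F) (Z : Set X) (hZ : IsClosed Z) : GC f F Z := by
  obtain ⟨U, hUne, hqs⟩ := GenQS.generic_quasiSeparated f
  refine GC.of_restrict' f U F hF Z hZ ?_
  haveI : Nonempty U := by
    obtain ⟨y, hy⟩ := hUne
    exact ⟨⟨y, hy⟩⟩
  haveI : IsIntegral (U : Scheme.{u}) := isIntegral_of_isOpenImmersion U.ι
  haveI := hqs
  exact gc_step3 (f ∣_ U) _ (isCoh_restrict _ F hF) _ (hZ.preimage (f ⁻¹ᵁ U).ι.continuous)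

theorem gc_step1 [IsIntegral Y] [LocallyOfFiniteType f] [QuasiCompact f]
    (F : X.Modules) (hF : Coh.IsCoh F) (Z : Set X) (hZ : IsClosed Z) : GC f F Z := by
  obtain ⟨U, hUd, -, hfp⟩ := Groth.Agent.Lib.Helper28.GenFlat.generic_flat f
  refine GC.of_restrict' f U F hF Z hZ ?_
  haveI : Nonempty U := by
    obtain ⟨y, hy⟩ := hUd.nonempty
    exact ⟨⟨y, hy⟩⟩
  haveI : IsIntegral (U : Scheme.{u}) := isIntegral_of_isOpenImmersion U.ι
  haveI := hfp
  exact gc_step2 (f ∣_ U) _ (isCoh_restrict _ F hF) _ (hZ.preimage (f ⁻¹ᵁ U).ι.continuous)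

open Groth.Agent.Lib.Helper7 in
/-- **Generic constancy** over an irreducible base. -/
theorem gc_irreducible [IrreducibleSpace Y] [LocallyOfFiniteType f] [QuasiCompact f]
    (F : X.Modules) (hF : Coh.IsCoh F) (Z : Set X) (hZ : IsClosed Z) : GC f F Z := by
  set η := genericPoint Y with hη
  obtain ⟨_, ⟨W, hW, rfl⟩, hηW, -⟩ :=
    Y.isBasis_affineOpens.exists_subset_of_mem_open (Set.mem_univ η) isOpen_univ
  obtain ⟨W, rfl⟩ : ∃ W' : Y.Opens, W' = W := ⟨W, rfl⟩
  let r : W.toScheme.nilradical.subscheme ⟶ W.toScheme := W.toScheme.nilradical.subschemeι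
  let i : W.toScheme.nilradical.subscheme ⟶ Y := r ≫ W.ι
  have hrsurj : Function.Surjective r := subschemeι_nilradical_surjective W.toScheme
  have hiemb : Topology.IsEmbedding i :=
    W.ι.isOpenEmbedding.isEmbedding.comp r.isClosedEmbedding.isEmbedding
  have hirange : Set.range i = (W : Set Y) := by
    show Set.range (W.ι ∘ r) = _
    rw [Set.range_comp, hrsurj.range_eq, Set.image_univ, Scheme.Opens.range_ι]
  have hiopen : Topology.IsOpenEmbedding i := ⟨hiemb, by rw [hirange]; exact W.isOpen⟩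
  haveI : IsReduced W.toScheme.nilradical.subscheme :=
    Groth.Agent.Lib.Helper7.isReduced_nilradical_subscheme _
  obtain ⟨y₀, hy₀⟩ : ∃ y₀, i y₀ = η := by
    have : η ∈ Set.range i := by rw [hirange]; exact hηW
    exact this
  have hgen : IsGenericPoint y₀ (Set.univ : Set W.toScheme.nilradical.subscheme) := by
    show closure {y₀} = Set.univ
    rw [hiemb.isInducing.closure_eq_preimage_closure_image, Set.image_singleton, hy₀,
      (genericPoint_spec Y).def]
    rfl
  haveI : IrreducibleSpace W.toScheme.nilradical.subscheme := by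
    have h1 : IsIrreducible (closure ({y₀} : Set W.toScheme.nilradical.subscheme)) :=
      isIrreducible_singleton.closure
    rw [hgen.def] at h1
    exact (irreducibleSpace_def _).mpr h1
  haveI : IsIntegral W.toScheme.nilradical.subscheme :=
    isIntegral_of_irreducibleSpace_of_isReduced _
  have hc : IsPullback (pullback.fst f i) (pullback.snd f i) f i := IsPullback.of_hasPullback f i
  refine GC.of_pullback hc hiopen F hF _ (Iso.refl _) Z hZ ?_
  exact gc_step1 (pullback.snd f i) _ (Groth.Agent.Lib.Helper1.ConsModLocus.isCoh_pullback _ F hF) _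
    (hZ.preimage (pullback.fst f i).continuous)

end steps

section final

variable {X Y : Scheme.{u}} (f : X ⟶ Y) [IrreducibleSpace Y] [LocallyOfFiniteType f]
  [QuasiCompact f] (F : X.Modules) (hF : Coh.IsCoh F) (U : X.Opens)

include hF in
theorem relAss_subset_near_generic
    (h : ∀ x ∈ MoreMor.relAss f F, f x = genericPoint ↑Y → x ∈ U) :
    ∃ V : Y.Opens, (V : Set ↑Y).Nonempty ∧ ∀ x ∈ MoreMor.relAss f F, f x ∈ V → x ∈ U := by
  obtain ⟨V, hV, hor⟩ := gc_irreducible f F hF (U : Set X)ᶜ U.isOpen.isClosed_compl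
  have hηV : genericPoint Y ∈ V :=
    ((genericPoint_spec Y).mem_open_set_iff V.isOpen).mpr (by simpa using hV)
  rcases hor with h1 | h1
  · refine ⟨V, hV, fun x hx hxV => ?_⟩
    have := h1 (f x) hxV x hx rfl
    simpa using this
  · exfalso
    apply h1 _ hηV
    intro x hx hxη hxU
    exact hxU (h x hx hxη)

include hF in
theorem relAss_not_subset_near_generic
    (h : ∃ x ∈ MoreMor.relAss f F, f x = genericPoint ↑Y ∧ x ∉ U) :
    ∃ V : Y.Opens, (V : Set ↑Y).Nonempty ∧
      ∀ y ∈ V, ∃ x ∈ MoreMor.relAss f F, f x = y ∧ x ∉ U := by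
  obtain ⟨V, hV, hor⟩ := gc_irreducible f F hF (U : Set X)ᶜ U.isOpen.isClosed_compl
  have hηV : genericPoint Y ∈ V :=
    ((genericPoint_spec Y).mem_open_set_iff V.isOpen).mpr (by simpa using hV)
  rcases hor with h1 | h1
  · exfalso
    obtain ⟨x, hx, hxη, hxU⟩ := h
    exact h1 _ hηV x hx hxη hxU
  · refine ⟨V, hV, fun y hy => ?_⟩
    have h2 := h1 y hy
    unfold MSet.RAss at h2
    push Not at h2
    obtain ⟨x, hx, hxy, hxU⟩ := h2
    exact ⟨x, hx, hxy, hxU⟩

end final

end Groth.Agent.Lib.Helper12.RAssGen
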