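import Mathlib

/-!
# A Nakayama argument for rings flat over a DVR with reduced closed fibre (helper12)

Let `A` be a Noetherian local ring, `ϖ` a nonzerodivisor in the maximal ideal with `A/ϖ` reduced.
Then `A` is reduced, and for every minimal prime `P` there is a prime `q ⊇ P + (ϖ)` containing no
other minimal prime.
-/

set_option autoImplicit false
set_option linter.style.haveILetI false

namespace Groth.Agent.Lib.Helper12.RedNak

section local_

variable {A : Type*} [CommRing A] [IsNoetherianRing A] [IsLocalRing A]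

theorem eq_bot_of_forall_mul (ϖ : A) (hϖm : ϖ ∈ IsLocalRing.maximalIdeal A) (I : Ideal A)
    (h : ∀ x ∈ I, ∃ x' ∈ I, x = ϖ * x') : I = ⊥ := by
  refine Submodule.eq_bot_of_le_smul_of_le_jacobson_bot (Ideal.span {ϖ}) I
    (IsNoetherian.noetherian I) ?_ ?_
  · intro x hx
    obtain ⟨x', hx', rfl⟩ := h x hx
    exact Submodule.smul_mem_smul (Ideal.mem_span_singleton_self ϖ) hx'
  · rw [IsLocalRing.jacobson_eq_maximalIdeal ⊥ bot_ne_top]
    exact (Ideal.span_singleton_le_iff_mem _).mpr hϖm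

theorem isReduced_of_quotient (ϖ : A) (hϖm : ϖ ∈ IsLocalRing.maximalIdeal A)
    (hϖ : ϖ ∈ nonZeroDivisors A) (hred : IsReduced (A ⧸ Ideal.span {ϖ})) : IsReduced A := by
  have h0 : nilradical A = ⊥ := by
    refine eq_bot_of_forall_mul ϖ hϖm _ ?_
    intro x hx
    obtain ⟨k, hk⟩ := mem_nilradical.mp hx
    have h1 : Ideal.Quotient.mk (Ideal.span {ϖ}) x = 0 := by
      refine IsReduced.eq_zero _ ⟨k, ?_⟩
      rw [← map_pow, hk, map_zero]
    obtain ⟨x', hx'⟩ := Ideal.mem_span_singleton'.mp (Ideal.Quotient.eq_zero_iff_mem.mp h1)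
    refine ⟨x', ?_, by rw [← hx', mul_comm]⟩
    rw [mem_nilradical]
    refine ⟨k, ?_⟩
    have h2 : x' ^ k * ϖ ^ k = 0 := by rw [← mul_pow, hx', hk]
    exact (mul_right_mem_nonZeroDivisors_eq_zero_iff (pow_mem hϖ k)).mp h2
  exact ⟨fun x hx => by
    have : x ∈ nilradical A := mem_nilradical.mpr hx
    rw [h0] at this
    exact this⟩

theorem exists_prime_avoiding (ϖ : A) (hϖm : ϖ ∈ IsLocalRing.maximalIdeal A)
    (hϖ : ϖ ∈ nonZeroDivisors A) (hred : IsReduced (A ⧸ Ideal.span {ϖ})) (P : Ideal A)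
    (hP : P ∈ minimalPrimes A) :
    ∃ q : Ideal A, q.IsPrime ∧ P ≤ q ∧ ϖ ∈ q ∧ ∀ P' ∈ minimalPrimes A, P' ≤ q → P' = P := by
  classical
  haveI hAred : IsReduced A := isReduced_of_quotient ϖ hϖm hϖ hred
  by_contra hcon
  push_neg at hcon
  have hfin : (minimalPrimes A).Finite := minimalPrimes.finite_of_isNoetherianRing A
  let s : Finset (Ideal A) := hfin.toFinset.erase P
  let J : Ideal A := s.inf id
  have hs : ∀ P' : Ideal A, P' ∈ s ↔ P' ≠ P ∧ P' ∈ minimalPrimes A := by
    intro P'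
    simp only [s, Finset.mem_erase, Set.Finite.mem_toFinset]
  have hJle : ∀ P' ∈ s, J ≤ P' := fun P' hP' => Finset.inf_le (f := id) hP'
  have hPprime : P.IsPrime := hP.1.1
  -- `J ⊓ P = 0`
  have hJP : ∀ x ∈ J, ∀ a ∈ P, x * a = 0 := by
    intro x hx a ha
    have h1 : x * a ∈ sInf (minimalPrimes A) := by
      rw [Ideal.mem_sInf]
      intro P' hP'
      by_cases hPP : P' = P
      · rw [hPP]
        exact Ideal.mul_mem_left _ _ ha
      · exact Ideal.mul_mem_right _ _ (hJle P' ((hs P').mpr ⟨hPP, hP'⟩) hx)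
    have h2 : sInf (minimalPrimes A) = ⊥ := by
      show sInf (⊥ : Ideal A).minimalPrimes = ⊥
      rw [Ideal.sInf_minimalPrimes]
      exact nilradical_eq_zero A
    rw [h2] at h1
    exact h1
  -- `J ≤ rad (P + ϖ)`
  have hJrad : J ≤ (P ⊔ Ideal.span {ϖ}).radical := by
    rw [Ideal.radical_eq_sInf]
    refine le_sInf ?_
    rintro q ⟨hPq, hq⟩
    have h1 : P ≤ q := le_sup_left.trans hPq
    have h2 : ϖ ∈ q := hPq (Ideal.mem_sup_right (Ideal.mem_span_singleton_self ϖ))
    obtain ⟨P', hP', hP'q, hne⟩ := hcon q hq h1 h2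
    exact (hJle P' ((hs P').mpr ⟨hne, hP'⟩)).trans hP'q
  have hJ : J = ⊥ := by
    refine eq_bot_of_forall_mul ϖ hϖm J ?_
    intro x hx
    obtain ⟨n, hn⟩ := hJrad hx
    obtain ⟨a, ha, c, hc, hac⟩ := Submodule.mem_sup.mp hn
    obtain ⟨b, rfl⟩ := Ideal.mem_span_singleton'.mp hc
    have h1 : x ^ (n + 1) = ϖ * (x * b) := by
      rw [pow_succ', ← hac, mul_add, hJP x hx a ha, zero_add]
      ring
    have h2 : Ideal.Quotient.mk (Ideal.span {ϖ}) x = 0 := by
      refine IsReduced.eq_zero _ ⟨n + 1, ?_⟩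
      rw [← map_pow, h1]
      exact Ideal.Quotient.eq_zero_iff_mem.mpr
        (Ideal.mul_mem_right _ _ (Ideal.mem_span_singleton_self ϖ))
    obtain ⟨x', hx'⟩ := Ideal.mem_span_singleton'.mp (Ideal.Quotient.eq_zero_iff_mem.mp h2)
    refine ⟨x', ?_, by rw [← hx', mul_comm]⟩
    show x' ∈ s.inf id
    rw [Submodule.mem_finsetInf]
    intro P' hP'
    have hmin : P' ∈ minimalPrimes A := ((hs P').mp hP').2
    have hP'prime : P'.IsPrime := hmin.1.1
    have h3 : x' * ϖ ∈ P' := by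
      rw [hx']
      exact hJle P' hP' hx
    rcases hP'prime.mem_or_mem h3 with h4 | h4
    · exact h4
    · exact absurd hϖ (Set.disjoint_left.mp
        (Ideal.disjoint_nonZeroDivisors_of_mem_minimalPrimes hmin) h4)
  have h5 : s.inf id ≤ P := by
    show J ≤ P
    rw [hJ]
    exact bot_le
  obtain ⟨P', hP', hP'P⟩ := (Ideal.IsPrime.inf_le' hPprime).mp h5
  have hmin : P' ∈ minimalPrimes A := ((hs P').mp hP').2
  have h6 : P ≤ P' := hP.2 hmin.1 hP'P
  exact ((hs P').mp hP').1 (le_antisymm hP'P h6)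

end local_

section nonlocal

variable {B : Type*} [CommRing B] [IsNoetherianRing B]

theorem exists_prime_avoiding' (ϖ : B) (hϖ : ϖ ∈ nonZeroDivisors B)
    (hred : IsReduced (B ⧸ Ideal.span {ϖ})) (q : Ideal B) [hq : q.IsPrime] (hϖq : ϖ ∈ q)
    (P : Ideal B) (hP : P ∈ minimalPrimes B) (hPq : P ≤ q) :
    ∃ q' : Ideal B, q'.IsPrime ∧ P ≤ q' ∧ q' ≤ q ∧ ϖ ∈ q' ∧
      ∀ P' ∈ minimalPrimes B, P' ≤ q' → P' = P := by
  let A := Localization.AtPrime q
  have hminiff : ∀ p : Ideal A, p ∈ minimalPrimes A ↔ p.under B ∈ minimalPrimes B := by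
    intro p
    have h := IsLocalization.minimalPrimes_map q.primeCompl A (⊥ : Ideal B)
    rw [Ideal.map_bot] at h
    have h' : p ∈ (⊥ : Ideal A).minimalPrimes ↔ p ∈ Ideal.under B ⁻¹' (⊥ : Ideal B).minimalPrimes := by
      rw [h]
    exact h'
  have hunder : ∀ P' : Ideal B, P'.IsPrime → P' ≤ q →
      (P'.map (algebraMap B A)).under B = P' := by
    intro P' hP' hle
    refine IsLocalization.under_map_of_isPrime_disjoint q.primeCompl A hP' ?_
    rw [Set.disjoint_left]
    intro x hx hx'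
    exact hx (hle hx')
  have hPprime : P.IsPrime := hP.1.1
  have hPA : P.map (algebraMap B A) ∈ minimalPrimes A := by
    rw [hminiff, hunder P hPprime hPq]
    exact hP
  have hϖm : algebraMap B A ϖ ∈ IsLocalRing.maximalIdeal A :=
    (IsLocalization.AtPrime.to_map_mem_maximal_iff A q ϖ).mpr hϖq
  have hϖnzd : algebraMap B A ϖ ∈ nonZeroDivisors A :=
    IsLocalization.map_nonZeroDivisors_le q.primeCompl A (Submonoid.mem_map_of_mem _ hϖ)
  have hredA : IsReduced (A ⧸ Ideal.span {algebraMap B A ϖ}) := by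
    have h1 : IsReduced (A ⧸ (Ideal.span {ϖ}).map (algebraMap B A)) :=
      isReduced_localizationPreserves
        (Algebra.algebraMapSubmonoid (B ⧸ Ideal.span {ϖ}) q.primeCompl) _ hred
    rwa [Ideal.map_span, Set.image_singleton] at h1
  obtain ⟨qA, hqA, h1, h2, h3⟩ :=
    exists_prime_avoiding (algebraMap B A ϖ) hϖm hϖnzd hredA _ hPA
  refine ⟨qA.under B, hqA.under B, ?_, ?_, h2, ?_⟩
  · rw [← hunder P hPprime hPq]
    exact Ideal.comap_mono h1
  · have h4 : qA ≤ IsLocalRing.maximalIdeal A := IsLocalRing.le_maximalIdeal hqA.ne_top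
    have h5 : qA.under B ≤ (IsLocalRing.maximalIdeal A).under B := Ideal.comap_mono h4
    rwa [IsLocalization.AtPrime.comap_maximalIdeal A q] at h5
  · intro P' hP' hle
    have hP'prime : P'.IsPrime := hP'.1.1
    have hP'q : P' ≤ q := by
      refine hle.trans ?_
      have h4 : qA ≤ IsLocalRing.maximalIdeal A := IsLocalRing.le_maximalIdeal hqA.ne_top
      have h5 : qA.under B ≤ (IsLocalRing.maximalIdeal A).under B := Ideal.comap_mono h4
      rwa [IsLocalization.AtPrime.comap_maximalIdeal A q] at h5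
    have h6 : P'.map (algebraMap B A) ∈ minimalPrimes A := by
      rw [hminiff, hunder P' hP'prime hP'q]
      exact hP'
    have h7 : P'.map (algebraMap B A) ≤ qA := Ideal.map_le_iff_le_comap.mpr hle
    have h8 := h3 _ h6 h7
    rw [← hunder P' hP'prime hP'q, h8, hunder P hPprime hPq]

end nonlocal

end Groth.Agent.Lib.Helper12.RedNak
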