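import Mathlib
import Groth.Agent.Lib.Helper12.GeomIrrGen
import Groth.Agent.Lib.Helper12.IrrDVRa
import Groth.Agent.Lib.Helper12.IrrCount
import Groth.Agent.Lib.Helper12.RedNak

set_option autoImplicit false
set_option linter.style.haveILetI false
universe u
open TensorProduct Topology AlgebraicGeometry CategoryTheory Limits

/-!
# Proper flat schemes over a DVR with reduced closed fibre: the generic fibre has at most as many
irreducible components as the closed fibre (helper12)
-/

namespace Groth.Agent.Lib.Helper12.RedDVRCore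

open Groth.Agent.Lib.Helper12.IrrDVR Groth.Agent.Lib.Helper12.IrrCount

section dvr
variable {R : Type u} [CommRing R] [IsDomain R] [IsDiscreteValuationRing R]
  {W : Scheme.{u}} (g : W ⟶ Spec (CommRingCat.of R))

theorem isOpen_generic (η : Spec (CommRingCat.of R))
    (hη : η = (⟨⊥, Ideal.isPrime_bot⟩ : PrimeSpectrum R)) :
    IsOpen ({η} : Set (Spec (CommRingCat.of R))) := by
  obtain ⟨ϖ, hϖ⟩ := IsDiscreteValuationRing.exists_irreducible R
  have hm : IsLocalRing.maximalIdeal R = Ideal.span {ϖ} := hϖ.maximalIdeal_eq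
  have h : ({η} : Set (Spec (CommRingCat.of R))) = (PrimeSpectrum.basicOpen ϖ : Set (PrimeSpectrum R)) := by
    ext p
    constructor
    · intro hp
      rw [Set.mem_singleton_iff] at hp
      rw [hp, hη]
      show ϖ ∉ (⊥ : Ideal R)
      exact hϖ.ne_zero
    · intro hp
      rw [Set.mem_singleton_iff, hη]
      have hp' : ϖ ∉ p.asIdeal := hp
      apply PrimeSpectrum.ext
      show p.asIdeal = ⊥
      by_contra hne
      have hmax : p.asIdeal.IsMaximal := p.isPrime.isMaximal hne
      have h1 : p.asIdeal = IsLocalRing.maximalIdeal R := IsLocalRing.eq_maximalIdeal hmax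
      apply hp'
      rw [h1, hm]
      exact Ideal.mem_span_singleton_self ϖ
  rw [h]
  exact (PrimeSpectrum.basicOpen ϖ).2

set_option backward.isDefEq.respectTransparency false in
theorem exists_good_point [Flat g] [LocallyOfFiniteType g]
    [IsReduced (pullback g (Spec.map (CommRingCat.ofHom
      (algebraMap R (IsLocalRing.ResidueField R)))))]
    (s : Spec (CommRingCat.of R)) (hs : s = (IsLocalRing.closedPoint R : PrimeSpectrum R))
    (x : W) (hx : g x = s) (ξ : W) (hξ : IsMaxPt ξ) (h : ξ ⤳ x) :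
    ∃ x' : W, g x' = s ∧ ∀ ξ' : W, IsMaxPt ξ' → ξ' ⤳ x' → ξ' = ξ := by
  haveI : IsLocallyNoetherian W := LocallyOfFiniteType.isLocallyNoetherian g
  obtain ⟨_, ⟨U, hU0, rfl⟩, hxU, -⟩ := W.isBasis_affineOpens.exists_subset_of_mem_open
    (Set.mem_univ x) isOpen_univ
  obtain ⟨U, rfl⟩ : ∃ U' : W.Opens, U' = U := ⟨U, rfl⟩
  have hU : IsAffineOpen U := hU0
  obtain ⟨φ, hφ⟩ := Spec.map_surjective (hU.fromSpec ≫ g)
  letI : Algebra R Γ(W, U) := φ.hom.toAlgebra
  have hjW : hU.fromSpec ≫ g = Spec.map (CommRingCat.ofHom (algebraMap R Γ(W, U))) := hφ.symm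
  haveI : IsNoetherianRing Γ(W, U) := IsLocallyNoetherian.component_noetherian ⟨U, hU⟩
  haveI : Module.Flat R Γ(W, U) := by
    have h1 : Flat (hU.fromSpec ≫ g) := inferInstance
    rw [hjW, HasRingHomProperty.Spec_iff (P := @Flat)] at h1
    exact h1
  -- points
  have hemb : Topology.IsOpenEmbedding hU.fromSpec := hU.fromSpec.isOpenEmbedding
  have hrange : Set.range hU.fromSpec = (U : Set W) := hU.range_fromSpec
  obtain ⟨q, hq⟩ : x ∈ Set.range hU.fromSpec := by rw [hrange]; exact hxU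
  obtain ⟨p, hp⟩ : ξ ∈ Set.range hU.fromSpec := by rw [hrange]; exact h.mem_open U.2 hxU
  have hpq : p ⤳ q := by
    rw [← hemb.isInducing.specializes_iff, hp, hq]
    exact h
  -- uniformizer
  obtain ⟨ϖ, hϖ⟩ := IsDiscreteValuationRing.exists_irreducible R
  have hm : IsLocalRing.maximalIdeal R = Ideal.span {ϖ} := hϖ.maximalIdeal_eq
  have hgq : ∀ r : PrimeSpectrum Γ(W, U), g (hU.fromSpec r) =
      Spec.map (CommRingCat.ofHom (algebraMap R Γ(W, U))) r := by
    intro r
    rw [← hjW]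
    exact (Scheme.Hom.comp_apply _ _ _).symm
  have hq1 : algebraMap R Γ(W, U) ϖ ∈ q.asIdeal := by
    have h1 : Spec.map (CommRingCat.ofHom (algebraMap R Γ(W, U))) q =
        (IsLocalRing.closedPoint R : PrimeSpectrum R) := by
      rw [← hgq, hq, hx, hs]
    have h2 : Ideal.comap (algebraMap R Γ(W, U)) q.asIdeal = IsLocalRing.maximalIdeal R :=
      congrArg PrimeSpectrum.asIdeal h1
    have h3 : ϖ ∈ Ideal.comap (algebraMap R Γ(W, U)) q.asIdeal := by
      rw [h2, hm]
      exact Ideal.mem_span_singleton_self ϖ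
    exact h3
  have hmap : Ideal.map (algebraMap R Γ(W, U)) (IsLocalRing.maximalIdeal R) =
      Ideal.span {algebraMap R Γ(W, U) ϖ} := by
    rw [hm, Ideal.map_span, Set.image_singleton]
  -- reducedness of the quotient
  have hredq : _root_.IsReduced (Γ(W, U) ⧸ Ideal.span {algebraMap R Γ(W, U) ϖ}) := by
    haveI h1 : IsReduced (Spec (.of (Γ(W, U) ⊗[R] IsLocalRing.ResidueField R))) :=
      isReduced_of_isOpenImmersion
        (Groth.Agent.Lib.Helper12.GeomIrrGen.tensorImm (K := IsLocalRing.ResidueField R) g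
          hU.fromSpec hjW)
    have h2 : _root_.IsReduced (Γ(W, U) ⊗[R] IsLocalRing.ResidueField R) :=
      (affine_isReduced_iff (.of (Γ(W, U) ⊗[R] IsLocalRing.ResidueField R))).mp h1
    have h2' : _root_.IsReduced (Γ(W, U) ⊗[R] (R ⧸ IsLocalRing.maximalIdeal R)) := h2
    let e := Algebra.TensorProduct.quotIdealMapEquivTensorQuot Γ(W, U) (IsLocalRing.maximalIdeal R)
    have h3 : _root_.IsReduced
        (Γ(W, U) ⧸ Ideal.map (algebraMap R Γ(W, U)) (IsLocalRing.maximalIdeal R)) :=
      isReduced_of_injective e.toRingEquiv.toRingHom e.injective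
    rwa [hmap] at h3
  have hnzd : algebraMap R Γ(W, U) ϖ ∈ nonZeroDivisors Γ(W, U) := by
    have h1 : IsSMulRegular Γ(W, U) ϖ :=
      Module.Flat.isSMulRegular_of_nonZeroDivisors (mem_nonZeroDivisors_of_ne_zero hϖ.ne_zero)
    rw [mem_nonZeroDivisors_iff_right]
    intro b hb
    apply h1
    show ϖ • b = ϖ • 0
    rw [smul_zero, Algebra.smul_def, mul_comm]
    exact hb
  -- minimal primes correspond to maximal points
  have hmin : ∀ r : PrimeSpectrum Γ(W, U), IsMaxPt (hU.fromSpec r) →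
      r.asIdeal ∈ minimalPrimes Γ(W, U) := by
    intro r hmax
    refine ⟨⟨r.isPrime, bot_le⟩, ?_⟩
    rintro r' ⟨hr', -⟩ hle
    have hsp : (⟨r', hr'⟩ : PrimeSpectrum Γ(W, U)) ⤳ r :=
      (PrimeSpectrum.le_iff_specializes ⟨r', hr'⟩ r).mp hle
    have h3 := hmax _ (hsp.map hU.fromSpec.continuous)
    have h4 : (⟨r', hr'⟩ : PrimeSpectrum Γ(W, U)) = r := hemb.injective h3
    rw [← h4]
  have hPmin : p.asIdeal ∈ minimalPrimes Γ(W, U) := hmin p (hp ▸ hξ)
  have hPq : p.asIdeal ≤ q.asIdeal := (PrimeSpectrum.le_iff_specializes p q).mpr hpq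
  obtain ⟨q', hq'prime, hPq', hq'q, hϖq', hq'min⟩ :=
    Groth.Agent.Lib.Helper12.RedNak.exists_prime_avoiding' (algebraMap R Γ(W, U) ϖ) hnzd hredq
      q.asIdeal hq1 p.asIdeal hPmin hPq
  let r' : PrimeSpectrum Γ(W, U) := ⟨q', hq'prime⟩
  refine ⟨hU.fromSpec r', ?_, ?_⟩
  · rw [hgq, hs]
    apply PrimeSpectrum.ext
    show Ideal.comap (algebraMap R Γ(W, U)) q' = IsLocalRing.maximalIdeal R
    have hprime : (Ideal.comap (algebraMap R Γ(W, U)) q').IsPrime := hq'prime.comap _
    have hle : IsLocalRing.maximalIdeal R ≤ Ideal.comap (algebraMap R Γ(W, U)) q' := by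
      rw [hm, Ideal.span_singleton_le_iff_mem]
      exact hϖq'
    exact ((IsLocalRing.maximalIdeal.isMaximal R).eq_of_le hprime.ne_top hle).symm
  · intro ξ' hξ' hsp
    have hr'U : hU.fromSpec r' ∈ (U : Set W) := by
      rw [← hrange]
      exact ⟨r', rfl⟩
    obtain ⟨p', hp'⟩ : ξ' ∈ Set.range hU.fromSpec := by
      rw [hrange]
      exact hsp.mem_open U.2 hr'U
    have hp'r' : p' ⤳ r' := by
      rw [← hemb.isInducing.specializes_iff, hp']
      exact hsp
    have hle : p'.asIdeal ≤ q' := (PrimeSpectrum.le_iff_specializes p' r').mpr hp'r'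
    have h1 : p'.asIdeal = p.asIdeal := hq'min _ (hmin p' (hp' ▸ hξ')) hle
    have h2 : p' = p := PrimeSpectrum.ext h1
    rw [← hp', ← hp, h2]

/-- **Core**: for a proper flat scheme over a discrete valuation ring with reduced closed fibre,
the (topological) generic fibre has at most as many irreducible components as the closed fibre. -/
theorem encard_irr_generic_le_closed [IsProper g] [Flat g]
    [IsReduced (pullback g (Spec.map (CommRingCat.ofHom
      (algebraMap R (IsLocalRing.ResidueField R)))))]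
    (η s : Spec (CommRingCat.of R)) (hη : η = (⟨⊥, Ideal.isPrime_bot⟩ : PrimeSpectrum R))
    (hs : s = (IsLocalRing.closedPoint R : PrimeSpectrum R)) :
    (irreducibleComponents ↥(g ⁻¹' {η})).encard ≤ (irreducibleComponents ↥(g ⁻¹' {s})).encard := by
  have hs_closed : IsClosed ({s} : Set (Spec (CommRingCat.of R))) := by
    rw [hs]
    exact IsLocalRing.isClosed_singleton_closedPoint R
  have hF : IsClosed (g ⁻¹' {s}) := hs_closed.preimage g.continuous
  have hU : IsOpen (g ⁻¹' {η}) := (isOpen_generic η hη).preimage g.continuous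
  refine encard_irr_open_le_closed _ _ hU hF ?_
  intro ξ hξ _
  obtain ⟨x, hx1, hx2⟩ : ∃ x, ξ ⤳ x ∧ g x = s := by
    have hcl : IsClosed (g '' closure {ξ}) := g.isClosedMap _ isClosed_closure
    have hmem : g ξ ∈ g '' closure {ξ} := ⟨ξ, subset_closure rfl, rfl⟩
    have hsp : (g ξ : PrimeSpectrum R) ⤳ (IsLocalRing.closedPoint R : PrimeSpectrum R) :=
      IsLocalRing.specializes_closedPoint _
    have h1 : s ∈ g '' closure {ξ} := by
      rw [hs]
      exact hsp.mem_closed hcl hmem
    obtain ⟨x, hx, hxs⟩ := h1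
    exact ⟨x, specializes_iff_mem_closure.mpr hx, hxs⟩
  obtain ⟨x', hx's, hx'⟩ := exists_good_point g s hs x hx2 ξ hξ hx1
  haveI : QuasiSober ↥(g ⁻¹' {s}) := hF.isClosedEmbedding_subtypeVal.quasiSober
  obtain ⟨ζ, hζmax, hζ⟩ := exists_isMaxPt_specializes (⟨x', hx's⟩ : ↥(g ⁻¹' {s}))
  refine ⟨ζ.1, ζ.2, (isMaxPt_subtype_iff ζ).mp hζmax, ?_⟩
  intro ξ' hξ' hsp
  rw [subtype_specializes_iff] at hζ
  exact hx' ξ' hξ' (hsp.trans hζ)

end dvr

end Groth.Agent.Lib.Helper12.RedDVRCore
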