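import Mathlib

/-!
# Helper library (helper12): primes covered by a given prime and avoiding an element
-/

set_option autoImplicit false
universe u

namespace Groth.Agent.Lib.Helper12.RefVal

/-- In a domain, a prime strictly below a prime of height at most one is zero. -/
theorem eq_bot_of_lt_of_height_le_one {R : Type*} [CommRing R] [IsDomain R]
    (p q : Ideal R) [p.IsPrime] [q.IsPrime] (hp : p.height ≤ 1) (hqp : q < p) : q = ⊥ := by
  have h1 : q.height < ((1 : ℕ) : ℕ∞) := (Ideal.height_le_iff (n := 1)).1 (by simpa using hp) q ‹_› hqp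
  have h2 : q.height = 0 := by
    have : q.height < 1 := by simpa using h1
    exact ENat.lt_one_iff_eq_zero.1 this
  exact Ideal.height_eq_zero_iff_eq_bot.1 h2

/-- In a Noetherian domain, if there is a prime strictly between `⊥` and the prime `m`, then for
any nonzero `a` there is a nonzero prime below `m` not containing `a`. -/
theorem exists_prime_ne_bot_notMem {R : Type*} [CommRing R] [IsDomain R] [IsNoetherianRing R]
    (m n : Ideal R) [m.IsPrime] [n.IsPrime] (hn : n ≠ ⊥) (hnm : n < m) (a : R) (ha : a ≠ 0)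
    (ham : a ∈ m) :
    ∃ p : Ideal R, p.IsPrime ∧ p ≠ ⊥ ∧ p ≤ m ∧ a ∉ p := by
  classical
  have hfin : (Ideal.span {a}).minimalPrimes.Finite :=
    Ideal.finite_minimalPrimes_of_isNoetherianRing R (Ideal.span {a})
  have hht : ∀ p ∈ (Ideal.span {a}).minimalPrimes, p.height ≤ 1 := fun p hp =>
    Ideal.height_le_one_of_isPrincipal_of_mem_minimalPrimes (Ideal.span {a}) p hp
  have hnotle : ∀ p ∈ (Ideal.span {a}).minimalPrimes, ¬ m ≤ p := by
    intro p hp hmp
    haveI := hp.1.1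
    exact hn (eq_bot_of_lt_of_height_le_one p n (hht p hp) (lt_of_lt_of_le hnm hmp))
  have havoid : ¬ ((m : Set R) ⊆ ⋃ K ∈ (hfin.toFinset : Set (Ideal R)), (K : Set R)) := by
    refine (Ideal.subset_union_prime (s := hfin.toFinset) (f := fun K => K) ⊥ ⊥ ?_).not.mpr ?_
    · rintro K hK - -
      rw [Set.Finite.mem_toFinset] at hK
      exact hK.1.1
    · rintro ⟨K, hK, hmK⟩
      rw [Set.Finite.mem_toFinset] at hK
      exact hnotle K hK hmK
  rw [Set.not_subset] at havoid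
  obtain ⟨b, hbm, hb⟩ := havoid
  have hb' : ∀ p ∈ (Ideal.span {a}).minimalPrimes, b ∉ p := by
    intro p hp hbp
    apply hb
    simp only [Set.mem_iUnion]
    exact ⟨p, by simpa using hp, hbp⟩
  have ham' : Ideal.span {a} ≤ m := by
    rw [Ideal.span_le, Set.singleton_subset_iff]; exact ham
  obtain ⟨p₀, hp₀, -⟩ := Ideal.exists_minimalPrimes_le ham'
  have hb0 : b ≠ 0 := by
    rintro rfl
    exact hb' p₀ hp₀ (zero_mem _)
  have hbm' : Ideal.span {b} ≤ m := by
    rw [Ideal.span_le, Set.singleton_subset_iff]; exact hbm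
  obtain ⟨p', hp', hp'm⟩ := Ideal.exists_minimalPrimes_le hbm'
  haveI hp'prime : p'.IsPrime := hp'.1.1
  have hbp' : b ∈ p' := hp'.1.2 (Ideal.subset_span rfl)
  have hp'ht : p'.height ≤ 1 :=
    Ideal.height_le_one_of_isPrincipal_of_mem_minimalPrimes (Ideal.span {b}) p' hp'
  refine ⟨p', hp'prime, ?_, hp'm, ?_⟩
  · rintro rfl
    exact hb0 (by simpa using hbp')
  · intro hap'
    have hap'' : Ideal.span {a} ≤ p' := by
      rw [Ideal.span_le, Set.singleton_subset_iff]; exact hap'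
    obtain ⟨p, hp, hpp'⟩ := Ideal.exists_minimalPrimes_le hap''
    haveI : p.IsPrime := hp.1.1
    have hap : a ∈ p := hp.1.2 (Ideal.subset_span rfl)
    rcases eq_or_lt_of_le hpp' with h | h
    · exact hb' p hp (h ▸ hbp')
    · have := eq_bot_of_lt_of_height_le_one p' p hp'ht h
      rw [this] at hap
      exact ha (by simpa using hap)

/-- **Lemma A.** In a Noetherian ring, given primes `Q ≤ P` and `a ∈ P ∖ Q`, there is a prime
`P₁` with `Q ≤ P₁ < P`, `a ∉ P₁`, and no prime strictly between `P₁` and `P`. -/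
theorem exists_prime_covBy {B : Type*} [CommRing B] [IsNoetherianRing B]
    (Q P : Ideal B) [Q.IsPrime] [P.IsPrime] (hQP : Q ≤ P) (a : B) (haP : a ∈ P) (haQ : a ∉ Q) :
    ∃ P₁ : Ideal B, P₁.IsPrime ∧ Q ≤ P₁ ∧ P₁ < P ∧ a ∉ P₁ ∧
      ∀ P₂ : Ideal B, P₂.IsPrime → P₁ < P₂ → P₂ ≤ P → P₂ = P := by
  obtain ⟨P₁, ⟨hP₁prime, hQP₁, hP₁P, haP₁⟩, hmax⟩ :=
    (set_has_maximal_iff_noetherian.2 (inferInstance : IsNoetherian B B))
      {q : Ideal B | q.IsPrime ∧ Q ≤ q ∧ q ≤ P ∧ a ∉ q} ⟨Q, ‹_›, le_rfl, hQP, haQ⟩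
  haveI := hP₁prime
  refine ⟨P₁, hP₁prime, hQP₁, lt_of_le_of_ne hP₁P (fun h => haP₁ (h ▸ haP)), haP₁, ?_⟩
  intro P₂ hP₂ h12 h2P
  by_contra hne
  have h2P' : P₂ < P := lt_of_le_of_ne h2P hne
  have hsurj : Function.Surjective (Ideal.Quotient.mk P₁) := Ideal.Quotient.mk_surjective
  have hker : RingHom.ker (Ideal.Quotient.mk P₁) = P₁ := Ideal.mk_ker
  haveI hm : (P.map (Ideal.Quotient.mk P₁)).IsPrime :=
    Ideal.map_isPrime_of_surjective hsurj (by rw [hker]; exact hP₁P)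
  haveI hn : (P₂.map (Ideal.Quotient.mk P₁)).IsPrime :=
    Ideal.map_isPrime_of_surjective hsurj (by rw [hker]; exact h12.le)
  have hcm : (P.map (Ideal.Quotient.mk P₁)).comap (Ideal.Quotient.mk P₁) = P :=
    Ideal.comap_map_mk hP₁P
  have hcn : (P₂.map (Ideal.Quotient.mk P₁)).comap (Ideal.Quotient.mk P₁) = P₂ :=
    Ideal.comap_map_mk h12.le
  have hcbot : (⊥ : Ideal (B ⧸ P₁)).comap (Ideal.Quotient.mk P₁) = P₁ := by
    rw [← RingHom.ker_eq_comap_bot, hker]
  have hnbot : P₂.map (Ideal.Quotient.mk P₁) ≠ ⊥ := by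
    intro h
    rw [h, hcbot] at hcn
    exact h12.ne hcn
  have hnm : P₂.map (Ideal.Quotient.mk P₁) < P.map (Ideal.Quotient.mk P₁) := by
    refine lt_of_le_of_ne (Ideal.map_mono h2P) (fun h => ?_)
    rw [h, hcm] at hcn
    exact hne hcn.symm
  have ha0 : Ideal.Quotient.mk P₁ a ≠ 0 := by
    rw [Ne, Ideal.Quotient.eq_zero_iff_mem]; exact haP₁
  obtain ⟨p, hpprime, hpbot, hpm, hap⟩ :=
    exists_prime_ne_bot_notMem (P.map (Ideal.Quotient.mk P₁)) (P₂.map (Ideal.Quotient.mk P₁))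
      hnbot hnm (Ideal.Quotient.mk P₁ a) ha0 (Ideal.mem_map_of_mem _ haP)
  have hP' : P₁ < p.comap (Ideal.Quotient.mk P₁) := by
    refine lt_of_le_of_ne ?_ (fun h => ?_)
    · exact hcbot.symm.le.trans (Ideal.comap_mono bot_le)
    · have h' : (⊥ : Ideal (B ⧸ P₁)).comap (Ideal.Quotient.mk P₁) = p.comap (Ideal.Quotient.mk P₁) :=
        hcbot.trans h
      exact hpbot (Ideal.comap_injective_of_surjective _ hsurj h').symm
  refine hmax (p.comap (Ideal.Quotient.mk P₁)) ⟨Ideal.comap_isPrime _ _, hQP₁.trans hP'.le, ?_, hap⟩ hP'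
  rw [← hcm]
  exact Ideal.comap_mono hpm

end Groth.Agent.Lib.Helper12.RefVal
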