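import Mathlib

/-!
# Helper library (helper12): a finite residue extension for a finite type algebra over a domain
-/

set_option autoImplicit false
universe u

open TensorProduct

namespace Groth.Agent.Lib.Helper12.RefVal

/-- **Lemma E.** A finite type algebra `R₁` over a domain `A₀` with injective structure map admits
an `A₀`-algebra map to a field which is finite over the fraction field of `A₀`. -/
theorem exists_finite_field_quotient (A₀ R₁ : Type u) [CommRing A₀] [IsDomain A₀] [CommRing R₁]
    [Algebra A₀ R₁] [Algebra.FiniteType A₀ R₁] (hinj : Function.Injective (algebraMap A₀ R₁)) :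
    ∃ (L : Type u) (_ : Field L) (_ : Algebra A₀ L) (_ : Algebra (FractionRing A₀) L)
      (_ : IsScalarTower A₀ (FractionRing A₀) L) (_ : FiniteDimensional (FractionRing A₀) L),
      Nonempty (R₁ →ₐ[A₀] L) := by
  classical
  haveI : Nontrivial ((FractionRing A₀) ⊗[A₀] R₁) := by
    have hflat : Function.Injective ((Algebra.linearMap A₀ R₁).lTensor (FractionRing A₀)) :=
      Module.Flat.lTensor_preserves_injective_linearMap _ hinj
    refine ⟨⟨(1 : FractionRing A₀) ⊗ₜ[A₀] (1 : R₁), 0, fun h => ?_⟩⟩
    have h1 : (Algebra.linearMap A₀ R₁).lTensor (FractionRing A₀)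
        ((1 : FractionRing A₀) ⊗ₜ[A₀] (1 : A₀)) = 0 := by
      simpa using h
    have h2 := hflat (h1.trans (map_zero _).symm)
    have h3 := congrArg (TensorProduct.rid A₀ (FractionRing A₀)) h2
    simp at h3
  obtain ⟨m, hm⟩ := Ideal.exists_maximal ((FractionRing A₀) ⊗[A₀] R₁)
  letI : Field (((FractionRing A₀) ⊗[A₀] R₁) ⧸ m) := Ideal.Quotient.field m
  haveI : Algebra.FiniteType (FractionRing A₀) (((FractionRing A₀) ⊗[A₀] R₁) ⧸ m) :=
    Algebra.FiniteType.of_surjective (Ideal.Quotient.mkₐ (FractionRing A₀) m)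
      (Ideal.Quotient.mkₐ_surjective (FractionRing A₀) m)
  haveI : Module.Finite (FractionRing A₀) (((FractionRing A₀) ⊗[A₀] R₁) ⧸ m) :=
    finite_of_finite_type_of_isJacobsonRing (FractionRing A₀) _
  refine ⟨((FractionRing A₀) ⊗[A₀] R₁) ⧸ m, inferInstance, inferInstance, inferInstance,
    inferInstance, inferInstance, ⟨?_⟩⟩
  exact (Ideal.Quotient.mkₐ A₀ m).comp Algebra.TensorProduct.includeRight

end Groth.Agent.Lib.Helper12.RefVal
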