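import Mathlib
import Groth.Prelude.Def_Found

/-!
# Helper library (helper12): the normalized curve through a coheight-one prime (Lemma F)
-/

set_option autoImplicit false
universe u

namespace Groth.Agent.Lib.Helper12.RefVal

section IntClosure

variable {A₀ : Type u} [CommRing A₀] [IsDomain A₀]
  {D₀ : Type u} [CommRing D₀] [IsDomain D₀] [Algebra A₀ D₀] [Algebra.IsIntegral A₀ D₀]

/-- Primes strictly below a prime lying over a "height one" maximal ideal are zero. -/
theorem eq_bot_of_lt_of_comap_eq (hinj : Function.Injective (algebraMap A₀ D₀))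
    (m₀ : Ideal A₀) (hcov : ∀ p : Ideal A₀, p.IsPrime → p < m₀ → p = ⊥)
    (c₀ : Ideal D₀) (hc₀ : c₀.comap (algebraMap A₀ D₀) = m₀)
    (p : Ideal D₀) [p.IsPrime] (hp : p < c₀) : p = ⊥ := by
  obtain ⟨x, hxc, hxp⟩ := SetLike.exists_of_lt hp
  have h1 : p.comap (algebraMap A₀ D₀) < c₀.comap (algebraMap A₀ D₀) :=
    Ideal.comap_lt_comap_of_integral_mem_sdiff hp.le ⟨hxc, hxp⟩ (Algebra.IsIntegral.isIntegral x)
  rw [hc₀] at h1
  have h2 := hcov _ (Ideal.comap_isPrime _ _) h1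
  haveI : Nontrivial A₀ := inferInstance
  exact Ideal.eq_bot_of_comap_eq_bot h2

end IntClosure

section Avoid

variable {D₀ : Type u} [CommRing D₀] [IsDomain D₀] [IsNoetherianRing D₀]

/-- There is `t ∉ c₀` such that every prime containing `s₀` but not `t` equals `c₀`. -/
theorem exists_avoid (c₀ : Ideal D₀) [c₀.IsMaximal]
    (hbelow : ∀ p : Ideal D₀, p.IsPrime → p < c₀ → p = ⊥) (s₀ : D₀) (hs₀ : s₀ ≠ 0) :
    ∃ t : D₀, t ∉ c₀ ∧ ∀ p : Ideal D₀, p.IsPrime → s₀ ∈ p → t ∉ p → p = c₀ := by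
  classical
  have hfin : (Ideal.span {s₀}).minimalPrimes.Finite :=
    Ideal.finite_minimalPrimes_of_isNoetherianRing D₀ (Ideal.span {s₀})
  let M' : Finset (Ideal D₀) := hfin.toFinset.filter (fun p => p ≠ c₀)
  have hc₀prime : c₀.IsPrime := Ideal.IsMaximal.isPrime ‹_›
  have hnotle : ¬ (M'.inf (fun p => p) ≤ c₀) := by
    rw [Ideal.IsPrime.inf_le' hc₀prime]
    rintro ⟨p, hpM, hpc⟩
    rw [Finset.mem_filter, Set.Finite.mem_toFinset] at hpM
    obtain ⟨hpmin, hpne⟩ := hpM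
    haveI : p.IsPrime := hpmin.1.1
    have hpbot := hbelow p inferInstance (lt_of_le_of_ne hpc hpne)
    have hs₀p : s₀ ∈ p := hpmin.1.2 (Ideal.subset_span rfl)
    rw [hpbot] at hs₀p
    exact hs₀ (by simpa using hs₀p)
  obtain ⟨t, htM, htc⟩ := SetLike.not_le_iff_exists.1 hnotle
  refine ⟨t, htc, ?_⟩
  intro p hp hs₀p htp
  have hle : Ideal.span {s₀} ≤ p := by
    rw [Ideal.span_le, Set.singleton_subset_iff]; exact hs₀p
  obtain ⟨q, hq, hqp⟩ := Ideal.exists_minimalPrimes_le hle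
  by_cases hqc : q = c₀
  · subst hqc
    exact ((Ideal.IsMaximal.eq_of_le ‹q.IsMaximal› hp.ne_top hqp)).symm
  · exfalso
    apply htp
    apply hqp
    have hqM : q ∈ M' := by
      rw [Finset.mem_filter, Set.Finite.mem_toFinset]
      exact ⟨hq, hqc⟩
    exact (Finset.inf_le (f := fun p => p) hqM) htM

end Avoid

end Groth.Agent.Lib.Helper12.RefVal
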