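import Mathlib

/-!
# Helper library (helper12): localizing away from an element outside a maximal ideal
-/

set_option autoImplicit false
universe u

namespace Groth.Agent.Lib.Helper12.RefVal

section Loc

variable {D₀ : Type u} [CommRing D₀] [IsDomain D₀] (t : D₀)
  (D : Type u) [CommRing D] [Algebra D₀ D] [IsLocalization.Away t D]

include t

omit [IsDomain D₀] in
theorem disjoint_powers (c₀ : Ideal D₀) [c₀.IsPrime] (ht : t ∉ c₀) :
    Disjoint ((Submonoid.powers t : Submonoid D₀) : Set D₀) (c₀ : Set D₀) := by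
  rw [Set.disjoint_left]
  rintro x ⟨n, rfl⟩ hx
  exact ht (Ideal.IsPrime.mem_of_pow_mem ‹_› n hx)

theorem notMem_comap (p : Ideal D) [p.IsPrime] : t ∉ p.comap (algebraMap D₀ D) := by
  intro h
  have hu : IsUnit (algebraMap D₀ D t) := IsLocalization.Away.algebraMap_isUnit t
  exact (Ideal.IsPrime.ne_top ‹p.IsPrime›) (Ideal.eq_top_of_isUnit_mem _ h hu)

theorem map_comap_eq (p : Ideal D) : (p.comap (algebraMap D₀ D)).map (algebraMap D₀ D) = p :=
  IsLocalization.map_under (Submonoid.powers t) D p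

theorem comap_map_eq (c₀ : Ideal D₀) [c₀.IsPrime] (ht : t ∉ c₀) :
    (c₀.map (algebraMap D₀ D)).comap (algebraMap D₀ D) = c₀ :=
  IsLocalization.under_map_of_isPrime_disjoint (Submonoid.powers t) D ‹_› (disjoint_powers t c₀ ht)

theorem isPrime_map (c₀ : Ideal D₀) [c₀.IsPrime] (ht : t ∉ c₀) :
    (c₀.map (algebraMap D₀ D)).IsPrime :=
  IsLocalization.isPrime_of_isPrime_disjoint (Submonoid.powers t) D c₀ ‹_› (disjoint_powers t c₀ ht)

theorem isMaximal_map (c₀ : Ideal D₀) [c₀.IsMaximal] (ht : t ∉ c₀) :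
    (c₀.map (algebraMap D₀ D)).IsMaximal := by
  haveI : c₀.IsPrime := Ideal.IsMaximal.isPrime ‹_›
  have hprime := isPrime_map t D c₀ ht
  obtain ⟨n, hnmax, hcn⟩ := Ideal.exists_le_maximal _ hprime.ne_top
  haveI : n.IsPrime := hnmax.isPrime
  have h1 : c₀ ≤ n.comap (algebraMap D₀ D) := by
    rw [← comap_map_eq t D c₀ ht]
    exact Ideal.comap_mono hcn
  have h2 : c₀ = n.comap (algebraMap D₀ D) :=
    Ideal.IsMaximal.eq_of_le ‹_› (Ideal.comap_ne_top _ hnmax.ne_top) h1
  have h3 : n = c₀.map (algebraMap D₀ D) := by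
    rw [h2, map_comap_eq t D n]
  rw [← h3]
  exact hnmax

theorem eq_map_of_mem (c₀ : Ideal D₀) (s₀ : D₀)
    (h : ∀ p : Ideal D₀, p.IsPrime → s₀ ∈ p → t ∉ p → p = c₀)
    (p : Ideal D) [p.IsPrime] (hs : algebraMap D₀ D s₀ ∈ p) : p = c₀.map (algebraMap D₀ D) := by
  have h1 := h (p.comap (algebraMap D₀ D)) (Ideal.comap_isPrime _ _) hs (notMem_comap t D p)
  rw [← h1, map_comap_eq t D p]

theorem isDomain_away (ht0 : t ≠ 0) : IsDomain D :=
  IsLocalization.isDomain_of_le_nonZeroDivisors (M := Submonoid.powers t) D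
    (powers_le_nonZeroDivisors_of_noZeroDivisors ht0)

theorem height_map_eq_one [IsDomain D] (c₀ : Ideal D₀) [c₀.IsPrime] (ht : t ∉ c₀) (hc₀ : c₀ ≠ ⊥)
    (hbelow : ∀ p : Ideal D₀, p.IsPrime → p < c₀ → p = ⊥) :
    (c₀.map (algebraMap D₀ D)).height = 1 := by
  haveI hprime := isPrime_map t D c₀ ht
  apply le_antisymm
  · have : (c₀.map (algebraMap D₀ D)).height ≤ ((1 : ℕ) : ℕ∞) := by
      rw [Ideal.height_le_iff]
      intro q hq hqc
      haveI := hq
      have h1 : q.comap (algebraMap D₀ D) ≤ c₀ := by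
        rw [← comap_map_eq t D c₀ ht]
        exact Ideal.comap_mono hqc.le
      have h2 : q.comap (algebraMap D₀ D) ≠ c₀ := by
        intro h
        have := map_comap_eq t D q
        rw [h] at this
        exact hqc.ne this.symm
      have h3 := hbelow _ (Ideal.comap_isPrime _ _) (lt_of_le_of_ne h1 h2)
      have h4 : q = ⊥ := by
        rw [← map_comap_eq t D q, h3, Ideal.map_bot]
      rw [h4, Ideal.height_bot]
      exact Nat.cast_pos.2 one_pos
    simpa using this
  · rw [Order.one_le_iff_pos, pos_iff_ne_zero, Ne, Ideal.height_eq_zero_iff_eq_bot]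
    intro h
    have := comap_map_eq t D c₀ ht
    rw [h] at this
    apply hc₀
    rw [← this]
    ext x
    simp only [Ideal.mem_comap, Ideal.mem_bot]
    have hinj : Function.Injective (algebraMap D₀ D) :=
      IsLocalization.injective D (powers_le_nonZeroDivisors_of_noZeroDivisors
        (fun h0 : t = 0 => ht (by rw [h0]; exact zero_mem _)))
    rw [map_eq_zero_iff _ hinj]

end Loc

end Groth.Agent.Lib.Helper12.RefVal
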