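import Mathlib
import Groth.Prelude.Def_Found
import Groth.Agent.Lib.Helper12.RefVal3
import Groth.Agent.Lib.Helper12.RefVal4

/-!
# Helper library (helper12): the normalized curve through a coheight-one prime (Lemma F)
-/

set_option autoImplicit false
universe u

namespace Groth.Agent.Lib.Helper12.RefVal

theorem lift_injective_of_injective {R S P : Type*} [CommRing R] [CommRing S] [CommRing P]
    [Algebra R S] (M : Submonoid R) [IsLocalization M S] (g : R →+* P)
    (hg : ∀ y : M, IsUnit (g y)) (hginj : Function.Injective g) :
    Function.Injective (IsLocalization.lift (S := S) hg) := by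
  rw [injective_iff_map_eq_zero]
  intro z hz
  obtain ⟨x, y, rfl⟩ := IsLocalization.exists_mk'_eq M z
  rw [IsLocalization.lift_mk'_spec, mul_zero] at hz
  have hx : x = 0 := hginj (hz.trans (map_zero g).symm)
  rw [hx, IsLocalization.mk'_zero]

set_option maxHeartbeats 1000000 in
/-- **Lemma F.** -/
theorem exists_curve (A₀ : Type u) [CommRing A₀] [IsDomain A₀] [IsNoetherianRing A₀]
    (hN2 : CAlg.IsN2 A₀)
    (L : Type u) [Field L] [Algebra A₀ L] [Algebra (FractionRing A₀) L]
    [IsScalarTower A₀ (FractionRing A₀) L] [FiniteDimensional (FractionRing A₀) L]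
    (R₁ : Type u) [CommRing R₁] [Algebra A₀ R₁] [Algebra.FiniteType A₀ R₁] (χ₀ : R₁ →ₐ[A₀] L)
    (m₀ : Ideal A₀) [m₀.IsMaximal] (hm₀ : m₀ ≠ ⊥)
    (hcov : ∀ p : Ideal A₀, p.IsPrime → p < m₀ → p = ⊥) :
    ∃ (D : Type u) (_ : CommRing D) (_ : IsDomain D) (_ : IsIntegrallyClosed D) (_ : Algebra A₀ D)
      (_ : Algebra.FiniteType A₀ D) (c : Ideal D) (_ : c.IsMaximal) (s : D)
      (_ : R₁ →ₐ[A₀] Localization.Away s),
      c.comap (algebraMap A₀ D) = m₀ ∧ c.height = 1 ∧
      (∀ p : Ideal D, p.IsPrime → s ∈ p → p = c) := by
  classical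
  haveI hfin : Module.Finite A₀ (integralClosure A₀ L) := hN2 L inferInstance
  haveI : IsNoetherianRing (integralClosure A₀ L) := IsNoetherianRing.of_finite A₀ _
  haveI : IsFractionRing (integralClosure A₀ L) L :=
    integralClosure.isFractionRing_of_finite_extension (FractionRing A₀) L
  haveI : IsIntegrallyClosed (integralClosure A₀ L) :=
    integralClosure.isIntegrallyClosedOfFiniteExtension (FractionRing A₀)
  have hinjL : Function.Injective (algebraMap A₀ L) := by
    rw [IsScalarTower.algebraMap_eq A₀ (FractionRing A₀) L]
    exact (algebraMap (FractionRing A₀) L).injective.comp (IsFractionRing.injective A₀ _)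
  have hinjDL : Function.Injective (algebraMap (integralClosure A₀ L) L) := Subtype.val_injective
  have hinj : Function.Injective (algebraMap A₀ (integralClosure A₀ L)) := by
    intro x y h
    apply hinjL
    have := congrArg (algebraMap (integralClosure A₀ L) L) h
    rwa [← IsScalarTower.algebraMap_apply, ← IsScalarTower.algebraMap_apply] at this
  obtain ⟨c₀, hc₀max, hc₀⟩ := Ideal.exists_ideal_over_maximal_of_isIntegral
    (S := integralClosure A₀ L) m₀ (by
      rw [(RingHom.injective_iff_ker_eq_bot _).1 hinj]; exact bot_le)
  haveI := hc₀max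
  haveI hc₀prime : c₀.IsPrime := hc₀max.isPrime
  have hbelow : ∀ p : Ideal (integralClosure A₀ L), p.IsPrime → p < c₀ → p = ⊥ :=
    fun p hp hpc => by
      haveI := hp
      exact eq_bot_of_lt_of_comap_eq hinj m₀ hcov c₀ hc₀ p hpc
  have hc₀bot : c₀ ≠ ⊥ := by
    rintro rfl
    apply hm₀
    rw [← hc₀, ← RingHom.ker_eq_comap_bot, (RingHom.injective_iff_ker_eq_bot _).1 hinj]
  obtain ⟨G, hG⟩ := (Algebra.FiniteType.out : (⊤ : Subalgebra A₀ R₁).FG)
  obtain ⟨b, hb⟩ := IsLocalization.exist_integer_multiples_of_finset
    (nonZeroDivisors (integralClosure A₀ L)) (G.image χ₀)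
  have hs₀ : (b : integralClosure A₀ L) ≠ 0 := nonZeroDivisors.coe_ne_zero b
  obtain ⟨t, htc, ht⟩ := exists_avoid c₀ hbelow (b : integralClosure A₀ L) hs₀
  have ht0 : t ≠ 0 := fun h => htc (by rw [h]; exact zero_mem _)
  haveI : IsDomain (Localization.Away t) := isDomain_away t (Localization.Away t) ht0
  haveI : IsIntegrallyClosed (Localization.Away t) :=
    isIntegrallyClosed_of_isLocalization (Localization.Away t) (Submonoid.powers t)
      (powers_le_nonZeroDivisors_of_noZeroDivisors ht0)
  haveI : Algebra.FiniteType A₀ (Localization.Away t) := by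
    have h1 : Algebra.FiniteType A₀ (integralClosure A₀ L) := inferInstance
    have h2 : Algebra.FiniteType (integralClosure A₀ L) (Localization.Away t) :=
      IsLocalization.finiteType_of_monoid_fg (Submonoid.powers t) (Localization.Away t)
    exact Algebra.FiniteType.trans h1 h2
  haveI hcmax : (c₀.map (algebraMap (integralClosure A₀ L) (Localization.Away t))).IsMaximal :=
    isMaximal_map t (Localization.Away t) c₀ htc
  -- the maps to `L`
  have hu₁ : ∀ y : Submonoid.powers t, IsUnit (algebraMap (integralClosure A₀ L) L y) := by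
    rintro ⟨_, n, rfl⟩
    rw [map_pow]
    exact (IsUnit.mk0 _ (fun h => ht0 (hinjDL (h.trans (map_zero _).symm)))).pow n
  have hι₁inj : Function.Injective
      (IsLocalization.lift (S := Localization.Away t) hu₁) :=
    lift_injective_of_injective (Submonoid.powers t) _ hu₁ hinjDL
  have hι₁s : IsLocalization.lift (S := Localization.Away t) hu₁
      (algebraMap (integralClosure A₀ L) (Localization.Away t) b) =
      algebraMap (integralClosure A₀ L) L b := IsLocalization.lift_eq hu₁ _
  have hu₂ : ∀ y : Submonoid.powers
      (algebraMap (integralClosure A₀ L) (Localization.Away t) (b : integralClosure A₀ L)),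
      IsUnit (IsLocalization.lift (S := Localization.Away t) hu₁ y) := by
    rintro ⟨_, n, rfl⟩
    rw [map_pow, hι₁s]
    exact (IsUnit.mk0 _ (fun h => hs₀ (hinjDL (h.trans (map_zero _).symm)))).pow n
  have hι₂inj : Function.Injective
      (IsLocalization.lift (S := Localization.Away
        (algebraMap (integralClosure A₀ L) (Localization.Away t) (b : integralClosure A₀ L))) hu₂) :=
    lift_injective_of_injective _ _ hu₂ hι₁inj
  let ι₂' : Localization.Away
      (algebraMap (integralClosure A₀ L) (Localization.Away t) (b : integralClosure A₀ L))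
      →ₐ[A₀] L :=
    { IsLocalization.lift (S := Localization.Away
        (algebraMap (integralClosure A₀ L) (Localization.Away t) (b : integralClosure A₀ L))) hu₂ with
      commutes' := fun a => by
        show IsLocalization.lift hu₂ _ = _
        rw [IsScalarTower.algebraMap_apply A₀ (Localization.Away t),
          IsLocalization.lift_eq,
          IsScalarTower.algebraMap_apply A₀ (integralClosure A₀ L) (Localization.Away t),
          IsLocalization.lift_eq, ← IsScalarTower.algebraMap_apply] }
  have hι₂'inj : Function.Injective ι₂' := hι₂inj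
  have hrange : χ₀.range ≤ ι₂'.range := by
    rw [← Algebra.map_top, ← hG, AlgHom.map_adjoin]
    apply Algebra.adjoin_le
    rintro _ ⟨g, hg, rfl⟩
    obtain ⟨d, hd⟩ := hb (χ₀ g) (Finset.mem_image_of_mem _ hg)
    have hU : IsUnit (algebraMap (Localization.Away t) (Localization.Away
        (algebraMap (integralClosure A₀ L) (Localization.Away t) (b : integralClosure A₀ L)))
        (algebraMap (integralClosure A₀ L) (Localization.Away t) (b : integralClosure A₀ L))) :=
      IsLocalization.Away.algebraMap_isUnit _
    obtain ⟨W, hW⟩ := hU.exists_left_inv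
    refine ⟨W * algebraMap (Localization.Away t) _
      (algebraMap (integralClosure A₀ L) (Localization.Away t) d), ?_⟩
    have e1 : ι₂' (algebraMap (Localization.Away t) _
        (algebraMap (integralClosure A₀ L) (Localization.Away t) d)) =
        algebraMap (integralClosure A₀ L) L d := by
      show IsLocalization.lift hu₂ _ = _
      rw [IsLocalization.lift_eq, IsLocalization.lift_eq]
    have e2 : ι₂' (algebraMap (Localization.Away t) _
        (algebraMap (integralClosure A₀ L) (Localization.Away t) (b : integralClosure A₀ L))) =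
        algebraMap (integralClosure A₀ L) L b := by
      show IsLocalization.lift hu₂ _ = _
      rw [IsLocalization.lift_eq, IsLocalization.lift_eq]
    have e3 : ι₂' W * ι₂' (algebraMap (Localization.Away t) _
        (algebraMap (integralClosure A₀ L) (Localization.Away t) (b : integralClosure A₀ L))) = 1 := by
      rw [← map_mul, hW, map_one]
    show ι₂' _ = χ₀ g
    rw [map_mul, e1, hd, Algebra.smul_def, ← e2, ← mul_assoc, e3, one_mul]
  let χ : R₁ →ₐ[A₀] Localization.Away
      (algebraMap (integralClosure A₀ L) (Localization.Away t) (b : integralClosure A₀ L)) :=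
    (AlgEquiv.ofInjective ι₂' hι₂'inj).symm.toAlgHom.comp
      (χ₀.codRestrict ι₂'.range (fun x => hrange (χ₀.mem_range_self x)))
  refine ⟨Localization.Away t, inferInstance, inferInstance, inferInstance, inferInstance,
    inferInstance, c₀.map (algebraMap (integralClosure A₀ L) (Localization.Away t)), hcmax,
    algebraMap (integralClosure A₀ L) (Localization.Away t) b, χ, ?_, ?_, ?_⟩
  · rw [IsScalarTower.algebraMap_eq A₀ (integralClosure A₀ L) (Localization.Away t),
      ← Ideal.comap_comap, comap_map_eq t (Localization.Away t) c₀ htc, hc₀]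
  · exact height_map_eq_one t (Localization.Away t) c₀ htc hc₀bot hbelow
  · intro p hp hsp
    haveI := hp
    exact eq_map_of_mem t (Localization.Away t) c₀ b
      (fun q hq hbq htq => ht q hq hbq htq) p hsp

end Groth.Agent.Lib.Helper12.RefVal
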