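import Mathlib
import Groth.Prelude.Def_Found
import Groth.Agent.Lib.Helper12.RefVal2
import Groth.Agent.Lib.Helper12.RefVal5

/-!
# Helper library (helper12): the normalized curve through a coheight-one prime, ring hom form
-/

set_option autoImplicit false
universe u

namespace Groth.Agent.Lib.Helper12.RefVal

set_option maxHeartbeats 1000000 in
/-- **Theorem ALG.** -/
theorem exists_curve_of_prime (B : Type u) [CommRing B] (hB : CAlg.IsNagata B)
    (R : Type u) [CommRing R] (ψ : B →+* R) (hψ : ψ.FiniteType)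
    (q₀ : Ideal R) [q₀.IsPrime] (P : Ideal B) [P.IsMaximal]
    (hlt : q₀.comap ψ < P)
    (hcov : ∀ P₂ : Ideal B, P₂.IsPrime → q₀.comap ψ < P₂ → P₂ ≤ P → P₂ = P) :
    ∃ (D : Type u) (_ : CommRing D) (_ : IsDomain D) (_ : IsIntegrallyClosed D) (φ : B →+* D)
      (_ : φ.FiniteType) (c : Ideal D) (_ : c.IsMaximal) (s : D)
      (χ : R →+* Localization.Away s),
      c.comap φ = P ∧ c.height = 1 ∧ (∀ p : Ideal D, p.IsPrime → s ∈ p → p = c) ∧
      q₀ ≤ RingHom.ker χ ∧ χ.comp ψ = (algebraMap D (Localization.Away s)).comp φ := by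
  classical
  letI := ψ.toAlgebra
  haveI : Algebra.FiniteType B R := hψ
  haveI : IsNoetherianRing B := hB.1
  change q₀.comap (algebraMap B R) < P at hlt
  change ∀ P₂ : Ideal B, P₂.IsPrime → q₀.comap (algebraMap B R) < P₂ → P₂ ≤ P → P₂ = P at hcov
  haveI hP₁ : (q₀.comap (algebraMap B R)).IsPrime := Ideal.comap_isPrime _ _
  have hN2 : CAlg.IsN2 (B ⧸ q₀.comap (algebraMap B R)) := hB.2 _
  haveI : Algebra.FiniteType (B ⧸ q₀.comap (algebraMap B R)) (R ⧸ q₀) := by
    haveI : Algebra.FiniteType B (R ⧸ q₀) :=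
      Algebra.FiniteType.of_surjective (Ideal.Quotient.mkₐ B q₀)
        (Ideal.Quotient.mkₐ_surjective B q₀)
    exact Algebra.FiniteType.of_restrictScalars_finiteType B _ _
  have hinj : Function.Injective (algebraMap (B ⧸ q₀.comap (algebraMap B R)) (R ⧸ q₀)) :=
    Ideal.algebraMap_quotient_injective
  obtain ⟨L, _, _, _, _, _, ⟨χ₀⟩⟩ :=
    exists_finite_field_quotient (B ⧸ q₀.comap (algebraMap B R)) (R ⧸ q₀) hinj
  have hsurj : Function.Surjective (Ideal.Quotient.mk (q₀.comap (algebraMap B R))) :=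
    Ideal.Quotient.mk_surjective
  have hcm : (P.map (Ideal.Quotient.mk (q₀.comap (algebraMap B R)))).comap
      (Ideal.Quotient.mk (q₀.comap (algebraMap B R))) = P := Ideal.comap_map_mk hlt.le
  have hcbot : (⊥ : Ideal (B ⧸ q₀.comap (algebraMap B R))).comap
      (Ideal.Quotient.mk (q₀.comap (algebraMap B R))) = q₀.comap (algebraMap B R) := by
    rw [← RingHom.ker_eq_comap_bot, Ideal.mk_ker]
  haveI hm₀max : (P.map (Ideal.Quotient.mk (q₀.comap (algebraMap B R)))).IsMaximal := by
    rcases Ideal.map_eq_top_or_isMaximal_of_surjective _ hsurj ‹P.IsMaximal› with h | h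
    · exfalso
      rw [h, Ideal.comap_top] at hcm
      exact (Ideal.IsMaximal.ne_top ‹P.IsMaximal›) hcm.symm
    · exact h
  have hm₀bot : P.map (Ideal.Quotient.mk (q₀.comap (algebraMap B R))) ≠ ⊥ := by
    intro h
    rw [h, hcbot] at hcm
    exact hlt.ne hcm
  have hcov₀ : ∀ p : Ideal (B ⧸ q₀.comap (algebraMap B R)), p.IsPrime →
      p < P.map (Ideal.Quotient.mk (q₀.comap (algebraMap B R))) → p = ⊥ := by
    intro p hp hpm
    have h1 : q₀.comap (algebraMap B R) ≤ p.comap (Ideal.Quotient.mk _) :=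
      hcbot.symm.le.trans (Ideal.comap_mono bot_le)
    have h2 : p.comap (Ideal.Quotient.mk (q₀.comap (algebraMap B R))) ≤ P :=
      (Ideal.comap_mono hpm.le).trans hcm.le
    have h3 : p.comap (Ideal.Quotient.mk (q₀.comap (algebraMap B R))) ≠ P := by
      intro h
      have := Ideal.map_comap_of_surjective _ hsurj p
      rw [h] at this
      exact hpm.ne this.symm
    rcases eq_or_lt_of_le h1 with h | h
    · have h' : (⊥ : Ideal (B ⧸ q₀.comap (algebraMap B R))).comap (Ideal.Quotient.mk _) =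
          p.comap (Ideal.Quotient.mk _) := hcbot.trans h
      exact (Ideal.comap_injective_of_surjective _ hsurj h').symm
    · exact absurd (hcov _ (Ideal.comap_isPrime _ _) h h2) h3
  obtain ⟨D, _, _, _, _, hDft, c, hcmax, s, χ, h1, h2, h3⟩ :=
    exists_curve (B ⧸ q₀.comap (algebraMap B R)) hN2 L (R ⧸ q₀) χ₀
      (P.map (Ideal.Quotient.mk (q₀.comap (algebraMap B R)))) hm₀bot hcov₀
  refine ⟨D, inferInstance, inferInstance, inferInstance,
    (algebraMap (B ⧸ q₀.comap (algebraMap B R)) D).comp (Ideal.Quotient.mk _), ?_, c, hcmax, s,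
    (χ : (R ⧸ q₀) →+* Localization.Away s).comp (Ideal.Quotient.mk q₀), ?_, h2, h3, ?_, ?_⟩
  · exact RingHom.FiniteType.comp (RingHom.finiteType_algebraMap.mpr hDft)
      (RingHom.FiniteType.of_surjective _ hsurj)
  · rw [← Ideal.comap_comap, h1, hcm]
  · intro x hx
    rw [RingHom.mem_ker, RingHom.comp_apply, Ideal.Quotient.eq_zero_iff_mem.2 hx, map_zero]
  · ext b
    simp only [RingHom.comp_apply]
    have e1 : Ideal.Quotient.mk q₀ (ψ b) =
        algebraMap (B ⧸ q₀.comap (algebraMap B R)) (R ⧸ q₀) (Ideal.Quotient.mk _ b) := rfl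
    rw [e1]
    have e2 := χ.commutes (Ideal.Quotient.mk (q₀.comap (algebraMap B R)) b)
    rw [IsScalarTower.algebraMap_apply (B ⧸ q₀.comap (algebraMap B R)) D (Localization.Away s)] at e2
    exact e2

end Groth.Agent.Lib.Helper12.RefVal
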