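import Mathlib
import Groth.Prelude.Def_Found
import Groth.Agent.Lib.Helper12.RefVal6

/-!
# Helper library (helper12): the curve step of the refined valuative criterion
-/

set_option autoImplicit false
set_option linter.style.haveILetI false
universe u
open CategoryTheory AlgebraicGeometry TopologicalSpace IsLocalRing

namespace Groth.Agent.Lib.Helper12.RefVal

/-- The curve lifting hypothesis of the refined valuative criterion (existence part). -/
def CurveLift {S X Y : Scheme.{u}} (q : Y ⟶ S) (f : X ⟶ Y) : Prop :=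
  ∀ (C : Scheme.{u}) (r : C ⟶ S) [IsIntegral C] [LocallyOfFiniteType r] [QuasiCompact r],
    (∀ x : C, IsIntegrallyClosed (C.presheaf.stalk x)) →
    ∀ (c : C), IsClosed ({c} : Set C) → ringKrullDim (C.presheaf.stalk c) = 1 →
    ∀ (U : C.Opens), (U : Set C) = {c}ᶜ →
    ∀ (u : (U : Scheme.{u}) ⟶ X) (g : C ⟶ Y), g ≫ q = r → u ≫ f = U.ι ≫ g →
    ∀ (k : Spec (CommRingCat.of (FractionRing (C.presheaf.stalk c))) ⟶ (U : Scheme.{u})),
      k ≫ U.ι = Spec.map (CommRingCat.ofHom (algebraMap (C.presheaf.stalk c)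
        (FractionRing (C.presheaf.stalk c)))) ≫ C.fromSpecStalk c →
    ∃ l : Spec (C.presheaf.stalk c) ⟶ X, l ≫ f = C.fromSpecStalk c ≫ g ∧
      Spec.map (CommRingCat.ofHom (algebraMap (C.presheaf.stalk c) (FractionRing (C.presheaf.stalk c)))) ≫ l =
        k ≫ u

/-- Stalks of the spectrum of an integrally closed domain are integrally closed. -/
theorem isIntegrallyClosed_stalk_Spec (D : Type u) [CommRing D] [IsDomain D] [IsIntegrallyClosed D]
    (x : Spec (CommRingCat.of D)) :
    IsIntegrallyClosed ((Spec (CommRingCat.of D)).presheaf.stalk x) := by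
  letI k : Algebra D ((Spec (CommRingCat.of D)).presheaf.stalk x) :=
    StructureSheaf.stalkAlgebra D x
  haveI : IsLocalization.AtPrime ((Spec (CommRingCat.of D)).presheaf.stalk x) x.asIdeal :=
    StructureSheaf.IsLocalization.to_stalk D x
  exact isIntegrallyClosed_of_isLocalization _ x.asIdeal.primeCompl
    (Ideal.primeCompl_le_nonZeroDivisors _)

theorem ringKrullDim_stalk_Spec (D : Type u) [CommRing D]
    (x : Spec (CommRingCat.of D)) :
    ringKrullDim ((Spec (CommRingCat.of D)).presheaf.stalk x) = x.asIdeal.height := by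
  letI k : Algebra D ((Spec (CommRingCat.of D)).presheaf.stalk x) :=
    StructureSheaf.stalkAlgebra D x
  haveI : IsLocalization.AtPrime ((Spec (CommRingCat.of D)).presheaf.stalk x) x.asIdeal :=
    StructureSheaf.IsLocalization.to_stalk D x
  exact IsLocalization.AtPrime.ringKrullDim_eq_height x.asIdeal _

/-- The generic point of the spectrum of a local ring of positive dimension does not map to the
closed point. -/
theorem fromSpecStalk_generic_ne {C : Scheme.{u}} (c : C) [IsDomain (C.presheaf.stalk c)]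
    (hdim : ringKrullDim (C.presheaf.stalk c) = 1)
    (pt : Spec (CommRingCat.of (FractionRing (C.presheaf.stalk c)))) :
    (Spec.map (CommRingCat.ofHom (algebraMap (C.presheaf.stalk c)
        (FractionRing (C.presheaf.stalk c)))) ≫ C.fromSpecStalk c) pt ≠ c := by
  intro h
  rw [Scheme.Hom.comp_apply] at h
  have h2 : C.fromSpecStalk c (closedPoint (C.presheaf.stalk c)) = c :=
    Scheme.fromSpecStalk_closedPoint
  have hinj : Function.Injective (C.fromSpecStalk c) :=
    (C.fromSpecStalk c).isEmbedding.injective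
  have h3 := hinj (h.trans h2.symm)
  have h4 : PrimeSpectrum.comap (algebraMap (C.presheaf.stalk c)
      (FractionRing (C.presheaf.stalk c))) pt = closedPoint (C.presheaf.stalk c) := h3
  have h5 := congrArg PrimeSpectrum.asIdeal h4
  have h6 : pt.asIdeal = ⊥ := Ideal.eq_bot_of_prime pt.asIdeal
  have h7 : maximalIdeal (C.presheaf.stalk c) = ⊥ := by
    have : (closedPoint (C.presheaf.stalk c)).asIdeal = maximalIdeal (C.presheaf.stalk c) := rfl
    rw [← this, ← h5, PrimeSpectrum.comap_asIdeal, h6, ← RingHom.ker_eq_comap_bot,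
      (RingHom.injective_iff_ker_eq_bot _).1 (IsFractionRing.injective _ _)]
  have h8 : IsField (C.presheaf.stalk c) := IsLocalRing.isField_iff_maximalIdeal_eq.2 h7
  rw [ringKrullDim_eq_zero_of_isField h8] at hdim
  exact zero_ne_one hdim

set_option maxHeartbeats 1600000 in
/-- **Lemma G** (the curve step). -/
theorem exists_specialization_of_curve {S X Y : Scheme.{u}} (q : Y ⟶ S) (f : X ⟶ Y)
    [QuasiSeparatedSpace S] [LocallyOfFiniteType q] [LocallyOfFiniteType f]
    (H : CurveLift q f)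
    {V : Y.Opens} (hV : IsAffineOpen V) (hB : CAlg.IsNagata Γ(Y, V))
    (P P₁ : Spec Γ(Y, V)) (hPmax : P.asIdeal.IsMaximal) (hlt : P₁.asIdeal < P.asIdeal)
    (hcov : ∀ P₂ : Ideal Γ(Y, V), P₂.IsPrime → P₁.asIdeal < P₂ → P₂ ≤ P.asIdeal →
      P₂ = P.asIdeal)
    (z₀ : X) (hz₀ : f z₀ = hV.fromSpec P₁) :
    ∃ x : X, z₀ ⤳ x ∧ f x = hV.fromSpec P := by
  have hz₀V : z₀ ∈ f ⁻¹ᵁ V := by
    show f z₀ ∈ (V : Set Y)
    rw [hz₀, ← hV.range_fromSpec]
    exact Set.mem_range_self _
  obtain ⟨_, ⟨U, hU, rfl⟩, hz₀U, hUV⟩ :=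
    X.isBasis_affineOpens.exists_subset_of_mem_open hz₀V (f ⁻¹ᵁ V).isOpen
  have e : U ≤ f ⁻¹ᵁ V := hUV
  obtain ⟨q₀, hq₀⟩ : z₀ ∈ Set.range hU.fromSpec := by
    rw [hU.range_fromSpec]; exact hz₀U
  have hψ : (f.appLE V U e).hom.FiniteType := f.finiteType_appLE hV hU e
  have hcompat : Spec.map (f.appLE V U e) ≫ hV.fromSpec = hU.fromSpec ≫ f :=
    IsAffineOpen.SpecMap_appLE_fromSpec f hV hU e
  have hcomap : q₀.asIdeal.comap (f.appLE V U e).hom = P₁.asIdeal := by
    have h1 : hV.fromSpec (Spec.map (f.appLE V U e) q₀) = hV.fromSpec P₁ := by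
      rw [← Scheme.Hom.comp_apply, hcompat, Scheme.Hom.comp_apply, hq₀, hz₀]
    have h2 := hV.fromSpec.isOpenEmbedding.injective h1
    exact congrArg PrimeSpectrum.asIdeal h2
  haveI := hPmax
  obtain ⟨D, _, _, _, φ, hφ, c, hcmax, s, χ, hcP, hht, hs, hker, hcomm⟩ :=
    exists_curve_of_prime Γ(Y, V) hB Γ(X, U) (f.appLE V U e).hom hψ q₀.asIdeal P.asIdeal
      (by rw [hcomap]; exact hlt) (by rw [hcomap]; exact hcov)
  haveI : LocallyOfFiniteType (Spec.map (CommRingCat.ofHom φ)) :=
    (HasRingHomProperty.Spec_iff (P := @LocallyOfFiniteType)).mpr hφ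
  have hclosed : IsClosed ({(⟨c, hcmax.isPrime⟩ : Spec (CommRingCat.of D))} :
      Set (Spec (CommRingCat.of D))) :=
    (PrimeSpectrum.isClosed_singleton_iff_isMaximal _).2 hcmax
  have hdim : ringKrullDim ((Spec (CommRingCat.of D)).presheaf.stalk
      (⟨c, hcmax.isPrime⟩ : Spec (CommRingCat.of D))) = 1 := by
    rw [ringKrullDim_stalk_Spec D _]
    show ((c.height : ℕ∞) : WithBot ℕ∞) = 1
    rw [hht]; rfl
  let Uo : (Spec (CommRingCat.of D)).Opens :=
    ⟨{(⟨c, hcmax.isPrime⟩ : Spec (CommRingCat.of D))}ᶜ, hclosed.isOpen_compl⟩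
  have hrange : Set.range Uo.ι ⊆
      Set.range (Spec.map (CommRingCat.ofHom (algebraMap D (Localization.Away s)))) := by
    rw [Scheme.Opens.range_ι]
    intro p hp
    have hmem : p ∈ (PrimeSpectrum.basicOpen s : Set (PrimeSpectrum D)) := by
      intro hsp
      exact hp (PrimeSpectrum.ext (hs p.asIdeal p.isPrime hsp))
    rw [← PrimeSpectrum.localization_away_comap_range (Localization.Away s) s] at hmem
    exact hmem
  let lift : (Uo : Scheme.{u}) ⟶ Spec (CommRingCat.of (Localization.Away s)) :=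
    IsOpenImmersion.lift (Spec.map (CommRingCat.ofHom (algebraMap D (Localization.Away s))))
      Uo.ι hrange
  have hlift : lift ≫ Spec.map (CommRingCat.ofHom (algebraMap D (Localization.Away s))) = Uo.ι :=
    IsOpenImmersion.lift_fac _ _ _
  have hu : (lift ≫ Spec.map (CommRingCat.ofHom χ) ≫ hU.fromSpec) ≫ f =
      Uo.ι ≫ (Spec.map (CommRingCat.ofHom φ) ≫ hV.fromSpec) := by
    have hc : f.appLE V U e ≫ CommRingCat.ofHom χ =
        CommRingCat.ofHom φ ≫ CommRingCat.ofHom (algebraMap D (Localization.Away s)) :=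
      CommRingCat.hom_ext hcomm
    rw [Category.assoc, Category.assoc, ← hcompat, ← hlift, Category.assoc,
      ← Spec.map_comp_assoc, ← Spec.map_comp_assoc, hc]
  haveI : IsDomain ((Spec (CommRingCat.of D)).presheaf.stalk
      (⟨c, hcmax.isPrime⟩ : Spec (CommRingCat.of D))) := inferInstance
  have hκrange : Set.range (Spec.map (CommRingCat.ofHom (algebraMap
      ((Spec (CommRingCat.of D)).presheaf.stalk (⟨c, hcmax.isPrime⟩ : Spec (CommRingCat.of D)))
      (FractionRing ((Spec (CommRingCat.of D)).presheaf.stalk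
        (⟨c, hcmax.isPrime⟩ : Spec (CommRingCat.of D)))))) ≫
      (Spec (CommRingCat.of D)).fromSpecStalk ⟨c, hcmax.isPrime⟩) ⊆ Set.range Uo.ι := by
    rw [Scheme.Opens.range_ι]
    rintro _ ⟨pt, rfl⟩
    exact fromSpecStalk_generic_ne _ hdim pt
  obtain ⟨l, hl₁, hl₂⟩ := H (Spec (CommRingCat.of D))
    ((Spec.map (CommRingCat.ofHom φ) ≫ hV.fromSpec) ≫ q)
    (fun x => isIntegrallyClosed_stalk_Spec D x) ⟨c, hcmax.isPrime⟩ hclosed hdim Uo rfl
    (lift ≫ Spec.map (CommRingCat.ofHom χ) ≫ hU.fromSpec)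
    (Spec.map (CommRingCat.ofHom φ) ≫ hV.fromSpec) rfl hu
    (IsOpenImmersion.lift Uo.ι _ hκrange) (IsOpenImmersion.lift_fac _ _ _)
  refine ⟨l (closedPoint _), ?_, ?_⟩
  · have h1 : (Spec.map (CommRingCat.ofHom (algebraMap
        ((Spec (CommRingCat.of D)).presheaf.stalk (⟨c, hcmax.isPrime⟩ : Spec (CommRingCat.of D)))
        (FractionRing ((Spec (CommRingCat.of D)).presheaf.stalk
          (⟨c, hcmax.isPrime⟩ : Spec (CommRingCat.of D))))))) ⟨⊥, Ideal.isPrime_bot⟩ ⤳
        closedPoint _ := IsLocalRing.specializes_closedPoint _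
    have h2 := h1.map l.continuous
    have h3 : l ((Spec.map (CommRingCat.ofHom (algebraMap
        ((Spec (CommRingCat.of D)).presheaf.stalk (⟨c, hcmax.isPrime⟩ : Spec (CommRingCat.of D)))
        (FractionRing ((Spec (CommRingCat.of D)).presheaf.stalk
          (⟨c, hcmax.isPrime⟩ : Spec (CommRingCat.of D))))))) ⟨⊥, Ideal.isPrime_bot⟩) =
        (lift ≫ Spec.map (CommRingCat.ofHom χ) ≫ hU.fromSpec)
          ((IsOpenImmersion.lift Uo.ι _ hκrange) ⟨⊥, Ideal.isPrime_bot⟩) := by
      rw [← Scheme.Hom.comp_apply, hl₂, Scheme.Hom.comp_apply]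
    have h4 : z₀ ⤳ (lift ≫ Spec.map (CommRingCat.ofHom χ) ≫ hU.fromSpec)
          ((IsOpenImmersion.lift Uo.ι _ hκrange) ⟨⊥, Ideal.isPrime_bot⟩) := by
      rw [Scheme.Hom.comp_apply, Scheme.Hom.comp_apply, ← hq₀]
      apply Specializes.map _ hU.fromSpec.continuous
      refine (PrimeSpectrum.le_iff_specializes (R := Γ(X, U)) q₀ _).1 ?_
      have hle : ∀ (pp : Spec (CommRingCat.of (Localization.Away s))),
          q₀.asIdeal ≤ ((Spec.map (CommRingCat.ofHom χ)) pp).asIdeal := fun pp x hx => by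
        show χ x ∈ pp.asIdeal
        rw [hker hx]
        exact zero_mem _
      exact hle _
    rw [h3] at h2
    exact h4.trans h2
  · rw [← Scheme.Hom.comp_apply, hl₁, Scheme.Hom.comp_apply, Scheme.fromSpecStalk_closedPoint,
      Scheme.Hom.comp_apply]
    congr 1
    exact PrimeSpectrum.ext hcP

end Groth.Agent.Lib.Helper12.RefVal
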