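import Mathlib
import Groth.Prelude.Def_Found
import Groth.Agent.Lib.Helper12.RefVal1
import Groth.Agent.Lib.Helper12.RefVal7
import Groth.Agent.Lib.Helper12.ConstrNhds
import Groth.Agent.Lib.Helper12.FibreDimConstr
import Groth.Agent.Lib.Helper26.NagThmA

/-!
# Helper library (helper12): curve lifting implies specializing (refined valuative criterion)
-/

set_option autoImplicit false
set_option linter.style.haveILetI false
universe u
open CategoryTheory AlgebraicGeometry TopologicalSpace IsLocalRing Topology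

namespace Groth.Agent.Lib.Helper12.RefVal

open Groth.Agent.Lib.Helper12

set_option maxHeartbeats 1600000 in
/-- **CORE**: the curve lifting property implies that `f` is specializing. -/
theorem specializingMap_of_curveLift (S : Scheme.{u})
    (hS : ∀ W : S.affineOpens, CAlg.IsNagata Γ(S, W))
    {X Y : Scheme.{u}} (p : X ⟶ S) (q : Y ⟶ S) [LocallyOfFiniteType p] [LocallyOfFiniteType q]
    (f : X ⟶ Y) (hf : f ≫ q = p) [QuasiCompact f] (H : CurveLift q f) : SpecializingMap f := by
  haveI : IsLocallyNoetherian S := ⟨fun W => (hS W).1⟩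
  haveI : IsLocallyNoetherian Y := LocallyOfFiniteType.isLocallyNoetherian q
  haveI : IsLocallyNoetherian X := LocallyOfFiniteType.isLocallyNoetherian p
  haveI : LocallyOfFiniteType (f ≫ q) := by rw [hf]; infer_instance
  haveI : LocallyOfFiniteType f := locallyOfFiniteType_of_comp f q
  intro x' y hy
  have hy' : f x' ⤳ y := hy
  by_contra hne
  push_neg at hne
  have hZc : IsLocallyConstructible (closure ({x'} : Set X)) :=
    FibreDimConstr.isLocallyConstructible_of_isClosed _ isClosed_closure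
  have hE : IsLocallyConstructible (f '' closure ({x'} : Set X)) :=
    f.isLocallyConstructible_image hZc
  have hyE : y ∉ f '' closure ({x'} : Set X) := by
    rintro ⟨x, hx, hfx⟩
    exact hne x (specializes_iff_mem_closure.2 hx) hfx
  -- Step 1
  have hN : IsLocallyConstructible ((f '' closure ({x'} : Set X))ᶜ ∪ (closure ({y} : Set Y))ᶜ) :=
    (ConstrNhds.isLocallyConstructible_compl hE).union
      (ConstrNhds.isLocallyConstructible_compl
        (FibreDimConstr.isLocallyConstructible_of_isClosed _ isClosed_closure))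
  have hNnhds : ((f '' closure ({x'} : Set X))ᶜ ∪ (closure ({y} : Set Y))ᶜ) ∈ nhds y := by
    apply ConstrNhds.mem_nhds_of_isLocallyConstructible _ hN
    intro z hz
    by_cases hzy : z ∈ closure ({y} : Set Y)
    · left
      have hzeq : z = y := (hz.antisymm (specializes_iff_mem_closure.2 hzy)).eq
      rw [hzeq]
      exact hyE
    · right
      exact hzy
  obtain ⟨O, hON, hOopen, hyO⟩ := mem_nhds_iff.1 hNnhds
  obtain ⟨_, ⟨W, hW, rfl⟩, hqyW, -⟩ := S.isBasis_affineOpens.exists_subset_of_mem_open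
    (Set.mem_univ (q y)) isOpen_univ
  obtain ⟨_, ⟨V, hV, rfl⟩, hyV, hVO⟩ := Y.isBasis_affineOpens.exists_subset_of_mem_open
    (show y ∈ O ∩ ((q ⁻¹ᵁ W : Y.Opens) : Set Y) from ⟨hyO, hqyW⟩)
    (hOopen.inter (q ⁻¹ᵁ W).isOpen)
  have eW : V ≤ q ⁻¹ᵁ W := fun z hz => (hVO hz).2
  have hft : (q.appLE W V eW).hom.FiniteType := q.finiteType_appLE hW hV eW
  have hB : CAlg.IsNagata Γ(Y, V) := by
    letI := (q.appLE W V eW).hom.toAlgebra
    haveI : Algebra.FiniteType Γ(S, W) Γ(Y, V) := hft
    exact Groth.Agent.Lib.Helper26.NagThmA.isNagata_of_finiteType Γ(S, W) (hS ⟨W, hW⟩) Γ(Y, V)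
  haveI : IsNoetherianRing Γ(Y, V) := hB.1
  obtain ⟨Py, hPy⟩ : y ∈ Set.range hV.fromSpec := by rw [hV.range_fromSpec]; exact hyV
  have hScl : IsClosed (hV.fromSpec ⁻¹' closure ({y} : Set Y)) :=
    isClosed_closure.preimage hV.fromSpec.continuous
  have hSne : (hV.fromSpec ⁻¹' closure ({y} : Set Y)).Nonempty :=
    ⟨Py, by rw [Set.mem_preimage, hPy]; exact subset_closure rfl⟩
  obtain ⟨P, hPS, hPclosed⟩ := hScl.exists_closed_singleton hSne
  have hPmax : P.asIdeal.IsMaximal := (PrimeSpectrum.isClosed_singleton_iff_isMaximal P).1 hPclosed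
  have hy₀cl : hV.fromSpec P ∈ closure ({y} : Set Y) := hPS
  have hy₀V : hV.fromSpec P ∈ (V : Set Y) := by
    rw [← hV.range_fromSpec]; exact Set.mem_range_self _
  have hy₀E : hV.fromSpec P ∉ f '' closure ({x'} : Set X) := by
    intro h
    rcases hON (hVO hy₀V).1 with h1 | h1
    · exact h1 h
    · exact h1 hy₀cl
  have hxy₀ : f x' ⤳ hV.fromSpec P := hy'.trans (specializes_iff_mem_closure.2 hy₀cl)
  have hfx'V : f x' ∈ (V : Set Y) := hxy₀.mem_open V.isOpen hy₀V
  obtain ⟨Q, hQ⟩ : f x' ∈ Set.range hV.fromSpec := by rw [hV.range_fromSpec]; exact hfx'V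
  have hQP : Q ⤳ P := by
    rw [← hQ] at hxy₀
    exact hV.fromSpec.isOpenEmbedding.isInducing.specializes_iff.1 hxy₀
  have hQP' : Q.asIdeal ≤ P.asIdeal := (PrimeSpectrum.le_iff_specializes Q P).2 hQP
  -- Step 4
  have hN₂ : IsLocallyConstructible
      ((f '' closure ({x'} : Set X)) ∪ (closure ({f x'} : Set Y))ᶜ) :=
    hE.union (ConstrNhds.isLocallyConstructible_compl
      (FibreDimConstr.isLocallyConstructible_of_isClosed _ isClosed_closure))
  have hN₂nhds : ((f '' closure ({x'} : Set X)) ∪ (closure ({f x'} : Set Y))ᶜ) ∈ nhds (f x') := by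
    apply ConstrNhds.mem_nhds_of_isLocallyConstructible _ hN₂
    intro z hz
    by_cases hzy : z ∈ closure ({f x'} : Set Y)
    · left
      have hzeq : z = f x' := (hz.antisymm (specializes_iff_mem_closure.2 hzy)).eq
      rw [hzeq]
      exact ⟨x', subset_closure rfl, rfl⟩
    · right
      exact hzy
  have hpre : hV.fromSpec ⁻¹' ((f '' closure ({x'} : Set X)) ∪ (closure ({f x'} : Set Y))ᶜ) ∈
      nhds Q := by
    apply hV.fromSpec.continuous.continuousAt.preimage_mem_nhds
    rw [hQ]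
    exact hN₂nhds
  obtain ⟨_, ⟨a, rfl⟩, hQa, haN⟩ :=
    (PrimeSpectrum.isTopologicalBasis_basic_opens (R := Γ(Y, V))).mem_nhds_iff.1 hpre
  have hQa' : a ∉ Q.asIdeal := hQa
  have hbasic : ∀ P' : Spec Γ(Y, V), a ∉ P'.asIdeal → Q.asIdeal ≤ P'.asIdeal →
      hV.fromSpec P' ∈ f '' closure ({x'} : Set X) := by
    intro P' haP' hQP'
    rcases haN (show P' ∈ (PrimeSpectrum.basicOpen a : Set (PrimeSpectrum Γ(Y, V))) from haP')
      with h1 | h1
    · exact h1
    · exfalso
      apply h1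
      rw [← specializes_iff_mem_closure, ← hQ]
      exact ((PrimeSpectrum.le_iff_specializes Q P').1 hQP').map hV.fromSpec.continuous
  have haP : a ∈ P.asIdeal := by
    by_contra haP
    exact hy₀E (hbasic P haP hQP')
  haveI := Q.isPrime
  haveI := P.isPrime
  obtain ⟨P₁, hP₁prime, hQP₁, hP₁P, haP₁, hcov⟩ :=
    exists_prime_covBy Q.asIdeal P.asIdeal hQP' a haP hQa'
  obtain ⟨z₀, hz₀Z, hz₀⟩ := hbasic ⟨P₁, hP₁prime⟩ haP₁ hQP₁
  obtain ⟨x, hz₀x, hfx⟩ := exists_specialization_of_curve q f H hV hB P ⟨P₁, hP₁prime⟩ hPmax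
    hP₁P hcov z₀ hz₀
  apply hy₀E
  refine ⟨x, ?_, hfx⟩
  rw [← specializes_iff_mem_closure]
  exact (specializes_iff_mem_closure.2 hz₀Z).trans hz₀x

end Groth.Agent.Lib.Helper12.RefVal
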