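import Mathlib

/-!
# Helper library (helper12): universal closedness can be tested on base changes to affine spaces
(Stacks 05JX)
-/

set_option autoImplicit false
universe u
open AlgebraicGeometry CategoryTheory CategoryTheory.Limits TensorProduct

namespace Groth.Agent.Lib.Helper12.UnivClosedFT

section Ring

variable (R S T : Type u) [CommRing R] [CommRing S] [CommRing T] [Algebra R S] [Algebra R T]

/-- The map `S ⊗[R] T₂ → S ⊗[R] T` for a subalgebra `T₂` of `T`. -/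
noncomputable abbrev tmap (T₂ : Subalgebra R T) : S ⊗[R] T₂ →ₐ[R] S ⊗[R] T :=
  Algebra.TensorProduct.map (AlgHom.id R S) T₂.val

/-- The inclusion `T → S ⊗[R] T`. -/
noncomputable abbrev inr : T →ₐ[R] S ⊗[R] T := Algebra.TensorProduct.includeRight

variable {R S T}

/-- Elements of `S ⊗[R] T` lift to `S ⊗[R] T₂` as soon as `T₂` contains the right components. -/
theorem exists_lift (T₂ : Subalgebra R T) (F : Finset (S × T)) (hF : ∀ q ∈ F, q.2 ∈ T₂) :
    ∃ c' : S ⊗[R] T₂, tmap R S T T₂ c' = ∑ q ∈ F, q.1 ⊗ₜ[R] q.2 := by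
  refine ⟨∑ q ∈ F.attach, q.1.1 ⊗ₜ[R] (⟨q.1.2, hF q.1 q.2⟩ : T₂), ?_⟩
  rw [map_sum, ← Finset.sum_attach F (fun q => q.1 ⊗ₜ[R] q.2)]
  refine Finset.sum_congr rfl fun q _ => ?_
  simp

/-- **Ring-level core.** If no prime of `S ⊗[R] T` containing `I` lies over `p`, this is already
witnessed over every sufficiently large finitely generated subalgebra of `T`. -/
theorem exists_finset_of_forall_prime (I : Ideal (S ⊗[R] T)) (p : Ideal T) [hp : p.IsPrime]
    (h : ∀ Q : Ideal (S ⊗[R] T), Q.IsPrime → I ≤ Q → Q.comap (inr R S T).toRingHom ≠ p) :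
    ∃ F : Finset T, ∀ T₂ : Subalgebra R T, (F : Set T) ⊆ T₂ →
      ∀ Q₂ : Ideal (S ⊗[R] T₂), Q₂.IsPrime → I.comap (tmap R S T T₂).toRingHom ≤ Q₂ →
        Q₂.comap (inr R S T₂).toRingHom ≠ p.comap T₂.val.toRingHom := by
  classical
  -- Step 1: an element of the complement of `p` lies in `I ⊔ p^e`.
  have h1 : ∃ s : T, s ∉ p ∧ inr R S T s ∈ I ⊔ p.map (inr R S T).toRingHom := by
    by_contra hcon
    push Not at hcon
    have hdisj : Disjoint ((I ⊔ p.map (inr R S T).toRingHom : Ideal (S ⊗[R] T)) : Set (S ⊗[R] T))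
        (p.primeCompl.map (inr R S T).toRingHom : Submonoid (S ⊗[R] T)) := by
      rw [Set.disjoint_left]
      rintro x hx ⟨s, hs, rfl⟩
      exact hcon s hs hx
    obtain ⟨Q, hQ, hJQ, hQd⟩ := Ideal.exists_le_prime_disjoint _ _ hdisj
    apply h Q hQ (le_sup_left.trans hJQ)
    apply le_antisymm
    · intro t ht
      by_contra htp
      exact Set.disjoint_left.mp hQd ht ⟨t, htp, rfl⟩
    · rw [← Ideal.map_le_iff_le_comap]
      exact le_sup_right.trans hJQ
  obtain ⟨s, hsp, hs⟩ := h1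
  obtain ⟨a, ha, b, hb, hab⟩ := Submodule.mem_sup.mp hs
  have hb' : b ∈ Submodule.span (S ⊗[R] T) ((inr R S T) '' (p : Set T)) := hb
  obtain ⟨t, htp, c, hc⟩ := (Submodule.mem_span_image_iff_exists_fun (S ⊗[R] T)).mp hb'
  choose G hG using fun i : t => TensorProduct.exists_finset (c i)
  refine ⟨insert s (t ∪ Finset.univ.biUnion (fun i : t => (G i).image Prod.snd)), ?_⟩
  intro T₂ hFT₂ Q₂ hQ₂ hIQ₂ hcomap
  have hsT₂ : s ∈ T₂ := hFT₂ (by simp)
  have htT₂ : ∀ i : t, (i : T) ∈ T₂ := fun i => hFT₂ (by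
    simp only [Finset.coe_insert, Finset.coe_union, Set.mem_insert_iff, Set.mem_union,
      Finset.mem_coe]
    exact Or.inr (Or.inl i.2))
  have hGT₂ : ∀ i : t, ∀ q ∈ G i, q.2 ∈ T₂ := fun i q hq => hFT₂ (by
    simp only [Finset.coe_insert, Finset.coe_union, Set.mem_insert_iff, Set.mem_union,
      Finset.mem_coe, Finset.mem_biUnion, Finset.mem_univ, true_and, Finset.mem_image]
    exact Or.inr (Or.inr ⟨i, q, hq, rfl⟩))
  choose c' hc' using fun i : t => exists_lift T₂ (G i) (hGT₂ i)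
  set s₂ : T₂ := ⟨s, hsT₂⟩ with hs₂
  set x : S ⊗[R] T₂ := inr R S T₂ s₂ - ∑ i : t, c' i * inr R S T₂ ⟨(i : T), htT₂ i⟩ with hx
  have hψx : tmap R S T T₂ x = a := by
    have e1 : tmap R S T T₂ (inr R S T₂ s₂) = inr R S T s := by simp [hs₂]
    have e2 : ∀ i : t, tmap R S T T₂ (c' i * inr R S T₂ ⟨(i : T), htT₂ i⟩) =
        c i • inr R S T (i : T) := by
      intro i
      rw [map_mul, hc' i, ← hG i, smul_eq_mul]
      congr 1
    rw [hx, map_sub, map_sum, e1, Finset.sum_congr rfl (fun i _ => e2 i), hc, ← hab]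
    ring
  have hxQ : x ∈ Q₂ := hIQ₂ (by
    show tmap R S T T₂ x ∈ I
    rw [hψx]; exact ha)
  have hsum : ∑ i : t, c' i * inr R S T₂ ⟨(i : T), htT₂ i⟩ ∈ Q₂ := by
    refine Q₂.sum_mem fun i _ => Q₂.mul_mem_left _ ?_
    have : (⟨(i : T), htT₂ i⟩ : T₂) ∈ p.comap T₂.val.toRingHom := by
      show (i : T) ∈ p
      exact htp i.2
    rw [← hcomap] at this
    exact this
  have hs₂Q : inr R S T₂ s₂ ∈ Q₂ := by
    have : inr R S T₂ s₂ = x + ∑ i : t, c' i * inr R S T₂ ⟨(i : T), htT₂ i⟩ := by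
      rw [hx]; ring
    rw [this]
    exact Q₂.add_mem hxQ hsum
  have : s₂ ∈ Q₂.comap (inr R S T₂).toRingHom := hs₂Q
  rw [hcomap] at this
  exact hsp this

end Ring

end Groth.Agent.Lib.Helper12.UnivClosedFT
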