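import Mathlib
import Groth.Agent.Lib.Helper12.UnivClosedFT
import Groth.Agent.Lib.Helper12.UnivOpenFT

/-!
# Universal closedness can be tested on base changes to affine spaces: scheme-level part
-/

set_option autoImplicit false
universe u
open AlgebraicGeometry CategoryTheory CategoryTheory.Limits TensorProduct

namespace Groth.Agent.Lib.Helper12.UnivClosedFT

open Groth.Agent.Lib.Helper12.UnivOpenFT

section Lift

variable {X S Q W : Scheme.{u}} (f : X ⟶ S) (a : W ⟶ Q) (b : Q ⟶ S)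

/-- The canonical map `X ×_S W ⟶ X ×_S Q` induced by `a : W ⟶ Q`. -/
noncomputable def liftComp : pullback f (a ≫ b) ⟶ pullback f b :=
  pullback.lift (pullback.fst f (a ≫ b)) (pullback.snd f (a ≫ b) ≫ a)
    (by rw [pullback.condition, Category.assoc])

theorem liftComp_fst : liftComp f a b ≫ pullback.fst f b = pullback.fst f (a ≫ b) :=
  pullback.lift_fst _ _ _

theorem liftComp_snd : liftComp f a b ≫ pullback.snd f b = pullback.snd f (a ≫ b) ≫ a :=
  pullback.lift_snd _ _ _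

theorem isPullback_liftComp :
    IsPullback (liftComp f a b) (pullback.snd f (a ≫ b)) (pullback.snd f b) a := by
  have big : IsPullback (liftComp f a b ≫ pullback.fst f b) (pullback.snd f (a ≫ b)) f (a ≫ b) := by
    rw [liftComp_fst]; exact IsPullback.of_hasPullback f (a ≫ b)
  exact IsPullback.of_right big (liftComp_snd f a b) (IsPullback.of_hasPullback f b)

/-- A closed base change stays closed after a further base change along a preimmersion. -/
theorem isClosedMap_snd_comp_of_isPreimmersion [IsPreimmersion a]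
    (h : IsClosedMap (pullback.snd f b).base) : IsClosedMap (pullback.snd f (a ≫ b)).base := by
  have sq := isPullback_liftComp f a b
  haveI : IsPreimmersion (liftComp f a b) :=
    MorphismProperty.of_isPullback (P := @IsPreimmersion) sq.flip inferInstance
  intro Z hZ
  obtain ⟨C, hC, rfl⟩ := (liftComp f a b).isEmbedding.isInducing.isClosed_iff.mp hZ
  rw [Scheme.image_preimage_eq_of_isPullback sq C]
  exact (h C hC).preimage a.continuous

theorem isClosedMap_snd_of_eq_comp [IsPreimmersion a] (g : W ⟶ S) (hg : g = a ≫ b)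
    (h : IsClosedMap (pullback.snd f b).base) : IsClosedMap (pullback.snd f g).base := by
  subst hg
  exact isClosedMap_snd_comp_of_isPreimmersion f a b h

end Lift


section Step1

variable {X S : Scheme.{u}} (f : X ⟶ S)

open AffineSpace in
/-- Closedness over all affine spaces implies closedness over every finite type algebra over an
affine open of the base. -/
theorem isClosedMap_snd_of_finiteType
    (H : ∀ n : ℕ, IsClosedMap (pullback.snd f (𝔸(ULift.{u} (Fin n); S) ↘ S)).base)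
    {V : S.Opens} (hV : IsAffineOpen V) (T₁ : Type u) [CommRing T₁] [Algebra Γ(S, V) T₁]
    [Algebra.FiniteType Γ(S, V) T₁] :
    IsClosedMap (pullback.snd f
      (Spec.map (CommRingCat.ofHom (algebraMap Γ(S, V) T₁)) ≫ hV.fromSpec)).base := by
  obtain ⟨n, π₀, hπ₀⟩ := Algebra.FiniteType.iff_quotient_mvPolynomial''.mp
    (inferInstance : Algebra.FiniteType Γ(S, V) T₁)
  set π : MvPolynomial (ULift.{u} (Fin n)) Γ(S, V) →ₐ[Γ(S, V)] T₁ :=
    π₀.comp (MvPolynomial.renameEquiv Γ(S, V) Equiv.ulift).toAlgHom with hπdef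
  have hπ : Function.Surjective π := by
    rw [hπdef]
    exact hπ₀.comp (MvPolynomial.renameEquiv Γ(S, V) Equiv.ulift).surjective
  set j₁ : Spec (CommRingCat.of T₁) ⟶
      Spec (CommRingCat.of (MvPolynomial (ULift.{u} (Fin n)) Γ(S, V))) :=
    Spec.map (CommRingCat.ofHom π.toRingHom) with hj₁
  haveI : IsClosedImmersion j₁ := IsClosedImmersion.spec_of_surjective _ hπ
  set j₂ := (SpecIso (ULift.{u} (Fin n)) Γ(S, V)).inv with hj₂
  set j₃ := AffineSpace.map (ULift.{u} (Fin n)) hV.fromSpec with hj₃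
  haveI : IsOpenImmersion j₃ :=
    MorphismProperty.of_isPullback (P := @IsOpenImmersion)
      (isPullback_map (n := ULift.{u} (Fin n)) hV.fromSpec).flip inferInstance
  have hover : Spec.map (CommRingCat.ofHom (algebraMap Γ(S, V) T₁)) ≫ hV.fromSpec =
      (j₁ ≫ j₂ ≫ j₃) ≫ (𝔸(ULift.{u} (Fin n); S) ↘ S) := by
    rw [Category.assoc, Category.assoc, hj₃, map_over, hj₂, SpecIso_inv_over_assoc, hj₁,
      ← Spec.map_comp_assoc]
    congr 2
    ext r
    show algebraMap Γ(S, V) T₁ r = π (MvPolynomial.C r)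
    rw [← MvPolynomial.algebraMap_eq, π.commutes]
  exact isClosedMap_snd_of_eq_comp f (j₁ ≫ j₂ ≫ j₃) _ _ hover (H n)

end Step1


section TheoremA

variable {X S : Scheme.{u}} (f : X ⟶ S) {V : S.Opens} (hV : IsAffineOpen V)
  (T : Type u) [CommRing T] [Algebra Γ(S, V) T]

/-- The structure morphism `Spec T₂ ⟶ S` of a subalgebra. -/
noncomputable abbrev gOf (T₂ : Subalgebra Γ(S, V) T) : Spec (CommRingCat.of T₂) ⟶ S :=
  Spec.map (CommRingCat.ofHom (algebraMap Γ(S, V) T₂)) ≫ hV.fromSpec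

/-- The structure morphism `Spec T ⟶ S`. -/
noncomputable abbrev gTop : Spec (CommRingCat.of T) ⟶ S :=
  Spec.map (CommRingCat.ofHom (algebraMap Γ(S, V) T)) ≫ hV.fromSpec

/-- The morphism `Spec T ⟶ Spec T₂`. -/
noncomputable abbrev νOf (T₂ : Subalgebra Γ(S, V) T) :
    Spec (CommRingCat.of T) ⟶ Spec (CommRingCat.of T₂) :=
  Spec.map (CommRingCat.ofHom T₂.val.toRingHom)

theorem νOf_gOf (T₂ : Subalgebra Γ(S, V) T) : νOf T T₂ ≫ gOf hV T T₂ = gTop hV T := by
  rw [← Spec.map_comp_assoc]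
  rfl

/-- The morphism `X ×_S Spec T ⟶ X ×_S Spec T₂`. -/
noncomputable def ΨOf (T₂ : Subalgebra Γ(S, V) T) :
    pullback f (gTop hV T) ⟶ pullback f (gOf hV T T₂) :=
  pullback.lift (pullback.fst f (gTop hV T)) (pullback.snd f (gTop hV T) ≫ νOf T T₂)
    (by rw [pullback.condition, Category.assoc, νOf_gOf])

theorem ΨOf_fst (T₂ : Subalgebra Γ(S, V) T) :
    ΨOf f hV T T₂ ≫ pullback.fst f (gOf hV T T₂) = pullback.fst f (gTop hV T) :=
  pullback.lift_fst _ _ _

theorem ΨOf_snd (T₂ : Subalgebra Γ(S, V) T) :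
    ΨOf f hV T T₂ ≫ pullback.snd f (gOf hV T T₂) = pullback.snd f (gTop hV T) ≫ νOf T T₂ :=
  pullback.lift_snd _ _ _

/-- **Chart lemma.** -/
theorem exists_finset_chart {U : X.Opens} (hU : IsAffineOpen U) (e : U ≤ f ⁻¹ᵁ V)
    (Z : Set ↥(pullback f (gTop hV T))) (hZ : IsClosed Z) (t : ↥(Spec (CommRingCat.of T)))
    (ht : t ∉ (pullback.snd f (gTop hV T)).base '' Z) :
    ∃ F : Finset T, ∀ T₂ : Subalgebra Γ(S, V) T, (F : Set T) ⊆ T₂ →
      ∀ z₁ : ↥(pullback f (gOf hV T T₂)), z₁ ∈ closure ((ΨOf f hV T T₂).base '' Z) →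
        (pullback.fst f (gOf hV T T₂)).base z₁ ∈ U →
        (pullback.snd f (gOf hV T T₂)).base z₁ ≠ (νOf T T₂).base t := by
  letI algS : Algebra Γ(S, V) Γ(X, U) := (f.appLE V U e).hom.toAlgebra
  have e₁ : Spec.map (CommRingCat.ofHom (algebraMap Γ(S, V) Γ(X, U))) ≫ hV.fromSpec =
      hU.fromSpec ≫ f := IsAffineOpen.SpecMap_appLE_fromSpec f hV hU e
  have e₂ : Spec.map (CommRingCat.ofHom (algebraMap Γ(S, V) T)) ≫ hV.fromSpec =
      𝟙 (Spec (CommRingCat.of T)) ≫ gTop hV T := by rw [Category.id_comp]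
  obtain ⟨c, hcO, hc1, hc2, hcr⟩ := exists_chart f (gTop hV T) Γ(S, V) Γ(X, U) T
    hU.fromSpec hV.fromSpec (𝟙 _) e₁ e₂
  set I : Ideal (Γ(X, U) ⊗[Γ(S, V)] T) := PrimeSpectrum.vanishingIdeal (c.base ⁻¹' Z) with hI
  have hcl : IsClosed (c.base ⁻¹' Z) := hZ.preimage c.continuous
  have hcore : ∀ Q : Ideal (Γ(X, U) ⊗[Γ(S, V)] T), Q.IsPrime → I ≤ Q →
      Q.comap (inr Γ(S, V) Γ(X, U) T).toRingHom ≠ t.asIdeal := by
    intro Q hQ hIQ hcomap
    apply ht
    set Q' : ↥(Spec (CommRingCat.of (Γ(X, U) ⊗[Γ(S, V)] T))) := ⟨Q, hQ⟩ with hQ'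
    have hmem : Q' ∈ c.base ⁻¹' Z := by
      have h0 : Q' ∈ PrimeSpectrum.zeroLocus (I : Set (Γ(X, U) ⊗[Γ(S, V)] T)) := hIQ
      rw [hI, PrimeSpectrum.zeroLocus_vanishingIdeal_eq_closure] at h0
      exact hcl.closure_subset h0
    refine ⟨c.base Q', hmem, ?_⟩
    rw [← Scheme.Hom.comp_apply, hc2, Category.comp_id]
    exact PrimeSpectrum.ext hcomap
  obtain ⟨F, hF⟩ := exists_finset_of_forall_prime I t.asIdeal hcore
  refine ⟨F, fun T₂ hFT₂ z₁ hz₁ hz₁U hsnd => ?_⟩
  have e₂' : Spec.map (CommRingCat.ofHom (algebraMap Γ(S, V) T₂)) ≫ hV.fromSpec =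
      𝟙 (Spec (CommRingCat.of T₂)) ≫ gOf hV T T₂ := by rw [Category.id_comp]
  obtain ⟨c₁, hc₁O, hc₁1, hc₁2, hc₁r⟩ := exists_chart f (gOf hV T T₂) Γ(S, V) Γ(X, U) T₂
    hU.fromSpec hV.fromSpec (𝟙 _) e₁ e₂'
  obtain ⟨Q₁, rfl⟩ : z₁ ∈ Set.range c₁.base := by
    rw [hc₁r]
    refine ⟨?_, ?_⟩
    · show _ ∈ Set.range hU.fromSpec.base
      rw [hU.range_fromSpec]; exact hz₁U
    · exact ⟨_, rfl⟩
  set Ψi : Spec (CommRingCat.of (Γ(X, U) ⊗[Γ(S, V)] T)) ⟶
      Spec (CommRingCat.of (Γ(X, U) ⊗[Γ(S, V)] T₂)) :=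
    Spec.map (CommRingCat.ofHom (tmap Γ(S, V) Γ(X, U) T T₂).toRingHom) with hΨi
  have hΨ1 : Ψi ≫ specInl Γ(S, V) Γ(X, U) T₂ = specInl Γ(S, V) Γ(X, U) T := by
    rw [hΨi, ← Spec.map_comp]
    congr 1
  have hΨ2 : Ψi ≫ specInr Γ(S, V) Γ(X, U) T₂ = specInr Γ(S, V) Γ(X, U) T ≫ νOf T T₂ := by
    rw [hΨi, ← Spec.map_comp, ← Spec.map_comp]
    congr 1
  have hcompat : c ≫ ΨOf f hV T T₂ = Ψi ≫ c₁ := by
    apply pullback.hom_ext
    · rw [Category.assoc, ΨOf_fst, hc1, Category.assoc, hc₁1, ← Category.assoc, hΨ1]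
    · rw [Category.assoc, ΨOf_snd, ← Category.assoc, hc2, Category.comp_id, Category.assoc, hc₁2,
        Category.comp_id, hΨ2]
  -- `Q₁` lies in the closure of the image of `c⁻¹ Z`
  have hQ₁cl : Q₁ ∈ closure (Ψi.base '' (c.base ⁻¹' Z)) := by
    have h1 : Q₁ ∈ c₁.base ⁻¹' closure ((ΨOf f hV T T₂).base '' Z) := hz₁
    rw [c₁.isOpenEmbedding.isOpenMap.preimage_closure_eq_closure_preimage c₁.continuous] at h1
    refine closure_mono ?_ h1
    rintro q₁ ⟨z, hzZ, hz⟩
    have hzU : (pullback.fst f (gTop hV T)).base z ∈ U := by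
      rw [← ΨOf_fst f hV T T₂, Scheme.Hom.comp_apply, hz, ← Scheme.Hom.comp_apply, hc₁1,
        Scheme.Hom.comp_apply]
      have : hU.fromSpec.base ((specInl Γ(S, V) Γ(X, U) T₂).base q₁) ∈
          Set.range hU.fromSpec.base := ⟨_, rfl⟩
      rw [hU.range_fromSpec] at this
      exact this
    obtain ⟨q, rfl⟩ : z ∈ Set.range c.base := by
      rw [hcr]
      refine ⟨?_, ?_⟩
      · show _ ∈ Set.range hU.fromSpec.base
        rw [hU.range_fromSpec]; exact hzU
      · exact ⟨_, rfl⟩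
    refine ⟨q, hzZ, ?_⟩
    apply c₁.isOpenEmbedding.injective
    rw [← hz, ← Scheme.Hom.comp_apply, ← hcompat, Scheme.Hom.comp_apply]
  have hQ₁I : I.comap (tmap Γ(S, V) Γ(X, U) T T₂).toRingHom ≤ Q₁.asIdeal := by
    have h2 : closure (Ψi.base '' (c.base ⁻¹' Z)) ⊆
        PrimeSpectrum.zeroLocus (I.comap (tmap Γ(S, V) Γ(X, U) T T₂).toRingHom) := by
      rw [← PrimeSpectrum.closure_image_comap_zeroLocus]
      refine closure_mono (Set.image_mono ?_)
      rw [hI]
      exact PrimeSpectrum.subset_zeroLocus_vanishingIdeal _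
    exact h2 hQ₁cl
  apply hF T₂ hFT₂ Q₁.asIdeal Q₁.isPrime hQ₁I
  have h3 : (specInr Γ(S, V) Γ(X, U) T₂).base Q₁ = (νOf T T₂).base t := by
    rw [← hsnd, ← Scheme.Hom.comp_apply, hc₁2, Category.comp_id]
  exact congrArg PrimeSpectrum.asIdeal h3


/-- **Theorem A.** Closedness over `Spec T` follows from closedness over all finitely generated
subalgebras of `T`. -/
theorem isClosedMap_snd_of_forall_fg [QuasiCompact f]
    (H : ∀ T₂ : Subalgebra Γ(S, V) T, T₂.FG →
      IsClosedMap (pullback.snd f (gOf hV T T₂)).base) :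
    IsClosedMap (pullback.snd f (gTop hV T)).base := by
  classical
  intro Z hZ
  rw [← isOpen_compl_iff, isOpen_iff_mem_nhds]
  intro t ht
  have ht' : t ∉ (pullback.snd f (gTop hV T)).base '' Z := ht
  have hcomp : IsCompact ((f ⁻¹ᵁ V : X.Opens) : Set X) :=
    QuasiCompact.isCompact_preimage (f := f) _ V.2 hV.isCompact
  obtain ⟨s, hsfin, hs⟩ :=
    isCompact_and_isOpen_iff_finite_and_eq_biUnion_affineOpens.mp ⟨hcomp, (f ⁻¹ᵁ V).2⟩
  have hle : ∀ i ∈ s, (i : X.Opens) ≤ f ⁻¹ᵁ V := by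
    intro i hi x hx
    show x ∈ ((f ⁻¹ᵁ V : X.Opens) : Set X)
    rw [hs]; exact Set.mem_biUnion hi hx
  have hchart : ∀ i : s, ∃ F : Finset T, ∀ T₂ : Subalgebra Γ(S, V) T, (F : Set T) ⊆ T₂ →
      ∀ z₁ : ↥(pullback f (gOf hV T T₂)), z₁ ∈ closure ((ΨOf f hV T T₂).base '' Z) →
        (pullback.fst f (gOf hV T T₂)).base z₁ ∈ (i.1 : X.Opens) →
        (pullback.snd f (gOf hV T T₂)).base z₁ ≠ (νOf T T₂).base t :=
    fun i => exists_finset_chart f hV T i.1.2 (hle i.1 i.2) Z hZ t ht'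
  choose F hF using hchart
  haveI : Fintype s := hsfin.fintype
  set T₁ : Subalgebra Γ(S, V) T :=
    Algebra.adjoin Γ(S, V) ((Finset.univ.biUnion F : Finset T) : Set T) with hT₁
  have hT₁fg : T₁.FG := Subalgebra.fg_adjoin_finset _
  have hFT₁ : ∀ i : s, (F i : Set T) ⊆ T₁ := fun i x hx =>
    Algebra.subset_adjoin (by
      simp only [Finset.coe_biUnion, Finset.coe_univ, Set.mem_univ, Set.iUnion_true, Set.mem_iUnion]
      exact ⟨i, hx⟩)
  have hclosed := H T₁ hT₁fg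
  set Z₁ := closure ((ΨOf f hV T T₁).base '' Z) with hZ₁
  have hZ₁img : IsClosed ((pullback.snd f (gOf hV T T₁)).base '' Z₁) :=
    hclosed _ isClosed_closure
  have ht₁ : (νOf T T₁).base t ∉ (pullback.snd f (gOf hV T T₁)).base '' Z₁ := by
    rintro ⟨z₁, hz₁, hz₁t⟩
    have hfV : (pullback.fst f (gOf hV T T₁)).base z₁ ∈ ((f ⁻¹ᵁ V : X.Opens) : Set X) := by
      show f.base ((pullback.fst f (gOf hV T T₁)).base z₁) ∈ V
      rw [← Scheme.Hom.comp_apply, pullback.condition, Scheme.Hom.comp_apply,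
        Scheme.Hom.comp_apply]
      have : hV.fromSpec.base ((Spec.map (CommRingCat.ofHom (algebraMap Γ(S, V) T₁))).base
          ((pullback.snd f (gOf hV T T₁)).base z₁)) ∈ Set.range hV.fromSpec.base := ⟨_, rfl⟩
      rw [hV.range_fromSpec] at this
      exact this
    rw [hs] at hfV
    obtain ⟨i, hi, hzi⟩ := Set.mem_iUnion₂.mp hfV
    exact hF ⟨i, hi⟩ T₁ (hFT₁ ⟨i, hi⟩) z₁ hz₁ hzi hz₁t
  have hW : (νOf T T₁).base ⁻¹' ((pullback.snd f (gOf hV T T₁)).base '' Z₁)ᶜ ∈ nhds t :=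
    (hZ₁img.isOpen_compl.preimage (νOf T T₁).continuous).mem_nhds ht₁
  refine Filter.mem_of_superset hW ?_
  rintro t' ht' ⟨z, hzZ, rfl⟩
  apply ht'
  refine ⟨(ΨOf f hV T T₁).base z, subset_closure ⟨z, hzZ, rfl⟩, ?_⟩
  rw [← Scheme.Hom.comp_apply, ΨOf_snd, Scheme.Hom.comp_apply]

end TheoremA


section TheoremB

variable {X S : Scheme.{u}} (f : X ⟶ S) [QuasiCompact f]

open AffineSpace in
/-- Closedness over all affine spaces implies closedness over every affine scheme mapping into an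
affine open of the base. -/
theorem isClosedMap_snd_gTop
    (H : ∀ n : ℕ, IsClosedMap (pullback.snd f (𝔸(ULift.{u} (Fin n); S) ↘ S)).base)
    {V : S.Opens} (hV : IsAffineOpen V) (T : Type u) [CommRing T] [Algebra Γ(S, V) T] :
    IsClosedMap (pullback.snd f (gTop hV T)).base := by
  apply isClosedMap_snd_of_forall_fg
  intro T₂ hT₂
  haveI : Algebra.FiniteType Γ(S, V) T₂ := (Subalgebra.fg_iff_finiteType T₂).mp hT₂
  exact isClosedMap_snd_of_finiteType f H hV T₂

theorem isClosedMap_snd_congr {W : Scheme.{u}} (g₁ g₂ : W ⟶ S) (h : g₁ = g₂)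
    (h1 : IsClosedMap (pullback.snd f g₁).base) : IsClosedMap (pullback.snd f g₂).base := by
  subst h; exact h1

open AffineSpace in
/-- **Theorem B.** Closedness over all affine spaces implies closedness of every base change. -/
theorem isClosedMap_snd_of_affineSpace
    (H : ∀ n : ℕ, IsClosedMap (pullback.snd f (𝔸(ULift.{u} (Fin n); S) ↘ S)).base)
    {S' : Scheme.{u}} (g : S' ⟶ S) : IsClosedMap (pullback.snd f g).base := by
  intro Z hZ
  rw [← isOpen_compl_iff, isOpen_iff_mem_nhds]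
  intro t ht
  have ht' : t ∉ (pullback.snd f g).base '' Z := ht
  obtain ⟨_, ⟨V, hV, rfl⟩, htV, -⟩ := S.isBasis_affineOpens.exists_subset_of_mem_open
    (Set.mem_univ (g.base t)) isOpen_univ
  obtain ⟨_, ⟨V', hV', rfl⟩, htV', hV'V⟩ := S'.isBasis_affineOpens.exists_subset_of_mem_open
    (show t ∈ ((g ⁻¹ᵁ V : S'.Opens) : Set S') from htV) (g ⁻¹ᵁ V).2
  have eV' : V' ≤ g ⁻¹ᵁ V := hV'V
  letI algT : Algebra Γ(S, V) Γ(S', V') := (g.appLE V V' eV').hom.toAlgebra
  have e₂ : gTop hV Γ(S', V') = hV'.fromSpec ≫ g :=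
    IsAffineOpen.SpecMap_appLE_fromSpec g hV hV' eV'
  have hcl : IsClosedMap (pullback.snd f (hV'.fromSpec ≫ g)).base :=
    isClosedMap_snd_congr f _ _ e₂ (isClosedMap_snd_gTop f H hV Γ(S', V'))
  have sq := isPullback_liftComp f hV'.fromSpec g
  have himg := Scheme.image_preimage_eq_of_isPullback sq Z
  have hclosed : IsClosed (hV'.fromSpec.base ⁻¹' ((pullback.snd f g).base '' Z)) := by
    rw [← himg]
    exact hcl _ (hZ.preimage (liftComp f hV'.fromSpec g).continuous)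
  obtain ⟨t₀, rfl⟩ : t ∈ Set.range hV'.fromSpec.base := by
    rw [hV'.range_fromSpec]; exact htV'
  have hopen : IsOpen (hV'.fromSpec.base ''
      (hV'.fromSpec.base ⁻¹' ((pullback.snd f g).base '' Z))ᶜ) :=
    hV'.fromSpec.isOpenEmbedding.isOpenMap _ hclosed.isOpen_compl
  refine Filter.mem_of_superset (hopen.mem_nhds ⟨t₀, ht', rfl⟩) ?_
  rintro _ ⟨w₀, hw₀, rfl⟩
  exact hw₀

open AffineSpace in
/-- Universal closedness can be tested on affine spaces over the base (Stacks 05JX). -/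
theorem universallyClosed_of_affineSpace
    (H : ∀ n : ℕ, IsClosedMap (pullback.snd f (𝔸(ULift.{u} (Fin n); S) ↘ S)).base) :
    UniversallyClosed f := by
  refine ⟨?_⟩
  intro X' Y' i₁ i₂ f' hsq
  have h := hsq.flip
  have e : f' = h.isoPullback.hom ≫ pullback.snd f i₂ := h.isoPullback_hom_snd.symm
  show IsClosedMap f'.base
  rw [e, Scheme.Hom.comp_base, TopCat.coe_comp]
  exact (isClosedMap_snd_of_affineSpace f H i₂).comp
    (Scheme.homeoOfIso h.isoPullback).isClosedMap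

end TheoremB

end Groth.Agent.Lib.Helper12.UnivClosedFT
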