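import Mathlib
import Groth.Prelude.Def_Found
import Groth.Agent.Lib.Helper12.RefVal8
import Groth.Agent.Lib.Helper12.UnivClosedFT2

/-!
# Helper library (helper12): the refined valuative criterion for universal closedness
-/

set_option autoImplicit false
set_option linter.style.haveILetI false
universe u
open CategoryTheory CategoryTheory.Limits AlgebraicGeometry TopologicalSpace IsLocalRing Topology

namespace Groth.Agent.Lib.Helper12.RefVal

open Groth.Agent.Lib.Helper12

theorem valuationRing_of_normal_dim_one (A : Type*) [CommRing A] [IsDomain A] [IsLocalRing A]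
    [IsNoetherianRing A] [IsIntegrallyClosed A] (hdim : ringKrullDim A = 1) : ValuationRing A := by
  have h := (tfae_of_isNoetherianRing_of_isLocalRing_of_isDomain A).out 3 1
  refine h.1 ⟨inferInstance, fun P hP hP' => ?_⟩
  have : P.IsMaximal := Ring.krullDimLE_one_iff_of_noZeroDivisors.mp
    (Ring.krullDimLE_iff.mpr (by simp [hdim])) P hP hP'
  exact IsLocalRing.eq_maximalIdeal this

/-- The curve lifting property is stable under base change. -/
theorem CurveLift.baseChange {S X Y Y' : Scheme.{u}} (q : Y ⟶ S) (f : X ⟶ Y) (a : Y' ⟶ Y)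
    (H : CurveLift q f) : CurveLift (a ≫ q) (pullback.snd f a) := by
  intro C r _ _ _ hnorm c hc hdim U hU u' g' hg' hu' k hk
  obtain ⟨l, hl₁, hl₂⟩ := H C r hnorm c hc hdim U hU (u' ≫ pullback.fst f a) (g' ≫ a)
    (by rw [Category.assoc]; exact hg')
    (by rw [Category.assoc, pullback.condition, ← Category.assoc, hu', Category.assoc]) k hk
  refine ⟨pullback.lift l (C.fromSpecStalk c ≫ g') (by rw [hl₁, Category.assoc]),
    pullback.lift_snd _ _ _, ?_⟩
  apply pullback.hom_ext
  · rw [Category.assoc, pullback.lift_fst, hl₂, Category.assoc]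
  · rw [Category.assoc, pullback.lift_snd, Category.assoc, hu']
    have h := congrArg (fun m => m ≫ g') hk
    simp only [Category.assoc] at h
    exact h.symm

open AffineSpace in
set_option maxHeartbeats 1000000 in
theorem universallyClosed_iff (S : Scheme.{u}) (hS : ∀ W : S.affineOpens, CAlg.IsNagata Γ(S, W))
    {X Y : Scheme.{u}} (p : X ⟶ S) (q : Y ⟶ S) [LocallyOfFiniteType p] [LocallyOfFiniteType q]
    (f : X ⟶ Y) (hf : f ≫ q = p) [QuasiCompact f] :
    UniversallyClosed f ↔ CurveLift q f := by
  haveI : IsLocallyNoetherian S := ⟨fun W => (hS W).1⟩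
  haveI : LocallyOfFiniteType (f ≫ q) := by rw [hf]; infer_instance
  haveI : LocallyOfFiniteType f := locallyOfFiniteType_of_comp f q
  constructor
  · intro huc C r _ _ _ hnorm c hc hdim U hU u g hg hu k hk
    haveI : IsLocallyNoetherian C := LocallyOfFiniteType.isLocallyNoetherian r
    haveI : IsIntegrallyClosed (C.presheaf.stalk c) := hnorm c
    haveI : ValuationRing (C.presheaf.stalk c) := valuationRing_of_normal_dim_one _ hdim
    have hE : ValuativeCriterion.Existence f := by
      have h1 := huc
      rw [UniversallyClosed.eq_valuativeCriterion] at h1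
      exact h1.1
    haveI hdom : IsDomain (C.presheaf.stalk c) := inferInstance
    have hsq : CommSq (k ≫ u) (Spec.map (CommRingCat.ofHom (algebraMap (C.presheaf.stalk c)
        (FractionRing (C.presheaf.stalk c))))) f (C.fromSpecStalk c ≫ g) := ⟨by
      rw [Category.assoc, hu]
      have h := congrArg (fun m => m ≫ g) hk
      simp only [Category.assoc] at h
      exact h⟩
    have hlift := hE (@ValuativeCommSq.mk X Y f (C.presheaf.stalk c) _ hdom _
      (FractionRing (C.presheaf.stalk c)) _ _ _ (k ≫ u) (C.fromSpecStalk c ≫ g) hsq)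
    obtain ⟨⟨l⟩⟩ := hlift
    exact ⟨l.l, l.fac_right, l.fac_left⟩
  · intro H
    apply UnivClosedFT.universallyClosed_of_affineSpace f
    intro n
    have H' := CurveLift.baseChange q f (𝔸(ULift.{u} (Fin n); Y) ↘ Y) H
    have hsp := specializingMap_of_curveLift S hS
      (pullback.snd f (𝔸(ULift.{u} (Fin n); Y) ↘ Y) ≫ (𝔸(ULift.{u} (Fin n); Y) ↘ Y) ≫ q)
      ((𝔸(ULift.{u} (Fin n); Y) ↘ Y) ≫ q) (pullback.snd f (𝔸(ULift.{u} (Fin n); Y) ↘ Y)) rfl H'
    exact (isClosedMap_iff_specializingMap _).2 hsp

end Groth.Agent.Lib.Helper12.RefVal
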