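import Mathlib
import Groth.Prelude.Def_Found
import Groth.Agent.Lib.Helper12.RefVal9

/-!
# Helper library (helper12): the refined valuative criterion for separatedness
-/

set_option autoImplicit false
set_option linter.style.haveILetI false
universe u
open CategoryTheory CategoryTheory.Limits AlgebraicGeometry TopologicalSpace IsLocalRing Topology

namespace Groth.Agent.Lib.Helper12.RefVal

open Groth.Agent.Lib.Helper12

/-- The curve lifting hypothesis of the refined valuative criterion (uniqueness part). -/
def CurveUnique {S X Y : Scheme.{u}} (q : Y ⟶ S) (f : X ⟶ Y) : Prop :=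
  ∀ (C : Scheme.{u}) (r : C ⟶ S) [IsIntegral C] [LocallyOfFiniteType r] [QuasiCompact r],
    (∀ x : C, IsIntegrallyClosed (C.presheaf.stalk x)) →
    ∀ (c : C), IsClosed ({c} : Set C) → ringKrullDim (C.presheaf.stalk c) = 1 →
    ∀ (U : C.Opens), (U : Set C) = {c}ᶜ →
    ∀ (u : (U : Scheme.{u}) ⟶ X) (g : C ⟶ Y), g ≫ q = r → u ≫ f = U.ι ≫ g →
    ∀ (k : Spec (CommRingCat.of (FractionRing (C.presheaf.stalk c))) ⟶ (U : Scheme.{u})),
      k ≫ U.ι = Spec.map (CommRingCat.ofHom (algebraMap (C.presheaf.stalk c)
        (FractionRing (C.presheaf.stalk c)))) ≫ C.fromSpecStalk c →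
    ∀ l l' : Spec (C.presheaf.stalk c) ⟶ X,
      l ≫ f = C.fromSpecStalk c ≫ g →
      Spec.map (CommRingCat.ofHom (algebraMap (C.presheaf.stalk c) (FractionRing (C.presheaf.stalk c)))) ≫ l =
        k ≫ u →
      l' ≫ f = C.fromSpecStalk c ≫ g →
      Spec.map (CommRingCat.ofHom (algebraMap (C.presheaf.stalk c) (FractionRing (C.presheaf.stalk c)))) ≫ l' =
        k ≫ u → l = l'

/-- Uniqueness of curve lifts for `f` gives existence of curve lifts for the diagonal of `f`. -/
theorem CurveLift.diagonal_of_curveUnique {S X Y : Scheme.{u}} (p : X ⟶ S) (q : Y ⟶ S)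
    (f : X ⟶ Y) (hf : f ≫ q = p) (H : CurveUnique q f) :
    CurveLift (pullback.fst f f ≫ p) (pullback.diagonal f) := by
  intro C r _ _ _ hnorm c hc hdim U hU u g hg hu k hk
  have hu₁ : U.ι ≫ g ≫ pullback.fst f f = u := by
    rw [← Category.assoc, ← hu, Category.assoc, pullback.diagonal_fst, Category.comp_id]
  have hu₂ : U.ι ≫ g ≫ pullback.snd f f = u := by
    rw [← Category.assoc, ← hu, Category.assoc, pullback.diagonal_snd, Category.comp_id]
  have hk₁ : Spec.map (CommRingCat.ofHom (algebraMap (C.presheaf.stalk c)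
      (FractionRing (C.presheaf.stalk c)))) ≫ C.fromSpecStalk c ≫ g ≫ pullback.fst f f = k ≫ u := by
    rw [← hu₁, ← Category.assoc, ← hk, Category.assoc]
  have hk₂ : Spec.map (CommRingCat.ofHom (algebraMap (C.presheaf.stalk c)
      (FractionRing (C.presheaf.stalk c)))) ≫ C.fromSpecStalk c ≫ g ≫ pullback.snd f f = k ≫ u := by
    rw [← hu₂, ← Category.assoc, ← hk, Category.assoc]
  have hl : C.fromSpecStalk c ≫ g ≫ pullback.fst f f = C.fromSpecStalk c ≫ g ≫ pullback.snd f f :=
    H C r hnorm c hc hdim U hU u (g ≫ pullback.fst f f ≫ f)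
      (by rw [Category.assoc, Category.assoc, hf]; exact hg)
      (by rw [← hu₁]; simp only [Category.assoc])
      k hk _ _ (by simp only [Category.assoc]) hk₁
      (by simp only [Category.assoc, pullback.condition]) hk₂
  refine ⟨C.fromSpecStalk c ≫ g ≫ pullback.fst f f, ?_, hk₁⟩
  apply pullback.hom_ext
  · simp only [Category.assoc, pullback.diagonal_fst, Category.comp_id]
  · simp only [Category.assoc, pullback.diagonal_snd, Category.comp_id]
    exact hl

set_option maxHeartbeats 1000000 in
theorem isSeparated_iff (S : Scheme.{u}) (hS : ∀ W : S.affineOpens, CAlg.IsNagata Γ(S, W))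
    {X Y : Scheme.{u}} (p : X ⟶ S) (q : Y ⟶ S) [LocallyOfFiniteType p] [LocallyOfFiniteType q]
    (f : X ⟶ Y) (hf : f ≫ q = p) :
    IsSeparated f ↔ CurveUnique q f := by
  haveI : IsLocallyNoetherian S := ⟨fun W => (hS W).1⟩
  haveI : IsLocallyNoetherian X := LocallyOfFiniteType.isLocallyNoetherian p
  haveI : LocallyOfFiniteType (f ≫ q) := by rw [hf]; infer_instance
  haveI : LocallyOfFiniteType f := locallyOfFiniteType_of_comp f q
  constructor
  · intro hsep C r _ _ _ hnorm c hc hdim U hU u g hg hu k hk l l' h1 h2 h3 h4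
    haveI : IsLocallyNoetherian C := LocallyOfFiniteType.isLocallyNoetherian r
    haveI : IsIntegrallyClosed (C.presheaf.stalk c) := hnorm c
    haveI : ValuationRing (C.presheaf.stalk c) := valuationRing_of_normal_dim_one _ hdim
    haveI hdom : IsDomain (C.presheaf.stalk c) := inferInstance
    have hsq : CommSq (k ≫ u) (Spec.map (CommRingCat.ofHom (algebraMap (C.presheaf.stalk c)
        (FractionRing (C.presheaf.stalk c))))) f (C.fromSpecStalk c ≫ g) := ⟨by
      rw [Category.assoc, hu]
      have h := congrArg (fun m => m ≫ g) hk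
      simp only [Category.assoc] at h
      exact h⟩
    have hsub := IsSeparated.valuativeCriterion f (@ValuativeCommSq.mk X Y f (C.presheaf.stalk c)
      _ hdom _ (FractionRing (C.presheaf.stalk c)) _ _ _ (k ≫ u) (C.fromSpecStalk c ≫ g) hsq)
    have := hsub.elim ⟨l, h2, h1⟩ ⟨l', h4, h3⟩
    exact congrArg CommSq.LiftStruct.l this
  · intro H
    haveI : QuasiSeparated f := inferInstance
    haveI : QuasiCompact (pullback.diagonal f) := inferInstance
    have hsp := specializingMap_of_curveLift S hS p (pullback.fst f f ≫ p) (pullback.diagonal f)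
      (by rw [← Category.assoc, pullback.diagonal_fst, Category.id_comp])
      (CurveLift.diagonal_of_curveUnique p q f hf H)
    have hcl : IsClosedMap (pullback.diagonal f) := (isClosedMap_iff_specializingMap _).2 hsp
    haveI : IsClosedImmersion (pullback.diagonal f) :=
      IsClosedImmersion.of_isPreimmersion _ hcl.isClosed_range
    exact ⟨inferInstance⟩

end Groth.Agent.Lib.Helper12.RefVal
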