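import Mathlib
import Groth.Agent.Lib.Helper12.RAssGenAlg

/-!
# Spreading out an associated prime of the generic fibre: the domain case (helper12)
-/

set_option autoImplicit false
set_option linter.style.haveILetI false
universe u

namespace Groth.Agent.Lib.Helper12.RelAssNear

open Groth.Agent.Lib.Helper28.GenFree nonZeroDivisors TensorProduct

section Purity

variable {A : Type u} [CommRing A] {M : Type u} [AddCommGroup M] [Module A M]

/-- if the cokernel of `N ⊆ M` becomes flat after inverting `g`, then `N ∩ qM ⊆ qN` up to a power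
of `g`. -/
theorem exists_pow_smul_mem_smul_of_flat (N : Submodule A M) (g : A)
    (hflat : Module.Flat A (LocalizedModule (Submonoid.powers g) (M ⧸ N)))
    (q : Ideal A) (x : M) (hxN : x ∈ N) (hxq : x ∈ q • (⊤ : Submodule A M)) :
    ∃ n : ℕ, g ^ n • x ∈ q • N := by
  classical
  have hx' : x ∈ q • Submodule.span A (Set.range (id : M → M)) := by
    rwa [Set.range_id, Submodule.span_univ]
  obtain ⟨a, ha, rfl⟩ := (Submodule.mem_ideal_smul_span_iff_exists_sum q (id : M → M) x).1 hx'
  set ℓ := LocalizedModule.mkLinearMap (Submonoid.powers g) (M ⧸ N) with hℓ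
  have hsum : (a.sum fun i c => c • id i) = ∑ i : a.support, a i.1 • i.1 := by
    rw [Finsupp.sum, ← Finset.sum_coe_sort a.support (fun i => a i • id i)]
    rfl
  have h0 : ∑ i : a.support, a i.1 • ℓ (N.mkQ i.1) = 0 := by
    have h1 : ∑ i : a.support, a i.1 • ℓ (N.mkQ i.1) =
        ℓ (N.mkQ (∑ i : a.support, a i.1 • i.1)) := by
      rw [map_sum, map_sum]
      refine Finset.sum_congr rfl fun i _ => ?_
      rw [map_smul, map_smul]
    rw [h1, ← hsum]
    have : N.mkQ (a.sum fun i c => c • id i) = 0 := (Submodule.Quotient.mk_eq_zero N).2 hxN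
    rw [this, map_zero]
  obtain ⟨k, b, y, hxy0, hb0⟩ := Module.Flat.isTrivialRelation_of_sum_smul_eq_zero h0
  have hxy : ∀ i : a.support, ℓ (N.mkQ i.1) = ∑ j, b i j • y j := hxy0
  have hb : ∀ j, ∑ i : a.support, a i.1 * b i j = 0 := hb0
  -- clear the denominators of the `y j`
  have hy : ∀ j : Fin k, ∃ (c : M) (e : ℕ), g ^ e • y j = ℓ (N.mkQ c) := by
    intro j
    obtain ⟨⟨cq, ⟨_, e, rfl⟩⟩, hc⟩ := IsLocalizedModule.surj (Submonoid.powers g) ℓ (y j)
    obtain ⟨c, rfl⟩ := N.mkQ_surjective cq
    exact ⟨c, e, hc⟩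
  choose c e hce using hy
  set E := ∑ j, e j with hE
  have hce' : ∀ j, g ^ E • y j = ℓ (N.mkQ (g ^ (E - e j) • c j)) := by
    intro j
    have hle : e j ≤ E := Finset.single_le_sum (fun _ _ => Nat.zero_le _) (Finset.mem_univ j)
    have : g ^ E = g ^ (E - e j) * g ^ e j := by rw [← pow_add, Nat.sub_add_cancel hle]
    rw [this, mul_smul, hce j, map_smul, map_smul]
  have hi : ∀ i : a.support, ∃ e' : ℕ,
      g ^ e' • (g ^ E • i.1 - ∑ j, b i j • (g ^ (E - e j) • c j)) ∈ N := by
    intro i
    have h1 : ℓ (N.mkQ (g ^ E • i.1 - ∑ j, b i j • (g ^ (E - e j) • c j))) = 0 := by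
      rw [map_sub, map_sub, map_smul, map_smul, hxy i, Finset.smul_sum, map_sum, map_sum,
        sub_eq_zero]
      refine Finset.sum_congr rfl fun j _ => ?_
      rw [map_smul, map_smul, ← hce' j, smul_comm]
    rw [IsLocalizedModule.eq_zero_iff (Submonoid.powers g)] at h1
    obtain ⟨⟨_, e', rfl⟩, he'⟩ := h1
    refine ⟨e', ?_⟩
    rw [Submonoid.smul_def, ← map_smul] at he'
    exact (Submodule.Quotient.mk_eq_zero N).1 he'
  choose e' he' using hi
  set E' := ∑ i, e' i with hE'
  have he'' : ∀ i : a.support,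
      g ^ E' • (g ^ E • i.1 - ∑ j, b i j • (g ^ (E - e j) • c j)) ∈ N := by
    intro i
    have hle : e' i ≤ E' := Finset.single_le_sum (fun _ _ => Nat.zero_le _) (Finset.mem_univ i)
    have : g ^ E' = g ^ (E' - e' i) * g ^ e' i := by rw [← pow_add, Nat.sub_add_cancel hle]
    rw [this, mul_smul]
    exact N.smul_mem _ (he' i)
  refine ⟨E' + E, ?_⟩
  have hkey : g ^ (E' + E) • (a.sum fun i c => c • id i) =
      ∑ i : a.support, a i.1 •
        (g ^ E' • (g ^ E • i.1 - ∑ j, b i j • (g ^ (E - e j) • c j))) := by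
    rw [hsum, Finset.smul_sum]
    have h2 : ∑ i : a.support, a i.1 •
        (g ^ E' • (g ^ E • i.1 - ∑ j, b i j • (g ^ (E - e j) • c j))) =
        ∑ i : a.support, g ^ (E' + E) • (a i.1 • i.1) -
          g ^ E' • ∑ j, (∑ i : a.support, a i.1 * b i j) • (g ^ (E - e j) • c j) := by
      simp only [smul_sub, Finset.smul_sum, Finset.sum_sub_distrib, Finset.sum_smul]
      congr 1
      · refine Finset.sum_congr rfl fun i _ => ?_
        rw [pow_add, mul_smul, smul_comm (a i.1) (g ^ E'), smul_comm (a i.1) (g ^ E)]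
      · rw [Finset.sum_comm]
        refine Finset.sum_congr rfl fun j _ => Finset.sum_congr rfl fun i _ => ?_
        rw [smul_comm (a i.1) (g ^ E'), mul_smul]
    rw [h2]
    simp only [hb, zero_smul, Finset.sum_const_zero, smul_zero, sub_zero]
  rw [hkey]
  exact Submodule.sum_mem _ fun i _ => Submodule.smul_mem_smul (ha i.1) (he'' i)

end Purity

section Layer1

/-- flatness of the localization from generic freeness -/
theorem flat_localized_of_freeAt {A : Type u} [CommRing A] {C : Type u} [AddCommGroup C]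
    [Module A C] (g : A) (h : FreeAt g C) :
    Module.Flat A (LocalizedModule (Submonoid.powers g) C) := by
  haveI h2 : IsLocalizedModule (Submonoid.powers g)
      (TensorProduct.mk A (Localization.Away g) C 1) :=
    (isLocalizedModule_iff_isBaseChange (Submonoid.powers g) (Localization.Away g) _).2
      (TensorProduct.isBaseChange A C (Localization.Away g))
  haveI : Module.Free (Localization.Away g) (Localization.Away g ⊗[A] C) := h
  haveI : Module.Flat A (Localization.Away g) := IsLocalization.flat _ (Submonoid.powers g)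
  haveI : Module.Flat A (Localization.Away g ⊗[A] C) :=
    Module.Flat.trans A (Localization.Away g) _
  exact Module.Flat.of_linearEquiv
    (IsLocalizedModule.linearEquiv (Submonoid.powers g)
      (LocalizedModule.mkLinearMap (Submonoid.powers g) C)
      (TensorProduct.mk A (Localization.Away g) C 1))

variable {A B : Type u} [CommRing A] [IsDomain A] [CommRing B] [Algebra A B]
  [Algebra.FiniteType A B]
  {M : Type u} [AddCommGroup M] [Module B M] [Module A M] [IsScalarTower A B M]
  [Module.Finite B M]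

/-- **The domain case.** A witness `m` of the fact that `P` (lying over `0`) is associated to the
generic fibre of `M` spreads out over a principal open set. -/
theorem layer1 (P : Ideal B) [P.IsPrime] (hP0 : P.comap (algebraMap A B) = ⊥) (m : M)
    (H1 : ∀ s : B, s ∉ P → s • m ≠ 0)
    (H2 : ∀ b ∈ P, ∃ s : B, s ∉ P ∧ (s * b) • m = 0) :
    ∃ h : B, h ∉ P ∧
      (∀ i ∈ P, ∃ n : ℕ, (h ^ n * i) • m = 0) ∧
      (∀ (q : Ideal A) (s : B), s • m ∈ (q.map (algebraMap A B)) • (⊤ : Submodule B M) →
        ∃ n : ℕ, h ^ n * s ∈ P ⊔ q.map (algebraMap A B)) := by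
  classical
  obtain ⟨g, hg, T, hTP, hT⟩ := RAssGenAlg.exists_uniform_fg (A := A) (B := B) P
  have hgP : ∀ a : A, a ≠ 0 → algebraMap A B a ∉ P := by
    intro a ha h
    have h1 : a ∈ P.comap (algebraMap A B) := h
    rw [hP0] at h1
    exact ha h1
  have hkill : ∀ t ∈ T, ∃ s : B, s ∉ P ∧ (s * t) • m = 0 := fun t ht => H2 t (hTP ht)
  choose! σ hσP hσ using hkill
  set S0 : B := ∏ t ∈ T, σ t with hS0
  have hS0P : S0 ∉ P := by
    intro h
    obtain ⟨t, ht, htP⟩ := (Ideal.IsPrime.prod_mem_iff).1 h
    exact hσP t ht htP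
  have hspan : ∀ y ∈ Ideal.span (T : Set B), (S0 * y) • m = 0 := by
    intro y hy
    induction hy using Submodule.span_induction with
    | mem t ht =>
      have h1 : S0 = (∏ t' ∈ T.erase t, σ t') * σ t := by
        rw [hS0, Finset.prod_erase_mul _ _ ht]
      rw [h1, mul_assoc, mul_smul, hσ t ht, smul_zero]
    | zero => simp
    | add x y _ _ hx hy => rw [mul_add, add_smul, hx, hy, add_zero]
    | smul r x _ hx => rw [smul_eq_mul, mul_left_comm, mul_smul, hx, smul_zero]
  obtain ⟨g₂, hg₂, hfree⟩ :=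
    genFree_finiteType (R := A) (S := B) (M ⧸ Submodule.span B {m})
  set h₁ : B := S0 * algebraMap A B g with hh₁
  set h : B := h₁ * algebraMap A B g₂ with hh
  have hhP : h ∉ P := by
    intro hmem
    rcases (Ideal.IsPrime.mul_mem_iff_mem_or_mem (I := P) inferInstance).1 hmem with h1 | h1
    · rcases (Ideal.IsPrime.mul_mem_iff_mem_or_mem (I := P) inferInstance).1 h1 with h2 | h2
      · exact hS0P h2
      · exact hgP g hg h2
    · exact hgP g₂ hg₂ h1
  refine ⟨h, hhP, ?_, ?_⟩
  · intro i hi
    obtain ⟨n, hn⟩ := hT g dvd_rfl i hi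
    refine ⟨n + 1, ?_⟩
    have h3 : h ^ (n + 1) * i =
        (S0 ^ n * algebraMap A B g * algebraMap A B g₂ ^ (n + 1)) * (S0 * (g ^ n • i)) := by
      rw [Algebra.smul_def, map_pow, hh, hh₁]
      ring
    rw [h3, mul_smul, hspan _ hn, smul_zero]
  · intro q s hs
    set N : Submodule A M := (Submodule.span B {m}).restrictScalars A with hN
    have hfree' : FreeAt g₂ (M ⧸ N) :=
      hfree.of_linearEquiv (Submodule.Quotient.restrictScalarsEquiv A (Submodule.span B {m})).symm
    have hflat := flat_localized_of_freeAt g₂ hfree'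
    have hsq : s • m ∈ q • (⊤ : Submodule A M) := by
      have h2 := Ideal.smul_restrictScalars (S := B) q (⊤ : Submodule B M)
      rw [Submodule.restrictScalars_top] at h2
      rw [← h2]
      exact hs
    have hsN : s • m ∈ N := Submodule.smul_mem _ s (Submodule.mem_span_singleton_self m)
    obtain ⟨n, hn⟩ := exists_pow_smul_mem_smul_of_flat N g₂ hflat q (s • m) hsN hsq
    have hqN : ∀ z ∈ q • N, ∃ c ∈ q.map (algebraMap A B), z = c • m := by
      intro z hz
      refine Submodule.smul_induction_on hz ?_ ?_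
      · intro a ha n' hn'
        obtain ⟨β, rfl⟩ := Submodule.mem_span_singleton.1 hn'
        refine ⟨algebraMap A B a * β, Ideal.mul_mem_right _ _ (Ideal.mem_map_of_mem _ ha), ?_⟩
        rw [mul_smul, algebraMap_smul]
      · rintro x y ⟨c₁, hc₁, rfl⟩ ⟨c₂, hc₂, rfl⟩
        exact ⟨c₁ + c₂, add_mem hc₁ hc₂, (add_smul _ _ _).symm⟩
    obtain ⟨c, hc, hceq⟩ := hqN _ hn
    have h4 : (algebraMap A B g₂ ^ n * s - c) • m = 0 := by
      rw [sub_smul, ← hceq, mul_smul, ← map_pow, algebraMap_smul, sub_self]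
    have h5 : algebraMap A B g₂ ^ n * s - c ∈ P := by
      by_contra hcon
      exact H1 _ hcon h4
    refine ⟨n, ?_⟩
    have h6 : h ^ n * s = h₁ ^ n * ((algebraMap A B g₂ ^ n * s - c) + c) := by
      rw [hh]
      ring
    rw [h6]
    exact Ideal.mul_mem_left _ _
      (Submodule.add_mem_sup h5 hc)

end Layer1

end Groth.Agent.Lib.Helper12.RelAssNear
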