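import Mathlib
import Groth.Agent.Lib.Helper20.RD2
import Groth.Agent.Lib.Helper14.CMMod.Fib
import Groth.Agent.Lib.Helper14.CMMod.Transfer
import Groth.Agent.Lib.Helper4.Depth

/-!
# Fibre depth zero in terms of witnesses (helper12)

`A → B` of finite type, `M` a finite `B`-module, `Q` a prime of `B` over `q`.  The fibre depth of
`M` at `Q` is zero iff there is `m ∈ M` whose image in `M_Q / q M_Q` is nonzero and killed by `Q`.
-/

set_option autoImplicit false
set_option linter.style.haveILetI false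
set_option linter.unusedSectionVars false
universe u

open IsLocalRing

namespace Groth.Agent.Lib.Helper12.RelAssNear

open Groth.Agent.Lib.Helper20.RD Groth.Agent.Lib.Helper14.CMMod

variable {A B : Type u} [CommRing A] [CommRing B] [Algebra A B]
  {M : Type u} [AddCommGroup M] [Module B M] [Module A M] [IsScalarTower A B M]
  (Q : Ideal B) [Q.IsPrime]

local notation "LQ" => Localization.AtPrime Q
local notation "WQ" => LocalizedModule (Ideal.primeCompl Q) M
local notation "K1" => Ideal.map (algebraMap A (Localization.AtPrime Q))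
  (Ideal.comap (algebraMap A B) Q)
local notation "qB" => Ideal.map (algebraMap A B) (Ideal.comap (algebraMap A B) Q)

/-- the fibre submodule of the localization is the localization of the fibre submodule. -/
theorem K1_smul_top_eq :
    K1 • (⊤ : Submodule LQ WQ) =
      Submodule.localized' LQ Q.primeCompl (LocalizedModule.mkLinearMap Q.primeCompl M)
        (qB • (⊤ : Submodule B M)) := by
  rw [Submodule.localized'_smul, Submodule.localized'_top, Ideal.localized'_eq_map,
    Ideal.map_map, ← IsScalarTower.algebraMap_eq]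

/-- membership of `m / 1` in the fibre submodule. -/
theorem mk_one_mem_iff (x : M) :
    LocalizedModule.mk x (1 : Q.primeCompl) ∈ K1 • (⊤ : Submodule LQ WQ) ↔
      ∃ s : B, s ∉ Q ∧ s • x ∈ qB • (⊤ : Submodule B M) := by
  rw [K1_smul_top_eq, Submodule.mem_localized']
  constructor
  · rintro ⟨n, hn, s, hns⟩
    rw [← IsLocalizedModule.mk_eq_mk', LocalizedModule.mk_eq] at hns
    obtain ⟨u, hu⟩ := hns
    refine ⟨(u : B) * (s : B), (u * s).2, ?_⟩
    have h1 : ((u : B) * (s : B)) • x = (u : B) • n := by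
      have := hu
      simp only [one_smul, Submonoid.smul_def] at this
      rw [mul_smul]
      exact this.symm
    rw [h1]
    exact Submodule.smul_mem _ _ hn
  · rintro ⟨s, hs, hsx⟩
    refine ⟨s • x, hsx, ⟨s, hs⟩, ?_⟩
    rw [← IsLocalizedModule.mk_eq_mk', LocalizedModule.mk_eq]
    exact ⟨1, by simp [Submonoid.smul_def]⟩

/-- membership of `m / s` in the fibre submodule. -/
theorem mk_mem_iff (x : M) (s : Q.primeCompl) :
    LocalizedModule.mk x s ∈ K1 • (⊤ : Submodule LQ WQ) ↔
      LocalizedModule.mk x (1 : Q.primeCompl) ∈ K1 • (⊤ : Submodule LQ WQ) := by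
  have h1 : LocalizedModule.mk x (1 : Q.primeCompl) =
      algebraMap B LQ (s : B) • LocalizedModule.mk x s := by
    rw [algebraMap_smul, LocalizedModule.smul'_mk, LocalizedModule.mk_eq]
    exact ⟨1, by simp [Submonoid.smul_def]⟩
  have h2 : LocalizedModule.mk x s =
      (IsLocalization.mk' LQ (1 : B) s) • LocalizedModule.mk x (1 : Q.primeCompl) := by
    rw [h1, smul_smul, IsLocalization.mk'_spec, map_one, one_smul]
  constructor
  · intro h
    rw [h1]
    exact Submodule.smul_mem _ _ h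
  · intro h
    rw [h2]
    exact Submodule.smul_mem _ _ h

section Depth

variable [Algebra.FiniteType A B] [Module.Finite B M]

theorem quot_smul_mk (l : LQ) (w : WQ) :
    (algebraMap LQ (LQ ⧸ K1) l) •
      (Submodule.Quotient.mk w : WQ ⧸ K1 • (⊤ : Submodule LQ WQ)) =
      Submodule.Quotient.mk (l • w) := rfl

/-- a witness of fibre depth zero. -/
theorem exists_witness_of_fdepth_eq_zero (h : fdepth A B M Q = 0) :
    ∃ m : M, (∀ s : B, s ∉ Q → s • m ∉ qB • (⊤ : Submodule B M)) ∧
      (∀ b ∈ Q, ∃ s : B, s ∉ Q ∧ (s * b) • m ∈ qB • (⊤ : Submodule B M)) := by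
  haveI lL : IsLocalRing (LQ ⧸ K1) := isLocalRing_fibLocRing A B Q
  haveI nL : IsNoetherianRing (LQ ⧸ K1) := isNoetherianRing_fibLocRing A B Q
  have hsurj : Function.Surjective (algebraMap LQ (LQ ⧸ K1)) := Ideal.Quotient.mk_surjective
  haveI : Module.Finite (LQ ⧸ K1) (WQ ⧸ K1 • (⊤ : Submodule LQ WQ)) :=
    Module.Finite.of_restrictScalars_finite LQ _ _
  unfold fdepth at h
  rw [depth_eq_of_surjective hsurj (WQ ⧸ K1 • (⊤ : Submodule LQ WQ)),
    Groth.Agent.Lib.Helper4.depth_eq_zero_iff_maximalIdeal_mem_associatedPrimes] at h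
  obtain ⟨-, w, hw⟩ := (isAssociatedPrime_iff).1 h
  obtain ⟨w₀, rfl⟩ := Submodule.Quotient.mk_surjective _ w
  induction w₀ using LocalizedModule.induction_on with
  | h m s =>
    refine ⟨m, ?_, ?_⟩
    · intro s' hs' hmem
      have h1 : LocalizedModule.mk m s ∈ K1 • (⊤ : Submodule LQ WQ) :=
        (mk_mem_iff Q m s).2 ((mk_one_mem_iff Q m).2 ⟨s', hs', hmem⟩)
      have h2 : (Submodule.Quotient.mk (LocalizedModule.mk m s) :
          WQ ⧸ K1 • (⊤ : Submodule LQ WQ)) = 0 := (Submodule.Quotient.mk_eq_zero _).2 h1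
      have h3 : (1 : LQ ⧸ K1) ∈ maximalIdeal (LQ ⧸ K1) := by
        rw [hw, Submodule.mem_colon_singleton, h2, smul_zero]
        exact Submodule.zero_mem _
      exact (maximalIdeal.isMaximal _).ne_top ((Ideal.eq_top_iff_one _).2 h3)
    · intro b hb
      have hbm : algebraMap LQ (LQ ⧸ K1) (algebraMap B LQ b) ∈ maximalIdeal (LQ ⧸ K1) := by
        rw [mem_maximalIdeal_of_surjective hsurj]
        exact (IsLocalization.AtPrime.to_map_mem_maximal_iff LQ Q b).2 hb
      rw [hw, Submodule.mem_colon_singleton, Submodule.mem_bot, quot_smul_mk,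
        Submodule.Quotient.mk_eq_zero, algebraMap_smul, LocalizedModule.smul'_mk] at hbm
      obtain ⟨s', hs', hmem⟩ := (mk_one_mem_iff Q (b • m)).1 ((mk_mem_iff Q (b • m) s).1 hbm)
      exact ⟨s', hs', by rwa [mul_smul]⟩

/-- fibre depth zero from a witness whose annihilator is only contained in `Q` among the primes of
the fibre below `Q`. -/
theorem fdepth_eq_zero_of_witness (m : M)
    (h1 : ∀ s : B, s ∉ Q → s • m ∉ qB • (⊤ : Submodule B M))
    (h2 : ∀ 𝔞 : Ideal B, 𝔞.IsPrime → 𝔞 ≤ Q →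
      𝔞.comap (algebraMap A B) = Q.comap (algebraMap A B) →
      (∀ b : B, (∃ s : B, s ∉ Q ∧ (s * b) • m ∈ qB • (⊤ : Submodule B M)) → b ∈ 𝔞) → 𝔞 = Q) :
    fdepth A B M Q = 0 := by
  haveI lL : IsLocalRing (LQ ⧸ K1) := isLocalRing_fibLocRing A B Q
  haveI nL : IsNoetherianRing (LQ ⧸ K1) := isNoetherianRing_fibLocRing A B Q
  have hsurj : Function.Surjective (algebraMap LQ (LQ ⧸ K1)) := Ideal.Quotient.mk_surjective
  haveI : Module.Finite (LQ ⧸ K1) (WQ ⧸ K1 • (⊤ : Submodule LQ WQ)) :=
    Module.Finite.of_restrictScalars_finite LQ _ _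
  unfold fdepth
  rw [depth_eq_of_surjective hsurj (WQ ⧸ K1 • (⊤ : Submodule LQ WQ)),
    Groth.Agent.Lib.Helper4.depth_eq_zero_iff_maximalIdeal_mem_associatedPrimes]
  set w : WQ ⧸ K1 • (⊤ : Submodule LQ WQ) :=
    Submodule.Quotient.mk (LocalizedModule.mk m (1 : Q.primeCompl)) with hwdef
  have hw0 : w ≠ 0 := by
    intro h
    rw [hwdef, Submodule.Quotient.mk_eq_zero, mk_one_mem_iff] at h
    obtain ⟨s, hs, hmem⟩ := h
    exact h1 s hs hmem
  obtain ⟨𝔞R, hass, hle⟩ := exists_le_isAssociatedPrime_of_isNoetherianRing (LQ ⧸ K1) w hw0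
  haveI := hass.isPrime
  set φ : B →+* (LQ ⧸ K1) := (algebraMap LQ (LQ ⧸ K1)).comp (algebraMap B LQ) with hφ
  have hleM : 𝔞R ≤ maximalIdeal (LQ ⧸ K1) := IsLocalRing.le_maximalIdeal hass.isPrime.ne_top
  have hQ : ∀ b : B, φ b ∈ maximalIdeal (LQ ⧸ K1) ↔ b ∈ Q := by
    intro b
    rw [hφ, RingHom.comp_apply, mem_maximalIdeal_of_surjective hsurj]
    exact IsLocalization.AtPrime.to_map_mem_maximal_iff LQ Q b
  have h𝔞 : 𝔞R.comap φ = Q := by
    apply h2 (𝔞R.comap φ) (Ideal.IsPrime.comap φ)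
    · intro b hb
      exact (hQ b).1 (hleM hb)
    · apply le_antisymm
      · intro a ha
        have hb : algebraMap A B a ∈ 𝔞R.comap φ := ha
        exact (hQ _).1 (hleM hb)
      · intro a ha
        show φ (algebraMap A B a) ∈ 𝔞R
        have h3 : algebraMap A LQ a ∈ K1 := Ideal.mem_map_of_mem _ ha
        have h4 : φ (algebraMap A B a) = 0 := by
          rw [hφ, RingHom.comp_apply, ← IsScalarTower.algebraMap_apply A B LQ]
          exact Ideal.Quotient.eq_zero_iff_mem.2 h3
        rw [h4]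
        exact zero_mem _
    · rintro b ⟨s, hs, hmem⟩
      apply hle
      rw [Submodule.mem_colon_singleton, Submodule.mem_bot]
      have h3 : LocalizedModule.mk (b • m) (1 : Q.primeCompl) ∈ K1 • (⊤ : Submodule LQ WQ) :=
        (mk_one_mem_iff Q (b • m)).2 ⟨s, hs, by rwa [← mul_smul]⟩
      show (algebraMap LQ (LQ ⧸ K1) (algebraMap B LQ b)) • w = 0
      rw [hwdef, quot_smul_mk, Submodule.Quotient.mk_eq_zero, algebraMap_smul,
        LocalizedModule.smul'_mk]
      exact h3
  have heq : 𝔞R = maximalIdeal (LQ ⧸ K1) := by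
    apply le_antisymm hleM
    intro y hy
    obtain ⟨l, rfl⟩ := hsurj y
    rw [mem_maximalIdeal_of_surjective hsurj,
      ← IsLocalization.AtPrime.map_eq_maximalIdeal Q LQ] at hy
    have h5 : Ideal.map (algebraMap LQ (LQ ⧸ K1)) (Ideal.map (algebraMap B LQ) Q) ≤ 𝔞R := by
      rw [Ideal.map_map, Ideal.map_le_iff_le_comap]
      exact h𝔞.ge
    exact h5 (Ideal.mem_map_of_mem _ hy)
  rw [← heq]
  exact hass

end Depth

end Groth.Agent.Lib.Helper12.RelAssNear
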