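import Mathlib
import Groth.Agent.Lib.Helper12.RelAssNear1
import Groth.Agent.Lib.Helper12.RelAssNear2

/-!
# Spreading out an associated prime of a fibre: the general case (helper12)

`A → B` of finite type, `M` a finite `B`-module, `P` a prime of `B` at which the fibre depth of
`M` is zero.  Then there is `h ∉ P` such that the fibre depth of `M` is zero at every prime
`Q ⊇ P` of `D(h)` which is minimal among the primes of its fibre containing `P`.
-/

set_option autoImplicit false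
set_option linter.style.haveILetI false
set_option linter.unusedSectionVars false
universe u

namespace Groth.Agent.Lib.Helper12.RelAssNear

open Groth.Agent.Lib.Helper20.RD

variable {A B : Type u} [CommRing A] [CommRing B] [Algebra A B] [Algebra.FiniteType A B]
  {M : Type u} [AddCommGroup M] [Module B M] [Module A M] [IsScalarTower A B M]
  [Module.Finite B M] (P : Ideal B) [P.IsPrime]

local notation "p₀" => Ideal.comap (algebraMap A B) P
local notation "I₀" => Ideal.map (algebraMap A B) (Ideal.comap (algebraMap A B) P)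
local notation "Ab" => A ⧸ Ideal.comap (algebraMap A B) P
local notation "Bb" => B ⧸ Ideal.map (algebraMap A B) (Ideal.comap (algebraMap A B) P)
local notation "Mb" =>
  M ⧸ (Ideal.map (algebraMap A B) (Ideal.comap (algebraMap A B) P)) • (⊤ : Submodule B M)

set_option maxHeartbeats 800000 in
/-- reduction to the domain case by passing to the quotients. -/
theorem layer2 (m : M)
    (H1 : ∀ s : B, s ∉ P → s • m ∉ I₀ • (⊤ : Submodule B M))
    (H2 : ∀ b ∈ P, ∃ s : B, s ∉ P ∧ (s * b) • m ∈ I₀ • (⊤ : Submodule B M)) :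
    ∃ h : B, h ∉ P ∧
      (∀ i ∈ P, ∃ n : ℕ, (h ^ n * i) • m ∈ I₀ • (⊤ : Submodule B M)) ∧
      (∀ (q : Ideal A) (s : B),
        s • m ∈ (q.map (algebraMap A B)) • (⊤ : Submodule B M) →
        ∃ n : ℕ, h ^ n * s ∈ P ⊔ q.map (algebraMap A B)) := by
  haveI : (p₀).IsPrime := Ideal.IsPrime.comap _
  haveI : IsDomain Ab := Ideal.Quotient.isDomain _
  haveI : Algebra.FiniteType Ab Bb := Algebra.FiniteType.of_restrictScalars_finiteType A Ab Bb
  letI : Module Ab Mb := Module.compHom Mb (algebraMap Ab Bb)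
  haveI : IsScalarTower Ab Bb Mb := IsScalarTower.of_algebraMap_smul fun r m => rfl
  haveI : Module.Finite Bb Mb := Module.Finite.of_restrictScalars_finite B Bb Mb
  have hI₀P : I₀ ≤ P := Ideal.map_comap_le
  set Pb : Ideal Bb := P.map (Ideal.Quotient.mk I₀) with hPb
  have hmemPb : ∀ b : B, Ideal.Quotient.mk I₀ b ∈ Pb ↔ b ∈ P :=
    fun b => Ideal.mem_quotient_iff_mem hI₀P
  haveI : Pb.IsPrime := Ideal.map_isPrime_of_surjective Ideal.Quotient.mk_surjective
    (by rw [Ideal.mk_ker]; exact hI₀P)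
  have hPb0 : Pb.comap (algebraMap Ab Bb) = ⊥ := by
    rw [eq_bot_iff]
    intro x hx
    obtain ⟨a, rfl⟩ := Ideal.Quotient.mk_surjective x
    have h1 : Ideal.Quotient.mk I₀ (algebraMap A B a) ∈ Pb := hx
    rw [hmemPb] at h1
    exact (Submodule.mem_bot _).2 (Ideal.Quotient.eq_zero_iff_mem.2 h1)
  set mb : Mb := Submodule.Quotient.mk m with hmb
  have hsm : ∀ (b : B) (x : M), (Ideal.Quotient.mk I₀ b) • (Submodule.Quotient.mk x : Mb) =
      Submodule.Quotient.mk (b • x) := fun _ _ => rfl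
  have H1b : ∀ s : Bb, s ∉ Pb → s • mb ≠ 0 := by
    intro s hs h0
    obtain ⟨s, rfl⟩ := Ideal.Quotient.mk_surjective s
    rw [hmemPb] at hs
    rw [hmb, hsm, Submodule.Quotient.mk_eq_zero] at h0
    exact H1 s hs h0
  have H2b : ∀ b ∈ Pb, ∃ s : Bb, s ∉ Pb ∧ (s * b) • mb = 0 := by
    intro b hb
    obtain ⟨b, rfl⟩ := Ideal.Quotient.mk_surjective b
    rw [hmemPb] at hb
    obtain ⟨s, hs, hmem⟩ := H2 b hb
    refine ⟨Ideal.Quotient.mk I₀ s, by rwa [hmemPb], ?_⟩
    rw [← map_mul, hmb, hsm, Submodule.Quotient.mk_eq_zero]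
    exact hmem
  obtain ⟨hb, hhb, hbb, hab⟩ := layer1 (A := Ab) (B := Bb) (M := Mb) Pb hPb0 mb H1b H2b
  obtain ⟨h, rfl⟩ := Ideal.Quotient.mk_surjective hb
  refine ⟨h, by rwa [hmemPb] at hhb, ?_, ?_⟩
  · intro i hi
    obtain ⟨n, hn⟩ := hbb (Ideal.Quotient.mk I₀ i) ((hmemPb i).2 hi)
    refine ⟨n, ?_⟩
    rw [← map_pow, ← map_mul, hmb, hsm, Submodule.Quotient.mk_eq_zero] at hn
    exact hn
  · intro q s hs
    set qb : Ideal Ab := q.map (Ideal.Quotient.mk p₀) with hqb
    have hqmap : qb.map (algebraMap Ab Bb) =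
        (q.map (algebraMap A B)).map (Ideal.Quotient.mk I₀) := by
      rw [hqb, Ideal.map_map, Ideal.map_map]
      rfl
    have hmemb : (Ideal.Quotient.mk I₀ s) • mb ∈
        (qb.map (algebraMap Ab Bb)) • (⊤ : Submodule Bb Mb) := by
      rw [hqmap]
      have h1 : (Submodule.Quotient.mk (s • m) : Mb) ∈ Submodule.map (Submodule.mkQ _)
          ((q.map (algebraMap A B)) • (⊤ : Submodule B M)) := ⟨_, hs, rfl⟩
      rw [Submodule.map_smul'', Submodule.map_top, Submodule.range_mkQ] at h1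
      have h2 := Ideal.smul_restrictScalars (R := B) (S := Bb) (q.map (algebraMap A B))
        (⊤ : Submodule Bb Mb)
      rw [Submodule.restrictScalars_top] at h2
      rw [← h2] at h1
      exact h1
    obtain ⟨n, hn⟩ := hab qb (Ideal.Quotient.mk I₀ s) hmemb
    refine ⟨n, ?_⟩
    rw [hqmap, hPb, ← Ideal.map_sup, ← map_pow, ← map_mul] at hn
    exact (Ideal.mem_quotient_iff_mem (hI₀P.trans le_sup_left)).1 hn

/-- **Spreading out fibre depth zero.** -/
theorem alg_main (hP : fdepth A B M P = 0) :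
    ∃ h : B, h ∉ P ∧ ∀ (Q : Ideal B) [Q.IsPrime], P ≤ Q → h ∉ Q →
      (∀ (Q' : Ideal B), Q'.IsPrime → P ≤ Q' → Q' ≤ Q →
        Q'.comap (algebraMap A B) = Q.comap (algebraMap A B) → Q' = Q) →
      fdepth A B M Q = 0 := by
  obtain ⟨m, H1, H2⟩ := exists_witness_of_fdepth_eq_zero P hP
  obtain ⟨h, hhP, hb, ha⟩ := layer2 P m H1 H2
  refine ⟨h, hhP, fun Q hQ hPQ hhQ hmin => ?_⟩
  apply fdepth_eq_zero_of_witness Q m
  · intro s hs hmem
    obtain ⟨n, hn⟩ := ha (Q.comap (algebraMap A B)) s hmem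
    have h0 : h ^ n * s ∈ Q := (sup_le hPQ Ideal.map_comap_le) hn
    rcases (Ideal.IsPrime.mul_mem_iff_mem_or_mem hQ).1 h0 with h1 | h1
    · exact hhQ (Ideal.IsPrime.mem_of_pow_mem hQ n h1)
    · exact hs h1
  · intro 𝔞 h𝔞 h𝔞Q hco hann
    apply hmin 𝔞 h𝔞 _ h𝔞Q hco
    intro i hi
    obtain ⟨n, hn⟩ := hb i hi
    apply hann
    refine ⟨h ^ n, fun hc => hhQ (Ideal.IsPrime.mem_of_pow_mem hQ n hc), ?_⟩
    have hle : (Ideal.map (algebraMap A B) (P.comap (algebraMap A B))) • (⊤ : Submodule B M) ≤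
        (Ideal.map (algebraMap A B) (Q.comap (algebraMap A B))) • ⊤ :=
      Submodule.smul_mono (Ideal.map_mono (Ideal.comap_mono hPQ)) le_rfl
    exact hle hn

end Groth.Agent.Lib.Helper12.RelAssNear
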