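import Mathlib
import Groth.Agent.Lib.Helper12.RelAssNear3
import Groth.Agent.Lib.Helper20.MSet2
import Groth.Agent.Lib.Helper20.SkFib5
import Groth.Agent.Lib.Helper12.SchemeDimFT4

/-!
# Generic points of the fibres of the closure of a relative associated point (helper12)
-/

set_option autoImplicit false
set_option linter.style.haveILetI false
set_option linter.unusedSectionVars false
universe u
open AlgebraicGeometry CategoryTheory Limits

namespace Groth.Agent.Lib.Helper12.RelAssNear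

open Groth.Agent.Lib.Helper20 Groth.Agent.Lib.Helper20.RD Groth.Agent.Lib.Helper3
  Groth.Agent.Lib.Helper20.SkFib

/-- a generic point of an irreducible component has no proper generization. -/
theorem eq_of_specializes_of_isGenericPoint {T : Type*} [TopologicalSpace T] [T0Space T]
    {y y' : T} {C : Set T} (hC : C ∈ irreducibleComponents T) (hy : IsGenericPoint y C)
    (h : y' ⤳ y) : y' = y := by
  have h1 : C ≤ closure {y'} := by
    rw [← hy.def]
    exact closure_minimal (Set.singleton_subset_iff.2 h.mem_closure) isClosed_closure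
  have h2 : IsIrreducible (closure ({y'} : Set T)) := isIrreducible_singleton.closure
  have h3 : closure {y'} ≤ C := hC.le_of_ge h2 h1
  have h4 : IsGenericPoint y' C := le_antisymm h3 h1
  exact h4.eq hy

set_option maxHeartbeats 1000000 in
/-- Let `ξ` be a relative associated point of `F` with closure `Z`.  Then on a nonempty open of
`Z`, the generic points of the irreducible components of the fibres are relative associated
points. -/
theorem near {X S : Scheme.{u}} (f : X ⟶ S) [LocallyOfFiniteType f]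
    (F : X.Modules) (hF : Coh.IsCoh F) (ξ : X) (hξ : ξ ∈ MoreMor.relAss f F) :
    ∃ V : Set ↑X, V ⊆ closure {ξ} ∧
      IsOpen (Subtype.val ⁻¹' V : Set ↑(closure ({ξ} : Set ↑X))) ∧ V.Nonempty ∧
      ∀ (x : X) (hx : x ∈ V), (∃ C ∈ irreducibleComponents ↑(V ∩ f ⁻¹' {f x}),
        IsGenericPoint (⟨x, hx, rfl⟩ : ↑(V ∩ f ⁻¹' {f x})) C) →
        x ∈ MoreMor.relAss f F := by
  haveI : F.IsQuasicoherent := hF.1
  haveI : F.IsFiniteType := hF.2
  obtain ⟨V₀, hV₀, hξV₀⟩ := QCProps.exists_affine_nbhd (f ξ)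
  obtain ⟨_, ⟨U, hU, rfl⟩, hξU, hUV'⟩ := X.isBasis_affineOpens.exists_subset_of_mem_open
    (show ξ ∈ ((f ⁻¹ᵁ V₀ : X.Opens) : Set X) from hξV₀) (f ⁻¹ᵁ V₀).2
  obtain ⟨U, rfl⟩ : ∃ U' : X.Opens, U' = U := ⟨U, rfl⟩
  have hUV : U ≤ f ⁻¹ᵁ V₀ := hUV'
  letI a0 : Algebra Γ(S, V₀) Γ(X, U) := (f.appLE V₀ U hUV).hom.toAlgebra
  letI a1 : Module Γ(S, V₀) Γ(F, U) := Module.compHom _ (f.appLE V₀ U hUV).hom
  haveI a2 : IsScalarTower Γ(S, V₀) Γ(X, U) Γ(F, U) :=
    IsScalarTower.of_algebraMap_smul fun r n => rfl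
  haveI a3 : Algebra.FiniteType Γ(S, V₀) Γ(X, U) := f.finiteType_appLE hV₀ hU hUV
  haveI a4 : Module.Finite Γ(X, U) Γ(F, U) := QCProps.finite_sections F hU
  have h0 : fdepth Γ(S, V₀) Γ(X, U) Γ(F, U) (hU.primeIdealOf ⟨ξ, hξU⟩).asIdeal = 0 := by
    rw [← xdepth_eq_chart f F hU hV₀ hUV ξ hξU]
    exact (MSet.mem_relAss_iff_xdepth f F ξ).1 hξ
  obtain ⟨h, hhP, hmain⟩ := alg_main (A := Γ(S, V₀)) (B := Γ(X, U)) (M := Γ(F, U))
    (hU.primeIdealOf ⟨ξ, hξU⟩).asIdeal h0
  have hξh : ξ ∈ X.basicOpen h :=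
    (SchemeDimFT.mem_basicOpen_iff_notMem_primeIdealOf hU ⟨ξ, hξU⟩ h).2 hhP
  refine ⟨closure {ξ} ∩ (X.basicOpen h : Set X), Set.inter_subset_left, ?_,
    ⟨ξ, subset_closure rfl, hξh⟩, ?_⟩
  · have : (Subtype.val ⁻¹' (closure {ξ} ∩ (X.basicOpen h : Set X)) :
        Set ↑(closure ({ξ} : Set ↑X))) = Subtype.val ⁻¹' (X.basicOpen h : Set X) := by
      ext ⟨y, hy⟩
      simp
    rw [this]
    exact (X.basicOpen h).isOpen.preimage continuous_subtype_val
  · rintro x ⟨hxZ, hxh⟩ ⟨C, hC, hgen⟩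
    have hxU : x ∈ U := X.basicOpen_le h hxh
    rw [MSet.mem_relAss_iff_xdepth f F x, xdepth_eq_chart f F hU hV₀ hUV x hxU]
    have hξx : ξ ⤳ x := specializes_iff_mem_closure.2 hxZ
    apply hmain (hU.primeIdealOf ⟨x, hxU⟩).asIdeal
    · exact (SchemeDimFT.primeIdealOf_le_iff hU ⟨ξ, hξU⟩ ⟨x, hxU⟩).2 hξx
    · exact (SchemeDimFT.mem_basicOpen_iff_notMem_primeIdealOf hU ⟨x, hxU⟩ h).1 hxh
    · intro Q' hQ' hPQ' hQ'Q hco
      haveI := hQ'
      obtain ⟨z, hzU, hzQ', hzx⟩ := point_of_prime f hU hV₀ hUV x hxU Q' hQ'Q hco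
      set x' : X := (f.fiberι (f.base x)).base z with hx'
      have hfx' : f x' = f x := by
        have h3 : x' ∈ f.base ⁻¹' {f.base x} := by
          rw [← f.range_fiberι (f.base x)]
          exact ⟨z, rfl⟩
        exact h3
      have hξx' : ξ ⤳ x' := by
        apply (SchemeDimFT.primeIdealOf_le_iff hU ⟨ξ, hξU⟩ ⟨x', hzU⟩).1
        show (hU.primeIdealOf ⟨ξ, hξU⟩).asIdeal ≤ (hU.primeIdealOf ⟨x', hzU⟩).asIdeal
        rw [hzQ']
        exact hPQ'
      have hx'V : x' ∈ closure {ξ} ∩ (X.basicOpen h : Set X) :=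
        ⟨specializes_iff_mem_closure.1 hξx', hzx.mem_open (X.basicOpen h).isOpen hxh⟩
      have hspec : (⟨x', hx'V, hfx'⟩ :
          ↑((closure {ξ} ∩ (X.basicOpen h : Set X)) ∩ f ⁻¹' {f x})) ⤳
          ⟨x, ⟨hxZ, hxh⟩, rfl⟩ := (subtype_specializes_iff _ _).2 hzx
      have heq := eq_of_specializes_of_isGenericPoint hC hgen hspec
      have heq' : x' = x := congrArg Subtype.val heq
      rw [← hzQ']
      have h5 : (⟨x', hzU⟩ : U) = ⟨x, hxU⟩ := Subtype.ext heq'
      rw [h5]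

end Groth.Agent.Lib.Helper12.RelAssNear
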