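import Mathlib
import Groth.Agent.Lib.Helper12.RelNoether2

/-!
# Weak relative Noether normalisation, part 3: the induction step and the conclusion (helper12)
-/

set_option autoImplicit false
universe u
open MvPolynomial TensorProduct Topology

namespace Groth.Agent.Lib.Helper12.RelNoether

variable {R S : Type u} [CommRing R] [CommRing S] [Algebra R S]

/-- One step: from `n + 1` coordinates to `n`, if all fibres have dimension `< n + 1`. -/
theorem step {n : ℕ} (x : Fin (n + 1) → S) (hx : FF R x)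
    (hdim : ∀ p : PrimeSpectrum R, ringKrullDim (p.asIdeal.Fiber S) < (n + 1 : ℕ)) :
    ∃ y : Fin n → S, FF R y := by
  classical
  choose h hh0 hhk using fun p => exists_relation_fib x hx p (hdim p)
  have key : ∀ p : PrimeSpectrum R, ∃ (g : R) (I₀ : Finset R), g ∉ p.asIdeal ∧
      (↑I₀ : Set R) ⊆ p.asIdeal ∧
      ∀ q : PrimeSpectrum R, g ∉ q.asIdeal → (↑I₀ : Set R) ⊆ q.asIdeal →
        map (algebraMap R q.asIdeal.ResidueField) (h p) ≠ 0 ∧
          fib q (aeval (R := R) x (h p)) = 0 := by
    intro p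
    obtain ⟨c, hc, hcq⟩ := exists_coeff_spread p (h p) (hh0 p)
    obtain ⟨a, ha, has⟩ := exists_of_fib_eq_zero p _ (hhk p)
    obtain ⟨I₀, hI₀, hz⟩ := exists_finset_of_mem_map p.asIdeal _ has
    refine ⟨c * a, I₀, fun hmem => (p.isPrime.mem_or_mem hmem).elim hc ha, hI₀,
      fun q hq hIq => ⟨?_, ?_⟩⟩
    · exact hcq q (fun hcm => hq (Ideal.mul_mem_right _ _ hcm))
    · exact fib_eq_zero_of q _ a (fun ham => hq (Ideal.mul_mem_left _ _ ham)) I₀ hIq hz
  choose g I₀ hg hI hgood using key
  obtain ⟨T, hT⟩ := exists_finite_cover g I₀ hg hI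
  let e : ℕ := 2 + T.sup (fun p => (h p).totalDegree)
  refine ⟨NagataU.newCoord e x, fun q => ?_⟩
  obtain ⟨p, hpT, hq1, hq2⟩ := hT q
  obtain ⟨hne, hker⟩ := hgood p q hq1 hq2
  have hbound : ∀ u ∈ (map (algebraMap R q.asIdeal.ResidueField) (h p)).support,
      ∀ i, u i < e := by
    intro u hu i
    have h1 : u ∈ (h p).support := MvPolynomial.support_map_subset _ _ hu
    have h2 : u i ≤ (h p).totalDegree :=
      (monomial_le_degreeOf i h1).trans (degreeOf_le_totalDegree _ i)
    have h3 : (h p).totalDegree ≤ T.sup (fun p => (h p).totalDegree) :=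
      Finset.le_sup (f := fun p => (h p).totalDegree) hpT
    omega
  have := NagataU.isIntegral_newCoord (k := q.asIdeal.ResidueField) e (by omega)
    (fun i => fib q (x i)) (hx q)
    (map (algebraMap R q.asIdeal.ResidueField) (h p)) hbound hne
    (by rw [aeval_map_eq]; exact hker)
  have hfun : (fun i => fib q (NagataU.newCoord e x i)) =
      NagataU.newCoord e (fun i => fib q (x i)) := by
    funext i
    simp only [NagataU.newCoord, map_sub, map_pow]
  rw [hfun]
  exact this

/-- Descending from `d + j` coordinates to `d`. -/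
theorem descend (d : ℕ)
    (hdim : ∀ p : PrimeSpectrum R, ringKrullDim (p.asIdeal.Fiber S) ≤ (d : ℕ)) :
    ∀ (j : ℕ) (x : Fin (d + j) → S), FF R x → ∃ y : Fin d → S, FF R y := by
  intro j
  induction j with
  | zero => intro x hx; exact ⟨x, hx⟩
  | succ j ih =>
    intro x hx
    obtain ⟨y, hy⟩ := step (n := d + j) x hx (fun p => by
      refine lt_of_le_of_lt (hdim p) ?_
      exact_mod_cast (by omega : d < d + j + 1))
    exact ih y hy

/-- fibrewise integrality over `R[t_1, …, t_d]` gives quasi-finiteness. -/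
theorem quasiFinite_of_FF [Algebra.FiniteType R S] {d : ℕ} (x : Fin d → S) (hx : FF R x) :
    (aeval x : MvPolynomial (Fin d) R →ₐ[R] S).toRingHom.QuasiFinite := by
  letI alg : Algebra (MvPolynomial (Fin d) R) S :=
    (aeval x : MvPolynomial (Fin d) R →ₐ[R] S).toRingHom.toAlgebra
  have halg : ∀ a, algebraMap (MvPolynomial (Fin d) R) S a = aeval x a := fun _ => rfl
  haveI : IsScalarTower R (MvPolynomial (Fin d) R) S :=
    IsScalarTower.of_algebraMap_eq fun r => by
      rw [halg, MvPolynomial.algebraMap_eq, aeval_C]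
  haveI : Algebra.FiniteType (MvPolynomial (Fin d) R) S :=
    Algebra.FiniteType.of_restrictScalars_finiteType R _ S
  show Algebra.QuasiFinite (MvPolynomial (Fin d) R) S
  refine ⟨fun P hP => ?_⟩
  let A := MvPolynomial (Fin d) R
  let p : PrimeSpectrum R := ⟨P.under R, inferInstance⟩
  let K := P.ResidueField
  let k := p.asIdeal.ResidueField
  let ι : k →ₐ[R] K := Ideal.ResidueField.mapₐ p.asIdeal P (Algebra.ofId R A) rfl
  let C' := K ⊗[A] S
  let f₁ : k →ₐ[R] C' := (IsScalarTower.toAlgHom R K C').comp ι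
  let f₂ : S →ₐ[R] C' := (Algebra.TensorProduct.includeRight : S →ₐ[A] C').restrictScalars R
  let ρ : k ⊗[R] S →ₐ[R] C' := Algebra.TensorProduct.lift f₁ f₂ (fun _ _ => Commute.all _ _)
  let φ : MvPolynomial (Fin d) k →+* K :=
    eval₂Hom (ι : k →+* K) (fun i => algebraMap A K (X i))
  letI alg2 : Algebra (MvPolynomial (Fin d) k) (k ⊗[R] S) :=
    (aeval (R := k) (fun i => fib p (x i))).toRingHom.toAlgebra
  have hmapK : ∀ c : K, algebraMap K C' c = c ⊗ₜ[A] (1 : S) := fun c => by
    rw [Algebra.TensorProduct.algebraMap_apply]; rfl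
  have hρ : ∀ (a : k) (s : S), ρ (a ⊗ₜ[R] s) = (ι a) ⊗ₜ[A] s := by
    intro a s
    simp only [ρ, Algebra.TensorProduct.lift_tmul, f₁, f₂]
    change algebraMap K C' (ι a) * ((1 : K) ⊗ₜ[A] s) = _
    rw [hmapK, Algebra.TensorProduct.tmul_mul_tmul, mul_one, one_mul]
  have hcomp : (algebraMap K C').comp φ =
      (ρ : k ⊗[R] S →+* C').comp (algebraMap (MvPolynomial (Fin d) k) (k ⊗[R] S)) := by
    apply MvPolynomial.ringHom_ext
    · intro a
      change algebraMap K C' (φ (C a)) = ρ (aeval (R := k) (fun i => fib p (x i)) (C a))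
      have e1 : algebraMap k (k ⊗[R] S) a = a ⊗ₜ[R] (1 : S) := by
        rw [Algebra.TensorProduct.algebraMap_apply]; rfl
      have e2 : φ (C a) = ι a := by simp [φ]
      rw [aeval_C, e1, hρ, e2, hmapK]
    · intro i
      change algebraMap K C' (φ (X i)) = ρ (aeval (R := k) (fun i => fib p (x i)) (X i))
      rw [aeval_X]
      change _ = ρ ((1 : k) ⊗ₜ[R] x i)
      rw [hρ, map_one]
      have hxi : x i = algebraMap A S (X i) := by rw [halg, aeval_X]
      have e2 : φ (X i) = algebraMap A K (X i) := by simp [φ]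
      rw [hxi, e2, hmapK, Algebra.algebraMap_eq_smul_one (A := K),
        Algebra.algebraMap_eq_smul_one (A := S), TensorProduct.smul_tmul]
  have h1 : ∀ s : S, IsIntegral K ((1 : K) ⊗ₜ[A] s) := by
    intro s
    have hs : IsIntegral (MvPolynomial (Fin d) k) (fib p s) := hx p (fib p s)
    have := IsIntegral.map_of_comp_eq φ (ρ : k ⊗[R] S →+* C') hcomp hs
    have h2 : (ρ : k ⊗[R] S →+* C') (fib p s) = (1 : K) ⊗ₜ[A] s := by
      change ρ ((1 : k) ⊗ₜ[R] s) = _
      rw [hρ, map_one]
    rwa [h2] at this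
  haveI : Algebra.IsIntegral K C' := by
    refine ⟨fun z => ?_⟩
    induction z using TensorProduct.induction_on with
    | zero => exact isIntegral_zero
    | add a b ha hb => exact ha.add hb
    | tmul c s =>
      have : c ⊗ₜ[A] s = c • ((1 : K) ⊗ₜ[A] s) := by
        rw [TensorProduct.smul_tmul', smul_eq_mul, mul_one]
      rw [this]
      exact (h1 s).smul c
  exact Algebra.IsIntegral.finite

/-- **Weak relative Noether normalisation.** -/
theorem exists_quasiFinite [Algebra.FiniteType R S] (d : ℕ)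
    (hdim : ∀ p : PrimeSpectrum R, ringKrullDim (p.asIdeal.Fiber S) ≤ (d : ℕ)) :
    ∃ φ : MvPolynomial (Fin d) R →ₐ[R] S, φ.toRingHom.QuasiFinite := by
  obtain ⟨N, f, hf⟩ := Algebra.FiniteType.iff_quotient_mvPolynomial''.mp
    (inferInstance : Algebra.FiniteType R S)
  -- pad to `d + N` coordinates
  let x : Fin (d + N) → S := fun i => Fin.addCases (fun _ => 0) (fun j => f (X j)) i
  have hxs : Function.Surjective (aeval x : MvPolynomial (Fin (d + N)) R →ₐ[R] S) := by
    intro s
    obtain ⟨g, rfl⟩ := hf s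
    refine ⟨rename (Fin.natAdd d) g, ?_⟩
    rw [aeval_rename]
    have : (aeval (x ∘ Fin.natAdd d) : MvPolynomial (Fin N) R →ₐ[R] S) = f := by
      apply MvPolynomial.algHom_ext
      intro j
      simp [x]
    rw [this]
  obtain ⟨y, hy⟩ := descend d hdim N x (FF_of_surjective x hxs)
  exact ⟨aeval y, quasiFinite_of_FF y hy⟩

end Groth.Agent.Lib.Helper12.RelNoether
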