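import Mathlib
import Groth.Agent.Lib.Helper12.RelNoether3

/-!
# Quasi-finiteness and fibre rings (helper12)

* `exists_FF`: fibre dimensions `≤ d` give `d` elements over which `S` is fibrewise integral;
* `quasiFinite_fiber`: quasi-finiteness passes to fibre rings (set-theoretic proof);
* `ringKrullDim_fiber_le_of_quasiFinite`: if `A[t_1, …, t_d] → S` is quasi-finite, the fibre rings
  of `A → S` have dimension `≤ d`.
-/

set_option autoImplicit false
universe u
open MvPolynomial TensorProduct Topology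

namespace Groth.Agent.Lib.Helper12.RelNoether

variable {R S : Type u} [CommRing R] [CommRing S] [Algebra R S]

theorem exists_FF [Algebra.FiniteType R S] (d : ℕ)
    (hdim : ∀ p : PrimeSpectrum R, ringKrullDim (p.asIdeal.Fiber S) ≤ (d : ℕ)) :
    ∃ y : Fin d → S, FF R y := by
  obtain ⟨N, f, hf⟩ := Algebra.FiniteType.iff_quotient_mvPolynomial''.mp
    (inferInstance : Algebra.FiniteType R S)
  let x : Fin (d + N) → S := fun i => Fin.addCases (fun _ => 0) (fun j => f (X j)) i
  have hxs : Function.Surjective (aeval x : MvPolynomial (Fin (d + N)) R →ₐ[R] S) := by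
    intro s
    obtain ⟨g, rfl⟩ := hf s
    refine ⟨rename (Fin.natAdd d) g, ?_⟩
    rw [aeval_rename]
    have : (aeval (x ∘ Fin.natAdd d) : MvPolynomial (Fin N) R →ₐ[R] S) = f := by
      apply MvPolynomial.algHom_ext
      intro j
      simp [x]
    rw [this]
  exact descend d hdim N x (FF_of_surjective x hxs)

/-- Quasi-finiteness passes to fibre rings. -/
theorem quasiFinite_fiber {A A₂ T : Type u} [CommRing A] [CommRing A₂] [CommRing T]
    [Algebra A A₂] [Algebra A₂ S] [Algebra A S] [IsScalarTower A A₂ S] [Algebra.QuasiFinite A₂ S]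
    [Algebra.FiniteType A S]
    (𝔓 : Ideal A) [𝔓.IsPrime] [Algebra 𝔓.ResidueField T] [Algebra T (𝔓.Fiber S)]
    [IsScalarTower 𝔓.ResidueField T (𝔓.Fiber S)]
    (τ : A₂ →+* T)
    (hτ : ∀ z : A₂, algebraMap T (𝔓.Fiber S) (τ z) =
      (1 : 𝔓.ResidueField) ⊗ₜ[A] (algebraMap A₂ S z)) :
    Algebra.QuasiFinite T (𝔓.Fiber S) := by
  haveI : Algebra.FiniteType 𝔓.ResidueField (𝔓.Fiber S) := inferInstance
  haveI : Algebra.FiniteType T (𝔓.Fiber S) :=
    Algebra.FiniteType.of_restrictScalars_finiteType 𝔓.ResidueField T _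
  rw [Algebra.QuasiFinite.iff_finite_comap_preimage_singleton]
  intro x
  let incl : S →+* 𝔓.Fiber S := (Algebra.TensorProduct.includeRight :
    S →ₐ[A] 𝔓.Fiber S).toRingHom
  let j : PrimeSpectrum (𝔓.Fiber S) → PrimeSpectrum S := PrimeSpectrum.comap incl
  have hj : Function.Injective j := by
    intro q₁ q₂ h
    have : (PrimeSpectrum.preimageEquivFiber A S ⟨𝔓, inferInstance⟩).symm q₁ =
        (PrimeSpectrum.preimageEquivFiber A S ⟨𝔓, inferInstance⟩).symm q₂ :=
      Subtype.ext h
    exact (PrimeSpectrum.preimageEquivFiber A S ⟨𝔓, inferInstance⟩).symm.injective this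
  have hcomm : incl.comp (algebraMap A₂ S) = (algebraMap T (𝔓.Fiber S)).comp τ := by
    ext z
    exact (hτ z).symm
  have hsub : j '' (PrimeSpectrum.comap (algebraMap T (𝔓.Fiber S)) ⁻¹' {x}) ⊆
      PrimeSpectrum.comap (algebraMap A₂ S) ⁻¹' {PrimeSpectrum.comap τ x} := by
    rintro _ ⟨q, hq, rfl⟩
    simp only [Set.mem_preimage, Set.mem_singleton_iff] at hq ⊢
    rw [← hq]
    change PrimeSpectrum.comap (algebraMap A₂ S) (PrimeSpectrum.comap incl q) =
      PrimeSpectrum.comap τ (PrimeSpectrum.comap (algebraMap T (𝔓.Fiber S)) q)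
    rw [← PrimeSpectrum.comap_comp_apply, ← PrimeSpectrum.comap_comp_apply, hcomm]
  exact Set.Finite.of_finite_image
    ((Algebra.QuasiFinite.finite_comap_preimage_singleton _).subset hsub) hj.injOn

/-- If `A[t_1, …, t_d] → S` is quasi-finite then the fibre rings of `A → S` have dimension `≤ d`. -/
theorem ringKrullDim_fiber_le_of_quasiFinite [Algebra.FiniteType R S] {d : ℕ} (t : Fin d → S)
    (hQF : (aeval t : MvPolynomial (Fin d) R →ₐ[R] S).toRingHom.QuasiFinite)
    (P : Ideal R) [P.IsPrime] : ringKrullDim (P.Fiber S) ≤ (d : ℕ) := by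
  letI alg : Algebra (MvPolynomial (Fin d) R) S :=
    (aeval t : MvPolynomial (Fin d) R →ₐ[R] S).toRingHom.toAlgebra
  have halg : ∀ a, algebraMap (MvPolynomial (Fin d) R) S a = aeval t a := fun _ => rfl
  haveI : IsScalarTower R (MvPolynomial (Fin d) R) S :=
    IsScalarTower.of_algebraMap_eq fun r => by
      rw [halg, MvPolynomial.algebraMap_eq, aeval_C]
  haveI : Algebra.QuasiFinite (MvPolynomial (Fin d) R) S := hQF
  let p : PrimeSpectrum R := ⟨P, inferInstance⟩
  let K := P.ResidueField
  letI alg2 : Algebra (MvPolynomial (Fin d) K) (P.Fiber S) :=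
    (aeval (R := K) (fun i => fib p (t i))).toRingHom.toAlgebra
  have halg2 : ∀ a, algebraMap (MvPolynomial (Fin d) K) (P.Fiber S) a =
      aeval (R := K) (fun i => fib p (t i)) a := fun _ => rfl
  haveI : IsScalarTower K (MvPolynomial (Fin d) K) (P.Fiber S) :=
    IsScalarTower.of_algebraMap_eq fun r => by
      rw [halg2, MvPolynomial.algebraMap_eq, aeval_C]
  haveI : Algebra.QuasiFinite (MvPolynomial (Fin d) K) (P.Fiber S) :=
    quasiFinite_fiber (A := R) (A₂ := MvPolynomial (Fin d) R) (T := MvPolynomial (Fin d) K) P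
      (MvPolynomial.map (algebraMap R K)) (fun z => by
        rw [halg2, halg]
        exact aeval_map_eq t p z)
  have hle : ringKrullDim (P.Fiber S) ≤ ringKrullDim (MvPolynomial (Fin d) K) := by
    unfold ringKrullDim
    refine Order.krullDim_le_of_strictMono
      (PrimeSpectrum.comap (algebraMap (MvPolynomial (Fin d) K) (P.Fiber S))) ?_
    intro Q₁ Q₂ hlt
    refine lt_of_le_of_ne ?_ ?_
    · exact Ideal.comap_mono (show Q₁.asIdeal ≤ Q₂.asIdeal from hlt.le)
    · intro heq
      have h1 : Q₁.asIdeal ≤ Q₂.asIdeal := hlt.le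
      have h2 : Q₁.asIdeal.under (MvPolynomial (Fin d) K) =
          Q₂.asIdeal.under (MvPolynomial (Fin d) K) := congrArg PrimeSpectrum.asIdeal heq
      have := Algebra.QuasiFinite.eq_of_le_of_under_eq (R := MvPolynomial (Fin d) K)
        Q₁.asIdeal Q₂.asIdeal h1 h2
      exact hlt.ne (PrimeSpectrum.ext this)
  rw [Groth.Agent.Lib.Helper12.ringKrullDim_mvPolynomial_field] at hle
  exact hle

end Groth.Agent.Lib.Helper12.RelNoether
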