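import Mathlib
import Groth.Agent.Lib.Helper12.RelNoether4

/-!
# Integral relations in fibres, lifted to the base (helper12)
-/

set_option autoImplicit false
universe u
open MvPolynomial TensorProduct Topology

namespace Groth.Agent.Lib.Helper12.RelNoether

variable {R S : Type u} [CommRing R] [CommRing S] [Algebra R S]

theorem exists_clear_denominators_poly {σ : Type*} (p : PrimeSpectrum R)
    (G : Polynomial (MvPolynomial σ p.asIdeal.ResidueField)) (hG : G.Monic) :
    ∃ (E : R) (H : Polynomial (MvPolynomial σ R)), E ∉ p.asIdeal ∧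
      H.natDegree ≤ G.natDegree ∧ H.coeff G.natDegree = C E ∧
      Polynomial.map (MvPolynomial.map (algebraMap R p.asIdeal.ResidueField)) H =
        Polynomial.C (C (algebraMap R p.asIdeal.ResidueField E)) * G := by
  classical
  set N := G.natDegree with hN
  choose E h hE hh using fun j : ℕ => exists_clear_denominators p (G.coeff j)
  let E₀ : R := ∏ j ∈ Finset.range N, E j
  have hE₀ : E₀ ∉ p.asIdeal := by
    intro hmem
    obtain ⟨j, -, hj⟩ := (p.isPrime.prod_mem_iff).mp hmem
    exact hE j hj
  let h' : ℕ → MvPolynomial σ R := fun j => C (∏ i ∈ (Finset.range N).erase j, E i) * h j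
  have hh' : ∀ j ∈ Finset.range N, MvPolynomial.map (algebraMap R p.asIdeal.ResidueField) (h' j) =
      C (algebraMap R p.asIdeal.ResidueField E₀) * G.coeff j := by
    intro j hj
    simp only [h', map_mul, map_C, hh j]
    rw [← mul_assoc, ← C_mul, ← map_mul, Finset.prod_erase_mul _ _ hj]
  let H : Polynomial (MvPolynomial σ R) :=
    Polynomial.C (C E₀) * Polynomial.X ^ N + ∑ j ∈ Finset.range N, Polynomial.C (h' j) * Polynomial.X ^ j
  refine ⟨E₀, H, hE₀, ?_, ?_, ?_⟩
  · refine (Polynomial.natDegree_add_le _ _).trans (max_le ?_ ?_)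
    · exact Polynomial.natDegree_C_mul_X_pow_le _ _
    · refine Polynomial.natDegree_sum_le_of_forall_le _ _ (fun j hj => ?_)
      exact (Polynomial.natDegree_C_mul_X_pow_le _ _).trans (Finset.mem_range.mp hj).le
  · simp only [H, Polynomial.coeff_add, Polynomial.coeff_C_mul_X_pow, if_true,
      Polynomial.finset_sum_coeff]
    rw [Finset.sum_eq_zero, add_zero]
    intro j hj
    rw [if_neg]
    exact (Finset.mem_range.mp hj).ne'
  · change Polynomial.map (MvPolynomial.map (algebraMap R p.asIdeal.ResidueField))
      (Polynomial.C (C E₀) * Polynomial.X ^ N +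
        ∑ j ∈ Finset.range N, Polynomial.C (h' j) * Polynomial.X ^ j) = _
    rw [Polynomial.map_add, Polynomial.map_mul, Polynomial.map_C, Polynomial.map_pow,
      Polynomial.map_X, Polynomial.map_sum, MvPolynomial.map_C]
    have hterm : ∀ j ∈ Finset.range N,
        Polynomial.map (MvPolynomial.map (algebraMap R p.asIdeal.ResidueField))
          (Polynomial.C (h' j) * Polynomial.X ^ j) =
        Polynomial.C (C (algebraMap R p.asIdeal.ResidueField E₀)) *
          (Polynomial.C (G.coeff j) * Polynomial.X ^ j) := by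
      intro j hj
      rw [Polynomial.map_mul, Polynomial.map_C, Polynomial.map_pow, Polynomial.map_X, hh' j hj,
        Polynomial.C_mul, mul_assoc]
    rw [Finset.sum_congr rfl hterm, ← Finset.mul_sum, ← mul_add]
    congr 1
    exact hG.as_sum.symm

/-- an integral relation for `b` over `R[t]` in the fibre at `P`, lifted to `R` -/
theorem exists_integral_relation {d : ℕ} (t : Fin d → S) (ht : FF R t) (b : S)
    (P : PrimeSpectrum R) :
    ∃ (N : ℕ) (E : R) (H : Polynomial (MvPolynomial (Fin d) R)), E ∉ P.asIdeal ∧
      H.natDegree ≤ N ∧ H.coeff N = C E ∧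
      Polynomial.eval₂ (aeval t : MvPolynomial (Fin d) R →ₐ[R] S).toRingHom b H ∈
        Ideal.map (algebraMap R S) P.asIdeal := by
  obtain ⟨G, hGm, hG⟩ := ht P (fib P b)
  obtain ⟨E, H, hE, hdeg, hcoeff, hmap⟩ := exists_clear_denominators_poly P G hGm
  set s := Polynomial.eval₂ (aeval t : MvPolynomial (Fin d) R →ₐ[R] S).toRingHom b H with hs
  have hfs : fib P s = 0 := by
    have h1 : fib P s = Polynomial.eval₂
        ((aeval (R := P.asIdeal.ResidueField) (fun i => fib P (t i))).toRingHom) (fib P b)
        (Polynomial.map (MvPolynomial.map (algebraMap R P.asIdeal.ResidueField)) H) := by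
      rw [hs, Polynomial.eval₂_map]
      change (fib P : S →ₐ[R] _).toRingHom _ = _
      rw [Polynomial.hom_eval₂]
      congr 1
      ext z
      · simp
      · simp
    rw [h1, hmap, Polynomial.eval₂_mul, hG, mul_zero]
  obtain ⟨E', hE', hmem⟩ := exists_of_fib_eq_zero P s hfs
  refine ⟨G.natDegree, E' * E, Polynomial.C (C E') * H,
    fun h => (P.isPrime.mem_or_mem h).elim hE' hE, ?_, ?_, ?_⟩
  · exact (Polynomial.natDegree_C_mul_le _ _).trans hdeg
  · rw [Polynomial.coeff_C_mul, hcoeff, ← C_mul]
  · rw [Polynomial.eval₂_mul, Polynomial.eval₂_C]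
    have : (aeval t : MvPolynomial (Fin d) R →ₐ[R] S).toRingHom (C E') = algebraMap R S E' := by
      simp
    rw [this, ← Algebra.smul_def]
    exact hmem

/-- If `F` is quasi-finite over `K[Y]` (with `Y ↦ y`) and `y` is algebraic over the field `K`, then
`F` is finite over `K`. -/
theorem finite_of_quasiFinite_polynomial {K F : Type u} [Field K] [CommRing F] [Algebra K F]
    [Algebra (Polynomial K) F] [IsScalarTower K (Polynomial K) F]
    [Algebra.QuasiFinite (Polynomial K) F]
    (f : Polynomial K) (hf : f ≠ 0) (hroot : algebraMap (Polynomial K) F f = 0) :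
    Module.Finite K F := by
  let I : Ideal (Polynomial K) := Ideal.span {f}
  letI algQ : Algebra (Polynomial K ⧸ I) F :=
    (Ideal.Quotient.lift I (algebraMap (Polynomial K) F) (by
      intro z hz
      obtain ⟨w, rfl⟩ := Ideal.mem_span_singleton.mp hz
      rw [map_mul, hroot, zero_mul])).toAlgebra
  haveI : IsScalarTower (Polynomial K) (Polynomial K ⧸ I) F :=
    IsScalarTower.of_algebraMap_eq (R := Polynomial K) (S := Polynomial K ⧸ I) (A := F)
      fun z => rfl
  haveI : Algebra.QuasiFinite (Polynomial K ⧸ I) F :=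
    Algebra.QuasiFinite.of_restrictScalars (Polynomial K) (Polynomial K ⧸ I) F
  haveI : Module.Finite K (Polynomial K ⧸ I) := (AdjoinRoot.powerBasis hf).finite
  haveI : IsScalarTower K (Polynomial K ⧸ I) F :=
    IsScalarTower.of_algebraMap_eq (R := K) (S := Polynomial K ⧸ I) (A := F) fun z => by
      rw [IsScalarTower.algebraMap_apply K (Polynomial K) F,
        IsScalarTower.algebraMap_apply K (Polynomial K) (Polynomial K ⧸ I)]
      rfl
  haveI : Algebra.QuasiFinite K F := Algebra.QuasiFinite.trans K (Polynomial K ⧸ I) F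
  exact Module.Finite.of_quasiFinite

end Groth.Agent.Lib.Helper12.RelNoether
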