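import Mathlib
import Groth.Agent.Lib.Helper12.RelNoether5

/-!
# Perturbing a coordinate `a` to `a ^ n + b` keeps the fibre dimension bound: ring homs (helper12)
-/

set_option autoImplicit false
universe u
open MvPolynomial TensorProduct Topology

namespace Groth.Agent.Lib.Helper12.RelNoether

variable {R S : Type u} [CommRing R] [CommRing S] [Algebra R S]

/-- the ring `R[x][t_1, …, t_d]` -/
abbrev AA (R : Type u) [CommRing R] (d : ℕ) := MvPolynomial (Fin d) (Polynomial R)

/-- `x ↦ c`, `t_i ↦ t_i` -/
noncomputable def psi {d : ℕ} (c : S) (t : Fin d → S) : AA R d →+* S :=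
  MvPolynomial.eval₂Hom (Polynomial.eval₂RingHom (algebraMap R S) c) t

@[simp] theorem psi_X {d : ℕ} (c : S) (t : Fin d → S) (i : Fin d) :
    psi (R := R) c t (X i) = t i := by
  simp [psi]

@[simp] theorem psi_C {d : ℕ} (c : S) (t : Fin d → S) (z : Polynomial R) :
    psi (R := R) c t (C z) = Polynomial.eval₂ (algebraMap R S) c z := by
  simp [psi]

theorem psi_eq {d : ℕ} (c : S) (t : Fin d → S) :
    letI := (Polynomial.aeval (R := R) c).toRingHom.toAlgebra
    (aeval t : MvPolynomial (Fin d) (Polynomial R) →ₐ[Polynomial R] S).toRingHom = psi c t := by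
  letI := (Polynomial.aeval (R := R) c).toRingHom.toAlgebra
  apply MvPolynomial.ringHom_ext
  · intro z
    simp only [AlgHom.toRingHom_eq_coe, RingHom.coe_coe, aeval_C, psi_C]
    rfl
  · intro i
    simp

/-- `r ↦ r`, `x ↦ Y`, `t_i ↦ t_i` from `R[x][t]` to `R[x][t][Y]` -/
noncomputable def iotaA (d : ℕ) : AA R d →+* Polynomial (AA R d) :=
  MvPolynomial.eval₂Hom
    (Polynomial.eval₂RingHom ((Polynomial.C : AA R d →+* Polynomial (AA R d)).comp
      ((MvPolynomial.C : Polynomial R →+* AA R d).comp Polynomial.C)) Polynomial.X)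
    (fun i => Polynomial.C (MvPolynomial.X i))

/-- `Y ↦ a` over `psi c t` -/
noncomputable def omega {d : ℕ} (c : S) (t : Fin d → S) (a : S) : Polynomial (AA R d) →+* S :=
  Polynomial.eval₂RingHom (psi c t) a

theorem omega_comp_iotaA {d : ℕ} (c : S) (t : Fin d → S) (a : S) :
    (omega (R := R) c t a).comp (iotaA d) = psi a t := by
  apply MvPolynomial.ringHom_ext
  · intro z
    simp only [RingHom.comp_apply, psi_C]
    have : ((omega (R := R) c t a).comp ((iotaA d).comp MvPolynomial.C)) =
        Polynomial.eval₂RingHom (algebraMap R S) a := by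
      apply Polynomial.ringHom_ext
      · intro r
        simp [omega, iotaA]
      · simp [omega, iotaA]
    exact congrArg (fun f => f z) this
  · intro i
    simp [omega, iotaA]

/-- `Z ↦ x - Y ^ n` over `iotaA` -/
noncomputable def bigTheta (d n : ℕ) : Polynomial (AA R d) →+* Polynomial (AA R d) :=
  Polynomial.eval₂RingHom (iotaA d)
    (Polynomial.C (MvPolynomial.C Polynomial.X) - Polynomial.X ^ n)

theorem omega_comp_bigTheta {d : ℕ} (t : Fin d → S) (a b : S) (n : ℕ) :
    (omega (R := R) (a ^ n + b) t a).comp (bigTheta d n) = Polynomial.eval₂RingHom (psi a t) b := by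
  apply Polynomial.ringHom_ext
  · intro α
    have := congrArg (fun f => f α) (omega_comp_iotaA (R := R) (a ^ n + b) t a)
    simpa [bigTheta] using this
  · simp [bigTheta, omega]

/-- the `x`-degree of an element of `R[x][t]` -/
noncomputable def xdeg {d : ℕ} (h : AA R d) : ℕ := h.support.sup (fun m => (h.coeff m).natDegree)

/-- `R[x][t] → K[Y]`, `x ↦ Y`, `t_i ↦ u_i` -/
noncomputable def thetaBar {K : Type u} [CommRing K] (φ : R →+* K) {d : ℕ} (u : Fin d → K) :
    AA R d →+* Polynomial K :=
  MvPolynomial.eval₂Hom (Polynomial.mapRingHom φ) (fun i => Polynomial.C (u i))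

theorem natDegree_thetaBar_le {K : Type u} [CommRing K] (φ : R →+* K) {d : ℕ} (u : Fin d → K)
    (h : AA R d) : (thetaBar φ u h).natDegree ≤ xdeg h := by
  classical
  unfold thetaBar
  rw [MvPolynomial.coe_eval₂Hom, MvPolynomial.eval₂_eq]
  refine Polynomial.natDegree_sum_le_of_forall_le _ _ (fun m hm => ?_)
  have hconst : ∏ i ∈ m.support, (Polynomial.C (u i)) ^ m i =
      Polynomial.C (∏ i ∈ m.support, u i ^ m i) := by
    rw [map_prod]
    simp
  rw [hconst]
  refine (Polynomial.natDegree_mul_C_le _ _).trans ?_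
  refine (Polynomial.natDegree_map_le).trans ?_
  exact Finset.le_sup (f := fun m => (h.coeff m).natDegree) hm

theorem thetaBar_C {K : Type u} [CommRing K] (φ : R →+* K) {d : ℕ} (u : Fin d → K)
    (E : Polynomial R) : thetaBar φ u (C E) = E.map φ := by
  simp [thetaBar]

end Groth.Agent.Lib.Helper12.RelNoether
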