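import Mathlib
import Groth.Agent.Lib.Helper12.RelNoether6

/-!
# Perturbing a coordinate `a` to `a ^ n + b` keeps the fibre dimension bound (helper12)
-/

set_option autoImplicit false
universe u
open MvPolynomial TensorProduct Topology

namespace Groth.Agent.Lib.Helper12.RelNoether

variable {R S : Type u} [CommRing R] [CommRing S] [Algebra R S]

theorem exists_relation_data (a b : S) {d : ℕ} (t : Fin d → S)
    (hFF : letI := (Polynomial.aeval (R := R) a).toRingHom.toAlgebra; FF (Polynomial R) t)
    (p : PrimeSpectrum R) :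
    ∃ (g : R) (I₀ : Finset R) (N : ℕ) (E : Polynomial R) (H : Polynomial (AA R d)) (k : ℕ),
      g ∉ p.asIdeal ∧ (↑I₀ : Set R) ⊆ p.asIdeal ∧ H.natDegree ≤ N ∧ H.coeff N = C E ∧
      E.coeff k = g ∧
      Polynomial.eval₂ (psi a t) b H ∈ Ideal.map (algebraMap R S) (Ideal.span (I₀ : Set R)) := by
  letI algA := (Polynomial.aeval (R := R) a).toRingHom.toAlgebra
  have halgA : ∀ z, algebraMap (Polynomial R) S z = Polynomial.aeval a z := fun _ => rfl
  haveI hP : (Ideal.map Polynomial.C p.asIdeal).IsPrime :=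
    haveI := p.isPrime; Ideal.isPrime_map_C_of_isPrime
  let P : PrimeSpectrum (Polynomial R) := ⟨Ideal.map Polynomial.C p.asIdeal, hP⟩
  obtain ⟨N, E, H, hE, hdeg, hcoeff, hmem⟩ := exists_integral_relation t hFF b P
  rw [psi_eq] at hmem
  have hmap : Ideal.map (algebraMap (Polynomial R) S) P.asIdeal =
      Ideal.map (algebraMap R S) p.asIdeal := by
    change Ideal.map (algebraMap (Polynomial R) S) (Ideal.map Polynomial.C p.asIdeal) = _
    rw [Ideal.map_map]
    congr 1
    ext r
    simp [halgA]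
  rw [hmap] at hmem
  obtain ⟨I₀, hI₀, hz⟩ := exists_finset_of_mem_map p.asIdeal _ hmem
  have : ∃ k, E.coeff k ∉ p.asIdeal := by
    by_contra hcon
    push_neg at hcon
    exact hE (Ideal.mem_map_C_iff.mpr hcon)
  obtain ⟨k, hk⟩ := this
  exact ⟨E.coeff k, I₀, N, E, H, k, hk, hI₀, hdeg, hcoeff, rfl, hz⟩

theorem tmul_eq_zero_of_mem {A : Type u} [CommRing A] [Algebra R A] [Algebra A S]
    [IsScalarTower R A S] (𝔓 : Ideal A) [𝔓.IsPrime] (I₀ : Finset R)
    (hI : (↑I₀ : Set R) ⊆ (𝔓.under R : Ideal R)) (s : S)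
    (hs : s ∈ Ideal.map (algebraMap R S) (Ideal.span (I₀ : Set R))) :
    (1 : 𝔓.ResidueField) ⊗ₜ[A] s = 0 := by
  let incl : S →+* 𝔓.Fiber S := (Algebra.TensorProduct.includeRight :
    S →ₐ[A] 𝔓.Fiber S).toRingHom
  have hker : Ideal.map (algebraMap R S) (Ideal.span (I₀ : Set R)) ≤ RingHom.ker incl := by
    rw [Ideal.map_le_iff_le_comap, Ideal.span_le]
    intro r hr
    have hr' : algebraMap R A r ∈ 𝔓 := hI hr
    change (1 : 𝔓.ResidueField) ⊗ₜ[A] (algebraMap R S r) = 0
    rw [IsScalarTower.algebraMap_apply R A S, Algebra.algebraMap_eq_smul_one (A := S),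
      ← TensorProduct.smul_tmul, ← Algebra.algebraMap_eq_smul_one,
      (Ideal.algebraMap_residueField_eq_zero).mpr hr', zero_tmul]
  exact hker hs

theorem eval₂_ne_zero_of_degree {A' K : Type*} [CommRing A'] [Field K]
    (θ : A' →+* Polynomial K) (xbar : K) (n N : ℕ) (hn : 1 ≤ n)
    (H : Polynomial A') (hdeg : H.natDegree ≤ N) (htop : θ (H.coeff N) ≠ 0)
    (hD : ∀ j < N, (θ (H.coeff j)).natDegree < n) :
    Polynomial.eval₂ θ (Polynomial.C xbar - Polynomial.X ^ n) H ≠ 0 := by
  set W : Polynomial K := Polynomial.C xbar - Polynomial.X ^ n with hW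
  have hWdeg : W.natDegree = n := by
    rw [hW, Polynomial.natDegree_sub_eq_right_of_natDegree_lt, Polynomial.natDegree_X_pow]
    rw [Polynomial.natDegree_C, Polynomial.natDegree_X_pow]
    omega
  have hW0 : W ≠ 0 := by
    intro h0
    rw [h0, Polynomial.natDegree_zero] at hWdeg
    omega
  rw [Polynomial.eval₂_eq_sum_range' θ (Nat.lt_succ_of_le hdeg), Finset.sum_range_succ]
  set top := θ (H.coeff N) * W ^ N with htopdef
  set rest := ∑ j ∈ Finset.range N, θ (H.coeff j) * W ^ j with hrest
  have htop0 : top ≠ 0 := mul_ne_zero htop (pow_ne_zero _ hW0)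
  have htopdeg : N * n ≤ top.natDegree := by
    rw [htopdef, Polynomial.natDegree_mul htop (pow_ne_zero _ hW0), Polynomial.natDegree_pow, hWdeg]
    omega
  by_cases hN : N = 0
  · subst hN
    simp only [hrest, Finset.range_zero, Finset.sum_empty, zero_add]
    exact htop0
  · have hrestdeg : rest.natDegree ≤ N * n - 1 := by
      refine Polynomial.natDegree_sum_le_of_forall_le _ _ (fun j hj => ?_)
      have hjN : j < N := Finset.mem_range.mp hj
      have h1 : (θ (H.coeff j) * W ^ j).natDegree ≤ (θ (H.coeff j)).natDegree + j * n := by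
        refine (Polynomial.natDegree_mul_le).trans ?_
        have := Polynomial.natDegree_pow_le (p := W) (n := j)
        rw [hWdeg] at this
        omega
      have h2 := hD j hjN
      have h3 : (j + 1) * n ≤ N * n := Nat.mul_le_mul_right n hjN
      have h4 : (j + 1) * n = j * n + n := by ring
      omega
    have hNn : 1 ≤ N * n := Nat.one_le_iff_ne_zero.mpr (Nat.mul_ne_zero hN (by omega))
    intro hzero
    have : rest = -top := eq_neg_of_add_eq_zero_left hzero
    have h5 : rest.natDegree = top.natDegree := by rw [this, Polynomial.natDegree_neg]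
    omega

end Groth.Agent.Lib.Helper12.RelNoether
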