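import Mathlib
import Groth.Agent.Lib.Helper12.RelNoether7

/-!
# Perturbing a coordinate `a` to `a ^ n + b` keeps the fibre dimension bound: main theorem (helper12)
-/

set_option autoImplicit false
universe u
open MvPolynomial TensorProduct Topology

namespace Groth.Agent.Lib.Helper12.RelNoether

variable {R S : Type u} [CommRing R] [CommRing S] [Algebra R S]

set_option maxHeartbeats 1600000 in
theorem psi_quasiFinite [Algebra.FiniteType R S] {d : ℕ} (t : Fin d → S) (a b : S)
    (hQFa : (psi (R := R) a t).QuasiFinite) (n : ℕ) (hn : 1 ≤ n)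
    (hrel : ∀ q : PrimeSpectrum R, ∃ (g : R) (I₀ : Finset R) (N : ℕ) (E : Polynomial R)
      (H : Polynomial (AA R d)) (k : ℕ),
      g ∉ q.asIdeal ∧ (↑I₀ : Set R) ⊆ q.asIdeal ∧ H.natDegree ≤ N ∧ H.coeff N = C E ∧
      E.coeff k = g ∧
      Polynomial.eval₂ (psi a t) b H ∈ Ideal.map (algebraMap R S) (Ideal.span (I₀ : Set R)) ∧
      ∀ j < N, xdeg (H.coeff j) < n) :
    (psi (R := R) (a ^ n + b) t).QuasiFinite := by
  set c := a ^ n + b with hc
  letI algC : Algebra (AA R d) S := (psi (R := R) c t).toAlgebra
  have halgC : ∀ α, algebraMap (AA R d) S α = psi c t α := fun _ => rfl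
  haveI : IsScalarTower R (AA R d) S := IsScalarTower.of_algebraMap_eq fun r => by
    rw [halgC]
    have : algebraMap R (AA R d) r = C (Polynomial.C r) := rfl
    rw [this, psi_C, Polynomial.eval₂_C]
  haveI : Algebra.FiniteType (AA R d) S := Algebra.FiniteType.of_restrictScalars_finiteType R _ S
  show Algebra.QuasiFinite (AA R d) S
  refine ⟨fun 𝔓 h𝔓 => ?_⟩
  let q : PrimeSpectrum R := ⟨𝔓.under R, inferInstance⟩
  obtain ⟨g, I₀, N, E, H, k, hg, hI, hdeg, hcoeff, hEk, hmem, hD⟩ := hrel q
  let K := 𝔓.ResidueField
  let F := 𝔓.Fiber S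
  letI algY : Algebra (Polynomial (AA R d)) S := (omega (R := R) c t a).toAlgebra
  have halgY : ∀ z, algebraMap (Polynomial (AA R d)) S z = omega c t a z := fun _ => rfl
  haveI : IsScalarTower (AA R d) (Polynomial (AA R d)) S :=
    IsScalarTower.of_algebraMap_eq fun α => by
      rw [halgY, halgC, Polynomial.algebraMap_apply]
      simp [omega]
  haveI : Algebra.QuasiFinite (Polynomial (AA R d)) S := by
    have : ((omega (R := R) c t a).comp (iotaA d)).QuasiFinite := by
      rw [omega_comp_iotaA]; exact hQFa
    exact RingHom.QuasiFinite.of_comp this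
  let abar : F := (1 : K) ⊗ₜ[AA R d] a
  letI algKY : Algebra (Polynomial K) F :=
    (Polynomial.eval₂RingHom (algebraMap K F) abar).toAlgebra
  have halgKY : ∀ z, algebraMap (Polynomial K) F z = Polynomial.eval₂ (algebraMap K F) abar z :=
    fun _ => rfl
  haveI : IsScalarTower K (Polynomial K) F := IsScalarTower.of_algebraMap_eq fun r => by
    rw [halgKY, Polynomial.algebraMap_apply, Algebra.algebraMap_self_apply, Polynomial.eval₂_C]
  let τ : Polynomial (AA R d) →+* Polynomial K := Polynomial.mapRingHom (algebraMap (AA R d) K)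
  have hτ : ∀ z : Polynomial (AA R d), algebraMap (Polynomial K) F (τ z) =
      (1 : K) ⊗ₜ[AA R d] (algebraMap (Polynomial (AA R d)) S z) := by
    have : (algebraMap (Polynomial K) F).comp τ =
        (Algebra.TensorProduct.includeRight : S →ₐ[AA R d] F).toRingHom.comp
          (omega (R := R) c t a) := by
      apply Polynomial.ringHom_ext
      · intro α
        simp only [RingHom.comp_apply]
        change Polynomial.eval₂ (algebraMap K F) abar (Polynomial.map (algebraMap (AA R d) K)
          (Polynomial.C α)) = (1 : K) ⊗ₜ[AA R d] (omega (R := R) c t a (Polynomial.C α))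
        rw [Polynomial.map_C, Polynomial.eval₂_C]
        have h1 : omega (R := R) c t a (Polynomial.C α) = algebraMap (AA R d) S α := by
          simp [omega, halgC]
        rw [h1, Algebra.TensorProduct.algebraMap_apply, Algebra.algebraMap_self_apply,
          Algebra.algebraMap_eq_smul_one (A := S), Algebra.algebraMap_eq_smul_one (A := K)]
        exact TensorProduct.smul_tmul α (1 : K) (1 : S)
      · simp only [RingHom.comp_apply]
        change Polynomial.eval₂ (algebraMap K F) abar (Polynomial.map (algebraMap (AA R d) K)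
          Polynomial.X) = (1 : K) ⊗ₜ[AA R d] (omega (R := R) c t a Polynomial.X)
        rw [Polynomial.map_X, Polynomial.eval₂_X]
        simp [omega, abar]
    intro z
    exact congrArg (fun f => f z) this
  haveI : Algebra.QuasiFinite (Polynomial K) F :=
    quasiFinite_fiber (A := AA R d) (A₂ := Polynomial (AA R d)) (T := Polynomial K) 𝔓 τ hτ
  let Ψ : Polynomial K := τ (bigTheta d n H)
  have hroot : algebraMap (Polynomial K) F Ψ = 0 := by
    rw [hτ, halgY]
    have : omega (R := R) c t a (bigTheta d n H) = Polynomial.eval₂ (psi a t) b H :=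
      congrArg (fun f => f H) (omega_comp_bigTheta t a b n)
    rw [this]
    exact tmul_eq_zero_of_mem 𝔓 I₀ hI _ hmem
  have hne : Ψ ≠ 0 := by
    let φ : R →+* K := algebraMap R K
    let u : Fin d → K := fun i => algebraMap (AA R d) K (X i)
    have hθ : τ.comp (iotaA d) = thetaBar φ u := by
      apply MvPolynomial.ringHom_ext
      · intro z
        have : (τ.comp ((iotaA d).comp MvPolynomial.C)) = Polynomial.mapRingHom φ := by
          apply Polynomial.ringHom_ext
          · intro r
            simp only [RingHom.comp_apply, τ, iotaA, φ]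
            simp
            rfl
          · simp [τ, iotaA]
        have h2 := congrArg (fun f => f z) this
        simpa [thetaBar] using h2
      · intro i
        simp [τ, iotaA, thetaBar, u]
    have hΨ : Ψ = Polynomial.eval₂ (thetaBar φ u)
        (Polynomial.C (algebraMap (AA R d) K (C Polynomial.X)) - Polynomial.X ^ n) H := by
      change τ (Polynomial.eval₂ (iotaA d) _ H) = _
      rw [Polynomial.hom_eval₂, hθ]
      congr 1
      simp [τ]
    rw [hΨ]
    refine eval₂_ne_zero_of_degree _ _ n N hn H hdeg ?_ ?_
    · rw [hcoeff, thetaBar_C]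
      intro h0
      have := congrArg (fun f => Polynomial.coeff f k) h0
      simp only [Polynomial.coeff_map, Polynomial.coeff_zero, hEk] at this
      apply hg
      change algebraMap R (AA R d) g ∈ 𝔓
      rw [← Ideal.algebraMap_residueField_eq_zero, ← IsScalarTower.algebraMap_apply]
      exact this
    · intro j hj
      exact lt_of_le_of_lt (natDegree_thetaBar_le φ u _) (hD j hj)
  exact finite_of_quasiFinite_polynomial Ψ hne hroot

end Groth.Agent.Lib.Helper12.RelNoether
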