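import Mathlib
import Groth.Agent.Lib.Helper12.RelNoether8

/-!
# Perturbing a coordinate `a` to `a ^ n + b` keeps the fibre dimension bound: statement (helper12)
-/

set_option autoImplicit false
universe u
open MvPolynomial TensorProduct Topology

namespace Groth.Agent.Lib.Helper12.RelNoether

variable {R S : Type u} [CommRing R] [CommRing S] [Algebra R S]

theorem perturb [Algebra.FiniteType R S] (d : ℕ) (a b : S)
    (ha : ∀ P : PrimeSpectrum (Polynomial R),
      letI := (Polynomial.aeval (R := R) a).toRingHom.toAlgebra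
      ringKrullDim (P.asIdeal.Fiber S) ≤ d) :
    ∃ n₀ : ℕ, ∀ n ≥ n₀, ∀ P : PrimeSpectrum (Polynomial R),
      letI := (Polynomial.aeval (R := R) (a ^ n + b)).toRingHom.toAlgebra
      ringKrullDim (P.asIdeal.Fiber S) ≤ d := by
  classical
  have htower : ∀ c : S, letI := (Polynomial.aeval (R := R) c).toRingHom.toAlgebra
      IsScalarTower R (Polynomial R) S := fun c => by
    letI := (Polynomial.aeval (R := R) c).toRingHom.toAlgebra
    exact IsScalarTower.of_algebraMap_eq fun r => by
      change _ = Polynomial.aeval c (algebraMap R (Polynomial R) r)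
      simp
  obtain ⟨t, hFF, hQFa⟩ : ∃ t : Fin d → S,
      (letI := (Polynomial.aeval (R := R) a).toRingHom.toAlgebra; FF (Polynomial R) t) ∧
        (psi (R := R) a t).QuasiFinite := by
    letI algA := (Polynomial.aeval (R := R) a).toRingHom.toAlgebra
    haveI : IsScalarTower R (Polynomial R) S := htower a
    haveI : Algebra.FiniteType (Polynomial R) S :=
      Algebra.FiniteType.of_restrictScalars_finiteType R _ S
    obtain ⟨t, ht⟩ := exists_FF (R := Polynomial R) d (fun P => ha P)
    refine ⟨t, ht, ?_⟩
    rw [← psi_eq]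
    exact quasiFinite_of_FF t ht
  choose g I₀ N E H k hg hI hdeg hcoeff hEk hmem using
    fun p => exists_relation_data a b t hFF p
  obtain ⟨T, hT⟩ := exists_finite_cover g I₀ hg hI
  let D : PrimeSpectrum R → ℕ := fun p =>
    (Finset.range (N p)).sup (fun j => xdeg ((H p).coeff j))
  refine ⟨1 + T.sup D, fun n hn P => ?_⟩
  have hQFc : (psi (R := R) (a ^ n + b) t).QuasiFinite := by
    refine psi_quasiFinite t a b hQFa n (by omega) (fun q => ?_)
    obtain ⟨p, hpT, h1, h2⟩ := hT q
    refine ⟨g p, I₀ p, N p, E p, H p, k p, h1, h2, hdeg p, hcoeff p, hEk p, hmem p,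
      fun j hj => ?_⟩
    have h3 : xdeg ((H p).coeff j) ≤ D p :=
      Finset.le_sup (f := fun j => xdeg ((H p).coeff j)) (Finset.mem_range.mpr hj)
    have h4 : D p ≤ T.sup D := Finset.le_sup hpT
    omega
  letI algC := (Polynomial.aeval (R := R) (a ^ n + b)).toRingHom.toAlgebra
  haveI : IsScalarTower R (Polynomial R) S := htower (a ^ n + b)
  haveI : Algebra.FiniteType (Polynomial R) S :=
    Algebra.FiniteType.of_restrictScalars_finiteType R _ S
  exact ringKrullDim_fiber_le_of_quasiFinite t (by rw [psi_eq]; exact hQFc) P.asIdeal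

end Groth.Agent.Lib.Helper12.RelNoether
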