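import Mathlib
import Groth.Prelude.Def_Found
import Groth.Prelude.Def_FDesc
import Groth.Agent.Lib.Helper12.SecCompBC
import Groth.Agent.S4621

/-!
# Helper library (helper12): section components under arbitrary base change
(the connected component of a fibre through a rational point is geometrically connected)
-/

set_option autoImplicit false
universe u v
open AlgebraicGeometry CategoryTheory CategoryTheory.Limits

namespace Groth.Agent.Lib.Helper12.SecCompGC

open Groth.Agent.Lib.Helper12.SecComp Groth.Agent.Lib.Helper12.SecCompBC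

section Top

variable {F T : Type*} [TopologicalSpace F] [TopologicalSpace T]

/-- Connected components and embeddings. -/
theorem preimage_connectedComponentIn_range (ι : F → T) (hι : Topology.IsEmbedding ι) (w : F) :
    ι ⁻¹' connectedComponentIn (Set.range ι) (ι w) = connectedComponent w := by
  apply Set.Subset.antisymm
  · have hC : IsPreconnected (connectedComponentIn (Set.range ι) (ι w)) :=
      isPreconnected_connectedComponentIn
    have hsub : connectedComponentIn (Set.range ι) (ι w) ⊆ Set.range ι :=
      connectedComponentIn_subset _ _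
    have h1 : ι '' (ι ⁻¹' connectedComponentIn (Set.range ι) (ι w)) =
        connectedComponentIn (Set.range ι) (ι w) := by
      rw [Set.image_preimage_eq_inter_range, Set.inter_eq_left.mpr hsub]
    have h2 : IsPreconnected (ι ⁻¹' connectedComponentIn (Set.range ι) (ι w)) := by
      rw [← hι.isInducing.isPreconnected_image, h1]; exact hC
    exact h2.subset_connectedComponent (mem_connectedComponentIn ⟨w, rfl⟩)
  · intro t ht
    have h1 : IsPreconnected (ι '' connectedComponent w) :=
      isPreconnected_connectedComponent.image _ hι.continuous.continuousOn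
    have h2 : ι '' connectedComponent w ⊆ Set.range ι := Set.image_subset_range _ _
    have h3 : ι w ∈ ι '' connectedComponent w := ⟨w, mem_connectedComponent, rfl⟩
    exact h1.subset_connectedComponentIn h3 h2 ⟨t, ht, rfl⟩

end Top

section Sq

variable {X Y X' Y' : Scheme.{u}} (f : X ⟶ Y) (f' : X' ⟶ Y') (g' : X' ⟶ X) (g : Y' ⟶ Y)

/-- Transfer of preconnectedness of the geometric fibre preimage of a set `C` to the fibre of a
base change. -/
theorem isPreconnected_fibre_of_isPullback (hc : IsPullback g' f' f g) (y'' : Y') (C : Set X)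
    (hpre : _root_.IsPreconnected
      ((@FBase.bcπ (IsLocalRing.ResidueField (Y.presheaf.stalk (g y''))) _ _
        (f.fiberToSpecResidueField (g y'')) (Y'.residueField y'') _
        (g.residueFieldMap y'').hom.toAlgebra ≫ f.fiberι (g y'')).base ⁻¹' C)) :
    _root_.IsPreconnected {t : X' | f' t = y'' ∧ g' t ∈ C} := by
  let A : f'.fiber y'' ⟶ f.fiber (g y'') :=
    pullback.map f' (Y'.fromSpecResidueField y'') f (Y.fromSpecResidueField (g y'')) g'
      (Spec.map (g.residueFieldMap y'')) g hc.w.symm (by simp)
  have hP : IsPullback A (f'.fiberToSpecResidueField y'') (f.fiberToSpecResidueField (g y''))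
      (Spec.map (g.residueFieldMap y'')) :=
    isPullback_fiberToSpecResidueField_of_isPullback hc y''
  have hAι : A ≫ f.fiberι (g y'') = f'.fiberι y'' ≫ g' := pullback.lift_fst _ _ _
  letI : Algebra (IsLocalRing.ResidueField (Y.presheaf.stalk (g y'')))
      (Y'.residueField y'') := (g.residueFieldMap y'').hom.toAlgebra
  let e : f'.fiber y'' ≅ FBase.bc (f.fiberToSpecResidueField (g y'')) (Y'.residueField y'') :=
    hP.isoPullback
  have he : e.hom ≫ FBase.bcπ (f.fiberToSpecResidueField (g y'')) (Y'.residueField y'') = A :=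
    hP.isoPullback_hom_fst
  set Q := (FBase.bcπ (f.fiberToSpecResidueField (g y'')) (Y'.residueField y'') ≫
        f.fiberι (g y'')).base ⁻¹' C with hQ
  have hQpre : _root_.IsPreconnected Q := hpre
  have hR : _root_.IsPreconnected (e.inv.base '' Q) :=
    hQpre.image _ (Scheme.Hom.continuous _).continuousOn
  have hR2 : _root_.IsPreconnected ((f'.fiberι y'').base '' (e.inv.base '' Q)) :=
    hR.image _ (Scheme.Hom.continuous _).continuousOn
  convert hR2 using 1
  ext t
  simp only [Set.mem_setOf_eq, Set.mem_image]
  constructor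
  · rintro ⟨ht1, ht2⟩
    let w : f'.fiber y'' := (f'.fiberHomeo y'').symm ⟨t, ht1⟩
    have hw : f'.fiberι y'' w = t := f'.fiberι_fiberHomeo_symm y'' ⟨t, ht1⟩
    refine ⟨w, ⟨e.hom w, ?_, ?_⟩, hw⟩
    · rw [hQ]
      simp only [Set.mem_preimage]
      have h1 : (e.hom ≫ FBase.bcπ (f.fiberToSpecResidueField (g y'')) (Y'.residueField y'') ≫
          f.fiberι (g y'')) w = g' t := by
        rw [← Category.assoc, he, hAι, Scheme.Hom.comp_apply, hw]
      rw [Scheme.Hom.comp_apply] at h1
      rw [h1]
      exact ht2
    · have := congrArg (fun ψ : f'.fiber y'' ⟶ f'.fiber y'' => ψ w) e.hom_inv_id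
      simpa using this
  · rintro ⟨w, ⟨q, hq, rfl⟩, rfl⟩
    refine ⟨?_, ?_⟩
    · have h3 : f'.fiberι y'' (e.inv q) ∈ Set.range (f'.fiberι y'') := ⟨_, rfl⟩
      rw [Scheme.Hom.range_fiberι] at h3
      exact h3
    · have h1 : (e.inv ≫ f'.fiberι y'' ≫ g') q =
          (FBase.bcπ (f.fiberToSpecResidueField (g y'')) (Y'.residueField y'') ≫
            f.fiberι (g y'')) q := by
        rw [← hAι, ← he]
        simp
      rw [Scheme.Hom.comp_apply, Scheme.Hom.comp_apply] at h1
      rw [h1]
      exact hq

end Sq

section Rat

variable {X Y : Scheme.{u}} (f : X ⟶ Y) (s : Y ⟶ X) (hs : s ≫ f = 𝟙 Y)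

/-- The identity of the spectrum of a field is geometrically connected. -/
theorem geometricallyConnected_id (k : Type u) [Field k] :
    GeometricallyConnected (𝟙 (Spec (CommRingCat.of k))) := by
  refine ⟨?_⟩
  intro K _ y Z fst snd h
  haveI : IsIso snd := h.isIso_snd_of_isIso
  show ConnectedSpace Z
  have hhomeo : Z ≃ₜ ↥(Spec (CommRingCat.of K)) := Scheme.homeoOfIso (asIso snd)
  haveI : ConnectedSpace ↥(Spec (CommRingCat.of K)) := by
    haveI : Subsingleton ↥(Spec (CommRingCat.of K)) :=
      inferInstanceAs (Subsingleton (PrimeSpectrum K))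
    haveI : Nonempty ↥(Spec (CommRingCat.of K)) := inferInstanceAs (Nonempty (PrimeSpectrum K))
    infer_instance
  exact hhomeo.symm.surjective.connectedSpace hhomeo.symm.continuous

include hs in
/-- The preimage of the section component of the fibre over `y` in any field base change of the
fibre is connected. -/
theorem isPreconnected_preimage_sectionComponent (y : Y) (K : Type u) [Field K]
    [Algebra (IsLocalRing.ResidueField (Y.presheaf.stalk y)) K] :
    _root_.IsPreconnected ((FBase.bcπ (f.fiberToSpecResidueField y) K ≫ f.fiberι y).base ⁻¹'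
      connectedComponentIn (f.base ⁻¹' {y}) (s.base y)) := by
  -- the rational point
  let ρ : Spec (Y.residueField y) ⟶ f.fiber y :=
    pullback.lift (Y.fromSpecResidueField y ≫ s) (𝟙 _) (by
      rw [Category.assoc, hs, Category.comp_id, Category.id_comp])
  have hρ1 : ρ ≫ f.fiberι y = Y.fromSpecResidueField y ≫ s := pullback.lift_fst _ _ _
  have hρ2 : ρ ≫ f.fiberToSpecResidueField y = 𝟙 _ := pullback.lift_snd _ _ _
  obtain ⟨pt⟩ : Nonempty ↥(Spec (Y.residueField y)) :=
    inferInstanceAs (Nonempty (PrimeSpectrum (Y.residueField y)))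
  haveI := geometricallyConnected_id (IsLocalRing.ResidueField (Y.presheaf.stalk y))
  have hconn := Groth.Agent.S4621.result (K := K) (f.fiberToSpecResidueField y)
    (𝟙 (Spec (CommRingCat.of (IsLocalRing.ResidueField (Y.presheaf.stalk y))))) ρ hρ2 pt
  have hpt : (f.fiberι y).base (ρ.base pt) = s.base y := by
    rw [← Scheme.Hom.comp_apply, hρ1, Scheme.Hom.comp_apply, Scheme.fromSpecResidueField_apply]
  have hcc : (f.fiberι y).base ⁻¹' connectedComponentIn (f.base ⁻¹' {y}) (s.base y) =
      connectedComponent (ρ.base pt) := by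
    rw [← hpt, ← Scheme.Hom.range_fiberι f y]
    exact preimage_connectedComponentIn_range _ (f.fiberι y).isEmbedding _
  rw [Scheme.Hom.comp_base, TopCat.coe_comp, Set.preimage_comp, hcc]
  exact hconn.isPreconnected

end Rat

section Main

variable {X Y X' Y' : Scheme.{u}} (f : X ⟶ Y) (s : Y ⟶ X) (hs : s ≫ f = 𝟙 Y)
  (f' : X' ⟶ Y') (g' : X' ⟶ X) (g : Y' ⟶ Y) (hc : IsPullback g' f' f g)
  (s' : Y' ⟶ X') (hs' : s' ≫ f' = 𝟙 Y') (hs'g : s' ≫ g' = g ≫ s)

include hs hc hs' hs'g in
/-- The section component of a base change is the preimage of the section component. -/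
theorem connectedComponentIn_of_isPullback (y' : Y') :
    connectedComponentIn (f'.base ⁻¹' {y'}) (s'.base y') =
      {t : X' | f'.base t = y' ∧
        g'.base t ∈ connectedComponentIn (f.base ⁻¹' {g.base y'}) (s.base (g.base y'))} := by
  have hpre := isPreconnected_fibre_of_isPullback f f' g' g hc y'
    (connectedComponentIn (f.base ⁻¹' {g.base y'}) (s.base (g.base y')))
    (@isPreconnected_preimage_sectionComponent _ _ f s hs (g.base y') (Y'.residueField y') _
      (g.residueFieldMap y').hom.toAlgebra)
  have hs1 : f'.base (s'.base y') = y' := by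
    have := congrArg (fun ψ : Y' ⟶ Y' => ψ.base y') hs'
    simpa using this
  have hs2 : g'.base (s'.base y') = s.base (g.base y') := by
    have := congrArg (fun ψ : Y' ⟶ X => ψ.base y') hs'g
    simpa using this
  have hfs : f.base (s.base (g.base y')) = g.base y' := sec_apply f s hs _
  have hcomm : ∀ t : X', f.base (g'.base t) = g.base (f'.base t) := by
    intro t
    have := congrArg (fun ψ : X' ⟶ Y => ψ.base t) hc.w
    simpa using this
  apply Set.Subset.antisymm
  · intro t ht
    have ht1 : t ∈ f'.base ⁻¹' {y'} := connectedComponentIn_subset _ _ ht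
    refine ⟨ht1, ?_⟩
    have h1 : _root_.IsPreconnected (g'.base '' connectedComponentIn (f'.base ⁻¹' {y'}) (s'.base y')) :=
      isPreconnected_connectedComponentIn.image _ (Scheme.Hom.continuous _).continuousOn
    have h2 : g'.base '' connectedComponentIn (f'.base ⁻¹' {y'}) (s'.base y') ⊆
        f.base ⁻¹' {g.base y'} := by
      rintro _ ⟨t', ht', rfl⟩
      have ht1' : t' ∈ f'.base ⁻¹' {y'} := connectedComponentIn_subset _ _ ht'
      show f.base (g'.base t') = g.base y'
      rw [hcomm, ht1']
    have h3 : s.base (g.base y') ∈ g'.base '' connectedComponentIn (f'.base ⁻¹' {y'}) (s'.base y') :=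
      ⟨s'.base y', mem_connectedComponentIn hs1, hs2⟩
    exact h1.subset_connectedComponentIn h3 h2 ⟨t, ht, rfl⟩
  · refine hpre.subset_connectedComponentIn ?_ ?_
    · refine ⟨hs1, ?_⟩
      rw [hs2]
      exact mem_connectedComponentIn hfs
    · intro t ht
      exact ht.1

end Main

end Groth.Agent.Lib.Helper12.SecCompGC
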