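import Mathlib
import Groth.Prelude.Def_MoreMor
import Groth.Agent.Lib.Helper12.SecCompGC
import Groth.Agent.Lib.Helper12.GeomConnLocus
import Groth.Agent.Lib.Helper12.LimConnComp
import Groth.Agent.Lib.Helper28.GenFibreTop
import Groth.Agent.Lib.Helper11.FX1
import Groth.Agent.Lib.Helper14.SmoothInsepSch
import Groth.Agent.Lib.Helper12.ClosedSub
import Groth.Agent.S1324

/-!
# Section components are open and closed near the generic point (helper12)

For `f : X ⟶ Y` of finite type with a section `s` and `Y` irreducible, there is a nonempty open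
`V ⊆ Y` such that the section components of `(f, s)` form an open and closed subset of `f⁻¹(V)`.
-/

set_option autoImplicit false
set_option linter.style.haveILetI false
universe u
open AlgebraicGeometry CategoryTheory Limits Topology TopologicalSpace

namespace Groth.Agent.Lib.Helper12.SecCompOpen

section Red

/-- For a reduced source the kernel is the vanishing ideal of the closure of the image
(after helper11's `GrpdI`). -/
theorem ker_eq_vanishingIdeal_of_isReduced {X Y : Scheme.{u}} (f : X ⟶ Y) [IsReduced X] :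
    f.ker = Scheme.IdealSheafData.vanishingIdeal (.closure (Set.range f)) := by
  rw [← Scheme.IdealSheafData.map_bot, ← Scheme.nilradical_eq_bot,
    ← Scheme.IdealSheafData.vanishingIdeal_top, Scheme.IdealSheafData.map_vanishingIdeal]
  congr 2
  simp

/-- morphisms from reduced schemes landing in a closed set factor through its reduced structure -/
theorem exists_lift_of_isReduced {X T : Scheme.{u}} [IsReduced T] (C : Closeds X) (g : T ⟶ X)
    (hg : Set.range g ⊆ (C : Set X)) :
    ∃ g' : T ⟶ (Scheme.IdealSheafData.vanishingIdeal C).subscheme,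
      g' ≫ (Scheme.IdealSheafData.vanishingIdeal C).subschemeι = g := by
  have H : (Scheme.IdealSheafData.vanishingIdeal C).subschemeι.ker ≤ g.ker := by
    rw [Scheme.IdealSheafData.ker_subschemeι, ker_eq_vanishingIdeal_of_isReduced]
    apply Scheme.IdealSheafData.vanishingIdeal_antimono
    rw [Closeds.closure_le]
    exact hg
  exact ⟨IsClosedImmersion.lift _ g H, IsClosedImmersion.lift_fac _ g H⟩

theorem range_subschemeι_vanishingIdeal {X : Scheme.{u}} (C : Closeds X) :
    Set.range (Scheme.IdealSheafData.vanishingIdeal C).subschemeι = (C : Set X) := by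
  rw [Scheme.IdealSheafData.range_subschemeι]
  exact Scheme.IdealSheafData.coe_support_vanishingIdeal _

end Red

section L1

variable {X Y : Scheme.{u}} (f : X ⟶ Y)

/-- A closed subset missing the generic fibre misses the fibres over a neighbourhood of the generic
point. -/
theorem exists_open_disjoint [IrreducibleSpace Y] [LocallyOfFiniteType f] [QuasiCompact f]
    (E : Set X) (hE : IsClosed E) (hgen : ∀ x ∈ E, f x ≠ genericPoint Y) :
    ∃ V : Y.Opens, genericPoint Y ∈ V ∧ ∀ x ∈ E, f x ∉ V := by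
  let I := Scheme.IdealSheafData.vanishingIdeal ⟨E, hE⟩
  have hr : Set.range I.subschemeι = E := range_subschemeι_vanishingIdeal ⟨E, hE⟩
  obtain ⟨V, hηV, hV⟩ := Groth.Agent.Lib.Helper28.GenFibreTop.exists_open_preimage_subset_iUnion
    (I.subschemeι ≫ f) (ι := Empty) (fun i => i.elim) (fun i => i.elim) (by
      intro z hz
      exfalso
      have hzE : I.subschemeι z ∈ E := hr ▸ ⟨z, rfl⟩
      exact hgen _ hzE (by simpa using hz))
  refine ⟨V, hηV, fun x hx hxV => ?_⟩
  obtain ⟨z, rfl⟩ : x ∈ Set.range I.subschemeι := hr ▸ hx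
  have h1 : z ∈ (I.subschemeι ≫ f) ⁻¹' (V : Set Y) := by
    simpa using hxV
  have := hV h1
  simpa using this

end L1

section Core

theorem closure_image_inter_range {A B : Type*} [TopologicalSpace A] [TopologicalSpace B]
    (φ : A → B) (hφ : IsInducing φ) (S : Set A) (hS : IsClosed S) :
    closure (φ '' S) ∩ Set.range φ = φ '' S := by
  apply Set.Subset.antisymm
  · rintro _ ⟨hx, z, rfl⟩
    have : z ∈ closure S := by rw [hφ.closure_eq_preimage_closure_image]; exact hx
    rw [hS.closure_eq] at this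
    exact ⟨z, this, rfl⟩
  · rintro _ ⟨z, hz, rfl⟩
    exact ⟨subset_closure ⟨z, hz, rfl⟩, z, rfl⟩

variable {X Y : Scheme.{u}} (f : X ⟶ Y) (s : Y ⟶ X) (hs : s ≫ f = 𝟙 Y)

include hs in
/-- **Core**: over an irreducible base, the section components are cut out by a closed set `C`
which is open over a neighbourhood of the generic point. -/
theorem core [IrreducibleSpace Y] [LocallyOfFiniteType f] [QuasiCompact f] :
    ∃ (V : Y.Opens) (C : Set X), genericPoint Y ∈ V ∧ IsClosed C ∧
      IsOpen (C ∩ f ⁻¹' (V : Set Y)) ∧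
      ∀ x, f x ∈ V → (x ∈ MoreMor.sectionComponents f s ↔ x ∈ C) := by
  classical
  set η := genericPoint Y with hη
  have hfs : ∀ y, f (s y) = y := fun y => Groth.Agent.Lib.Helper12.SecCompBC.sec_apply f s hs y
  let φ := f.fiberι η
  have hφ : IsEmbedding φ := (f.fiberι η).isEmbedding
  have hrange : Set.range φ = f ⁻¹' {η} := f.range_fiberι η
  obtain ⟨w, hw⟩ : ∃ w, φ w = s η := by
    have : s η ∈ Set.range φ := by rw [hrange]; exact hfs η
    exact this
  haveI : LocallyOfFiniteType (f.fiberToSpecResidueField η) :=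
    MorphismProperty.pullback_snd (P := @LocallyOfFiniteType) _ _ inferInstance
  haveI : QuasiCompact (f.fiberToSpecResidueField η) :=
    MorphismProperty.pullback_snd (P := @QuasiCompact) _ _ inferInstance
  haveI : IsNoetherian (f.fiber η) :=
    Groth.Agent.Lib.Helper14.SmoothInsepSch.isNoetherian_of_lft_qc (Y.residueField η)
      (f.fiberToSpecResidueField η)
  have hcl := Groth.Agent.Lib.Helper12.LimConnComp.isClopen_connectedComponent_of_noetherianSpace w
  set K := connectedComponentIn (f ⁻¹' {η}) (s η) with hK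
  have hKeq : K = φ '' connectedComponent w := by
    have h1 := Groth.Agent.Lib.Helper12.SecCompGC.preimage_connectedComponentIn_range φ hφ w
    rw [hw, hrange] at h1
    rw [← h1, Set.image_preimage_eq_of_subset]
    rw [hrange]; exact connectedComponentIn_subset _ _
  set Tη := φ '' (connectedComponent w)ᶜ with hTη
  set C := closure K with hC
  set T := closure Tη with hT
  have hCF : C ∩ f ⁻¹' {η} = K := by
    rw [hC, hKeq, ← hrange]; exact closure_image_inter_range φ hφ.isInducing _ hcl.1
  have hTF : T ∩ f ⁻¹' {η} = Tη := by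
    rw [hT, hTη, ← hrange]
    exact closure_image_inter_range φ hφ.isInducing _ hcl.2.isClosed_compl
  have hdisj : ∀ x, x ∈ K → x ∈ Tη → False := by
    rw [hKeq]; rintro _ ⟨a, ha, rfl⟩ ⟨b, hb, hab⟩
    exact hb (hφ.injective hab ▸ ha)
  have hcov : f ⁻¹' {η} ⊆ K ∪ Tη := by
    rw [← hrange, hKeq]; rintro _ ⟨z, rfl⟩
    by_cases hz : z ∈ connectedComponent w
    · left; exact ⟨z, hz, rfl⟩
    · right; exact ⟨z, hz, rfl⟩
  have hsηK : s η ∈ K := mem_connectedComponentIn (hfs η)
  -- V₁
  obtain ⟨V₁, hηV₁, hV₁⟩ :=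
    Groth.Agent.Lib.Helper28.GenFibreTop.exists_open_preimage_subset_iUnion f (ι := Bool)
      (fun b => if b then C else T) (fun b => by cases b <;> simp [hC, hT, isClosed_closure]) (by
      intro x hx
      rcases hcov hx with h | h
      · exact Set.mem_iUnion.2 ⟨true, by simpa using subset_closure h⟩
      · exact Set.mem_iUnion.2 ⟨false, by simpa using subset_closure h⟩)
  have hV₁' : ∀ x, f x ∈ V₁ → x ∈ C ∨ x ∈ T := by
    intro x hx
    obtain ⟨b, hb⟩ := Set.mem_iUnion.1 (hV₁ hx)
    cases b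
    · right; simpa using hb
    · left; simpa using hb
  -- V₂
  obtain ⟨V₂, hηV₂, hV₂⟩ := exists_open_disjoint f (C ∩ T)
    (isClosed_closure.inter isClosed_closure) (by
      rintro x ⟨hxC, hxT⟩ hfx
      have h1 : x ∈ K := by rw [← hCF]; exact ⟨hxC, hfx⟩
      have h2 : x ∈ Tη := by rw [← hTF]; exact ⟨hxT, hfx⟩
      exact hdisj x h1 h2)
  -- the closed subscheme on `C`
  let Cc : Closeds X := ⟨C, isClosed_closure⟩
  let I := Scheme.IdealSheafData.vanishingIdeal Cc
  let i : I.subscheme ⟶ X := I.subschemeι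
  have hri : Set.range i = C := range_subschemeι_vanishingIdeal Cc
  have hi : IsEmbedding i := i.isEmbedding
  let h : I.subscheme ⟶ Y := i ≫ f
  have hhapp : ∀ z, h z = f (i z) := fun z => rfl
  have himg : ∀ y : Y, i '' (h ⁻¹' {y}) = C ∩ f ⁻¹' {y} := by
    intro y
    rw [← hri]
    ext x; constructor
    · rintro ⟨z, hz, rfl⟩; exact ⟨⟨z, rfl⟩, hz⟩
    · rintro ⟨⟨z, rfl⟩, hz⟩; exact ⟨z, hz, rfl⟩
  have hGC : η ∈ Groth.Agent.Lib.Helper12.GeomConnLocus.GC h := by
    show GeometricallyConnected (h.fiberToSpecResidueField η)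
    have hpre : _root_.IsPreconnected (h ⁻¹' {η}) := by
      rw [← hi.isInducing.isPreconnected_image, himg η, hCF]
      exact isPreconnected_connectedComponentIn
    obtain ⟨c, hc⟩ : ∃ c, i c = s η := by
      have : s η ∈ Set.range i := by rw [hri]; exact subset_closure hsηK
      exact this
    haveI : ConnectedSpace (h.fiber η) := by
      have hne : (h ⁻¹' {η}).Nonempty := ⟨c, by
        show h c = η
        rw [hhapp, hc]; exact hfs η⟩
      have hconn : _root_.IsConnected (h ⁻¹' {η}) := ⟨hne, hpre⟩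
      haveI : ConnectedSpace ↥(h ⁻¹' {η}) := isConnected_iff_connectedSpace.mp hconn
      exact (h.fiberHomeo η).symm.surjective.connectedSpace (h.fiberHomeo η).symm.continuous
    obtain ⟨a, ha⟩ := exists_lift_of_isReduced Cc (Y.fromSpecResidueField η ≫ s) (by
      rintro _ ⟨z, rfl⟩
      have : (Y.fromSpecResidueField η ≫ s) z = s η := by
        rw [Scheme.Hom.comp_apply, Scheme.fromSpecResidueField_apply]
      rw [this]; exact subset_closure hsηK)
    let σ : Spec (Y.residueField η) ⟶ h.fiber η := pullback.lift a (𝟙 _) (by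
      rw [Category.id_comp]
      show a ≫ i ≫ f = _
      rw [← Category.assoc, ha, Category.assoc, hs, Category.comp_id])
    have hσ : σ ≫ h.fiberToSpecResidueField η = 𝟙 _ := pullback.lift_snd _ _ _
    exact Groth.Agent.Lib.Helper11.FX1.geometricallyConnected_of_section (Y.residueField η)
      (h.fiberToSpecResidueField η) σ hσ
  obtain ⟨V₄, hV₄ne, hV₄⟩ := Groth.Agent.Lib.Helper12.GeomConnLocus.geomConn_near_generic h hGC
  have hηV₄ : η ∈ V₄ := by
    show genericPoint Y ∈ (V₄ : Set Y)
    rw [(genericPoint_spec Y).mem_open_set_iff V₄.isOpen]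
    simpa using hV₄ne
  set V : Y.Opens := V₁ ⊓ V₂ ⊓ V₄ with hVdef
  have hVmem : ∀ y, y ∈ V → y ∈ V₁ ∧ y ∈ V₂ ∧ y ∈ V₄ := fun y hy => ⟨hy.1.1, hy.1.2, hy.2⟩
  -- exclusivity
  have hexcl : ∀ x, f x ∈ V → x ∈ C → x ∈ T → False := fun x hxV hxC hxT =>
    hV₂ x ⟨hxC, hxT⟩ (hVmem _ hxV).2.1
  have hor : ∀ x, f x ∈ V → x ∈ C ∨ x ∈ T := fun x hxV => hV₁' x (hVmem _ hxV).1
  have hηV : η ∈ V := ⟨⟨hηV₁, hηV₂⟩, hηV₄⟩
  -- the section lands in `C`
  have hsC : ∀ y, y ∈ V → s y ∈ C := by
    intro y₀ hy₀
    by_contra hcon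
    have hu : IsOpen ((s ⁻¹' Tᶜ) ∩ (V : Set Y)) :=
      (isClosed_closure.isOpen_compl.preimage s.continuous).inter V.isOpen
    have hv : IsOpen ((s ⁻¹' Cᶜ) ∩ (V : Set Y)) :=
      (isClosed_closure.isOpen_compl.preimage s.continuous).inter V.isOpen
    have hune : ((s ⁻¹' Tᶜ) ∩ (V : Set Y)).Nonempty := by
      refine ⟨η, ?_, hηV⟩
      intro hT'
      exact hexcl (s η) (by rw [hfs]; exact hηV) (subset_closure hsηK) hT'
    have hvne : ((s ⁻¹' Cᶜ) ∩ (V : Set Y)).Nonempty := ⟨y₀, hcon, hy₀⟩
    obtain ⟨z, ⟨hz1, hzV⟩, ⟨hz2, -⟩⟩ := nonempty_preirreducible_inter hu hv hune hvne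
    rcases hor (s z) (by rw [hfs]; exact hzV) with h' | h'
    · exact hz2 h'
    · exact hz1 h'
  refine ⟨V, C, hηV, isClosed_closure, ?_, ?_⟩
  · have : C ∩ f ⁻¹' (V : Set Y) = f ⁻¹' (V : Set Y) ∩ Tᶜ := by
      ext x; constructor
      · rintro ⟨hxC, hxV⟩; exact ⟨hxV, fun hxT => hexcl x hxV hxC hxT⟩
      · rintro ⟨hxV, hxT⟩; exact ⟨(hor x hxV).resolve_right hxT, hxV⟩
    rw [this]; exact (V.isOpen.preimage f.continuous).inter isClosed_closure.isOpen_compl
  · intro x hxV
    have hDconn : _root_.IsPreconnected (C ∩ f ⁻¹' {f x}) := by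
      have hy4 : f x ∈ Groth.Agent.Lib.Helper12.GeomConnLocus.GC h := hV₄ _ (hVmem _ hxV).2.2
      haveI : GeometricallyConnected (h.fiberToSpecResidueField (f x)) := hy4
      haveI : ConnectedSpace (h.fiber (f x)) :=
        GeometricallyConnected.connectedSpace_of_subsingleton (h.fiberToSpecResidueField (f x))
      rw [← himg, ← h.range_fiberι, ← Set.image_univ]
      exact ((isConnected_univ.image _ (h.fiberι _).continuous.continuousOn).image _
        i.continuous.continuousOn).isPreconnected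
    show x ∈ connectedComponentIn (f ⁻¹' {f x}) (s (f x)) ↔ x ∈ C
    constructor
    · intro hx
      by_contra hxC
      have hKx : _root_.IsPreconnected (connectedComponentIn (f ⁻¹' {f x}) (s (f x))) :=
        isPreconnected_connectedComponentIn
      have hsub : connectedComponentIn (f ⁻¹' {f x}) (s (f x)) ⊆ Tᶜ ∪ Cᶜ := by
        intro z hz
        have hfz : f z = f x := (connectedComponentIn_subset (f ⁻¹' {f x}) (s (f x))) hz
        by_cases hzC : z ∈ C
        · left; exact fun hzT => hexcl z (by rw [hfz]; exact hxV) hzC hzT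
        · right; exact hzC
      obtain ⟨z, hz, hz1, hz2⟩ := hKx Tᶜ Cᶜ isClosed_closure.isOpen_compl
        isClosed_closure.isOpen_compl hsub
        ⟨s (f x), mem_connectedComponentIn (hfs (f x)), fun hT' =>
          hexcl (s (f x)) (by rw [hfs]; exact hxV) (hsC _ hxV) hT'⟩
        ⟨x, hx, hxC⟩
      have hfz : f z = f x := (connectedComponentIn_subset (f ⁻¹' {f x}) (s (f x))) hz
      rcases hor z (by rw [hfz]; exact hxV) with h' | h'
      · exact hz2 h'
      · exact hz1 h'
    · intro hxC
      exact hDconn.subset_connectedComponentIn ⟨hsC _ hxV, hfs (f x)⟩ Set.inter_subset_right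
        ⟨hxC, rfl⟩

end Core

section Main

open Groth.Agent.Lib.Helper12.ClosedSub

variable {X Y : Scheme.{u}} (f : X ⟶ Y) (s : Y ⟶ X) (hs : s ≫ f = 𝟙 Y)

include hs in
/-- **Section components are open and closed over a neighbourhood of a point in its closure.** -/
theorem sectionComponents_clopen_near [LocallyOfFiniteType f] [QuasiCompact f] (y : Y) :
    ∃ V : Set Y, V ⊆ closure {y} ∧ y ∈ V ∧
      IsOpen (Subtype.val ⁻¹' V : Set ↥(closure ({y} : Set Y))) ∧
      IsClopen (Subtype.val ⁻¹' MoreMor.sectionComponents f s : Set ↥(f ⁻¹' V)) := by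
  classical
  let g := clSubι Y y
  let f' := pullback.snd f g
  let g' := pullback.fst f g
  let s' := Groth.Agent.Lib.Helper12.SecCompBC.sec' f g s hs
  have hs' : s' ≫ f' = 𝟙 _ := Groth.Agent.Lib.Helper12.SecCompBC.sec'_snd f g s hs
  have hs'g : s' ≫ g' = g ≫ s := Groth.Agent.Lib.Helper12.SecCompBC.sec'_fst f g s hs
  have hsq : IsPullback g' f' f g := IsPullback.of_hasPullback f g
  obtain ⟨V', C', hηV', hC', hopen', hiff'⟩ := core f' s' hs'
  have hsc : MoreMor.sectionComponents f' s' = g' ⁻¹' MoreMor.sectionComponents f s :=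
    Groth.Agent.S1324.result f s hs f' g' g hsq s' hs' hs'g
  have hginj : Function.Injective g := g.isEmbedding.injective
  have hg'inj : Function.Injective g' := g'.isEmbedding.injective
  have hrg' : Set.range g' = f ⁻¹' Set.range g := Scheme.Pullback.range_fst f g
  have hcomm : ∀ t, f (g' t) = g (f' t) := by
    intro t
    have := congrArg (fun ψ : pullback f g ⟶ Y => ψ t) hsq.w
    simpa using this
  have hlift : ∀ x, f x ∈ g '' (V' : Set (clSub Y y)) → ∃ t, g' t = x ∧ f' t ∈ V' := by
    rintro x ⟨z, hz, hzx⟩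
    have hx : x ∈ Set.range g' := by rw [hrg']; exact ⟨z, hzx⟩
    obtain ⟨t, rfl⟩ := hx
    refine ⟨t, rfl, ?_⟩
    have : f' t = z := hginj ((hcomm t).symm.trans hzx.symm)
    rw [this]; exact hz
  have hmem : ∀ t, f' t ∈ V' → (g' t ∈ MoreMor.sectionComponents f s ↔ t ∈ C') := by
    intro t ht
    rw [← hiff' t ht, hsc]
    rfl
  obtain ⟨UY, hUY, hUYO⟩ := g.isEmbedding.isInducing.isOpen_iff.mp V'.isOpen
  refine ⟨g '' (V' : Set (clSub Y y)), ?_, ?_, ?_, ?_, ?_⟩
  · rintro _ ⟨z, -, rfl⟩
    rw [← range_clSubι]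
    exact ⟨z, rfl⟩
  · exact ⟨genericPoint _, hηV', clSubι_genericPoint Y y⟩
  · have : (Subtype.val ⁻¹' (g '' (V' : Set (clSub Y y))) : Set ↥(closure ({y} : Set Y))) =
        Subtype.val ⁻¹' UY := by
      ext ⟨p, hp⟩
      simp only [Set.mem_preimage]
      constructor
      · rintro ⟨z, hz, rfl⟩
        have : z ∈ g ⁻¹' UY := by rw [hUYO]; exact hz
        exact this
      · intro hpU
        rw [← range_clSubι] at hp
        obtain ⟨z, rfl⟩ := hp
        refine ⟨z, ?_, rfl⟩
        have : z ∈ g ⁻¹' UY := hpU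
        rw [hUYO] at this
        exact this
    rw [this]
    exact hUY.preimage continuous_subtype_val
  · have : (Subtype.val ⁻¹' MoreMor.sectionComponents f s :
        Set ↥(f ⁻¹' (g '' (V' : Set (clSub Y y))))) = Subtype.val ⁻¹' (g' '' C') := by
      ext ⟨x, hx⟩
      obtain ⟨t, rfl, ht⟩ := hlift x hx
      simp only [Set.mem_preimage]
      rw [hmem t ht]
      constructor
      · intro h; exact ⟨t, h, rfl⟩
      · rintro ⟨t', ht', h⟩
        rw [← hg'inj h]; exact ht'
    rw [this]
    exact (g'.isClosedEmbedding.isClosedMap C' hC').preimage continuous_subtype_val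
  · obtain ⟨O, hO, hOeq⟩ := g'.isEmbedding.isInducing.isOpen_iff.mp hopen'
    have : (Subtype.val ⁻¹' MoreMor.sectionComponents f s :
        Set ↥(f ⁻¹' (g '' (V' : Set (clSub Y y))))) = Subtype.val ⁻¹' O := by
      ext ⟨x, hx⟩
      obtain ⟨t, rfl, ht⟩ := hlift x hx
      simp only [Set.mem_preimage]
      rw [hmem t ht]
      have h1 : t ∈ g' ⁻¹' O ↔ t ∈ C' ∩ f' ⁻¹' (V' : Set (clSub Y y)) := by rw [hOeq]
      constructor
      · intro h; exact h1.mpr ⟨h, ht⟩
      · intro h; exact (h1.mp h).1
    rw [this]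
    exact hO.preimage continuous_subtype_val

end Main

end Groth.Agent.Lib.Helper12.SecCompOpen
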