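import Mathlib
import Groth.Prelude.Def_MoreMor
import Groth.Agent.Lib.Helper12.SecCompOpen
import Groth.Agent.Lib.Helper12.ConsPropGen
import Groth.Agent.Lib.Helper12.FpDesc
import Groth.Agent.Lib.Helper7.ConstrNoeth

/-!
# Section components are locally constructible (helper12)
-/

set_option autoImplicit false
set_option linter.style.haveILetI false
universe u
open AlgebraicGeometry CategoryTheory Limits Topology TopologicalSpace

namespace Groth.Agent.Lib.Helper12.SecCompCons

open Groth.Agent.Lib.Helper12.SecCompOpen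

section Noeth

variable {X Y : Scheme.{u}} (f : X ⟶ Y) (s : Y ⟶ X) (hs : s ≫ f = 𝟙 Y)

include hs in
/-- Noetherian base: the section components are constructible. -/
theorem isConstructible_sectionComponents_noeth [IsNoetherian Y] [LocallyOfFiniteType f]
    [QuasiCompact f] : IsConstructible (MoreMor.sectionComponents f s) := by
  haveI : CompactSpace X := QuasiCompact.compactSpace_of_compactSpace f
  haveI : IsLocallyNoetherian X := LocallyOfFiniteType.isLocallyNoetherian f
  haveI : IsNoetherian X := {}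
  rw [Groth.Agent.Lib.Helper7.ConstrNoeth.isConstructible_iff_forall_irreducible_closed]
  intro Z hZ hZirr
  obtain ⟨ξ, hξ⟩ := QuasiSober.sober hZirr hZ
  obtain ⟨V, hVsub, hyV, hVopen, hclopen⟩ := sectionComponents_clopen_near f s hs (f ξ)
  obtain ⟨O, hO, hOeq⟩ := isOpen_induced_iff.mp hVopen
  have hZV : ∀ z ∈ Z, f z ∈ O → f z ∈ V := by
    intro z hz hzO
    have h1 : f z ∈ closure ({f ξ} : Set Y) := by
      have hz' : z ∈ closure ({ξ} : Set X) := by rw [hξ.def]; exact hz
      have := image_closure_subset_closure_image f.continuous ⟨z, hz', rfl⟩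
      rwa [Set.image_singleton] at this
    have h2 : (⟨f z, h1⟩ : ↥(closure ({f ξ} : Set Y))) ∈ Subtype.val ⁻¹' O := hzO
    rw [hOeq] at h2
    exact h2
  have hξO : f ξ ∈ O := by
    have h2 : (⟨f ξ, subset_closure rfl⟩ : ↥(closure ({f ξ} : Set Y))) ∈ Subtype.val ⁻¹' V := hyV
    rw [← hOeq] at h2
    exact h2
  have hUopen : IsOpen (f ⁻¹' O) := hO.preimage f.continuous
  have hne : (f ⁻¹' O ∩ Z).Nonempty := ⟨ξ, hξO, hξ.mem⟩
  have hkey : ∀ z ∈ f ⁻¹' O ∩ Z,
      (z ∈ MoreMor.sectionComponents f s ↔ ξ ∈ MoreMor.sectionComponents f s) := by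
    rintro z ⟨hzO, hzZ⟩
    have hzV : z ∈ f ⁻¹' V := hZV z hzZ hzO
    have hξV : ξ ∈ f ⁻¹' V := hyV
    have hsp : ξ ⤳ z := by
      rw [specializes_iff_mem_closure, hξ.def]; exact hzZ
    have hsp' : (⟨ξ, hξV⟩ : ↥(f ⁻¹' V)) ⤳ ⟨z, hzV⟩ := by
      rw [← Topology.IsInducing.subtypeVal.specializes_iff]
      exact hsp
    constructor
    · intro h
      exact hsp'.mem_open hclopen.2 h
    · intro h
      exact hsp'.mem_closed hclopen.1 h
  by_cases hξE : ξ ∈ MoreMor.sectionComponents f s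
  · right
    exact ⟨f ⁻¹' O, hUopen, hne, fun z hz => (hkey z hz).mpr hξE⟩
  · left
    exact Groth.Agent.Lib.Helper7.ConstrNoeth.isNowhereDense_of_inter_subset_compl
      hZirr.isPreirreducible hUopen hne (fun z hz hzE => hξE ((hkey z hz).mp hzE))

end Noeth

section Sq

variable {X Y X' Y' : Scheme.{u}} (f : X ⟶ Y) (s : Y ⟶ X) (hs : s ≫ f = 𝟙 Y)
  {f' : X' ⟶ Y'} {g' : X' ⟶ X} {g : Y' ⟶ Y} (hc : IsPullback g' f' f g)

include hs hc in
/-- the induced section of a base change, for a general pullback square -/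
theorem exists_section : ∃ s' : Y' ⟶ X', s' ≫ f' = 𝟙 Y' ∧ s' ≫ g' = g ≫ s :=
  ⟨hc.lift (g ≫ s) (𝟙 _) (by rw [Category.assoc, hs, Category.comp_id, Category.id_comp]),
    hc.lift_snd _ _ _, hc.lift_fst _ _ _⟩

end Sq

section FP

open Groth.Agent.Lib.Helper12.ConsPropGen Groth.Agent.Lib.Helper12.FpDesc

variable {X Y : Scheme.{u}} (f : X ⟶ Y) (s : Y ⟶ X) (hs : s ≫ f = 𝟙 Y)

include hs in
theorem isConstructible_preimage_sectionComponents [LocallyOfFinitePresentation f]
    [QuasiCompact f] [QuasiSeparated f] (V : Y.Opens) (hV : IsAffineOpen V) :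
    IsConstructible ((f ⁻¹ᵁ V).ι ⁻¹' MoreMor.sectionComponents f s) := by
  classical
  have hsqV : IsPullback (f ⁻¹ᵁ V).ι (f ∣_ V) f V.ι := (isPullback_morphismRestrict f V).flip
  obtain ⟨sV, hsV1, hsV2⟩ := exists_section f s hs hsqV
  rw [← Groth.Agent.S1324.result f s hs (f ∣_ V) (f ⁻¹ᵁ V).ι V.ι hsqV sV hsV1 hsV2]
  -- Noetherian approximation
  obtain ⟨J, _, _, 𝔇, π, hπ, haff, hnoeth⟩ := exists_noetherian_limit V hV
  haveI : ∀ {i j : J} (a : i ⟶ j), IsAffineHom (𝔇.map a) := fun a => inferInstance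
  haveI : ∀ (i j : J) (a : i ⟶ j), IsAffineHom (𝔇.map a) := fun _ _ a => inferInstance
  obtain ⟨i₁, X₁, x₁, qX₁, _, _, _, sq⟩ := descends_of_fp (D := 𝔇) (c := Cone.mk _ π) hπ (f ∣_ V)
  -- descend the section
  let D' : Over i₁ ⥤ Scheme.{u} := Over.forget i₁ ⋙ 𝔇
  let t : D' ⟶ (Functor.const (Over i₁)).obj (𝔇.obj i₁) :=
    { app := fun o => 𝔇.map o.hom
      naturality := by
        intro o o' m
        show 𝔇.map m.left ≫ 𝔇.map o'.hom = 𝔇.map o.hom ≫ 𝟙 _
        rw [Category.comp_id, ← 𝔇.map_comp, Over.w] }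
  let c' : Cone D' := (Cone.mk _ π).whisker (Over.forget i₁)
  have hc' : IsLimit c' := (Functor.Initial.isLimitWhiskerEquiv (Over.forget i₁) _).symm hπ
  let a : (V : Scheme.{u}) ⟶ X₁ := sV ≫ qX₁
  have hax : a ≫ x₁ = π.app i₁ := by
    show (sV ≫ qX₁) ≫ x₁ = _
    rw [Category.assoc, sq.w, ← Category.assoc, hsV1, Category.id_comp]
  have ha : c'.π ≫ t = (Functor.const _).map (a ≫ x₁) := by
    ext o
    show π.app o.left ≫ 𝔇.map o.hom = a ≫ x₁
    rw [hax]
    have := π.naturality o.hom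
    simp only [Functor.const_obj_obj, Functor.const_obj_map, Category.id_comp] at this
    exact this.symm
  haveI : ∀ {i j : Over i₁} (m : i ⟶ j), IsAffineHom (D'.map m) := fun m =>
    inferInstanceAs (IsAffineHom (𝔇.map m.left))
  haveI : ∀ i : Over i₁, CompactSpace (D'.obj i) := fun i =>
    inferInstanceAs (CompactSpace (𝔇.obj i.left))
  haveI : ∀ i : Over i₁, QuasiSeparatedSpace (D'.obj i) := fun i =>
    inferInstanceAs (QuasiSeparatedSpace (𝔇.obj i.left))
  obtain ⟨o, g₀, hg1, hg2⟩ :=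
    Scheme.exists_π_app_comp_eq_of_locallyOfFinitePresentation D' t x₁ c' hc' a ha
  obtain ⟨g, hgg⟩ : ∃ g : 𝔇.obj o.left ⟶ X₁, g = g₀ := ⟨g₀, rfl⟩
  have hg1' : π.app o.left ≫ g = a := by rw [hgg]; exact hg1
  have hg2' : g ≫ x₁ = 𝔇.map o.hom := by rw [hgg]; exact hg2
  -- the stage
  let fj := pullback.snd x₁ (𝔇.map o.hom)
  let sj : 𝔇.obj o.left ⟶ pullback x₁ (𝔇.map o.hom) :=
    pullback.lift g (𝟙 _) (by rw [Category.id_comp]; exact hg2')
  have hsj : sj ≫ fj = 𝟙 _ := pullback.lift_snd _ _ _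
  have hw : qX₁ ≫ x₁ = ((f ∣_ V) ≫ (Cone.mk _ π).π.app o.left) ≫ 𝔇.map o.hom := by
    rw [sq.w, Category.assoc]
    congr 1
    have := π.naturality o.hom
    simp only [Functor.const_obj_obj, Functor.const_obj_map, Category.id_comp] at this
    exact this
  have sq' := isPullback_restage (D := 𝔇) (c := Cone.mk _ π) o.hom sq hw
  set q := pullback.lift qX₁ ((f ∣_ V) ≫ (Cone.mk _ π).π.app o.left) hw with hq
  have hsq' : sV ≫ q = π.app o.left ≫ sj := by
    apply pullback.hom_ext
    · rw [Category.assoc, pullback.lift_fst, Category.assoc, pullback.lift_fst, hg1']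
    · rw [Category.assoc, pullback.lift_snd, Category.assoc, pullback.lift_snd, Category.comp_id,
        ← Category.assoc, hsV1, Category.id_comp]
  haveI := hnoeth o.left
  haveI : LocallyOfFiniteType fj := inferInstance
  have h1 := Groth.Agent.S1324.result fj sj hsj (f ∣_ V) q (π.app o.left) sq' sV hsV1 hsq'
  rw [h1]
  exact q.isConstructible_preimage (isConstructible_sectionComponents_noeth fj sj hsj)

include hs in
/-- **The section components are locally constructible.** -/
theorem isLocallyConstructible_sectionComponents [LocallyOfFinitePresentation f]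
    [QuasiCompact f] [QuasiSeparated f] :
    IsLocallyConstructible (MoreMor.sectionComponents f s) := by
  have hcov : (⨆ V : Y.affineOpens, f ⁻¹ᵁ V.1) = ⊤ := by
    rw [← Scheme.Hom.preimage_iSup, iSup_affineOpens_eq_top]
    rfl
  refine IsLocallyConstructible.of_isOpenCover (U := fun V : Y.affineOpens => f ⁻¹ᵁ V.1)
    (TopologicalSpace.IsOpenCover.mk hcov) fun V => ?_
  exact (isConstructible_preimage_sectionComponents f s hs V.1 V.2).isLocallyConstructible

end FP

end Groth.Agent.Lib.Helper12.SecCompCons
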