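import Mathlib
import Groth.Prelude.Def_MoreMor
import Groth.Agent.Lib.Helper12.SecCompCons
import Groth.Agent.Lib.Helper12.ConstrNhds
import Groth.Agent.Lib.Helper12.FlatProperApprox
import Groth.Agent.Lib.Helper11.Birat9
import Groth.Agent.Lib.Helper15.GeomFibre
import Groth.Agent.S0421

/-!
# Section components near a geometrically reduced fibre of a flat morphism (helper12)
-/

set_option autoImplicit false
set_option linter.style.haveILetI false
universe u
open AlgebraicGeometry CategoryTheory Limits Topology TopologicalSpace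

namespace Groth.Agent.Lib.Helper12.SecCompNhd

open Groth.Agent.Lib.Helper12.SecCompOpen Groth.Agent.Lib.Helper12.SecCompCons

section Dvr

variable {R : Type u} [CommRing R] [IsDomain R] [IsDiscreteValuationRing R] {Z : Scheme.{u}}
  (g : Z ⟶ Spec (CommRingCat.of R)) (s σ : Spec (CommRingCat.of R) ⟶ Z)

theorem mem_sectionComponents_iff {X Y : Scheme.{u}} (f : X ⟶ Y) (s : Y ⟶ X) (x : X) (y : Y)
    (hxy : f x = y) :
    x ∈ MoreMor.sectionComponents f s ↔ x ∈ connectedComponentIn (f ⁻¹' {y}) (s y) := by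
  subst hxy
  rfl

/-- over a discrete valuation ring, with reduced special fibre: a second section meeting the
section component of the special fibre meets the section component of the generic fibre. -/
theorem dvr_core [Flat g] [LocallyOfFiniteType g] [QuasiCompact g]
    (hs : s ≫ g = 𝟙 _) (hσ : σ ≫ g = 𝟙 _)
    (hred : IsReduced (g.fiber (IsLocalRing.closedPoint R)))
    (hcl : σ (IsLocalRing.closedPoint R) ∈ MoreMor.sectionComponents g s) :
    σ (⟨⊥, Ideal.isPrime_bot⟩ : PrimeSpectrum R) ∈ MoreMor.sectionComponents g s := by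
  classical
  set o : ↥(Spec (CommRingCat.of R)) := IsLocalRing.closedPoint R with ho
  set η : ↥(Spec (CommRingCat.of R)) := (⟨⊥, Ideal.isPrime_bot⟩ : PrimeSpectrum R) with hη
  have hηo : η ⤳ o := by
    have h1 : (⟨⊥, Ideal.isPrime_bot⟩ : PrimeSpectrum R) ⤳ IsLocalRing.closedPoint R := by
      rw [← PrimeSpectrum.le_iff_specializes]
      exact bot_le (α := Ideal R)
    exact h1
  have hgs : ∀ y, g (s y) = y := fun y => Groth.Agent.Lib.Helper12.SecCompBC.sec_apply g s hs y
  have hgσ : ∀ y, g (σ y) = y := fun y => Groth.Agent.Lib.Helper12.SecCompBC.sec_apply g σ hσ y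
  haveI : IsNoetherian (Spec (CommRingCat.of R)) := inferInstance
  haveI : CompactSpace Z := QuasiCompact.compactSpace_of_compactSpace g
  haveI : IsLocallyNoetherian Z := LocallyOfFiniteType.isLocallyNoetherian g
  haveI : IsNoetherian Z := {}
  have hUopen : IsOpen (connectedComponent (s o)) :=
    Groth.Agent.Lib.Helper12.LimConnComp.isOpen_connectedComponent_of_noetherianSpace (s o)
  let U : Z.Opens := ⟨connectedComponent (s o), hUopen⟩
  have hsη : s η ∈ U := by
    show s η ∈ connectedComponent (s o)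
    rw [← Groth.Agent.Lib.Helper12.LimConnComp.connectedComponent_eq_of_specializes
      (hηo.map s.continuous)]
    exact mem_connectedComponent
  have hσo : σ o ∈ U := by
    rw [mem_sectionComponents_iff g s (σ o) o (hgσ o)] at hcl
    have hpre : _root_.IsPreconnected (connectedComponentIn (g ⁻¹' {o}) (s o)) :=
      isPreconnected_connectedComponentIn
    have hmem0 : s o ∈ connectedComponentIn (g ⁻¹' {o}) (s o) :=
      mem_connectedComponentIn (hgs o)
    exact (hpre.subset_connectedComponent hmem0) hcl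
  have hση : σ η ∈ U := by
    show σ η ∈ connectedComponent (s o)
    have h1 : connectedComponent (σ η) = connectedComponent (σ o) :=
      Groth.Agent.Lib.Helper12.LimConnComp.connectedComponent_eq_of_specializes
        (hηo.map σ.continuous)
    have h2 : connectedComponent (σ o) = connectedComponent (s o) :=
      (connectedComponent_eq (show σ o ∈ connectedComponent (s o) from hσo)).symm
    rw [← h2, ← h1]
    exact mem_connectedComponent
  let gU : (U : Scheme.{u}) ⟶ Spec (CommRingCat.of R) := U.ι ≫ g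
  haveI : Flat gU := inferInstanceAs (Flat (U.ι ≫ g))
  haveI : ConnectedSpace ↥(U : Scheme.{u}) :=
    isConnected_iff_connectedSpace.mp (isConnected_connectedComponent (x := s o))
  have hredU : IsReduced (gU.fiber o) := by
    haveI := hred
    haveI : IsOpenImmersion (pullback.snd U.ι
        (pullback.fst g ((Spec (CommRingCat.of R)).fromSpecResidueField o))) :=
      MorphismProperty.pullback_snd (P := @IsOpenImmersion) _ _ inferInstance
    haveI : IsReduced (pullback g ((Spec (CommRingCat.of R)).fromSpecResidueField o)) := hred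
    haveI : IsReduced (pullback U.ι
        (pullback.fst g ((Spec (CommRingCat.of R)).fromSpecResidueField o))) :=
      isReduced_of_isOpenImmersion (pullback.snd U.ι
        (pullback.fst g ((Spec (CommRingCat.of R)).fromSpecResidueField o)))
    let e := pullbackRightPullbackFstIso g ((Spec (CommRingCat.of R)).fromSpecResidueField o) U.ι
    exact isReduced_of_isOpenImmersion e.inv
  haveI := Groth.Agent.S0421.result gU hredU
  have hconn : _root_.IsConnected (gU ⁻¹' {η}) := by
    rw [← gU.range_fiberι, ← Set.image_univ]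
    exact isConnected_univ.image _ (gU.fiberι _).continuous.continuousOn
  have hW : _root_.IsPreconnected (U.ι '' (gU ⁻¹' {η})) :=
    hconn.isPreconnected.image _ U.ι.continuous.continuousOn
  have hWsub : U.ι '' (gU ⁻¹' {η}) ⊆ g ⁻¹' {η} := by
    rintro _ ⟨z, hz, rfl⟩
    exact hz
  have hmem : ∀ z : Z, z ∈ U → g z = η → z ∈ U.ι '' (gU ⁻¹' {η}) := by
    intro z hzU hz
    exact ⟨⟨z, hzU⟩, hz, rfl⟩
  rw [mem_sectionComponents_iff g s (σ η) η (hgσ η)]
  exact hW.subset_connectedComponentIn (hmem _ hsη (hgs η)) hWsub (hmem _ hση (hgσ η))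

end Dvr

section Noeth

variable {X Y : Scheme.{u}} (f : X ⟶ Y) (s : Y ⟶ X) (hs : s ≫ f = 𝟙 Y)

theorem specMap_fractionRing_bot (R : Type u) [CommRing R] [IsDomain R] :
    (Spec.map (CommRingCat.ofHom (algebraMap R (FractionRing R))))
      (⟨⊥, Ideal.isPrime_bot⟩ : PrimeSpectrum (FractionRing R)) =
      (⟨⊥, Ideal.isPrime_bot⟩ : PrimeSpectrum R) := by
  apply PrimeSpectrum.ext
  show Ideal.comap (algebraMap R (FractionRing R)) ⊥ = ⊥
  exact Ideal.comap_bot_of_injective _ (IsFractionRing.injective R (FractionRing R))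

include hs in
/-- Noetherian base. -/
theorem nhd_noeth [IsNoetherian Y] [LocallyOfFiniteType f] [QuasiCompact f] [Flat f] (y : Y)
    (hy : GeometricallyReduced (f.fiberToSpecResidueField y)) :
    connectedComponentIn (f ⁻¹' {y}) (s y) ⊆ interior (MoreMor.sectionComponents f s) := by
  intro x hx
  have hfx : f x = y := (connectedComponentIn_subset (f ⁻¹' {y}) (s y)) hx
  rw [mem_interior_iff_mem_nhds]
  refine Groth.Agent.Lib.Helper12.ConstrNhds.mem_nhds_of_isLocallyConstructible _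
    (isConstructible_sectionComponents_noeth f s hs).isLocallyConstructible x ?_
  intro x' hx'x
  by_cases hne : x' = x
  · subst hne; exact (mem_sectionComponents_iff f s x' y hfx).mpr hx
  haveI : IsLocallyNoetherian X := LocallyOfFiniteType.isLocallyNoetherian f
  obtain ⟨R, _, _, _, u, hu1, hu2⟩ :=
    Groth.Agent.Lib.Helper11.Birat9.exists_dvr_of_specializes hx'x hne
  set o : ↥(Spec (CommRingCat.of R)) := IsLocalRing.closedPoint R with ho
  set η : ↥(Spec (CommRingCat.of R)) := (⟨⊥, Ideal.isPrime_bot⟩ : PrimeSpectrum R) with hη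
  have huη : u η = x' := by
    have := hu2 (⟨⊥, Ideal.isPrime_bot⟩ : PrimeSpectrum (FractionRing R))
    rw [Scheme.Hom.comp_apply] at this
    rw [← this]
    congr 1
    exact (specMap_fractionRing_bot R).symm
  let v : Spec (CommRingCat.of R) ⟶ Y := u ≫ f
  let fR := pullback.snd f v
  let p := pullback.fst f v
  let sR := Groth.Agent.Lib.Helper12.SecCompBC.sec' f v s hs
  have hsR : sR ≫ fR = 𝟙 _ := Groth.Agent.Lib.Helper12.SecCompBC.sec'_snd f v s hs
  have hsRp : sR ≫ p = v ≫ s := Groth.Agent.Lib.Helper12.SecCompBC.sec'_fst f v s hs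
  have hsq : IsPullback p fR f v := IsPullback.of_hasPullback f v
  let σ : Spec (CommRingCat.of R) ⟶ pullback f v := pullback.lift u (𝟙 _) (by
    rw [Category.id_comp])
  have hσ : σ ≫ fR = 𝟙 _ := pullback.lift_snd _ _ _
  have hσp : σ ≫ p = u := pullback.lift_fst _ _ _
  have hσp' : ∀ t, p (σ t) = u t := by
    intro t
    rw [← Scheme.Hom.comp_apply, hσp]
  have hsc : MoreMor.sectionComponents fR sR = p ⁻¹' MoreMor.sectionComponents f s :=
    Groth.Agent.S1324.result f s hs fR p v hsq sR hsR hsRp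
  have hvo : v o = y := by
    show f (u o) = y
    rw [hu1, hfx]
  have hcl : σ o ∈ MoreMor.sectionComponents fR sR := by
    rw [hsc]
    show p (σ o) ∈ MoreMor.sectionComponents f s
    rw [hσp', hu1]
    exact (mem_sectionComponents_iff f s x y hfx).mpr hx
  have hgeo : geometrically IsReduced (fR.fiberToSpecResidueField o) := by
    rw [Groth.Agent.Lib.Helper15.geometrically_fiber_iff_of_isPullback IsReduced
      Groth.Agent.Lib.Helper15.isReduced_descends f v fR p hsq o, hvo]
    exact hy.1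
  have hred : IsReduced (fR.fiber o) :=
    hgeo (K := ↑((Spec (CommRingCat.of R)).residueField o)) (𝟙 _) (𝟙 _)
      (fR.fiberToSpecResidueField o) (IsPullback.id_horiz _)
  have hgen := dvr_core fR sR σ hsR hσ hred hcl
  rw [hsc] at hgen
  have : p (σ η) ∈ MoreMor.sectionComponents f s := hgen
  rwa [hσp', huη] at this

end Noeth

section Gen

open Groth.Agent.Lib.Helper12.ConsPropGen Groth.Agent.Lib.Helper12.FpDesc
  Groth.Agent.Lib.Helper12.ConsPairGen Groth.Agent.Lib.Helper12.StratQBC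
  Groth.Agent.Lib.Helper12.FlatProperApprox

/-- descent of a section to a stage of a cofiltered limit -/
theorem exists_stage_section {J : Type u} [SmallCategory J] [IsCofiltered J] {𝔇 : J ⥤ Scheme.{u}}
    {P : Scheme.{u}} (π : (Functor.const J).obj P ⟶ 𝔇) (hπ : IsLimit (Cone.mk _ π))
    [∀ j, IsAffine (𝔇.obj j)] {XP : Scheme.{u}} (h : XP ⟶ P) (sP : P ⟶ XP) (hsP : sP ≫ h = 𝟙 P)
    {i₁ : J} {X₁ : Scheme.{u}} (x₁ : X₁ ⟶ 𝔇.obj i₁) [LocallyOfFinitePresentation x₁]
    (qX₁ : XP ⟶ X₁) (sq : IsPullback qX₁ h x₁ (π.app i₁)) :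
    ∃ (j : J) (φ : j ⟶ i₁) (sj : 𝔇.obj j ⟶ pullback x₁ (𝔇.map φ))
      (q : XP ⟶ pullback x₁ (𝔇.map φ)),
      sj ≫ pullback.snd x₁ (𝔇.map φ) = 𝟙 _ ∧
        IsPullback q h (pullback.snd x₁ (𝔇.map φ)) (π.app j) ∧ sP ≫ q = π.app j ≫ sj := by
  classical
  haveI : ∀ {i j : J} (a : i ⟶ j), IsAffineHom (𝔇.map a) := fun a => inferInstance
  let D' : Over i₁ ⥤ Scheme.{u} := Over.forget i₁ ⋙ 𝔇
  let t : D' ⟶ (Functor.const (Over i₁)).obj (𝔇.obj i₁) :=
    { app := fun o => 𝔇.map o.hom
      naturality := by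
        intro o o' m
        show 𝔇.map m.left ≫ 𝔇.map o'.hom = 𝔇.map o.hom ≫ 𝟙 _
        rw [Category.comp_id, ← 𝔇.map_comp, Over.w] }
  let c' : Cone D' := (Cone.mk _ π).whisker (Over.forget i₁)
  have hc' : IsLimit c' := (Functor.Initial.isLimitWhiskerEquiv (Over.forget i₁) _).symm hπ
  let a : P ⟶ X₁ := sP ≫ qX₁
  have hax : a ≫ x₁ = π.app i₁ := by
    show (sP ≫ qX₁) ≫ x₁ = _
    rw [Category.assoc, sq.w, ← Category.assoc, hsP, Category.id_comp]
  have ha : c'.π ≫ t = (Functor.const _).map (a ≫ x₁) := by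
    ext o
    show π.app o.left ≫ 𝔇.map o.hom = a ≫ x₁
    rw [hax]
    have := π.naturality o.hom
    simp only [Functor.const_obj_obj, Functor.const_obj_map, Category.id_comp] at this
    exact this.symm
  haveI : ∀ {i j : Over i₁} (m : i ⟶ j), IsAffineHom (D'.map m) := fun m =>
    inferInstanceAs (IsAffineHom (𝔇.map m.left))
  haveI : ∀ i : Over i₁, CompactSpace (D'.obj i) := fun i =>
    inferInstanceAs (CompactSpace (𝔇.obj i.left))
  haveI : ∀ i : Over i₁, QuasiSeparatedSpace (D'.obj i) := fun i =>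
    inferInstanceAs (QuasiSeparatedSpace (𝔇.obj i.left))
  obtain ⟨o, g₀, hg1, hg2⟩ :=
    Scheme.exists_π_app_comp_eq_of_locallyOfFinitePresentation D' t x₁ c' hc' a ha
  obtain ⟨g, hgg⟩ : ∃ g : 𝔇.obj o.left ⟶ X₁, g = g₀ := ⟨g₀, rfl⟩
  have hg1' : π.app o.left ≫ g = a := by rw [hgg]; exact hg1
  have hg2' : g ≫ x₁ = 𝔇.map o.hom := by rw [hgg]; exact hg2
  let sj : 𝔇.obj o.left ⟶ pullback x₁ (𝔇.map o.hom) :=
    pullback.lift g (𝟙 _) (by rw [Category.id_comp]; exact hg2')
  have hsj : sj ≫ pullback.snd x₁ (𝔇.map o.hom) = 𝟙 _ := pullback.lift_snd _ _ _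
  have hw : qX₁ ≫ x₁ = (h ≫ (Cone.mk _ π).π.app o.left) ≫ 𝔇.map o.hom := by
    rw [sq.w, Category.assoc]
    congr 1
    have := π.naturality o.hom
    simp only [Functor.const_obj_obj, Functor.const_obj_map, Category.id_comp] at this
    exact this
  have sq' := isPullback_restage (D := 𝔇) (c := Cone.mk _ π) o.hom sq hw
  refine ⟨o.left, o.hom, sj, pullback.lift qX₁ (h ≫ (Cone.mk _ π).π.app o.left) hw, hsj, sq', ?_⟩
  apply pullback.hom_ext
  · rw [Category.assoc, pullback.lift_fst, Category.assoc, pullback.lift_fst, hg1']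
  · rw [Category.assoc, pullback.lift_snd, Category.assoc, pullback.lift_snd, Category.comp_id,
      ← Category.assoc, hsP, Category.id_comp]

variable {X Y : Scheme.{u}} (f : X ⟶ Y) (s : Y ⟶ X) (hs : s ≫ f = 𝟙 Y)

include hs in
/-- **Section components near a geometrically reduced fibre** of a flat morphism of finite
presentation. -/
theorem nhd_of_geometricallyReduced [LocallyOfFinitePresentation f] [QuasiCompact f]
    [QuasiSeparated f] [Flat f] (y : Y)
    (hy : GeometricallyReduced (f.fiberToSpecResidueField y)) :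
    connectedComponentIn (f ⁻¹' {y}) (s y) ⊆ interior (MoreMor.sectionComponents f s) := by
  classical
  obtain ⟨V, hV, hyV⟩ : ∃ V : Y.Opens, IsAffineOpen V ∧ y ∈ V := by
    obtain ⟨_, ⟨V, hV, rfl⟩, hyV, -⟩ := Y.isBasis_affineOpens.exists_subset_of_mem_open
      (Set.mem_univ y) isOpen_univ
    exact ⟨V, hV, hyV⟩
  have hsqV : IsPullback (f ⁻¹ᵁ V).ι (f ∣_ V) f V.ι := (isPullback_morphismRestrict f V).flip
  obtain ⟨sV, hsV1, hsV2⟩ := exists_section f s hs hsqV
  have hscV := Groth.Agent.S1324.result f s hs (f ∣_ V) (f ⁻¹ᵁ V).ι V.ι hsqV sV hsV1 hsV2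
  obtain ⟨J, _, _, 𝔇, π, hπ, haff, hnoeth⟩ := exists_noetherian_limit V hV
  haveI := haff
  haveI : ∀ {i j : J} (a : i ⟶ j), IsAffineHom (𝔇.map a) := fun a => inferInstance
  haveI : ∀ (i j : J) (a : i ⟶ j), IsAffineHom (𝔇.map a) := fun _ _ a => inferInstance
  obtain ⟨i₁, X₁, x₁, qX₁, _, _, _, sq₁⟩ :=
    descends_of_fp (D := 𝔇) (c := Cone.mk _ π) hπ (f ∣_ V)
  obtain ⟨i₂, φ₂, hflat⟩ := exists_stage_of_descendsLim descendsLim_flat hπ (f ∣_ V)
    (inferInstance : Flat (f ∣_ V)) x₁ qX₁ sq₁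
  have sq₂ := isPullback_restage (c := Cone.mk _ π) φ₂ sq₁ (restage_w φ₂ sq₁)
  obtain ⟨x₂, hx₂⟩ : ∃ x₂ : pullback x₁ (𝔇.map φ₂) ⟶ 𝔇.obj i₂, x₂ = pullback.snd x₁ (𝔇.map φ₂) :=
    ⟨_, rfl⟩
  rw [← hx₂] at sq₂ hflat
  haveI : Flat x₂ := hflat
  haveI : LocallyOfFinitePresentation x₂ := by rw [hx₂]; infer_instance
  haveI : QuasiCompact x₂ := by rw [hx₂]; infer_instance
  obtain ⟨j, φ, sj, q, hsj, sqj, hsq'⟩ := exists_stage_section π hπ (f ∣_ V) sV hsV1 x₂ _ sq₂
  haveI := hnoeth j
  set fj := pullback.snd x₂ (𝔇.map φ) with hfj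
  haveI : LocallyOfFiniteType fj := inferInstance
  let yV : ↥(V : Scheme.{u}) := ⟨y, hyV⟩
  have hgeoV : geometrically IsReduced ((f ∣_ V).fiberToSpecResidueField yV) := by
    rw [Groth.Agent.Lib.Helper15.geometrically_fiber_iff_of_isPullback IsReduced
      Groth.Agent.Lib.Helper15.isReduced_descends f V.ι (f ∣_ V) (f ⁻¹ᵁ V).ι hsqV yV]
    exact hy.1
  have hgeoj : GeometricallyReduced (fj.fiberToSpecResidueField (π.app j yV)) := by
    refine ⟨?_⟩
    rw [← Groth.Agent.Lib.Helper15.geometrically_fiber_iff_of_isPullback IsReduced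
      Groth.Agent.Lib.Helper15.isReduced_descends fj (π.app j) (f ∣_ V) q sqj yV]
    exact hgeoV
  have hN := nhd_noeth fj sj hsj (π.app j yV) hgeoj
  have hscj := Groth.Agent.S1324.result fj sj hsj (f ∣_ V) q (π.app j) sqj sV hsV1 hsq'
  intro x hx
  have hfx : f x = y := (connectedComponentIn_subset (f ⁻¹' {y}) (s y)) hx
  have hxV : x ∈ f ⁻¹ᵁ V := by
    show f x ∈ V
    rw [hfx]; exact hyV
  let xV : ↥((f ⁻¹ᵁ V : X.Opens) : Scheme.{u}) := ⟨x, hxV⟩
  have h1 := Groth.Agent.Lib.Helper12.SecCompGC.connectedComponentIn_of_isPullback f s hs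
    (f ∣_ V) (f ⁻¹ᵁ V).ι V.ι hsqV sV hsV1 hsV2 yV
  have hfVx : (f ∣_ V) xV = yV := by
    apply Subtype.ext
    have := congrArg (fun ψ : ((f ⁻¹ᵁ V : X.Opens) : Scheme.{u}) ⟶ Y => ψ xV) hsqV.w
    simp only [Scheme.Hom.comp_apply] at this
    exact this.symm.trans hfx
  have hxV1 : xV ∈ connectedComponentIn ((f ∣_ V) ⁻¹' {yV}) (sV yV) := by
    rw [show connectedComponentIn ((f ∣_ V) ⁻¹' {yV}) (sV yV) = _ from h1]
    exact ⟨hfVx, hx⟩
  have h2 := Groth.Agent.Lib.Helper12.SecCompGC.connectedComponentIn_of_isPullback fj sj hsj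
    (f ∣_ V) q (π.app j) sqj sV hsV1 hsq' yV
  rw [show connectedComponentIn ((f ∣_ V) ⁻¹' {yV}) (sV yV) = _ from h2] at hxV1
  have h3 : q xV ∈ interior (MoreMor.sectionComponents fj sj) := hN hxV1.2
  rw [mem_interior]
  refine ⟨(f ⁻¹ᵁ V).ι '' (q ⁻¹' interior (MoreMor.sectionComponents fj sj)), ?_, ?_, ?_⟩
  · rintro _ ⟨z, hz, rfl⟩
    have hz0 : q z ∈ MoreMor.sectionComponents fj sj := interior_subset hz
    have hz1 : z ∈ q ⁻¹' MoreMor.sectionComponents fj sj := hz0
    rw [← hscj, hscV] at hz1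
    exact hz1
  · exact (f ⁻¹ᵁ V).ι.isOpenEmbedding.isOpenMap _ (isOpen_interior.preimage q.continuous)
  · exact ⟨xV, h3, rfl⟩

end Gen

end Groth.Agent.Lib.Helper12.SecCompNhd
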