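import Mathlib
import Groth.Prelude.Def_MoreMor
import Groth.Agent.Lib.Helper12.SecCompNhd
import Groth.Agent.Lib.Helper12.GeomRedPtMain
import Groth.Agent.Lib.Helper14.GeomRedAt

/-!
# Section components near a fibre whose section component is geometrically reduced (helper12)
-/

set_option autoImplicit false
set_option linter.style.haveILetI false
universe u
open AlgebraicGeometry CategoryTheory Limits Topology TopologicalSpace

namespace Groth.Agent.Lib.Helper12.SecCompNhdPt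

open Groth.Agent.Lib.Helper12.SecCompNhd Groth.Agent.Lib.Helper12.GeomRedPt
  Groth.Agent.Lib.Helper12.GeomRedPtMain

variable {X Y : Scheme.{u}} (f : X ⟶ Y) (s : Y ⟶ X) (hs : s ≫ f = 𝟙 Y)

/-- the section component of a fibre of a quasi-compact morphism is compact -/
theorem isCompact_connectedComponentIn [QuasiCompact f] (y : Y) (x : X) :
    IsCompact (connectedComponentIn (f ⁻¹' {y}) x) := by
  by_cases hx : x ∈ f ⁻¹' {y}
  · haveI : QuasiCompact (f.fiberToSpecResidueField y) :=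
      MorphismProperty.pullback_snd (P := @QuasiCompact) _ _ inferInstance
    haveI : CompactSpace (f.fiber y) :=
      QuasiCompact.compactSpace_of_compactSpace (f.fiberToSpecResidueField y)
    have hfib : IsCompact (f ⁻¹' {y}) := by
      rw [← f.range_fiberι y]; exact isCompact_range (f.fiberι y).continuous
    haveI : CompactSpace ↥(f ⁻¹' {y}) := isCompact_iff_compactSpace.mp hfib
    rw [connectedComponentIn_eq_image hx]
    exact (isClosed_connectedComponent.isCompact).image continuous_subtype_val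
  · rw [connectedComponentIn_eq_empty hx]
    exact isCompact_empty

include hs in
/-- **Section components near a fibre**, pointwise geometric reducedness along the section
component. -/
theorem nhd_of_subset_W [Flat f] [LocallyOfFinitePresentation f] [QuasiCompact f]
    [QuasiSeparated f] (y : Y)
    (hred : connectedComponentIn (f ⁻¹' {y}) (s y) ⊆ W f) :
    connectedComponentIn (f ⁻¹' {y}) (s y) ⊆ interior (MoreMor.sectionComponents f s) := by
  classical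
  set K := connectedComponentIn (f ⁻¹' {y}) (s y) with hK
  have hfs : ∀ y, f (s y) = y := fun y => Groth.Agent.Lib.Helper12.SecCompBC.sec_apply f s hs y
  have hKsub : K ⊆ f ⁻¹' {y} := connectedComponentIn_subset _ _
  have hsK : s y ∈ K := mem_connectedComponentIn (hfs y)
  have hKpre : _root_.IsPreconnected K := isPreconnected_connectedComponentIn
  have hWopen : IsOpen (W f) := isOpen_W f
  obtain ⟨V, hV, hyV⟩ : ∃ V : Y.Opens, IsAffineOpen V ∧ y ∈ V := by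
    obtain ⟨_, ⟨V, hV, rfl⟩, hyV, -⟩ := Y.isBasis_affineOpens.exists_subset_of_mem_open
      (Set.mem_univ y) isOpen_univ
    exact ⟨V, hV, hyV⟩
  have hKc : IsCompact K := isCompact_connectedComponentIn f y (s y)
  -- a compact open between `K` and `W f ∩ f⁻¹ V`
  have hOopen : IsOpen (W f ∩ f ⁻¹' (V : Set Y)) := hWopen.inter (V.isOpen.preimage f.continuous)
  have hKO : K ⊆ W f ∩ f ⁻¹' (V : Set Y) := fun x hx =>
    ⟨hred hx, by show f x ∈ V; rw [hKsub hx]; exact hyV⟩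
  have hloc : ∀ x ∈ K, ∃ Ux : X.Opens, IsAffineOpen Ux ∧ x ∈ Ux ∧
      (Ux : Set X) ⊆ W f ∩ f ⁻¹' (V : Set Y) := by
    intro x hx
    obtain ⟨_, ⟨Ux, hUx, rfl⟩, hxUx, hsub⟩ := X.isBasis_affineOpens.exists_subset_of_mem_open
      (hKO hx) hOopen
    exact ⟨Ux, hUx, hxUx, hsub⟩
  choose! Ux hUxa hxUx hUxO using hloc
  obtain ⟨t, htK, htfin, hcov⟩ := hKc.elim_finite_subcover_image (b := K)
    (c := fun x => (Ux x : Set X)) (fun x _ => (Ux x).isOpen)
    (fun x hx => Set.mem_biUnion hx (hxUx x hx))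
  let U : X.Opens := ⟨⋃ x ∈ t, (Ux x : Set X), isOpen_biUnion fun x _ => (Ux x).isOpen⟩
  have hUc : IsCompact (U : Set X) := htfin.isCompact_biUnion fun x hx => (hUxa x (htK hx)).isCompact
  have hKU : K ⊆ U := hcov
  have hUO : (U : Set X) ⊆ W f ∩ f ⁻¹' (V : Set Y) := by
    intro z hz
    obtain ⟨x, hxt, hzx⟩ := Set.mem_iUnion₂.1 hz
    exact hUxO x (htK hxt) hzx
  -- an affine neighbourhood of `y` over which the section lands in `U`
  have hY₂open : IsOpen ((V : Set Y) ∩ s ⁻¹' (U : Set X)) :=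
    V.isOpen.inter (U.isOpen.preimage s.continuous)
  obtain ⟨Y₃, hY₃, hyY₃, hY₃sub⟩ : ∃ Y₃ : Y.Opens, IsAffineOpen Y₃ ∧ y ∈ Y₃ ∧
      (Y₃ : Set Y) ⊆ (V : Set Y) ∩ s ⁻¹' (U : Set X) := by
    obtain ⟨_, ⟨Y₃, hY₃, rfl⟩, hyY₃, hsub⟩ := Y.isBasis_affineOpens.exists_subset_of_mem_open
      (show y ∈ (V : Set Y) ∩ s ⁻¹' (U : Set X) from ⟨hyV, hKU hsK⟩) hY₂open
    exact ⟨Y₃, hY₃, hyY₃, hsub⟩
  let U₃ : X.Opens := U ⊓ f ⁻¹ᵁ Y₃
  have e : U₃ ≤ f ⁻¹ᵁ Y₃ := inf_le_right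
  -- compactness of `U₃`
  have hU₃c : IsCompact (U₃ : Set X) := by
    haveI : IsAffine (V : Scheme.{u}) := hV
    haveI : QuasiSeparatedSpace ↥(V : Scheme.{u}) := inferInstance
    haveI : QuasiSeparatedSpace ↥((f ⁻¹ᵁ V : X.Opens) : Scheme.{u}) :=
      quasiSeparatedSpace_of_quasiSeparated (f ∣_ V)
    have hqs : IsQuasiSeparated ((f ⁻¹ᵁ V : X.Opens) : Set X) :=
      (isQuasiSeparated_iff_quasiSeparatedSpace _ (f ⁻¹ᵁ V).isOpen).mpr
        (inferInstanceAs (QuasiSeparatedSpace ↥((f ⁻¹ᵁ V : X.Opens) : Scheme.{u})))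
    exact hqs (U : Set X) ((f ⁻¹ᵁ Y₃ : X.Opens) : Set X) (fun z hz => (hUO hz).2) U.isOpen hUc
      (fun z hz => (hY₃sub hz).1) (f ⁻¹ᵁ Y₃).isOpen (f.isCompact_preimage hY₃.isCompact)
  let f₃ := f.resLE Y₃ U₃ e
  have hf₃ι : f₃ ≫ Y₃.ι = U₃.ι ≫ f := Scheme.Hom.resLE_comp_ι f e
  have hsrange : Set.range (Y₃.ι ≫ s) ⊆ Set.range U₃.ι := by
    rintro _ ⟨z, rfl⟩
    rw [Scheme.Opens.range_ι]
    refine ⟨(hY₃sub z.2).2, ?_⟩
    show f (s z.1) ∈ Y₃
    rw [hfs]; exact z.2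
  let s₃ : (Y₃ : Scheme.{u}) ⟶ U₃ := IsOpenImmersion.lift U₃.ι (Y₃.ι ≫ s) hsrange
  have hs₃ι : s₃ ≫ U₃.ι = Y₃.ι ≫ s := IsOpenImmersion.lift_fac _ _ _
  have hs₃ : s₃ ≫ f₃ = 𝟙 _ := by
    rw [← cancel_mono Y₃.ι, Category.assoc, hf₃ι, ← Category.assoc, hs₃ι, Category.assoc, hs,
      Category.comp_id, Category.id_comp]
  haveI : Flat f₃ := IsZariskiLocalAtSource.resLE e (inferInstance : Flat f)
  haveI : LocallyOfFinitePresentation f₃ := inferInstance
  haveI : QuasiSeparated f₃ := inferInstance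
  haveI : CompactSpace ↥(U₃ : Scheme.{u}) := isCompact_iff_compactSpace.mp hU₃c
  haveI : IsAffine (Y₃ : Scheme.{u}) := hY₃
  haveI : QuasiCompact f₃ := quasiCompact_of_compactSpace f₃
  -- the fibre of `f₃` over `y` is geometrically reduced
  have hW₃ : ∀ u : ↥(U₃ : Scheme.{u}), u ∈ W f₃ := by
    intro u
    rw [preimage_W_resLE f Y₃ U₃ e]
    exact (hUO u.2.1).1
  let y₃ : ↥(Y₃ : Scheme.{u}) := ⟨y, hyY₃⟩
  have hgeo₃ : GeometricallyReduced (f₃.fiberToSpecResidueField y₃) := by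
    refine (Groth.Agent.Lib.Helper14.GeomRedAt.geometricallyReduced_iff_forall_isGeomReducedAt
      (k := ↑((Y₃ : Scheme.{u}).residueField y₃)) (f₃.fiberToSpecResidueField y₃)).2 ?_
    intro w
    exact (mem_W_iff f₃ (f₃.fiberι y₃ w) y₃ w rfl).mp (hW₃ _)
  have hN := nhd_of_geometricallyReduced f₃ s₃ hs₃ y₃ hgeo₃
  -- transfer
  have hιf : ∀ z : ↥(U₃ : Scheme.{u}), f (U₃.ι z) = Y₃.ι (f₃ z) := by
    intro z
    have := congrArg (fun ψ : (U₃ : Scheme.{u}) ⟶ Y => ψ z) hf₃ι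
    simp only [Scheme.Hom.comp_apply] at this
    exact this.symm
  have hιs : ∀ z : ↥(Y₃ : Scheme.{u}), U₃.ι (s₃ z) = s (Y₃.ι z) := by
    intro z
    have := congrArg (fun ψ : (Y₃ : Scheme.{u}) ⟶ X => ψ z) hs₃ι
    simp only [Scheme.Hom.comp_apply] at this
    exact this
  have hf₃s : ∀ z, f₃ (s₃ z) = z := fun z =>
    Groth.Agent.Lib.Helper12.SecCompBC.sec_apply f₃ s₃ hs₃ z
  have hsc : ∀ z : ↥(U₃ : Scheme.{u}), z ∈ MoreMor.sectionComponents f₃ s₃ →
      U₃.ι z ∈ MoreMor.sectionComponents f s := by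
    intro z hz
    have hz' : z ∈ connectedComponentIn (f₃ ⁻¹' {f₃ z}) (s₃ (f₃ z)) := hz
    have hpre : _root_.IsPreconnected (U₃.ι '' connectedComponentIn (f₃ ⁻¹' {f₃ z}) (s₃ (f₃ z))) :=
      isPreconnected_connectedComponentIn.image _ U₃.ι.continuous.continuousOn
    have hsub : U₃.ι '' connectedComponentIn (f₃ ⁻¹' {f₃ z}) (s₃ (f₃ z)) ⊆
        f ⁻¹' {f (U₃.ι z)} := by
      rintro _ ⟨t, ht, rfl⟩
      have ht' : f₃ t = f₃ z := (connectedComponentIn_subset (f₃ ⁻¹' {f₃ z}) (s₃ (f₃ z))) ht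
      show f (U₃.ι t) = f (U₃.ι z)
      rw [hιf, hιf, ht']
    have hmem : s (f (U₃.ι z)) ∈
        U₃.ι '' connectedComponentIn (f₃ ⁻¹' {f₃ z}) (s₃ (f₃ z)) := by
      refine ⟨s₃ (f₃ z), mem_connectedComponentIn (hf₃s _), ?_⟩
      rw [hιs, hιf]
    exact hpre.subset_connectedComponentIn hmem hsub ⟨z, hz', rfl⟩
  intro x hx
  have hxU₃ : x ∈ U₃ := ⟨hKU hx, by show f x ∈ Y₃; rw [hKsub hx]; exact hyY₃⟩
  let x₃ : ↥(U₃ : Scheme.{u}) := ⟨x, hxU₃⟩
  have hK₃ : U₃.ι ⁻¹' K ⊆ connectedComponentIn (f₃ ⁻¹' {y₃}) (s₃ y₃) := by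
    have himg : U₃.ι '' (U₃.ι ⁻¹' K) = K := by
      rw [Set.image_preimage_eq_of_subset]
      rw [Scheme.Opens.range_ι]
      intro z hz
      exact ⟨hKU hz, by show f z ∈ Y₃; rw [hKsub hz]; exact hyY₃⟩
    have hpre : _root_.IsPreconnected (U₃.ι ⁻¹' K) := by
      rw [← U₃.ι.isEmbedding.isInducing.isPreconnected_image, himg]
      exact hKpre
    refine hpre.subset_connectedComponentIn ?_ ?_
    · show U₃.ι (s₃ y₃) ∈ K
      rw [hιs]
      exact hsK
    · intro z hz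
      have hz' : f (U₃.ι z) = y := hKsub hz
      show f₃ z = y₃
      apply Subtype.ext
      rw [hιf] at hz'
      exact hz'
  have h3 : x₃ ∈ interior (MoreMor.sectionComponents f₃ s₃) := hN (hK₃ (show U₃.ι x₃ ∈ K from hx))
  rw [mem_interior]
  refine ⟨U₃.ι '' interior (MoreMor.sectionComponents f₃ s₃), ?_, ?_, ⟨x₃, h3, rfl⟩⟩
  · rintro _ ⟨z, hz, rfl⟩
    exact hsc z (interior_subset hz)
  · exact U₃.ι.isOpenEmbedding.isOpenMap _ isOpen_interior

end Groth.Agent.Lib.Helper12.SecCompNhdPt
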