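import Mathlib
import Groth.Prelude.Def_MoreMor
import Groth.Prelude.Def_EGA43
import Groth.Agent.Lib.Helper12.SecCompNhdPt
import Groth.Agent.Lib.Helper12.GeomRedPtStalk
import Groth.Agent.S3417

/-!
# Section components near a fibre: universally open + geometrically reduced along the section
component (helper12)
-/

set_option autoImplicit false
set_option linter.style.haveILetI false
universe u
open AlgebraicGeometry CategoryTheory Limits Topology TopologicalSpace

namespace Groth.Agent.Lib.Helper12.SecCompUO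

open Groth.Agent.Lib.Helper12.SecCompNhd Groth.Agent.Lib.Helper12.GeomRedPt
  Groth.Agent.Lib.Helper12.GeomRedPtMain

section Top

variable {α : Type*} [TopologicalSpace α]

/-- after helper4's `ConnSch` -/
theorem locallyConnectedSpace_of_locally_noetherian
    (h : ∀ x : α, ∃ W : Set α, IsOpen W ∧ x ∈ W ∧ NoetherianSpace W) :
    LocallyConnectedSpace α := by
  rw [locallyConnectedSpace_iff_connectedComponentIn_open]
  intro F hF x hxF
  rw [isOpen_iff_forall_mem_open]
  intro y hy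
  have hyF : y ∈ F := connectedComponentIn_subset F x hy
  obtain ⟨W, hWo, hyW, hWn⟩ := h y
  have hG : IsOpen (F ∩ W) := hF.inter hWo
  have hyG : y ∈ F ∩ W := ⟨hyF, hyW⟩
  have : NoetherianSpace (F ∩ W : Set α) := by
    rw [noetherianSpace_set_iff] at hWn ⊢
    intro t ht
    exact hWn t (ht.trans Set.inter_subset_right)
  refine ⟨connectedComponentIn (F ∩ W) y, ?_, ?_, mem_connectedComponentIn hyG⟩
  · rw [connectedComponentIn_eq hy]
    exact isPreconnected_connectedComponentIn.subset_connectedComponentIn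
      (mem_connectedComponentIn hyG)
      ((connectedComponentIn_subset _ _).trans Set.inter_subset_left)
  · rw [connectedComponentIn_eq_image hyG]
    exact hG.isOpenMap_subtype_val _
      (Groth.Agent.Lib.Helper12.LimConnComp.isOpen_connectedComponent_of_noetherianSpace _)

end Top

theorem locallyConnectedSpace (X : Scheme.{u}) [IsLocallyNoetherian X] :
    LocallyConnectedSpace X := by
  apply locallyConnectedSpace_of_locally_noetherian
  intro x
  obtain ⟨_, ⟨W, hW, rfl⟩, hxW, -⟩ :=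
    X.isBasis_affineOpens.exists_subset_of_mem_open (Set.mem_univ x) isOpen_univ
  have : IsNoetherianRing Γ(X, W) := IsLocallyNoetherian.component_noetherian ⟨W, hW⟩
  exact ⟨(W : Set X), W.isOpen, hxW, noetherianSpace_of_isAffineOpen W hW⟩

section Fib

variable {X Y : Scheme.{u}} (f : X ⟶ Y)

/-- in a locally Noetherian fibre, the connected components of the fibre are relatively open -/
theorem exists_isOpen_inter_eq [LocallyOfFiniteType f] (y : Y) (x : X) (hx : f x = y) :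
    ∃ N : Set X, IsOpen N ∧ N ∩ f ⁻¹' {y} = connectedComponentIn (f ⁻¹' {y}) x := by
  let φ := f.fiberι y
  have hφ : IsEmbedding φ := (f.fiberι y).isEmbedding
  have hrange : Set.range φ = f ⁻¹' {y} := f.range_fiberι y
  obtain ⟨w, hw⟩ : ∃ w, φ w = x := by
    have : x ∈ Set.range φ := by rw [hrange]; exact hx
    exact this
  haveI : LocallyOfFiniteType (f.fiberToSpecResidueField y) :=
    MorphismProperty.pullback_snd (P := @LocallyOfFiniteType) _ _ inferInstance
  haveI : IsLocallyNoetherian (f.fiber y) :=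
    LocallyOfFiniteType.isLocallyNoetherian (f.fiberToSpecResidueField y)
  haveI : LocallyConnectedSpace (f.fiber y) := locallyConnectedSpace _
  have hop : IsOpen (connectedComponent w) := isOpen_connectedComponent
  obtain ⟨N, hN, hNeq⟩ := hφ.isInducing.isOpen_iff.mp hop
  refine ⟨N, hN, ?_⟩
  have h1 := Groth.Agent.Lib.Helper12.SecCompGC.preimage_connectedComponentIn_range φ hφ w
  rw [hw, hrange] at h1
  have hKsub : connectedComponentIn (f ⁻¹' {y}) x ⊆ Set.range φ := by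
    rw [hrange]; exact connectedComponentIn_subset _ _
  ext z
  constructor
  · rintro ⟨hzN, hzF⟩
    rw [← hrange] at hzF
    obtain ⟨t, rfl⟩ := hzF
    have : t ∈ φ ⁻¹' N := hzN
    rw [hNeq, ← h1] at this
    exact this
  · intro hz
    obtain ⟨t, rfl⟩ := hKsub hz
    refine ⟨?_, by rw [← hrange]; exact ⟨t, rfl⟩⟩
    have : t ∈ φ ⁻¹' connectedComponentIn (f ⁻¹' {y}) x := hz
    rw [h1, ← hNeq] at this
    exact this

end Fib

section Dvr

variable {R : Type u} [CommRing R] [IsDomain R] [IsDiscreteValuationRing R] {Z : Scheme.{u}}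
  (g : Z ⟶ Spec (CommRingCat.of R)) (s σ : Spec (CommRingCat.of R) ⟶ Z)

theorem eq_bot_or_eq_closedPoint (z : ↥(Spec (CommRingCat.of R))) :
    z = (⟨⊥, Ideal.isPrime_bot⟩ : PrimeSpectrum R) ∨ z = IsLocalRing.closedPoint R := by
  by_cases h : (z : PrimeSpectrum R).asIdeal = ⊥
  · left; exact PrimeSpectrum.ext h
  · right
    apply PrimeSpectrum.ext
    haveI := (z : PrimeSpectrum R).isPrime
    have hmax : ((z : PrimeSpectrum R).asIdeal).IsMaximal :=
      Ring.DimensionLEOne.maximalOfPrime h inferInstance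
    exact IsLocalRing.eq_maximalIdeal hmax

/-- pointwise version over a discrete valuation ring -/
theorem dvr_core_pt [LocallyOfFiniteType g]
    (hs : s ≫ g = 𝟙 _) (hσ : σ ≫ g = 𝟙 _)
    (hyp : ∀ z ∈ connectedComponentIn (g ⁻¹' {IsLocalRing.closedPoint R})
      (s (IsLocalRing.closedPoint R)), EGA43.IsOpenAt g.base z ∧ z ∈ W g)
    (hcl : σ (IsLocalRing.closedPoint R) ∈ MoreMor.sectionComponents g s) :
    σ (⟨⊥, Ideal.isPrime_bot⟩ : PrimeSpectrum R) ∈ MoreMor.sectionComponents g s := by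
  classical
  set o : ↥(Spec (CommRingCat.of R)) := IsLocalRing.closedPoint R with ho
  set η : ↥(Spec (CommRingCat.of R)) := (⟨⊥, Ideal.isPrime_bot⟩ : PrimeSpectrum R) with hη
  have hηo : η ⤳ o := by
    have h1 : (⟨⊥, Ideal.isPrime_bot⟩ : PrimeSpectrum R) ⤳ IsLocalRing.closedPoint R := by
      rw [← PrimeSpectrum.le_iff_specializes]
      exact bot_le (α := Ideal R)
    exact h1
  have hηgen : ∀ z : ↥(Spec (CommRingCat.of R)), η ⤳ z := by
    intro z
    have h1 : (⟨⊥, Ideal.isPrime_bot⟩ : PrimeSpectrum R) ⤳ (z : PrimeSpectrum R) := by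
      rw [← PrimeSpectrum.le_iff_specializes]
      exact bot_le (α := Ideal R)
    exact h1
  have hoclosed : IsClosed ({o} : Set ↥(Spec (CommRingCat.of R))) :=
    IsLocalRing.isClosed_singleton_closedPoint R
  have hηne : η ≠ o := by
    intro h
    have h1 : (⊥ : Ideal R) = IsLocalRing.maximalIdeal R := congrArg PrimeSpectrum.asIdeal h
    exact (IsDiscreteValuationRing.not_a_field R) h1.symm
  have hgs : ∀ y, g (s y) = y := fun y => Groth.Agent.Lib.Helper12.SecCompBC.sec_apply g s hs y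
  have hgσ : ∀ y, g (σ y) = y := fun y => Groth.Agent.Lib.Helper12.SecCompBC.sec_apply g σ hσ y
  haveI : IsLocallyNoetherian Z := LocallyOfFiniteType.isLocallyNoetherian g
  haveI : LocallyConnectedSpace Z := locallyConnectedSpace Z
  set Ko := connectedComponentIn (g ⁻¹' {o}) (s o) with hKo
  have hKsub : Ko ⊆ g ⁻¹' {o} := connectedComponentIn_subset _ _
  have hsoK : s o ∈ Ko := mem_connectedComponentIn (hgs o)
  obtain ⟨N, hN, hNeq⟩ := exists_isOpen_inter_eq g o (s o) (hgs o)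
  have hFclosed : IsClosed (g ⁻¹' {o}) := hoclosed.preimage g.continuous
  set W₁ : Set Z := (g ⁻¹' {o} ∩ Nᶜ)ᶜ with hW₁
  have hW₁open : IsOpen W₁ := (hFclosed.inter hN.isClosed_compl).isOpen_compl
  have hmemW₁ : ∀ z, z ∈ W₁ ↔ (g z = o → z ∈ Ko) := by
    intro z
    constructor
    · intro hz hgz
      rw [hKo, ← hNeq]
      refine ⟨?_, hgz⟩
      by_contra hzN
      exact hz ⟨hgz, hzN⟩
    · rintro hz ⟨hgz, hzN⟩
      have := hz hgz
      rw [hKo, ← hNeq] at this
      exact hzN this.1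
  have hKW₁ : Ko ⊆ W₁ := fun z hz => (hmemW₁ z).2 fun _ => hz
  set U₀ := connectedComponentIn W₁ (s o) with hU₀
  have hU₀open : IsOpen U₀ := hW₁open.connectedComponentIn
  have hU₀sub : U₀ ⊆ W₁ := connectedComponentIn_subset _ _
  have hKU₀ : Ko ⊆ U₀ :=
    (isPreconnected_connectedComponentIn (F := g ⁻¹' {o}) (x := s o)).subset_connectedComponentIn
      hsoK hKW₁
  have hU₀F : ∀ z ∈ U₀, g z = o → z ∈ Ko := fun z hz => (hmemW₁ z).1 (hU₀sub hz)
  have hgenW₁ : ∀ z, g z = η → z ∈ W₁ := by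
    intro z hz
    rw [hmemW₁]
    intro hz'
    exact absurd (hz.symm.trans hz') hηne
  have hsη : s η ∈ U₀ :=
    Groth.Agent.Lib.Helper12.SecComp.mem_connectedComponentIn_of_specializes W₁ (s o) (s η)
      (hKW₁ hsoK) (hgenW₁ _ (hgs η)) (hηo.map s.continuous)
  have hσoK : σ o ∈ Ko := by
    rw [mem_sectionComponents_iff g s (σ o) o (hgσ o)] at hcl
    exact hcl
  have hση : σ η ∈ U₀ := by
    have h1 : σ η ∈ connectedComponentIn W₁ (σ o) :=
      Groth.Agent.Lib.Helper12.SecComp.mem_connectedComponentIn_of_specializes W₁ (σ o) (σ η)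
        (hKW₁ hσoK) (hgenW₁ _ (hgσ η)) (hηo.map σ.continuous)
    rw [hU₀, connectedComponentIn_eq (hKU₀ hσoK)]
    exact h1
  let U : Z.Opens := ⟨U₀, hU₀open⟩
  let gU : (U : Scheme.{u}) ⟶ Spec (CommRingCat.of R) := U.ι ≫ g
  haveI : LocallyOfFiniteType gU := inferInstanceAs (LocallyOfFiniteType (U.ι ≫ g))
  haveI : PreconnectedSpace ↥(U : Scheme.{u}) :=
    Subtype.preconnectedSpace (isPreconnected_connectedComponentIn (F := W₁) (x := s o))
  have hopen : IsOpenMap gU.base := by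
    intro O hO
    have hOZ : IsOpen (U.ι '' O) := U.ι.isOpenEmbedding.isOpenMap _ hO
    have himg : gU '' O = g '' (U.ι '' O) := by
      rw [Set.image_image]; rfl
    by_cases hoS : o ∈ gU '' O
    · obtain ⟨z, hzO, hz⟩ := hoS
      have hzK : U.ι z ∈ Ko := hU₀F _ z.2 hz
      have hnh : g '' (U.ι '' O) ∈ nhds (g (U.ι z)) :=
        (hyp _ hzK).1 _ (hOZ.mem_nhds ⟨z, hzO, rfl⟩)
      have hgz : g (U.ι z) = o := hz
      rw [hgz] at hnh
      obtain ⟨T, hTsub, hTopen, hoT⟩ := mem_nhds_iff.mp hnh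
      have hηT : η ∈ T := hηo.mem_open hTopen hoT
      have huniv : gU '' O = Set.univ := by
        rw [Set.eq_univ_iff_forall]
        intro t
        rcases eq_bot_or_eq_closedPoint t with h | h
        · rw [h, himg]; exact hTsub hηT
        · rw [h]; exact ⟨z, hzO, hz⟩
      show IsOpen (gU '' O)
      rw [huniv]; exact isOpen_univ
    · have hsub : gU '' O ⊆ {o}ᶜ := fun t ht hto => hoS (hto ▸ ht)
      by_cases hne : (gU '' O).Nonempty
      · have : gU '' O = {o}ᶜ := by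
          apply Set.Subset.antisymm hsub
          intro t ht
          obtain ⟨t', ht'⟩ := hne
          rcases eq_bot_or_eq_closedPoint t with h | h
          · rcases eq_bot_or_eq_closedPoint t' with h' | h'
            · rw [h, ← h']; exact ht'
            · exact absurd (show o ∈ gU '' O by rw [ho, ← h']; exact ht') hoS
          · exact absurd h ht
        show IsOpen (gU '' O)
        rw [this]; exact hoclosed.isOpen_compl
      · rw [Set.not_nonempty_iff_eq_empty] at hne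
        show IsOpen (gU '' O)
        rw [hne]; exact isOpen_empty
  have hredU : IsReduced (gU.fiber o) := by
    haveI : ∀ w : ↥(gU.fiber o), _root_.IsReduced ((gU.fiber o).presheaf.stalk w) := by
      intro w
      have hz : gU (gU.fiberι o w) = o := by
        have h1 : gU.fiberι o w ∈ Set.range (gU.fiberι o) := ⟨w, rfl⟩
        rw [Scheme.Hom.range_fiberι] at h1
        exact h1
      have hzK : U.ι (gU.fiberι o w) ∈ Ko := hU₀F _ (gU.fiberι o w).2 hz
      have h2 : gU.fiberι o w ∈ W gU := (mem_W_comp_iff U.ι g _).2 (hyp _ hzK).2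
      have h3 := (mem_W_iff gU (gU.fiberι o w) o w rfl).1 h2
      exact Groth.Agent.Lib.Helper12.GeomRedPtStalk.isReduced_stalk_of_isGeomReducedAt _ w h3
    exact isReduced_of_isReduced_stalk _
  haveI := Groth.Agent.S3417.result R gU hopen o η hoclosed hηgen hredU
  have hpre : _root_.IsPreconnected (gU ⁻¹' {η}) := by
    rw [← gU.range_fiberι, ← Set.image_univ]
    exact isPreconnected_univ.image _ (gU.fiberι _).continuous.continuousOn
  have hWc : _root_.IsPreconnected (U.ι '' (gU ⁻¹' {η})) :=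
    hpre.image _ U.ι.continuous.continuousOn
  have hWsub : U.ι '' (gU ⁻¹' {η}) ⊆ g ⁻¹' {η} := by
    rintro _ ⟨z, hz, rfl⟩
    exact hz
  have hmem : ∀ z : Z, z ∈ U → g z = η → z ∈ U.ι '' (gU ⁻¹' {η}) := by
    intro z hzU hz
    exact ⟨⟨z, hzU⟩, hz, rfl⟩
  rw [mem_sectionComponents_iff g s (σ η) η (hgσ η)]
  exact hWc.subset_connectedComponentIn (hmem _ hsη (hgs η)) hWsub (hmem _ hση (hgσ η))

end Dvr

section T2

variable {X Y : Scheme.{u}} (f : X ⟶ Y) (s : Y ⟶ X) (hs : s ≫ f = 𝟙 Y)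

include hs in
/-- quasi-compact case over a locally Noetherian base -/
theorem nhd_qc [IsLocallyNoetherian Y] [LocallyOfFiniteType f] [QuasiCompact f] (y : Y)
    (hyp : ∀ x ∈ connectedComponentIn (f ⁻¹' {y}) (s y), EGA43.IsUnivOpenAt f x ∧ x ∈ W f) :
    connectedComponentIn (f ⁻¹' {y}) (s y) ⊆ interior (MoreMor.sectionComponents f s) := by
  haveI : IsLocallyNoetherian X := LocallyOfFiniteType.isLocallyNoetherian f
  haveI : LocallyOfFinitePresentation f :=
    Groth.Agent.Lib.Helper12.SecCompBC.locallyOfFinitePresentation_of_isLocallyNoetherian f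
  haveI : QuasiSeparated f := inferInstance
  intro x hx
  have hfx : f x = y := (connectedComponentIn_subset (f ⁻¹' {y}) (s y)) hx
  rw [mem_interior_iff_mem_nhds]
  refine Groth.Agent.Lib.Helper12.ConstrNhds.mem_nhds_of_isLocallyConstructible _
    (Groth.Agent.Lib.Helper12.SecCompCons.isLocallyConstructible_sectionComponents f s hs) x ?_
  intro x' hx'x
  by_cases hne : x' = x
  · subst hne; exact (mem_sectionComponents_iff f s x' y hfx).mpr hx
  obtain ⟨R, _, _, _, u, hu1, hu2⟩ :=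
    Groth.Agent.Lib.Helper11.Birat9.exists_dvr_of_specializes hx'x hne
  set o : ↥(Spec (CommRingCat.of R)) := IsLocalRing.closedPoint R with ho
  set η : ↥(Spec (CommRingCat.of R)) := (⟨⊥, Ideal.isPrime_bot⟩ : PrimeSpectrum R) with hη
  have huη : u η = x' := by
    have := hu2 (⟨⊥, Ideal.isPrime_bot⟩ : PrimeSpectrum (FractionRing R))
    rw [Scheme.Hom.comp_apply] at this
    rw [← this]
    congr 1
    exact (specMap_fractionRing_bot R).symm
  let v : Spec (CommRingCat.of R) ⟶ Y := u ≫ f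
  let fR := pullback.snd f v
  let p := pullback.fst f v
  let sR := Groth.Agent.Lib.Helper12.SecCompBC.sec' f v s hs
  have hsR : sR ≫ fR = 𝟙 _ := Groth.Agent.Lib.Helper12.SecCompBC.sec'_snd f v s hs
  have hsRp : sR ≫ p = v ≫ s := Groth.Agent.Lib.Helper12.SecCompBC.sec'_fst f v s hs
  have hsq : IsPullback p fR f v := IsPullback.of_hasPullback f v
  let σ : Spec (CommRingCat.of R) ⟶ pullback f v := pullback.lift u (𝟙 _) (by
    rw [Category.id_comp])
  have hσ : σ ≫ fR = 𝟙 _ := pullback.lift_snd _ _ _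
  have hσp : σ ≫ p = u := pullback.lift_fst _ _ _
  have hσp' : ∀ t, p (σ t) = u t := by
    intro t
    rw [← Scheme.Hom.comp_apply, hσp]
  have hsc : MoreMor.sectionComponents fR sR = p ⁻¹' MoreMor.sectionComponents f s :=
    Groth.Agent.S1324.result f s hs fR p v hsq sR hsR hsRp
  have hvo : v o = y := by
    show f (u o) = y
    rw [hu1, hfx]
  have hcl : σ o ∈ MoreMor.sectionComponents fR sR := by
    rw [hsc]
    show p (σ o) ∈ MoreMor.sectionComponents f s
    rw [hσp', hu1]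
    exact (mem_sectionComponents_iff f s x y hfx).mpr hx
  have hcc := Groth.Agent.Lib.Helper12.SecCompGC.connectedComponentIn_of_isPullback f s hs
    fR p v hsq sR hsR hsRp o
  have hypR : ∀ z ∈ connectedComponentIn (fR ⁻¹' {IsLocalRing.closedPoint R})
      (sR (IsLocalRing.closedPoint R)), EGA43.IsOpenAt fR.base z ∧ z ∈ W fR := by
    intro z hz
    have hz' : z ∈ {t | fR t = o ∧ p t ∈ connectedComponentIn (f ⁻¹' {v o}) (s (v o))} := by
      rw [← show connectedComponentIn (fR ⁻¹' {o}) (sR o) = _ from hcc]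
      exact hz
    have hpz : p z ∈ connectedComponentIn (f ⁻¹' {y}) (s y) := by
      have := hz'.2
      rwa [hvo] at this
    obtain ⟨h1, h2⟩ := hyp (p z) hpz
    exact ⟨h1 _ v z rfl, (mem_W_iff_of_isPullback hsq z).2 h2⟩
  have hgen := dvr_core_pt fR sR σ hsR hσ hypR hcl
  rw [hsc] at hgen
  have : p (σ η) ∈ MoreMor.sectionComponents f s := hgen
  rwa [hσp', huη] at this

end T2

section ResLE

variable {X Y : Scheme.{u}} (f : X ⟶ Y)

theorem isUnivOpenAt_resLE (V : Y.Opens) (U : X.Opens) (e : U ≤ f ⁻¹ᵁ V) (z : ↥(U : Scheme.{u}))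
    (h : EGA43.IsUnivOpenAt f (U.ι z)) : EGA43.IsUnivOpenAt (f.resLE V U e) z := by
  intro Y' g' x' hx'
  let j : pullback (f.resLE V U e) g' ⟶ pullback f (g' ≫ V.ι) :=
    pullback.map (f.resLE V U e) g' f (g' ≫ V.ι) U.ι (𝟙 Y') V.ι
      (Scheme.Hom.resLE_comp_ι f e) (by rw [Category.id_comp])
  have hj1 : j ≫ pullback.fst f (g' ≫ V.ι) = pullback.fst (f.resLE V U e) g' ≫ U.ι :=
    pullback.lift_fst _ _ _
  have hj2 : j ≫ pullback.snd f (g' ≫ V.ι) = pullback.snd (f.resLE V U e) g' :=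
    (pullback.lift_snd _ _ _).trans (Category.comp_id _)
  have hjemb : IsOpenEmbedding j := j.isOpenEmbedding
  have h1 : (pullback.fst f (g' ≫ V.ι)) (j x') = U.ι z := by
    rw [← Scheme.Hom.comp_apply, hj1, Scheme.Hom.comp_apply]
    exact congrArg _ hx'
  have h2 := h Y' (g' ≫ V.ι) (j x') h1
  intro O hO
  have h3 : j '' O ∈ nhds (j x') := hjemb.image_mem_nhds.mpr hO
  have h4 := h2 _ h3
  have h5 : ∀ t, (pullback.snd f (g' ≫ V.ι)) (j t) = (pullback.snd (f.resLE V U e) g') t := by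
    intro t
    rw [← Scheme.Hom.comp_apply, hj2]
  have h6 : (pullback.snd f (g' ≫ V.ι)).base '' (j '' O) =
      (pullback.snd (f.resLE V U e) g').base '' O := by
    rw [Set.image_image]
    exact Set.image_congr fun t _ => h5 t
  rw [h6] at h4
  have h7 : (pullback.snd f (g' ≫ V.ι)).base (j x') =
      (pullback.snd (f.resLE V U e) g').base x' := h5 x'
  rw [h7] at h4
  exact h4

end ResLE

section Chain

variable {X Y : Scheme.{u}} (f : X ⟶ Y)

/-- every point of a connected component of a locally Noetherian fibre is connected to the base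
point inside a quasi-compact open of the total space -/
theorem exists_compact_open_chain [LocallyOfFiniteType f] (y : Y) (x₀ : X) (hx₀ : f x₀ = y)
    (x : X) (hx : x ∈ connectedComponentIn (f ⁻¹' {y}) x₀) :
    ∃ X₁ : X.Opens, IsCompact (X₁ : Set X) ∧ x₀ ∈ X₁ ∧
      x ∈ connectedComponentIn ((X₁ : Set X) ∩ f ⁻¹' {y}) x₀ := by
  classical
  let φ := f.fiberι y
  have hφ : IsEmbedding φ := (f.fiberι y).isEmbedding
  have hrange : Set.range φ = f ⁻¹' {y} := f.range_fiberι y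
  obtain ⟨w₀, hw₀⟩ : ∃ w, φ w = x₀ := by
    have : x₀ ∈ Set.range φ := by rw [hrange]; exact hx₀
    exact this
  haveI : LocallyOfFiniteType (f.fiberToSpecResidueField y) :=
    MorphismProperty.pullback_snd (P := @LocallyOfFiniteType) _ _ inferInstance
  haveI : IsLocallyNoetherian (f.fiber y) :=
    LocallyOfFiniteType.isLocallyNoetherian (f.fiberToSpecResidueField y)
  haveI : LocallyConnectedSpace (f.fiber y) := locallyConnectedSpace _
  set F := f ⁻¹' {y} with hF
  have hφF : ∀ t, φ t ∈ F := fun t => by rw [← hrange]; exact ⟨t, rfl⟩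
  let A' : Set ↥(f.fiber y) := {t | ∃ X₁ : X.Opens, IsCompact (X₁ : Set X) ∧ x₀ ∈ X₁ ∧
    φ t ∈ connectedComponentIn ((X₁ : Set X) ∩ F) x₀}
  -- local structure
  have hloc : ∀ t : ↥(f.fiber y), ∃ (N : X.Opens) (C : Set ↥(f.fiber y)), IsAffineOpen N ∧
      IsOpen C ∧ _root_.IsPreconnected C ∧ t ∈ C ∧ φ '' C ⊆ N := by
    intro t
    obtain ⟨_, ⟨N, hN, rfl⟩, htN, -⟩ := X.isBasis_affineOpens.exists_subset_of_mem_open
      (Set.mem_univ (φ t)) isOpen_univ
    have hop : IsOpen (φ ⁻¹' (N : Set X)) := N.isOpen.preimage φ.continuous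
    obtain ⟨C, hCsub, hCo, htC, hCc⟩ :=
      (locallyConnectedSpace_iff_subsets_isOpen_isConnected.mp inferInstance) t
        (φ ⁻¹' (N : Set X)) (hop.mem_nhds htN)
    exact ⟨N, C, hN, hCo, hCc.isPreconnected, htC, by
      rintro _ ⟨c, hc, rfl⟩; exact hCsub hc⟩
  -- merging
  have hmerge : ∀ (t₁ t₂ : ↥(f.fiber y)) (N : X.Opens) (C : Set ↥(f.fiber y)), IsAffineOpen N →
      _root_.IsPreconnected C → t₁ ∈ C → t₂ ∈ C → φ '' C ⊆ N → t₁ ∈ A' → t₂ ∈ A' := by
    rintro t₁ t₂ N C hN hC ht₁ ht₂ hCN ⟨X₁, hX₁c, hx₀X₁, ht₁X₁⟩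
    refine ⟨X₁ ⊔ N, ?_, Or.inl hx₀X₁, ?_⟩
    · exact hX₁c.union hN.isCompact
    · have h1 : _root_.IsPreconnected (connectedComponentIn ((X₁ : Set X) ∩ F) x₀ ∪ φ '' C) :=
        IsPreconnected.union (φ t₁) ht₁X₁ ⟨t₁, ht₁, rfl⟩ isPreconnected_connectedComponentIn
          (hC.image _ φ.continuous.continuousOn)
      have h2 : connectedComponentIn ((X₁ : Set X) ∩ F) x₀ ∪ φ '' C ⊆
          ((X₁ ⊔ N : X.Opens) : Set X) ∩ F := by
        rintro z (hz | ⟨c, hc, rfl⟩)
        · have := (connectedComponentIn_subset _ _) hz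
          exact ⟨Or.inl this.1, this.2⟩
        · exact ⟨Or.inr (hCN ⟨c, hc, rfl⟩), hφF c⟩
      have h3 : x₀ ∈ connectedComponentIn ((X₁ : Set X) ∩ F) x₀ ∪ φ '' C :=
        Or.inl (mem_connectedComponentIn ⟨hx₀X₁, hx₀⟩)
      exact h1.subset_connectedComponentIn h3 h2 (Or.inr ⟨t₂, ht₂, rfl⟩)
  have hA'open : IsOpen A' := by
    rw [isOpen_iff_forall_mem_open]
    intro t ht
    obtain ⟨N, C, hN, hCo, hCc, htC, hCN⟩ := hloc t
    exact ⟨C, fun t' ht' => hmerge t t' N C hN hCc htC ht' hCN ht, hCo, htC⟩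
  have hA'closed : IsClosed A' := by
    rw [← isOpen_compl_iff, isOpen_iff_forall_mem_open]
    intro t ht
    obtain ⟨N, C, hN, hCo, hCc, htC, hCN⟩ := hloc t
    exact ⟨C, fun t' ht' ht'A => ht (hmerge t' t N C hN hCc ht' htC hCN ht'A), hCo, htC⟩
  have hw₀A : w₀ ∈ A' := by
    obtain ⟨_, ⟨N, hN, rfl⟩, hxN, -⟩ := X.isBasis_affineOpens.exists_subset_of_mem_open
      (Set.mem_univ x₀) isOpen_univ
    refine ⟨N, hN.isCompact, hxN, ?_⟩
    rw [hw₀]
    exact mem_connectedComponentIn ⟨hxN, hx₀⟩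
  have hsub : connectedComponent w₀ ⊆ A' :=
    IsClopen.connectedComponent_subset (⟨hA'closed, hA'open⟩ : IsClopen A') hw₀A
  have h1 := Groth.Agent.Lib.Helper12.SecCompGC.preimage_connectedComponentIn_range φ hφ w₀
  rw [hw₀, hrange] at h1
  obtain ⟨t, rfl⟩ : x ∈ Set.range φ := by
    rw [hrange]; exact (connectedComponentIn_subset _ _) hx
  have ht : t ∈ connectedComponent w₀ := by
    rw [← h1]; exact hx
  exact hsub ht

end Chain

section T3

variable {X Y : Scheme.{u}} (f : X ⟶ Y) (s : Y ⟶ X) (hs : s ≫ f = 𝟙 Y)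

include hs in
/-- **Section components near a fibre**: universally open and geometrically reduced along the
section component, over a locally Noetherian base. -/
theorem nhd_lft [IsLocallyNoetherian Y] [LocallyOfFiniteType f] (y : Y)
    (hyp : ∀ x ∈ connectedComponentIn (f ⁻¹' {y}) (s y), EGA43.IsUnivOpenAt f x ∧ x ∈ W f) :
    connectedComponentIn (f ⁻¹' {y}) (s y) ⊆ interior (MoreMor.sectionComponents f s) := by
  classical
  have hfs : ∀ y, f (s y) = y := fun y => Groth.Agent.Lib.Helper12.SecCompBC.sec_apply f s hs y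
  haveI : IsLocallyNoetherian X := LocallyOfFiniteType.isLocallyNoetherian f
  intro x hx
  have hfx : f x = y := (connectedComponentIn_subset (f ⁻¹' {y}) (s y)) hx
  obtain ⟨X₁, hX₁c, hsX₁, hxX₁⟩ := exists_compact_open_chain f y (s y) (hfs y) x hx
  -- `X₁` is a Noetherian space
  haveI : CompactSpace ↥(X₁ : Scheme.{u}) := isCompact_iff_compactSpace.mp hX₁c
  haveI : IsNoetherian (X₁ : Scheme.{u}) := {}
  have hX₁noeth : NoetherianSpace ↥(X₁ : Set X) :=
    inferInstanceAs (NoetherianSpace ↥(X₁ : Scheme.{u}))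
  obtain ⟨Y₃, hY₃, hyY₃, hY₃sub⟩ : ∃ Y₃ : Y.Opens, IsAffineOpen Y₃ ∧ y ∈ Y₃ ∧
      (Y₃ : Set Y) ⊆ s ⁻¹' (X₁ : Set X) := by
    obtain ⟨_, ⟨Y₃, hY₃, rfl⟩, hyY₃, hsub⟩ := Y.isBasis_affineOpens.exists_subset_of_mem_open
      (show y ∈ s ⁻¹' (X₁ : Set X) from hsX₁) (X₁.isOpen.preimage s.continuous)
    exact ⟨Y₃, hY₃, hyY₃, hsub⟩
  let U₃ : X.Opens := X₁ ⊓ f ⁻¹ᵁ Y₃
  have e : U₃ ≤ f ⁻¹ᵁ Y₃ := inf_le_right
  have hU₃c : IsCompact (U₃ : Set X) :=
    (noetherianSpace_set_iff _).mp hX₁noeth _ Set.inter_subset_left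
  let f₃ := f.resLE Y₃ U₃ e
  have hf₃ι : f₃ ≫ Y₃.ι = U₃.ι ≫ f := Scheme.Hom.resLE_comp_ι f e
  have hsrange : Set.range (Y₃.ι ≫ s) ⊆ Set.range U₃.ι := by
    rintro _ ⟨z, rfl⟩
    rw [Scheme.Opens.range_ι]
    refine ⟨hY₃sub z.2, ?_⟩
    show f (s z.1) ∈ Y₃
    rw [hfs]; exact z.2
  let s₃ : (Y₃ : Scheme.{u}) ⟶ U₃ := IsOpenImmersion.lift U₃.ι (Y₃.ι ≫ s) hsrange
  have hs₃ι : s₃ ≫ U₃.ι = Y₃.ι ≫ s := IsOpenImmersion.lift_fac _ _ _
  have hs₃ : s₃ ≫ f₃ = 𝟙 _ := by
    rw [← cancel_mono Y₃.ι, Category.assoc, hf₃ι, ← Category.assoc, hs₃ι, Category.assoc, hs,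
      Category.comp_id, Category.id_comp]
  haveI : LocallyOfFiniteType f₃ :=
    IsZariskiLocalAtSource.resLE e (inferInstance : LocallyOfFiniteType f)
  haveI : CompactSpace ↥(U₃ : Scheme.{u}) := isCompact_iff_compactSpace.mp hU₃c
  haveI : IsAffine (Y₃ : Scheme.{u}) := hY₃
  haveI : QuasiCompact f₃ := quasiCompact_of_compactSpace f₃
  haveI : IsLocallyNoetherian (Y₃ : Scheme.{u}) := inferInstance
  let y₃ : ↥(Y₃ : Scheme.{u}) := ⟨y, hyY₃⟩
  have hιf : ∀ z : ↥(U₃ : Scheme.{u}), f (U₃.ι z) = Y₃.ι (f₃ z) := by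
    intro z
    have := congrArg (fun ψ : (U₃ : Scheme.{u}) ⟶ Y => ψ z) hf₃ι
    simp only [Scheme.Hom.comp_apply] at this
    exact this.symm
  have hιs : ∀ z : ↥(Y₃ : Scheme.{u}), U₃.ι (s₃ z) = s (Y₃.ι z) := by
    intro z
    have := congrArg (fun ψ : (Y₃ : Scheme.{u}) ⟶ X => ψ z) hs₃ι
    simp only [Scheme.Hom.comp_apply] at this
    exact this
  have hf₃s : ∀ z, f₃ (s₃ z) = z := fun z =>
    Groth.Agent.Lib.Helper12.SecCompBC.sec_apply f₃ s₃ hs₃ z
  -- points of the section component of `f₃` over `y₃` map into the section component of `f`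
  have hK₃ : ∀ z ∈ connectedComponentIn (f₃ ⁻¹' {y₃}) (s₃ y₃),
      U₃.ι z ∈ connectedComponentIn (f ⁻¹' {y}) (s y) := by
    intro z hz
    have hpre : _root_.IsPreconnected (U₃.ι '' connectedComponentIn (f₃ ⁻¹' {y₃}) (s₃ y₃)) :=
      isPreconnected_connectedComponentIn.image _ U₃.ι.continuous.continuousOn
    have hsub : U₃.ι '' connectedComponentIn (f₃ ⁻¹' {y₃}) (s₃ y₃) ⊆ f ⁻¹' {y} := by
      rintro _ ⟨t, ht, rfl⟩
      have ht' : f₃ t = y₃ := (connectedComponentIn_subset (f₃ ⁻¹' {y₃}) (s₃ y₃)) ht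
      show f (U₃.ι t) = y
      rw [hιf, ht']
      rfl
    have hmem : s y ∈ U₃.ι '' connectedComponentIn (f₃ ⁻¹' {y₃}) (s₃ y₃) :=
      ⟨s₃ y₃, mem_connectedComponentIn (hf₃s _), hιs y₃⟩
    exact hpre.subset_connectedComponentIn hmem hsub ⟨z, hz, rfl⟩
  have hyp₃ : ∀ z ∈ connectedComponentIn (f₃ ⁻¹' {y₃}) (s₃ y₃),
      EGA43.IsUnivOpenAt f₃ z ∧ z ∈ W f₃ := by
    intro z hz
    obtain ⟨h1, h2⟩ := hyp _ (hK₃ z hz)
    refine ⟨isUnivOpenAt_resLE f Y₃ U₃ e z h1, ?_⟩
    rw [preimage_W_resLE f Y₃ U₃ e]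
    exact h2
  have hN := nhd_qc f₃ s₃ hs₃ y₃ hyp₃
  have hsc : ∀ z : ↥(U₃ : Scheme.{u}), z ∈ MoreMor.sectionComponents f₃ s₃ →
      U₃.ι z ∈ MoreMor.sectionComponents f s := by
    intro z hz
    have hz' : z ∈ connectedComponentIn (f₃ ⁻¹' {f₃ z}) (s₃ (f₃ z)) := hz
    have hpre : _root_.IsPreconnected (U₃.ι '' connectedComponentIn (f₃ ⁻¹' {f₃ z}) (s₃ (f₃ z))) :=
      isPreconnected_connectedComponentIn.image _ U₃.ι.continuous.continuousOn
    have hsub : U₃.ι '' connectedComponentIn (f₃ ⁻¹' {f₃ z}) (s₃ (f₃ z)) ⊆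
        f ⁻¹' {f (U₃.ι z)} := by
      rintro _ ⟨t, ht, rfl⟩
      have ht' : f₃ t = f₃ z := (connectedComponentIn_subset (f₃ ⁻¹' {f₃ z}) (s₃ (f₃ z))) ht
      show f (U₃.ι t) = f (U₃.ι z)
      rw [hιf, hιf, ht']
    have hmem : s (f (U₃.ι z)) ∈
        U₃.ι '' connectedComponentIn (f₃ ⁻¹' {f₃ z}) (s₃ (f₃ z)) := by
      refine ⟨s₃ (f₃ z), mem_connectedComponentIn (hf₃s _), ?_⟩
      rw [hιs, hιf]
    exact hpre.subset_connectedComponentIn hmem hsub ⟨z, hz', rfl⟩
  -- `x` lies in the section component of `f₃`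
  have hxU₃ : x ∈ U₃ :=
    ⟨((connectedComponentIn_subset _ _) hxX₁).1, by show f x ∈ Y₃; rw [hfx]; exact hyY₃⟩
  let x₃ : ↥(U₃ : Scheme.{u}) := ⟨x, hxU₃⟩
  have hx₃ : x₃ ∈ connectedComponentIn (f₃ ⁻¹' {y₃}) (s₃ y₃) := by
    set K₁ := connectedComponentIn ((X₁ : Set X) ∩ f ⁻¹' {y}) (s y) with hK₁
    have hK₁sub : K₁ ⊆ Set.range U₃.ι := by
      rw [Scheme.Opens.range_ι]
      intro z hz
      have := (connectedComponentIn_subset _ _) hz
      exact ⟨this.1, by show f z ∈ Y₃; rw [this.2]; exact hyY₃⟩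
    have himg : U₃.ι '' (U₃.ι ⁻¹' K₁) = K₁ := Set.image_preimage_eq_of_subset hK₁sub
    have hpre : _root_.IsPreconnected (U₃.ι ⁻¹' K₁) := by
      rw [← U₃.ι.isEmbedding.isInducing.isPreconnected_image, himg]
      exact isPreconnected_connectedComponentIn
    refine hpre.subset_connectedComponentIn ?_ ?_ (show U₃.ι x₃ ∈ K₁ from hxX₁)
    · show U₃.ι (s₃ y₃) ∈ K₁
      rw [hιs]
      exact mem_connectedComponentIn ⟨hsX₁, hfs y⟩
    · intro z hz
      have hz' : f (U₃.ι z) = y := ((connectedComponentIn_subset _ _) hz).2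
      show f₃ z = y₃
      apply Subtype.ext
      rw [hιf] at hz'
      exact hz'
  have h3 : x₃ ∈ interior (MoreMor.sectionComponents f₃ s₃) := hN hx₃
  rw [mem_interior]
  refine ⟨U₃.ι '' interior (MoreMor.sectionComponents f₃ s₃), ?_, ?_, ⟨x₃, h3, rfl⟩⟩
  · rintro _ ⟨z, hz, rfl⟩
    exact hsc z (interior_subset hz)
  · exact U₃.ι.isOpenEmbedding.isOpenMap _ isOpen_interior

end T3

end Groth.Agent.Lib.Helper12.SecCompUO
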