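import Mathlib
import Groth.Prelude.Def_MoreMor
import Groth.Agent.Lib.Helper12.SecCompUO
import Groth.Agent.Lib.Helper29.IsogFib

/-!
# Section components of a smooth morphism are open (helper12)
-/

set_option autoImplicit false
set_option linter.style.haveILetI false
universe u
open AlgebraicGeometry CategoryTheory Limits Topology TopologicalSpace

namespace Groth.Agent.Lib.Helper12.SecCompSmooth

open Groth.Agent.Lib.Helper12.SecCompNhd

section Chain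

variable {X Y : Scheme.{u}} (f : X ⟶ Y)

/-- variant of `SecCompUO.exists_compact_open_chain`, inside a given open containing the fibre -/
theorem exists_compact_open_chain_le [LocallyOfFiniteType f] (y : Y) (x₀ : X) (hx₀ : f x₀ = y)
    (O : X.Opens) (hO : f ⁻¹' {y} ⊆ (O : Set X))
    (x : X) (hx : x ∈ connectedComponentIn (f ⁻¹' {y}) x₀) :
    ∃ X₁ : X.Opens, X₁ ≤ O ∧ IsCompact (X₁ : Set X) ∧ x₀ ∈ X₁ ∧
      x ∈ connectedComponentIn ((X₁ : Set X) ∩ f ⁻¹' {y}) x₀ := by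
  classical
  let φ := f.fiberι y
  have hφ : IsEmbedding φ := (f.fiberι y).isEmbedding
  have hrange : Set.range φ = f ⁻¹' {y} := f.range_fiberι y
  obtain ⟨w₀, hw₀⟩ : ∃ w, φ w = x₀ := by
    have : x₀ ∈ Set.range φ := by rw [hrange]; exact hx₀
    exact this
  haveI : LocallyOfFiniteType (f.fiberToSpecResidueField y) :=
    MorphismProperty.pullback_snd (P := @LocallyOfFiniteType) _ _ inferInstance
  haveI : IsLocallyNoetherian (f.fiber y) :=
    LocallyOfFiniteType.isLocallyNoetherian (f.fiberToSpecResidueField y)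
  haveI : LocallyConnectedSpace (f.fiber y) := SecCompUO.locallyConnectedSpace _
  set F := f ⁻¹' {y} with hF
  have hφF : ∀ t, φ t ∈ F := fun t => by rw [← hrange]; exact ⟨t, rfl⟩
  let A' : Set ↥(f.fiber y) := {t | ∃ X₁ : X.Opens, X₁ ≤ O ∧ IsCompact (X₁ : Set X) ∧ x₀ ∈ X₁ ∧
    φ t ∈ connectedComponentIn ((X₁ : Set X) ∩ F) x₀}
  -- local structure
  have hloc : ∀ t : ↥(f.fiber y), ∃ (N : X.Opens) (C : Set ↥(f.fiber y)), IsAffineOpen N ∧
      N ≤ O ∧ IsOpen C ∧ _root_.IsPreconnected C ∧ t ∈ C ∧ φ '' C ⊆ N := by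
    intro t
    obtain ⟨_, ⟨N, hN, rfl⟩, htN, hNO⟩ := X.isBasis_affineOpens.exists_subset_of_mem_open
      (hO (hφF t)) O.isOpen
    have hop : IsOpen (φ ⁻¹' (N : Set X)) := N.isOpen.preimage φ.continuous
    obtain ⟨C, hCsub, hCo, htC, hCc⟩ :=
      (locallyConnectedSpace_iff_subsets_isOpen_isConnected.mp inferInstance) t
        (φ ⁻¹' (N : Set X)) (hop.mem_nhds htN)
    exact ⟨N, C, hN, hNO, hCo, hCc.isPreconnected, htC, by
      rintro _ ⟨c, hc, rfl⟩; exact hCsub hc⟩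
  -- merging
  have hmerge : ∀ (t₁ t₂ : ↥(f.fiber y)) (N : X.Opens) (C : Set ↥(f.fiber y)), IsAffineOpen N →
      N ≤ O → _root_.IsPreconnected C → t₁ ∈ C → t₂ ∈ C → φ '' C ⊆ N → t₁ ∈ A' → t₂ ∈ A' := by
    rintro t₁ t₂ N C hN hNO hC ht₁ ht₂ hCN ⟨X₁, hX₁O, hX₁c, hx₀X₁, ht₁X₁⟩
    refine ⟨X₁ ⊔ N, sup_le hX₁O hNO, ?_, Or.inl hx₀X₁, ?_⟩
    · exact hX₁c.union hN.isCompact
    · have h1 : _root_.IsPreconnected (connectedComponentIn ((X₁ : Set X) ∩ F) x₀ ∪ φ '' C) :=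
        IsPreconnected.union (φ t₁) ht₁X₁ ⟨t₁, ht₁, rfl⟩ isPreconnected_connectedComponentIn
          (hC.image _ φ.continuous.continuousOn)
      have h2 : connectedComponentIn ((X₁ : Set X) ∩ F) x₀ ∪ φ '' C ⊆
          ((X₁ ⊔ N : X.Opens) : Set X) ∩ F := by
        rintro z (hz | ⟨c, hc, rfl⟩)
        · have := (connectedComponentIn_subset _ _) hz
          exact ⟨Or.inl this.1, this.2⟩
        · exact ⟨Or.inr (hCN ⟨c, hc, rfl⟩), hφF c⟩
      have h3 : x₀ ∈ connectedComponentIn ((X₁ : Set X) ∩ F) x₀ ∪ φ '' C :=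
        Or.inl (mem_connectedComponentIn ⟨hx₀X₁, hx₀⟩)
      exact h1.subset_connectedComponentIn h3 h2 (Or.inr ⟨t₂, ht₂, rfl⟩)
  have hA'open : IsOpen A' := by
    rw [isOpen_iff_forall_mem_open]
    intro t ht
    obtain ⟨N, C, hN, hNO, hCo, hCc, htC, hCN⟩ := hloc t
    exact ⟨C, fun t' ht' => hmerge t t' N C hN hNO hCc htC ht' hCN ht, hCo, htC⟩
  have hA'closed : IsClosed A' := by
    rw [← isOpen_compl_iff, isOpen_iff_forall_mem_open]
    intro t ht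
    obtain ⟨N, C, hN, hNO, hCo, hCc, htC, hCN⟩ := hloc t
    exact ⟨C, fun t' ht' ht'A => ht (hmerge t' t N C hN hNO hCc ht' htC hCN ht'A), hCo, htC⟩
  have hw₀A : w₀ ∈ A' := by
    obtain ⟨_, ⟨N, hN, rfl⟩, hxN, hNO⟩ := X.isBasis_affineOpens.exists_subset_of_mem_open
      (hO (show x₀ ∈ F from hx₀)) O.isOpen
    refine ⟨N, hNO, hN.isCompact, hxN, ?_⟩
    rw [hw₀]
    exact mem_connectedComponentIn ⟨hxN, hx₀⟩
  have hsub : connectedComponent w₀ ⊆ A' :=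
    IsClopen.connectedComponent_subset (⟨hA'closed, hA'open⟩ : IsClopen A') hw₀A
  have h1 := Groth.Agent.Lib.Helper12.SecCompGC.preimage_connectedComponentIn_range φ hφ w₀
  rw [hw₀, hrange] at h1
  obtain ⟨t, rfl⟩ : x ∈ Set.range φ := by
    rw [hrange]; exact (connectedComponentIn_subset _ _) hx
  have ht : t ∈ connectedComponent w₀ := by
    rw [← h1]; exact hx
  exact hsub ht

end Chain

section Transfer

variable {X Y : Scheme.{u}} (f : X ⟶ Y) (s : Y ⟶ X) (hs : s ≫ f = 𝟙 Y)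

include hs in
/-- Transfer of the neighbourhood statement from a restriction `f.resLE Y₃ U₃` to `f`. -/
theorem mem_interior_of_resLE (Y₃ : Y.Opens) (U₃ : X.Opens) (e : U₃ ≤ f ⁻¹ᵁ Y₃)
    (hsub : ∀ z ∈ Y₃, s z ∈ U₃) (y : Y) (hy : y ∈ Y₃) (x : X)
    (K : Set X) (hK : _root_.IsPreconnected K) (hKU : K ⊆ (U₃ : Set X)) (hKf : K ⊆ f ⁻¹' {y})
    (hsK : s y ∈ K) (hxK : x ∈ K)
    (H : ∀ s₃ : (Y₃ : Scheme.{u}) ⟶ U₃, s₃ ≫ U₃.ι = Y₃.ι ≫ s → s₃ ≫ f.resLE Y₃ U₃ e = 𝟙 _ →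
      connectedComponentIn ((f.resLE Y₃ U₃ e) ⁻¹' {⟨y, hy⟩}) (s₃ ⟨y, hy⟩) ⊆
        interior (MoreMor.sectionComponents (f.resLE Y₃ U₃ e) s₃)) :
    x ∈ interior (MoreMor.sectionComponents f s) := by
  classical
  have hfs : ∀ y, f (s y) = y := fun y => Groth.Agent.Lib.Helper12.SecCompBC.sec_apply f s hs y
  let f₃ := f.resLE Y₃ U₃ e
  have hf₃ι : f₃ ≫ Y₃.ι = U₃.ι ≫ f := Scheme.Hom.resLE_comp_ι f e
  have hsrange : Set.range (Y₃.ι ≫ s) ⊆ Set.range U₃.ι := by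
    rintro _ ⟨z, rfl⟩
    rw [Scheme.Opens.range_ι]
    exact hsub _ z.2
  let s₃ : (Y₃ : Scheme.{u}) ⟶ U₃ := IsOpenImmersion.lift U₃.ι (Y₃.ι ≫ s) hsrange
  have hs₃ι : s₃ ≫ U₃.ι = Y₃.ι ≫ s := IsOpenImmersion.lift_fac _ _ _
  have hs₃ : s₃ ≫ f₃ = 𝟙 _ := by
    rw [← cancel_mono Y₃.ι, Category.assoc, hf₃ι, ← Category.assoc, hs₃ι, Category.assoc, hs,
      Category.comp_id, Category.id_comp]
  let y₃ : ↥(Y₃ : Scheme.{u}) := ⟨y, hy⟩
  have hιf : ∀ z : ↥(U₃ : Scheme.{u}), f (U₃.ι z) = Y₃.ι (f₃ z) := by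
    intro z
    have := congrArg (fun ψ : (U₃ : Scheme.{u}) ⟶ Y => ψ z) hf₃ι
    simp only [Scheme.Hom.comp_apply] at this
    exact this.symm
  have hιs : ∀ z : ↥(Y₃ : Scheme.{u}), U₃.ι (s₃ z) = s (Y₃.ι z) := by
    intro z
    have := congrArg (fun ψ : (Y₃ : Scheme.{u}) ⟶ X => ψ z) hs₃ι
    simp only [Scheme.Hom.comp_apply] at this
    exact this
  have hf₃s : ∀ z, f₃ (s₃ z) = z := fun z =>
    Groth.Agent.Lib.Helper12.SecCompBC.sec_apply f₃ s₃ hs₃ z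
  have hN := H s₃ hs₃ι hs₃
  have hsc : ∀ z : ↥(U₃ : Scheme.{u}), z ∈ MoreMor.sectionComponents f₃ s₃ →
      U₃.ι z ∈ MoreMor.sectionComponents f s := by
    intro z hz
    have hz' : z ∈ connectedComponentIn (f₃ ⁻¹' {f₃ z}) (s₃ (f₃ z)) := hz
    have hpre : _root_.IsPreconnected (U₃.ι '' connectedComponentIn (f₃ ⁻¹' {f₃ z}) (s₃ (f₃ z))) :=
      isPreconnected_connectedComponentIn.image _ U₃.ι.continuous.continuousOn
    have hsub' : U₃.ι '' connectedComponentIn (f₃ ⁻¹' {f₃ z}) (s₃ (f₃ z)) ⊆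
        f ⁻¹' {f (U₃.ι z)} := by
      rintro _ ⟨t, ht, rfl⟩
      have ht' : f₃ t = f₃ z := (connectedComponentIn_subset (f₃ ⁻¹' {f₃ z}) (s₃ (f₃ z))) ht
      show f (U₃.ι t) = f (U₃.ι z)
      rw [hιf, hιf, ht']
    have hmem : s (f (U₃.ι z)) ∈
        U₃.ι '' connectedComponentIn (f₃ ⁻¹' {f₃ z}) (s₃ (f₃ z)) := by
      refine ⟨s₃ (f₃ z), mem_connectedComponentIn (hf₃s _), ?_⟩
      rw [hιs, hιf]
    exact hpre.subset_connectedComponentIn hmem hsub' ⟨z, hz', rfl⟩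
  have hxU₃ : x ∈ U₃ := hKU hxK
  let x₃ : ↥(U₃ : Scheme.{u}) := ⟨x, hxU₃⟩
  have hx₃ : x₃ ∈ connectedComponentIn (f₃ ⁻¹' {y₃}) (s₃ y₃) := by
    have hK₁sub : K ⊆ Set.range U₃.ι := by
      rw [Scheme.Opens.range_ι]
      exact hKU
    have himg : U₃.ι '' (U₃.ι ⁻¹' K) = K := Set.image_preimage_eq_of_subset hK₁sub
    have hpre : _root_.IsPreconnected (U₃.ι ⁻¹' K) := by
      rw [← U₃.ι.isEmbedding.isInducing.isPreconnected_image, himg]
      exact hK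
    refine hpre.subset_connectedComponentIn ?_ ?_ (show U₃.ι x₃ ∈ K from hxK)
    · show U₃.ι (s₃ y₃) ∈ K
      rw [hιs]
      exact hsK
    · intro z hz
      have hz' : f (U₃.ι z) = y := hKf hz
      show f₃ z = y₃
      apply Subtype.ext
      rw [hιf] at hz'
      exact hz'
  have h3 : x₃ ∈ interior (MoreMor.sectionComponents f₃ s₃) := hN hx₃
  rw [mem_interior]
  refine ⟨U₃.ι '' interior (MoreMor.sectionComponents f₃ s₃), ?_, ?_, ⟨x₃, h3, rfl⟩⟩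
  · rintro _ ⟨z, hz, rfl⟩
    exact hsc z (interior_subset hz)
  · exact U₃.ι.isOpenEmbedding.isOpenMap _ isOpen_interior

end Transfer

section Main

variable {S X : Scheme.{u}} (f : X ⟶ S) (e : S ⟶ X) (he : e ≫ f = 𝟙 S)

include he in
/-- **S15351**: the section components of a smooth morphism with quasi-separated source are
open. -/
theorem isOpen_sectionComponents_of_smooth [QuasiSeparatedSpace ↥X] [Smooth f] :
    IsOpen (MoreMor.sectionComponents f e) := by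
  classical
  have hfs : ∀ y, f (e y) = y := fun y => Groth.Agent.Lib.Helper12.SecCompBC.sec_apply f e he y
  rw [isOpen_iff_forall_mem_open]
  intro x hx
  suffices h : x ∈ interior (MoreMor.sectionComponents f e) by
    exact ⟨interior (MoreMor.sectionComponents f e), interior_subset, isOpen_interior, h⟩
  set y := f x with hy
  have hx' : x ∈ connectedComponentIn (f ⁻¹' {y}) (e y) := hx
  obtain ⟨Y₀, hY₀, hyY₀⟩ : ∃ V : S.Opens, IsAffineOpen V ∧ y ∈ V := by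
    obtain ⟨_, ⟨V, hV, rfl⟩, hyV, -⟩ := S.isBasis_affineOpens.exists_subset_of_mem_open
      (Set.mem_univ y) isOpen_univ
    exact ⟨V, hV, hyV⟩
  have hO : f ⁻¹' {y} ⊆ ((f ⁻¹ᵁ Y₀ : X.Opens) : Set X) := by
    intro z hz
    show f z ∈ Y₀
    rw [show f z = y from hz]; exact hyY₀
  obtain ⟨X₁, hX₁O, hX₁c, hsX₁, hxX₁⟩ :=
    exists_compact_open_chain_le f y (e y) (hfs y) (f ⁻¹ᵁ Y₀) hO x hx'
  obtain ⟨Y₃, hY₃, hyY₃, hY₃sub⟩ : ∃ Y₃ : S.Opens, IsAffineOpen Y₃ ∧ y ∈ Y₃ ∧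
      (Y₃ : Set S) ⊆ (Y₀ : Set S) ∩ e ⁻¹' (X₁ : Set X) := by
    obtain ⟨_, ⟨Y₃, hY₃, rfl⟩, hyY₃, hsub⟩ := S.isBasis_affineOpens.exists_subset_of_mem_open
      (show y ∈ (Y₀ : Set S) ∩ e ⁻¹' (X₁ : Set X) from ⟨hyY₀, hsX₁⟩)
      (Y₀.isOpen.inter (X₁.isOpen.preimage e.continuous))
    exact ⟨Y₃, hY₃, hyY₃, hsub⟩
  let U₃ : X.Opens := X₁ ⊓ f ⁻¹ᵁ Y₃
  have e₃ : U₃ ≤ f ⁻¹ᵁ Y₃ := inf_le_right
  -- `U₃` is compact
  have hU₃c : IsCompact (U₃ : Set X) := by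
    let g := f.resLE Y₀ X₁ hX₁O
    haveI : CompactSpace ↥(X₁ : Scheme.{u}) := isCompact_iff_compactSpace.mp hX₁c
    haveI : IsAffine (Y₀ : Scheme.{u}) := hY₀
    haveI : QuasiCompact g := quasiCompact_of_compactSpace g
    have hgι : g ≫ Y₀.ι = X₁.ι ≫ f := Scheme.Hom.resLE_comp_ι f hX₁O
    have hc1 : IsCompact (Y₀.ι ⁻¹' (Y₃ : Set S)) := by
      rw [Y₀.ι.isEmbedding.isInducing.isCompact_preimage_iff]
      · exact hY₃.isCompact
      · rw [Scheme.Opens.range_ι]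
        exact fun z hz => (hY₃sub hz).1
    have hc2 : IsCompact (g ⁻¹' (Y₀.ι ⁻¹' (Y₃ : Set S))) :=
      QuasiCompact.isCompact_preimage (f := g) _ (Y₃.isOpen.preimage Y₀.ι.continuous) hc1
    have hc3 := hc2.image X₁.ι.continuous
    convert hc3 using 1
    ext z
    constructor
    · rintro ⟨hz1, hz2⟩
      refine ⟨⟨z, hz1⟩, ?_, rfl⟩
      show Y₀.ι (g ⟨z, hz1⟩) ∈ Y₃
      have := congrArg (fun ψ : (X₁ : Scheme.{u}) ⟶ S => ψ ⟨z, hz1⟩) hgι
      simp only [Scheme.Hom.comp_apply] at this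
      rw [this]
      exact hz2
    · rintro ⟨w, hw, rfl⟩
      refine ⟨w.2, ?_⟩
      show f (X₁.ι w) ∈ Y₃
      have := congrArg (fun ψ : (X₁ : Scheme.{u}) ⟶ S => ψ w) hgι
      simp only [Scheme.Hom.comp_apply] at this
      rw [← this]
      exact hw
  set K := connectedComponentIn ((X₁ : Set X) ∩ f ⁻¹' {y}) (e y) with hKdef
  have hKsub : K ⊆ (X₁ : Set X) ∩ f ⁻¹' {y} := connectedComponentIn_subset _ _
  refine mem_interior_of_resLE f e he Y₃ U₃ e₃ ?_ y hyY₃ x K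
    isPreconnected_connectedComponentIn ?_ (fun z hz => (hKsub hz).2)
    (mem_connectedComponentIn ⟨hsX₁, hfs y⟩) hxX₁ ?_
  · intro z hz
    refine ⟨(hY₃sub hz).2, ?_⟩
    show f (e z) ∈ Y₃
    rw [hfs]; exact hz
  · intro z hz
    refine ⟨(hKsub hz).1, ?_⟩
    show f z ∈ Y₃
    rw [show f z = y from (hKsub hz).2]; exact hyY₃
  · intro s₃ hs₃ι hs₃
    let f₃ := f.resLE Y₃ U₃ e₃
    haveI : Smooth f₃ := IsZariskiLocalAtSource.resLE e₃ (inferInstance : Smooth f)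
    haveI : CompactSpace ↥(U₃ : Scheme.{u}) := isCompact_iff_compactSpace.mp hU₃c
    haveI : IsAffine (Y₃ : Scheme.{u}) := hY₃
    haveI : QuasiCompact f₃ := quasiCompact_of_compactSpace f₃
    haveI : QuasiSeparatedSpace ↥(U₃ : Scheme.{u}) :=
      QuasiSeparatedSpace.of_isOpenEmbedding U₃.ι.isOpenEmbedding
    haveI : QuasiSeparated f₃ :=
      (HasAffineProperty.iff_of_isAffine (P := @QuasiSeparated)).mpr inferInstance
    haveI : Smooth (f₃.fiberToSpecResidueField ⟨y, hyY₃⟩) :=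
      MorphismProperty.pullback_snd (P := @Smooth) _ _ inferInstance
    exact nhd_of_geometricallyReduced f₃ s₃ hs₃ ⟨y, hyY₃⟩
      (Groth.Agent.Lib.Helper29.IsogFib.geomRed_of_smooth _)

end Main

end Groth.Agent.Lib.Helper12.SecCompSmooth
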