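import Mathlib
import Groth.Prelude.Def_MoreMor
import Groth.Agent.Lib.Helper12.SecCompSmooth
import Groth.Agent.S1583

/-!
# Fibrewise components meeting the image of a universally open morphism (helper12)
-/

set_option autoImplicit false
set_option linter.style.haveILetI false
universe u
open AlgebraicGeometry CategoryTheory Limits Topology TopologicalSpace

namespace Groth.Agent.Lib.Helper12.SecCompSmooth

open Groth.Agent.Lib.Helper12.SecCompNhd

section Main2

variable {S X : Scheme.{u}} (f : X ⟶ S) (e : S ⟶ X) (he : e ≫ f = 𝟙 S)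

include he in
/-- Variant of `isOpen_sectionComponents_of_smooth`: preimages of affine opens are
quasi-separated. -/
theorem isOpen_sectionComponents_of_smooth_of_qs [Smooth f]
    (hqs : ∀ V : S.Opens, IsAffineOpen V → QuasiSeparatedSpace ↥((f ⁻¹ᵁ V : X.Opens) : Scheme.{u})) :
    IsOpen (MoreMor.sectionComponents f e) := by
  classical
  have hfs : ∀ y, f (e y) = y := fun y => Groth.Agent.Lib.Helper12.SecCompBC.sec_apply f e he y
  rw [isOpen_iff_forall_mem_open]
  intro x hx
  suffices h : x ∈ interior (MoreMor.sectionComponents f e) by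
    exact ⟨interior (MoreMor.sectionComponents f e), interior_subset, isOpen_interior, h⟩
  set y := f x with hy
  have hx' : x ∈ connectedComponentIn (f ⁻¹' {y}) (e y) := hx
  obtain ⟨Y₀, hY₀, hyY₀⟩ : ∃ V : S.Opens, IsAffineOpen V ∧ y ∈ V := by
    obtain ⟨_, ⟨V, hV, rfl⟩, hyV, -⟩ := S.isBasis_affineOpens.exists_subset_of_mem_open
      (Set.mem_univ y) isOpen_univ
    exact ⟨V, hV, hyV⟩
  have hO : f ⁻¹' {y} ⊆ ((f ⁻¹ᵁ Y₀ : X.Opens) : Set X) := by
    intro z hz
    show f z ∈ Y₀
    rw [show f z = y from hz]; exact hyY₀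
  obtain ⟨X₁, hX₁O, hX₁c, hsX₁, hxX₁⟩ :=
    exists_compact_open_chain_le f y (e y) (hfs y) (f ⁻¹ᵁ Y₀) hO x hx'
  obtain ⟨Y₃, hY₃, hyY₃, hY₃sub⟩ : ∃ Y₃ : S.Opens, IsAffineOpen Y₃ ∧ y ∈ Y₃ ∧
      (Y₃ : Set S) ⊆ (Y₀ : Set S) ∩ e ⁻¹' (X₁ : Set X) := by
    obtain ⟨_, ⟨Y₃, hY₃, rfl⟩, hyY₃, hsub⟩ := S.isBasis_affineOpens.exists_subset_of_mem_open
      (show y ∈ (Y₀ : Set S) ∩ e ⁻¹' (X₁ : Set X) from ⟨hyY₀, hsX₁⟩)
      (Y₀.isOpen.inter (X₁.isOpen.preimage e.continuous))
    exact ⟨Y₃, hY₃, hyY₃, hsub⟩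
  let U₃ : X.Opens := X₁ ⊓ f ⁻¹ᵁ Y₃
  have e₃ : U₃ ≤ f ⁻¹ᵁ Y₃ := inf_le_right
  -- `U₃` is compact
  have hU₃c : IsCompact (U₃ : Set X) := by
    let g := f.resLE Y₀ X₁ hX₁O
    haveI : CompactSpace ↥(X₁ : Scheme.{u}) := isCompact_iff_compactSpace.mp hX₁c
    haveI : IsAffine (Y₀ : Scheme.{u}) := hY₀
    haveI : QuasiCompact g := quasiCompact_of_compactSpace g
    have hgι : g ≫ Y₀.ι = X₁.ι ≫ f := Scheme.Hom.resLE_comp_ι f hX₁O
    have hc1 : IsCompact (Y₀.ι ⁻¹' (Y₃ : Set S)) := by
      rw [Y₀.ι.isEmbedding.isInducing.isCompact_preimage_iff]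
      · exact hY₃.isCompact
      · rw [Scheme.Opens.range_ι]
        exact fun z hz => (hY₃sub hz).1
    have hc2 : IsCompact (g ⁻¹' (Y₀.ι ⁻¹' (Y₃ : Set S))) :=
      QuasiCompact.isCompact_preimage (f := g) _ (Y₃.isOpen.preimage Y₀.ι.continuous) hc1
    have hc3 := hc2.image X₁.ι.continuous
    convert hc3 using 1
    ext z
    constructor
    · rintro ⟨hz1, hz2⟩
      refine ⟨⟨z, hz1⟩, ?_, rfl⟩
      show Y₀.ι (g ⟨z, hz1⟩) ∈ Y₃
      have := congrArg (fun ψ : (X₁ : Scheme.{u}) ⟶ S => ψ ⟨z, hz1⟩) hgι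
      simp only [Scheme.Hom.comp_apply] at this
      rw [this]
      exact hz2
    · rintro ⟨w, hw, rfl⟩
      refine ⟨w.2, ?_⟩
      show f (X₁.ι w) ∈ Y₃
      have := congrArg (fun ψ : (X₁ : Scheme.{u}) ⟶ S => ψ w) hgι
      simp only [Scheme.Hom.comp_apply] at this
      rw [← this]
      exact hw
  set K := connectedComponentIn ((X₁ : Set X) ∩ f ⁻¹' {y}) (e y) with hKdef
  have hKsub : K ⊆ (X₁ : Set X) ∩ f ⁻¹' {y} := connectedComponentIn_subset _ _
  refine mem_interior_of_resLE f e he Y₃ U₃ e₃ ?_ y hyY₃ x K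
    isPreconnected_connectedComponentIn ?_ (fun z hz => (hKsub hz).2)
    (mem_connectedComponentIn ⟨hsX₁, hfs y⟩) hxX₁ ?_
  · intro z hz
    refine ⟨(hY₃sub hz).2, ?_⟩
    show f (e z) ∈ Y₃
    rw [hfs]; exact hz
  · intro z hz
    refine ⟨(hKsub hz).1, ?_⟩
    show f z ∈ Y₃
    rw [show f z = y from (hKsub hz).2]; exact hyY₃
  · intro s₃ hs₃ι hs₃
    let f₃ := f.resLE Y₃ U₃ e₃
    haveI : Smooth f₃ := IsZariskiLocalAtSource.resLE e₃ (inferInstance : Smooth f)
    haveI : CompactSpace ↥(U₃ : Scheme.{u}) := isCompact_iff_compactSpace.mp hU₃c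
    haveI : IsAffine (Y₃ : Scheme.{u}) := hY₃
    haveI : QuasiCompact f₃ := quasiCompact_of_compactSpace f₃
    haveI : QuasiSeparatedSpace ↥(U₃ : Scheme.{u}) := by
      haveI := hqs Y₀ hY₀
      have hle : U₃ ≤ f ⁻¹ᵁ Y₀ := inf_le_left.trans hX₁O
      exact QuasiSeparatedSpace.of_isOpenEmbedding (X.homOfLE hle).isOpenEmbedding
    haveI : QuasiSeparated f₃ :=
      (HasAffineProperty.iff_of_isAffine (P := @QuasiSeparated)).mpr inferInstance
    haveI : Smooth (f₃.fiberToSpecResidueField ⟨y, hyY₃⟩) :=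
      MorphismProperty.pullback_snd (P := @Smooth) _ _ inferInstance
    exact nhd_of_geometricallyReduced f₃ s₃ hs₃ ⟨y, hyY₃⟩
      (Groth.Agent.Lib.Helper29.IsogFib.geomRed_of_smooth _)

include he in
theorem isOpen_sectionComponents_of_smooth_of_quasiSeparated [Smooth f] [QuasiSeparated f] :
    IsOpen (MoreMor.sectionComponents f e) := by
  refine isOpen_sectionComponents_of_smooth_of_qs f e he fun V hV => ?_
  haveI : IsAffine (V : Scheme.{u}) := hV
  exact quasiSeparatedSpace_of_quasiSeparated (f ∣_ V)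

end Main2

section FibreComp

variable {X Y X' Y' : Scheme.{u}} {f : X ⟶ Y} {f' : X' ⟶ Y'} {g' : X' ⟶ X} {g : Y' ⟶ Y}

/-- connected components of a fibre, as images of connected components of the scheme-theoretic
fibre -/
theorem connectedComponentIn_fibre_eq (f : X ⟶ Y) (y : Y) (t : f.fiber y) :
    connectedComponentIn (f ⁻¹' {y}) (f.fiberι y t) = f.fiberι y '' connectedComponent t := by
  have h1 := Groth.Agent.Lib.Helper12.SecCompGC.preimage_connectedComponentIn_range
    (f.fiberι y) (f.fiberι y).isEmbedding t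
  rw [f.range_fiberι y] at h1
  rw [← h1, Set.image_preimage_eq_of_subset]
  rw [f.range_fiberι y]
  exact connectedComponentIn_subset _ _

/-- **Images of connected components of fibres under base change** (from `S1583`). -/
theorem image_connectedComponentIn_fibre (hc : IsPullback g' f' f g) (y' : Y') (w' : X')
    (hw' : f' w' = y') :
    g' '' connectedComponentIn (f' ⁻¹' {y'}) w' =
      connectedComponentIn (f ⁻¹' {g y'}) (g' w') := by
  let A : f'.fiber y' ⟶ f.fiber (g y') :=
    pullback.map f' (Y'.fromSpecResidueField y') f (Y.fromSpecResidueField (g y')) g'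
      (Spec.map (g.residueFieldMap y')) g hc.w.symm (by simp)
  have hP : IsPullback A (f'.fiberToSpecResidueField y') (f.fiberToSpecResidueField (g y'))
      (Spec.map (g.residueFieldMap y')) :=
    isPullback_fiberToSpecResidueField_of_isPullback hc y'
  have hAι : A ≫ f.fiberι (g y') = f'.fiberι y' ≫ g' := pullback.lift_fst _ _ _
  letI ovF : (f.fiber (g y')).Over (Spec (CommRingCat.of (Y.residueField (g y')))) :=
    ⟨f.fiberToSpecResidueField (g y')⟩
  letI : Algebra (Y.residueField (g y')) (Y'.residueField y') :=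
    (g.residueFieldMap y').hom.toAlgebra
  let ε : f'.fiber y' ≅ Curv2.bc (Y.residueField (g y')) (f.fiber (g y')) (Y'.residueField y') :=
    hP.isoPullback
  have hε : ε.hom ≫ Curv2.bcFst (Y.residueField (g y')) (f.fiber (g y')) (Y'.residueField y') = A :=
    hP.isoPullback_hom_fst
  -- the point of the fibre
  obtain ⟨t', ht'⟩ : ∃ t' : f'.fiber y', f'.fiberι y' t' = w' := by
    have : w' ∈ Set.range (f'.fiberι y') := by rw [f'.range_fiberι y']; exact hw'
    exact this
  have hAt : f.fiberι (g y') (A t') = g' w' := by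
    have h5 : (A ≫ f.fiberι (g y')) t' = (f'.fiberι y' ≫ g') t' := by rw [hAι]
    rw [Scheme.Hom.comp_apply, Scheme.Hom.comp_apply, ht'] at h5
    exact h5
  -- `A` maps the connected component of `t'` onto the connected component of `A t'`
  have hAcc : A '' connectedComponent t' = connectedComponent (A t') := by
    have h1 := Groth.Agent.S1583.result (Y.residueField (g y')) (f.fiber (g y'))
      (Y'.residueField y') (ε.hom t')
    have h2 : ε.hom '' connectedComponent t' = connectedComponent (ε.hom t') := by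
      have := (Scheme.homeoOfIso ε).image_connectedComponentIn (s := Set.univ) (x := t')
        (Set.mem_univ _)
      rw [connectedComponentIn_univ, Set.image_univ_of_surjective (Scheme.homeoOfIso ε).surjective,
        connectedComponentIn_univ] at this
      exact this
    have h3 : ∀ z, Curv2.bcFst (Y.residueField (g y')) (f.fiber (g y')) (Y'.residueField y')
        (ε.hom z) = A z := by
      intro z
      have := congrArg (fun ψ : f'.fiber y' ⟶ f.fiber (g y') => ψ z) hε
      simpa only [Scheme.Hom.comp_apply] using this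
    rw [← h2, Set.image_image] at h1
    rw [h3] at h1
    rw [← h1]
    exact Set.image_congr fun z _ => (h3 z).symm
  rw [← ht', connectedComponentIn_fibre_eq f' y' t', Set.image_image]
  have h4 : ∀ z : f'.fiber y', g' (f'.fiberι y' z) = f.fiberι (g y') (A z) := by
    intro z
    have h5 : (A ≫ f.fiberι (g y')) z = (f'.fiberι y' ≫ g') z := by rw [hAι]
    rw [Scheme.Hom.comp_apply, Scheme.Hom.comp_apply] at h5
    exact h5.symm
  rw [Set.image_congr fun z _ => h4 z, ← Set.image_image (f.fiberι (g y')) A, hAcc, h4 t',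
    connectedComponentIn_fibre_eq f (g y') (A t')]

end FibreComp

section Main3

variable {S S' X : Scheme.{u}} (f : X ⟶ S)

/-- **S15350**. -/
theorem exists_open_fibrewise_components [Smooth f] [QuasiCompact f] [QuasiSeparated f]
    (g : S' ⟶ S) [UniversallyOpen g] (e : S' ⟶ X) (he : e ≫ f = g) :
    ∃ U : X.Opens, ∀ s : S, (U : Set ↥X) ∩ f.base ⁻¹' {s} =
      ⋃ x ∈ Set.range e.base ∩ f.base ⁻¹' {s}, connectedComponentIn (f.base ⁻¹' {s}) x := by
  classical
  let f' := pullback.snd f g
  let pr := pullback.fst f g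
  have hc : IsPullback pr f' f g := IsPullback.of_hasPullback f g
  let e' : S' ⟶ pullback f g := pullback.lift e (𝟙 S') (by rw [he, Category.id_comp])
  have he'1 : e' ≫ pr = e := pullback.lift_fst _ _ _
  have he'2 : e' ≫ f' = 𝟙 S' := pullback.lift_snd _ _ _
  haveI : Smooth f' := MorphismProperty.pullback_snd (P := @Smooth) f g inferInstance
  haveI : QuasiSeparated f' := inferInstance
  haveI : UniversallyOpen pr := MorphismProperty.pullback_fst (P := @UniversallyOpen) f g inferInstance
  have hopen : IsOpen (MoreMor.sectionComponents f' e') :=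
    isOpen_sectionComponents_of_smooth_of_quasiSeparated f' e' he'2
  have hU : IsOpen (pr '' MoreMor.sectionComponents f' e') := pr.isOpenMap _ hopen
  have hpe : ∀ z, pr (e' z) = e z := by
    intro z
    have := congrArg (fun ψ : S' ⟶ X => ψ z) he'1
    simpa only [Scheme.Hom.comp_apply] using this
  have hfe' : ∀ z, f' (e' z) = z := fun z =>
    Groth.Agent.Lib.Helper12.SecCompBC.sec_apply f' e' he'2 z
  have hfe : ∀ z, f (e z) = g z := by
    intro z
    have := congrArg (fun ψ : S' ⟶ S => ψ z) he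
    simpa only [Scheme.Hom.comp_apply] using this
  have hsq : ∀ z, f (pr z) = g (f' z) := by
    intro z
    have := congrArg (fun ψ : pullback f g ⟶ S => ψ z) hc.w
    simpa only [Scheme.Hom.comp_apply] using this
  refine ⟨⟨pr '' MoreMor.sectionComponents f' e', hU⟩, fun s => ?_⟩
  ext z
  simp only [Set.mem_inter_iff, Set.mem_iUnion, exists_prop]
  constructor
  · rintro ⟨⟨z', hz', rfl⟩, hzs⟩
    have hzs' : f (pr z') = s := hzs
    set s' := f' z' with hs'
    have hz'' : z' ∈ connectedComponentIn (f' ⁻¹' {s'}) (e' s') := hz'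
    have himg := image_connectedComponentIn_fibre hc s' (e' s') (hfe' s')
    have hgs : g s' = s := by rw [← hsq, hzs']
    have hmem : pr z' ∈ pr '' connectedComponentIn (f' ⁻¹' {s'}) (e' s') := ⟨z', hz'', rfl⟩
    rw [himg, hpe, hgs] at hmem
    refine ⟨e s', ⟨⟨s', rfl⟩, ?_⟩, hmem⟩
    show f (e s') = s
    rw [hfe, hgs]
  · rintro ⟨x, ⟨⟨s', rfl⟩, hxs⟩, hz⟩
    have hxs' : f (e s') = s := hxs
    have hgs : g s' = s := by rw [← hfe, hxs']
    have himg := image_connectedComponentIn_fibre hc s' (e' s') (hfe' s')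
    rw [hpe, hgs] at himg
    rw [← himg] at hz
    obtain ⟨z', hz', rfl⟩ := hz
    refine ⟨⟨z', ?_, rfl⟩, ?_⟩
    · have hfz' : f' z' = s' := (connectedComponentIn_subset (f' ⁻¹' {s'}) (e' s')) hz'
      show z' ∈ connectedComponentIn (f' ⁻¹' {f' z'}) (e' (f' z'))
      rw [hfz']
      exact hz'
    · show f (pr z') = s
      have hfz' : f' z' = s' := (connectedComponentIn_subset (f' ⁻¹' {s'}) (e' s')) hz'
      rw [hsq, hfz', hgs]

end Main3

end Groth.Agent.Lib.Helper12.SecCompSmooth
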