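import Groth.Agent.S7664
import Groth.Agent.Lib.Helper12.KrullAkizuki

/-! Gluing one-dimensional semi-local subrings of a field along the generic point. -/

set_option autoImplicit false
universe u

namespace Groth.Agent.Lib.Helper12.Glue

open Groth.Agent.S7664

variable {K : Type u} [Field K]

/-- `x` is topologically nilpotent for `A ⊆ K`: `x ∈ A` and every element of `K` is pushed into
`A` by a power of `x`. For one-dimensional semi-local `A` this says `x` lies in the Jacobson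
radical. -/
def Tn (A : Subring K) (x : K) : Prop := x ∈ A ∧ ∀ y : K, ∃ n : ℕ, y * x ^ n ∈ A

structure Nice (A : Subring K) : Prop where
  frac : IsFractionRing A K
  dim : Ring.KrullDimLE 1 A
  fin : Finite (MaximalSpectrum A)
  nf : ¬ IsField A
  noeth : IsNoetherianRing A

theorem isField_of_eq_top {A : Subring K} (h : A = ⊤) : IsField A := by
  have hall : ∀ z : K, z ∈ A := fun z => h ▸ Subring.mem_top z
  refine ⟨⟨0, 1, zero_ne_one⟩, mul_comm, fun {a} ha => ?_⟩
  exact ⟨⟨(a : K)⁻¹, hall _⟩, Subtype.ext (mul_inv_cancel₀ (fun h0 => ha (Subtype.ext h0)))⟩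

theorem Nice.ne_top {A : Subring K} (hA : Nice A) : A ≠ ⊤ := fun h => hA.nf (isField_of_eq_top h)

namespace Tn

variable {A A' : Subring K} {x a : K}

theorem mul_left (hx : Tn A x) (ha : a ∈ A) : Tn A (a * x) := by
  refine ⟨A.mul_mem ha hx.1, fun y => ?_⟩
  obtain ⟨n, hn⟩ := hx.2 y
  refine ⟨n, ?_⟩
  have : y * (a * x) ^ n = a ^ n * (y * x ^ n) := by ring
  rw [this]
  exact A.mul_mem (A.pow_mem ha n) hn

theorem neg (hx : Tn A x) : Tn A (-x) := by
  have := hx.mul_left (A.neg_mem A.one_mem)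
  rwa [neg_one_mul] at this

theorem mono (h : A ≤ A') (hx : Tn A x) : Tn A' x :=
  ⟨h hx.1, fun y => (hx.2 y).imp fun _ hn => h hn⟩

theorem pow_mul_mem_of_le (hx : Tn A x) {y : K} {n m : ℕ} (hn : y * x ^ n ∈ A) (hnm : n ≤ m) :
    y * x ^ m ∈ A := by
  obtain ⟨k, rfl⟩ := Nat.exists_eq_add_of_le hnm
  rw [pow_add, ← mul_assoc]
  exact A.mul_mem hn (A.pow_mem hx.1 k)

theorem one_add_ne_zero (hA : A ≠ ⊤) (hx : Tn A x) : 1 + x ≠ 0 := by
  intro h
  have hx1 : x = -1 := by linear_combination h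
  apply hA
  rw [eq_top_iff]
  intro y _
  obtain ⟨n, hn⟩ := hx.2 y
  rw [hx1] at hn
  rcases Nat.even_or_odd n with he | ho
  · rw [he.neg_one_pow, mul_one] at hn
    exact hn
  · rw [ho.neg_one_pow, mul_neg, mul_one] at hn
    have := A.neg_mem hn
    rwa [neg_neg] at this

theorem inv_one_add_mem (hA : A ≠ ⊤) (hx : Tn A x) : (1 + x)⁻¹ ∈ A := by
  have h0 := hx.one_add_ne_zero hA
  obtain ⟨n, hn⟩ := hx.neg.2 ((1 + x)⁻¹)
  have hgeom : (1 - (-x)) * ∑ i ∈ Finset.range n, (-x) ^ i = 1 - (-x) ^ n :=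
    mul_neg_geom_sum (-x) n
  have hsum : ∑ i ∈ Finset.range n, (-x) ^ i ∈ A :=
    Subring.sum_mem _ (fun i _ => A.pow_mem hx.neg.1 i)
  have hw : (1 + x) * (1 + x)⁻¹ = 1 := mul_inv_cancel₀ h0
  have h1 : (1 + x) * ∑ i ∈ Finset.range n, (-x) ^ i = 1 - (-x) ^ n := by
    rw [← hgeom]; ring
  have : (1 + x)⁻¹ = ∑ i ∈ Finset.range n, (-x) ^ i + (1 + x)⁻¹ * (-x) ^ n := by
    linear_combination (∑ i ∈ Finset.range n, (-x) ^ i) * hw - (1 + x)⁻¹ * h1
  rw [this]
  exact A.add_mem hsum hn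

/-- A nonzero topologically nilpotent element is a non-unit. -/
theorem inv_notMem (hA : A ≠ ⊤) (hx : Tn A x) (hx0 : x ≠ 0) : x⁻¹ ∉ A := by
  intro hxi
  apply hA
  rw [eq_top_iff]
  intro y _
  obtain ⟨n, hn⟩ := hx.2 y
  have : y = y * x ^ n * (x⁻¹) ^ n := by
    rw [mul_assoc, ← mul_pow, mul_inv_cancel₀ hx0, one_pow, mul_one]
  rw [this]
  exact A.mul_mem hn (A.pow_mem hxi n)

end Tn

/-- Data gluing two subrings: `s ∈ J(A)`, `t ∈ J(B)`, `s + t = 1`. -/
structure Pair (A B : Subring K) (s t : K) : Prop where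
  hs : Tn A s
  ht : Tn B t
  hst : s + t = 1

namespace Pair

variable {A B : Subring K} {s t : K}

theorem symm (h : Pair A B s t) : Pair B A t s := ⟨h.ht, h.hs, by rw [add_comm]; exact h.hst⟩

theorem s_mem_right (h : Pair A B s t) : s ∈ B := by
  have : s = 1 - t := by linear_combination h.hst
  rw [this]
  exact B.sub_mem B.one_mem h.ht.1

theorem t_mem_left (h : Pair A B s t) : t ∈ A := h.symm.s_mem_right

theorem t_eq (h : Pair A B s t) : t = 1 + -s := by linear_combination h.hst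

theorem s_eq (h : Pair A B s t) : s = 1 + -t := by linear_combination h.hst

theorem t_ne_zero (h : Pair A B s t) (hA : A ≠ ⊤) : t ≠ 0 := by
  rw [h.t_eq]; exact h.hs.neg.one_add_ne_zero hA

theorem s_ne_zero (h : Pair A B s t) (hB : B ≠ ⊤) : s ≠ 0 := h.symm.t_ne_zero hB

theorem t_inv_mem (h : Pair A B s t) (hA : A ≠ ⊤) : t⁻¹ ∈ A := by
  rw [h.t_eq]; exact h.hs.neg.inv_one_add_mem hA

theorem s_inv_mem (h : Pair A B s t) (hB : B ≠ ⊤) : s⁻¹ ∈ B := h.symm.t_inv_mem hB

theorem s_mem_inf (h : Pair A B s t) : s ∈ A ⊓ B := Subring.mem_inf.2 ⟨h.hs.1, h.s_mem_right⟩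

theorem t_mem_inf (h : Pair A B s t) : t ∈ A ⊓ B := Subring.mem_inf.2 ⟨h.t_mem_left, h.ht.1⟩

end Pair

theorem pair_of_inv {A B : Subring K} (hA : A ≠ ⊤) (hB : B ≠ ⊤) {x : K} (hx0 : x ≠ 0)
    (hx : Tn A x) (hxi : Tn B x⁻¹) : ∃ s t, Pair A B s t := by
  have h1 := hx.one_add_ne_zero hA
  have h3 : (1 + x⁻¹)⁻¹ * x⁻¹ = (1 + x)⁻¹ := by
    have h4 : 1 + x⁻¹ = (1 + x) * x⁻¹ := by
      rw [add_mul, one_mul, mul_inv_cancel₀ hx0, add_comm]
    rw [h4, mul_inv, inv_inv, mul_assoc, mul_inv_cancel₀ hx0, mul_one]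
  refine ⟨(1 + x)⁻¹ * x, (1 + x⁻¹)⁻¹ * x⁻¹, hx.mul_left (hx.inv_one_add_mem hA),
    hxi.mul_left (hxi.inv_one_add_mem hB), ?_⟩
  rw [h3]
  have h5 : (1 + x)⁻¹ * x + (1 + x)⁻¹ = (1 + x)⁻¹ * (1 + x) := by ring
  rw [h5, inv_mul_cancel₀ h1]

theorem pair_of_unit {A B : Subring K} (hA : A ≠ ⊤) (hB : B ≠ ⊤) {z v : K} (hz0 : z ≠ 0)
    (hz : Tn A z) (hv0 : v ≠ 0) (hvA : v⁻¹ ∈ A) (hv : Tn B v) : ∃ s t, Pair A B s t := by
  obtain ⟨n, hn⟩ := hv.2 z⁻¹
  refine pair_of_inv hA hB (x := (v⁻¹) ^ (n + 1) * z)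
    (mul_ne_zero (pow_ne_zero _ (inv_ne_zero hv0)) hz0) (hz.mul_left (A.pow_mem hvA _)) ?_
  have : ((v⁻¹) ^ (n + 1) * z)⁻¹ = (z⁻¹ * v ^ n) * v := by
    rw [mul_inv, inv_pow, inv_inv, pow_succ]; ring
  rw [this]
  exact hv.mul_left hn

/-! ### `Nice` rings: Jacobson radical versus topological nilpotence -/

theorem Nice.tn_of_jac {A : Subring K} (hA : Nice A) {x : A}
    (hx : ∀ m : Ideal A, m.IsMaximal → x ∈ m) : Tn A (x : K) := by
  have := hA.frac
  have := hA.dim
  exact ⟨x.2, fun y => exists_pow_mul_mem_subring A hx y⟩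

theorem Nice.exists_tn {A : Subring K} (hA : Nice A) : ∃ z : K, z ≠ 0 ∧ Tn A z := by
  have := hA.fin
  obtain ⟨z, hz0, hz⟩ := exists_ne_zero_mem_maximal (A := A) hA.nf
  exact ⟨z, fun h => hz0 (Subtype.ext h), hA.tn_of_jac hz⟩

theorem Tn.mem_of_isMaximal {A : Subring K} (hnf : ¬ IsField A) {x : K} (hx : Tn A x)
    (m : Ideal A) (hm : m.IsMaximal) : (⟨x, hx.1⟩ : A) ∈ m := by
  have hmb : m ≠ ⊥ := Ring.ne_bot_of_isMaximal_of_not_isField hm hnf
  obtain ⟨π, hπ, hπ0⟩ := Submodule.exists_mem_ne_zero_of_ne_bot hmb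
  have hπK : (π : K) ≠ 0 := fun h => hπ0 (Subtype.ext h)
  obtain ⟨n, hn⟩ := hx.2 (π : K)⁻¹
  have hmem : (⟨x, hx.1⟩ : A) ^ n ∈ m := by
    have : (⟨x, hx.1⟩ : A) ^ n = π * ⟨(π : K)⁻¹ * x ^ n, hn⟩ := by
      apply Subtype.ext
      show x ^ n = (π : K) * ((π : K)⁻¹ * x ^ n)
      rw [← mul_assoc, mul_inv_cancel₀ hπK, one_mul]
    rw [this]
    exact Ideal.mul_mem_right _ _ hπ
  exact hm.isPrime.mem_of_pow_mem n hmem

theorem dvr_ne_top (W : ValuationSubring K) [IsDiscreteValuationRing W] : W.toSubring ≠ ⊤ := by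
  intro htop
  apply IsDiscreteValuationRing.not_isField W
  refine ⟨⟨0, 1, zero_ne_one⟩, mul_comm, fun {a} ha => ?_⟩
  have hmem : (a : K)⁻¹ ∈ W := by
    have h3 : (a : K)⁻¹ ∈ W.toSubring := htop ▸ Subring.mem_top _
    exact h3
  exact ⟨⟨(a : K)⁻¹, hmem⟩, Subtype.ext (mul_inv_cancel₀ (fun h => ha (Subtype.ext h)))⟩

/-- The gluing oracle when the second ring is a discrete valuation ring (from S7664). -/
theorem pair_dvr {R : Subring K} (hR : Nice R) (W : ValuationSubring K)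
    [IsDiscreteValuationRing W] (hsup : R ⊔ W.toSubring = ⊤) :
    ∃ s t, Pair R W.toSubring s t := by
  have := hR.frac
  have := hR.dim
  have := hR.fin
  have hWtop : W.toSubring ≠ ⊤ := dvr_ne_top W
  have hnle : ¬ R ≤ W.toSubring := fun h => hWtop (by rw [← hsup, sup_eq_right.2 h])
  have hex : ∃ u : R, IsUnit u ∧ (u : K) ∉ W := by
    by_contra hcon
    push Not at hcon
    exact hnle (le_of_units K R W hcon)
  obtain ⟨u, hu, huW⟩ := hex
  obtain ⟨z, hz0, hzT⟩ := hR.exists_tn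
  obtain ⟨hui, huim⟩ := inv_mem_maximalIdeal W huW
  have hvT : Tn W.toSubring ((u : K)⁻¹) := ⟨hui, fun y => exists_pow_mul_mem W huim y⟩
  obtain ⟨u', hu'⟩ := hu.exists_right_inv
  have hu'K : (u : K) * (u' : K) = 1 := congrArg Subtype.val hu'
  have huK0 : (u : K) ≠ 0 := left_ne_zero_of_mul_eq_one hu'K
  refine pair_of_unit hR.ne_top hWtop hz0 hzT (inv_ne_zero huK0) ?_ hvT
  rw [inv_inv]
  exact u.2

/-! ### Localizations inside `K` -/

theorem isLocalization_of_le {R A : Subring K} (hRA : R ≤ A) {t : K} (htR : t ∈ R)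
    (htinv : t⁻¹ ∈ A) (ht0 : t ≠ 0) (hpow : ∀ y ∈ A, ∃ n : ℕ, y * t ^ n ∈ R) :
    @IsLocalization R _ (Submonoid.powers (⟨t, htR⟩ : R)) A _
      (Subring.inclusion hRA).toAlgebra := by
  letI := (Subring.inclusion hRA).toAlgebra
  apply isLocalization_away (Subring.inclusion_injective _)
  · exact IsUnit.of_mul_eq_one ⟨t⁻¹, htinv⟩ (Subtype.ext (mul_inv_cancel₀ ht0))
  · intro y
    obtain ⟨n, hn⟩ := hpow y y.2
    exact ⟨n, ⟨(y : K) * t ^ n, hn⟩, Subtype.ext rfl⟩

theorem eq_of_le_of_away {R S : Type*} [CommRing R] [IsDomain R] [CommRing S] [IsDomain S]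
    [Algebra R S] (r : R) [IsLocalization.Away r S] [Ring.KrullDimLE 1 S]
    (hinj : Function.Injective (algebraMap R S)) {P M : Ideal R} (hP : P.IsPrime)
    (hM : M.IsPrime) (hP0 : P ≠ ⊥) (hPM : P ≤ M) (hr : r ∉ M) : P = M := by
  have hdM : Disjoint (Submonoid.powers r : Set R) (M : Set R) := by
    rw [Set.disjoint_left]
    rintro _ ⟨n, rfl⟩ hmem
    exact hr (hM.mem_of_pow_mem n hmem)
  have hdP : Disjoint (Submonoid.powers r : Set R) (P : Set R) :=
    Set.disjoint_of_subset_right hPM hdM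
  have hPS := IsLocalization.isPrime_of_isPrime_disjoint (Submonoid.powers r) S P hP hdP
  have hMS := IsLocalization.isPrime_of_isPrime_disjoint (Submonoid.powers r) S M hM hdM
  have hcP : (P.map (algebraMap R S)).comap (algebraMap R S) = P :=
    IsLocalization.under_map_of_isPrime_disjoint (Submonoid.powers r) S hP hdP
  have hcM : (M.map (algebraMap R S)).comap (algebraMap R S) = M :=
    IsLocalization.under_map_of_isPrime_disjoint (Submonoid.powers r) S hM hdM
  have hne : P.map (algebraMap R S) ≠ ⊥ := by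
    intro h
    apply hP0
    rw [← hcP, h]
    exact Ideal.comap_bot_of_injective _ hinj
  have hmax : (P.map (algebraMap R S)).IsMaximal := hPS.isMaximal_of_ne_bot hne
  have heq : P.map (algebraMap R S) = M.map (algebraMap R S) :=
    hmax.eq_of_le hMS.ne_top (Ideal.map_mono hPM)
  rw [← hcP, heq, hcM]

theorem exists_maximalSpectrum_comap {R S : Type*} [CommRing R] [IsDomain R] [CommRing S]
    [IsDomain S] [Algebra R S] (r : R) [IsLocalization.Away r S] [Ring.KrullDimLE 1 S]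
    (hinj : Function.Injective (algebraMap R S)) (hnf : ¬ IsField R) {M : Ideal R}
    (hM : M.IsMaximal) (hr : r ∉ M) :
    ∃ m : MaximalSpectrum S, m.asIdeal.comap (algebraMap R S) = M := by
  have hd : Disjoint (Submonoid.powers r : Set R) (M : Set R) := by
    rw [Set.disjoint_left]
    rintro _ ⟨n, rfl⟩ hmem
    exact hr (hM.isPrime.mem_of_pow_mem n hmem)
  have hprime := IsLocalization.isPrime_of_isPrime_disjoint (Submonoid.powers r) S M hM.isPrime hd
  have hcm : (M.map (algebraMap R S)).comap (algebraMap R S) = M :=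
    IsLocalization.under_map_of_isPrime_disjoint (Submonoid.powers r) S hM.isPrime hd
  have hne : M.map (algebraMap R S) ≠ ⊥ := by
    intro hbot
    apply Ring.ne_bot_of_isMaximal_of_not_isField hM hnf
    rw [← hcm, hbot]
    exact Ideal.comap_bot_of_injective _ hinj
  exact ⟨⟨M.map (algebraMap R S), hprime.isMaximal_of_ne_bot hne⟩, hcm⟩

theorem nice_inf {A B : Subring K} {s t : K} (hA : Nice A) (hB : Nice B) (h : Pair A B s t) :
    Nice (A ⊓ B) := by
  have hAt := hA.ne_top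
  have hBt := hB.ne_top
  have ht0 := h.t_ne_zero hAt
  have hs0 := h.s_ne_zero hBt
  letI algA : Algebra (A ⊓ B : Subring K) A :=
    (Subring.inclusion (inf_le_left : A ⊓ B ≤ A)).toAlgebra
  letI algB : Algebra (A ⊓ B : Subring K) B :=
    (Subring.inclusion (inf_le_right : A ⊓ B ≤ B)).toAlgebra
  have locA : IsLocalization.Away (⟨t, h.t_mem_inf⟩ : (A ⊓ B : Subring K)) A :=
    isLocalization_of_le inf_le_left h.t_mem_inf (h.t_inv_mem hAt) ht0
      (fun y hy => by
        obtain ⟨n, hn⟩ := h.ht.2 y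
        exact ⟨n, Subring.mem_inf.2 ⟨A.mul_mem hy (A.pow_mem h.t_mem_left n), hn⟩⟩)
  have locB : IsLocalization.Away (⟨s, h.s_mem_inf⟩ : (A ⊓ B : Subring K)) B :=
    isLocalization_of_le inf_le_right h.s_mem_inf (h.s_inv_mem hBt) hs0
      (fun y hy => by
        obtain ⟨n, hn⟩ := h.hs.2 y
        exact ⟨n, Subring.mem_inf.2 ⟨hn, B.mul_mem hy (B.pow_mem h.s_mem_right n)⟩⟩)
  have hinjA : Function.Injective (algebraMap (A ⊓ B : Subring K) A) :=
    Subring.inclusion_injective _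
  have hinjB : Function.Injective (algebraMap (A ⊓ B : Subring K) B) :=
    Subring.inclusion_injective _
  have hst' : (⟨s, h.s_mem_inf⟩ : (A ⊓ B : Subring K)) + ⟨t, h.t_mem_inf⟩ = 1 :=
    Subtype.ext h.hst
  have hdA := hA.dim
  have hdB := hB.dim
  have hnf : ¬ IsField (A ⊓ B : Subring K) := by
    intro hf
    have ht0' : (⟨t, h.t_mem_inf⟩ : (A ⊓ B : Subring K)) ≠ 0 :=
      fun h0 => ht0 (congrArg Subtype.val h0)
    obtain ⟨w, hw⟩ := hf.mul_inv_cancel ht0'
    have hwK : t * (w : K) = 1 := congrArg Subtype.val hw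
    have hwt : (w : K) = t⁻¹ := eq_inv_of_mul_eq_one_right hwK
    exact h.ht.inv_notMem hBt ht0 (hwt ▸ (Subring.mem_inf.1 w.2).2)
  have hsM_of : ∀ M : Ideal (A ⊓ B : Subring K), M.IsMaximal →
      (⟨t, h.t_mem_inf⟩ : (A ⊓ B : Subring K)) ∈ M →
      (⟨s, h.s_mem_inf⟩ : (A ⊓ B : Subring K)) ∉ M := by
    intro M hM htM hsM
    exact hM.ne_top ((Ideal.eq_top_iff_one _).2 (hst' ▸ M.add_mem hsM htM))
  refine ⟨?_, ?_, ?_, hnf, ?_⟩
  · have := hA.frac
    haveI : FaithfulSMul (A ⊓ B : Subring K) K :=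
      (faithfulSMul_iff_algebraMap_injective _ _).2 Subtype.val_injective
    apply IsFractionRing.of_field
    intro z
    obtain ⟨a, a', ha', rfl⟩ := IsFractionRing.div_surjective (A := A) z
    obtain ⟨n, hn⟩ := h.ht.2 (a : K)
    obtain ⟨m, hm⟩ := h.ht.2 (a' : K)
    have hn' := h.ht.pow_mul_mem_of_le hn (Nat.le_add_right n m)
    have hm' := h.ht.pow_mul_mem_of_le hm (Nat.le_add_left m n)
    refine ⟨⟨(a : K) * t ^ (n + m),
        Subring.mem_inf.2 ⟨A.mul_mem a.2 (A.pow_mem h.t_mem_left _), hn'⟩⟩,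
      ⟨(a' : K) * t ^ (n + m),
        Subring.mem_inf.2 ⟨A.mul_mem a'.2 (A.pow_mem h.t_mem_left _), hm'⟩⟩, ?_⟩
    show (a : K) / (a' : K) = ((a : K) * t ^ (n + m)) / ((a' : K) * t ^ (n + m))
    rw [mul_div_mul_right _ _ (pow_ne_zero _ ht0)]
  · rw [Ring.krullDimLE_one_iff_of_noZeroDivisors]
    intro P hP0 hP
    obtain ⟨M, hM, hPM⟩ := Ideal.exists_le_maximal P hP.ne_top
    by_cases htM : (⟨t, h.t_mem_inf⟩ : (A ⊓ B : Subring K)) ∈ M
    · have hsM := hsM_of M hM htM
      have := eq_of_le_of_away (S := B) (⟨s, h.s_mem_inf⟩ : (A ⊓ B : Subring K)) hinjB hP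
        hM.isPrime hP0 hPM hsM
      rw [this]
      exact hM
    · have := eq_of_le_of_away (S := A) (⟨t, h.t_mem_inf⟩ : (A ⊓ B : Subring K)) hinjA hP
        hM.isPrime hP0 hPM htM
      rw [this]
      exact hM
  · have := hA.fin
    have := hB.fin
    have hsub : {M : Ideal (A ⊓ B : Subring K) | M.IsMaximal} ⊆
        Set.range (fun m : MaximalSpectrum A =>
          m.asIdeal.comap (algebraMap (A ⊓ B : Subring K) A)) ∪
        Set.range (fun m : MaximalSpectrum B =>
          m.asIdeal.comap (algebraMap (A ⊓ B : Subring K) B)) := by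
      intro M hM
      by_cases htM : (⟨t, h.t_mem_inf⟩ : (A ⊓ B : Subring K)) ∈ M
      · right
        exact exists_maximalSpectrum_comap (S := B) (⟨s, h.s_mem_inf⟩ : (A ⊓ B : Subring K))
          hinjB hnf hM (hsM_of M hM htM)
      · left
        exact exists_maximalSpectrum_comap (S := A) (⟨t, h.t_mem_inf⟩ : (A ⊓ B : Subring K))
          hinjA hnf hM htM
    have hfin : {M : Ideal (A ⊓ B : Subring K) | M.IsMaximal}.Finite :=
      ((Set.finite_range _).union (Set.finite_range _)).subset hsub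
    have := hfin.to_subtype
    exact Finite.of_injective
      (fun m : MaximalSpectrum (A ⊓ B : Subring K) =>
        (⟨m.asIdeal, m.isMaximal⟩ : {M : Ideal (A ⊓ B : Subring K) | M.IsMaximal}))
      (fun m m' hmm => MaximalSpectrum.ext (congrArg Subtype.val hmm))
  · have := hA.noeth
    have := hB.noeth
    rw [isNoetherianRing_iff_ideal_fg]
    intro I
    have hspan : Ideal.span ({(⟨s, h.s_mem_inf⟩ : (A ⊓ B : Subring K)), ⟨t, h.t_mem_inf⟩} :
        Set (A ⊓ B : Subring K)) = ⊤ := by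
      rw [Ideal.eq_top_iff_one, ← hst']
      exact Ideal.add_mem _ (Ideal.subset_span (by simp)) (Ideal.subset_span (by simp))
    refine Ideal.fg_of_localizationSpan _ hspan ?_
    rintro ⟨g, hg⟩
    rcases hg with rfl | rfl
    · haveI : IsNoetherianRing (Localization.Away (⟨s, h.s_mem_inf⟩ : (A ⊓ B : Subring K))) :=
        isNoetherianRing_of_ringEquiv B (IsLocalization.algEquiv
          (Submonoid.powers (⟨s, h.s_mem_inf⟩ : (A ⊓ B : Subring K))) B
          (Localization.Away (⟨s, h.s_mem_inf⟩ : (A ⊓ B : Subring K)))).toRingEquiv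
      exact IsNoetherian.noetherian _
    · haveI : IsNoetherianRing (Localization.Away (⟨t, h.t_mem_inf⟩ : (A ⊓ B : Subring K))) :=
        isNoetherianRing_of_ringEquiv A (IsLocalization.algEquiv
          (Submonoid.powers (⟨t, h.t_mem_inf⟩ : (A ⊓ B : Subring K))) A
          (Localization.Away (⟨t, h.t_mem_inf⟩ : (A ⊓ B : Subring K)))).toRingEquiv
      exact IsNoetherian.noetherian _

/-! ### Gluing a finite family -/

/-- `R` is glued from the rings `C i`: `C i = R[1/e i]`, the `e i` generate the unit ideal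
(phrased through valuation rings), and `e i` lies in the Jacobson radical of `C j`, `j ≠ i`. -/
structure Glued (R : Subring K) {n : ℕ} (C : Fin n → Subring K) (e : Fin n → K) : Prop where
  le : ∀ i, R ≤ C i
  mem : ∀ i, e i ∈ R
  ne_zero : ∀ i, e i ≠ 0
  inv_mem : ∀ i, (e i)⁻¹ ∈ C i
  pow : ∀ i, ∀ y ∈ C i, ∃ k : ℕ, y * e i ^ k ∈ R
  cover : ∀ V : ValuationSubring K, R ≤ V.toSubring → ∃ i, (e i)⁻¹ ∈ V
  jac : ∀ i j, i ≠ j → Tn (C j) (e i)

theorem Glued.mem_of_forall {R : Subring K} {n : ℕ} {C : Fin n → Subring K} {e : Fin n → K}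
    (h : Glued R C e) (D : Subring K) (hRD : R ≤ D) (y : K)
    (hy : ∀ i, ∃ k : ℕ, y * e i ^ k ∈ D) : y ∈ D := by
  let I : Ideal D :=
    { carrier := {d | (d : K) * y ∈ D}
      add_mem' := fun {a b} ha hb => by
        show ((a : K) + (b : K)) * y ∈ D
        rw [add_mul]
        exact D.add_mem ha hb
      zero_mem' := by
        show (0 : K) * y ∈ D
        rw [zero_mul]
        exact D.zero_mem
      smul_mem' := fun c a ha => by
        show ((c : K) * (a : K)) * y ∈ D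
        rw [mul_assoc]
        exact D.mul_mem c.2 ha }
  by_contra hyD
  have hI : I ≠ ⊤ := by
    intro htop
    have h1 : (1 : D) ∈ I := htop ▸ Submodule.mem_top
    have h2 : (1 : K) * y ∈ D := h1
    rw [one_mul] at h2
    exact hyD h2
  obtain ⟨V, hDV, hIV⟩ := Ideal.image_subset_nonunits_valuationSubring I hI
  obtain ⟨i, hi⟩ := h.cover V (hRD.trans hDV)
  obtain ⟨k, hk⟩ := hy i
  have heD : e i ∈ D := hRD (h.mem i)
  have hmemI : (⟨e i ^ k, D.pow_mem heD k⟩ : D) ∈ I := by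
    show e i ^ k * y ∈ D
    rw [mul_comm]
    exact hk
  have hnu : e i ^ k ∈ V.nonunits := hIV ⟨_, hmemI, rfl⟩
  rw [ValuationSubring.mem_nonunits_iff_or] at hnu
  rcases hnu with h0 | hinv
  · exact pow_ne_zero k (h.ne_zero i) h0
  · apply hinv
    rw [← inv_pow]
    exact pow_mem hi k

theorem Glued.sup_eq_top {R : Subring K} {n : ℕ} {C : Fin n → Subring K} {e : Fin n → K}
    (h : Glued R C e) (B : Subring K) (hgen : ∀ i, C i ⊔ B = ⊤) : R ⊔ B = ⊤ := by
  rw [eq_top_iff]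
  intro y _
  apply h.mem_of_forall (R ⊔ B) le_sup_left y
  intro i
  have heD : e i ∈ R ⊔ B := (le_sup_left : R ≤ R ⊔ B) (h.mem i)
  let S : Subring K :=
    { carrier := {w | ∃ k : ℕ, w * e i ^ k ∈ R ⊔ B}
      mul_mem' := by
        rintro a b ⟨k, hk⟩ ⟨k', hk'⟩
        refine ⟨k + k', ?_⟩
        have : a * b * e i ^ (k + k') = (a * e i ^ k) * (b * e i ^ k') := by
          rw [pow_add]; ring
        rw [this]
        exact (R ⊔ B).mul_mem hk hk'
      one_mem' := ⟨0, by rw [pow_zero, mul_one]; exact (R ⊔ B).one_mem⟩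
      add_mem' := by
        rintro a b ⟨k, hk⟩ ⟨k', hk'⟩
        refine ⟨k + k', ?_⟩
        have : (a + b) * e i ^ (k + k') = (a * e i ^ k) * e i ^ k' + (b * e i ^ k') * e i ^ k := by
          rw [pow_add]; ring
        rw [this]
        exact (R ⊔ B).add_mem ((R ⊔ B).mul_mem hk ((R ⊔ B).pow_mem heD _))
          ((R ⊔ B).mul_mem hk' ((R ⊔ B).pow_mem heD _))
      zero_mem' := ⟨0, by rw [zero_mul]; exact (R ⊔ B).zero_mem⟩
      neg_mem' := by
        rintro a ⟨k, hk⟩
        exact ⟨k, by rw [neg_mul]; exact (R ⊔ B).neg_mem hk⟩ }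
  have hCS : C i ≤ S := fun w hw => by
    obtain ⟨k, hk⟩ := h.pow i w hw
    exact ⟨k, (le_sup_left : R ≤ R ⊔ B) hk⟩
  have hBS : B ≤ S := fun w hw =>
    ⟨0, by rw [pow_zero, mul_one]; exact (le_sup_right : B ≤ R ⊔ B) hw⟩
  have htop : (⊤ : Subring K) ≤ S := hgen i ▸ sup_le hCS hBS
  exact htop (Subring.mem_top y)

theorem iInf_fin_succ' {n : ℕ} (C : Fin (n + 1) → Subring K) :
    (⨅ i, C i) = (⨅ i : Fin n, C i.succ) ⊓ C 0 := by
  apply le_antisymm
  · exact le_inf (le_iInf fun i => iInf_le C i.succ) (iInf_le C 0)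
  · refine le_iInf fun i => ?_
    rcases Fin.eq_zero_or_eq_succ i with rfl | ⟨j, rfl⟩
    · exact inf_le_right
    · exact inf_le_left.trans (iInf_le (fun i : Fin n => C i.succ) j)

theorem glue_step {m : ℕ} (C : Fin (m + 1) → Subring K) {R' : Subring K} {e' : Fin m → K}
    (hG : Glued R' (fun i => C i.succ) e') (hR' : R' ≠ ⊤) (hC0 : C 0 ≠ ⊤) {s t : K}
    (hP : Pair R' (C 0) s t) : ∃ e : Fin (m + 1) → K, Glued (R' ⊓ C 0) C e := by
  have hm : ∀ i : Fin m, ∃ k : ℕ, e' i * t ^ k ∈ C 0 := fun i => hP.ht.2 (e' i)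
  choose k hk using hm
  have htR' : t ∈ R' := hP.t_mem_left
  have htC : t ∈ C 0 := hP.ht.1
  have hsR' : s ∈ R' := hP.hs.1
  have hsC : s ∈ C 0 := hP.s_mem_right
  have ht0 : t ≠ 0 := hP.t_ne_zero hR'
  have hs0 : s ≠ 0 := hP.s_ne_zero hC0
  have htinv : t⁻¹ ∈ R' := hP.t_inv_mem hR'
  have hsinv : s⁻¹ ∈ C 0 := hP.s_inv_mem hC0
  have hmemC0 : ∀ i : Fin m, e' i * t ^ k i * t ∈ C 0 := fun i => (C 0).mul_mem (hk i) htC
  have hmemR' : ∀ i : Fin m, e' i * t ^ k i * t ∈ R' := fun i =>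
    R'.mul_mem (R'.mul_mem (hG.mem i) (R'.pow_mem htR' _)) htR'
  have hTnC0 : ∀ i : Fin m, Tn (C 0) (e' i * t ^ k i * t) := fun i => by
    have := hP.ht.mul_left (hk i)
    exact this
  obtain ⟨e, he0, heS⟩ : ∃ e : Fin (m + 1) → K, e 0 = s ∧
      ∀ i : Fin m, e i.succ = e' i * t ^ k i * t :=
    ⟨Fin.cons s (fun i => e' i * t ^ k i * t), Fin.cons_zero _ _, fun i => Fin.cons_succ _ _ i⟩
  refine ⟨e, ?_, ?_, ?_, ?_, ?_, ?_, ?_⟩
  · intro i
    rcases Fin.eq_zero_or_eq_succ i with rfl | ⟨j, rfl⟩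
    · exact inf_le_right
    · exact inf_le_left.trans (hG.le j)
  · intro i
    rcases Fin.eq_zero_or_eq_succ i with rfl | ⟨j, rfl⟩
    · rw [he0]; exact Subring.mem_inf.2 ⟨hsR', hsC⟩
    · rw [heS]; exact Subring.mem_inf.2 ⟨hmemR' j, hmemC0 j⟩
  · intro i
    rcases Fin.eq_zero_or_eq_succ i with rfl | ⟨j, rfl⟩
    · rw [he0]; exact hs0
    · rw [heS]; exact mul_ne_zero (mul_ne_zero (hG.ne_zero j) (pow_ne_zero _ ht0)) ht0
  · intro i
    rcases Fin.eq_zero_or_eq_succ i with rfl | ⟨j, rfl⟩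
    · rw [he0]; exact hsinv
    · rw [heS, mul_inv, mul_inv, ← inv_pow]
      have h1 : t⁻¹ ∈ C j.succ := hG.le j htinv
      exact (C j.succ).mul_mem ((C j.succ).mul_mem (hG.inv_mem j) ((C j.succ).pow_mem h1 _)) h1
  · intro i
    rcases Fin.eq_zero_or_eq_succ i with rfl | ⟨j, rfl⟩
    · intro y hy
      obtain ⟨n1, hn1⟩ := hP.hs.2 y
      refine ⟨n1, ?_⟩
      rw [he0]
      exact Subring.mem_inf.2 ⟨hn1, (C 0).mul_mem hy ((C 0).pow_mem hsC n1)⟩
    · intro y hy
      obtain ⟨n1, hn1⟩ := hG.pow j y hy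
      obtain ⟨n2, hn2⟩ := (hTnC0 j).2 y
      refine ⟨n1 + n2, ?_⟩
      rw [heS]
      refine Subring.mem_inf.2 ⟨?_, ?_⟩
      · have : y * (e' j * t ^ k j * t) ^ (n1 + n2) =
            (y * e' j ^ n1) * (e' j ^ n2 * (t ^ k j * t) ^ (n1 + n2)) := by
          rw [mul_assoc (e' j), mul_pow, pow_add]; ring
        rw [this]
        exact R'.mul_mem hn1 (R'.mul_mem (R'.pow_mem (hG.mem j) _)
          (R'.pow_mem (R'.mul_mem (R'.pow_mem htR' _) htR') _))
      · exact (hTnC0 j).pow_mul_mem_of_le hn2 (Nat.le_add_left n2 n1)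
  · intro V hV
    have hsV : s ∈ V := hV (Subring.mem_inf.2 ⟨hsR', hsC⟩)
    have htV : t ∈ V := hV (Subring.mem_inf.2 ⟨htR', htC⟩)
    by_cases hsu : s⁻¹ ∈ V
    · exact ⟨0, by rw [he0]; exact hsu⟩
    · have htu : t⁻¹ ∈ V := by
        by_contra htu
        have h1 : s ∈ V.nonunits := (V.mem_nonunits_iff_or).2 (Or.inr hsu)
        have h2 : t ∈ V.nonunits := (V.mem_nonunits_iff_or).2 (Or.inr htu)
        obtain ⟨hs', hsm⟩ := ValuationSubring.mem_nonunits_iff_exists_mem_maximalIdeal.1 h1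
        obtain ⟨ht', htm⟩ := ValuationSubring.mem_nonunits_iff_exists_mem_maximalIdeal.1 h2
        have hadd := (IsLocalRing.maximalIdeal V).add_mem hsm htm
        have h3 : (⟨s, hs'⟩ + ⟨t, ht'⟩ : V) = 1 := Subtype.ext hP.hst
        rw [h3] at hadd
        exact (Ideal.ne_top_iff_one _).1 (IsLocalRing.maximalIdeal.isMaximal V).ne_top hadd
      have hR'V : R' ≤ V.toSubring := by
        intro w hw
        obtain ⟨n1, hn1⟩ := hP.ht.2 w
        have hwt : w * t ^ n1 ∈ V :=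
          hV (Subring.mem_inf.2 ⟨R'.mul_mem hw (R'.pow_mem htR' _), hn1⟩)
        have hw' : w = w * t ^ n1 * (t⁻¹) ^ n1 := by
          rw [mul_assoc, ← mul_pow, mul_inv_cancel₀ ht0, one_pow, mul_one]
        rw [hw']
        exact mul_mem hwt (pow_mem htu n1)
      obtain ⟨j, hj⟩ := hG.cover V hR'V
      refine ⟨j.succ, ?_⟩
      rw [heS, mul_inv, mul_inv, ← inv_pow]
      exact mul_mem (mul_mem hj (pow_mem htu _)) htu
  · intro i j hij
    rcases Fin.eq_zero_or_eq_succ i with rfl | ⟨i', rfl⟩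
    · rcases Fin.eq_zero_or_eq_succ j with rfl | ⟨j', rfl⟩
      · exact absurd rfl hij
      · rw [he0]; exact hP.hs.mono (hG.le j')
    · rcases Fin.eq_zero_or_eq_succ j with rfl | ⟨j', rfl⟩
      · rw [heS]; exact hTnC0 i'
      · rw [heS]
        have hne : i' ≠ j' := fun h => hij (congrArg Fin.succ h)
        have h1 := hG.jac i' j' hne
        have h2 : t ^ k i' * t ∈ C j'.succ :=
          hG.le j' (R'.mul_mem (R'.pow_mem htR' _) htR')
        have h3 := h1.mul_left h2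
        have h4 : e' i' * t ^ k i' * t = t ^ k i' * t * e' i' := by ring
        rw [h4]
        exact h3

theorem glue_family : ∀ (n : ℕ) (C : Fin (n + 1) → Subring K), (∀ i, Nice (C i)) →
    (∀ i j, i ≠ j → C i ⊔ C j = ⊤) →
    (∀ (R' : Subring K) (i : Fin (n + 1)), i ≠ Fin.last n → Nice R' → R' ⊔ C i = ⊤ →
      ∃ s t, Pair R' (C i) s t) →
    ∃ e : Fin (n + 1) → K, Glued (⨅ i, C i) C e ∧ Nice (⨅ i, C i) := by
  intro n
  induction n with
  | zero =>
    intro C hN _ _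
    haveI : Subsingleton (Fin (0 + 1)) := inferInstanceAs (Subsingleton (Fin 1))
    have hR : (⨅ i, C i) = C 0 := by
      apply le_antisymm (iInf_le C 0)
      refine le_iInf fun i => ?_
      rw [Subsingleton.elim i 0]
    rw [hR]
    refine ⟨fun _ => 1, ⟨?_, ?_, ?_, ?_, ?_, ?_, ?_⟩, hN 0⟩
    · intro i; rw [Subsingleton.elim i 0]
    · intro i; exact (C 0).one_mem
    · intro i; exact one_ne_zero
    · intro i; rw [inv_one]; exact (C i).one_mem
    · intro i y hy
      refine ⟨0, ?_⟩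
      rw [pow_zero, mul_one]
      rw [Subsingleton.elim i 0] at hy
      exact hy
    · intro V _
      exact ⟨0, by rw [inv_one]; exact one_mem V⟩
    · intro i j hij
      exact absurd (Subsingleton.elim i j) hij
  | succ n ih =>
    intro C hN hgen horacle
    obtain ⟨e', hG, hR'⟩ := ih (fun i => C i.succ) (fun i => hN i.succ)
      (fun i j hij => hgen i.succ j.succ (fun h => hij (Fin.succ_injective _ h)))
      (fun R' i hi hR' hsup => horacle R' i.succ (fun h => hi (by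
          apply Fin.succ_injective
          rw [h, Fin.succ_last])) hR' hsup)
    have hsup : (⨅ i : Fin (n + 1), C i.succ) ⊔ C 0 = ⊤ :=
      hG.sup_eq_top (C 0) (fun i => hgen i.succ 0 (Fin.succ_ne_zero i))
    have h0 : (0 : Fin (n + 1 + 1)) ≠ Fin.last (n + 1) := by
      intro h
      have := congrArg Fin.val h
      simp at this
    obtain ⟨s, t, hP⟩ := horacle _ 0 h0 hR' hsup
    obtain ⟨e, hGe⟩ := glue_step C hG hR'.ne_top (hN 0).ne_top hP
    rw [iInf_fin_succ' C]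
    exact ⟨e, hGe, nice_inf hR' (hN 0) hP⟩

/-! ### Discrete valuation rings -/

theorem dvr_nice (W : ValuationSubring K) [IsDiscreteValuationRing W] : Nice W.toSubring where
  frac := (inferInstance : IsFractionRing W K)
  dim := (inferInstance : Ring.KrullDimLE 1 W)
  fin := (inferInstance : Finite (MaximalSpectrum W))
  nf := IsDiscreteValuationRing.not_isField W
  noeth := (inferInstance : IsNoetherianRing W)

theorem dvr_le_of_ne_top (W : ValuationSubring K) [IsDiscreteValuationRing W] (D : Subring K)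
    (hWD : W.toSubring ≤ D) (hD : D ≠ ⊤) : D ≤ W.toSubring := by
  intro d hd
  by_contra hdW
  apply hD
  rw [eq_top_iff]
  intro y _
  have hdW' : d ∉ W := hdW
  obtain ⟨hdi, hdim⟩ := inv_mem_maximalIdeal W hdW'
  obtain ⟨n, hn⟩ := exists_pow_mul_mem W hdim y
  have hd0 : d ≠ 0 := by
    rintro rfl
    exact hdW' W.zero_mem
  have hy : y = y * (d⁻¹) ^ n * d ^ n := by
    rw [mul_assoc, ← mul_pow, inv_mul_cancel₀ hd0, one_pow, mul_one]
  rw [hy]
  exact D.mul_mem (hWD hn) (D.pow_mem hd n)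

theorem dvr_sup_eq_top (W W' : ValuationSubring K) [IsDiscreteValuationRing W]
    [IsDiscreteValuationRing W'] (hne : W ≠ W') : W.toSubring ⊔ W'.toSubring = ⊤ := by
  by_contra hD
  have h1 := dvr_le_of_ne_top W _ le_sup_left hD
  have h2 := dvr_le_of_ne_top W' _ le_sup_right hD
  apply hne
  have h3 : W'.toSubring ≤ W.toSubring := le_sup_right.trans h1
  have h4 : W.toSubring ≤ W'.toSubring := le_sup_left.trans h2
  exact le_antisymm (fun x hx => h4 hx) (fun x hx => h3 hx)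

theorem Tn.mem_nonunits {B : Subring K} {z : K} (hz : Tn B z) (W : ValuationSubring K)
    (hBW : B ≤ W.toSubring) (hW : W.toSubring ≠ ⊤) : z ∈ W.nonunits := by
  have h1 := hz.mono hBW
  rw [W.mem_nonunits_iff_or]
  by_cases h0 : z = 0
  · exact Or.inl h0
  · exact Or.inr (h1.inv_notMem hW h0)

theorem nonunits_add {V : ValuationSubring K} {a b : K} (ha : a ∈ V.nonunits)
    (hb : b ∈ V.nonunits) : a + b ∈ V.nonunits := by
  obtain ⟨ha', ham⟩ := ValuationSubring.mem_nonunits_iff_exists_mem_maximalIdeal.1 ha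
  obtain ⟨hb', hbm⟩ := ValuationSubring.mem_nonunits_iff_exists_mem_maximalIdeal.1 hb
  exact ValuationSubring.mem_nonunits_iff_exists_mem_maximalIdeal.2
    ⟨add_mem ha' hb', (IsLocalRing.maximalIdeal V).add_mem ham hbm⟩

theorem nonunits_mul_left {V : ValuationSubring K} {a b : K} (ha : a ∈ V)
    (hb : b ∈ V.nonunits) : a * b ∈ V.nonunits := by
  obtain ⟨hb', hbm⟩ := ValuationSubring.mem_nonunits_iff_exists_mem_maximalIdeal.1 hb
  exact ValuationSubring.mem_nonunits_iff_exists_mem_maximalIdeal.2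
    ⟨mul_mem ha hb', (IsLocalRing.maximalIdeal V).mul_mem_left ⟨a, ha⟩ hbm⟩

theorem one_notMem_nonunits (V : ValuationSubring K) : (1 : K) ∉ V.nonunits := by
  rw [V.mem_nonunits_iff_or]
  push Not
  exact ⟨one_ne_zero, by rw [inv_one]; exact one_mem V⟩

theorem valuationSubring_ne_top_of_mem_nonunits {V : ValuationSubring K} {a : K}
    (ha : a ∈ V.nonunits) (ha0 : a ≠ 0) : V ≠ ⊤ := by
  rintro rfl
  rw [ValuationSubring.mem_nonunits_iff_or] at ha
  rcases ha with h | h
  · exact ha0 h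
  · exact h (ValuationSubring.mem_top _)

/-! ### Finiteness of the discrete valuation rings above a `Nice` ring -/

theorem card_le_of_injective {B : Subring K} (hB : Nice B) {z : K} (hz0 : z ≠ 0) (hz : Tn B z)
    (n : ℕ) (W : Fin (n + 1) → ValuationSubring K) (hinj : Function.Injective W)
    (hW : ∀ i, B ≤ (W i).toSubring) (hWtop : ∀ i, W i ≠ ⊤) :
    ((n + 1 : ℕ) : ℕ∞) ≤ Module.length B (B ⧸ Ideal.span {(⟨z, hz.1⟩ : B)}) := by
  have := hB.frac
  have := hB.dim
  have := hB.noeth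
  haveI hdvr : ∀ i, IsDiscreteValuationRing (W i) := fun i =>
    KA.isDiscreteValuationRing_of_le (A := B) (W i) (fun r => hW i r.2) (hWtop i)
  obtain ⟨e, hG, -⟩ := glue_family n (fun i => (W i).toSubring) (fun i => dvr_nice (W i))
    (fun i j hij => dvr_sup_eq_top (W i) (W j) (fun h => hij (hinj h)))
    (fun R' i _ hR' hsup => pair_dvr hR' (W i) hsup)
  have hBD : B ≤ ⨅ i, (W i).toSubring := le_iInf hW
  let J : ℕ → Submodule B K := fun k =>
    { carrier := {x | x ∈ (⨅ i, (W i).toSubring) ∧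
        ∀ i : Fin (n + 1), (i : ℕ) < k → x ∈ (W i).nonunits}
      add_mem' := fun {a b} ha hb =>
        ⟨Subring.add_mem _ ha.1 hb.1, fun i hi => nonunits_add (ha.2 i hi) (hb.2 i hi)⟩
      zero_mem' := ⟨Subring.zero_mem _, fun i _ =>
        ((W i).mem_nonunits_iff_or).2 (Or.inl rfl)⟩
      smul_mem' := fun c x hx => by
        have hcx : c • x = (c : K) * x := rfl
        rw [Set.mem_setOf_eq, hcx]
        exact ⟨Subring.mul_mem _ (hBD c.2) hx.1,
          fun i hi => nonunits_mul_left (hW i c.2) (hx.2 i hi)⟩ }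
  have hJmem : ∀ k x, x ∈ J k ↔ x ∈ (⨅ i, (W i).toSubring) ∧
      ∀ i : Fin (n + 1), (i : ℕ) < k → x ∈ (W i).nonunits := fun k x => Iff.rfl
  have hstrict : ∀ k < n + 1, J (k + 1) < J k := by
    intro k hk
    refine SetLike.lt_iff_le_and_exists.2 ⟨?_, e ⟨k, hk⟩, ?_, ?_⟩
    · intro x hx
      exact ⟨hx.1, fun i hi => hx.2 i (Nat.lt_succ_of_lt hi)⟩
    · refine (hJmem _ _).2 ⟨hG.mem _, fun i hi => ?_⟩
      have hne : (⟨k, hk⟩ : Fin (n + 1)) ≠ i := by
        intro h
        rw [← h] at hi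
        exact lt_irrefl _ hi
      exact (hG.jac _ i hne).mem_nonunits (W i) le_rfl (dvr_ne_top (W i))
    · intro hmem
      have h1 := ((hJmem _ _).1 hmem).2 ⟨k, hk⟩ (Nat.lt_succ_self k)
      rw [ValuationSubring.mem_nonunits_iff_or] at h1
      rcases h1 with h0 | hinv
      · exact hG.ne_zero _ h0
      · exact hinv (hG.inv_mem ⟨k, hk⟩)
  have hbot : ∀ x ∈ J 0, (⟨z, hz.1⟩ : B) • x ∈ J (n + 1) := by
    intro x hx
    have hzx : (⟨z, hz.1⟩ : B) • x = z * x := rfl
    rw [hzx]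
    refine (hJmem _ _).2 ⟨Subring.mul_mem _ (hBD hz.1) hx.1, fun i _ => ?_⟩
    have hzW : z ∈ (W i).nonunits := hz.mem_nonunits (W i) (hW i) (dvr_ne_top (W i))
    have hxW : x ∈ W i := (Subring.mem_iInf.1 hx.1) i
    rw [mul_comm]
    exact nonunits_mul_left hxW hzW
  exact KA.chain_submodule_le_length (⟨z, hz.1⟩ : B) (fun h => hz0 (congrArg Subtype.val h))
    J (n + 1) hstrict hbot

theorem finite_dvrsOver {B : Subring K} (hB : Nice B) :
    {W : ValuationSubring K | B ≤ W.toSubring ∧ W ≠ ⊤}.Finite := by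
  have := hB.frac
  have := hB.dim
  have := hB.noeth
  obtain ⟨z, hz0, hz⟩ := hB.exists_tn
  have hspan : Ideal.span {(⟨z, hz.1⟩ : B)} ≠ ⊥ := by
    rw [Ne, Ideal.span_singleton_eq_bot]
    exact fun h => hz0 (congrArg Subtype.val h)
  have hlen : Module.length B (B ⧸ Ideal.span {(⟨z, hz.1⟩ : B)}) ≠ ⊤ :=
    KA.length_quotient_ne_top hspan
  by_contra hinf
  have hinf' : {W : ValuationSubring K | B ≤ W.toSubring ∧ W ≠ ⊤}.Infinite := hinf
  let f := hinf'.natEmbedding
  have hbound := card_le_of_injective hB hz0 hz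
    (Module.length B (B ⧸ Ideal.span {(⟨z, hz.1⟩ : B)})).toNat
    (fun i => (f i).1)
    (fun i j h => Fin.ext (f.injective (Subtype.ext h)))
    (fun i => (f i).2.1) (fun i => (f i).2.2)
  rw [← ENat.natCast_toNat hlen] at hbound
  have h2 : (Module.length B (B ⧸ Ideal.span {(⟨z, hz.1⟩ : B)})).toNat + 1 ≤
      (Module.length B (B ⧸ Ideal.span {(⟨z, hz.1⟩ : B)})).toNat := by
    have h3 := hbound
    rw [ENat.toNat_coe] at h3
    exact_mod_cast h3
  omega

/-! ### The conductor argument -/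

theorem exists_valuationSubring_ne_top {B : Subring K} (hB : Nice B) :
    ∃ V : ValuationSubring K, B ≤ V.toSubring ∧ V ≠ ⊤ := by
  obtain ⟨z, hz0, hz⟩ := hB.exists_tn
  have hI : Ideal.span {(⟨z, hz.1⟩ : B)} ≠ ⊤ := by
    intro h
    rw [Ideal.span_singleton_eq_top] at h
    obtain ⟨w, hw⟩ := h.exists_right_inv
    have hwK : z * (w : K) = 1 := congrArg Subtype.val hw
    have hwz : (w : K) = z⁻¹ := eq_inv_of_mul_eq_one_right hwK
    exact hz.inv_notMem hB.ne_top hz0 (hwz ▸ w.2)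
  obtain ⟨V, hBV, hV⟩ := Ideal.image_subset_nonunits_valuationSubring _ hI
  have hzV : z ∈ V.nonunits := hV ⟨⟨z, hz.1⟩, Ideal.subset_span rfl, rfl⟩
  exact ⟨V, hBV, valuationSubring_ne_top_of_mem_nonunits hzV hz0⟩

theorem pow_mem_of_integral {B : Subring K} (hB : Nice B) {x : K} (hint : IsIntegral B x)
    (hx : ∀ V : ValuationSubring K, B ≤ V.toSubring → V ≠ ⊤ → x ∈ V.nonunits) :
    ∃ N : ℕ, 0 < N ∧ x ^ N ∈ B := by
  have := hB.frac
  have := hB.dim
  have := hB.noeth
  have hxC : x ∈ Algebra.adjoin B {x} := Algebra.subset_adjoin (Set.mem_singleton x)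
  have hBC : ∀ b : B, (b : K) ∈ Algebra.adjoin B {x} := fun b =>
    (Algebra.adjoin B {x}).algebraMap_mem b
  obtain ⟨S, hS⟩ := hint.fg_adjoin_singleton
  obtain ⟨c, hc⟩ := IsLocalization.exist_integer_multiples_of_finset (nonZeroDivisors B) S
  have hc0 : (c : B) ≠ 0 := nonZeroDivisors.coe_ne_zero c
  have hcK : ((c : B) : K) ≠ 0 := fun h => hc0 (Subtype.ext h)
  -- the conductor property
  have hcond : ∀ y ∈ Algebra.adjoin B {x}, ((c : B) : K) * y ∈ B := by
    have hle : Submodule.span B (S : Set K) ≤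
        Submodule.comap (LinearMap.mulLeft B ((c : B) : K))
          (LinearMap.range (Algebra.linearMap B K)) := by
      rw [Submodule.span_le]
      intro a ha
      obtain ⟨b, hb⟩ := hc a ha
      refine ⟨b, ?_⟩
      rw [Algebra.linearMap_apply, hb, LinearMap.mulLeft_apply]
      rfl
    intro y hy
    have hy' : y ∈ Submodule.span B (S : Set K) := by
      rw [hS]; exact hy
    obtain ⟨b, hb⟩ := hle hy'
    rw [LinearMap.mulLeft_apply] at hb
    rw [← hb]
    exact b.2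
  -- `x * a ≠ 1` for `a ∈ B[x]`
  obtain ⟨V₀, hBV₀, hV₀⟩ := exists_valuationSubring_ne_top hB
  have hCV : ∀ V : ValuationSubring K, B ≤ V.toSubring → x ∈ V →
      ∀ y ∈ Algebra.adjoin B {x}, y ∈ V := by
    intro V hBV hxV y hy
    have hle : Algebra.adjoin B {x} ≤ (Subalgebra.mk V.toSubring.toSubsemiring
        (fun b => hBV b.2) : Subalgebra B K) :=
      Algebra.adjoin_le (by
        intro w hw
        rw [Set.mem_singleton_iff] at hw
        rw [hw]
        exact hxV)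
    exact hle hy
  -- units `1 - x a`
  have hunit : ∀ a ∈ Algebra.adjoin B {x}, ∃ v ∈ Algebra.adjoin B {x}, (1 - x * a) * v = 1 := by
    intro a ha
    have h1mem : 1 - x * a ∈ (Algebra.adjoin B {x}).toSubring :=
      Subring.sub_mem _ (Subring.one_mem _) (Subring.mul_mem _ hxC ha)
    by_cases hI : Ideal.span {(⟨1 - x * a, h1mem⟩ : (Algebra.adjoin B {x}).toSubring)} = ⊤
    · rw [Ideal.span_singleton_eq_top] at hI
      obtain ⟨v, hv⟩ := hI.exists_right_inv
      exact ⟨v, v.2, congrArg Subtype.val hv⟩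
    · exfalso
      obtain ⟨V, hCV', hV⟩ := Ideal.image_subset_nonunits_valuationSubring _ hI
      have hBV : B ≤ V.toSubring := fun b hb => hCV' (hBC ⟨b, hb⟩)
      have h1V : 1 - x * a ∈ V.nonunits := hV ⟨⟨1 - x * a, h1mem⟩, Ideal.subset_span rfl, rfl⟩
      have haV : a ∈ V := hCV' ha
      by_cases hVtop : V = ⊤
      · -- then `1 - x a = 0`
        rw [ValuationSubring.mem_nonunits_iff_or] at h1V
        have hxa : 1 - x * a = 0 := by
          rcases h1V with h | h
          · exact h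
          · exact absurd (hVtop ▸ ValuationSubring.mem_top _) h
        have hxV₀ : x ∈ V₀.nonunits := hx V₀ hBV₀ hV₀
        have haV₀ : a ∈ V₀ := hCV V₀ hBV₀ (V₀.nonunits_subset hxV₀) a ha
        have h2 : a * x ∈ V₀.nonunits := nonunits_mul_left haV₀ hxV₀
        have h3 : a * x = 1 := by linear_combination -hxa
        rw [h3] at h2
        exact one_notMem_nonunits V₀ h2
      · have hxV : x ∈ V.nonunits := hx V hBV hVtop
        have h2 : a * x ∈ V.nonunits := nonunits_mul_left haV hxV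
        have h3 := nonunits_add h1V h2
        have h4 : 1 - x * a + a * x = 1 := by ring
        rw [h4] at h3
        exact one_notMem_nonunits V h3
  -- the descending chain
  let Cm : Submodule B K := (Algebra.adjoin B {x}).toSubmodule
  have hCm : ∀ y, y ∈ Cm ↔ y ∈ Algebra.adjoin B {x} := fun y => Iff.rfl
  let J : ℕ → Submodule B K := fun n =>
    Submodule.map (LinearMap.mulLeft B (x ^ n)) Cm ⊔
      Submodule.map (LinearMap.mulLeft B ((c : B) : K)) Cm
  have hJmem : ∀ n y, y ∈ J n ↔ ∃ a ∈ Algebra.adjoin B {x}, ∃ b ∈ Algebra.adjoin B {x},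
      x ^ n * a + ((c : B) : K) * b = y := by
    intro n y
    constructor
    · intro hy
      obtain ⟨u, hu, w, hw, rfl⟩ := Submodule.mem_sup.1 hy
      obtain ⟨a, ha, rfl⟩ := Submodule.mem_map.1 hu
      obtain ⟨b, hb, rfl⟩ := Submodule.mem_map.1 hw
      exact ⟨a, ha, b, hb, rfl⟩
    · rintro ⟨a, ha, b, hb, rfl⟩
      exact Submodule.add_mem _
        (Submodule.mem_sup_left (Submodule.mem_map.2 ⟨a, ha, rfl⟩))
        (Submodule.mem_sup_right (Submodule.mem_map.2 ⟨b, hb, rfl⟩))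
  have hJmono : ∀ n, J (n + 1) ≤ J n := by
    intro n y hy
    obtain ⟨a, ha, b, hb, rfl⟩ := (hJmem _ _).1 hy
    refine (hJmem _ _).2 ⟨x * a, Subalgebra.mul_mem _ hxC ha, b, hb, ?_⟩
    rw [pow_succ]; ring
  have hspan : Ideal.span {(c : B)} ≠ ⊥ := by
    rw [Ne, Ideal.span_singleton_eq_bot]
    exact hc0
  have hlen : Module.length B (B ⧸ Ideal.span {(c : B)}) ≠ ⊤ := KA.length_quotient_ne_top hspan
  have hstab : ∃ n, J n ≤ J (n + 1) := by
    by_contra hcon
    push Not at hcon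
    have hstrict : ∀ n, J (n + 1) < J n := fun n => lt_of_le_not_ge (hJmono n) (hcon n)
    have hbound := KA.chain_submodule_le_length (c : B) hc0 J
      ((Module.length B (B ⧸ Ideal.span {(c : B)})).toNat + 1)
      (fun i _ => hstrict i)
      (by
        intro y hy
        obtain ⟨a, ha, b, hb, rfl⟩ := (hJmem _ _).1 hy
        have hcy : (c : B) • (x ^ 0 * a + ((c : B) : K) * b) =
            ((c : B) : K) * (x ^ 0 * a + ((c : B) : K) * b) := rfl
        rw [hcy]
        refine (hJmem _ _).2 ⟨0, Subalgebra.zero_mem _, x ^ 0 * a + ((c : B) : K) * b,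
          Subalgebra.add_mem _ (Subalgebra.mul_mem _ (Subalgebra.pow_mem _ hxC 0) ha)
            (Subalgebra.mul_mem _ (hBC c) hb), ?_⟩
        ring)
    rw [← ENat.natCast_toNat hlen] at hbound
    have h2 : (Module.length B (B ⧸ Ideal.span {(c : B)})).toNat + 1 ≤
        (Module.length B (B ⧸ Ideal.span {(c : B)})).toNat := by
      have h3 := hbound
      rw [ENat.toNat_coe] at h3
      exact_mod_cast h3
    omega
  obtain ⟨n, hn⟩ := hstab
  have hxn : x ^ n ∈ J n := (hJmem _ _).2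
    ⟨1, Subalgebra.one_mem _, 0, Subalgebra.zero_mem _, by ring⟩
  obtain ⟨a, ha, b, hb, hab⟩ := (hJmem _ _).1 (hn hxn)
  obtain ⟨v, hv, hva⟩ := hunit a ha
  refine ⟨n + 1, Nat.succ_pos n, ?_⟩
  have hfin : x ^ (n + 1) = ((c : B) : K) * (x * b * v) := by
    have h1 : x ^ n * (1 - x * a) = ((c : B) : K) * b := by
      linear_combination -hab
    calc x ^ (n + 1) = x * (x ^ n * ((1 - x * a) * v)) := by rw [hva, mul_one, pow_succ]; ring
      _ = x * ((x ^ n * (1 - x * a)) * v) := by ring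
      _ = ((c : B) : K) * (x * b * v) := by rw [h1]; ring
  rw [hfin]
  exact hcond _ (Subalgebra.mul_mem _ (Subalgebra.mul_mem _ hxC hb) hv)

/-! ### The gluing oracle in general -/

theorem isIntegral_of_forall_mem {B : Subring K} {x : K}
    (hx : ∀ V : ValuationSubring K, B ≤ V.toSubring → x ∈ V) : IsIntegral B x := by
  by_contra hnot
  have hxR : x ∉ (integralClosure B K).toSubring := hnot
  obtain ⟨V, hV, hxV⟩ :=
    Subring.exists_le_valuationSubring_of_isIntegrallyClosedIn hxR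
  apply hxV
  apply hx V
  intro b hb
  apply hV
  show (b : K) ∈ integralClosure B K
  exact (integralClosure B K).algebraMap_mem ⟨b, hb⟩

theorem pair_general {A B : Subring K} (hA : Nice A) (hB : Nice B) (hsup : A ⊔ B = ⊤) :
    ∃ s t, Pair A B s t := by
  have := hB.frac
  have := hB.dim
  have := hB.noeth
  have hfin := finite_dvrsOver hB
  obtain ⟨q, W, hWinj, hWrange⟩ : ∃ (q : ℕ) (W : Fin q → ValuationSubring K),
      Function.Injective W ∧
        Set.range W = {W : ValuationSubring K | B ≤ W.toSubring ∧ W ≠ ⊤} := by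
    have := hfin.to_subtype
    obtain ⟨q, ⟨eqv⟩⟩ :=
      Finite.exists_equiv_fin {W : ValuationSubring K | B ≤ W.toSubring ∧ W ≠ ⊤}
    refine ⟨q, fun i => (eqv.symm i).1, fun i j h => eqv.symm.injective (Subtype.ext h), ?_⟩
    ext V
    constructor
    · rintro ⟨i, rfl⟩
      exact (eqv.symm i).2
    · intro hV
      exact ⟨eqv ⟨V, hV⟩, by simp⟩
  have hWmem : ∀ i, B ≤ (W i).toSubring ∧ W i ≠ ⊤ := fun i => by
    have h1 : W i ∈ Set.range W := ⟨i, rfl⟩
    rw [hWrange] at h1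
    exact h1
  haveI hdvr : ∀ i, IsDiscreteValuationRing (W i) := fun i =>
    KA.isDiscreteValuationRing_of_le (A := B) (W i) (fun r => (hWmem i).1 r.2) (hWmem i).2
  obtain ⟨C, hCc, hCl⟩ : ∃ C : Fin (q + 1) → Subring K,
      (∀ i : Fin q, C i.castSucc = (W i).toSubring) ∧ C (Fin.last q) = A :=
    ⟨Fin.snoc (α := fun _ => Subring K) (fun i => (W i).toSubring) A,
      fun i => Fin.snoc_castSucc (α := fun _ => Subring K) _ _ i,
      Fin.snoc_last (α := fun _ => Subring K) _ _⟩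
  have hNice : ∀ i, Nice (C i) := by
    intro i
    rcases Fin.eq_castSucc_or_eq_last i with ⟨j, rfl⟩ | rfl
    · rw [hCc]; exact dvr_nice (W j)
    · rw [hCl]; exact hA
  have hAW : ∀ j : Fin q, (W j).toSubring ⊔ A = ⊤ := by
    intro j
    rw [eq_top_iff, ← hsup]
    exact sup_le le_sup_right ((hWmem j).1.trans le_sup_left)
  have hgen : ∀ i j, i ≠ j → C i ⊔ C j = ⊤ := by
    intro i j hij
    rcases Fin.eq_castSucc_or_eq_last i with ⟨a, rfl⟩ | rfl
    · rcases Fin.eq_castSucc_or_eq_last j with ⟨b, rfl⟩ | rfl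
      · rw [hCc, hCc]
        exact dvr_sup_eq_top (W a) (W b) (fun h => hij (congrArg Fin.castSucc (hWinj h)))
      · rw [hCc, hCl]
        exact hAW a
    · rcases Fin.eq_castSucc_or_eq_last j with ⟨b, rfl⟩ | rfl
      · rw [hCc, hCl, sup_comm]
        exact hAW b
      · exact absurd rfl hij
  have horacle : ∀ (R' : Subring K) (i : Fin (q + 1)), i ≠ Fin.last q → Nice R' →
      R' ⊔ C i = ⊤ → ∃ s t, Pair R' (C i) s t := by
    intro R' i hi hR' hs
    rcases Fin.eq_castSucc_or_eq_last i with ⟨j, rfl⟩ | rfl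
    · rw [hCc] at hs ⊢
      exact pair_dvr hR' (W j) hs
    · exact absurd rfl hi
  obtain ⟨e, hG, -⟩ := glue_family q C hNice hgen horacle
  -- the element `ε`
  have hεA : e (Fin.last q) ∈ A := hCl ▸ hG.le (Fin.last q) (hG.mem (Fin.last q))
  have hεinv : (e (Fin.last q))⁻¹ ∈ A := hCl ▸ hG.inv_mem (Fin.last q)
  have hε0 : e (Fin.last q) ≠ 0 := hG.ne_zero _
  have hεW : ∀ j : Fin q, e (Fin.last q) ∈ (W j).nonunits := by
    intro j
    have hne : Fin.last q ≠ j.castSucc := (Fin.castSucc_lt_last j).ne'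
    have h1 := hG.jac (Fin.last q) j.castSucc hne
    rw [hCc] at h1
    exact h1.mem_nonunits (W j) le_rfl (dvr_ne_top (W j))
  have hεV : ∀ V : ValuationSubring K, B ≤ V.toSubring → V ≠ ⊤ →
      e (Fin.last q) ∈ V.nonunits := by
    intro V hBV hV
    have h1 : V ∈ Set.range W := by
      rw [hWrange]; exact ⟨hBV, hV⟩
    obtain ⟨j, rfl⟩ := h1
    exact hεW j
  have hint : IsIntegral B (e (Fin.last q)) := by
    apply isIntegral_of_forall_mem
    intro V hBV
    by_cases hV : V = ⊤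
    · rw [hV]; exact ValuationSubring.mem_top _
    · exact V.nonunits_subset (hεV V hBV hV)
  obtain ⟨N, hNpos, hNB⟩ := pow_mem_of_integral hB hint hεV
  -- `v = ε ^ N` lies in the Jacobson radical of `B`
  have hvV : ∀ V : ValuationSubring K, B ≤ V.toSubring → V ≠ ⊤ →
      e (Fin.last q) ^ N ∈ V.nonunits := by
    intro V hBV hV
    obtain ⟨M, rfl⟩ := Nat.exists_eq_succ_of_ne_zero hNpos.ne'
    rw [pow_succ]
    exact nonunits_mul_left (pow_mem (V.nonunits_subset (hεV V hBV hV)) M) (hεV V hBV hV)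
  have hvT : Tn B (e (Fin.last q) ^ N) := by
    have hjac : ∀ m : Ideal B, m.IsMaximal → (⟨e (Fin.last q) ^ N, hNB⟩ : B) ∈ m := by
      intro m hm
      by_contra hvm
      obtain ⟨y, i, hi, hyi⟩ := hm.exists_inv hvm
      obtain ⟨V, hBV, hV⟩ := Ideal.image_subset_nonunits_valuationSubring m hm.ne_top
      have hmb : m ≠ ⊥ := Ring.ne_bot_of_isMaximal_of_not_isField hm hB.nf
      obtain ⟨π, hπ, hπ0⟩ := Submodule.exists_mem_ne_zero_of_ne_bot hmb
      have hπV : (π : K) ∈ V.nonunits := hV ⟨π, hπ, rfl⟩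
      have hVtop : V ≠ ⊤ :=
        valuationSubring_ne_top_of_mem_nonunits hπV (fun h => hπ0 (Subtype.ext h))
      have h1 : (y : K) * e (Fin.last q) ^ N ∈ V.nonunits :=
        nonunits_mul_left (hBV y.2) (hvV V hBV hVtop)
      have h2 : (i : K) ∈ V.nonunits := hV ⟨i, hi, rfl⟩
      have h3 := nonunits_add h1 h2
      have h4 : (y : K) * e (Fin.last q) ^ N + (i : K) = 1 := congrArg Subtype.val hyi
      rw [h4] at h3
      exact one_notMem_nonunits V h3
    exact hB.tn_of_jac hjac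
  obtain ⟨z, hz0, hz⟩ := hA.exists_tn
  refine pair_of_unit hA.ne_top hB.ne_top hz0 hz (pow_ne_zero N hε0) ?_ hvT
  rw [← inv_pow]
  exact A.pow_mem hεinv N

end Groth.Agent.Lib.Helper12.Glue
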