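import Groth.Prelude.Def_W4stktopologysheavesBas
import Mathlib.Topology.Bases
import Mathlib.Topology.Sets.Opens

/-! Helper lemmas on presheaves and sheaves on a basis (`ShB`). -/

set_option autoImplicit false
universe u

namespace Groth.Agent.Lib.Helper12

open TopologicalSpace ShB

variable {X : Type u} [TopologicalSpace X] {B : Set (Opens X)}

/-- Sections are determined locally. -/
def IsSepB (F : Pre B) : Prop :=
  ∀ (U : B) (t t' : F.obj U),
    (∀ x ∈ (U : Opens X), ∃ (V : B) (hV : (V : Opens X) ≤ (U : Opens X)),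
      x ∈ (V : Opens X) ∧ F.res hV t = F.res hV t') → t = t'

lemma isSepB_of_cofinal (F : Pre B) (C : ∀ U : B, Set (Cover B))
    (hCU : ∀ U, ∀ c ∈ C U, c.U = U)
    (hC : ∀ (U : B) (ι : Type u) (V : ι → B), (∀ i, (V i : Opens X) ≤ (U : Opens X)) →
      (U : Opens X) ≤ ⨆ i, (V i : Opens X) →
      ∃ c ∈ C U, ∀ i' : c.ι, ∃ i, (c.V i' : Opens X) ≤ (V i : Opens X))
    (H : ∀ U, ∀ c ∈ C U, GluesUniquely F c) : IsSepB F := by
  intro U t t' hloc
  choose V hVU hxV hres using hloc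
  obtain ⟨c, hc, href⟩ := hC U (↥(U : Opens X)) (fun x => V x.1 x.2) (fun x => hVU x.1 x.2) (by
      intro x hx
      exact Opens.mem_iSup.mpr ⟨⟨x, hx⟩, hxV x hx⟩)
  have hcU := hCU U c hc
  subst hcU
  choose α hα using href
  have := H c.U c hc (fun i' => F.res (c.V_le i') t) (by intros; rw [F.res_comp, F.res_comp])
  refine this.unique (fun i => rfl) (fun i' => ?_)
  have h1 : F.res (hα i') (F.res (hVU _ _) t') = F.res (hα i') (F.res (hVU _ _) t) := by
    rw [hres]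
  rw [F.res_comp, F.res_comp] at h1
  exact h1

lemma compat_of_isSepB (hB : Opens.IsBasis B) (F : Pre B) (hsep : IsSepB F) (c : Cover B)
    (s : ∀ i, F.obj (c.V i))
    (hs : ∀ i j k, F.res (c.W_le_left i j k) (s i) = F.res (c.W_le_right i j k) (s j))
    (i j : c.ι) (V : B) (h1 : (V : Opens X) ≤ (c.V i : Opens X))
    (h2 : (V : Opens X) ≤ (c.V j : Opens X)) :
    F.res h1 (s i) = F.res h2 (s j) := by
  apply hsep
  intro x hx
  have hx' : x ∈ (c.V i : Opens X) ⊓ (c.V j : Opens X) := ⟨h1 hx, h2 hx⟩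
  obtain ⟨k, hk⟩ := Opens.mem_iSup.mp (c.W_cover i j hx')
  obtain ⟨V', hV'B, hxV', hV'le⟩ := Opens.isBasis_iff_nbhd.mp hB
    (show x ∈ (V : Opens X) ⊓ (c.W i j k : Opens X) from ⟨hx, hk⟩)
  refine ⟨⟨V', hV'B⟩, hV'le.trans inf_le_left, hxV', ?_⟩
  rw [F.res_comp, F.res_comp]
  have := congrArg (F.res (U := c.W i j k) (V := ⟨V', hV'B⟩) (hV'le.trans inf_le_right)) (hs i j k)
  rw [F.res_comp, F.res_comp] at this
  exact this

theorem isSheaf_of_cofinal (hB : Opens.IsBasis B) (F : Pre B) (C : ∀ U : B, Set (Cover B))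
    (hCU : ∀ U, ∀ c ∈ C U, c.U = U)
    (hC : ∀ (U : B) (ι : Type u) (V : ι → B), (∀ i, (V i : Opens X) ≤ (U : Opens X)) →
      (U : Opens X) ≤ ⨆ i, (V i : Opens X) →
      ∃ c ∈ C U, ∀ i' : c.ι, ∃ i, (c.V i' : Opens X) ≤ (V i : Opens X))
    (H : ∀ U, ∀ c ∈ C U, GluesUniquely F c) : IsSheaf F := by
  have hsep : IsSepB F := isSepB_of_cofinal F C hCU hC H
  intro c s hs
  have hcompat := compat_of_isSepB hB F hsep c s hs
  obtain ⟨c', hc', href⟩ := hC c.U c.ι c.V c.V_le c.V_cover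
  have hU : c'.U = c.U := hCU _ _ hc'
  have hU1 : (c.U : Opens X) ≤ (c'.U : Opens X) := by rw [hU]
  choose α hα using href
  obtain ⟨t', ht', -⟩ := H c.U c' hc' (fun i' => F.res (hα i') (s (α i'))) (by
    intro i' j' k'
    rw [F.res_comp, F.res_comp]
    exact hcompat _ _ _ _ _)
  refine ⟨F.res hU1 t', fun i => ?_, fun t1 ht1 => ?_⟩
  · apply hsep
    intro x hx
    have hx1 : x ∈ (c'.U : Opens X) := hU1 (c.V_le i hx)
    obtain ⟨i', hi'⟩ := Opens.mem_iSup.mp (c'.V_cover hx1)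
    obtain ⟨V', hV'B, hxV', hV'le⟩ := Opens.isBasis_iff_nbhd.mp hB
      (show x ∈ (c.V i : Opens X) ⊓ (c'.V i' : Opens X) from ⟨hx, hi'⟩)
    refine ⟨⟨V', hV'B⟩, hV'le.trans inf_le_left, hxV', ?_⟩
    rw [F.res_comp, F.res_comp]
    have e1 := congrArg (F.res (U := c'.V i') (V := ⟨V', hV'B⟩) (hV'le.trans inf_le_right)) (ht' i')
    rw [F.res_comp, F.res_comp] at e1
    rw [e1]
    exact hcompat _ _ _ _ _
  · apply hsep
    intro x hx
    obtain ⟨i, hi⟩ := Opens.mem_iSup.mp (c.V_cover hx)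
    refine ⟨c.V i, c.V_le i, hi, ?_⟩
    rw [ht1 i]
    -- the first part, restated
    apply hsep
    intro y hy
    have hy1 : y ∈ (c'.U : Opens X) := hU1 (c.V_le i hy)
    obtain ⟨i', hi'⟩ := Opens.mem_iSup.mp (c'.V_cover hy1)
    obtain ⟨V', hV'B, hyV', hV'le⟩ := Opens.isBasis_iff_nbhd.mp hB
      (show y ∈ (c.V i : Opens X) ⊓ (c'.V i' : Opens X) from ⟨hy, hi'⟩)
    refine ⟨⟨V', hV'B⟩, hV'le.trans inf_le_left, hyV', ?_⟩
    rw [F.res_comp, F.res_comp]
    have e1 := congrArg (F.res (U := c'.V i') (V := ⟨V', hV'B⟩) (hV'le.trans inf_le_right)) (ht' i')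
    rw [F.res_comp, F.res_comp] at e1
    rw [e1]
    exact (hcompat _ _ _ _ _).symm

/-- A covering datum built from a family of members of `B` covering `U`, using that `B` is a
basis to cover the pairwise intersections. -/
noncomputable def coverOfFamily (hB : Opens.IsBasis B) (U : B) {ι : Type u} (V : ι → B)
    (hle : ∀ i, (V i : Opens X) ≤ (U : Opens X)) (hcov : (U : Opens X) ≤ ⨆ i, (V i : Opens X)) :
    Cover B where
  U := U
  ι := ι
  V := V
  V_le := hle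
  V_cover := hcov
  κ i j := ↥((V i : Opens X) ⊓ (V j : Opens X))
  W i j y := ⟨(Opens.isBasis_iff_nbhd.mp hB y.2).choose,
    (Opens.isBasis_iff_nbhd.mp hB y.2).choose_spec.1⟩
  W_le_left i j y := (Opens.isBasis_iff_nbhd.mp hB y.2).choose_spec.2.2.trans inf_le_left
  W_le_right i j y := (Opens.isBasis_iff_nbhd.mp hB y.2).choose_spec.2.2.trans inf_le_right
  W_cover i j := by
    intro y hy
    exact Opens.mem_iSup.mpr ⟨⟨y, hy⟩, (Opens.isBasis_iff_nbhd.mp hB hy).choose_spec.2.1⟩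

lemma IsSheaf.isSepB (hB : Opens.IsBasis B) {F : Pre B} (hF : IsSheaf F) : IsSepB F := by
  refine isSepB_of_cofinal F (fun U => {c | c.U = U}) (fun U c hc => hc) ?_ (fun U c _ => hF c)
  intro U ι V hle hcov
  exact ⟨coverOfFamily hB U V hle hcov, rfl, fun i' => ⟨i', le_rfl⟩⟩

end Groth.Agent.Lib.Helper12

namespace Groth.Agent.Lib.Helper12

open TopologicalSpace ShB

variable {X : Type u} [TopologicalSpace X] {B : Set (Opens X)}

lemma stalkRel_equivalence (hB : Opens.IsBasis B) (F : Pre B) (x : X) :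
    Equivalence (StalkRel F x) := by
  refine ⟨fun a => ?_, fun {a b} h => ?_, fun {a b c} h1 h2 => ?_⟩
  · exact ⟨a.1.1, a.1.2, le_rfl, le_rfl, rfl⟩
  · obtain ⟨W, hW, ha, hb, h⟩ := h
    exact ⟨W, hW, hb, ha, h.symm⟩
  · obtain ⟨W1, hW1, ha1, hb1, h1⟩ := h1
    obtain ⟨W2, hW2, hb2, hc2, h2⟩ := h2
    obtain ⟨W, hWB, hxW, hWle⟩ := Opens.isBasis_iff_nbhd.mp hB
      (show x ∈ (W1 : Opens X) ⊓ (W2 : Opens X) from ⟨hW1, hW2⟩)
    refine ⟨⟨W, hWB⟩, hxW, (hWle.trans inf_le_left).trans ha1,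
      (hWle.trans inf_le_right).trans hc2, ?_⟩
    have e1 := congrArg (F.res (U := W1) (V := ⟨W, hWB⟩) (hWle.trans inf_le_left)) h1
    have e2 := congrArg (F.res (U := W2) (V := ⟨W, hWB⟩) (hWle.trans inf_le_right)) h2
    rw [F.res_comp, F.res_comp] at e1 e2
    exact e1.trans e2

lemma germ_eq_iff (hB : Opens.IsBasis B) (F : Pre B) {U V : B} (x : X)
    (hxU : x ∈ (U : Opens X)) (hxV : x ∈ (V : Opens X)) (s : F.obj U) (t : F.obj V) :
    germ F x hxU s = germ F x hxV t ↔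
      ∃ (W : B) (_ : x ∈ (W : Opens X)) (ha : (W : Opens X) ≤ (U : Opens X))
        (hb : (W : Opens X) ≤ (V : Opens X)), F.res ha s = F.res hb t := by
  constructor
  · intro h
    have h' := Quot.eqvGen_exact h
    rw [(stalkRel_equivalence hB F x).eqvGen_iff] at h'
    exact h'
  · intro h
    exact Quot.sound h

lemma germ_res (F : Pre B) {U V : B} (x : X) (hxV : x ∈ (V : Opens X))
    (hVU : (V : Opens X) ≤ (U : Opens X)) (s : F.obj U) :
    germ F x hxV (F.res hVU s) = germ F x (hVU hxV) s := by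
  refine Quot.sound ⟨V, hxV, le_rfl, hVU, ?_⟩
  rw [F.res_comp]

end Groth.Agent.Lib.Helper12
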