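import Groth.Agent.Lib.Helper12.ShB
import Mathlib.Topology.Sheaves.Sheaf
import Mathlib.Topology.Sheaves.SheafCondition.UniqueGluing
import Mathlib.Topology.Sheaves.SheafCondition.Sites

/-! Extension of a sheaf on a basis to a sheaf on the space. -/

set_option autoImplicit false
universe u

namespace Groth.Agent.Lib.Helper12

open TopologicalSpace ShB CategoryTheory Opposite

variable {X : Type u} [TopologicalSpace X] {B : Set (Opens X)}

/-- Gluing sections of a sheaf on a basis along a family of members which agree on all smaller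
members. -/
lemma glueB (hB : Opens.IsBasis B) {F : Pre B} (hF : IsSheaf F) (V : B) {ι : Type u}
    (V' : ι → B) (hle : ∀ a, (V' a : Opens X) ≤ (V : Opens X))
    (hcov : (V : Opens X) ≤ ⨆ a, (V' a : Opens X)) (σ : ∀ a, F.obj (V' a))
    (hσ : ∀ (a b : ι) (W : B) (h1 : (W : Opens X) ≤ (V' a : Opens X))
      (h2 : (W : Opens X) ≤ (V' b : Opens X)), F.res h1 (σ a) = F.res h2 (σ b)) :
    ∃! t : F.obj V, ∀ a, F.res (hle a) t = σ a :=
  hF (coverOfFamily hB V V' hle hcov) σ (fun _ _ _ => hσ _ _ _ _ _)

/-- Sections of the extension over `U`: compatible families of sections over the members of `B`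
inside `U`. -/
def ExtObj (F : Pre B) (U : Opens X) : Type u :=
  {s : ∀ V : B, (V : Opens X) ≤ U → F.obj V //
    ∀ (V V' : B) (hV : (V : Opens X) ≤ U) (hV' : (V' : Opens X) ≤ U)
      (h : (V' : Opens X) ≤ (V : Opens X)), F.res h (s V hV) = s V' hV'}

/-- Restriction for the extension. -/
def ExtObj.res {F : Pre B} {U U' : Opens X} (h : U' ≤ U) (s : ExtObj F U) : ExtObj F U' :=
  ⟨fun V hV => s.1 V (hV.trans h), fun V V' _ _ h' => s.2 V V' _ _ h'⟩

lemma ExtObj.ext {F : Pre B} {U : Opens X} {s t : ExtObj F U}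
    (h : ∀ (V : B) (hV : (V : Opens X) ≤ U), s.1 V hV = t.1 V hV) : s = t := by
  apply Subtype.ext
  funext V hV
  exact h V hV

/-- The extension presheaf. -/
def extPresheaf (F : Pre B) : (Opens X)ᵒᵖ ⥤ Type u where
  obj U := ExtObj F U.unop
  map {U U'} f := TypeCat.ofHom (ExtObj.res (F := F) f.unop.le)
  map_id U := by
    ext s
    rfl
  map_comp f g := by
    ext s
    rfl

lemma extPresheaf_map_apply (F : Pre B) {U U' : (Opens X)ᵒᵖ} (f : U ⟶ U')
    (s : (extPresheaf F).obj U) :
    (extPresheaf F).map f s = ExtObj.res (F := F) f.unop.le s := rfl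

theorem extPresheaf_isSheaf (hB : Opens.IsBasis B) {F : Pre B} (hF : IsSheaf F) :
    TopCat.Presheaf.IsSheaf (X := TopCat.of X) (extPresheaf F) := by
  rw [TopCat.Presheaf.isSheaf_iff_isSheafUniqueGluing_types]
  intro ι U sf hsf
  -- compatibility in elementary terms
  have hcompat : ∀ (i j : ι) (W : B) (h1 : (W : Opens X) ≤ U i) (h2 : (W : Opens X) ≤ U j),
      (sf i).1 W h1 = (sf j).1 W h2 := by
    intro i j W h1 h2
    have := hsf i j
    have h3 := congrArg (fun s : ExtObj F (U i ⊓ U j) => s.1 W (le_inf h1 h2)) this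
    exact h3
  -- the index type of the covering of a member `V ≤ ⨆ U` and its gluing datum
  let I : B → Type u := fun V => Σ i : ι, {V' : B // (V' : Opens X) ≤ V ∧ (V' : Opens X) ≤ U i}
  have hglue : ∀ (V : B) (hV : (V : Opens X) ≤ iSup U),
      ∃! t : F.obj V, ∀ a : I V, F.res a.2.2.1 t = (sf a.1).1 a.2.1 a.2.2.2 := by
    intro V hV
    refine glueB hB hF V (fun a : I V => a.2.1) (fun a => a.2.2.1) ?_
      (fun a => (sf a.1).1 a.2.1 a.2.2.2) ?_
    · intro x hx
      obtain ⟨i, hi⟩ := Opens.mem_iSup.mp (hV hx)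
      obtain ⟨V', hV'B, hxV', hV'le⟩ := Opens.isBasis_iff_nbhd.mp hB
        (show x ∈ (V : Opens X) ⊓ U i from ⟨hx, hi⟩)
      exact Opens.mem_iSup.mpr
        ⟨⟨i, ⟨V', hV'B⟩, hV'le.trans inf_le_left, hV'le.trans inf_le_right⟩, hxV'⟩
    · intro a b W h1 h2
      rw [(sf a.1).2 _ W a.2.2.2 (h1.trans a.2.2.2) h1, (sf b.1).2 _ W b.2.2.2 (h2.trans b.2.2.2) h2]
      exact hcompat _ _ _ _ _
  choose t ht htu using hglue
  have htcompat : ∀ (V V' : B) (hV : (V : Opens X) ≤ iSup U) (hV' : (V' : Opens X) ≤ iSup U)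
      (h : (V' : Opens X) ≤ (V : Opens X)), F.res h (t V hV) = t V' hV' := by
    intro V V' hV hV' h
    apply htu V' hV'
    intro a
    rw [F.res_comp]
    exact ht V hV ⟨a.1, a.2.1, a.2.2.1.trans h, a.2.2.2⟩
  have hgl : ∀ (i : ι) (V : B) (hV : (V : Opens X) ≤ U i),
      t V (hV.trans (le_iSup U i)) = (sf i).1 V hV := by
    intro i V hV
    symm
    apply htu V
    intro a
    rw [(sf i).2 V a.2.1 hV (a.2.2.1.trans hV) a.2.2.1]
    exact hcompat _ _ _ _ _
  refine ⟨⟨t, htcompat⟩, fun i => ?_, fun s' hs' => ?_⟩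
  · apply ExtObj.ext
    intro V hV
    exact hgl i V hV
  · apply ExtObj.ext
    intro V hV
    apply htu V hV
    intro a
    rw [s'.2 V a.2.1 hV (a.2.2.2.trans (le_iSup U a.1)) a.2.2.1]
    have := hs' a.1
    exact congrArg (fun s : ExtObj F (U a.1) => s.1 a.2.1 a.2.2.2) this

/-- The extension sheaf. -/
def extSheaf (hB : Opens.IsBasis B) {F : Pre B} (hF : IsSheaf F) :
    TopCat.Sheaf (Type u) (TopCat.of X) :=
  ⟨extPresheaf F, extPresheaf_isSheaf hB hF⟩

/-- The restriction of the extension to the basis is the original presheaf. -/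
def extIso (F : Pre B) : ShB.Iso (ShB.restrict B (extPresheaf F)) F where
  hom :=
    { app := fun U (s : ExtObj F U) => s.1 U le_rfl
      natural := by
        intro U V h s
        exact (show ExtObj F U from s).2 U V le_rfl h h }
  inv :=
    { app := fun U t => (⟨fun V hV => F.res hV t, fun V V' hV hV' h => F.res_comp hV h t⟩ :
        ExtObj F U)
      natural := by
        intro U V h t
        apply ExtObj.ext
        intro V' hV'
        exact (F.res_comp h hV' t).symm }
  hom_inv := by
    intro U s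
    apply ExtObj.ext
    intro V hV
    exact (show ExtObj F U from s).2 U V le_rfl hV hV
  inv_hom := by
    intro U t
    exact F.res_id U t

end Groth.Agent.Lib.Helper12

namespace Groth.Agent.Lib.Helper12

open TopologicalSpace ShB CategoryTheory Opposite

variable {X : Type u} [TopologicalSpace X] {B : Set (Opens X)}

/-- The basis as an indexed family of opens. -/
def basisFun (B : Set (Opens X)) : ↥B → Opens (TopCat.of X) := Subtype.val

lemma isBasis_range_basisFun (hB : Opens.IsBasis B) :
    Opens.IsBasis (Set.range (basisFun B)) := by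
  rw [basisFun, Subtype.range_coe]; exact hB

/-- A morphism of restrictions to the basis from a morphism of `ShB` presheaves. -/
def restrHom {F : Pre B} (G G' : (Opens (TopCat.of X))ᵒᵖ ⥤ Type u)
    (f : ShB.Hom (restrict B G) F) (g : ShB.Hom F (restrict B G')) :
    (inducedFunctor (basisFun B)).op ⋙ G ⟶ (inducedFunctor (basisFun B)).op ⋙ G' where
  app i := TypeCat.ofHom (fun s => g.app i.unop (f.app i.unop s))
  naturality i j φ := by
    ext s
    have hle : ((show ↥B from j.unop) : Opens X) ≤ ((show ↥B from i.unop) : Opens X) :=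
      φ.unop.hom.le
    have h1 := f.natural hle s
    have h2 := g.natural hle (f.app i.unop s)
    have e1 : φ.unop.hom = homOfLE hle := Subsingleton.elim _ _
    simp only [Functor.comp_obj, Functor.op_obj, inducedFunctor_obj, Functor.comp_map,
      Functor.op_map, inducedFunctor_map, types_comp_apply, TypeCat.ofHom_apply]
    rw [e1]
    change g.app j.unop (f.app j.unop ((restrict B G).res hle s)) =
      (restrict B G').res hle (g.app i.unop (f.app i.unop s))
    rw [h2, h1]

theorem existsUnique_hom_of_iso (hB : Opens.IsBasis B) (F : Pre B)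
    (G G' : TopCat.Sheaf (Type u) (TopCat.of X))
    (e : ShB.Iso (ShB.restrict B G.presheaf) F) (e' : ShB.Iso (ShB.restrict B G'.presheaf) F) :
    ∃! φ : G ⟶ G', IsIso φ ∧ ∀ (U : B) (s : G.presheaf.obj (op (U : Opens X))),
      e'.hom.app U (φ.1.app (op (U : Opens X)) s) = e.hom.app U s := by
  have hB' := isBasis_range_basisFun hB
  let α := restrHom G.presheaf G'.presheaf e.hom e'.inv
  let φ₀ : G.presheaf ⟶ G'.presheaf := TopCat.Sheaf.restrictHomEquivHom G.presheaf G' hB' α
  have hφ₀ : ∀ (U : B) (s : G.presheaf.obj (op (U : Opens X))),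
      φ₀.app (op (U : Opens X)) s = e'.inv.app U (e.hom.app U s) := by
    intro U s
    have := TopCat.Sheaf.extend_hom_app G.presheaf G' hB' α U
    exact ConcreteCategory.congr_hom this s
  refine ⟨ObjectProperty.homMk φ₀, ⟨?_, ?_⟩, ?_⟩
  · refine TopCat.Sheaf.isIso_iff_isIso_basis (B := basisFun B) hB' (fun U => ?_)
    rw [isIso_iff_bijective]
    refine Function.bijective_iff_has_inverse.mpr
      ⟨fun t => e.inv.app U (e'.hom.app U t), fun s => ?_, fun t => ?_⟩
    · have := hφ₀ U s
      change e.inv.app U (e'.hom.app U (φ₀.app (op (U : Opens X)) s)) = s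
      rw [this, e'.inv_hom, e.hom_inv]
    · change φ₀.app (op (U : Opens X)) (e.inv.app U (e'.hom.app U t)) = t
      rw [hφ₀, e.inv_hom, e'.hom_inv]
  · intro U s
    change e'.hom.app U (φ₀.app (op (U : Opens X)) s) = e.hom.app U s
    rw [hφ₀, e'.inv_hom]
  · rintro ψ ⟨-, hψ⟩
    apply CategoryTheory.Sheaf.hom_ext
    apply TopCat.Sheaf.hom_ext (B := basisFun B) G.presheaf G' hB'
    intro U
    ext s
    change ψ.1.app (op (U : Opens X)) s = φ₀.app (op (U : Opens X)) s
    rw [hφ₀, ← hψ U s, e'.hom_inv]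

end Groth.Agent.Lib.Helper12
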