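import Mathlib
import Groth.Agent.Lib.Helper12.SmStratStage
import Groth.Agent.Lib.Helper12.SmStratIdeal
import Groth.Agent.Lib.Helper22.SmoothRed

/-!
# Helper library (helper12): smooth stratifications with reduced structures

Over a reduced base, a chain of ideal sheaves with smooth strata may be replaced by the chain of
the radical ideal sheaves with the same supports.
-/

universe u

open CategoryTheory CategoryTheory.Limits AlgebraicGeometry Topology

set_option backward.isDefEq.respectTransparency false
set_option linter.style.haveILetI false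

namespace Groth.Agent.Lib.Helper12.SmStrat

open Scheme IdealSheafData in
/-- A smooth stratum of a closed subscheme over a reduced base is also a stratum of the
corresponding reduced closed subscheme. -/
lemma smooth_vanishingIdeal_stratum {P Y : Scheme.{u}} [IsReduced Y] (h : P ⟶ Y)
    (J : P.IdealSheafData) (W : P.Opens)
    (hs : Smooth ((J.subschemeι ⁻¹ᵁ W).ι ≫ J.subschemeι ≫ h)) :
    Smooth (((vanishingIdeal J.support).subschemeι ⁻¹ᵁ W).ι ≫
      (vanishingIdeal J.support).subschemeι ≫ h) := by
  have hle : J ≤ vanishingIdeal J.support := le_support_iff_le_vanishingIdeal.mp le_rfl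
  haveI : IsClosedImmersion (inclusion hle) := by
    have : IsClosedImmersion (inclusion hle ≫ J.subschemeι) := by
      rw [inclusion_subschemeι]; infer_instance
    exact IsClosedImmersion.of_comp (inclusion hle) J.subschemeι
  haveI : Surjective (inclusion hle) := by
    refine ⟨fun z => ?_⟩
    have hz : J.subschemeι z ∈ Set.range (vanishingIdeal J.support).subschemeι := by
      rw [range_subschemeι, coe_support_vanishingIdeal, ← range_subschemeι]
      exact ⟨z, rfl⟩
    obtain ⟨w, hw⟩ := hz
    refine ⟨w, J.subschemeι.isClosedEmbedding.injective ?_⟩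
    rw [← Scheme.Hom.comp_apply, inclusion_subschemeι]
    exact hw
  haveI := hs
  haveI : IsReduced ↑(J.subschemeι ⁻¹ᵁ W) :=
    Groth.Agent.Lib.Helper22.SmoothRed.isReduced_of_smooth
      ((J.subschemeι ⁻¹ᵁ W).ι ≫ J.subschemeι ≫ h)
  haveI : Surjective (inclusion hle ∣_ (J.subschemeι ⁻¹ᵁ W)) :=
    MorphismProperty.of_isPullback (P := @Surjective)
      (isPullback_morphismRestrict (inclusion hle) (J.subschemeι ⁻¹ᵁ W)).flip inferInstance
  haveI : IsIso (inclusion hle ∣_ (J.subschemeι ⁻¹ᵁ W)) :=
    isIso_of_isClosedImmersion_of_surjective _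
  have e1 : (vanishingIdeal J.support).subschemeι ⁻¹ᵁ W =
      inclusion hle ⁻¹ᵁ (J.subschemeι ⁻¹ᵁ W) := by
    rw [← Scheme.Hom.comp_preimage, inclusion_subschemeι]
  rw [e1]
  have e2 : (inclusion hle ⁻¹ᵁ (J.subschemeι ⁻¹ᵁ W)).ι ≫
      (vanishingIdeal J.support).subschemeι ≫ h =
      (inclusion hle ∣_ (J.subschemeι ⁻¹ᵁ W)) ≫ (J.subschemeι ⁻¹ᵁ W).ι ≫ J.subschemeι ≫ h := by
    rw [← Category.assoc (inclusion hle ∣_ (J.subschemeι ⁻¹ᵁ W)), morphismRestrict_ι,
      Category.assoc, ← Category.assoc (inclusion hle), inclusion_subschemeι]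
  rw [e2]
  infer_instance

open Scheme IdealSheafData in
/-- Over a reduced base, a smooth stratification in the sense of `Good` gives a chain of radical
ideal sheaves, starting with the nilradical, with smooth strata. -/
theorem exists_radical_ideals_of_good {P Y : Scheme.{u}} [IsReduced Y] (h : P ⟶ Y)
    (hg : Good h) :
    ∃ (t : ℕ) (I : Fin (t + 1) → P.IdealSheafData), Monotone I ∧
      I 0 = vanishingIdeal ⊤ ∧ I (Fin.last t) = ⊤ ∧
      ∀ i : Fin t, Smooth (((I i.castSucc).subschemeι ⁻¹ᵁ (I i.succ).support.compl).ι ≫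
        (I i.castSucc).subschemeι ≫ h) := by
  obtain ⟨t, J, hJ1, hJ2, hJ3, -, hJ5⟩ := exists_ideals_of_good h hg
  refine ⟨t, fun i => vanishingIdeal (J i).support, ?_, ?_, ?_, ?_⟩
  · intro i j hij
    exact vanishingIdeal_antimono (support_antitone (hJ1 hij))
  · have e : (J 0).support = ⊤ :=
      TopologicalSpace.Closeds.ext (hJ3.trans TopologicalSpace.Closeds.coe_top.symm)
    change vanishingIdeal (J 0).support = vanishingIdeal ⊤
    rw [e]
  · change vanishingIdeal (J (Fin.last t)).support = ⊤
    rw [hJ2, support_top, vanishingIdeal_bot]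
  · intro i
    change Smooth (((vanishingIdeal (J i.castSucc).support).subschemeι ⁻¹ᵁ
      (vanishingIdeal (J i.succ).support).support.compl).ι ≫
        (vanishingIdeal (J i.castSucc).support).subschemeι ≫ h)
    have e : (vanishingIdeal (J i.succ).support).support = (J i.succ).support :=
      TopologicalSpace.Closeds.ext (coe_support_vanishingIdeal _)
    rw [e]
    exact smooth_vanishingIdeal_stratum h _ _ (hJ5 i)

end Groth.Agent.Lib.Helper12.SmStrat
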