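import Groth.Prelude.Def_W4stktopologysheavesDim
import Mathlib.Topology.Sober
import Mathlib.Topology.Spectral.Basic
import Mathlib.Topology.NoetherianSpace

/-! Helper lemmas on the soberification `PtTop.Sob X`. -/

set_option autoImplicit false
universe u

namespace Groth.Agent.Lib.Helper12

open TopologicalSpace PtTop

variable {X : Type u} [TopologicalSpace X]

/-- The set of irreducible closed subsets meeting `U`. -/
def sobD (U : Set X) : Set (Sob X) :=
  {Z : IrreducibleCloseds X | ((Z : Set X) ∩ U).Nonempty}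

lemma mem_sobD {U : Set X} {Z : Sob X} :
    Z ∈ sobD U ↔ (((show IrreducibleCloseds X from Z) : Set X) ∩ U).Nonempty := Iff.rfl

lemma sobD_mono {U V : Set X} (h : U ⊆ V) : sobD U ⊆ sobD V := by
  intro Z hZ
  obtain ⟨x, hx1, hx2⟩ := hZ
  exact ⟨x, hx1, h hx2⟩

lemma sobD_iUnion {ι : Sort*} (U : ι → Set X) : sobD (⋃ i, U i) = ⋃ i, sobD (U i) := by
  ext Z
  simp only [mem_sobD, Set.mem_iUnion]
  constructor
  · rintro ⟨x, hx1, hx2⟩
    obtain ⟨i, hi⟩ := Set.mem_iUnion.mp hx2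
    exact ⟨i, x, hx1, hi⟩
  · rintro ⟨i, x, hx1, hx2⟩
    exact ⟨x, hx1, Set.mem_iUnion.mpr ⟨i, hx2⟩⟩

lemma sobD_inter {U V : Set X} (hU : IsOpen U) (hV : IsOpen V) :
    sobD (U ∩ V) = sobD U ∩ sobD V := by
  ext Z
  constructor
  · rintro ⟨x, hx1, hx2, hx3⟩
    exact ⟨⟨x, hx1, hx2⟩, ⟨x, hx1, hx3⟩⟩
  · rintro ⟨h1, h2⟩
    have hZ : IsIrreducible ((show IrreducibleCloseds X from Z) : Set X) :=
      (show IrreducibleCloseds X from Z).isIrreducible
    exact hZ.2 U V hU hV h1 h2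

lemma sobD_univ : sobD (Set.univ : Set X) = Set.univ := by
  ext Z
  simp only [mem_sobD, Set.inter_univ, Set.mem_univ, iff_true]
  exact (show IrreducibleCloseds X from Z).isIrreducible.nonempty

lemma isOpen_sobD {U : Set X} (hU : IsOpen U) : IsOpen (sobD U) :=
  TopologicalSpace.GenerateOpen.basic _ ⟨⟨U, hU⟩, rfl⟩

lemma preimage_sobD {U : Set X} (hU : IsOpen U) : toSob X ⁻¹' (sobD U) = U := by
  ext x
  simp only [Set.mem_preimage, mem_sobD]
  constructor
  · rintro ⟨y, hy1, hy2⟩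
    have hy1' : y ∈ closure ({x} : Set X) := hy1
    by_contra hx
    have : closure ({x} : Set X) ⊆ Uᶜ :=
      closure_minimal (by simpa using hx) hU.isClosed_compl
    exact this hy1' hy2
  · intro hx
    exact ⟨x, subset_closure (Set.mem_singleton x), hx⟩

/-- Every open subset of the soberification is `sobD` of an open subset of `X`. -/
lemma exists_eq_sobD_of_isOpen {S : Set (Sob X)} (hS : IsOpen S) :
    ∃ U : Set X, IsOpen U ∧ S = sobD U := by
  induction hS with
  | basic s hs =>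
    obtain ⟨U, rfl⟩ := hs
    exact ⟨U, U.2, rfl⟩
  | univ => exact ⟨Set.univ, isOpen_univ, sobD_univ.symm⟩
  | inter s t _ _ ihs iht =>
    obtain ⟨U, hU, rfl⟩ := ihs
    obtain ⟨V, hV, rfl⟩ := iht
    exact ⟨U ∩ V, hU.inter hV, (sobD_inter hU hV).symm⟩
  | sUnion 𝒮 _ ih =>
    choose U hU hSU using ih
    refine ⟨⋃ (s : Set (Sob X)) (hs : s ∈ 𝒮), U s hs,
      isOpen_iUnion fun s => isOpen_iUnion fun hs => hU s hs, ?_⟩
    rw [sobD_iUnion]
    simp_rw [sobD_iUnion]
    ext Z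
    simp only [Set.mem_sUnion, Set.mem_iUnion]
    constructor
    · rintro ⟨s, hs, hZ⟩
      exact ⟨s, hs, (hSU s hs) ▸ hZ⟩
    · rintro ⟨s, hs, hZ⟩
      exact ⟨s, hs, (hSU s hs).symm ▸ hZ⟩

lemma continuous_toSob : Continuous (toSob X) := by
  refine ⟨fun S hS => ?_⟩
  obtain ⟨U, hU, rfl⟩ := exists_eq_sobD_of_isOpen hS
  rw [preimage_sobD hU]
  exact hU

lemma eq_sobD_preimage {S : Set (Sob X)} (hS : IsOpen S) : S = sobD (toSob X ⁻¹' S) := by
  obtain ⟨U, hU, rfl⟩ := exists_eq_sobD_of_isOpen hS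
  rw [preimage_sobD hU]

lemma sobD_subset_sobD_iff {U V : Set X} (hU : IsOpen U) (hV : IsOpen V) :
    sobD U ⊆ sobD V ↔ U ⊆ V := by
  refine ⟨fun h => ?_, sobD_mono⟩
  rw [← preimage_sobD hU, ← preimage_sobD hV]
  exact Set.preimage_mono h

/-- Specialization in the soberification is reverse inclusion. -/
lemma sob_specializes_iff {Z Z' : Sob X} :
    Z' ⤳ Z ↔ (show IrreducibleCloseds X from Z) ≤ (show IrreducibleCloseds X from Z') := by
  rw [specializes_iff_forall_open]
  constructor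
  · intro h
    by_contra hle
    have hne : (((show IrreducibleCloseds X from Z) : Set X) ∩
        ((show IrreducibleCloseds X from Z') : Set X)ᶜ).Nonempty := by
      by_contra hemp
      apply hle
      intro x hx
      by_contra hx'
      exact hemp ⟨x, hx, hx'⟩
    have := h (sobD ((show IrreducibleCloseds X from Z') : Set X)ᶜ)
      (isOpen_sobD (show IrreducibleCloseds X from Z').isClosed.isOpen_compl) hne
    obtain ⟨x, hx1, hx2⟩ := this
    exact hx2 hx1
  · intro hle S hS hZ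
    obtain ⟨U, hU, rfl⟩ := exists_eq_sobD_of_isOpen hS
    obtain ⟨x, hx1, hx2⟩ := hZ
    exact ⟨x, hle hx1, hx2⟩

instance t0Space_sob : T0Space (Sob X) := by
  refine ⟨fun Z Z' h => ?_⟩
  have h1 := sob_specializes_iff.mp h.specializes
  have h2 := sob_specializes_iff.mp h.specializes'
  exact le_antisymm (α := IrreducibleCloseds X) h2 h1

instance quasiSober_sob : QuasiSober (Sob X) := by
  refine ⟨fun {T} hT hTc => ?_⟩
  -- the closed subset of `X` which is the closure of the union of the members of `T`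
  let C : Set X := closure (⋃ Z ∈ T, ((show IrreducibleCloseds X from Z) : Set X))
  have hCirr : IsIrreducible C := by
    refine IsIrreducible.closure ⟨?_, ?_⟩
    · obtain ⟨Z, hZ⟩ := hT.nonempty
      obtain ⟨x, hx⟩ := (show IrreducibleCloseds X from Z).isIrreducible.nonempty
      exact ⟨x, Set.mem_biUnion hZ hx⟩
    · intro U V hU hV hU' hV'
      obtain ⟨x, hx1, hx2⟩ := hU'
      obtain ⟨y, hy1, hy2⟩ := hV'
      simp only [Set.mem_iUnion] at hx1 hy1
      obtain ⟨Z1, hZ1, hxZ1⟩ := hx1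
      obtain ⟨Z2, hZ2, hyZ2⟩ := hy1
      obtain ⟨Z, hZT, hZU, hZV⟩ := hT.2 (sobD U) (sobD V) (isOpen_sobD hU) (isOpen_sobD hV)
        ⟨Z1, hZ1, x, hxZ1, hx2⟩ ⟨Z2, hZ2, y, hyZ2, hy2⟩
      have hZUV : Z ∈ sobD (U ∩ V) := by rw [sobD_inter hU hV]; exact ⟨hZU, hZV⟩
      obtain ⟨z, hz1, hz2⟩ := hZUV
      exact ⟨z, Set.mem_biUnion hZT hz1, hz2⟩
  let ξ : Sob X := (⟨C, hCirr, isClosed_closure⟩ : IrreducibleCloseds X)
  refine ⟨ξ, ?_⟩
  -- `closure {ξ} = T`
  have hmemT : ∀ Z ∈ T, ξ ⤳ Z := by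
    intro Z hZ
    rw [sob_specializes_iff]
    intro x hx
    exact subset_closure (Set.mem_biUnion hZ hx)
  have hξT : ξ ∈ T := by
    by_contra hξ
    -- `Tᶜ` is open, equal to `sobD U`
    obtain ⟨U, hU, hTU⟩ := exists_eq_sobD_of_isOpen hTc.isOpen_compl
    have : ξ ∈ sobD U := by rw [← hTU]; exact hξ
    obtain ⟨x, hx1, hx2⟩ := this
    -- `x ∈ C ∩ U`, so `U` meets the union
    have hx1' : x ∈ C := hx1
    obtain ⟨y, hy1, hy2⟩ := mem_closure_iff.mp hx1' U hU hx2
    simp only [Set.mem_iUnion] at hy2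
    obtain ⟨Z, hZ, hyZ⟩ := hy2
    have : Z ∈ sobD U := ⟨y, hyZ, hy1⟩
    rw [← hTU] at this
    exact this hZ
  show closure {ξ} = T
  apply le_antisymm
  · exact closure_minimal (Set.singleton_subset_iff.mpr hξT) hTc
  · intro Z hZ
    exact (hmemT Z hZ).mem_closure

/-- Compactness of `sobD U` is equivalent to compactness of `U`. -/
lemma isCompact_sobD_iff {U : Set X} (hU : IsOpen U) : IsCompact (sobD U) ↔ IsCompact U := by
  constructor
  · intro h
    rw [isCompact_iff_finite_subcover]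
    intro ι V hV hUV
    have h1 : sobD U ⊆ ⋃ i, sobD (V i) := by
      rw [← sobD_iUnion]; exact sobD_mono hUV
    obtain ⟨t, ht⟩ := h.elim_finite_subcover (fun i => sobD (V i)) (fun i => isOpen_sobD (hV i)) h1
    refine ⟨t, ?_⟩
    have : sobD U ⊆ sobD (⋃ i ∈ t, V i) := by
      rw [sobD_iUnion]; simp_rw [sobD_iUnion]; exact ht
    exact (sobD_subset_sobD_iff hU (isOpen_biUnion fun i _ => hV i)).mp this
  · intro h
    rw [isCompact_iff_finite_subcover]
    intro ι S hS hUS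
    have hS' : ∀ i, S i = sobD (toSob X ⁻¹' S i) := fun i => eq_sobD_preimage (hS i)
    have hop : ∀ i, IsOpen (toSob X ⁻¹' S i) := fun i => (hS i).preimage continuous_toSob
    have h1 : U ⊆ ⋃ i, toSob X ⁻¹' S i := by
      rw [← sobD_subset_sobD_iff hU (isOpen_iUnion hop), sobD_iUnion]
      refine hUS.trans (Set.iUnion_mono fun i => ?_)
      rw [← hS' i]
    obtain ⟨t, ht⟩ := h.elim_finite_subcover _ hop h1
    refine ⟨t, ?_⟩
    have := sobD_mono ht
    rw [sobD_iUnion] at this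
    simp_rw [sobD_iUnion] at this
    refine this.trans (Set.iUnion_mono fun i => Set.iUnion_mono fun _ => ?_)
    rw [← hS' i]

lemma compactSpace_sob [CompactSpace X] : CompactSpace (Sob X) := by
  refine ⟨?_⟩
  rw [← sobD_univ, isCompact_sobD_iff isOpen_univ]
  exact isCompact_univ

lemma quasiSeparatedSpace_sob [QuasiSeparatedSpace X] : QuasiSeparatedSpace (Sob X) := by
  refine ⟨fun S T hS hSc hT hTc => ?_⟩
  obtain ⟨U, hU, rfl⟩ := exists_eq_sobD_of_isOpen hS
  obtain ⟨V, hV, rfl⟩ := exists_eq_sobD_of_isOpen hT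
  rw [← sobD_inter hU hV, isCompact_sobD_iff (hU.inter hV)]
  rw [isCompact_sobD_iff hU] at hSc
  rw [isCompact_sobD_iff hV] at hTc
  exact QuasiSeparatedSpace.inter_isCompact U V hU hSc hV hTc

lemma prespectralSpace_sob [PrespectralSpace X] : PrespectralSpace (Sob X) := by
  refine PrespectralSpace.of_isTopologicalBasis
    (B := {S | ∃ U : Set X, IsOpen U ∧ IsCompact U ∧ S = sobD U}) ?_ ?_
  · refine TopologicalSpace.isTopologicalBasis_of_isOpen_of_nhds ?_ ?_
    · rintro S ⟨U, hU, -, rfl⟩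
      exact isOpen_sobD hU
    · intro Z S hZ hS
      obtain ⟨U, hU, rfl⟩ := exists_eq_sobD_of_isOpen hS
      obtain ⟨x, hx1, hx2⟩ := hZ
      obtain ⟨W, ⟨hW1, hW2⟩, hxW, hWU⟩ :=
        PrespectralSpace.isTopologicalBasis.exists_subset_of_mem_open hx2 hU
      exact ⟨sobD W, ⟨W, hW1, hW2, rfl⟩, ⟨x, hx1, hxW⟩, sobD_mono hWU⟩
  · rintro S ⟨U, hU, hUc, rfl⟩
    exact (isCompact_sobD_iff hU).mpr hUc

lemma noetherianSpace_sob [NoetherianSpace X] : NoetherianSpace (Sob X) := by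
  rw [TopologicalSpace.noetherianSpace_iff_opens]
  intro S
  have := eq_sobD_preimage S.2
  show IsCompact S.carrier
  rw [this, isCompact_sobD_iff (S.2.preimage continuous_toSob)]
  exact NoetherianSpace.isCompact _

end Groth.Agent.Lib.Helper12
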