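import Mathlib
import Groth.Agent.Lib.Helper3.Reduced
import Groth.Agent.Lib.Helper12.SpreadIso

/-!
# A proper morphism, flat over a DVR and generically an isomorphism, is an isomorphism near normal
codimension one points (helper12)
-/

set_option autoImplicit false
universe u

open AlgebraicGeometry CategoryTheory Limits TopologicalSpace

namespace Groth.Agent.Lib.Helper12.SpreadIsoDvr

/-- transfer of a base-change-stable property from a restriction to a base change -/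
theorem of_isPullback_of_range_subset (P : MorphismProperty Scheme.{u}) [P.IsStableUnderBaseChange]
    {X' X₁ Y' Y₁ : Scheme.{u}} {b : X' ⟶ X₁} {h : X' ⟶ Y'} {h₁ : X₁ ⟶ Y₁} {j : Y' ⟶ Y₁}
    (sq : IsPullback b h h₁ j) (U : Y₁.Opens) (hU : P (h₁ ∣_ U)) (hj : ∀ y, j y ∈ U) : P h := by
  have hrange : Set.range j ⊆ Set.range U.ι := by
    rintro _ ⟨y, rfl⟩
    rw [Scheme.Opens.range_ι]
    exact hj y
  let j' : Y' ⟶ U.toScheme := IsOpenImmersion.lift U.ι j hrange
  have hj' : j' ≫ U.ι = j := IsOpenImmersion.lift_fac U.ι j hrange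
  have sqU : IsPullback (h₁ ⁻¹ᵁ U).ι (h₁ ∣_ U) h₁ U.ι := (isPullback_morphismRestrict h₁ U).flip
  have w : b ≫ h₁ = (h ≫ j') ≫ U.ι := by rw [Category.assoc, hj', sq.w]
  have sq' : IsPullback (sqU.lift b (h ≫ j') w) h (h₁ ∣_ U) j' := by
    refine IsPullback.of_right ?_ (sqU.lift_snd _ _ _) sqU
    rw [sqU.lift_fst, hj']
    exact sq
  exact MorphismProperty.of_isPullback sq' hU

set_option maxHeartbeats 1600000 in
theorem isIso_over_stalk (R : Type u) [CommRing R] [IsDomain R]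
    {C Z : Scheme.{u}} (πC : C ⟶ Spec (CommRingCat.of R)) [Flat πC]
    [IsLocallyNoetherian C] (p : Z ⟶ C) [IsProper p]
    [Flat (p ≫ πC)] (ϖ : R) (hϖ : ϖ ≠ 0)
    (hgen : IsIso (p ∣_ (πC ⁻¹ᵁ (PrimeSpectrum.basicOpen ϖ))))
    (c : C) (hdom : IsDomain (C.presheaf.stalk c)) (hnorm : IsIntegrallyClosed (C.presheaf.stalk c))
    (hdim : ringKrullDim (C.presheaf.stalk c) = 1) :
    IsIso (pullback.snd p (C.fromSpecStalk c)) := by
  classical
  let O := C.presheaf.stalk c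
  let k : Spec O ⟶ C := C.fromSpecStalk c
  haveI : Flat k := Groth.Agent.Lib.Helper3.flat_fromSpecStalk C c
  haveI : IsDomain O := hdom
  haveI : IsNoetherianRing O := inferInstance
  haveI : Ring.KrullDimLE 1 O := Ring.krullDimLE_iff.2 (le_of_eq hdim)
  have hmax := Ring.krullDimLE_one_iff_of_noZeroDivisors.1 (inferInstance : Ring.KrullDimLE 1 O)
  have htfae : (IsIntegrallyClosed O ∧ ∀ P : Ideal O, P ≠ ⊥ → P.IsPrime →
      P = IsLocalRing.maximalIdeal O) ↔ ValuationRing O :=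
    (tfae_of_isNoetherianRing_of_isLocalRing_of_isDomain O).out 3 1
  haveI hval : ValuationRing O :=
    htfae.1 ⟨hnorm, fun P hP hP' => IsLocalRing.eq_maximalIdeal (hmax P hP hP')⟩
  let DR : (Spec (CommRingCat.of R)).Opens := PrimeSpectrum.basicOpen ϖ
  let U : C.Opens := πC ⁻¹ᵁ DR
  obtain ⟨θ, hθ⟩ : ∃ θ : CommRingCat.of R ⟶ O, Spec.map θ = k ≫ πC := ⟨_, Spec.map_preimage _⟩
  haveI : Flat (Spec.map θ) := by rw [hθ]; infer_instance
  have hθflat : θ.hom.Flat := Flat.SpecMap_iff.1 inferInstance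
  have hθϖ : θ.hom ϖ ≠ 0 := by
    letI := θ.hom.toAlgebra
    haveI : Module.Flat R O := hθflat
    have hreg : IsSMulRegular O (algebraMap R O ϖ) :=
      IsSMulRegular.of_flat (isRegular_of_ne_zero hϖ).left.isSMulRegular
    intro h0
    have h0' : algebraMap R O ϖ = 0 := h0
    have : (algebraMap R O ϖ) • (1 : O) = (algebraMap R O ϖ) • (0 : O) := by
      rw [h0']; simp
    exact one_ne_zero (hreg this)
  let K := FractionRing O
  let m : Spec (.of K) ⟶ Spec O := Spec.map (CommRingCat.ofHom (algebraMap O K))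
  have hjU : ∀ t, (m ≫ k) t ∈ U := by
    intro t
    show πC ((m ≫ k) t) ∈ DR
    have h1 : πC ((m ≫ k) t) = (m ≫ Spec.map θ) t := by
      rw [hθ]; rfl
    rw [h1, ← Spec.map_comp]
    show ϖ ∉ Ideal.comap (θ ≫ CommRingCat.ofHom (algebraMap O K)).hom t.asIdeal
    intro hmem
    have hmem' : algebraMap O K (θ.hom ϖ) ∈ t.asIdeal := hmem
    have hne : algebraMap O K (θ.hom ϖ) ≠ 0 := by
      intro h0
      exact hθϖ (IsFractionRing.injective O K (by rw [h0, map_zero]))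
    exact t.2.ne_top (Ideal.eq_top_of_isUnit_mem _ hmem' (IsUnit.mk0 _ hne))
  have hrange : Set.range (m ≫ k) ⊆ Set.range U.ι := by
    rintro _ ⟨t, rfl⟩
    rw [Scheme.Opens.range_ι]
    exact hjU t
  let j' : Spec (.of K) ⟶ U.toScheme := IsOpenImmersion.lift U.ι (m ≫ k) hrange
  have hj' : j' ≫ U.ι = m ≫ k := IsOpenImmersion.lift_fac U.ι (m ≫ k) hrange
  haveI := hgen
  let i₁ : Spec (.of K) ⟶ Z := j' ≫ inv (p ∣_ U) ≫ (p ⁻¹ᵁ U).ι
  have hi₁ : i₁ ≫ p = m ≫ k := by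
    simp only [i₁, Category.assoc]
    rw [← morphismRestrict_ι p U, IsIso.inv_hom_id_assoc, hj']
  have hex : ValuativeCriterion.Existence p := by
    have h1 : UniversallyClosed p := inferInstance
    rw [UniversallyClosed.eq_valuativeCriterion] at h1
    exact h1.1
  let k' : Spec (CommRingCat.of O) ⟶ C := k
  let S : ValuativeCommSq p := { R := O, K := K, i₁ := i₁, i₂ := k', commSq := ⟨hi₁⟩ }
  obtain ⟨⟨σ₀, hσ1, hσ2⟩⟩ := (hex S).exists_lift
  let σ : Spec O ⟶ Z := σ₀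
  have hσ2' : σ ≫ p = k := hσ2
  let Z' := pullback p k
  let p' : Z' ⟶ Spec O := pullback.snd p k
  let s : Spec O ⟶ Z' := pullback.lift σ (𝟙 _) (by rw [hσ2', Category.id_comp])
  have hs : s ≫ p' = 𝟙 _ := pullback.lift_snd _ _ _
  haveI : IsIso (s ≫ p') := by rw [hs]; infer_instance
  haveI : IsClosedImmersion s := IsClosedImmersion.of_comp s p'
  suffices IsIso s by
    have h1 : p' = inv s := by rw [← cancel_epi s, hs, IsIso.hom_inv_id]
    show IsIso p'
    rw [h1]; infer_instance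
  rw [IsClosedImmersion.isIso_iff_ker_eq_bot, ← le_bot_iff]
  let D : (Spec O).Opens := (Spec.map θ) ⁻¹ᵁ DR
  let U' : Z'.Opens := p' ⁻¹ᵁ D
  have hDaff : IsAffineOpen D := (IsAffineOpen.Spec_basicOpen (R := CommRingCat.of R) ϖ).preimage (Spec.map θ)
  have hisoD : IsIso (p' ∣_ D) := by
    have sq : IsPullback ((p' ⁻¹ᵁ D).ι ≫ pullback.fst p k) (p' ∣_ D) p (D.ι ≫ k) :=
      (isPullback_morphismRestrict p' D).flip.paste_horiz (IsPullback.of_hasPullback p k)
    refine of_isPullback_of_range_subset (MorphismProperty.isomorphisms Scheme) sq U hgen ?_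
    intro y
    show πC ((D.ι ≫ k) y) ∈ DR
    have h1 : πC ((D.ι ≫ k) y) = (Spec.map θ) (D.ι y) := by
      rw [hθ]; rfl
    rw [h1]
    exact y.2
  haveI := hisoD
  haveI : IsIso (s ∣_ U') := by
    have h1 : IsIso ((s ≫ p') ∣_ D) := inferInstance
    rw [morphismRestrict_comp] at h1
    exact @IsIso.of_isIso_comp_right _ _ _ _ _ (s ∣_ U') (p' ∣_ D) hisoD h1
  have hfac : U'.ι = (inv (s ∣_ U') ≫ (s ⁻¹ᵁ U').ι) ≫ s := by
    rw [Category.assoc, ← morphismRestrict_ι, IsIso.inv_hom_id_assoc]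
  have hle : s.ker ≤ U'.ι.ker := by
    rw [hfac]
    exact Scheme.Hom.le_ker_comp _ _
  refine hle.trans ?_
  haveI : IsAffine D.toScheme := hDaff
  haveI : IsAffineHom D.ι := inferInstance
  haveI : IsAffineHom U'.ι :=
    MorphismProperty.of_isPullback (P := @IsAffineHom) (isPullback_morphismRestrict p' D).flip.flip
      inferInstance
  haveI : QuasiCompact U'.ι := inferInstance
  -- the flat structure map to `Spec R`
  let q : Z' ⟶ Spec (CommRingCat.of R) := p' ≫ Spec.map θ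
  have hq : q = pullback.fst p k ≫ (p ≫ πC) := by
    show p' ≫ Spec.map θ = _
    rw [hθ, ← Category.assoc, ← pullback.condition, Category.assoc]
  haveI : Flat q := by rw [hq]; infer_instance
  let ϖ₀ : Γ(Spec (CommRingCat.of R), ⊤) := (Scheme.ΓSpecIso (CommRingCat.of R)).inv ϖ
  haveI : IsDomain Γ(Spec (CommRingCat.of R), ⊤) :=
    (Scheme.ΓSpecIso (CommRingCat.of R)).commRingCatIsoToRingEquiv.toMulEquiv.isDomain
  have hϖ₀ : ϖ₀ ≠ 0 := by
    intro h0
    apply hϖ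
    have := congrArg (Scheme.ΓSpecIso (CommRingCat.of R)).hom h0
    simpa [ϖ₀] using this
  rw [le_bot_iff]
  apply Scheme.IdealSheafData.ext
  funext W
  rw [Scheme.Hom.ker_apply, Scheme.IdealSheafData.ideal_bot, Pi.bot_apply,
    ← RingHom.injective_iff_ker_eq_bot, injective_iff_map_eq_zero]
  intro b hb
  obtain ⟨W, hW⟩ := W
  let φW := q.appLE ⊤ W le_top
  have hφflat : φW.hom.Flat := q.flat_appLE (isAffineOpen_top _) hW le_top
  letI := φW.hom.toAlgebra
  haveI : Module.Flat Γ(Spec (CommRingCat.of R), ⊤) Γ(Z', W) := hφflat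
  have hreg : IsSMulRegular Γ(Z', W) (φW.hom ϖ₀) :=
    IsSMulRegular.of_flat (isRegular_of_ne_zero hϖ₀).left.isSMulRegular
  have hbo : Z'.basicOpen (φW.hom ϖ₀) = W ⊓ q ⁻¹ᵁ DR := by
    rw [Scheme.basicOpen_appLE q W ⊤ le_top ϖ₀, basicOpen_eq_of_affine]
  have hle' : Z'.basicOpen (φW.hom ϖ₀) ≤ U'.ι ''ᵁ U'.ι ⁻¹ᵁ W := by
    rw [hbo, Scheme.Hom.image_preimage_eq_opensRange_inf, Scheme.Opens.opensRange_ι]
    intro x hx
    exact ⟨hx.2, hx.1⟩
  have h₁ : U'.ι ''ᵁ U'.ι ⁻¹ᵁ W ≤ W := by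
    rw [Scheme.Hom.image_preimage_eq_opensRange_inf]; exact inf_le_right
  have hb' : Z'.presheaf.map (homOfLE h₁).op b = 0 := hb
  have hres : Z'.presheaf.map (homOfLE (Z'.basicOpen_le (φW.hom ϖ₀))).op b = 0 := by
    have e : (homOfLE (Z'.basicOpen_le (φW.hom ϖ₀))).op = (homOfLE h₁).op ≫ (homOfLE hle').op :=
      rfl
    rw [e, Functor.map_comp, ConcreteCategory.comp_apply, hb', map_zero]
  obtain ⟨n, hn⟩ := exists_pow_mul_eq_zero_of_res_basicOpen_eq_zero_of_isAffineOpen Z' hW b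
    (φW.hom ϖ₀) hres
  have hregn : IsSMulRegular Γ(Z', W) (φW.hom ϖ₀ ^ n) := hreg.pow n
  apply hregn
  show φW.hom ϖ₀ ^ n • b = φW.hom ϖ₀ ^ n • 0
  rw [smul_eq_mul, hn, smul_zero]

end Groth.Agent.Lib.Helper12.SpreadIsoDvr
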