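import Mathlib
import Groth.Agent.Lib.Helper12.LimSubtr
import Groth.Agent.Lib.Lead.Spectral

/-!
# S-subtrusive morphisms out of a cofiltered limit of affine schemes

If `X = lim X_i` (affine schemes) maps compatibly to `Z` and every `X_i ⟶ Z` lifts ordered pairs of
points, so does `X ⟶ Z`.
-/

universe u

open CategoryTheory Limits AlgebraicGeometry TopologicalSpace Opposite Topology

set_option backward.isDefEq.respectTransparency false
set_option linter.style.haveILetI false

namespace Groth.Agent.Lib.Helper12.SrcLimSubtr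

open Groth.Agent.Lib.Helper26.ProConsTop Groth.Agent.Lib.Helper26.ProConsSch
open Groth.Agent.Lib.Helper12.LimProCons Groth.Agent.Lib.Helper12.LimSubtr

/-- In an affine scheme, subsets closed for the constructible topology are pro-constructible. -/
lemma isProConstructible_of_isClosed_cons {X : Scheme.{u}} [IsAffine X] {E : Set X}
    (hE : IsClosed[constructibleTopology X] E) : ProCons.IsProConstructible E := by
  apply isProConstructible_of_isOpenEmbedding
  intro x
  exact ⟨X, inferInstance, id, IsOpenEmbedding.id, ⟨x, rfl⟩, inferInstance, inferInstance, hE⟩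

/-- Closed subsets of an affine scheme are pro-constructible. -/
lemma isProConstructible_of_isClosed {X : Scheme.{u}} [IsAffine X] {E : Set X}
    (hE : IsClosed E) : ProCons.IsProConstructible E :=
  isProConstructible_of_isClosed_cons
    (Groth.Agent.Lib.Lead.isClosed_constructibleTopology_of_isClosed hE)

/-- The set of generizations of a point of an affine scheme is pro-constructible. -/
lemma isProConstructible_generizations {X : Scheme.{u}} [IsAffine X] (w : X) :
    ProCons.IsProConstructible {x : X | x ⤳ w} := by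
  apply isProConstructible_of_isClosed_cons
  have : {x : X | x ⤳ w} = ⋂₀ {U : Set X | (IsOpen U ∧ IsCompact U) ∧ w ∈ U} := by
    ext x
    simp only [Set.mem_setOf_eq, Set.mem_sInter, and_imp]
    constructor
    · intro h U hUo _ hw
      exact h.mem_open hUo hw
    · intro h
      rw [specializes_iff_forall_open]
      intro U hU hwU
      obtain ⟨W, hW, hwW, hWU⟩ :=
        (PrespectralSpace.isTopologicalBasis (X := X)).exists_subset_of_mem_open hwU hU
      exact hWU (h W hW.1 hW.2 hwW)
  rw [this]
  refine @isClosed_sInter X (constructibleTopology X) _ ?_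
  rintro U ⟨⟨hUo, hUc⟩, -⟩
  exact Groth.Agent.Lib.Lead.isClosed_constructibleTopology_of_isOpen_isCompact hUo hUc

variable {I : Type u} [SmallCategory I] [IsCofiltered I] (D : I ⥤ Scheme.{u}) (c : Cone D)
  (hc : IsLimit c) [∀ i, IsAffine (D.obj i)]

include hc in
/-- A cofiltered limit of affine schemes mapping compatibly to `Z`: if all stages lift ordered
pairs of points of `Z`, so does the limit. -/
theorem isSSubtrusive_of_isLimit {Z : Scheme.{u}} (p : ∀ i, D.obj i ⟶ Z)
    (hp : ∀ {i j : I} (a : i ⟶ j), D.map a ≫ p j = p i)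
    (h : ∀ i, Subtr.IsSSubtrusive (p i)) (q : c.pt ⟶ Z) (hq : ∀ i, c.π.app i ≫ p i = q) :
    Subtr.IsSSubtrusive q := by
  classical
  haveI hAff : ∀ (i j : I) (f : i ⟶ j), IsAffineHom (D.map f) := fun i j f => inferInstance
  have hpa : ∀ {i j : I} (a : i ⟶ j) (x : D.obj i), p j (D.map a x) = p i x := by
    intro i j a x
    rw [← Scheme.Hom.comp_apply, hp a]
  intro z z' hzz'
  -- Step 1: the special point
  let G : ∀ i, Set (D.obj i) := fun i => ⇑(p i) ⁻¹' {z} ∩ closure (⇑(p i) ⁻¹' {z'})
  have hG : ∀ i, ProCons.IsProConstructible (G i) := fun i =>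
    isProConstructible_inter (isProConstructible_preimage (p i) (isProConstructible_singleton z))
      (isProConstructible_of_isClosed isClosed_closure)
  have hGne : ∀ i, (G i).Nonempty := by
    intro i
    obtain ⟨x, x', hxx', hx, hx'⟩ := h i hzz'
    refine ⟨x, hx, ?_⟩
    have : x ∈ closure ({x'} : Set (D.obj i)) := hxx'.mem_closure
    have hsub : ({x'} : Set (D.obj i)) ⊆ ⇑(p i) ⁻¹' {z'} := by
      intro y hy
      rw [Set.mem_singleton_iff] at hy
      rw [hy]; exact hx'
    exact closure_mono hsub this
  have hGc : ∀ {i j : I} (a : i ⟶ j), Set.MapsTo (D.map a) (G i) (G j) := by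
    intro i j a x hx
    refine ⟨?_, ?_⟩
    · show p j (D.map a x) = z
      rw [hpa]; exact hx.1
    · have h1 : Set.MapsTo (D.map a) (⇑(p i) ⁻¹' {z'}) (⇑(p j) ⁻¹' {z'}) := by
        intro y hy
        show p j (D.map a y) = z'
        rw [hpa]; exact hy
      exact h1.closure (D.map a).continuous hx.2
  obtain ⟨w, hw⟩ := exists_point_of_proConstructible D c hc G hG hGne hGc
  -- Step 2: the generic point
  let H : ∀ i, Set (D.obj i) := fun i => ⇑(p i) ⁻¹' {z'} ∩ {x | x ⤳ c.π.app i w}
  have hH : ∀ i, ProCons.IsProConstructible (H i) := fun i =>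
    isProConstructible_inter (isProConstructible_preimage (p i) (isProConstructible_singleton z'))
      (isProConstructible_generizations _)
  have hHne : ∀ i, (H i).Nonempty := by
    intro i
    obtain ⟨x, hx, hxw⟩ := exists_specializes_of_mem_closure
      (isProConstructible_preimage (p i) (isProConstructible_singleton z')) (hw i).2
    exact ⟨x, hx, hxw⟩
  have hHc : ∀ {i j : I} (a : i ⟶ j), Set.MapsTo (D.map a) (H i) (H j) := by
    intro i j a x hx
    refine ⟨?_, ?_⟩
    · show p j (D.map a x) = z'
      rw [hpa]; exact hx.1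
    · show D.map a x ⤳ c.π.app j w
      rw [← Groth.Agent.Lib.Helper12.LimTop.map_π_apply D c a w]
      exact hx.2.map (D.map a).continuous
  obtain ⟨w', hw'⟩ := exists_point_of_proConstructible D c hc H hH hHne hHc
  obtain ⟨i₀⟩ : Nonempty I := IsCofiltered.nonempty
  refine ⟨w, w', ?_, ?_, ?_⟩
  · rw [specializes_iff_forall_open]
    intro U hU hwU
    obtain ⟨i, O, hwO, hOU⟩ :=
      Groth.Agent.Lib.Helper12.LimTop.exists_preimage_subset_of_isOpen D c hc hU hwU
    exact hOU ((hw' i).2.mem_open O.2 hwO)
  · rw [← hq i₀, Scheme.Hom.comp_apply]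
    exact (hw i₀).1
  · rw [← hq i₀, Scheme.Hom.comp_apply]
    exact (hw' i₀).1

end Groth.Agent.Lib.Helper12.SrcLimSubtr
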