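import Mathlib

/-!
# Helper library (helper12): separatedness can be checked after base change to the local rings of
the target (P2 for helper27 / S4825)
-/

set_option autoImplicit false
universe u
open CategoryTheory CategoryTheory.Limits AlgebraicGeometry

namespace Groth.Agent.Lib.Helper12.StalkFac2

theorem isSeparated_of_forall_stalk {X Y : Scheme.{u}} (f : X ⟶ Y) [QuasiSeparated f]
    (H : ∀ y : Y, IsSeparated (pullback.snd f (Y.fromSpecStalk y))) : IsSeparated f := by
  refine IsSeparated.of_valuativeCriterion f fun S => ⟨fun L₁ L₂ => ?_⟩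
  let y : Y := S.i₂ (IsLocalRing.closedPoint S.R)
  let s : Spec (.of S.R) ⟶ Spec (Y.presheaf.stalk y) :=
    Spec.map (Scheme.stalkClosedPointTo S.i₂)
  have hs : s ≫ Y.fromSpecStalk y = S.i₂ := Scheme.Spec_stalkClosedPointTo_fromSpecStalk S.i₂
  haveI := H y
  let ι : Spec (.of S.K) ⟶ Spec (.of S.R) := Spec.map (CommRingCat.ofHom (algebraMap S.R S.K))
  have hm : ∀ L : S.commSq.LiftStruct, L.l ≫ f = s ≫ Y.fromSpecStalk y := fun L =>
    L.fac_right.trans hs.symm
  let m : S.commSq.LiftStruct → (Spec (.of S.R) ⟶ pullback f (Y.fromSpecStalk y)) := fun L =>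
    pullback.lift L.l s (hm L)
  have hm₁ : ∀ L, m L ≫ pullback.fst f (Y.fromSpecStalk y) = L.l := fun L =>
    pullback.lift_fst _ _ _
  have hm₂ : ∀ L, m L ≫ pullback.snd f (Y.fromSpecStalk y) = s := fun L =>
    pullback.lift_snd _ _ _
  have hsq : CommSq (ι ≫ m L₁) ι (pullback.snd f (Y.fromSpecStalk y)) s :=
    ⟨by rw [Category.assoc, hm₂]⟩
  let S' : ValuativeCommSq (pullback.snd f (Y.fromSpecStalk y)) :=
    { R := S.R, K := S.K, i₁ := ι ≫ m L₁, i₂ := s, commSq := hsq }
  have hsub := IsSeparated.valuativeCriterion (pullback.snd f (Y.fromSpecStalk y)) S'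
  have h12 : ι ≫ m L₂ = ι ≫ m L₁ := by
    apply pullback.hom_ext
    · rw [Category.assoc, Category.assoc, hm₁, hm₁]
      exact L₂.fac_left.trans L₁.fac_left.symm
    · rw [Category.assoc, Category.assoc, hm₂, hm₂]
  have h := hsub.elim ⟨m L₁, rfl, hm₂ L₁⟩ ⟨m L₂, h12, hm₂ L₂⟩
  have hl : m L₁ = m L₂ := congrArg CommSq.LiftStruct.l h
  have h' := congrArg (fun φ => φ ≫ pullback.fst f (Y.fromSpecStalk y)) hl
  simp only [hm₁] at h'
  cases L₁
  cases L₂
  cases h'
  rfl

end Groth.Agent.Lib.Helper12.StalkFac2
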