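import Mathlib
import Groth.Agent.Lib.Helper12.SubtrNoeth

universe u

open CategoryTheory Limits AlgebraicGeometry TopologicalSpace Opposite Topology

set_option backward.isDefEq.respectTransparency false
set_option linter.style.haveILetI false

namespace Groth.Agent.Lib.Helper12.SubtrDvr

/-- The DVR lifting condition. -/
def DvrLift {X Y : Scheme.{u}} (f : X ⟶ Y) : Prop :=
  ∀ (D : Type u) [CommRing D] [IsDomain D] [IsDiscreteValuationRing D]
    (g : Spec (CommRingCat.of D) ⟶ Y),
    ∃ (D' : Type u) (_ : CommRing D') (_ : IsDomain D') (_ : IsDiscreteValuationRing D')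
      (a : Spec (CommRingCat.of D') ⟶ X) (b : Spec (CommRingCat.of D') ⟶ Spec (CommRingCat.of D)),
      Surjective b ∧ a ≫ f = b ≫ g

theorem asIdeal_eq_bot_of_ne_closedPoint (A : Type u) [CommRing A] [IsDomain A]
    [IsDiscreteValuationRing A] (z : ↥(Spec (CommRingCat.of A)))
    (hz : z ≠ IsLocalRing.closedPoint A) : z.asIdeal = ⊥ := by
  by_contra hne
  have hmax : z.asIdeal.IsMaximal := z.isPrime.isMaximal hne
  apply hz
  apply PrimeSpectrum.ext
  exact IsLocalRing.eq_maximalIdeal hmax

theorem dvrLift_of_univSSubtrusive {X Y : Scheme.{u}} (f : X ⟶ Y) [LocallyOfFiniteType f]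
    (hf : Subtr.UnivSSubtrusive f) : DvrLift f := by
  intro D _ _ _ g
  have hsub : Subtr.IsSSubtrusive (pullback.snd f g) := hf _ _ _ (IsPullback.of_hasPullback f g).flip
  let η : ↥(Spec (CommRingCat.of D)) := ⟨⊥, Ideal.isPrime_bot⟩
  have hηs : η ⤳ IsLocalRing.closedPoint D := IsLocalRing.specializes_closedPoint η
  have hηne : η ≠ IsLocalRing.closedPoint D := by
    intro h
    have h1 : (⊥ : Ideal D) = IsLocalRing.maximalIdeal D := congrArg PrimeSpectrum.asIdeal h
    exact IsDiscreteValuationRing.not_a_field D h1.symm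
  obtain ⟨x, x', hxx', hx, hx'⟩ := hsub hηs
  have hne : x' ≠ x := by
    intro h
    apply hηne
    rw [← hx', ← hx, h]
  haveI : LocallyOfFiniteType (pullback.snd f g) :=
    MorphismProperty.pullback_snd (P := @LocallyOfFiniteType) f g inferInstance
  haveI : IsLocallyNoetherian (pullback f g) :=
    LocallyOfFiniteType.isLocallyNoetherian (pullback.snd f g)
  obtain ⟨R, iR, iD, iV, u, hus, huη⟩ :=
    Groth.Agent.Lib.Helper11.Birat9.exists_dvr_of_specializes hxx' hne
  obtain ⟨t₀⟩ : Nonempty ↥(Spec (CommRingCat.of (FractionRing R))) := inferInstance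
  set ξ := (Spec.map (CommRingCat.ofHom (algebraMap R (FractionRing R)))).base t₀ with hξ
  have huξ : u.base ξ = x' := by
    have := huη t₀
    rwa [Scheme.Hom.comp_apply] at this
  refine ⟨R, iR, iD, iV, u ≫ pullback.fst f g, u ≫ pullback.snd f g, ⟨fun q => ?_⟩, ?_⟩
  · by_cases hq : q = IsLocalRing.closedPoint D
    · refine ⟨IsLocalRing.closedPoint R, ?_⟩
      rw [Scheme.Hom.comp_apply, hus, hx, hq]
    · refine ⟨ξ, ?_⟩
      rw [Scheme.Hom.comp_apply, huξ, hx']
      apply PrimeSpectrum.ext
      rw [asIdeal_eq_bot_of_ne_closedPoint D q hq]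
  · rw [Category.assoc, Category.assoc, pullback.condition]

theorem univSSubtrusive_of_dvrLift {X Y : Scheme.{u}} [IsLocallyNoetherian Y] (f : X ⟶ Y)
    [QuasiCompact f] (H : DvrLift f) : Subtr.UnivSSubtrusive f := by
  apply Groth.Agent.Lib.Helper12.SubtrAff.univSSubtrusive_of_affineSpace
  intro n _
  set p := AffineSpace (ULift.{u} (Fin n)) Y ↘ Y with hp
  haveI : IsLocallyNoetherian (AffineSpace (ULift.{u} (Fin n)) Y) :=
    LocallyOfFiniteType.isLocallyNoetherian p
  -- key sublemma
  have key : ∀ (R : Type u) [CommRing R] [IsDomain R] [IsDiscreteValuationRing R]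
      (u : Spec (CommRingCat.of R) ⟶ AffineSpace (ULift.{u} (Fin n)) Y)
      (q : ↥(Spec (CommRingCat.of R))),
      ∃ x x' : ↥(pullback f p), x' ⤳ x ∧ pullback.snd f p x = u (IsLocalRing.closedPoint R) ∧
        pullback.snd f p x' = u q := by
    intro R _ _ _ u q
    obtain ⟨D', iR', iD', iV', a, b, hb, hab⟩ := H R (u ≫ p)
    let k : Spec (CommRingCat.of D') ⟶ pullback f p :=
      pullback.lift a (b ≫ u) (by rw [hab, Category.assoc])
    have hk : k ≫ pullback.snd f p = b ≫ u := pullback.lift_snd _ _ _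
    have hbξ : b (IsLocalRing.closedPoint D') = IsLocalRing.closedPoint R := by
      obtain ⟨z₀, hz₀⟩ := hb.surj (IsLocalRing.closedPoint R)
      have h1 : b z₀ ⤳ b (IsLocalRing.closedPoint D') :=
        (IsLocalRing.specializes_closedPoint z₀).map b.continuous
      rw [hz₀] at h1
      exact h1.mem_closed (IsLocalRing.isClosed_singleton_closedPoint (R := R))
        (Set.mem_singleton _)
    obtain ⟨z', hz'⟩ := hb.surj q
    refine ⟨k (IsLocalRing.closedPoint D'), k z',
      (IsLocalRing.specializes_closedPoint z').map k.continuous, ?_, ?_⟩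
    · rw [← Scheme.Hom.comp_apply, hk, Scheme.Hom.comp_apply, hbξ]
    · rw [← Scheme.Hom.comp_apply, hk, Scheme.Hom.comp_apply, hz']
  intro w w' hww'
  by_cases hne : w' = w
  · subst hne
    let W := AffineSpace (ULift.{u} (Fin n)) Y
    let u : Spec (CommRingCat.of (PowerSeries (W.residueField w'))) ⟶ W :=
      Spec.map (CommRingCat.ofHom (algebraMap (W.residueField w') (PowerSeries (W.residueField w')))) ≫
        W.fromSpecResidueField w'
    have hu : ∀ q, u q = w' := fun q => by
      show (W.fromSpecResidueField w') _ = w'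
      exact Scheme.fromSpecResidueField_apply w' _
    obtain ⟨x, -, -, hx, -⟩ := key (PowerSeries (W.residueField w')) u
      (IsLocalRing.closedPoint _)
    rw [hu] at hx
    exact ⟨x, x, specializes_rfl, hx, hx⟩
  obtain ⟨R, iR, iD, iV, u, hus, huη⟩ :=
    Groth.Agent.Lib.Helper11.Birat9.exists_dvr_of_specializes hww' hne
  obtain ⟨t₀⟩ : Nonempty ↥(Spec (CommRingCat.of (FractionRing R))) := inferInstance
  set ξ := (Spec.map (CommRingCat.ofHom (algebraMap R (FractionRing R)))).base t₀ with hξ
  have huξ : u.base ξ = w' := by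
    have := huη t₀
    rwa [Scheme.Hom.comp_apply] at this
  obtain ⟨x, x', hxx', hx, hx'⟩ := key R u ξ
  exact ⟨x, x', hxx', hx.trans hus, hx'.trans huξ⟩

end Groth.Agent.Lib.Helper12.SubtrDvr
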