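import Mathlib
import Groth.Agent.Lib.Helper12.TildePullback

set_option autoImplicit false
universe u
open CategoryTheory AlgebraicGeometry Opposite TopologicalSpace

namespace Groth.Agent.Lib.Helper12.TildeProj
open Groth.Agent.Lib.Helper12.TildePullback Scheme.Modules

variable {A B : CommRingCat.{u}} (φ : A ⟶ B)

theorem projective_extendScalars (M : ModuleCat.{u} A) [hM : Module.Projective A M] :
    Module.Projective B ((ModuleCat.extendScalars φ.hom).obj M) := by
  have h1 : Projective M := (IsProjective.iff_projective (R := A) M).mp hM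
  haveI : (ModuleCat.restrictScalars φ.hom).IsLeftAdjoint :=
    (ModuleCat.restrictCoextendScalarsAdj φ.hom).isLeftAdjoint
  have h2 : Projective ((ModuleCat.extendScalars φ.hom).obj M) :=
    (ModuleCat.extendRestrictScalarsAdj φ.hom).map_projective _ h1
  exact (IsProjective.iff_projective (R := B) _).mpr h2

variable [IsOpenImmersion (Spec.map φ)]

noncomputable def isoΓ (M : ModuleCat.{u} A) :
    moduleSpecΓFunctor.obj ((tilde M).restrict (Spec.map φ)) ≅
      (ModuleCat.extendScalars φ.hom).obj M :=
  moduleSpecΓFunctor.mapIso ((restrictFunctorIsoPullback (Spec.map φ)).app (tilde M) ≪≫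
    (tildePullbackIso φ).app M) ≪≫ (tilde.toTildeΓNatIso.app _).symm


theorem projective_sections (M : ModuleCat.{u} A) [Module.Projective A M] :
    Module.Projective ((Spec A).ringCatSheaf.obj.obj (op (Spec.map φ ''ᵁ ⊤)))
      ((tilde M).val.obj (op (Spec.map φ ''ᵁ ⊤))) := by
  haveI := projective_extendScalars φ M
  haveI h1 : Module.Projective B (moduleSpecΓFunctor.obj ((tilde M).restrict (Spec.map φ))) :=
    Module.Projective.of_equiv' (isoΓ φ M).symm.toLinearEquiv
  let e0 : B ≅ Γ(Spec A, Spec.map φ ''ᵁ ⊤) :=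
    (Scheme.ΓSpecIso B).symm ≪≫ ((Spec.map φ).appIso ⊤).symm
  let RV : RingCat := (Spec A).ringCatSheaf.obj.obj (op (Spec.map φ ''ᵁ ⊤))
  let e : B ≃+* RV := e0.commRingCatIsoToRingEquiv
  haveI : RingHomInvPair (e : B →+* RV) (e.symm : RV →+* B) := RingHomInvPair.of_ringEquiv e
  haveI : RingHomInvPair (e.symm : RV →+* B) (e : B →+* RV) := RingHomInvPair.of_ringEquiv e.symm
  let e₂ : (moduleSpecΓFunctor.obj ((tilde M).restrict (Spec.map φ))) ≃ₛₗ[(e : B →+* RV)]
      ((tilde M).val.obj (op (Spec.map φ ''ᵁ ⊤))) :=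
    { toFun := fun s => s
      invFun := fun s => s
      map_add' := fun _ _ => rfl
      map_smul' := fun b s => by
        change b • s = _
        have h := Scheme.Modules.smul_Spec_def (M := (tilde M).restrict (Spec.map φ)) (U := ⊤) b s
        have h2 : ((Spec B).presheaf.map (⊤ : (Spec B).Opens).leTop.op) ((Scheme.ΓSpecIso B).inv b) = (Scheme.ΓSpecIso B).inv b := by
          have : (⊤ : (Spec B).Opens).leTop.op = 𝟙 _ := Subsingleton.elim _ _
          rw [this, CategoryTheory.Functor.map_id]
          rfl
        rw [h2] at h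
        exact h
      left_inv := fun _ => rfl
      right_inv := fun _ => rfl }
  exact Module.Projective.of_equiv e₂


omit [IsOpenImmersion (Spec.map φ)] in
theorem smul_top_eq (N : (Spec A).Modules) (a : A) (s : Γ(N, ⊤)) :
    a • s = ((Scheme.ΓSpecIso A).inv a : Γ(Spec A, ⊤)) • s := by
  have h := Scheme.Modules.smul_Spec_def (M := N) (U := ⊤) a s
  have h2 : ((Spec A).presheaf.map (⊤ : (Spec A).Opens).leTop.op) ((Scheme.ΓSpecIso A).inv a) =
      (Scheme.ΓSpecIso A).inv a := by
    have : (⊤ : (Spec A).Opens).leTop.op = 𝟙 _ := Subsingleton.elim _ _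
    rw [this, CategoryTheory.Functor.map_id]
    rfl
  rw [h2] at h
  exact h

omit [IsOpenImmersion (Spec.map φ)] in
theorem projective_of_sections_top (M : ModuleCat.{u} A)
    (h : Module.Projective ((Spec A).ringCatSheaf.obj.obj (op ⊤)) ((tilde M).val.obj (op ⊤))) :
    Module.Projective A M := by
  let RV : RingCat := (Spec A).ringCatSheaf.obj.obj (op ⊤)
  let e : A ≃+* RV := (Scheme.ΓSpecIso A).symm.commRingCatIsoToRingEquiv
  haveI : RingHomInvPair (e : A →+* RV) (e.symm : RV →+* A) := RingHomInvPair.of_ringEquiv e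
  haveI : RingHomInvPair (e.symm : RV →+* A) (e : A →+* RV) := RingHomInvPair.of_ringEquiv e.symm
  let L : M ≃ₗ[A] (moduleSpecΓFunctor.obj (tilde M)) := (tilde.toTildeΓNatIso.app M).toLinearEquiv
  let e₂ : ((tilde M).val.obj (op ⊤)) ≃ₛₗ[(e.symm : RV →+* A)] M :=
    { toFun := fun s => L.symm s
      invFun := fun m => L m
      map_add' := fun x y => L.symm.map_add x y
      map_smul' := fun r s => by
        have h1 : r • s = (e.symm r : A) • (show Γ(tilde M, ⊤) from s) := by
          rw [smul_top_eq]
          congr 1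
          exact (e.apply_symm_apply r).symm
        change L.symm (r • s) = e.symm r • L.symm s
        rw [h1]
        exact L.symm.map_smul (e.symm r) s
      left_inv := fun s => L.apply_symm_apply s
      right_inv := fun m => L.symm_apply_apply m }
  exact Module.Projective.of_equiv e₂

end Groth.Agent.Lib.Helper12.TildeProj
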