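import Mathlib
import Groth.Agent.Lib.Helper12.IrrDVRc
import Groth.Agent.Lib.Helper12.RedDVRCore
import Groth.Agent.Lib.Helper12.GeomCountPt
import Groth.Agent.Lib.Helper12.GeomCompLevel
import Groth.Agent.S1334

set_option autoImplicit false
set_option linter.style.haveILetI false
universe u
open TensorProduct Topology AlgebraicGeometry CategoryTheory Limits

/-!
# The number of geometric irreducible components of the fibres of a proper flat scheme over a
DVR with geometrically reduced closed fibre does not drop under specialization (helper12)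
-/

namespace Groth.Agent.Lib.Helper12.USCIrrDVR

open Groth.Agent.Lib.Helper12.GeomIrrBasic Groth.Agent.Lib.Helper12.GeomRedGen
  Groth.Agent.Lib.Helper12.GeomIrrPt Groth.Agent.Lib.Helper12.IrrDVR
  Groth.Agent.Lib.Helper12.IrrCount Groth.Agent.Lib.Helper11.CountComp
  Groth.Agent.Lib.Helper11.FBaseLib Groth.Agent.Lib.Helper11.FBaseLib2
  Groth.Agent.Lib.Helper11.BcLevels

theorem finite_irreducibleComponents_of_field {K : Type u} [Field K] {Z : Scheme.{u}}
    (h : Z ⟶ Spec (CommRingCat.of K)) [LocallyOfFiniteType h] [QuasiCompact h] :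
    (irreducibleComponents ↥Z).Finite := by
  haveI : IsNoetherian Z :=
    Groth.Agent.Lib.Helper14.SmoothInsepSch.isNoetherian_of_lft_qc K h
  exact TopologicalSpace.NoetherianSpace.finite_irreducibleComponents

theorem aux {k F : Type u} [Field k] [Field F] {Z : Scheme.{u}}
    (h : Z ⟶ Spec (CommRingCat.of k)) [LocallyOfFiniteType h] [QuasiCompact h]
    (a : Spec (CommRingCat.of F) ⟶ Spec (CommRingCat.of k)) :
    (irreducibleComponents ↥Z).encard ≤ (irreducibleComponents ↥(pullback h a)).encard := by
  haveI : Surjective a := ⟨fun x => ⟨Classical.arbitrary _, Subsingleton.elim _ _⟩⟩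
  haveI : Surjective (pullback.fst h a) :=
    MorphismProperty.pullback_fst (P := @Surjective) _ _ inferInstance
  haveI : LocallyOfFiniteType (pullback.snd h a) :=
    MorphismProperty.pullback_snd (P := @LocallyOfFiniteType) _ _ inferInstance
  haveI : QuasiCompact (pullback.snd h a) :=
    MorphismProperty.pullback_snd (P := @QuasiCompact) _ _ inferInstance
  exact encard_irr_le_of_surjective _ (pullback.fst h a).continuous
    (pullback.fst h a).surjective (finite_irreducibleComponents_of_field (pullback.snd h a))

set_option backward.isDefEq.respectTransparency false in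
/-- the fibre has at most as many irreducible components as the geometric fibre -/
theorem encard_irr_fiber_le {X Y : Scheme.{u}} (f : X ⟶ Y) [LocallyOfFiniteType f]
    [QuasiCompact f] (y : Y) :
    (irreducibleComponents ↥(f.fiber y)).encard ≤ MoreMor.nGeomIrredComp f y := by
  unfold MoreMor.nGeomIrredComp MoreMor.geomFiber
  haveI : LocallyOfFiniteType (f.fiberToSpecResidueField y) :=
    MorphismProperty.pullback_snd (P := @LocallyOfFiniteType) _ _ inferInstance
  haveI : QuasiCompact (f.fiberToSpecResidueField y) :=
    MorphismProperty.pullback_snd (P := @QuasiCompact) _ _ inferInstance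
  exact aux (f.fiberToSpecResidueField y) _

section dvr
variable {R : Type u} [CommRing R] [IsDomain R] [IsDiscreteValuationRing R]
  {W : Scheme.{u}} (g : W ⟶ Spec (CommRingCat.of R))

set_option backward.isDefEq.respectTransparency false in
set_option maxHeartbeats 1000000 in
/-- **Key step**: for a proper flat scheme over a discrete valuation ring with geometrically reduced
closed fibre, the generic fibre has at most as many geometric irreducible components as the closed
fibre. -/
theorem nGeomIrredComp_generic_le_closed [IsProper g] [Flat g]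
    (hE : (IsLocalRing.closedPoint R : PrimeSpectrum R) ∈ E g) :
    MoreMor.nGeomIrredComp g (⟨⊥, Ideal.isPrime_bot⟩ : PrimeSpectrum R) ≤
      MoreMor.nGeomIrredComp g (IsLocalRing.closedPoint R : PrimeSpectrum R) := by
  let K := FractionRing R
  let hK : Spec (CommRingCat.of K) ⟶ Spec (CommRingCat.of R) :=
    Spec.map (CommRingCat.ofHom (algebraMap R K))
  let gK : pullback g hK ⟶ Spec (CommRingCat.of K) := pullback.snd g hK
  have hKpt : ∀ t : Spec (CommRingCat.of K), hK t = (⟨⊥, Ideal.isPrime_bot⟩ : PrimeSpectrum R) := by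
    intro t
    apply PrimeSpectrum.ext
    show Ideal.comap (algebraMap R K) t.asIdeal = ⊥
    have ht : t.asIdeal = ⊥ := (Ideal.eq_bot_or_top t.asIdeal).resolve_right t.isPrime.ne_top
    rw [ht, ← RingHom.ker_eq_comap_bot,
      (RingHom.injective_iff_ker_eq_bot _).1 (IsFractionRing.injective R K)]
  let Ω := AlgebraicClosure K
  -- Step 1
  have step1 : MoreMor.nGeomIrredComp g (⟨⊥, Ideal.isPrime_bot⟩ : PrimeSpectrum R) =
      (irreducibleComponents ↥(FBase.bc gK Ω)).encard := by
    let e := pullbackLeftPullbackSndIso g hK (Spec.map (CommRingCat.ofHom (algebraMap K Ω)))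
    show _ = (irreducibleComponents ↥(pullback gK
      (Spec.map (CommRingCat.ofHom (algebraMap K Ω))))).encard
    rw [encard_irreducibleComponents_of_homeomorph e.hom.homeomorph]
    refine (Groth.Agent.Lib.Helper12.GeomCountPt.encard_irr_pullback_eq g
      (Spec.map (CommRingCat.ofHom (algebraMap K Ω)) ≫ hK) _ ?_).symm
    exact (Scheme.Hom.comp_apply _ _ _).trans (hKpt _)
  -- Step 2
  obtain ⟨L, hLfin, hsat⟩ :=
    Groth.Agent.Lib.Helper12.GeomCompLevel.exists_level_saturated gK Ω
  haveI : FiniteDimensional K L := hLfin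
  have step2 : (irreducibleComponents ↥(FBase.bc gK Ω)).encard ≤
      (irreducibleComponents ↥(FBase.bc gK ↥L)).encard := by
    haveI : LocallyOfFiniteType (FBase.bcStr gK Ω) :=
      MorphismProperty.pullback_snd (P := @LocallyOfFiniteType) _ _ inferInstance
    haveI : QuasiCompact (FBase.bcStr gK Ω) :=
      MorphismProperty.pullback_snd (P := @QuasiCompact) _ _ inferInstance
    haveI : IsIntegralHom (bcHom gK L.val) := isIntegralHom_bcHom gK L.val
    exact encard_irr_le_of_saturated _ (bcHom gK L.val).continuous (bcHom gK L.val).isClosedMap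
      (bcHom gK L.val).surjective (finite_irreducibleComponents_of_field (FBase.bcStr gK Ω)) hsat
  -- Step 3: the dominating DVR
  letI : Algebra R L := ((algebraMap K L).comp (algebraMap R K)).toAlgebra
  haveI : IsScalarTower R K L := IsScalarTower.of_algebraMap_eq (fun _ => rfl)
  have hfg : (⊤ : IntermediateField K L).FG := IntermediateField.fg_of_noetherian ⊤
  obtain ⟨R', hdvr, hR', hlt⟩ := Groth.Agent.Lib.Helper7.exists_dvr_dominating R K L hfg
    (IsLocalRing.maximalIdeal R) (IsDiscreteValuationRing.not_a_field R)
  haveI : IsDiscreteValuationRing R' := hdvr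
  let ψ : R →+* R' := (algebraMap R L).codRestrict R'.toSubring hR'
  let u : Spec (CommRingCat.of R') ⟶ Spec (CommRingCat.of R) := Spec.map (CommRingCat.ofHom ψ)
  have hu : u (IsLocalRing.closedPoint R' : PrimeSpectrum R') =
      (IsLocalRing.closedPoint R : PrimeSpectrum R) := by
    apply PrimeSpectrum.ext
    show Ideal.comap ψ (IsLocalRing.maximalIdeal R') = IsLocalRing.maximalIdeal R
    apply le_antisymm
    · apply IsLocalRing.le_maximalIdeal
      exact Ideal.comap_ne_top _ (Ideal.IsPrime.ne_top inferInstance)
    · intro a ha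
      show ψ a ∈ IsLocalRing.maximalIdeal R'
      have h1 := hlt a ha
      rw [IsLocalRing.mem_maximalIdeal, mem_nonunits_iff]
      exact (R'.valuation_lt_one_iff ⟨algebraMap R L a, hR' a⟩).mpr h1
  let gR : pullback g u ⟶ Spec (CommRingCat.of R') := pullback.snd g u
  have hclE : (IsLocalRing.closedPoint R' : PrimeSpectrum R') ∈ E gR := by
    refine (mem_E_pullback (IsPullback.of_hasPullback g u) _).mpr ?_
    rw [hu]
    exact hE
  let y' : Spec (CommRingCat.of (IsLocalRing.ResidueField R')) ⟶ Spec (CommRingCat.of R') :=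
    Spec.map (CommRingCat.ofHom (algebraMap R' (IsLocalRing.ResidueField R')))
  have hy' : ∀ t, y' t = (IsLocalRing.closedPoint R' : PrimeSpectrum R') := fun t => by
    have h0 := range_specMap_residueField (R := R') _ rfl
    have h1 : y' t ∈ Set.range y' := ⟨t, rfl⟩
    rw [h0] at h1
    exact h1
  haveI : IsReduced (pullback gR y') :=
    isReduced_pullback_of_mem_E gR y' (fun t => by rw [hy' t]; exact hclE)
  let j : Spec (CommRingCat.of L) ⟶ Spec (CommRingCat.of R') :=
    Spec.map (CommRingCat.ofHom (algebraMap R' L))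
  haveI : IsOpenImmersion j := by
    obtain ⟨ϖ, hϖ⟩ := IsDiscreteValuationRing.exists_irreducible R'
    haveI : IsLocalization.Away ϖ L :=
      Groth.Agent.Lib.Helper1.DVRFib.isLocalization_away_of_dvr R' L ϖ hϖ
    exact IsOpenImmersion.of_isLocalization ϖ
  have hjpt : ∀ t : Spec (CommRingCat.of L), j t = (⟨⊥, Ideal.isPrime_bot⟩ : PrimeSpectrum R') := by
    intro t
    apply PrimeSpectrum.ext
    show Ideal.comap (algebraMap R' L) t.asIdeal = ⊥
    have ht : t.asIdeal = ⊥ := (Ideal.eq_bot_or_top t.asIdeal).resolve_right t.isPrime.ne_top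
    rw [ht, ← RingHom.ker_eq_comap_bot,
      (RingHom.injective_iff_ker_eq_bot _).1 (IsFractionRing.injective R' L)]
  let jK : Spec (CommRingCat.of L) ⟶ Spec (CommRingCat.of K) :=
    Spec.map (CommRingCat.ofHom (algebraMap K L))
  have hcomp : jK ≫ hK = j ≫ u := by
    simp only [jK, hK, j, u, ← Spec.map_comp, ← CommRingCat.ofHom_comp]
    rfl
  have big : IsPullback (pullback.fst gK jK ≫ pullback.fst g hK) (pullback.snd gK jK) g
      (jK ≫ hK) :=
    (IsPullback.of_hasPullback gK jK).paste_horiz (IsPullback.of_hasPullback g hK)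
  rw [hcomp] at big
  have w : (pullback.fst gK jK ≫ pullback.fst g hK) ≫ g = (pullback.snd gK jK ≫ j) ≫ u := by
    have := big.w
    simpa only [Category.assoc] using this
  have sq : IsPullback (pullback.lift _ _ w) (pullback.snd gK jK) gR j := by
    refine IsPullback.of_right ?_ (pullback.lift_snd _ _ _) (IsPullback.of_hasPullback g u)
    rw [pullback.lift_fst]
    exact big
  -- Step 4: the generic fibre of `gR` as an open subspace
  obtain ⟨η', hη'⟩ : ∃ η' : Spec (CommRingCat.of R'),
      η' = (⟨⊥, Ideal.isPrime_bot⟩ : PrimeSpectrum R') := ⟨_, rfl⟩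
  obtain ⟨s', hs'⟩ : ∃ s' : Spec (CommRingCat.of R'),
      s' = (IsLocalRing.closedPoint R' : PrimeSpectrum R') := ⟨_, rfl⟩
  have step3 : (irreducibleComponents ↥(FBase.bc gK ↥L)).encard =
      (irreducibleComponents ↥(gR ⁻¹' {η'})).encard := by
    show (irreducibleComponents ↥(pullback gK jK)).encard = _
    rw [encard_irreducibleComponents_of_homeomorph sq.isoPullback.hom.homeomorph]
    have hrange : Set.range (pullback.fst gR j) = gR ⁻¹' {η'} := by
      rw [Scheme.Pullback.range_fst]
      congr 1
      ext z
      constructor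
      · rintro ⟨t, rfl⟩
        rw [Set.mem_singleton_iff, hη']
        exact hjpt t
      · intro hz
        rw [Set.mem_singleton_iff] at hz
        obtain ⟨t⟩ : Nonempty (Spec (CommRingCat.of L)) := inferInstance
        exact ⟨t, by rw [hz, hη']; exact hjpt t⟩
    rw [← hrange]
    exact encard_irreducibleComponents_of_homeomorph
      ((pullback.fst gR j).isOpenEmbedding.isEmbedding.toHomeomorph)
  have step4 : (irreducibleComponents ↥(gR ⁻¹' {η'})).encard ≤
      (irreducibleComponents ↥(gR ⁻¹' {s'})).encard :=
    Groth.Agent.Lib.Helper12.RedDVRCore.encard_irr_generic_le_closed gR η' s' hη' hs'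
  have step5 : (irreducibleComponents ↥(gR ⁻¹' {s'})).encard ≤
      MoreMor.nGeomIrredComp gR s' := by
    rw [← encard_irreducibleComponents_of_homeomorph (gR.fiberHomeo s')]
    exact encard_irr_fiber_le gR s'
  have step6 : MoreMor.nGeomIrredComp gR s' =
      MoreMor.nGeomIrredComp g (IsLocalRing.closedPoint R : PrimeSpectrum R) := by
    rw [Groth.Agent.S1334.result g gR (pullback.fst g u) u (IsPullback.of_hasPullback g u) s',
      hs', hu]
  rw [step1]
  calc (irreducibleComponents ↥(FBase.bc gK Ω)).encard
      ≤ (irreducibleComponents ↥(FBase.bc gK ↥L)).encard := step2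
    _ = (irreducibleComponents ↥(gR ⁻¹' {η'})).encard := step3
    _ ≤ (irreducibleComponents ↥(gR ⁻¹' {s'})).encard := step4
    _ ≤ MoreMor.nGeomIrredComp gR s' := step5
    _ = _ := step6

end dvr

end Groth.Agent.Lib.Helper12.USCIrrDVR
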