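import Mathlib
import Groth.Agent.Lib.Helper12.USCIrrDVR
import Groth.Agent.Lib.Helper12.DvrCurve
import Groth.Agent.Lib.Helper7.ConstrNoeth
import Groth.Agent.S1338

set_option autoImplicit false
set_option linter.style.haveILetI false
universe u
open Topology AlgebraicGeometry CategoryTheory Limits

/-!
# Upper semicontinuity of the number of geometric irreducible components of the fibres of a
proper flat morphism with geometrically reduced fibres (helper12)
-/

namespace Groth.Agent.Lib.Helper12.USCIrr

open Groth.Agent.Lib.Helper12.GeomRedGen Groth.Agent.Lib.Helper12.USCIrrDVR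

set_option backward.isDefEq.respectTransparency false in
theorem nGeomIrredComp_lt_top {X Y : Scheme.{u}} (f : X ⟶ Y) [LocallyOfFiniteType f]
    [QuasiCompact f] (y : Y) : MoreMor.nGeomIrredComp f y < ⊤ := by
  unfold MoreMor.nGeomIrredComp MoreMor.geomFiber
  haveI : LocallyOfFiniteType (f.fiberToSpecResidueField y) :=
    MorphismProperty.pullback_snd (P := @LocallyOfFiniteType) _ _ inferInstance
  haveI : QuasiCompact (f.fiberToSpecResidueField y) :=
    MorphismProperty.pullback_snd (P := @QuasiCompact) _ _ inferInstance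
  haveI : LocallyOfFiniteType (pullback.snd (f.fiberToSpecResidueField y) (Spec.map
      (CommRingCat.ofHom (algebraMap (Y.residueField y) (SeparableClosure (Y.residueField y)))))) :=
    MorphismProperty.pullback_snd (P := @LocallyOfFiniteType) _ _ inferInstance
  haveI : QuasiCompact (pullback.snd (f.fiberToSpecResidueField y) (Spec.map
      (CommRingCat.ofHom (algebraMap (Y.residueField y) (SeparableClosure (Y.residueField y)))))) :=
    MorphismProperty.pullback_snd (P := @QuasiCompact) _ _ inferInstance
  exact (finite_irreducibleComponents_of_field (pullback.snd (f.fiberToSpecResidueField y) (Spec.map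
      (CommRingCat.ofHom (algebraMap (Y.residueField y)
        (SeparableClosure (Y.residueField y))))))).encard_lt_top

/-- the count in the statement is the geometric count -/
theorem card_eq_toNat {X Y : Scheme.{u}} (f : X ⟶ Y) (y : Y) :
    Nat.card ↥(irreducibleComponents (↥(pullback f
        (Spec.map (CommRingCat.ofHom (algebraMap (Y.residueField y)
          (AlgebraicClosure (Y.residueField y)))) ≫ Y.fromSpecResidueField y)) : Type u)) =
      (MoreMor.nGeomIrredComp f y).toNat := by
  rw [_root_.Nat.card_coe_set_eq, Set.ncard_def]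
  congr 1
  refine Groth.Agent.Lib.Helper12.GeomCountPt.encard_irr_pullback_eq f _ y ?_
  refine (Scheme.Hom.comp_apply _ _ _).trans ?_
  exact Scheme.fromSpecResidueField_apply y _

/-- specialization: the geometric number of irreducible components does not drop -/
theorem nGeomIrredComp_le_of_specializes {X Y : Scheme.{u}} [IsLocallyNoetherian Y] (f : X ⟶ Y)
    [Flat f] [IsProper f] (hE : ∀ y : Y, y ∈ E f) (y y' : Y) (h : y' ⤳ y) :
    MoreMor.nGeomIrredComp f y' ≤ MoreMor.nGeomIrredComp f y := by
  by_cases hne : y' = y
  · rw [hne]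
  obtain ⟨R, _, _, _, γ, hγ1, hγ2⟩ :=
    Groth.Agent.Lib.Helper12.DvrCurve.exists_dvr_scheme y y' h hne
  let g : pullback f γ ⟶ Spec (CommRingCat.of R) := pullback.snd f γ
  have hc : IsPullback (pullback.fst f γ) g f γ := IsPullback.of_hasPullback f γ
  have hEg : (IsLocalRing.closedPoint R : PrimeSpectrum R) ∈ E g := by
    refine (mem_E_pullback hc _).mpr ?_
    exact hE _
  have key := nGeomIrredComp_generic_le_closed g hEg
  rw [Groth.Agent.S1334.result f g (pullback.fst f γ) γ hc _,
    Groth.Agent.S1334.result f g (pullback.fst f γ) γ hc _, hγ1, hγ2] at key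
  exact key

theorem main (k : Type u) [Field k]
    (X Y : Scheme.{u}) [X.Over (Spec (CommRingCat.of k))] [Y.Over (Spec (CommRingCat.of k))]
    [LocallyOfFiniteType (X ↘ Spec (CommRingCat.of k))] [CompactSpace ↥X]
    [LocallyOfFiniteType (Y ↘ Spec (CommRingCat.of k))] [CompactSpace ↥Y]
    (f : X ⟶ Y) (hf : f ≫ (Y ↘ Spec (CommRingCat.of k)) = X ↘ Spec (CommRingCat.of k))
    [Flat f] [IsProper f]
    (hred : ∀ y : ↥Y, IsClosed ({y} : Set ↥Y) → GeometricallyReduced (f.fiberToSpecResidueField y)) :
    UpperSemicontinuous (fun y : ↥Y =>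
      Nat.card ↥(irreducibleComponents (↥(pullback f
        (Spec.map (CommRingCat.ofHom (algebraMap (Y.residueField y) (AlgebraicClosure (Y.residueField y)))) ≫
          Y.fromSpecResidueField y)) : Type u))) := by
  haveI : IsLocallyNoetherian Y :=
    LocallyOfFiniteType.isLocallyNoetherian (Y ↘ Spec (CommRingCat.of k))
  haveI : IsNoetherian Y := { }
  haveI : JacobsonSpace Y := LocallyOfFiniteType.jacobsonSpace (Y ↘ Spec (CommRingCat.of k))
  -- all fibres are geometrically reduced
  have hE : ∀ y : Y, y ∈ E f := by
    have hopen : IsOpen (E f) := Groth.Agent.Lib.Helper12.GeomRedOpen.isOpen_E f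
    have hcl : IsClosed (E f)ᶜ := hopen.isClosed_compl
    have h1 : (E f)ᶜ ∩ closedPoints Y = ∅ := by
      rw [Set.eq_empty_iff_forall_notMem]
      rintro y ⟨hy1, hy2⟩
      exact hy1 (hred y hy2)
    have h2 := JacobsonSpace.closure_inter_closedPoints hcl
    rw [h1, closure_empty] at h2
    intro y
    by_contra hy
    have : y ∈ (E f)ᶜ := hy
    rw [← h2] at this
    exact this
  have hfun : (fun y : ↥Y =>
      Nat.card ↥(irreducibleComponents (↥(pullback f
        (Spec.map (CommRingCat.ofHom (algebraMap (Y.residueField y) (AlgebraicClosure (Y.residueField y)))) ≫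
          Y.fromSpecResidueField y)) : Type u))) = fun y => (MoreMor.nGeomIrredComp f y).toNat := by
    funext y
    exact card_eq_toNat f y
  rw [hfun]
  have hlt : ∀ y : Y, MoreMor.nGeomIrredComp f y ≠ ⊤ := fun y => (nGeomIrredComp_lt_top f y).ne
  have hlevel : ∀ t : ℕ, IsConstructible ((fun y => (MoreMor.nGeomIrredComp f y).toNat) ⁻¹' {t}) := by
    intro t
    have h1 : (fun y => (MoreMor.nGeomIrredComp f y).toNat) ⁻¹' {t} =
        {y : Y | MoreMor.nGeomIrredComp f y = (t : ℕ∞)} := by
      ext y
      simp only [Set.mem_preimage, Set.mem_singleton_iff, Set.mem_setOf_eq]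
      constructor
      · intro h
        rw [← h, ENat.coe_toNat (hlt y)]
      · intro h
        rw [h, ENat.toNat_coe]
    rw [h1]
    exact (Groth.Agent.S1338.result f (t : ℕ∞)).isConstructible
  have hfin := Groth.Agent.Lib.Helper7.ConstrNoeth.constructible_function_of_fibres_of_quasiSober
    (fun y : Y => (MoreMor.nGeomIrredComp f y).toNat) hlevel
  rw [Groth.Agent.Lib.Helper7.ConstrNoeth.upperSemicontinuous_iff_antitone_specialization _
    ⟨hlevel, hfin⟩]
  intro y y' h
  exact ENat.toNat_le_toNat (nGeomIrredComp_le_of_specializes f hE y y' h) (hlt y)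

end Groth.Agent.Lib.Helper12.USCIrr
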