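import Mathlib
import Groth.Prelude.Def_Found
import Groth.Prelude.Def_EGA4b
import Groth.Agent.Lib.Helper12.RefVal10
import Groth.Agent.Lib.Helper8.NagataExc

/-!
# Helper library (helper12): over an excellent base, the valuative criteria over discrete valuation
rings only need the rings essentially of finite type over the base (S14120, S14121)

Corollaries of the refined valuative criteria over a Nagata base (`RefVal`).
-/

set_option autoImplicit false
set_option linter.style.haveILetI false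
universe u
open CategoryTheory CategoryTheory.Limits AlgebraicGeometry TopologicalSpace IsLocalRing Topology

namespace Groth.Agent.Lib.Helper12.ValCritEFT

open Groth.Agent.Lib.Helper12 Groth.Agent.Lib.Helper12.RefVal

/-- A normal Noetherian local domain of dimension one is a discrete valuation ring. -/
theorem dvr_of_normal_dim_one (A : Type*) [CommRing A] [IsDomain A] [IsLocalRing A]
    [IsNoetherianRing A] [IsIntegrallyClosed A] (hdim : ringKrullDim A = 1) :
    IsDiscreteValuationRing A := by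
  haveI : ValuationRing A := valuationRing_of_normal_dim_one A hdim
  haveI : IsPrincipalIdealRing A :=
    ((tfae_of_isNoetherianRing_of_isLocalRing_of_isDomain A).out 1 0).1 ‹ValuationRing A›
  refine { not_a_field' := ?_ }
  intro h
  have hf : IsField A := IsLocalRing.isField_iff_maximalIdeal_eq.2 h
  have h0 := ringKrullDim_eq_zero_of_isField hf
  rw [hdim] at h0
  exact one_ne_zero h0

/-- Local rings of a scheme locally of finite type over `S` are essentially of finite type over
an affine open of `S`. -/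
theorem exists_essFiniteType {S C : Scheme.{u}} (r : C ⟶ S) [LocallyOfFiniteType r] (c : C) :
    ∃ (U : S.affineOpens) (φ : Γ(S, U.1) ⟶ C.presheaf.stalk c),
      Spec.map φ ≫ U.2.fromSpec = C.fromSpecStalk c ≫ r ∧ φ.hom.EssFiniteType := by
  obtain ⟨_, ⟨U, hU : IsAffineOpen U, rfl⟩, hcU, -⟩ :=
    S.isBasis_affineOpens.exists_subset_of_mem_open (Set.mem_univ (r c)) isOpen_univ
  obtain ⟨_, ⟨W, hW : IsAffineOpen W, rfl⟩, hcW, hWU⟩ :=
    C.isBasis_affineOpens.exists_subset_of_mem_open (show c ∈ (r ⁻¹ᵁ U : Set C) from hcU)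
      (r ⁻¹ᵁ U).isOpen
  refine ⟨⟨U, hU⟩, r.appLE U W hWU ≫ C.presheaf.germ W c hcW, ?_, ?_⟩
  · rw [Spec.map_comp, Category.assoc, IsAffineOpen.SpecMap_appLE_fromSpec r hU hW hWU,
      ← Category.assoc]
    congr 1
    exact hW.fromSpecStalk_eq_fromSpecStalk hcW
  · rw [CommRingCat.hom_comp]
    refine RingHom.EssFiniteType.comp
      (LocallyOfFiniteType.finiteType_appLE r hU hW hWU).essFiniteType ?_
    letI : Algebra Γ(C, W) (C.presheaf.stalk c) :=
      TopCat.Presheaf.algebra_section_stalk C.presheaf ⟨c, hcW⟩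
    haveI := hW.isLocalization_stalk ⟨c, hcW⟩
    have h : (algebraMap Γ(C, W) (C.presheaf.stalk c)).EssFiniteType := by
      rw [RingHom.essFiniteType_algebraMap]
      exact Algebra.EssFiniteType.of_isLocalization _
        (hW.primeIdealOf ⟨c, hcW⟩).asIdeal.primeCompl
    exact h

section

variable (S : Scheme.{u}) [IsLocallyNoetherian S] {X Y : Scheme.{u}} (f : X ⟶ Y) (g : Y ⟶ S)

/-- The valuative square of a curve datum. -/
theorem exists_sq {C : Scheme.{u}} (r : C ⟶ S) [IsIntegral C] [LocallyOfFiniteType r]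
    (hnorm : ∀ x : C, IsIntegrallyClosed (C.presheaf.stalk x))
    (c : C) (hdim : ringKrullDim (C.presheaf.stalk c) = 1)
    (U : C.Opens) (u : (U : Scheme.{u}) ⟶ X) (g' : C ⟶ Y) (hg' : g' ≫ g = r)
    (hu : u ≫ f = U.ι ≫ g')
    (k : Spec (CommRingCat.of (FractionRing (C.presheaf.stalk c))) ⟶ (U : Scheme.{u}))
    (hk : k ≫ U.ι = Spec.map (CommRingCat.ofHom (algebraMap (C.presheaf.stalk c)
      (FractionRing (C.presheaf.stalk c)))) ≫ C.fromSpecStalk c) :
    ∃ sq : ValuativeCommSq f, IsDiscreteValuationRing sq.R ∧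
      (∃ (V : S.affineOpens) (φ : Γ(S, V.1) ⟶ CommRingCat.of sq.R),
        Spec.map φ ≫ V.2.fromSpec = sq.i₂ ≫ g ∧ φ.hom.EssFiniteType) ∧
      (sq.commSq.HasLift → ∃ l : Spec (C.presheaf.stalk c) ⟶ X,
        l ≫ f = C.fromSpecStalk c ≫ g' ∧
        Spec.map (CommRingCat.ofHom (algebraMap (C.presheaf.stalk c)
          (FractionRing (C.presheaf.stalk c)))) ≫ l = k ≫ u) ∧
      (Subsingleton sq.commSq.LiftStruct → ∀ l l' : Spec (C.presheaf.stalk c) ⟶ X,
        l ≫ f = C.fromSpecStalk c ≫ g' →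
        Spec.map (CommRingCat.ofHom (algebraMap (C.presheaf.stalk c)
          (FractionRing (C.presheaf.stalk c)))) ≫ l = k ≫ u →
        l' ≫ f = C.fromSpecStalk c ≫ g' →
        Spec.map (CommRingCat.ofHom (algebraMap (C.presheaf.stalk c)
          (FractionRing (C.presheaf.stalk c)))) ≫ l' = k ≫ u → l = l') := by
  haveI : IsLocallyNoetherian C := LocallyOfFiniteType.isLocallyNoetherian r
  haveI : IsIntegrallyClosed (C.presheaf.stalk c) := hnorm c
  haveI : ValuationRing (C.presheaf.stalk c) := valuationRing_of_normal_dim_one _ hdim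
  haveI hdom : IsDomain (C.presheaf.stalk c) := inferInstance
  have hsq : CommSq (k ≫ u) (Spec.map (CommRingCat.ofHom (algebraMap (C.presheaf.stalk c)
      (FractionRing (C.presheaf.stalk c))))) f (C.fromSpecStalk c ≫ g') := ⟨by
    rw [Category.assoc, hu]
    have h := congrArg (fun m => m ≫ g') hk
    simp only [Category.assoc] at h
    exact h⟩
  obtain ⟨V, φ, hφ, hφ'⟩ := exists_essFiniteType r c
  refine ⟨@ValuativeCommSq.mk X Y f (C.presheaf.stalk c)
      _ hdom _ (FractionRing (C.presheaf.stalk c)) _ _ _ (k ≫ u) (C.fromSpecStalk c ≫ g') hsq,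
    dvr_of_normal_dim_one _ hdim, ⟨V, φ, ?_, hφ'⟩, ?_, ?_⟩
  · rw [hφ]
    change _ = (C.fromSpecStalk c ≫ g') ≫ g
    rw [Category.assoc, hg']
  · rintro ⟨⟨l, h1, h2⟩⟩
    exact ⟨l, h2, h1⟩
  · intro hsub l l' h1 h2 h3 h4
    have := hsub.elim ⟨l, h2, h1⟩ ⟨l', h4, h3⟩
    exact congrArg CommSq.LiftStruct.l this

end

/-- S14120 -/
theorem dvrExistence_iff (S : Scheme.{u})
    (hS : ∀ U : S.affineOpens, EGA4.IsExcellent Γ(S, U.1))
    {X Y : Scheme.{u}} (f : X ⟶ Y) (g : Y ⟶ S)
    [QuasiCompact f] [LocallyOfFiniteType f] [LocallyOfFiniteType g] :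
    (∀ sq : ValuativeCommSq f, IsDiscreteValuationRing sq.R → sq.commSq.HasLift) ↔
    (∀ sq : ValuativeCommSq f, IsDiscreteValuationRing sq.R →
      (∃ (U : S.affineOpens) (φ : Γ(S, U.1) ⟶ CommRingCat.of sq.R),
        Spec.map φ ≫ U.2.fromSpec = sq.i₂ ≫ g ∧ φ.hom.EssFiniteType) →
      sq.commSq.HasLift) := by
  constructor
  · intro H sq hdvr _
    exact H sq hdvr
  · intro H
    have hS' : ∀ W : S.affineOpens, CAlg.IsNagata Γ(S, W) := fun W =>
      Groth.Agent.Lib.Helper8.NagataExc.isNagata_of_isExcellent _ (hS W)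
    haveI : IsLocallyNoetherian S := ⟨fun W => (hS W).1⟩
    have hcl : CurveLift g f := by
      intro C r _ _ _ hnorm c hc hdim U hU u g' hg' hu k hk
      obtain ⟨sq, hdvr, hw, hl, -⟩ := exists_sq S f g r hnorm c hdim U u g' hg' hu k hk
      exact hl (H sq hdvr hw)
    have huc : UniversallyClosed f := (universallyClosed_iff S hS' (f ≫ g) g f rfl).2 hcl
    have h2 : (ValuativeCriterion.Existence ⊓ @QuasiCompact) f := by
      rw [← UniversallyClosed.eq_valuativeCriterion]
      exact huc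
    intro sq _
    exact h2.1 sq

/-- S14121 -/
theorem dvrUniqueness_iff (S : Scheme.{u})
    (hS : ∀ U : S.affineOpens, EGA4.IsExcellent Γ(S, U.1))
    {X Y : Scheme.{u}} (f : X ⟶ Y) (g : Y ⟶ S)
    [QuasiCompact f] [LocallyOfFiniteType f] [LocallyOfFiniteType g] :
    (∀ sq : ValuativeCommSq f, IsDiscreteValuationRing sq.R → Subsingleton sq.commSq.LiftStruct) ↔
    (∀ sq : ValuativeCommSq f, IsDiscreteValuationRing sq.R →
      (∃ (U : S.affineOpens) (φ : Γ(S, U.1) ⟶ CommRingCat.of sq.R),
        Spec.map φ ≫ U.2.fromSpec = sq.i₂ ≫ g ∧ φ.hom.EssFiniteType) →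
      Subsingleton sq.commSq.LiftStruct) := by
  constructor
  · intro H sq hdvr _
    exact H sq hdvr
  · intro H
    have hS' : ∀ W : S.affineOpens, CAlg.IsNagata Γ(S, W) := fun W =>
      Groth.Agent.Lib.Helper8.NagataExc.isNagata_of_isExcellent _ (hS W)
    haveI : IsLocallyNoetherian S := ⟨fun W => (hS W).1⟩
    have hcu : CurveUnique g f := by
      intro C r _ _ _ hnorm c hc hdim U hU u g' hg' hu k hk
      obtain ⟨sq, hdvr, hw, -, hl⟩ := exists_sq S f g r hnorm c hdim U u g' hg' hu k hk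
      exact hl (H sq hdvr hw)
    haveI : IsSeparated f := (isSeparated_iff S hS' (f ≫ g) g f rfl).2 hcu
    intro sq _
    exact IsSeparated.valuativeCriterion f sq

end Groth.Agent.Lib.Helper12.ValCritEFT
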