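import Mathlib
import Groth.Agent.Lib.Helper12.ValDim4
import Groth.Agent.Lib.Helper12.DimFunRing

/-!
# Helper library (helper12): the dimension function on the spectrum of an algebra of finite type
over a Prüfer domain of finite dimension
-/

set_option autoImplicit false
universe u v
open Polynomial Cardinal TensorProduct

namespace Groth.Agent.Lib.Helper12.ValDim

section Height

variable {R : Type u} [CommRing R]

/-- If the primes below `q` are totally ordered, a prime covered by `q` has height one less. -/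
theorem height_eq_add_one_of_covBy (p q : Ideal R) [p.IsPrime] [q.IsPrime] (hq : LocDvd q)
    (hlt : p < q) (hcov : ∀ r : Ideal R, r.IsPrime → p < r → ¬ r < q) :
    q.height = p.height + 1 := by
  apply le_antisymm
  · have e1 : q.height = Order.height (⟨q, inferInstance⟩ : PrimeSpectrum R) :=
      PrimeSpectrum.height_eq_orderHeight ⟨q, inferInstance⟩
    have e2 : p.height = Order.height (⟨p, inferInstance⟩ : PrimeSpectrum R) :=
      PrimeSpectrum.height_eq_orderHeight ⟨p, inferInstance⟩
    rw [e1, e2, Order.height_eq_iSup_lt_height]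
    refine iSup₂_le fun y hy => ?_
    gcongr
    show y.asIdeal ≤ p
    have hyq : y.asIdeal < q := hy
    haveI := y.2
    rcases hq.le_total y.asIdeal p hyq.le hlt.le with h | h
    · exact h
    · rcases eq_or_lt_of_le h with h' | h'
      · exact h'.ge
      · exact absurd hyq (hcov y.asIdeal y.2 h')
  · exact Ideal.height_add_one_le_of_lt_of_isPrime hlt

end Height

section Bounds

variable {R : Type u} [CommRing R] {S : Type u} [CommRing S] [Algebra R S]

/-- The residue transcendence degrees of an algebra of finite type are uniformly bounded. -/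
theorem exists_trdeg_under_le [Algebra.FiniteType R S] :
    ∃ N : ℕ, ∀ (P : Ideal S) [P.IsPrime], Algebra.trdeg (R ⧸ P.under R) (S ⧸ P) ≤ N := by
  obtain ⟨s, hs⟩ := (Algebra.FiniteType.out : (⊤ : Subalgebra R S).FG)
  refine ⟨s.card, fun P _ => ?_⟩
  let s' : Set (S ⧸ P) := (Ideal.Quotient.mk P) '' (s : Set S)
  have h1 : Algebra.adjoin R s' = ⊤ := by
    have h := AlgHom.map_adjoin (Ideal.Quotient.mkₐ R P) (s : Set S)
    rw [hs, Algebra.map_top, (AlgHom.range_eq_top _).mpr
      (Ideal.Quotient.mkₐ_surjective R P)] at h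
    exact h.symm
  have h2 : ∀ y : S ⧸ P, y ∈ Algebra.adjoin (R ⧸ P.under R) s' := by
    intro y
    have hy : y ∈ Algebra.adjoin R s' := by rw [h1]; trivial
    exact (Algebra.adjoin_le (S := (Algebra.adjoin (R ⧸ P.under R) s').restrictScalars R)
      Algebra.subset_adjoin) hy
  haveI : Algebra.IsAlgebraic (Algebra.adjoin (R ⧸ P.under R) s') (S ⧸ P) :=
    ⟨fun y => isAlgebraic_algebraMap (⟨y, h2 y⟩ : Algebra.adjoin (R ⧸ P.under R) s')⟩
  have h3 := Algebra.IsAlgebraic.trdeg_le_cardinalMk (R ⧸ P.under R) s'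
  refine h3.trans ?_
  calc Cardinal.mk s' ≤ Cardinal.mk (s : Set S) := Cardinal.mk_image_le
    _ = s.card := by simp

end Bounds

section Main

variable {R : Type u} [CommRing R] [IsDomain R]

theorem locDvd_of_pruefer
    (hR : ∀ (p : Ideal R) [p.IsPrime], ValuationRing (Localization.AtPrime p))
    (q : Ideal R) [q.IsPrime] : LocDvd q :=
  haveI := hR q
  locDvd_of_isLocalization q (Localization.AtPrime q)

theorem height_ne_top_of_dim (hdim : ringKrullDim R < ⊤) (p : Ideal R) [p.IsPrime] :
    p.height ≠ ⊤ := by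
  intro h
  have h1 := Ideal.height_le_ringKrullDim_of_isPrime (I := p)
  rw [h] at h1
  exact absurd hdim (not_lt.mpr h1)

variable {S : Type u} [CommRing S] [Algebra R S] [Algebra.FiniteType R S]

/-- The dimension function `δ(P) = trdeg(S/P over R/p) − ht p`. -/
noncomputable def delta (R : Type u) [CommRing R] {S : Type u} [CommRing S] [Algebra R S]
    (P : Ideal S) : ℤ :=
  (Cardinal.toNat (Algebra.trdeg (R ⧸ P.under R) (S ⧸ P)) : ℤ) - ((P.under R).height.toNat : ℤ)

theorem delta_lt
    (hR : ∀ (p : Ideal R) [p.IsPrime], ValuationRing (Localization.AtPrime p))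
    (hdim : ringKrullDim R < ⊤) (P Q : Ideal S) [P.IsPrime] [Q.IsPrime] (hPQ : P < Q) :
    delta R Q < delta R P := by
  unfold delta
  have hpq : P.under R ≤ Q.under R := Ideal.comap_mono hPQ.le
  rcases eq_or_lt_of_le hpq with h | h
  · have h1 := toNat_trdeg_lt_of_under_eq P Q hPQ h
    have hh : (Q.under R).height = (P.under R).height := by rw [h]
    rw [hh]
    omega
  · have h1 := trdeg_quotient_le_of_le P Q hPQ.le (locDvd_of_pruefer hR (Q.under R))
    obtain ⟨a, ha⟩ := exists_trdeg_under_eq (R := R) P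
    obtain ⟨b, hb⟩ := exists_trdeg_under_eq (R := R) Q
    rw [ha, hb] at h1
    have h1' : b ≤ a := by exact_mod_cast h1
    rw [ha, hb, Cardinal.toNat_natCast, Cardinal.toNat_natCast]
    have h2 := Ideal.height_add_one_le_of_lt_of_isPrime h
    have hp := height_ne_top_of_dim hdim (P.under R)
    have hq := height_ne_top_of_dim hdim (Q.under R)
    obtain ⟨m, hm⟩ := ENat.ne_top_iff_exists.mp hp
    obtain ⟨k, hk⟩ := ENat.ne_top_iff_exists.mp hq
    rw [← hm, ← hk] at h2 ⊢
    have h2' : m + 1 ≤ k := by exact_mod_cast h2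
    simp only [ENat.toNat_coe]
    omega

theorem delta_eq_add_one_of_covBy
    (hR : ∀ (p : Ideal R) [p.IsPrime], ValuationRing (Localization.AtPrime p))
    (hdim : ringKrullDim R < ⊤) (P Q : Ideal S) [P.IsPrime] [Q.IsPrime]
    (hPQ : (⟨P, inferInstance⟩ : PrimeSpectrum S) ⋖ ⟨Q, inferInstance⟩) :
    delta R P = delta R Q + 1 := by
  unfold delta
  have hlt : P < Q := hPQ.lt
  have hpq : P.under R ≤ Q.under R := Ideal.comap_mono hlt.le
  rcases eq_or_lt_of_le hpq with h | h
  · have h1 := toNat_trdeg_eq_add_one_of_under_eq P Q hPQ h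
    have hh : (Q.under R).height = (P.under R).height := by rw [h]
    rw [hh]
    omega
  · -- the images form a cover
    have hcov : ∀ r : Ideal R, r.IsPrime → P.under R < r → ¬ r < Q.under R := by
      intro r hr h1 h2
      haveI := hr
      obtain ⟨P', hP', hPP', hP'Q, hun⟩ := exists_between_under_eq hR P Q hlt.le r h1.le h2.le
      have hne1 : P ≠ P' := by
        rintro rfl
        exact h1.ne hun
      have hne2 : P' ≠ Q := by
        rintro rfl
        exact h2.ne hun.symm
      exact hPQ.2 (c := ⟨P', hP'⟩) (show P < P' from lt_of_le_of_ne hPP' hne1)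
        (show P' < Q from lt_of_le_of_ne hP'Q hne2)
    have hht := height_eq_add_one_of_covBy (P.under R) (Q.under R)
      (locDvd_of_pruefer hR (Q.under R)) h hcov
    have h1 := trdeg_quotient_le_of_le P Q hlt.le (locDvd_of_pruefer hR (Q.under R))
    have h2 : Algebra.trdeg (R ⧸ P.under R) (S ⧸ P) ≤ Algebra.trdeg (R ⧸ Q.under R) (S ⧸ Q) := by
      refine trdeg_quotient_le_of_minimal_over P Q hlt.le ?_
      intro Z hZ hPZ hZQ heq
      rcases eq_or_lt_of_le hPZ with h' | h'
      · subst h'
        exact h.ne heq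
      · exact hPQ.2 (c := ⟨Z, hZ⟩) (show P < Z from h') (show Z < Q from hZQ)
    have h3 := le_antisymm h1 h2
    rw [h3]
    have hp := height_ne_top_of_dim hdim (P.under R)
    obtain ⟨m, hm⟩ := ENat.ne_top_iff_exists.mp hp
    rw [hht, ← hm]
    have : ((m : ℕ∞) + 1).toNat = m + 1 := by
      have : ((m : ℕ∞) + 1) = ((m + 1 : ℕ) : ℕ∞) := by push_cast; rfl
      rw [this, ENat.toNat_coe]
    rw [this, ENat.toNat_coe]
    push_cast
    ring

theorem covBy_iff_delta
    (hR : ∀ (p : Ideal R) [p.IsPrime], ValuationRing (Localization.AtPrime p))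
    (hdim : ringKrullDim R < ⊤) (P Q : Ideal S) [P.IsPrime] [Q.IsPrime] (hPQ : P < Q) :
    (⟨P, inferInstance⟩ : PrimeSpectrum S) ⋖ ⟨Q, inferInstance⟩ ↔ delta R P = delta R Q + 1 := by
  refine ⟨delta_eq_add_one_of_covBy hR hdim P Q, fun h => ⟨hPQ, ?_⟩⟩
  intro c h1 h2
  haveI := c.2
  have h3 := delta_lt hR hdim P c.asIdeal h1
  have h4 := delta_lt hR hdim c.asIdeal Q h2
  omega

theorem exists_delta_bounds (hdim : ringKrullDim R < ⊤) :
    ∃ a b : ℤ, ∀ (P : Ideal S) [P.IsPrime], a ≤ delta R P ∧ delta R P ≤ b := by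
  obtain ⟨N, hN⟩ := exists_trdeg_under_le (R := R) (S := S)
  obtain ⟨d, hd⟩ : ∃ d : ℕ, ringKrullDim R ≤ d := by
    rcases ProductDim.withBot_enat_cases (ringKrullDim R) with h | h | ⟨m, h⟩
    · exact ⟨0, by rw [h]; exact bot_le⟩
    · exact absurd hdim (by rw [h]; exact lt_irrefl _)
    · exact ⟨m, h.le⟩
  refine ⟨-d, N, fun P _ => ?_⟩
  unfold delta
  obtain ⟨a, ha⟩ := exists_trdeg_under_eq (R := R) P
  have h1 := hN P
  rw [ha] at h1
  have h1' : a ≤ N := by exact_mod_cast h1
  rw [ha, Cardinal.toNat_natCast]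
  have h2 := (Ideal.height_le_ringKrullDim_of_isPrime (I := P.under R)).trans hd
  obtain ⟨m, hm⟩ := ENat.ne_top_iff_exists.mp (height_ne_top_of_dim hdim (P.under R))
  rw [← hm] at h2 ⊢
  have h2' : m ≤ d := by exact_mod_cast h2
  simp only [ENat.toNat_coe]
  constructor <;> omega

/-- The dimension function on the prime spectrum. -/
theorem isDimFun_delta
    (hR : ∀ (p : Ideal R) [p.IsPrime], ValuationRing (Localization.AtPrime p))
    (hdim : ringKrullDim R < ⊤) :
    DimFunRing.IsDimFun (fun x : PrimeSpectrum S => delta R x.asIdeal) :=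
  ⟨fun x y h => delta_lt hR hdim x.asIdeal y.asIdeal h,
    fun x y h => delta_eq_add_one_of_covBy hR hdim x.asIdeal y.asIdeal h⟩

end Main

end Groth.Agent.Lib.Helper12.ValDim
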