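import Mathlib
import Groth.Agent.Lib.Helper12.LimRetract
import Groth.Agent.Lib.Helper12.ClosedApprox2
import Groth.Agent.S7382

universe u

open CategoryTheory Limits AlgebraicGeometry TopologicalSpace Opposite

set_option backward.isDefEq.respectTransparency false
set_option linter.style.haveILetI false

namespace Groth.Agent.Lib.Helper12.ZMTfp

open Groth.Agent.Lib.Helper12

/-- A quasi-compact immersion `q : X → T` into a qcqs scheme of finite type over `S`, with `X`
locally of finite presentation over `S`, factors as an open immersion followed by a closed immersion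
of finite presentation. -/
theorem exists_fp_closed_of_immersion {X T S : Scheme.{u}} (q : X ⟶ T) (π : T ⟶ S)
    [CompactSpace T] [QuasiSeparatedSpace T]
    [LocallyOfFiniteType π] [IsImmersion q] [QuasiCompact q]
    [LocallyOfFinitePresentation (q ≫ π)] :
    ∃ (Z : Scheme.{u}) (i : Z ⟶ T) (j : X ⟶ Z), IsClosedImmersion i ∧
      LocallyOfFinitePresentation i ∧ IsOpenImmersion j ∧ j ≫ i = q := by
  haveI : IsOpenImmersion q.toImage := inferInstance
  obtain ⟨A, _, _, _, J, hJ, ⟨hlim⟩, hfp⟩ := ClosedApprox.exists_closed_approx q.imageι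
  let DZ : Aᵒᵖ ⥤ Scheme.{u} := ClosedApprox.subSys J ⋙ Over.forget T
  let cZ : Cone DZ := (Over.forget T).mapCone (ClosedApprox.subCone J q.imageι hJ)
  have hcZ : IsLimit cZ := isLimitOfPreserves (Over.forget T) hlim
  let tZ : DZ ⟶ (Functor.const _).obj S :=
    { app := fun a => ((ClosedApprox.subSys J).obj a).hom ≫ π
      naturality := fun a b m => by
        have := Over.w ((ClosedApprox.subSys J).map m)
        simp only [Functor.const_obj_obj, Functor.const_obj_map, Category.comp_id, DZ,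
          Functor.comp_map, Over.forget_map]
        rw [reassoc_of% this] }
  haveI hci : ∀ {a b : Aᵒᵖ} (m : a ⟶ b), IsClosedImmersion (DZ.map m) := fun {a b} m =>
    inferInstanceAs (IsClosedImmersion ((ClosedApprox.subSys J).map m).left)
  haveI : ∀ {a b : Aᵒᵖ} (m : a ⟶ b), IsAffineHom (DZ.map m) := fun {a b} m => inferInstance
  haveI hci' : ∀ a : Aᵒᵖ, IsClosedImmersion ((ClosedApprox.subSys J).obj a).hom :=
    fun a => inferInstance
  haveI : ∀ a, CompactSpace (DZ.obj a) := fun a =>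
    QuasiCompact.compactSpace_of_compactSpace ((ClosedApprox.subSys J).obj a).hom
  haveI : ∀ a, QuasiSeparatedSpace (DZ.obj a) := fun a =>
    quasiSeparatedSpace_of_quasiSeparated ((ClosedApprox.subSys J).obj a).hom
  haveI : ∀ a, LocallyOfFiniteType (tZ.app a) := fun a => by
    dsimp only [tZ]; infer_instance
  have hmono : ∀ {a b : Aᵒᵖ} (m : a ⟶ b), Mono (DZ.map m) := fun {a b} m => inferInstance
  haveI : CompactSpace X := QuasiCompact.compactSpace_of_compactSpace q
  obtain ⟨a, Va, hVa, hVa'⟩ := exists_preimage_eq DZ cZ hcZ q.toImage.opensRange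
    (by simpa using isCompact_range q.toImage.continuous)
  have hleg : ∀ b : Aᵒᵖ, cZ.π.app b ≫ ((ClosedApprox.subSys J).obj b).hom = q.imageι := fun b =>
    Over.w ((ClosedApprox.subCone J q.imageι hJ).π.app b)
  let iso : X ≅ (cZ.π.app a ⁻¹ᵁ Va).toScheme :=
    IsOpenImmersion.isoOfRangeEq q.toImage (cZ.π.app a ⁻¹ᵁ Va).ι (by rw [hVa']; simp)
  have hiso : iso.hom ≫ (cZ.π.app a ⁻¹ᵁ Va).ι = q.toImage :=
    IsOpenImmersion.isoOfRangeEq_hom_fac _ _ _
  have e1 : (cZ.π.app a ⁻¹ᵁ Va).ι ≫ cZ.π.app a ≫ tZ.app a = iso.inv ≫ q ≫ π := by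
    rw [Iso.eq_inv_comp, reassoc_of% hiso]
    show q.toImage ≫ cZ.π.app a ≫ ((ClosedApprox.subSys J).obj a).hom ≫ π = q ≫ π
    rw [reassoc_of% (hleg a), Scheme.Hom.toImage_imageι_assoc]
  haveI : LocallyOfFinitePresentation ((cZ.π.app a ⁻¹ᵁ Va).ι ≫ cZ.π.app a ≫ tZ.app a) := by
    rw [e1]; infer_instance
  obtain ⟨a₁, m, hm⟩ := LimRetract.exists_isIso_opens DZ tZ cZ hcZ a Va hVa hmono
  refine ⟨DZ.obj a₁, ((ClosedApprox.subSys J).obj a₁).hom,
    iso.hom ≫ (cZ.π.app a₁).resLE (DZ.map m ⁻¹ᵁ Va) (cZ.π.app a ⁻¹ᵁ Va)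
        (by rw [← Scheme.Hom.comp_preimage, cZ.w]) ≫ (DZ.map m ⁻¹ᵁ Va).ι,
    inferInstance, ?_, ?_, ?_⟩
  · exact hfp a₁.unop
  · infer_instance
  · rw [Category.assoc, Category.assoc, Scheme.Hom.resLE_comp_ι_assoc, reassoc_of% hiso, hleg,
      Scheme.Hom.toImage_imageι]

/-- Stage A: a separated quasi-finite morphism of finite presentation over a qcqs base is
a (quasi-compact) immersion into a scheme finite and of finite presentation over the base. -/
theorem exists_finite_fp_immersion {X S : Scheme.{u}} (f : X ⟶ S) [CompactSpace S]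
    [QuasiSeparatedSpace S] [IsSeparated f] [QuasiCompact f] [LocallyQuasiFinite f]
    [LocallyOfFinitePresentation f] :
    ∃ (T₁ : Scheme.{u}) (π₁ : T₁ ⟶ S) (q : X ⟶ T₁), IsFinite π₁ ∧
      LocallyOfFinitePresentation π₁ ∧ IsImmersion q ∧ q ≫ π₁ = f := by
  let j₀ : X ⟶ f.normalization := f.toNormalization
  let ν : f.normalization ⟶ S := f.fromNormalization
  have hfac : j₀ ≫ ν = f := f.toNormalization_fromNormalization
  haveI : IsOpenImmersion j₀ := inferInstanceAs (IsOpenImmersion f.toNormalization)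
  haveI : IsIntegralHom ν := inferInstanceAs (IsIntegralHom f.fromNormalization)
  obtain ⟨I, _, _, _, D, c, hc, hD, ⟨e⟩⟩ := Groth.Agent.S7382.result ν
  let D' : Iᵒᵖ ⥤ Scheme.{u} := D ⋙ Over.forget S
  let c' : Cone D' := (Over.forget S).mapCone c
  have hc' : IsLimit c' := isLimitOfPreserves (Over.forget S) hc
  let t : D' ⟶ (Functor.const _).obj S :=
    { app := fun i => (D.obj i).hom
      naturality := fun i j m => by
        simp only [Functor.const_obj_obj, Functor.const_obj_map, Category.comp_id, D',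
          Functor.comp_map, Over.forget_map, Over.w] }
  haveI : ∀ i, IsFinite (D.obj i).hom := fun i => (hD i).1
  haveI : ∀ i, LocallyOfFinitePresentation (D.obj i).hom := fun i => (hD i).2
  haveI : ∀ {i j : Iᵒᵖ} (m : i ⟶ j), IsAffineHom (D'.map m) := fun {i j} m => by
    haveI : IsAffineHom ((D.map m).left ≫ (D.obj j).hom) := by rw [Over.w]; infer_instance
    exact IsAffineHom.of_comp (D.map m).left (D.obj j).hom
  haveI : ∀ i, CompactSpace (D'.obj i) := fun i =>
    QuasiCompact.compactSpace_of_compactSpace (D.obj i).hom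
  haveI : ∀ i, QuasiSeparatedSpace (D'.obj i) := fun i =>
    quasiSeparatedSpace_of_quasiSeparated (D.obj i).hom
  haveI : CompactSpace X := QuasiCompact.compactSpace_of_compactSpace f
  let h : X ⟶ c'.pt := j₀ ≫ e.inv.left
  haveI : IsOpenImmersion h := inferInstanceAs (IsOpenImmersion (j₀ ≫ e.inv.left))
  have hh : h ≫ c.pt.hom = f := by
    have : e.inv.left ≫ c.pt.hom = ν := Over.w e.inv
    show (j₀ ≫ e.inv.left) ≫ c.pt.hom = f
    rw [Category.assoc, this, hfac]
  obtain ⟨k, V, hV, hV'⟩ := exists_preimage_eq D' c' hc' h.opensRange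
    (by simpa using isCompact_range h.continuous)
  have hleg : ∀ i, c'.π.app i ≫ (D.obj i).hom = c.pt.hom := fun i => Over.w (c.π.app i)
  let iso : X ≅ (c'.π.app k ⁻¹ᵁ V).toScheme :=
    IsOpenImmersion.isoOfRangeEq h (c'.π.app k ⁻¹ᵁ V).ι (by rw [hV']; simp)
  have hiso : iso.hom ≫ (c'.π.app k ⁻¹ᵁ V).ι = h :=
    IsOpenImmersion.isoOfRangeEq_hom_fac _ _ _
  have e1 : (c'.π.app k ⁻¹ᵁ V).ι ≫ c'.π.app k ≫ t.app k = iso.inv ≫ f := by
    rw [Iso.eq_inv_comp, reassoc_of% hiso]
    show h ≫ c'.π.app k ≫ (D.obj k).hom = f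
    rw [hleg, hh]
  haveI : LocallyOfFinitePresentation ((c'.π.app k ⁻¹ᵁ V).ι ≫ c'.π.app k ≫ t.app k) := by
    rw [e1]; infer_instance
  obtain ⟨k₁, m, g, hg1, hg2⟩ := LimRetract.exists_retraction_opens D' t c' hc' k V hV
  haveI : IsSeparated g := by
    haveI : IsSeparated (g ≫ (c'.π.app k ⁻¹ᵁ V).ι ≫ c'.π.app k ≫ t.app k) := by
      rw [hg2]
      show IsSeparated ((D'.map m ⁻¹ᵁ V).ι ≫ (D.obj k₁).hom)
      infer_instance
    exact IsSeparated.of_comp g ((c'.π.app k ⁻¹ᵁ V).ι ≫ c'.π.app k ≫ t.app k)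
  haveI : IsClosedImmersion ((c'.π.app k₁).resLE (D'.map m ⁻¹ᵁ V) (c'.π.app k ⁻¹ᵁ V)
        (by rw [← Scheme.Hom.comp_preimage, c'.w])) := by
    haveI : IsClosedImmersion ((c'.π.app k₁).resLE (D'.map m ⁻¹ᵁ V) (c'.π.app k ⁻¹ᵁ V)
        (by rw [← Scheme.Hom.comp_preimage, c'.w]) ≫ g) := by rw [hg1]; infer_instance
    exact IsClosedImmersion.of_comp _ g
  refine ⟨D'.obj k₁, (D.obj k₁).hom, iso.hom ≫ (c'.π.app k₁).resLE (D'.map m ⁻¹ᵁ V)
    (c'.π.app k ⁻¹ᵁ V) (by rw [← Scheme.Hom.comp_preimage, c'.w]) ≫ (D'.map m ⁻¹ᵁ V).ι,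
    inferInstance, inferInstance, inferInstance, ?_⟩
  rw [Category.assoc, Category.assoc, Scheme.Hom.resLE_comp_ι_assoc, reassoc_of% hiso, hleg, hh]

/-- Zariski's main theorem with finite presentation (Stacks 0F2N-type). -/
theorem exists_factorization {X S : Scheme.{u}} (f : X ⟶ S) [CompactSpace S]
    [QuasiSeparatedSpace S] [IsSeparated f] [QuasiCompact f] [LocallyQuasiFinite f]
    [LocallyOfFinitePresentation f] :
    ∃ (T : Scheme.{u}) (j : X ⟶ T) (π : T ⟶ S), IsOpenImmersion j ∧ QuasiCompact j ∧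
      IsFinite π ∧ LocallyOfFinitePresentation π ∧ j ≫ π = f := by
  obtain ⟨T₁, π₁, q, _, _, _, hq⟩ := exists_finite_fp_immersion f
  haveI : CompactSpace T₁ := QuasiCompact.compactSpace_of_compactSpace π₁
  haveI : QuasiSeparatedSpace T₁ := quasiSeparatedSpace_of_quasiSeparated π₁
  haveI : QuasiCompact (q ≫ π₁) := by rw [hq]; infer_instance
  haveI : QuasiCompact q := QuasiCompact.of_comp q π₁
  haveI : LocallyOfFinitePresentation (q ≫ π₁) := by rw [hq]; infer_instance
  obtain ⟨Z, i, j, _, _, _, hj⟩ := exists_fp_closed_of_immersion q π₁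
  refine ⟨Z, j, i ≫ π₁, inferInstance, ?_, inferInstance, inferInstance, ?_⟩
  · haveI : QuasiCompact (j ≫ i) := by rw [hj]; infer_instance
    exact QuasiCompact.of_comp j i
  · rw [reassoc_of% hj, hq]

end Groth.Agent.Lib.Helper12.ZMTfp
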